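/-
Arithmetic of bit-sliced `9 × 9` matrices over a field with four elements, for certificates about `J₃`.
-/
import Cfsg.Prelude.Def_Spor_J3
import Cfsg.Agent.Janko1.Calc

set_option autoImplicit false

namespace Cfsg.Agent.Janko3

open Cfsg.Agent.Janko1 (allFrom allFrom_zero)
open Cfsg.Spor (F9)

/-- The bits at the multiples of nine. -/
def colMask : ℕ := 4731607904558235517441

/-- A matrix `p + ω q` given by two bit planes. -/
structure M4 where
  /-- The constant plane. -/
  p : ℕ
  /-- The plane of `ω`. -/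
  q : ℕ

/-- The identity. -/
def one4 : M4 := ⟨1 + 2 ^ 10 + 2 ^ 20 + 2 ^ 30 + 2 ^ 40 + 2 ^ 50 + 2 ^ 60 + 2 ^ 70 + 2 ^ 80, 0⟩

/-- Boolean equality. -/
def M4.beq (A B : M4) : Bool := Nat.beq A.p B.p && Nat.beq A.q B.q

theorem M4.eq_of_beq {A B : M4} (h : M4.beq A B = true) : A = B := by
  cases A; cases B
  simp only [M4.beq, Bool.and_eq_true] at h
  rw [Nat.eq_of_beq_eq_true h.1, Nat.eq_of_beq_eq_true h.2]

/-- The `k`-th column of a plane. -/
def colK (a k : ℕ) : ℕ := Nat.land (Nat.shiftRight a k) colMask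

/-- The `k`-th row of a plane. -/
def rowK (a k : ℕ) : ℕ := Nat.land (Nat.shiftRight a k) 511

/-- The constant plane of one term of a product. -/
def termP (A B : M4) (k k9 : ℕ) : ℕ :=
  Nat.xor (Nat.mul (colK A.p k) (rowK B.p k9)) (Nat.mul (colK A.q k) (rowK B.q k9))

/-- The `ω` plane of one term of a product. -/
def termQ (A B : M4) (k k9 : ℕ) : ℕ :=
  Nat.xor (Nat.mul (colK A.p k) (rowK B.q k9))
    (Nat.mul (colK A.q k) (Nat.xor (rowK B.p k9) (rowK B.q k9)))

/-- Product of bit-sliced matrices. -/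
def mulM (A B : M4) : M4 :=
  ⟨Nat.xor (termP A B 0 0) (Nat.xor (termP A B 1 9) (Nat.xor (termP A B 2 18) (Nat.xor (termP A B 3 27)
    (Nat.xor (termP A B 4 36) (Nat.xor (termP A B 5 45) (Nat.xor (termP A B 6 54)
    (Nat.xor (termP A B 7 63) (termP A B 8 72)))))))),
   Nat.xor (termQ A B 0 0) (Nat.xor (termQ A B 1 9) (Nat.xor (termQ A B 2 18) (Nat.xor (termQ A B 3 27)
    (Nat.xor (termQ A B 4 36) (Nat.xor (termQ A B 5 45) (Nat.xor (termQ A B 6 54)
    (Nat.xor (termQ A B 7 63) (termQ A B 8 72))))))))⟩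

/-- Multiplication by `ω`. -/
def mulW (A : M4) : M4 := ⟨A.q, Nat.xor A.p A.q⟩

/-- Multiplication by `ω ^ c`. -/
def scM (c : ℕ) (A : M4) : M4 :=
  match c with
  | 0 => A
  | 1 => mulW A
  | _ => mulW (mulW A)

section
variable (F : Type*) [Field F]

/-- A bit as an element of the field. -/
def bitF (n i : ℕ) : F := if n.testBit i then 1 else 0

variable (ω : F)

/-- An entry of a bit-sliced matrix. -/
def entF (A : M4) (i : ℕ) : F := bitF F A.p i + ω * bitF F A.q i

/-- The matrix of a bit-sliced matrix, indexed by `Fin 9`. -/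
def toMat9 (A : M4) : Matrix (Fin 9) (Fin 9) F := fun i j => entF F ω A (9 * (i : ℕ) + j)

/-- The numbering of the index set. -/
def ixE : F9 ≃ Fin 9 where
  toFun z := ⟨3 * z.1.val + z.2.val, by have := ZMod.val_lt z.1; have := ZMod.val_lt z.2; omega⟩
  invFun i := (((i : ℕ) / 3 : ℕ), ((i : ℕ) % 3 : ℕ))
  left_inv := by decide
  right_inv := by decide

/-- The matrix of a bit-sliced matrix. -/
def toMat (A : M4) : Matrix F9 F9 F := (toMat9 F ω A).submatrix ixE ixE

end

theorem mul_testBit : ∀ (i col row j : ℕ), row < 512 → j < 9 → (∀ m, col / 512 ^ m % 512 < 2) →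
    (col * row).testBit (9 * i + j) = (col.testBit (9 * i) && row.testBit j) := by
  intro i
  induction i with
  | zero =>
    intro col row j hr hj hc
    have h0 := hc 0
    rw [pow_zero, Nat.div_one] at h0
    have hlt : col % 512 * row < 2 ^ 9 := by
      rcases (show col % 512 = 0 ∨ col % 512 = 1 by omega) with h | h <;> rw [h] <;> omega
    have e : col * row = 2 ^ 9 * (col / 512 * row) + col % 512 * row := by
      conv_lhs => rw [← Nat.div_add_mod col 512]
      ring
    rw [Nat.mul_zero, Nat.zero_add, e, Nat.testBit_two_pow_mul_add _ hlt, if_pos hj]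
    have hz : col.testBit 0 = decide (col % 512 = 1) := by
      rw [Nat.testBit_zero]
      congr 1
      exact propext ⟨fun _ => by omega, fun _ => by omega⟩
    rw [hz]
    rcases (show col % 512 = 0 ∨ col % 512 = 1 by omega) with h | h <;> simp [h]
  | succ i ih =>
    intro col row j hr hj hc
    have h0 := hc 0
    rw [pow_zero, Nat.div_one] at h0
    have hlt : col % 512 * row < 2 ^ 9 := by
      rcases (show col % 512 = 0 ∨ col % 512 = 1 by omega) with h | h <;> rw [h] <;> omega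
    have e : col * row = 2 ^ 9 * (col / 512 * row) + col % 512 * row := by
      conv_lhs => rw [← Nat.div_add_mod col 512]
      ring
    have hc' : ∀ m, col / 512 / 512 ^ m % 512 < 2 := by
      intro m
      rw [Nat.div_div_eq_div_mul, ← pow_succ']
      exact hc _
    rw [e, Nat.testBit_two_pow_mul_add _ hlt, if_neg (by omega),
      show 9 * (i + 1) + j - 9 = 9 * i + j by omega, ih _ _ _ hr hj hc',
      show col.testBit (9 * (i + 1)) = (col / 512).testBit (9 * i) by
        rw [show (512 : ℕ) = 2 ^ 9 by norm_num, Nat.testBit_div_two_pow, Nat.mul_succ, Nat.add_comm]]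

theorem colK_digit (a k m : ℕ) : colK a k / 512 ^ m % 512 < 2 := by
  have hm : colMask / 512 ^ m % 512 < 2 := by
    rcases Nat.lt_or_ge m 9 with h | h
    · revert h; revert m; decide
    · rw [Nat.div_eq_of_lt (lt_of_lt_of_le (show colMask < 512 ^ 9 by decide)
        (Nat.pow_le_pow_right (by norm_num) h))]
      norm_num
  have e : colK a k = (a >>> k) &&& colMask := rfl
  rw [e, show (512 : ℕ) ^ m = 2 ^ (9 * m) by rw [pow_mul]; norm_num, Nat.and_div_two_pow,
    show (512 : ℕ) = 2 ^ 9 by norm_num, Nat.and_mod_two_pow]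
  refine lt_of_le_of_lt Nat.and_le_right ?_
  rw [pow_mul]
  exact hm

theorem colK_testBit (a k : ℕ) {i : ℕ} (hi : i < 9) : (colK a k).testBit (9 * i) = a.testBit (9 * i + k) := by
  have h : colMask.testBit (9 * i) = true := by revert hi; revert i; decide
  have e : colK a k = (a >>> k) &&& colMask := rfl
  rw [e, Nat.testBit_and, h, Bool.and_true, Nat.testBit_shiftRight, Nat.add_comm]

theorem rowK_lt (a k : ℕ) : rowK a k < 512 := Nat.lt_succ_of_le (Nat.and_le_right (n := a >>> k))

theorem rowK_testBit (a k : ℕ) {j : ℕ} (hj : j < 9) : (rowK a k).testBit j = a.testBit (k + j) := by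
  have h : (511 : ℕ).testBit j = true := by revert hj; revert j; decide
  have e : rowK a k = (a >>> k) &&& 511 := rfl
  rw [e, Nat.testBit_and, h, Bool.and_true, Nat.testBit_shiftRight]

section
variable {F : Type*} [Field F] [CharP F 2] {ω : F}

theorem bitF_xor (a b i : ℕ) : bitF F (Nat.xor a b) i = bitF F a i + bitF F b i := by
  have e : Nat.xor a b = a ^^^ b := rfl
  rw [e, bitF, bitF, bitF, Nat.testBit_xor]
  cases a.testBit i <;> cases b.testBit i <;> simp [CharTwo.add_self_eq_zero]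

theorem bitF_outer (a c : ℕ) (k i j : Fin 9) :
    bitF F (Nat.mul (colK a k) (rowK c (9 * (k : ℕ)))) (9 * (i : ℕ) + j) =
      bitF F a (9 * (i : ℕ) + k) * bitF F c (9 * (k : ℕ) + j) := by
  have e : Nat.mul (colK a k) (rowK c (9 * (k : ℕ))) = colK a k * rowK c (9 * (k : ℕ)) := rfl
  rw [e, bitF, mul_testBit _ _ _ _ (rowK_lt _ _) j.2 (colK_digit a k), colK_testBit _ _ i.2,
    rowK_testBit _ _ j.2, bitF, bitF]
  cases a.testBit (9 * (i : ℕ) + k) <;> cases c.testBit (9 * (k : ℕ) + j) <;> simp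

theorem bitF_outer_xor (a c d : ℕ) (k i j : Fin 9) :
    bitF F (Nat.mul (colK a k) (Nat.xor (rowK c (9 * (k : ℕ))) (rowK d (9 * (k : ℕ))))) (9 * (i : ℕ) + j) =
      bitF F a (9 * (i : ℕ) + k) * (bitF F c (9 * (k : ℕ) + j) + bitF F d (9 * (k : ℕ) + j)) := by
  have e1 : Nat.xor (rowK c (9 * (k : ℕ))) (rowK d (9 * (k : ℕ))) = rowK (c ^^^ d) (9 * (k : ℕ)) := by
    show (c >>> _ &&& 511) ^^^ (d >>> _ &&& 511) = (c ^^^ d) >>> _ &&& 511
    rw [Nat.shiftRight_xor_distrib, Nat.and_xor_distrib_right]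
  rw [e1, bitF_outer, ← bitF_xor]
  rfl

theorem term_entry (hω : ω ^ 2 + ω + 1 = 0) (A B : M4) (k i j : Fin 9) :
    bitF F (termP A B k (9 * (k : ℕ))) (9 * (i : ℕ) + j) + ω * bitF F (termQ A B k (9 * (k : ℕ))) (9 * (i : ℕ) + j) =
      toMat9 F ω A i k * toMat9 F ω B k j := by
  simp only [termP, termQ, bitF_xor, bitF_outer, bitF_outer_xor, toMat9, entF]
  have hw : ω * ω = ω + 1 := by
    have h2 : (2 : F) = 0 := CharTwo.two_eq_zero
    linear_combination hω - (ω + 1) * h2
  linear_combination (-(bitF F A.q (9 * (i : ℕ) + k) * bitF F B.q (9 * (k : ℕ) + j))) * hw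

theorem toMat9_mulM (hω : ω ^ 2 + ω + 1 = 0) (A B : M4) :
    toMat9 F ω (mulM A B) = toMat9 F ω A * toMat9 F ω B := by
  ext i j
  rw [Matrix.mul_apply, ← Finset.sum_congr rfl (fun k _ => term_entry hω A B k i j), toMat9, entF, mulM]
  simp only [Fin.sum_univ_succ, Fin.sum_univ_zero, bitF_xor, Fin.val_zero, Fin.val_succ]
  ring

theorem toMat_mulM (hω : ω ^ 2 + ω + 1 = 0) (A B : M4) :
    toMat F ω (mulM A B) = toMat F ω A * toMat F ω B := by
  rw [toMat, toMat, toMat, toMat9_mulM hω, Matrix.submatrix_mul_equiv]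

theorem toMat9_mulW (hω : ω ^ 2 + ω + 1 = 0) (A : M4) : toMat9 F ω (mulW A) = ω • toMat9 F ω A := by
  ext i j
  have hw : ω * ω = ω + 1 := by
    have h2 : (2 : F) = 0 := CharTwo.two_eq_zero
    linear_combination hω - (ω + 1) * h2
  simp only [toMat9, entF, mulW, bitF_xor, Matrix.smul_apply, smul_eq_mul]
  linear_combination (-(bitF F A.q (9 * (i : ℕ) + j))) * hw

theorem toMat_scM (hω : ω ^ 2 + ω + 1 = 0) (A : M4) {c : ℕ} (hc : c < 3) :
    toMat F ω (scM c A) = ω ^ c • toMat F ω A := by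
  have h1 : ∀ B, toMat F ω (mulW B) = ω • toMat F ω B := fun B => by
    rw [toMat, toMat, toMat9_mulW hω]; rfl
  interval_cases c
  · rw [pow_zero, one_smul]; rfl
  · rw [pow_one]; exact h1 A
  · rw [sq, mul_smul, ← h1, ← h1]; rfl

end

end Cfsg.Agent.Janko3
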