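/-
Canonical scalar multiples and the transfer from bit-sliced matrices to invertible matrices.
-/
import Cfsg.Agent.Janko3.Calc
import Mathlib.Algebra.CharP.Lemmas
import Mathlib.FieldTheory.Finite.Basic

set_option autoImplicit false

namespace Cfsg.Agent.Janko3

open Cfsg.Spor (F9)

/-- The number `2 ^ 81`. -/
def big : ℕ := 2417851639229258349412352

/-- Decode a matrix. -/
def dec (n : ℕ) : M4 := ⟨n % big, n / big % big⟩

/-- The code of a matrix, ordering the scalar multiples. -/
def key (A : M4) : ℕ := A.p + big * A.q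

/-- The bit planes have at most 81 bits. -/
def Bdd (A : M4) : Prop := A.p < big ∧ A.q < big

theorem big_eq : big = 2 ^ 81 := by norm_num [big]

theorem bdd_dec (n : ℕ) : Bdd (dec n) :=
  ⟨Nat.mod_lt _ (by norm_num [big]), Nat.mod_lt _ (by norm_num [big])⟩

theorem xor_lt {a b : ℕ} (ha : a < big) (hb : b < big) : Nat.xor a b < big := by
  rw [big_eq] at *; exact Nat.xor_lt_two_pow ha hb

theorem prod_lt (a k r : ℕ) (hr : r < 512) : Nat.mul (colK a k) r < big := by
  have h : colK a k ≤ colMask := Nat.and_le_right (n := a >>> k)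
  calc Nat.mul (colK a k) r ≤ colMask * 511 := Nat.mul_le_mul h (by omega)
    _ < big := by norm_num [colMask, big]

theorem rowK_xor_lt (a b k : ℕ) : Nat.xor (rowK a k) (rowK b k) < 512 :=
  Nat.xor_lt_two_pow (n := 9) (rowK_lt a k) (rowK_lt b k)

theorem bdd_mulM (A B : M4) : Bdd (mulM A B) := by
  have hp : ∀ k k9, termP A B k k9 < big := fun k k9 =>
    xor_lt (prod_lt _ _ _ (rowK_lt _ _)) (prod_lt _ _ _ (rowK_lt _ _))
  have hq : ∀ k k9, termQ A B k k9 < big := fun k k9 =>
    xor_lt (prod_lt _ _ _ (rowK_lt _ _)) (prod_lt _ _ _ (rowK_xor_lt _ _ _))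
  constructor <;> simp only [mulM] <;> repeat' (first | apply hp | apply hq | apply xor_lt)

theorem bdd_mulW {A : M4} (h : Bdd A) : Bdd (mulW A) := ⟨h.2, xor_lt h.1 h.2⟩

theorem bdd_scM {A : M4} (h : Bdd A) : ∀ c, Bdd (scM c A)
  | 0 => h
  | 1 => bdd_mulW h
  | _ + 2 => bdd_mulW (bdd_mulW h)

theorem key_inj {A B : M4} (hA : Bdd A) (hB : Bdd B) (h : key A = key B) : A = B := by
  have h1 := hA.1
  have h2 := hB.1
  cases A; cases B
  simp only [key] at h
  simp only at h1 h2
  have e : ∀ p q, p < big → (p + big * q) / big = q := fun p q hp => by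
    rw [Nat.add_mul_div_left _ _ (by norm_num [big]), Nat.div_eq_of_lt hp, Nat.zero_add]
  have hq := congrArg (· / big) h
  simp only [e _ _ h1, e _ _ h2] at hq
  subst hq
  simp only [Nat.add_right_cancel h]

theorem mulW_three (A : M4) : mulW (mulW (mulW A)) = A := by
  cases A with | mk p q =>
  have e : ∀ a b : ℕ, Nat.xor a b = a ^^^ b := fun _ _ => rfl
  simp only [mulW, e, M4.mk.injEq]
  constructor
  · rw [← Nat.xor_assoc, Nat.xor_comm q p, Nat.xor_assoc, Nat.xor_self, Nat.xor_zero]
  · rw [← Nat.xor_assoc (p ^^^ q), Nat.xor_comm (p ^^^ q) q, Nat.xor_assoc q, Nat.xor_self, Nat.xor_zero]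

/-- Least among the three scalar multiples. -/
def canon (A : M4) : Bool := Nat.ble (key A) (key (mulW A)) && Nat.ble (key A) (key (mulW (mulW A)))

theorem canon_eq {A : M4} {c : ℕ} (hc : c < 3) (hA : Bdd A) (h1 : canon A = true)
    (h2 : canon (scM c A) = true) : scM c A = A := by
  simp only [canon, Bool.and_eq_true, Nat.ble_eq] at h1 h2
  refine key_inj (bdd_scM hA c) hA ?_
  interval_cases c
  · rfl
  · simp only [scM, mulW_three] at h2 ⊢; omega
  · simp only [scM, mulW_three] at h2 ⊢; omega

/-- Equal up to the power `c` of `ω`. -/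
def eqSc (c : ℕ) (A B : M4) : Bool := Nat.blt c 3 && M4.beq A (scM c B)

/-- A field with four elements and a primitive cube root of unity. -/
class F4Data (F : Type*) [Field F] where
  /-- The cube root of unity. -/
  w : F
  /-- Its equation. -/
  hw : w ^ 2 + w + 1 = 0
  /-- The cardinality. -/
  card : Nat.card F = 4

section
variable {F : Type*} [Field F] [d : F4Data F]

instance : Finite F := Nat.finite_of_card_ne_zero (by rw [d.card]; norm_num)

theorem four_eq_one_of_ne {x : F} (hx : x ≠ 0) : x ^ 3 = 1 := by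
  have : Fintype F := Fintype.ofFinite F
  have h := FiniteField.pow_card_sub_one_eq_one x hx
  rwa [← Nat.card_eq_fintype_card, d.card] at h

theorem two_eq_zero' : (2 : F) = 0 := by
  have : Fintype F := Fintype.ofFinite F
  have h : ((4 : ℕ) : F) = 0 := by rw [← d.card, Nat.card_eq_fintype_card, FiniteField.cast_card_eq_zero]
  have h' : (2 : F) * 2 = 0 := by rw [← h]; norm_num
  exact mul_self_eq_zero.1 h'

instance charTwo : CharP F 2 :=
  (CharP.charP_iff_prime_eq_zero Nat.prime_two).2 (by simpa using two_eq_zero' (F := F))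

local notation "ω" => (F4Data.w : F)

theorem w_ne_zero : ω ≠ 0 := fun h => by simpa [h] using d.hw

theorem w_ne_one : ω ≠ 1 := fun h => by
  have h2 := two_eq_zero' (F := F)
  have := d.hw
  rw [h] at this
  exact one_ne_zero (α := F) (by linear_combination this - h2)

theorem w_pow_three : ω ^ 3 = 1 := four_eq_one_of_ne w_ne_zero

theorem w_pow_eq_one {c : ℕ} (hc : c < 3) (h : ω ^ c = 1) : c = 0 := by
  interval_cases c
  · rfl
  · exact absurd (by simpa using h) w_ne_one
  · exfalso
    have := d.hw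
    rw [h] at this
    exact w_ne_zero (F := F) (by linear_combination this - two_eq_zero' (F := F))

/-- The value of a two-bit entry. -/
def valF (F : Type*) [Field F] [F4Data F] : ℕ → F
  | 0 => 0
  | 1 => 1
  | 2 => F4Data.w
  | _ => F4Data.w ^ 2

theorem exists_pow_of_ne {x : F} (hx : x ≠ 0) : ∃ c, c < 3 ∧ x = ω ^ c := by
  have h : (x - 1) * ((x - ω) * (x - ω ^ 2)) = 0 := by
    have h1 : x ^ 3 = 1 := four_eq_one_of_ne hx
    have h3 : ω ^ 3 = 1 := w_pow_three
    linear_combination h1 - h3 + (x * ω - x ^ 2) * d.hw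
  rcases mul_eq_zero.1 h with h | h
  · exact ⟨0, by norm_num, by rw [pow_zero]; exact sub_eq_zero.1 h⟩
  rcases mul_eq_zero.1 h with h | h
  · exact ⟨1, by norm_num, by rw [pow_one]; exact sub_eq_zero.1 h⟩
  · exact ⟨2, by norm_num, sub_eq_zero.1 h⟩

theorem exists_valF (x : F) : ∃ n, n < 4 ∧ x = valF F n := by
  by_cases hx : x = 0
  · exact ⟨0, by norm_num, hx⟩
  obtain ⟨c, hc, rfl⟩ := exists_pow_of_ne hx
  refine ⟨c + 1, by omega, ?_⟩
  interval_cases c <;> simp [valF]

/-- The matrix over the field of a bit-sliced matrix. -/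
abbrev mat (F : Type*) [Field F] [F4Data F] (A : M4) : Matrix F9 F9 F := toMat F (F4Data.w : F) A

theorem mat_mul (A B : M4) : mat F (mulM A B) = mat F A * mat F B := toMat_mulM d.hw A B

theorem mat_sc {c : ℕ} (hc : c < 3) (A : M4) : mat F (scM c A) = ω ^ c • mat F A := toMat_scM d.hw A hc

theorem entF_eq_val (A : M4) (i : ℕ) :
    entF F ω A i = valF F ((A.p.testBit i).toNat + 2 * (A.q.testBit i).toNat) := by
  simp only [entF, bitF]
  cases A.p.testBit i <;> cases A.q.testBit i <;> simp [valF]
  linear_combination -d.hw + (ω + 1) * two_eq_zero' (F := F)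

theorem valF_inj {a b : ℕ} (ha : a < 4) (hb : b < 4) (h : valF F a = valF F b) : a = b := by
  have h0 := w_ne_zero (F := F)
  have h1 := w_ne_one (F := F)
  have h2 : ω ^ 2 ≠ 1 := fun e => by simpa using w_pow_eq_one (F := F) (by norm_num : 2 < 3) e
  have h3 : ω ^ 2 ≠ ω := fun e => h1 (mul_left_cancel₀ h0 (by rw [← sq, e, mul_one]))
  have h4 : ω ^ 2 ≠ 0 := pow_ne_zero 2 h0
  interval_cases a <;> interval_cases b <;> simp_all [valF, eq_comm]

theorem mat_inj {A B : M4} (hA : Bdd A) (hB : Bdd B) (h : mat F A = mat F B) : A = B := by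
  have key' : ∀ i, i < 81 → A.p.testBit i = B.p.testBit i ∧ A.q.testBit i = B.q.testBit i := by
    intro i hi
    have e := congrFun (congrFun h (ixE.symm ⟨i / 9, by omega⟩)) (ixE.symm ⟨i % 9, by omega⟩)
    simp only [mat, toMat, Matrix.submatrix_apply, Equiv.apply_symm_apply, toMat9, Nat.div_add_mod,
      entF_eq_val] at e
    have e' := valF_inj (by cases A.p.testBit i <;> cases A.q.testBit i <;> simp)
      (by cases B.p.testBit i <;> cases B.q.testBit i <;> simp) e
    revert e'
    cases A.p.testBit i <;> cases A.q.testBit i <;> cases B.p.testBit i <;> cases B.q.testBit i <;> simp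
  have hi : ∀ {a : ℕ} {i : ℕ}, a < big → 81 ≤ i → a.testBit i = false := fun ha hi =>
    Nat.testBit_eq_false_of_lt (lt_of_lt_of_le ha (by rw [big_eq]; exact Nat.pow_le_pow_right (by norm_num) hi))
  cases A; cases B
  congr 1 <;> refine Nat.eq_of_testBit_eq fun i => ?_
  · rcases Nat.lt_or_ge i 81 with h' | h'
    · exact (key' i h').1
    · rw [hi hA.1 h', hi hB.1 h']
  · rcases Nat.lt_or_ge i 81 with h' | h'
    · exact (key' i h').2
    · rw [hi hA.2 h', hi hB.2 h']

theorem mat_eqSc {A B : M4} {c : ℕ} (h : eqSc c A B = true) : c < 3 ∧ mat F A = ω ^ c • mat F B := by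
  simp only [eqSc, Bool.and_eq_true, Nat.blt_eq] at h
  exact ⟨h.1, by rw [M4.eq_of_beq h.2, mat_sc h.1]⟩

/-- Two canonical matrices in the same scalar class are equal. -/
theorem canon_unique {A B : M4} (hA : Bdd A) (hB : Bdd B) (ca : canon A = true) (cb : canon B = true)
    {x : F} (hx : x ≠ 0) (h : mat F B = x • mat F A) : B = A := by
  obtain ⟨c, hc, rfl⟩ := exists_pow_of_ne hx
  rw [← mat_sc hc] at h
  obtain rfl := mat_inj hB (bdd_scM hA c) h
  exact canon_eq hc hA ca cb

/-- The matrix unit at the origin. -/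
def e00 : M4 := ⟨1, 0⟩

/-- The first column, as a matrix. -/
def colA (A : M4) : M4 := mulM A e00

theorem mat_colA (A : M4) : mat F (colA A) = mat F A * mat F e00 := mat_mul A e00

theorem mat_one : mat F one4 = 1 := by
  have h : ∀ i j : Fin 9, (one4.p.testBit (9 * (i : ℕ) + j)) = decide (i = j) := by decide +kernel
  ext z z'
  simp only [mat, toMat, Matrix.submatrix_apply, toMat9, entF_eq_val, h, Matrix.one_apply,
    show one4.q = 0 from rfl, Nat.zero_testBit]
  by_cases e : z = z'
  · simp [e, valF]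
  · simp [e, valF, ixE.injective.eq_iff]

theorem mat_e00_apply (z z' : F9) : mat F e00 z z' = if z = 0 ∧ z' = 0 then 1 else 0 := by
  have h : ∀ i j : Fin 9, e00.p.testBit (9 * (i : ℕ) + j) = decide (i = 0 ∧ j = 0) := by decide +kernel
  have h0 : ixE (0 : F9) = 0 := rfl
  simp only [mat, toMat, Matrix.submatrix_apply, toMat9, entF_eq_val, h, show e00.q = 0 from rfl,
    Nat.zero_testBit, ← h0, ixE.injective.eq_iff]
  split_ifs with e <;> simp [e, valF]

end

end Cfsg.Agent.Janko3
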