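/-
Orbit tree and Schreier factors for the triple cover of `J₃`.
-/
import Cfsg.Agent.Janko1.Calc

set_option autoImplicit false

namespace Cfsg.Agent.Janko3

open Cfsg.Agent.Janko1

/-- How a representative arises, part 0. -/
def tInfoPart0 : Janko1.Tree ℕ := (.node (.node (.node (.node (.node (.node (.leaf 0) (.leaf 3197)) (.node (.leaf 18546) (.leaf 14937))) (.node (.node (.leaf 1045065) (.leaf 22137)) (.node (.leaf 2413682) (.leaf 13)))) (.node (.node (.node (.leaf 1114217) (.leaf 6074976)) (.node (.leaf 5449316) (.leaf 160873))) (.node (.node (.leaf 1062497) (.leaf 164457)) (.node (.leaf 14451) (.leaf 8366672))))) (.node (.node (.node (.node (.leaf 7376496) (.leaf 4379257)) (.node (.leaf 5732984) (.leaf 470125))) (.node (.node (.leaf 3766880) (.leaf 4738657)) (.node (.leaf 2477172) (.leaf 1778802)))) (.node (.node (.node (.leaf 5798012) (.leaf 55416)) (.node (.leaf 22617) (.leaf 1017417))) (.node (.node (.leaf 4350568) (.leaf 58449)) (.node (.leaf 7515752) (.leaf 1083505)))))) (.node (.node (.node (.node (.node (.leaf 1077369) (.leaf 123481))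 (.node (.leaf 8604768) (.leaf 8373872))) (.node (.node (.leaf 4660841) (.leaf 7385720)) (.node (.leaf 5907034) (.leaf 5741672)))) (.node (.node (.node (.leaf 4707425) (.leaf 2228324)) (.node (.leaf 5765232) (.leaf 7158898))) (.node (.node (.leaf 13907) (.leaf 7744088)) (.node (.leaf 3149427) (.leaf 4581497))))) (.node (.node (.node (.node (.leaf 4793968) (.leaf 3103330)) (.node (.leaf 8836728) (.leaf 4522105))) (.node (.node (.leaf 4525161) (.leaf 746597)) (.node (.leaf 4638793) (.leaf 168553)))) (.node (.node (.node (.leaf 911961) (.leaf 5280352)) (.node (.leaf 2974330) (.leaf 169588))) (.node (.node (.leaf 302185) (.leaf 4263044)) (.node (.leaf 5374056) (.leaf 3462266)))))))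

/-- How a representative arises, part 1. -/
def tInfoPart1 : Janko1.Tree ℕ := (.node (.node (.node (.node (.node (.node (.leaf 981625) (.leaf 259697)) (.node (.leaf 4457569) (.leaf 4548209))) (.node (.node (.leaf 560740) (.leaf 6380114)) (.node (.leaf 8845928) (.leaf 7150708)))) (.node (.node (.node (.leaf 3763828) (.leaf 6793330)) (.node (.leaf 7203444) (.leaf 3826788))) (.node (.node (.leaf 204385) (.leaf 6279786)) (.node (.leaf 3310184) (.leaf 1331312))))) (.node (.node (.node (.node (.leaf 7028840) (.leaf 954977)) (.node (.leaf 292945) (.leaf 948313))) (.node (.node (.leaf 50745) (.leaf 1002105)) (.node (.leaf 43073) (.leaf 5136500)))) (.node (.node (.node (.leaf 39537) (.leaf 2353256)) (.node (.leaf 8658560) (.leaf 1102457))) (.node (.node (.leaf 106617) (.leaf 4437112)) (.node (.leaf 1084529) (.leaf 4644985)))))) (.node (.node (.node (.node (.node (.leaf 4366449) (.leaf 4678737)) (.node (.leaf 3519098) (.leaf 738866))) (.node (.node (.leaf 4718161) (.leaf 4394097)) (.node (.leaf 4714097) (.leaf 3042418)))) (.node (.node (.node (.leaf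 3638368) (.leaf 9394288)) (.node (.leaf 3601) (.leaf 254064))) (.node (.node (.leaf 1603700) (.leaf 6634602)) (.node (.leaf 4533360) (.leaf 146025))))) (.node (.node (.node (.node (.leaf 1060465) (.leaf 1120361)) (.node (.leaf 98889) (.leaf 1124473))) (.node (.node (.leaf 6378596) (.leaf 3025523)) (.node (.leaf 4382825) (.leaf 2226259)))) (.node (.node (.node (.leaf 7280728) (.leaf 6328402)) (.node (.leaf 5637736) (.leaf 4753521))) (.node (.node (.leaf 4440185) (.leaf 4564601)) (.node (.leaf 4437601) (.leaf 4471417)))))))

/-- How a representative arises, part 2. -/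
def tInfoPart2 : Janko1.Tree ℕ := (.node (.node (.node (.node (.node (.node (.leaf 4550769) (.leaf 241210)) (.node (.leaf 4596337) (.leaf 4606588))) (.node (.node (.leaf 4623481) (.leaf 8898664)) (.node (.leaf 599156) (.leaf 6908520)))) (.node (.node (.node (.leaf 192113) (.leaf 3211856)) (.node (.leaf 9153136) (.leaf 283265))) (.node (.node (.leaf 4582513) (.leaf 2770557)) (.node (.leaf 7819376) (.leaf 4627553))))) (.node (.node (.node (.node (.leaf 2225235) (.leaf 4633713)) (.node (.leaf 5956186) (.leaf 4898952))) (.node (.node (.leaf 8906352) (.leaf 861257)) (.node (.leaf 1204312) (.leaf 889964)))) (.node (.node (.node (.leaf 231545) (.leaf 918641)) (.node (.leaf 182881) (.leaf 924769))) (.node (.node (.leaf 10380920) (.leaf 311921)) (.node (.leaf 4291699) (.leaf 4796509)))))) (.node (.node (.node (.node (.node (.leaf 7289461) (.leaf 7302251)) (.node (.leaf 1110131) (.leaf 68213))) (.node (.node (.leaf 3189365) (.leaf 7335524)) (.node (.leaf 4860995) (.leaf 4794485)))) (.node (.node (.node (.leaf 8470644) (.leaf 8766594)) (.node (.leaf 4691581)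 (.leaf 7196285))) (.node (.node (.leaf 3198595) (.leaf 7549554)) (.node (.leaf 10658908) (.leaf 3559517))))) (.node (.node (.node (.node (.leaf 1801826) (.leaf 4692589)) (.node (.leaf 10845828) (.leaf 3560573))) (.node (.node (.leaf 4367394) (.leaf 9129581)) (.node (.leaf 10781306) (.leaf 7450131)))) (.node (.node (.node (.leaf 9149035) (.leaf 7131772)) (.node (.leaf 7964291) (.leaf 11459187))) (.node (.node (.leaf 7092338) (.leaf 10867818)) (.node (.leaf 7080572) (.leaf 4460650)))))))

/-- How a representative arises, part 3. -/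
def tInfoPart3 : Janko1.Tree ℕ := (.node (.node (.node (.node (.node (.node (.leaf 9348741) (.leaf 10533956)) (.node (.leaf 11711069) (.leaf 11681386))) (.node (.node (.leaf 7187538) (.leaf 8754812)) (.node (.leaf 7682165) (.leaf 10967628)))) (.node (.node (.node (.leaf 1046131) (.leaf 4483165)) (.node (.leaf 6993517) (.leaf 3198059))) (.node (.node (.leaf 7852146) (.leaf 797301)) (.node (.leaf 3126402) (.leaf 1358434))))) (.node (.node (.node (.node (.leaf 1802868) (.leaf 9369202)) (.node (.leaf 4139635) (.leaf 4332155))) (.node (.node (.leaf 3815045) (.leaf 9012354)) (.node (.leaf 4067939) (.leaf 6668405)))) (.node (.node (.node (.leaf 7300731) (.leaf 2567796)) (.node (.leaf 6141036) (.leaf 4860027))) (.node (.node (.leaf 3486338) (.leaf 6832755)) (.node (.leaf 11186810) (.leaf 5987940)))))) (.node (.node (.node (.node (.node (.leaf 9899645) (.leaf 9489013)) (.node (.leaf 9787004) (.leaf 5714028))) (.node (.node (.leaf 7493227) (.leaf 7817325)) (.node (.leaf 9768547) (.leaf 4843138)))) (.node (.node (.node (.leaf 5771868) (.leaf 6311026))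 (.node (.leaf 9645180) (.leaf 11386466))) (.node (.node (.leaf 7878765) (.leaf 7968875)) (.node (.leaf 11457635) (.leaf 7528572))))) (.node (.node (.node (.node (.leaf 6722154) (.leaf 9751124)) (.node (.leaf 9255538) (.leaf 9041523))) (.node (.node (.leaf 1173594) (.leaf 7031924)) (.node (.leaf 11227253) (.leaf 10483788)))) (.node (.node (.node (.leaf 8256636) (.leaf 8970858)) (.node (.leaf 8018005) (.leaf 11229309))) (.node (.node (.leaf 11164788) (.leaf 1294946)) (.node (.leaf 8569467) (.leaf 9331826)))))))

/-- How a representative arises, part 4. -/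
def tInfoPart4 : Janko1.Tree ℕ := (.node (.node (.node (.node (.node (.node (.leaf 4753524) (.leaf 11200628)) (.node (.leaf 8936044) (.leaf 9042018))) (.node (.node (.leaf 782922) (.leaf 11247203)) (.node (.leaf 10332771) (.leaf 8227445)))) (.node (.node (.node (.leaf 11357802) (.leaf 1175667)) (.node (.leaf 3356788) (.leaf 5630581))) (.node (.node (.leaf 6474339) (.leaf 2269803)) (.node (.leaf 1049212) (.leaf 6253682))))) (.node (.node (.node (.node (.leaf 5691003) (.leaf 5307506)) (.node (.leaf 2218595) (.leaf 5938283))) (.node (.node (.leaf 11313796) (.leaf 1252971)) (.node (.leaf 4884578) (.leaf 3298428)))) (.node (.node (.node (.leaf 10176090) (.leaf 8073292)) (.node (.leaf 6368866) (.leaf 10319996))) (.node (.node (.leaf 11023981) (.leaf 1159780)) (.node (.leaf 4142690) (.leaf 9111668)))))) (.node (.node (.node (.node (.node (.leaf 11024501) (.leaf 8040043)) (.node (.leaf 10129524) (.leaf 2630770))) (.node (.node (.leaf 7916652) (.leaf 9042547)) (.node (.leaf 8435837) (.leaf 8334954)))) (.node (.node (.node (.leaf 3997274) (.leaf 10241109))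 (.node (.leaf 10801781) (.leaf 11403388))) (.node (.node (.leaf 10689107) (.leaf 10242645)) (.node (.leaf 5782130) (.leaf 6155381))))) (.node (.node (.node (.node (.leaf 1836101) (.leaf 9277036)) (.node (.leaf 5939275) (.leaf 2826853))) (.node (.node (.leaf 1251963) (.leaf 4508274)) (.node (.leaf 2750556) (.leaf 9919090)))) (.node (.node (.node (.leaf 5158507) (.leaf 6517875)) (.node (.leaf 2826341) (.leaf 11658874))) (.node (.node (.leaf 3072611) (.leaf 2691180)) (.node (.leaf 5006421) (.leaf 7733876)))))))

/-- How a representative arises, part 5. -/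
def tInfoPart5 : Janko1.Tree ℕ := (.node (.node (.node (.node (.node (.node (.leaf 7141434) (.leaf 5837413)) (.node (.leaf 4416618) (.leaf 5245044))) (.node (.node (.leaf 2270819) (.leaf 1513596)) (.node (.leaf 73321) (.leaf 1047681)))) (.node (.node (.node (.leaf 76897) (.leaf 1050721)) (.node (.leaf 2512488) (.leaf 1110633))) (.node (.node (.leaf 152153) (.leaf 3909754)) (.node (.leaf 92785) (.leaf 5658228))))) (.node (.node (.node (.node (.leaf 99425) (.leaf 4682369)) (.node (.leaf 4375153) (.leaf 4685921))) (.node (.node (.leaf 2548354) (.leaf 608869)) (.node (.leaf 5608052) (.leaf 1063019)))) (.node (.node (.node (.leaf 93315) (.leaf 5576304)) (.node (.leaf 7222376) (.leaf 391788))) (.node (.node (.leaf 8700016) (.leaf 1017977)) (.node (.leaf 5801562) (.leaf 4159064)))))) (.node (.node (.node (.node (.node (.leaf 40569) (.leaf 2407036)) (.node (.leaf 7616616) (.leaf 1005681))) (.node (.node (.leaf 113273) (.leaf 2487384)) (.node (.leaf 4243568) (.leaf 1109097)))) (.node (.node (.node (.leaf 402552) (.leaf 5532272)) (.node (.leaf 4371057)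 (.leaf 7257188))) (.node (.node (.leaf 4722273) (.leaf 4715641)) (.node (.leaf 2139768) (.leaf 2944064))))) (.node (.node (.node (.node (.leaf 8966240) (.leaf 4543096)) (.node (.leaf 4578929) (.leaf 811082))) (.node (.node (.leaf 326789) (.leaf 894592)) (.node (.leaf 4637809) (.leaf 3767916)))) (.node (.node (.node (.leaf 168045) (.leaf 2973802)) (.node (.leaf 5103200) (.leaf 10300008))) (.node (.node (.leaf 236129) (.leaf 299633)) (.node (.leaf 252457) (.leaf 1609320)))))))

/-- How a representative arises, part 6. -/
def tInfoPart6 : Janko1.Tree ℕ := (.node (.node (.node (.node (.node (.node (.leaf 260161) (.leaf 6384738)) (.node (.leaf 2916448) (.leaf 4540497))) (.node (.node (.leaf 11096152) (.leaf 6163572)) (.node (.leaf 4510289) (.leaf 6788202)))) (.node (.node (.node (.leaf 7926904) (.leaf 4601449)) (.node (.leaf 898665) (.leaf 213081))) (.node (.node (.leaf 896625) (.leaf 5079616)) (.node (.leaf 199289) (.leaf 269401))))) (.node (.node (.node (.node (.leaf 261249) (.leaf 6812224)) (.node (.leaf 1583720) (.leaf 29825))) (.node (.node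 (.leaf 1000561) (.leaf 27729)) (.node (.leaf 3404370) (.leaf 54905)))) (.node (.node (.node (.leaf 2532976) (.leaf 1097329)) (.node (.leaf 127105) (.leaf 9732728))) (.node (.node (.leaf 118881) (.leaf 10875504)) (.node (.leaf 116337) (.leaf 2779260)))))) (.node (.node (.node (.node (.node (.leaf 3959376) (.leaf 4363873)) (.node (.leaf 4660345) (.leaf 4358769))) (.node (.node (.leaf 11669600) (.leaf 1057388)) (.node (.leaf 3930744) (.leaf 4734561)))) (.node (.node (.node (.leaf 4415073) (.leaf 6638714)) (.node (.leaf 1031273) (.leaf 15993))) (.node (.node (.leaf 539240) (.leaf 8775288)) (.node (.leaf 7684688) (.leaf 9572976))))) (.node (.node (.node (.node (.leaf 5447800) (.leaf 4688473)) (.node (.leaf 3086980) (.leaf 8481904))) (.node (.node (.leaf 4390521) (.leaf 4737665)) (.node (.leaf 2649725) (.leaf 4462209)))) (.node (.node (.node (.leaf 4562009) (.leaf 4556913)) (.node (.leaf 4551801) (.leaf 3063936))) (.node (.node (.leaf 258162) (.leaf 1013360)) (.node (.leaf 192625) (.leaf 4772444)))))))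

/-- How a representative arises, part 7. -/
def tInfoPart7 : Janko1.Tree ℕ := (.node (.node (.node (.node (.node (.node (.leaf 957561) (.leaf 10222704)) (.node (.leaf 950913) (.leaf 84586))) (.node (.node (.leaf 3211380) (.leaf 1136251)) (.node (.leaf 4713056) (.leaf 3386996)))) (.node (.node (.node (.leaf 4486777) (.leaf 5960290)) (.node (.leaf 10022016) (.leaf 4631649))) (.node (.node (.leaf 11169888) (.leaf 2403421)) (.node (.leaf 3461744) (.leaf 10279544))))) (.node (.node (.node (.node (.leaf 185961) (.leaf 3432536)) (.node (.leaf 5857906) (.leaf 4977744))) (.node (.node (.leaf 982113) (.leaf 1429112)) (.node (.leaf 4290667) (.leaf 4282933)))) (.node (.node (.node (.leaf 8695922) (.leaf 4387452)) (.node (.leaf 8295522) (.leaf 1034349))) (.node (.node (.leaf 3933810) (.leaf 1036421)) (.node (.leaf 9533570) (.leaf 7545466)))))) (.node (.node (.node (.node (.node (.leaf 9534580) (.leaf 73819)) (.node (.leaf 4385397) (.leaf 3688549))) (.node (.node (.leaf 3687029) (.leaf 8369762)) (.node (.leaf 4139123) (.leaf 9604722)))) (.node (.node (.node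 (.leaf 5842050) (.leaf 9613429)) (.node (.leaf 9112139) (.leaf 9615989))) (.node (.node (.leaf 9746557) (.leaf 9738275)) (.node (.leaf 9748581) (.leaf 4166244))))) (.node (.node (.node (.node (.leaf 7946349) (.leaf 7969891)) (.node (.leaf 10668674) (.leaf 11428989))) (.node (.node (.leaf 9831021) (.leaf 7939699)) (.node (.leaf 7458939) (.leaf 10854514)))) (.node (.node (.node (.leaf 1710700) (.leaf 4461674)) (.node (.leaf 11509349) (.leaf 11507821))) (.node (.node (.leaf 9767483) (.leaf 1046643)) (.node (.leaf 8798332) (.leaf 74851)))))))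

/-- How a representative arises, part 8. -/
def tInfoPart8 : Janko1.Tree ℕ := (.node (.node (.node (.node (.node (.node (.leaf 4587117) (.leaf 6771331)) (.node (.leaf 9076834) (.leaf 2385532))) (.node (.node (.leaf 8127562) (.leaf 10586740)) (.node (.leaf 7092341) (.leaf 3253363)))) (.node (.node (.node (.leaf 7180420) (.leaf 4065395)) (.node (.leaf 3301485) (.leaf 4806755))) (.node (.node (.leaf 5793892) (.leaf 1111147)) (.node (.leaf 8765524) (.leaf 3485818))))) (.node (.node (.node (.node (.leaf 502900) (.leaf 7352955)) (.node (.leaf 8681084) (.leaf 4932186))) (.node (.node (.leaf 10507906) (.leaf 7614573)) (.node (.leaf 9765491) (.leaf 7615101)))) (.node (.node (.node (.leaf 10121835) (.leaf 10768980)) (.node (.leaf 10156130) (.leaf 10176093))) (.node (.node (.leaf 10096739) (.leaf 7540869)) (.node (.leaf 7965291) (.leaf 10423930)))))) (.node (.node (.node (.node (.node (.leaf 11374194) (.leaf 238180)) (.node (.leaf 11792979) (.leaf 9053813))) (.node (.node (.leaf 9043067) (.leaf 3425906)) (.node (.leaf 8118388) (.leaf 10303603)))) (.node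 (.node (.node (.leaf 9255026) (.leaf 3361916)) (.node (.leaf 8506477) (.leaf 2959970))) (.node (.node (.leaf 6353508) (.leaf 10873941)) (.node (.leaf 8496251) (.leaf 10395253))))) (.node (.node (.node (.node (.leaf 1305722) (.leaf 8603763)) (.node (.leaf 1546348) (.leaf 3066461))) (.node (.node (.leaf 3069053) (.leaf 5112435)) (.node (.leaf 5197946) (.leaf 3608692)))) (.node (.node (.node (.leaf 2081901) (.leaf 10179684)) (.node (.leaf 6002795) (.leaf 6563444))) (.node (.node (.leaf 11179596) (.leaf 11423338)) (.node (.leaf 2705005) (.leaf 6464635)))))))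

/-- How a representative arises, part 9. -/
def tInfoPart9 : Janko1.Tree ℕ := (.node (.node (.node (.node (.node (.node (.leaf 4721780) (.leaf 6364258)) (.node (.leaf 10177098) (.leaf 1705605))) (.node (.node (.leaf 1704565) (.leaf 8008795)) (.node (.leaf 11505772) (.leaf 1884794)))) (.node (.node (.node (.leaf 8716917) (.leaf 9004652)) (.node (.leaf 2629202) (.leaf 8604771))) (.node (.node (.leaf 957036) (.leaf 10682491)) (.node (.leaf 8162405) (.leaf 8642157))))) (.node (.node (.node (.node (.leaf 10734725) (.leaf 10733701)) (.node (.leaf 8082029) (.leaf 2522722))) (.node (.node (.leaf 11294309) (.leaf 6711396)) (.node (.leaf 2089075) (.leaf 6463571)))) (.node (.node (.node (.leaf 5992554) (.leaf 2280059)) (.node (.leaf 5155955) (.leaf 1447037))) (.node (.node (.leaf 5681275) (.leaf 10696314)) (.node (.leaf 665708) (.leaf 5637739)))))) (.node (.node (.node (.node (.node (.leaf 9869938) (.leaf 11381356)) (.node (.leaf 6566525) (.leaf 6525563))) (.node (.node (.leaf 7292525) (.leaf 4162674)) (.node (.leaf 7300235) (.leaf 4799077)))) (.node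 (.node (.node (.leaf 6089336) (.leaf 3974276)) (.node (.leaf 3241571) (.leaf 70781))) (.node (.node (.leaf 2245240) (.leaf 4405856)) (.node (.leaf 7198325) (.leaf 1050235))))) (.node (.node (.node (.node (.leaf 1818232) (.leaf 5391476)) (.node (.leaf 4798539) (.leaf 5708904))) (.node (.node (.leaf 10719352) (.leaf 101972)) (.node (.leaf 4695661) (.leaf 8411256)))) (.node (.node (.node (.leaf 5796936) (.leaf 530045)) (.node (.leaf 10944120) (.leaf 2158202))) (.node (.node (.leaf 7452275) (.leaf 7288)) (.node (.leaf 341114) (.leaf 10107525)))))))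

/-- How a representative arises, part 10. -/
def tInfoPart10 : Janko1.Tree ℕ := (.node (.node (.node (.node (.node (.node (.leaf 345706) (.leaf 4378240)) (.node (.leaf 7469693) (.leaf 8592504))) (.node (.node (.leaf 4396656) (.leaf 9119331)) (.node (.leaf 10040445) (.leaf 11713133)))) (.node (.node (.node (.leaf 7685221) (.leaf 3771496)) (.node (.leaf 11712101) (.leaf 7684181))) (.node (.node (.leaf 9352317) (.leaf 6996589)) (.node (.leaf 1049211) (.leaf 3195507))))) (.node (.node (.node (.node (.leaf 4298876) (.leaf 6769283)) (.node (.leaf 161899) (.leaf 11268728))) (.node (.node (.leaf 683632) (.leaf 7779416)) (.node (.leaf 3817597) (.leaf 5127290)))) (.node (.node (.node (.leaf 70235) (.leaf 3935333)) (.node (.leaf 1271920) (.leaf 8088152))) (.node (.node (.leaf 6670445) (.leaf 4607586)) (.node (.leaf 5330048) (.leaf 4185717)))))) (.node (.node (.node (.node (.node (.leaf 3243123) (.leaf 6669429)) (.node (.leaf 4187781) (.leaf 5965412))) (.node (.node (.leaf 545900) (.leaf 11415675)) (.node (.leaf 10081384) (.leaf 9632875)))) (.node (.node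 (.node (.leaf 7496291) (.leaf 11781747)) (.node (.leaf 7819893) (.leaf 9491581))) (.node (.node (.leaf 9770619) (.leaf 8079440)) (.node (.leaf 5319784) (.leaf 483436))))) (.node (.node (.node (.node (.leaf 5341296) (.leaf 8552547)) (.node (.leaf 8020101) (.leaf 295528))) (.node (.node (.leaf 8493147) (.leaf 10669677)) (.node (.leaf 10664539) (.leaf 11230325)))) (.node (.node (.node (.leaf 8018565) (.leaf 11021912)) (.node (.leaf 185960) (.leaf 7546984))) (.node (.node (.leaf 11250787) (.leaf 3755632)) (.node (.leaf 5083754) (.leaf 7285376)))))))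

/-- How a representative arises, part 11. -/
def tInfoPart11 : Janko1.Tree ℕ := (.node (.node (.node (.node (.node (.node (.leaf 3654256) (.leaf 9398864)) (.node (.leaf 10655840) (.leaf 6795908))) (.node (.node (.leaf 6188664) (.leaf 1589884)) (.node (.leaf 9905768) (.leaf 5941883)))) (.node (.node (.node (.leaf 11014256) (.leaf 2650746)) (.node (.leaf 7537784) (.leaf 174696))) (.node (.node (.leaf 5173355) (.leaf 5536869)) (.node (.leaf 1712744) (.leaf 3746928))))) (.node (.node (.node (.node (.leaf 1572453) (.leaf 6747764)) (.node (.leaf 2156147) (.leaf 9390192))) (.node (.node (.leaf 2579581) (.leaf 10471013)) (.node (.leaf 11336272) (.leaf 8012891)))) (.node (.node (.node (.leaf 8374901) (.leaf 6559352)) (.node (.leaf 8374381) (.leaf 8985701))) (.node (.node (.leaf 10661427) (.leaf 10416248)) (.node (.leaf 9074803) (.leaf 8983661)))))) (.node (.node (.node (.node (.node (.leaf 4212834) (.leaf 10806885)) (.node (.leaf 4202098) (.leaf 11328104))) (.node (.node (.leaf 6157365) (.leaf 2110058)) (.node (.leaf 4953720) (.leaf 6282868)))) (.node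 (.node (.node (.leaf 5329029) (.leaf 2783264)) (.node (.leaf 6915688) (.leaf 2203723))) (.node (.node (.leaf 1231984) (.leaf 5010037)) (.node (.leaf 5232752) (.leaf 1250419))))) (.node (.node (.node (.node (.leaf 2223210) (.leaf 3127915)) (.node (.leaf 5172331) (.leaf 5212264))) (.node (.node (.leaf 3144257) (.leaf 9801812)) (.node (.leaf 3199065) (.leaf 3150969)))) (.node (.node (.node (.leaf 90219) (.leaf 3242097)) (.node (.leaf 3244113) (.leaf 10861))) (.node (.node (.leaf 4134521) (.leaf 4088417)) (.node (.leaf 6125138) (.leaf 7185505)))))))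

/-- How a representative arises, part 12. -/
def tInfoPart12 : Janko1.Tree ℕ := (.node (.node (.node (.node (.node (.node (.leaf 7186545) (.leaf 3143771)) (.node (.leaf 11635324) (.leaf 6931545))) (.node (.node (.leaf 4233836) (.leaf 9846388)) (.node (.leaf 7598202) (.leaf 3175033)))) (.node (.node (.node (.leaf 3172473) (.leaf 371308)) (.node (.leaf 8570498) (.leaf 4058217))) (.node (.node (.leaf 8583762) (.leaf 10933876)) (.node (.leaf 4110449) (.leaf 4120145))))) (.node (.node (.node (.node (.leaf 4096625) (.leaf 9580660)) (.node (.leaf 3235441) (.leaf 3219553))) (.node (.node (.leaf 5626476) (.leaf 6857801)) (.node (.leaf 3661932) (.leaf 7177825)))) (.node (.node (.node (.leaf 7207537) (.leaf 7221329)) (.node (.leaf 6919801) (.leaf 21099))) (.node (.node (.leaf 293492) (.leaf 6984305)) (.node (.leaf 3142771) (.leaf 4749938)))))) (.node (.node (.node (.node (.node (.leaf 10910332) (.leaf 752701)) (.node (.leaf 1068659) (.leaf 5523556))) (.node (.node (.leaf 752245) (.leaf 4144740)) (.node (.leaf 9980546) (.leaf 10752068)))) (.node (.node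 (.node (.leaf 11265122) (.leaf 6905978)) (.node (.leaf 5052538) (.leaf 2871418))) (.node (.node (.leaf 7066737) (.leaf 1116786)) (.node (.leaf 6977129) (.leaf 6975041))))) (.node (.node (.node (.node (.leaf 8249442) (.leaf 7110761)) (.node (.leaf 8349300) (.leaf 9249370))) (.node (.node (.leaf 11819644) (.leaf 3912289)) (.node (.leaf 2144892) (.leaf 3291713)))) (.node (.node (.node (.leaf 3274321) (.leaf 4469876)) (.node (.leaf 3328113) (.leaf 8783964))) (.node (.node (.leaf 9756796) (.leaf 3177577)) (.node (.leaf 1368164) (.leaf 6870106)))))))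

/-- How a representative arises, part 13. -/
def tInfoPart13 : Janko1.Tree ℕ := (.node (.node (.node (.node (.node (.node (.leaf 7018100) (.leaf 5019242)) (.node (.leaf 11465836) (.leaf 4037233))) (.node (.node (.leaf 4105329) (.leaf 4101209)) (.node (.leaf 3239529) (.leaf 10162292)))) (.node (.node (.node (.leaf 10300522) (.leaf 3140740)) (.node (.leaf 10305138) (.leaf 6855289))) (.node (.node (.leaf 7162969) (.leaf 7204985)) (.node (.leaf 7202937) (.leaf 6966388))))) (.node (.node (.node (.node (.leaf 6925433) (.leaf 4681338)) (.node (.leaf 1131629) (.leaf 9377908))) (.node (.node (.leaf 6371436) (.leaf 7859834)) (.node (.leaf 8848994) (.leaf 4079737)))) (.node (.node (.node (.leaf 6426740) (.leaf 6878297)) (.node (.leaf 2530405) (.leaf 9212010))) (.node (.node (.leaf 11319924) (.leaf 5313108)) (.node (.leaf 2801274) (.leaf 3285620)))))) (.node (.node (.node (.node (.node (.leaf 2530917) (.leaf 1045066)) (.node (.leaf 10326132) (.leaf 10615410))) (.node (.node (.leaf 3439748) (.leaf 6959713)) (.node (.leaf 9117300) (.leaf 6494324)))) (.node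 (.node (.node (.leaf 7128177) (.leaf 4330106)) (.node (.leaf 3916889) (.leaf 651380))) (.node (.node (.leaf 7336546) (.leaf 5488722)) (.node (.leaf 3277953) (.leaf 3275873))))) (.node (.node (.node (.node (.leaf 3334769) (.leaf 3331665)) (.node (.leaf 10986090) (.leaf 9156212))) (.node (.node (.leaf 8521834) (.leaf 8004724)) (.node (.leaf 4844652) (.leaf 7040073)))) (.node (.node (.node (.leaf 591482) (.leaf 2035307)) (.node (.leaf 2677300) (.leaf 2023538))) (.node (.node (.leaf 3888737) (.leaf 3890817)) (.node (.leaf 3996281) (.leaf 6728308)))))))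

/-- How a representative arises, part 14. -/
def tInfoPart14 : Janko1.Tree ℕ := (.node (.node (.node (.node (.node (.node (.leaf 8036468) (.leaf 3324009)) (.node (.leaf 331376) (.leaf 4343388))) (.node (.node (.leaf 330348) (.leaf 4286581)) (.node (.leaf 1118331) (.leaf 151651)))) (.node (.node (.node (.leaf 2491504) (.leaf 1038957)) (.node (.leaf 442960) (.leaf 6832227))) (.node (.node (.leaf 5505656) (.leaf 77427)) (.node (.leaf 4388469) (.leaf 4264058))))) (.node (.node (.node (.node (.leaf 7179880) (.leaf 7291499)) (.node (.leaf 6882917) (.leaf 4394100))) (.node (.node (.leaf 9597539) (.leaf 9109091)) (.node (.leaf 340066) (.leaf 9618037)))) (.node (.node (.node (.leaf 9749109) (.leaf 5819496)) (.node (.leaf 9698336) (.leaf 7974011))) (.node (.node (.leaf 7487603) (.leaf 11456107)) (.node (.leaf 10578032) (.leaf 9593440)))))) (.node (.node (.node (.node (.node (.leaf 4065392) (.leaf 9420397)) (.node (.leaf 9632371) (.leaf 9156211))) (.node (.node (.leaf 4108912) (.leaf 8543848)) (.node (.leaf 11736680) (.leaf 10124859)))) (.node (.node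 (.node (.leaf 1049723) (.leaf 4700226)) (.node (.leaf 2922568) (.leaf 4713562))) (.node (.node (.leaf 905816) (.leaf 3438685)) (.node (.leaf 11091560) (.leaf 4641912))))) (.node (.node (.node (.node (.leaf 7093861) (.leaf 3020384)) (.node (.leaf 9011320) (.leaf 4332659))) (.node (.node (.leaf 5697660) (.leaf 2041964)) (.node (.leaf 5120624) (.leaf 9331304)))) (.node (.node (.node (.leaf 1115763) (.leaf 5031018)) (.node (.leaf 7400045) (.leaf 7398485))) (.node (.node (.leaf 11470960) (.leaf 4580464)) (.node (.leaf 7459931) (.leaf 2834530)))))))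

/-- How a representative arises, part 15. -/
def tInfoPart15 : Janko1.Tree ℕ := (.node (.node (.node (.node (.node (.node (.leaf 9157203) (.leaf 1598082)) (.node (.leaf 2977408) (.leaf 7618173))) (.node (.node (.leaf 7618685) (.leaf 9769075)) (.node (.leaf 6291576) (.leaf 10180733)))) (.node (.node (.node (.leaf 6752848) (.leaf 10334824)) (.node (.leaf 5164656) (.leaf 1577552))) (.node (.node (.leaf 6122100) (.leaf 11829893)) (.node (.leaf 4312688) (.leaf 8510077))))) (.node (.node (.node (.node (.leaf 2608752) (.leaf 8007259)) (.node (.leaf 581760) (.leaf 11215971))) (.node (.node (.leaf 10916456) (.leaf 9075331)) (.node (.leaf 9057389) (.leaf 5490288)))) (.node (.node (.node (.leaf 10555496) (.leaf 10957429)) (.node (.leaf 10956405) (.leaf 8302189))) (.node (.node (.leaf 10302067) (.leaf 2861164)) (.node (.leaf 10397813) (.leaf 8045171)))))) (.node (.node (.node (.node (.node (.leaf 1946736) (.leaf 11241075)) (.node (.leaf 8858717) (.leaf 9765488))) (.node (.node (.leaf 4334696) (.leaf 1337964)) (.node (.leaf 7675496) (.leaf 5108845)))) (.node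 (.node (.node (.leaf 6052973) (.leaf 6052477)) (.node (.leaf 1530978) (.leaf 8468056))) (.node (.node (.leaf 2006136) (.leaf 11665016)) (.node (.leaf 1707125) (.leaf 5426792))))) (.node (.node (.node (.node (.leaf 3936368) (.leaf 1278068)) (.node (.leaf 2706501) (.leaf 5987939))) (.node (.node (.leaf 11095653) (.leaf 1071720)) (.node (.leaf 10301539) (.leaf 3166836)))) (.node (.node (.node (.leaf 10540133) (.leaf 4311674)) (.node (.leaf 6354544) (.leaf 11164264))) (.node (.node (.leaf 5034080) (.leaf 8006251)) (.node (.leaf 10861147) (.leaf 6713968)))))))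

/-- How a representative arises, part 16. -/
def tInfoPart16 : Janko1.Tree ℕ := (.node (.node (.node (.node (.node (.node (.leaf 2109050) (.leaf 5109899)) (.node (.leaf 1100912) (.leaf 6401112))) (.node (.node (.leaf 2155635) (.leaf 9036920)) (.node (.leaf 5435509) (.leaf 2460261)))) (.node (.node (.node (.leaf 2460765) (.leaf 6489196)) (.node (.leaf 2086523) (.leaf 9287792))) (.node (.node (.leaf 3495024) (.leaf 6567541)) (.node (.leaf 5942395) (.leaf 3692138))))) (.node (.node (.node (.node (.leaf 4077689) (.leaf 4141665)) (.node (.leaf 7066740) (.leaf 5630580))) (.node (.node (.leaf 5522546) (.leaf 6927969)) (.node (.leaf 3167337) (.leaf 64620)))) (.node (.node (.node (.leaf 2195050) (.leaf 4035681)) (.node (.leaf 3231329) (.leaf 9422938))) (.node (.node (.leaf 4121193) (.leaf 1957474)) (.node (.leaf 8454260) (.leaf 7158385)))))) (.node (.node (.node (.node (.node (.leaf 8652898) (.leaf 6858329)) (.node (.leaf 7151217) (.leaf 6855761))) (.node (.node (.leaf 7217265) (.leaf 149620)) (.node (.leaf 8501370) (.leaf 6106732)))) (.node (.node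 (.node (.leaf 3794018) (.leaf 4228204)) (.node (.leaf 6612066) (.leaf 7092857))) (.node (.node (.leaf 6600290) (.leaf 577636)) (.node (.leaf 7094881) (.leaf 1069691))))) (.node (.node (.node (.node (.leaf 100443) (.leaf 4076651)) (.node (.leaf 3201635) (.leaf 11265626))) (.node (.node (.leaf 4628602) (.leaf 8410740)) (.node (.leaf 11269242) (.leaf 177781)))) (.node (.node (.node (.leaf 11890764) (.leaf 6922874)) (.node (.leaf 515700) (.leaf 10262650))) (.node (.node (.leaf 9928324) (.leaf 8674932)) (.node (.leaf 7015513) (.leaf 1824372)))))))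

/-- How a representative arises, part 17. -/
def tInfoPart17 : Janko1.Tree ℕ := (.node (.node (.node (.node (.node (.node (.leaf 3350114) (.leaf 7010393)) (.node (.leaf 3355266) (.leaf 7107673))) (.node (.node (.leaf 3924553) (.leaf 3282017)) (.node (.leaf 4117604) (.leaf 7911514)))) (.node (.node (.node (.leaf 3903601) (.leaf 2749034)) (.node (.leaf 3347041) (.leaf 1501298))) (.node (.node (.leaf 8644708) (.leaf 3326017)) (.node (.leaf 6800988) (.leaf 10230882))))) (.node (.node (.node (.node (.leaf 3164281) (.leaf 3181665)) (.node (.leaf 4054121) (.leaf 11230322))) (.node (.node (.leaf 4575338) (.leaf 7813716)) (.node (.leaf 11232890) (.leaf 10012764)))) (.node (.node (.node (.leaf 11295348) (.leaf 7174769)) (.node (.leaf 6841465) (.leaf 11575914))) (.node (.node (.leaf 6853729) (.leaf 6750828)) (.node (.leaf 7212649) (.leaf 6919273)))))) (.node (.node (.node (.node (.node (.leaf 2035829) (.leaf 2037325)) (.node (.leaf 786028) (.leaf 2681466))) (.node (.node (.leaf 3044468) (.leaf 3205745)) (.node (.leaf 6573668) (.leaf 2686074)))) (.node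 (.node (.node (.leaf 7193177) (.leaf 2658429)) (.node (.leaf 3109452) (.leaf 8213090))) (.node (.node (.leaf 3290218) (.leaf 6886505)) (.node (.leaf 7237745) (.leaf 6926969))))) (.node (.node (.node (.node (.leaf 3080827) (.leaf 7244393)) (.node (.leaf 6948473) (.leaf 10224740))) (.node (.node (.leaf 7032433) (.leaf 9774194)) (.node (.leaf 4849260) (.leaf 7012961)))) (.node (.node (.node (.leaf 3298425) (.leaf 3278969)) (.node (.leaf 3919977) (.leaf 3290753))) (.node (.node (.leaf 9294948) (.leaf 4232306)) (.node (.leaf 8055924) (.leaf 10989666)))))))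

/-- How a representative arises, part 18. -/
def tInfoPart18 : Janko1.Tree ℕ := (.node (.node (.node (.node (.node (.node (.leaf 10266756) (.leaf 4248202)) (.node (.leaf 8520778) (.leaf 1176692))) (.node (.node (.leaf 7089217) (.leaf 2411629)) (.node (.leaf 3859050) (.leaf 5001852)))) (.node (.node (.node (.leaf 10147428) (.leaf 8687202)) (.node (.leaf 7900276) (.leaf 3931761))) (.node (.node (.leaf 1128051) (.leaf 1263725)) (.node (.leaf 2252922) (.leaf 3469436))))) (.node (.node (.node (.node (.leaf 3952753) (.leaf 6942292)) (.node (.leaf 4850281) (.leaf 1065083))) (.node (.node (.leaf 5608578) (.leaf 4090483)) (.node (.leaf 4861561) (.leaf 100440)))) (.node (.node (.node (.leaf 3717756) (.leaf 520297)) (.node (.leaf 459901) (.leaf 522345))) (.node (.node (.leaf 529009) (.leaf 607345)) (.node (.leaf 3656828) (.leaf 7390328)))))) (.node (.node (.node (.node (.node (.leaf 726129) (.leaf 544369)) (.node (.leaf 34922) (.leaf 2172024))) (.node (.node (.leaf 8552544) (.leaf 22620)) (.node (.leaf 2402410) (.leaf 10943088)))) (.node (.node (.node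 (.leaf 4819553) (.leaf 2270816)) (.node (.leaf 4317793) (.leaf 4829313))) (.node (.node (.leaf 4324969) (.leaf 487545)) (.node (.leaf 3806824) (.leaf 1773160))))) (.node (.node (.node (.node (.leaf 649841) (.leaf 647289)) (.node (.leaf 1793666) (.leaf 689265))) (.node (.node (.leaf 576617) (.leaf 11881568)) (.node (.leaf 10094208) (.leaf 314985)))) (.node (.node (.node (.leaf 2708096) (.leaf 798289)) (.node (.leaf 614520) (.leaf 5335666))) (.node (.node (.leaf 808553) (.leaf 722032)) (.node (.leaf 455281) (.leaf 12419)))))))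

/-- How a representative arises, part 19. -/
def tInfoPart19 : Janko1.Tree ℕ := (.node (.node (.node (.node (.node (.node (.leaf 4896889) (.leaf 9188960)) (.node (.leaf 868469) (.leaf 3885189))) (.node (.node (.leaf 4232305) (.leaf 5351544)) (.node (.leaf 4235369) (.leaf 4087395)))) (.node (.node (.node (.leaf 761457) (.leaf 2700408)) (.node (.leaf 605824) (.leaf 6175340))) (.node (.node (.leaf 410177) (.leaf 713824)) (.node (.leaf 422521) (.leaf 840801))))) (.node (.node (.node (.node (.leaf 4170849) (.leaf 4168809)) (.node (.leaf 4867177) (.leaf 1299040))) (.node (.node (.leaf 2965618) (.leaf 4933241)) (.node (.leaf 4200057) (.leaf 1212018)))) (.node (.node (.node (.leaf 4938321) (.leaf 9913424)) (.node (.leaf 4756089) (.leaf 4771945))) (.node (.node (.leaf 3341428) (.leaf 4274289)) (.node (.leaf 4835457) (.leaf 4485240)))))) (.node (.node (.node (.node (.node (.leaf 4847721) (.leaf 221792)) (.node (.leaf 4840041) (.leaf 5280890))) (.node (.node (.leaf 498809) (.leaf 3719256)) (.node (.leaf 517737) (.leaf 8298592)))) (.node (.node (.node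 (.leaf 1654888) (.leaf 3282020)) (.node (.leaf 715873) (.leaf 4494432))) (.node (.node (.leaf 3026051) (.leaf 248424)) (.node (.leaf 7573112) (.leaf 4477032))))) (.node (.node (.node (.node (.leaf 4330609) (.leaf 215664)) (.node (.leaf 4336241) (.leaf 4340833))) (.node (.node (.leaf 5687424) (.leaf 1285738)) (.node (.leaf 3709024) (.leaf 11796088)))) (.node (.node (.node (.leaf 587881) (.leaf 8287856)) (.node (.leaf 598617) (.leaf 680529))) (.node (.node (.leaf 775265) (.leaf 4966488)) (.node (.leaf 2861688) (.leaf 784489)))))))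

/-- How a representative arises, part 20. -/
def tInfoPart20 : Janko1.Tree ℕ := (.node (.node (.node (.node (.node (.node (.leaf 779385) (.leaf 347761)) (.node (.leaf 7814256) (.leaf 440921))) (.node (.node (.leaf 823401) (.leaf 4152953)) (.node (.leaf 4886081) (.leaf 5660266)))) (.node (.node (.node (.leaf 4214897) (.leaf 1170032)) (.node (.leaf 738425) (.leaf 2852440))) (.node (.node (.leaf 8931936) (.leaf 749177)) (.node (.leaf 378937) (.leaf 11327584))))) (.node (.node (.node (.node (.leaf 10157160) (.leaf 403569)) (.node (.leaf 1726066) (.leaf 6916728))) (.node (.node (.leaf 1201763) (.leaf 4949105)) (.node (.leaf 2224219) (.leaf 9105512)))) (.node (.node (.node (.leaf 1905781) (.leaf 1209988)) (.node (.leaf 2895981) (.leaf 4963433))) (.node (.node (.leaf 5629554) (.leaf 4806253)) (.node (.leaf 4849795) (.leaf 75901)))))) (.node (.node (.node (.node (.node (.leaf 7066226) (.leaf 4474490)) (.node (.leaf 8300668) (.leaf 10520172))) (.node (.node (.leaf 4805739) (.leaf 5630076)) (.node (.leaf 10986604) (.leaf 4337787)))) (.node (.node (.node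 (.leaf 10111597) (.leaf 7940723)) (.node (.leaf 7474813) (.leaf 9727595))) (.node (.node (.leaf 11773549) (.leaf 8453244)) (.node (.leaf 3923530) (.leaf 5468284))))) (.node (.node (.node (.node (.leaf 236130) (.leaf 10676812)) (.node (.leaf 11422835) (.leaf 2559098))) (.node (.node (.leaf 9150035) (.leaf 9341549)) (.node (.leaf 1827410) (.leaf 7967339)))) (.node (.node (.node (.leaf 11792507) (.leaf 11702405)) (.node (.leaf 8355450) (.leaf 6107764))) (.node (.node (.leaf 4944498) (.leaf 7579748)) (.node (.leaf 4067451) (.leaf 10199666)))))))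

/-- How a representative arises, part 21. -/
def tInfoPart21 : Janko1.Tree ℕ := (.node (.node (.node (.node (.node (.node (.leaf 4474981) (.leaf 6392962)) (.node (.leaf 579180) (.leaf 9605220))) (.node (.node (.leaf 5387898) (.leaf 10480738)) (.node (.leaf 1044603) (.leaf 4195941)))) (.node (.node (.node (.leaf 11890284) (.leaf 3940981)) (.node (.leaf 4192877) (.leaf 9734268))) (.node (.node (.leaf 4851323) (.leaf 919661)) (.node (.leaf 6697570) (.leaf 6824059))))) (.node (.node (.node (.node (.leaf 9480301) (.leaf 9088114)) (.node (.leaf 11568741) (.leaf 9892477))) (.node (.node (.leaf 10095715) (.leaf 11791979)) (.node (.leaf 4044412) (.leaf 8112234)))) (.node (.node (.node (.leaf 11369069) (.leaf 9689709)) (.node (.leaf 7939187) (.leaf 2994282))) (.node (.node (.leaf 9634939) (.leaf 7660660)) (.node (.leaf 11449459) (.leaf 3478130)))))) (.node (.node (.node (.node (.node (.leaf 4279412) (.leaf 11235453)) (.node (.leaf 8124516) (.leaf 11369562))) (.node (.node (.leaf 10675845) (.leaf 10379882)) (.node (.leaf 5372540) (.leaf 6648426)))) (.node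 (.node (.node (.leaf 9044092) (.leaf 6247026)) (.node (.leaf 10087026) (.leaf 2828412))) (.node (.node (.leaf 9042019) (.leaf 10868347)) (.node (.leaf 10655843) (.leaf 8780909))))) (.node (.node (.node (.node (.leaf 8091252) (.leaf 11166322)) (.node (.leaf 8218205) (.leaf 11157085))) (.node (.node (.leaf 10344515) (.leaf 1187946)) (.node (.leaf 2089563) (.leaf 2219123)))) (.node (.node (.node (.leaf 1372804) (.leaf 3418722)) (.node (.leaf 1253491) (.leaf 1188445))) (.node (.node (.leaf 5994107) (.leaf 2213493)) (.node (.leaf 9352314) (.leaf 1176179)))))))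

/-- How a representative arises, part 22. -/
def tInfoPart22 : Janko1.Tree ℕ := (.node (.node (.node (.node (.node (.node (.leaf 2569317) (.leaf 797298)) (.node (.leaf 10468972) (.leaf 8205932))) (.node (.node (.leaf 5526645) (.leaf 6360173)) (.node (.leaf 8001651) (.leaf 6646900)))) (.node (.node (.node (.leaf 4519522) (.leaf 9975396)) (.node (.leaf 10459757) (.leaf 8495731))) (.node (.node (.leaf 4794484) (.leaf 7116378)) (.node (.leaf 4435042) (.leaf 11541116))))) (.node (.node (.node (.node (.leaf 8993909) (.leaf 10895483)) (.node (.leaf 1826909) (.leaf 3072115))) (.node (.node (.leaf 2817125) (.leaf 3408004)) (.node (.leaf 5948539) (.leaf 6883956)))) (.node (.node (.node (.leaf 7899764) (.leaf 7554674)) (.node (.leaf 6147189) (.leaf 1766010))) (.node (.node (.leaf 7865460) (.leaf 1963653)) (.node (.leaf 11384436) (.leaf 9166956)))))) (.node (.node (.node (.node (.node (.leaf 2498666) (.leaf 7498866)) (.node (.leaf 1062003) (.leaf 92203))) (.node (.node (.leaf 989309) (.leaf 987765)) (.node (.leaf 4248680) (.leaf 3909228)))) (.node (.node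 (.node (.leaf 1635) (.leaf 469609)) (.node (.leaf 609393) (.leaf 10586224))) (.node (.node (.leaf 5535328) (.leaf 4203620)) (.node (.leaf 734329) (.leaf 5696602))))) (.node (.node (.node (.node (.leaf 4762745) (.leaf 5809788)) (.node (.leaf 7601752) (.leaf 4772969))) (.node (.node (.leaf 28770) (.leaf 4763769)) (.node (.leaf 5874264) (.leaf 4208240)))) (.node (.node (.node (.leaf 7171696) (.leaf 11699320)) (.node (.leaf 638089) (.leaf 4066424))) (.node (.node (.leaf 693361) (.leaf 8542312)) (.node (.leaf 4109872) (.leaf 1788026)))))))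

/-- How a representative arises, part 23. -/
def tInfoPart23 : Janko1.Tree ℕ := (.node (.node (.node (.node (.node (.node (.leaf 698473) (.leaf 2605172)) (.node (.leaf 257660) (.leaf 322137))) (.node (.node (.leaf 4919410) (.leaf 327793)) (.node (.leaf 9945208) (.leaf 333953)))) (.node (.node (.node (.leaf 847449) (.leaf 849993)) (.node (.leaf 936552) (.leaf 5337722))) (.node (.node (.leaf 5541468) (.leaf 9332328)) (.node (.leaf 4902513) (.leaf 1066091))))) (.node (.node (.node (.node (.leaf 8264288) (.leaf 5236346)) (.node (.leaf 181885) (.leaf 774761))) (.node (.node (.leaf 546924) (.leaf 781425)) (.node (.leaf 961120) (.leaf 7913592)))) (.node (.node (.node (.leaf 2978416) (.leaf 1344602)) (.node (.leaf 4157521) (.leaf 695938))) (.node (.node (.leaf 5108344) (.leaf 4923505)) (.node (.leaf 9358416) (.leaf 4223097)))))) (.node (.node (.node (.node (.node (.leaf 4777577) (.leaf 4264569)) (.node (.leaf 4275801) (.leaf 4818553))) (.node (.node (.leaf 4311673) (.leaf 622217)) (.node (.leaf 1979992) (.leaf 632953)))) (.node (.node (.node (.leaf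 491609) (.leaf 5451360)) (.node (.leaf 3531356) (.leaf 1272956))) (.node (.node (.leaf 8441448) (.leaf 1946200)) (.node (.leaf 723569) (.leaf 5975664))))) (.node (.node (.node (.node (.leaf 10907232) (.leaf 8795760)) (.node (.leaf 3022965) (.leaf 4857953))) (.node (.node (.leaf 9726576) (.leaf 3508850)) (.node (.leaf 653417) (.leaf 10546272)))) (.node (.node (.node (.leaf 670321) (.leaf 1529412)) (.node (.leaf 538737) (.leaf 9528432))) (.node (.node (.leaf 541281) (.leaf 11201144)) (.node (.leaf 340065) (.leaf 1070688)))))))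

/-- How a representative arises, part 24. -/
def tInfoPart24 : Janko1.Tree ℕ := (.node (.node (.node (.node (.node (.node (.leaf 349825) (.leaf 2982524)) (.node (.leaf 681084) (.leaf 7953528))) (.node (.node (.leaf 425065) (.leaf 3040360)) (.node (.leaf 836721) (.leaf 4168289)))) (.node (.node (.node (.leaf 5659746) (.leaf 10272880)) (.node (.leaf 5068888) (.leaf 4206697))) (.node (.node (.leaf 4909649) (.leaf 4203617)) (.node (.leaf 3437168) (.leaf 4982912))))) (.node (.node (.node (.node (.leaf 4080234) (.leaf 371305)) (.node (.leaf 1102456) (.leaf 3096664))) (.node (.node (.leaf 389753) (.leaf 392809)) (.node (.leaf 403049) (.leaf 811081)))) (.node (.node (.node (.leaf 2040435) (.leaf 3496064)) (.node (.leaf 9287280) (.leaf 2467458))) (.node (.node (.leaf 1423464) (.leaf 4949625)) (.node (.leaf 111730) (.leaf 4967545)))))) (.node (.node (.node (.node (.node (.leaf 10657898) (.leaf 7321700)) (.node (.leaf 8475772) (.leaf 4066931))) (.node (.node (.leaf 3191939) (.leaf 10714722)) (.node (.leaf 143956) (.leaf 10841204)))) (.node (.node (.node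 (.leaf 9755773) (.leaf 372324)) (.node (.leaf 7957613) (.leaf 9730147))) (.node (.node (.leaf 9158259) (.leaf 11449971)) (.node (.leaf 9581180) (.leaf 2559594))))) (.node (.node (.node (.node (.leaf 7095364) (.leaf 8275548)) (.node (.leaf 231026) (.leaf 11498085))) (.node (.node (.leaf 9624706) (.leaf 9821293)) (.node (.leaf 9720428) (.leaf 10198130)))) (.node (.node (.node (.leaf 4065907) (.leaf 3426405)) (.node (.leaf 7080573) (.leaf 7301747))) (.node (.node (.leaf 6804570) (.leaf 4337259)) (.node (.leaf 4577917) (.leaf 4283467)))))))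

/-- How a representative arises, part 25. -/
def tInfoPart25 : Janko1.Tree ℕ := (.node (.node (.node (.node (.node (.node (.leaf 234093) (.leaf 7409277)) (.node (.leaf 3311221) (.leaf 11395682))) (.node (.node (.leaf 7838842) (.leaf 849010)) (.node (.leaf 7605357) (.leaf 7966339)))) (.node (.node (.node (.leaf 11819108) (.leaf 10185837)) (.node (.leaf 7548029) (.leaf 11864196))) (.node (.node (.leaf 10638940) (.leaf 4469364)) (.node (.leaf 11839101) (.leaf 7524476))))) (.node (.node (.node (.node (.leaf 10326133) (.leaf 6661738)) (.node (.leaf 10297443) (.leaf 8261748))) (.node (.node (.leaf 9222780) (.leaf 10883189)) (.node (.leaf 6234746) (.leaf 8603251)))) (.node (.node (.node (.leaf 9064557) (.leaf 11159668)) (.node (.leaf 10162812) (.leaf 8850549))) (.node (.node (.leaf 10945157) (.leaf 8289901)) (.node (.leaf 4896346) (.leaf 11162738)))))) (.node (.node (.node (.node (.node (.leaf 9190012) (.leaf 3419266)) (.node (.leaf 6833772) (.leaf 2092141))) (.node (.node (.leaf 8100996) (.leaf 1183346)) (.node (.leaf 5944941) (.leaf 7723138))))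 (.node (.node (.node (.leaf 5943389) (.leaf 5996667)) (.node (.leaf 3077213) (.leaf 662594))) (.node (.node (.leaf 2696293) (.leaf 11318900)) (.node (.leaf 6473843) (.leaf 6039669))))) (.node (.node (.node (.node (.leaf 3057778) (.leaf 7802994)) (.node (.leaf 9054322) (.leaf 11364972))) (.node (.node (.leaf 11222123) (.leaf 8151165)) (.node (.leaf 10530429) (.leaf 8868948)))) (.node (.node (.node (.leaf 10740845) (.leaf 8009835)) (.node (.leaf 10743405) (.leaf 8089685))) (.node (.node (.leaf 8091717) (.leaf 9845362)) (.node (.leaf 5870210) (.leaf 8605787)))))))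

/-- How a representative arises, part 26. -/
def tInfoPart26 : Janko1.Tree ℕ := (.node (.node (.node (.node (.node (.node (.leaf 10409068) (.leaf 3071579)) (.node (.leaf 3171956) (.leaf 2209379))) (.node (.node (.leaf 5949019) (.leaf 1439349)) (.node (.leaf 4843628) (.leaf 5167731)))) (.node (.node (.node (.leaf 5422685) (.leaf 5743717)) (.node (.leaf 8320106) (.leaf 6262900))) (.node (.node (.leaf 9577074) (.leaf 1761370)) (.node (.leaf 6571645) (.leaf 2281067))))) (.node (.node (.node (.node (.leaf 6573165) (.leaf 6516859)) (.node (.leaf 163907) (.leaf 7301245))) (.node (.node (.leaf 4808813) (.leaf 4138107)) (.node (.leaf 4852347) (.leaf 79469)))) (.node (.node (.node (.leaf 69755) (.leaf 3552381)) (.node (.leaf 2309730) (.leaf 4808315))) (.node (.node (.leaf 4683885) (.leaf 9505888)) (.node (.leaf 523365) (.leaf 4684413)))))) (.node (.node (.node (.node (.node (.leaf 9119851) (.leaf 11775605)) (.node (.leaf 7942267) (.leaf 11747963))) (.node (.node (.leaf 7476333) (.leaf 9140861)) (.node (.leaf 4432992) (.leaf 6083704)))) (.node (.node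 (.node (.leaf 11446387) (.leaf 10123387)) (.node (.leaf 9344629) (.leaf 1812072))) (.node (.node (.leaf 3841656) (.leaf 7678581)) (.node (.leaf 5764728) (.leaf 11789915))))) (.node (.node (.node (.node (.leaf 11906160) (.leaf 3806261)) (.node (.leaf 6443608) (.leaf 6774907))) (.node (.node (.leaf 3807853) (.leaf 1117307)) (.node (.leaf 790125) (.leaf 6986861)))) (.node (.node (.node (.leaf 1586298) (.leaf 6675573)) (.node (.leaf 8084056) (.leaf 161411))) (.node (.node (.leaf 4854387) (.leaf 3945581)) (.node (.leaf 921189) (.leaf 6823011)))))))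

/-- How a representative arises, part 27. -/
def tInfoPart27 : Janko1.Tree ℕ := (.node (.node (.node (.node (.node (.node (.leaf 7810165) (.leaf 9483365)) (.node (.leaf 6448744) (.leaf 10098267))) (.node (.node (.leaf 8876144) (.leaf 4020316)) (.node (.leaf 11571829) (.leaf 9692269)))) (.node (.node (.node (.leaf 9732731) (.leaf 3375728)) (.node (.leaf 7495267) (.leaf 11372141))) (.node (.node (.leaf 7890045) (.leaf 11447907)) (.node (.leaf 3156602) (.leaf 9044603))))) (.node (.node (.node (.node (.leaf 8013931) (.leaf 11235925)) (.node (.leaf 5351028) (.leaf 6183032))) (.node (.node (.leaf 10651219) (.leaf 2292832)) (.node (.leaf 9877624) (.leaf 168040)))) (.node (.node (.node (.leaf 5646968) (.leaf 1522298)) (.node (.leaf 8329840) (.leaf 10311779))) (.node (.node (.leaf 8221309) (.leaf 8037491)) (.node (.leaf 10693715) (.leaf 1680496)))))) (.node (.node (.node (.node (.node (.leaf 5641341) (.leaf 2215509)) (.node (.leaf 290928) (.leaf 2302064))) (.node (.node (.leaf 9884768) (.leaf 6509691)) (.node (.leaf 3714152) (.leaf 2202731)))) (.node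 (.node (.node (.leaf 11808864) (.leaf 8341072)) (.node (.leaf 3685480) (.leaf 6534250))) (.node (.node (.leaf 6362221) (.leaf 2848352)) (.node (.leaf 11217003) (.leaf 10461261))))) (.node (.node (.node (.node (.leaf 11017853) (.leaf 9073795)) (.node (.leaf 8038515) (.leaf 4893280))) (.node (.node (.leaf 11017341) (.leaf 3702866)) (.node (.leaf 10813525) (.leaf 8442989)))) (.node (.node (.node (.leaf 10852963) (.leaf 10653827)) (.node (.leaf 1227376) (.leaf 9109592))) (.node (.node (.leaf 10254965) (.leaf 11499096)) (.node (.leaf 8994437) (.leaf 390770)))))))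

/-- How a representative arises, part 28. -/
def tInfoPart28 : Janko1.Tree ℕ := (.node (.node (.node (.node (.node (.node (.leaf 2203251) (.leaf 3388012)) (.node (.leaf 6466155) (.leaf 5318733))) (.node (.node (.leaf 1249379) (.leaf 1828973)) (.node (.leaf 778344) (.leaf 3250776)))) (.node (.node (.node (.leaf 3073139) (.leaf 5635179)) (.node (.leaf 2959973) (.leaf 3163248))) (.node (.node (.leaf 2154107) (.leaf 5166211)) (.node (.leaf 1132120) (.leaf 8026704))))) (.node (.node (.node (.node (.leaf 3148925) (.leaf 6833769)) (.node (.leaf 3683465) (.leaf 516730))) (.node (.node (.leaf 1934964) (.leaf 3817082)) (.node (.leaf 3567209) (.leaf 2266220)))) (.node (.node (.node (.leaf 6041186) (.leaf 8579700)) (.node (.leaf 10925138) (.leaf 6760041))) (.node (.node (.leaf 10543226) (.leaf 11650156)) (.node (.leaf 7323745) (.leaf 5412474)))))) (.node (.node (.node (.node (.node (.leaf 7314569) (.leaf 3521625)) (.node (.leaf 3516521) (.leaf 3544697))) (.node (.node (.leaf 3711585) (.leaf 3727457)) (.node (.leaf 3704433) (.leaf 986691)))) (.node (.node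 (.node (.leaf 7991418) (.leaf 9773668)) (.node (.leaf 3434617) (.leaf 3437689))) (.node (.node (.leaf 11835996) (.leaf 3827321)) (.node (.leaf 20587) (.leaf 6668881))))) (.node (.node (.node (.node (.leaf 11897460) (.leaf 8872554)) (.node (.leaf 5795444) (.leaf 3869828))) (.node (.node (.leaf 8188002) (.leaf 8765044)) (.node (.leaf 4074603) (.leaf 1479778)))) (.node (.node (.node (.leaf 3789417) (.leaf 3786857)) (.node (.leaf 7697516) (.leaf 3783785))) (.node (.node (.leaf 3777105) (.leaf 7041650)) (.node (.leaf 10735732) (.leaf 7038554)))))))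

/-- How a representative arises, part 29. -/
def tInfoPart29 : Janko1.Tree ℕ := (.node (.node (.node (.node (.node (.node (.leaf 11584634) (.leaf 7383161)) (.node (.leaf 7380577) (.leaf 9522820))) (.node (.node (.leaf 11243618) (.leaf 7390329)) (.node (.leaf 11257466) (.leaf 7667324)))) (.node (.node (.node (.leaf 6710913) (.leaf 4267100)) (.node (.leaf 6756473) (.leaf 10343540))) (.node (.node (.leaf 6815348) (.leaf 6741601)) (.node (.leaf 6756977) (.leaf 2708570))))) (.node (.node (.node (.node (.leaf 11300468) (.leaf 3299938)) (.node (.leaf 3531865) (.leaf 3529329))) (.node (.node (.leaf 3708033) (.leaf 3723865)) (.node (.leaf 3717241) (.leaf 11448924)))) (.node (.node (.node (.leaf 2166373) (.leaf 6820977)) (.node (.leaf 3082331) (.leaf 6828649))) (.node (.node (.leaf 6562428) (.leaf 1516621)) (.node (.leaf 11563114) (.leaf 3689593)))))) (.node (.node (.node (.node (.node (.leaf 1516149) (.leaf 3621969)) (.node (.leaf 3571825) (.leaf 3792489))) (.node (.node (.leaf 3882602) (.leaf 7709818)) (.node (.leaf 3453537) (.leaf 3483249)))) (.node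 (.node (.node (.leaf 3462753) (.leaf 565866)) (.node (.leaf 7385161) (.leaf 8476754))) (.node (.node (.leaf 7392881) (.leaf 6703217)) (.node (.leaf 8599650) (.leaf 6694977))))) (.node (.node (.node (.node (.leaf 3241572) (.leaf 9136740)) (.node (.leaf 1191524) (.leaf 3385961))) (.node (.node (.leaf 6874236) (.leaf 11105908)) (.node (.leaf 3873897) (.leaf 3877961)))) (.node (.node (.node (.leaf 3001468) (.leaf 3884169)) (.node (.leaf 11070036) (.leaf 10563706))) (.node (.node (.leaf 5464698) (.leaf 4558452)) (.node (.leaf 10429532) (.leaf 7430777)))))))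

/-- How a representative arises, part 30. -/
def tInfoPart30 : Janko1.Tree ℕ := (.node (.node (.node (.node (.node (.node (.leaf 1259132) (.leaf 1913973)) (.node (.leaf 4072061) (.leaf 2513024))) (.node (.node (.leaf 8508008) (.leaf 3681901)) (.node (.leaf 151155) (.leaf 5542456)))) (.node (.node (.node (.leaf 9760373) (.leaf 7617640)) (.node (.leaf 5824096) (.leaf 7959165))) (.node (.node (.leaf 2456176) (.leaf 8700496)) (.node (.leaf 9155187) (.leaf 3696260))))) (.node (.node (.node (.node (.leaf 7265914) (.leaf 2037880)) (.node (.leaf 6116458) (.leaf 11500149))) (.node (.node (.leaf 2137696) (.leaf 7972451)) (.node (.leaf 9777243) (.leaf 9640568)))) (.node (.node (.node (.leaf 7881816) (.leaf 4064379)) (.node (.leaf 6235240) (.leaf 7083125))) (.node (.node (.leaf 8965232) (.leaf 4024940)) (.node (.leaf 374381) (.leaf 4863067)))))) (.node (.node (.node (.node (.node (.leaf 3331186) (.leaf 2972792)) (.node (.leaf 1051243) (.leaf 4900957))) (.node (.node (.leaf 5070456) (.leaf 237685)) (.node (.leaf 8258640) (.leaf 3251291)))) (.node (.node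 (.node (.leaf 9363024) (.leaf 3614832)) (.node (.leaf 870512) (.leaf 11756147))) (.node (.node (.leaf 11632237) (.leaf 7486067)) (.node (.leaf 9984616) (.leaf 9016440))))) (.node (.node (.node (.node (.leaf 8231544) (.leaf 6757464)) (.node (.leaf 7460979) (.leaf 7550069))) (.node (.node (.leaf 3557472) (.leaf 10086003)) (.node (.leaf 9157747) (.leaf 496764)))) (.node (.node (.node (.leaf 5134448) (.leaf 9209981)) (.node (.leaf 9212013) (.leaf 8562283))) (.node (.node (.leaf 10884725) (.leaf 9771088)) (.node (.leaf 8799848) (.leaf 9066093)))))))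

/-- How a representative arises, part 31. -/
def tInfoPart31 : Janko1.Tree ℕ := (.node (.node (.node (.node (.node (.node (.leaf 10330213) (.leaf 460912)) (.node (.leaf 2660450) (.leaf 2533440))) (.node (.node (.leaf 8291957) (.leaf 8292461)) (.node (.leaf 4716676) (.leaf 10390149)))) (.node (.node (.node (.leaf 10662515) (.leaf 8437368)) (.node (.leaf 11632232) (.leaf 10516584))) (.node (.node (.leaf 3931760) (.leaf 6781052)) (.node (.leaf 3324012) (.leaf 6460027))))) (.node (.node (.node (.node (.leaf 510576) (.leaf 5925464)) (.node (.leaf 10884720) (.leaf 4289624))) (.node (.node (.leaf 5688435) (.leaf 2094213)) (.node (.leaf 2087547) (.leaf 1183867)))) (.node (.node (.node (.leaf 5121139) (.leaf 1907320)) (.node (.leaf 3263620) (.leaf 2263155))) (.node (.node (.leaf 5396576) (.leaf 6043253)) (.node (.leaf 8153701) (.leaf 8493675)))))) (.node (.node (.node (.node (.node (.leaf 8006763) (.leaf 3844730)) (.node (.leaf 10311251) (.leaf 10663531))) (.node (.node (.leaf 9072227) (.leaf 11158640)) (.node (.leaf 6339160) (.leaf 9041024)))) (.node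 (.node (.node (.leaf 3064440) (.leaf 9045123)) (.node (.leaf 11398744) (.leaf 10850915))) (.node (.node (.leaf 9291368) (.leaf 8650341)) (.node (.leaf 10744957) (.leaf 8533627))))) (.node (.node (.node (.node (.leaf 4969584) (.leaf 10339923)) (.node (.leaf 1105512) (.leaf 6405736))) (.node (.node (.leaf 1440861) (.leaf 5121651)) (.node (.leaf 5426797) (.leaf 5425269)))) (.node (.node (.node (.leaf 987760) (.leaf 6267972)) (.node (.leaf 3125371) (.leaf 952428))) (.node (.node (.leaf 4651112) (.leaf 6169218)) (.node (.leaf 5997691) (.leaf 6220404)))))))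

/-- How a representative arises, part 32. -/
def tInfoPart32 : Janko1.Tree ℕ := (.node (.node (.node (.node (.node (.node (.leaf 2656892) (.leaf 2212467)) (.node (.leaf 5030512) (.leaf 7309426))) (.node (.node (.leaf 5932123) (.leaf 6458467)) (.node (.leaf 2157147) (.leaf 8164464)))) (.node (.node (.node (.leaf 5747821) (.leaf 5013104)) (.node (.leaf 10233456) (.leaf 1324661))) (.node (.node (.leaf 1068131) (.leaf 1739852)) (.node (.leaf 9400938) (.leaf 7334524))))) (.node (.node (.node (.node (.leaf 7350897) (.leaf 994405)) (.node (.leaf 3553369) (.leaf 3679817))) (.node (.node (.leaf 2341474) (.leaf 7683122)) (.node (.leaf 3513937) (.leaf 9397868)))) (.node (.node (.node (.leaf 7261817) (.leaf 4359284)) (.node (.leaf 10937962) (.leaf 6751833))) (.node (.node (.leaf 4170850) (.leaf 2197628)) (.node (.leaf 6747761) (.leaf 8713316)))))) (.node (.node (.node (.node (.node (.leaf 9691250) (.leaf 10929780)) (.node (.leaf 6759009) (.leaf 9684068))) (.node (.node (.leaf 3584121) (.leaf 4410468)) (.node (.leaf 11822170) (.leaf 3724393)))) (.node (.node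 (.node (.leaf 458876) (.leaf 3593329)) (.node (.leaf 3608689) (.leaf 8753756))) (.node (.node (.leaf 7404642) (.leaf 3713633)) (.node (.leaf 3805801) (.leaf 11899))))) (.node (.node (.node (.node (.leaf 282236) (.leaf 3808361)) (.node (.leaf 6197356) (.leaf 3757153))) (.node (.node (.leaf 3814001) (.leaf 7993450)) (.node (.leaf 3764329) (.leaf 3439201)))) (.node (.node (.node (.leaf 8657524) (.leaf 9150034)) (.node (.leaf 6718593) (.leaf 101499))) (.node (.node (.leaf 210564) (.leaf 4295764)) (.node (.leaf 6139940) (.leaf 3252330)))))))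

/-- How a representative arises, part 33. -/
def tInfoPart33 : Janko1.Tree ℕ := (.node (.node (.node (.node (.node (.node (.leaf 10882180) (.leaf 7437401)) (.node (.leaf 6725761) (.leaf 8186978))) (.node (.node (.leaf 8630380) (.leaf 3853913)) (.node (.leaf 7185004) (.leaf 3851393)))) (.node (.node (.node (.leaf 3468897) (.leaf 2093684)) (.node (.leaf 11816564) (.leaf 7363689))) (.node (.node (.leaf 4616290) (.leaf 6628977)) (.node (.leaf 7356529) (.leaf 6643305))))) (.node (.node (.node (.node (.leaf 11859052) (.leaf 7389825)) (.node (.leaf 7367257) (.leaf 7278209))) (.node (.node (.leaf 7259761) (.leaf 1354356)) (.node (.leaf 7257185) (.leaf 1436794)))) (.node (.node (.node (.leaf 6748273) (.leaf 7285881)) (.node (.leaf 8161914) (.leaf 6745681))) (.node (.node (.leaf 8258172) (.leaf 6743137)) (.node (.leaf 3602553) (.leaf 3550316)))))) (.node (.node (.node (.node (.node (.leaf 3728505) (.leaf 3596393)) (.node (.leaf 1029754) (.leaf 6979692))) (.node (.node (.leaf 3611249) (.leaf 3739257)) (.node (.leaf 10451564) (.leaf 2817650)))) (.node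 (.node (.node (.leaf 7951482) (.leaf 9185908)) (.node (.leaf 4568138) (.leaf 2096723))) (.node (.node (.leaf 3080323) (.leaf 6826089)) (.node (.leaf 7347833) (.leaf 3026533))))) (.node (.node (.node (.node (.leaf 9965186) (.leaf 11278452)) (.node (.leaf 1646701) (.leaf 10313850))) (.node (.node (.leaf 7837284) (.leaf 3685985)) (.node (.leaf 11315812) (.leaf 3633785)))) (.node (.node (.node (.leaf 8658026) (.leaf 3834465)) (.node (.leaf 564322) (.leaf 708212))) (.node (.node (.leaf 3865705) (.leaf 10128508)) (.node (.leaf 3857513) (.leaf 7707754)))))))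

/-- How a representative arises, part 34. -/
def tInfoPart34 : Janko1.Tree ℕ := (.node (.node (.node (.node (.node (.node (.leaf 8864356) (.leaf 6654585)) (.node (.leaf 6634113) (.leaf 1999978))) (.node (.node (.leaf 9435778) (.leaf 6454892)) (.node (.leaf 8477298) (.leaf 7372897)))) (.node (.node (.node (.leaf 7370353) (.leaf 8837740)) (.node (.leaf 5567586) (.leaf 5193316))) (.node (.node (.leaf 1128547) (.leaf 11847810)) (.node (.leaf 3760249) (.leaf 7426666))))) (.node (.node (.node (.node (.leaf 7434354) (.leaf 3442785)) (.node (.leaf 2101371) (.leaf 10975354))) (.node (.node (.leaf 6716532) (.leaf 7426137)) (.node (.leaf 6722665) (.leaf 7433297)))) (.node (.node (.node (.leaf 2290813) (.leaf 1273965)) (.node (.leaf 281720) (.leaf 1064555))) (.node (.node (.leaf 4682841) (.leaf 211576)) (.node (.leaf 3956852) (.leaf 4741249)))))) (.node (.node (.node (.node (.node (.leaf 4022387) (.leaf 4431481)) (.node (.leaf 4433505) (.leaf 8338512))) (.node (.node (.leaf 1004153) (.leaf 42593)) (.node (.leaf 5689952) (.leaf 35953)))) (.node (.node (.node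 (.leaf 8304744) (.leaf 1652840)) (.node (.leaf 1076841) (.leaf 122993))) (.node (.node (.leaf 4648041) (.leaf 4363385)) (.node (.leaf 9915504) (.leaf 4356745))))) (.node (.node (.node (.node (.leaf 4674137) (.leaf 4350065)) (.node (.leaf 4706937) (.leaf 4699761))) (.node (.node (.leaf 3696748) (.leaf 9887328)) (.node (.leaf 1225328) (.leaf 4476017)))) (.node (.node (.node (.leaf 4089467) (.leaf 807045)) (.node (.leaf 4585585) (.leaf 4521593))) (.node (.node (.leaf 1270898) (.leaf 4021307)) (.node (.leaf 5175872) (.leaf 3189872)))))))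

/-- How a representative arises, part 35. -/
def tInfoPart35 : Janko1.Tree ℕ := (.node (.node (.node (.node (.node (.node (.leaf 4638329) (.leaf 82547)) (.node (.leaf 866921) (.leaf 920689))) (.node (.node (.leaf 2921066) (.leaf 738424)) (.node (.leaf 301697) (.leaf 250961)))) (.node (.node (.node (.leaf 2780280) (.leaf 4442737)) (.node (.leaf 4436057) (.leaf 10418760))) (.node (.node (.leaf 4553817) (.leaf 6334074)) (.node (.leaf 5901404) (.leaf 4612729))))) (.node (.node (.node (.node (.leaf 4599401) (.leaf 196681)) (.node (.leaf 886369) (.leaf 959081))) (.node (.node (.leaf 263273) (.leaf 1022073)) (.node (.leaf 26241) (.leaf 11832928)))) (.node (.node (.node (.leaf 63097) (.leaf 10717272)) (.node (.leaf 3520124) (.leaf 683098))) (.node (.node (.leaf 1096297) (.leaf 5751368)) (.node (.leaf 10750568) (.leaf 137321)))))) (.node (.node (.node (.node (.node (.leaf 4208) (.leaf 4658313)) (.node (.leaf 4656217) (.leaf 4371561))) (.node (.node (.leaf 81504) (.leaf 4711537)) (.node (.leaf 6379116) (.leaf 1815152)))) (.node (.node (.node (.leaf 17513)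 (.leaf 3814512)) (.node (.leaf 6734412) (.leaf 96377))) (.node (.node (.leaf 3877960) (.leaf 7478376)) (.node (.leaf 4374649) (.leaf 4382289))))) (.node (.node (.node (.node (.leaf 4690537) (.leaf 4698745)) (.node (.leaf 2178160) (.leaf 1008228))) (.node (.node (.leaf 6082640) (.leaf 4744801)) (.node (.leaf 4430944) (.leaf 2583141)))) (.node (.node (.node (.leaf 4459113) (.leaf 4545129)) (.node (.leaf 9186408) (.leaf 4510833))) (.node (.node (.leaf 8117856) (.leaf 4504177)) (.node (.leaf 4592737) (.leaf 4622945)))))))

/-- How a representative arises, part 36. -/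
def tInfoPart36 : Janko1.Tree ℕ := (.node (.node (.node (.node (.node (.node (.leaf 3326568) (.leaf 639088)) (.node (.leaf 217193) (.leaf 878705))) (.node (.node (.leaf 202337) (.leaf 2696288)) (.node (.leaf 941169) (.leaf 11262568)))) (.node (.node (.node (.leaf 4811376) (.leaf 275561)) (.node (.leaf 2414218) (.leaf 4576377))) (.node (.node (.leaf 2225771) (.leaf 9196152)) (.node (.leaf 2835053) (.leaf 1135731))))) (.node (.node (.node (.node (.leaf 7027296) (.leaf 9225296)) (.node (.leaf 2835525) (.leaf 915041))) (.node (.node (.leaf 873089) (.leaf 4768880)) (.node (.leaf 7053426) (.leaf 2705496)))) (.node (.node (.node (.leaf 968305) (.leaf 716408)) (.node (.leaf 11269720) (.leaf 2716780))) (.node (.node (.leaf 311417) (.leaf 159859)) (.node (.leaf 4747869) (.leaf 2643066)))))) (.node (.node (.node (.node (.node (.leaf 7575674) (.leaf 1873002)) (.node (.leaf 1738348) (.leaf 9633906))) (.node (.node (.leaf 4072547) (.leaf 3623517)) (.node (.leaf 10830970) (.leaf 9162845)))) (.node (.node (.node (.leaf 7502973) (.leaf 7964803)) (.node (.leaf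 10132587) (.leaf 9109595))) (.node (.node (.leaf 5885556) (.leaf 7503485)) (.node (.leaf 7494276) (.leaf 10139245))))) (.node (.node (.node (.node (.leaf 9715284) (.leaf 383100)) (.node (.leaf 8714348) (.leaf 9933938))) (.node (.node (.leaf 10929276) (.leaf 9609827)) (.node (.leaf 7243378) (.leaf 158819)))) (.node (.node (.node (.leaf 1871988) (.leaf 4140155)) (.node (.leaf 9503868) (.leaf 74363))) (.node (.node (.leaf 4534885) (.leaf 7040637)) (.node (.leaf 855677) (.leaf 8964202)))))))

/-- How a representative arises, part 37. -/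
def tInfoPart37 : Janko1.Tree ℕ := (.node (.node (.node (.node (.node (.node (.leaf 2629764) (.leaf 9911404)) (.node (.leaf 6833251) (.leaf 9257090))) (.node (.node (.leaf 3999853) (.leaf 4803683)) (.node (.leaf 10721388) (.leaf 6776427)))) (.node (.node (.node (.leaf 5771372) (.leaf 11783283)) (.node (.leaf 9644676) (.leaf 4455036))) (.node (.node (.leaf 9932909) (.leaf 10471010)) (.node (.leaf 9729643) (.leaf 5988988))))) (.node (.node (.node (.node (.leaf 4780154) (.leaf 7969379)) (.node (.leaf 10103426) (.leaf 10131075))) (.node (.node (.leaf 5198458) (.leaf 10388090)) (.node (.leaf 6674530) (.leaf 10599516)))) (.node (.node (.node (.leaf 4754036) (.leaf 3501162)) (.node (.leaf 9010786) (.leaf 11438180))) (.node (.node (.leaf 7774322) (.leaf 9185388)) (.node (.leaf 9365602) (.leaf 7030908)))))) (.node (.node (.node (.node (.node (.leaf 8823925) (.leaf 8255612)) (.node (.leaf 11199093) (.leaf 842874))) (.node (.node (.leaf 6558804) (.leaf 8824453)) (.node (.leaf 10165356) (.leaf 8264293)))) (.node (.node (.node (.leaf 5255778) (.leaf 4927092))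 (.node (.leaf 2270323) (.leaf 1127028))) (.node (.node (.leaf 5691523) (.leaf 6514269)) (.node (.leaf 11103314) (.leaf 1575556))))) (.node (.node (.node (.node (.leaf 6309498) (.leaf 10155138)) (.node (.leaf 3355756) (.leaf 8103036))) (.node (.node (.leaf 10357340) (.leaf 11188346)) (.node (.leaf 2807404) (.leaf 6420594)))) (.node (.node (.node (.leaf 10029156) (.leaf 9599618)) (.node (.leaf 2945652) (.leaf 10504757))) (.node (.node (.leaf 10095716) (.leaf 3488372)) (.node (.leaf 11214963) (.leaf 10296435)))))))

/-- How a representative arises, part 38. -/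
def tInfoPart38 : Janko1.Tree ℕ := (.node (.node (.node (.node (.node (.node (.leaf 9022069) (.leaf 8596075)) (.node (.leaf 3946090) (.leaf 10902627))) (.node (.node (.leaf 45178) (.leaf 8560747)) (.node (.leaf 8696930) (.leaf 4639852)))) (.node (.node (.node (.leaf 2460762) (.leaf 11128436)) (.node (.leaf 7468650) (.leaf 5384317))) (.node (.node (.leaf 6251124) (.leaf 5718642)) (.node (.leaf 2691724) (.leaf 10731618))))) (.node (.node (.node (.node (.leaf 6518379) (.leaf 10866802)) (.node (.leaf 4459114) (.leaf 9890418))) (.node (.node (.leaf 6465155) (.leaf 5192828)) (.node (.leaf 11613290) (.leaf 3009149)))) (.node (.node (.node (.leaf 7085162) (.leaf 9276532)) (.node (.leaf 11483748) (.leaf 2210419))) (.node (.node (.leaf 3009661) (.leaf 9834610)) (.node (.leaf 2591856) (.leaf 93723)))))) (.node (.node (.node (.node (.node (.leaf 3207779) (.leaf 10909792)) (.node (.leaf 2168436) (.leaf 988267))) (.node (.node (.leaf 13411) (.leaf 5864058)) (.node (.leaf 1002585) (.leaf 25729)))) (.node (.node (.node (.leaf 5482576) (.leaf 1972848)) (.node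 (.leaf 7107178) (.leaf 1077849))) (.node (.node (.leaf 10526336) (.leaf 11645560)) (.node (.leaf 1908856) (.leaf 4667009))))) (.node (.node (.node (.node (.leaf 4361321) (.leaf 4662881)) (.node (.leaf 4360297) (.leaf 2407492))) (.node (.node (.leaf 4651113) (.leaf 4407913)) (.node (.leaf 1733236) (.leaf 3952204)))) (.node (.node (.node (.leaf 4398689) (.leaf 4089963)) (.node (.leaf 10265184) (.leaf 4484193))) (.node (.node (.leaf 3831404) (.leaf 5006416)) (.node (.leaf 10225272) (.leaf 6647912)))))))

/-- How a representative arises, part 39. -/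
def tInfoPart39 : Janko1.Tree ℕ := (.node (.node (.node (.node (.node (.node (.leaf 4536425) (.leaf 3126912)) (.node (.leaf 9080944) (.leaf 914553))) (.node (.node (.leaf 181361) (.leaf 875129)) (.node (.leaf 3066456) (.leaf 302705)))) (.node (.node (.node (.leaf 5709916) (.leaf 1015912)) (.node (.leaf 4458617) (.leaf 6329450))) (.node (.node (.leaf 5027952) (.leaf 4450913)) (.node (.leaf 4556385) (.leaf 4549729))))) (.node (.node (.node (.node (.leaf 9263200) (.leaf 4610673)) (.node (.leaf 884329) (.leaf 10059368))) (.node (.node (.leaf 187977) (.leaf 222841)) (.node (.leaf 220249) (.leaf 945769)))) (.node (.node (.node (.leaf 268913) (.leaf 10022976)) (.node (.leaf 260729) (.leaf 293489))) (.node (.node (.leaf 963193) (.leaf 291953)) (.node (.leaf 4025432) (.leaf 3452034)))))) (.node (.node (.node (.node (.node (.leaf 46217) (.leaf 11705432)) (.node (.leaf 134249) (.leaf 2972282))) (.node (.node (.leaf 10613880) (.leaf 7220344)) (.node (.leaf 2448504) (.leaf 4150376)))) (.node (.node (.node (.leaf 5349444) (.leaf 4671065)) (.node (.leaf 2509440)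 (.leaf 3105922))) (.node (.node (.leaf 4734057) (.leaf 4875356)) (.node (.leaf 4726897) (.leaf 5504104))))) (.node (.node (.node (.node (.leaf 1043569) (.leaf 1054825)) (.node (.leaf 6273114) (.leaf 1291900))) (.node (.node (.leaf 8547440) (.leaf 4379753)) (.node (.leaf 5827184) (.leaf 2485832)))) (.node (.node (.node (.leaf 4426353) (.leaf 10847840)) (.node (.leaf 5876352) (.leaf 6526076))) (.node (.node (.leaf 2712149) (.leaf 4442233)) (.node (.leaf 9329264) (.leaf 4469361)))))))

/-- How a representative arises, part 40. -/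
def tInfoPart40 : Janko1.Tree ℕ := (.node (.node (.node (.node (.node (.node (.leaf 4772972) (.leaf 4567665)) (.node (.leaf 4593777) (.leaf 4624977))) (.node (.node (.leaf 900729) (.leaf 216193)) (.node (.leaf 9943128) (.leaf 6236776)))) (.node (.node (.node (.leaf 886905) (.leaf 3155044)) (.node (.leaf 957033) (.leaf 9974384))) (.node (.node (.leaf 948857) (.leaf 2720372)) (.node (.leaf 3526760) (.leaf 10311776))))) (.node (.node (.node (.node (.leaf 1455741) (.leaf 1456253)) (.node (.leaf 6428796) (.leaf 4520553))) (.node (.node (.leaf 4625521) (.leaf 6809664)) (.node (.leaf 2466429) (.leaf 169073)))) (.node (.node (.node (.leaf 4551800) (.leaf 3386500)) (.node (.leaf 7893056) (.leaf 239721))) (.node (.node (.leaf 926321) (.leaf 242793)) (.node (.leaf 4599912) (.leaf 2644602)))))) (.node (.node (.node (.node (.node (.leaf 10952316) (.leaf 733821)) (.node (.leaf 4284003) (.leaf 733309))) (.node (.node (.leaf 7982181) (.leaf 7485027)) (.node (.leaf 10817130) (.leaf 11464821)))) (.node (.node (.node (.leaf 7932011) (.leaf 10695306)) (.node (.leaf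 7633012) (.leaf 11757691))) (.node (.node (.leaf 10900090) (.leaf 9768043)) (.node (.leaf 4166764) (.leaf 9609315))))) (.node (.node (.node (.node (.leaf 9120891) (.leaf 9729131)) (.node (.leaf 7779941) (.leaf 5453932))) (.node (.node (.leaf 10620516) (.leaf 11896932)) (.node (.leaf 783994) (.leaf 454229)))) (.node (.node (.node (.leaf 8086634) (.leaf 7144061)) (.node (.leaf 9330818) (.leaf 1111675))) (.node (.node (.leaf 300125) (.leaf 566388)) (.node (.leaf 7353467) (.leaf 301173)))))))

/-- How a representative arises, part 41. -/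
def tInfoPart41 : Janko1.Tree ℕ := (.node (.node (.node (.node (.node (.node (.leaf 3427450) (.leaf 300653)) (.node (.leaf 7418965) (.leaf 3803260))) (.node (.node (.leaf 10190418) (.leaf 9766003)) (.node (.leaf 10470010) (.leaf 6146172)))) (.node (.node (.node (.leaf 10082939) (.leaf 7574125)) (.node (.leaf 8682620) (.leaf 7484027))) (.node (.node (.leaf 11063378) (.leaf 310900)) (.node (.leaf 7930987) (.leaf 7573613))))) (.node (.node (.node (.node (.leaf 8496764) (.leaf 11423339)) (.node (.leaf 4059236) (.leaf 8054890))) (.node (.node (.leaf 8031339) (.leaf 8543853)) (.node (.leaf 10907237) (.leaf 6410828)))) (.node (.node (.node (.leaf 11256451) (.leaf 7778922)) (.node (.leaf 10307196) (.leaf 8544373))) (.node (.node (.leaf 10907765) (.leaf 9011802)) (.node (.leaf 11221611) (.leaf 8116852)))))) (.node (.node (.node (.node (.node (.leaf 10333307) (.leaf 10683491)) (.node (.leaf 3360868) (.leaf 8568435))) (.node (.node (.leaf 8337525) (.leaf 9080442)) (.node (.leaf 8336997) (.leaf 11388026)))) (.node (.node (.node (.leaf 6619236) (.leaf 2148469))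 (.node (.leaf 11418724) (.leaf 11117674))) (.node (.node (.leaf 5990021) (.leaf 6473331)) (.node (.leaf 5990989) (.leaf 6827130))))) (.node (.node (.node (.node (.leaf 8242780) (.leaf 1384060)) (.node (.leaf 1768045) (.leaf 5681763))) (.node (.node (.leaf 3078771) (.leaf 8918644)) (.node (.leaf 11172466) (.leaf 5103203)))) (.node (.node (.node (.leaf 8367218) (.leaf 8605307)) (.node (.leaf 10332267) (.leaf 10682995))) (.node (.node (.leaf 7544434) (.leaf 9049715)) (.node (.leaf 11130989) (.leaf 10295915)))))))

/-- How a representative arises, part 42. -/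
def tInfoPart42 : Janko1.Tree ℕ := (.node (.node (.node (.node (.node (.node (.leaf 8194677) (.leaf 8764506)) (.node (.leaf 8115813) (.leaf 11257467))) (.node (.node (.leaf 7472242) (.leaf 2461298)) (.node (.leaf 8116341) (.leaf 10869371)))) (.node (.node (.node (.leaf 4863588) (.leaf 2280555)) (.node (.leaf 666236) (.leaf 3079795))) (.node (.node (.leaf 2218083) (.leaf 1511029)) (.node (.leaf 3483252) (.leaf 1375861))))) (.node (.node (.node (.node (.leaf 1375349) (.leaf 1242235)) (.node (.leaf 1376381) (.leaf 10143852))) (.node (.node (.leaf 6511740) (.leaf 4610172)) (.node (.leaf 163451) (.leaf 7248477)))) (.node (.node (.node (.leaf 4750453) (.leaf 4309610)) (.node (.leaf 4537960) (.leaf 1718892))) (.node (.node (.leaf 4750973) (.leaf 7291011)) (.node (.leaf 7326832) (.leaf 7970435)))))) (.node (.node (.node (.node (.node (.leaf 10134619) (.leaf 11800181)) (.node (.leaf 1687656) (.leaf 10141813))) (.node (.node (.leaf 10648176) (.leaf 11800701)) (.node (.leaf 2343002) (.leaf 11743349)))) (.node (.node (.node (.leaf 11781235) (.leaf 7717469))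 (.node (.leaf 9769587) (.leaf 11016304))) (.node (.node (.leaf 9607795) (.leaf 7541344)) (.node (.leaf 2112626) (.leaf 2332776))))) (.node (.node (.node (.node (.leaf 2119746) (.leaf 162419)) (.node (.leaf 1205880) (.leaf 8054392))) (.node (.node (.leaf 4334179) (.leaf 7344723)) (.node (.leaf 858237) (.leaf 186476)))) (.node (.node (.node (.leaf 7042173) (.leaf 4537965)) (.node (.leaf 4286043) (.leaf 971861))) (.node (.node (.leaf 4862059) (.leaf 8938112)) (.node (.leaf 4921976) (.leaf 10200168)))))))

/-- How a representative arises, part 43. -/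
def tInfoPart43 : Janko1.Tree ℕ := (.node (.node (.node (.node (.node (.node (.leaf 6560384) (.leaf 1038451)) (.node (.leaf 4807291) (.leaf 8902776))) (.node (.node (.leaf 9633379) (.leaf 11607173)) (.node (.leaf 11782243) (.leaf 1006706)))) (.node (.node (.node (.leaf 11497576) (.leaf 11607661)) (.node (.leaf 5215360) (.leaf 7915637))) (.node (.node (.leaf 9581685) (.leaf 7973491)) (.node (.leaf 9713253) (.leaf 10193008))))) (.node (.node (.node (.node (.leaf 11395685) (.leaf 2047084)) (.node (.leaf 7933523) (.leaf 813684))) (.node (.node (.leaf 9071739) (.leaf 1781352)) (.node (.leaf 10700413) (.leaf 5748840)))) (.node (.node (.node (.leaf 1273964) (.leaf 8005747)) (.node (.leaf 8611949) (.leaf 10312307))) (.node (.node (.leaf 61536) (.leaf 8532587)) (.node (.leaf 8265837) (.leaf 10888307)))))) (.node (.node (.node (.node (.node (.leaf 4357200) (.leaf 9808976)) (.node (.leaf 6087272) (.leaf 10641013))) (.node (.node (.leaf 11203701) (.leaf 10652779)) (.node (.leaf 1247859) (.leaf 8362608)))) (.node (.node (.node (.leaf 1470058) (.leaf 5173867))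 (.node (.leaf 5686389) (.leaf 1182843))) (.node (.node (.leaf 8399976) (.leaf 5122691)) (.node (.leaf 948858) (.leaf 6425173))))) (.node (.node (.node (.node (.leaf 2272867) (.leaf 5687923)) (.node (.leaf 2174552) (.leaf 1641581))) (.node (.node (.leaf 5987403) (.leaf 995428)) (.node (.leaf 5585013) (.leaf 5633635)))) (.node (.node (.node (.leaf 9839232) (.leaf 1308760)) (.node (.leaf 10688099) (.leaf 10852459))) (.node (.node (.leaf 8958077) (.leaf 1138788)) (.node (.leaf 8038995) (.leaf 11249787)))))))

/-- How a representative arises, part 44. -/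
def tInfoPart44 : Janko1.Tree ℕ := (.node (.node (.node (.node (.node (.node (.leaf 5400682) (.leaf 11266160)) (.node (.leaf 4163698) (.leaf 10840181))) (.node (.node (.leaf 2272363) (.leaf 1301088)) (.node (.leaf 2892389) (.leaf 5288568)))) (.node (.node (.node (.leaf 6696044) (.leaf 2211443)) (.node (.leaf 5634675) (.leaf 3333224))) (.node (.node (.leaf 10476136) (.leaf 5339240)) (.node (.leaf 3630186) (.leaf 7742056))))) (.node (.node (.node (.node (.leaf 1921146) (.leaf 6519411)) (.node (.leaf 5056117) (.leaf 3065459))) (.node (.node (.leaf 5889117) (.leaf 5056605)) (.node (.leaf 1070691) (.leaf 2460260)))) (.node (.node (.node (.leaf 7196769) (.leaf 10686588)) (.node (.leaf 5625980) (.leaf 4047473))) (.node (.node (.leaf 3169393) (.leaf 3187313)) (.node (.leaf 454226) (.leaf 4109873)))))) (.node (.node (.node (.node (.node (.leaf 4421740) (.leaf 4096121)) (.node (.leaf 3224169) (.leaf 3219057))) (.node (.node (.leaf 5848180) (.leaf 371804)) (.node (.leaf 8685170) (.leaf 10934396)))) (.node (.node (.node (.leaf 9514106) (.leaf 8310908))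 (.node (.leaf 11787388) (.leaf 10015874))) (.node (.node (.leaf 4144244) (.leaf 7083641)) (.node (.leaf 3826789) (.leaf 2580596))))) (.node (.node (.node (.node (.leaf 10303602) (.leaf 4282932)) (.node (.leaf 9878652) (.leaf 11571282))) (.node (.node (.leaf 3932249) (.leaf 3934817)) (.node (.leaf 3313785) (.leaf 7712356)))) (.node (.node (.node (.leaf 7377508) (.leaf 5020266)) (.node (.leaf 11703420) (.leaf 5009010))) (.node (.node (.leaf 7250044) (.leaf 7932010)) (.node (.leaf 8913018) (.leaf 8926834)))))))

/-- How a representative arises, part 45. -/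
def tInfoPart45 : Janko1.Tree ℕ := (.node (.node (.node (.node (.node (.node (.leaf 520300) (.leaf 9198186)) (.node (.leaf 2685034) (.leaf 912474))) (.node (.node (.leaf 5728884) (.leaf 3346537)) (.node (.leaf 3992177) (.leaf 1447538)))) (.node (.node (.node (.leaf 3969137) (.leaf 10265722)) (.node (.leaf 4027481) (.leaf 4044921))) (.node (.node (.leaf 3165305) (.leaf 3183721)) (.node (.leaf 9976402) (.leaf 4104825))))) (.node (.node (.node (.node (.leaf 4115569) (.leaf 7172713)) (.node (.leaf 1367684) (.leaf 7151737))) (.node (.node (.leaf 5159538) (.leaf 6601850)) (.node (.leaf 6545540) (.leaf 6924889)))) (.node (.node (.node (.leaf 6902393) (.leaf 7953020)) (.node (.leaf 1195107) (.leaf 8168546))) (.node (.node (.leaf 4069489) (.leaf 4016193)) (.node (.leaf 4018793) (.leaf 6779500)))))) (.node (.node (.node (.node (.node (.leaf 7896682) (.leaf 8068724)) (.node (.leaf 5368956) (.leaf 3343988))) (.node (.node (.leaf 7194217) (.leaf 2589813)) (.node (.leaf 1586301) (.leaf 2042483)))) (.node (.node (.node (.leaf 1118330) (.leaf 1586805)) (.node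 (.leaf 10035324) (.leaf 6970481))) (.node (.node (.leaf 5536362) (.leaf 11088476)) (.node (.leaf 7053921) (.leaf 7071865))))) (.node (.node (.node (.node (.leaf 1240180) (.leaf 7001721)) (.node (.leaf 4295266) (.leaf 7121001))) (.node (.node (.leaf 3289193) (.leaf 3439204)) (.node (.leaf 11774050) (.leaf 10373252)))) (.node (.node (.node (.leaf 11766882) (.leaf 3350113)) (.node (.leaf 3334241) (.leaf 9668706))) (.node (.node (.leaf 4627036) (.leaf 3995265)) (.node (.leaf 3972217) (.leaf 3987569)))))))

/-- How a representative arises, part 46. -/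
def tInfoPart46 : Janko1.Tree ℕ := (.node (.node (.node (.node (.node (.node (.leaf 4788860) (.leaf 2677876)) (.node (.leaf 2085482) (.leaf 8987260))) (.node (.node (.leaf 1849461) (.leaf 7133785)) (.node (.leaf 5260900) (.leaf 7139945)))) (.node (.node (.node (.leaf 1849973) (.leaf 8431730)) (.node (.leaf 3308145) (.leaf 7598706))) (.node (.node (.leaf 7588466) (.leaf 8571506)) (.node (.leaf 2645576) (.leaf 330884))))) (.node (.node (.node (.node (.leaf 4297840) (.leaf 3194987)) (.node (.leaf 478784) (.leaf 3716724))) (.node (.node (.leaf 5479016) (.leaf 7974507)) (.node (.leaf 11456619) (.leaf 10514048)))) (.node (.node (.node (.leaf 5427832) (.leaf 3938912)) (.node (.leaf 11421291) (.leaf 4302448))) (.node (.node (.leaf 550498) (.leaf 7782005)) (.node (.leaf 9606779) (.leaf 2111610)))))) (.node (.node (.node (.node (.node (.leaf 11544173) (.leaf 7783013)) (.node (.leaf 7782493) (.leaf 10873936))) (.node (.node (.leaf 4137043) (.leaf 3250779)) (.node (.leaf 4333147) (.leaf 456317)))) (.node (.node (.node (.leaf 7145045) (.leaf 7145605)) (.node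 (.leaf 4438644) (.leaf 455741))) (.node (.node (.leaf 456813) (.leaf 4541050)) (.node (.leaf 7422557) (.leaf 3042944))))) (.node (.node (.node (.node (.leaf 7425653) (.leaf 7423045)) (.node (.leaf 9633907) (.leaf 11676789))) (.node (.node (.leaf 6701696) (.leaf 9607267)) (.node (.leaf 4973664) (.leaf 11676285)))) (.node (.node (.node (.leaf 1427064) (.leaf 11361384)) (.node (.leaf 10086515) (.leaf 10046048))) (.node (.node (.leaf 7970907) (.leaf 3130976)) (.node (.leaf 263812) (.leaf 1058920)))))))

/-- How a representative arises, part 47. -/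
def tInfoPart47 : Janko1.Tree ℕ := (.node (.node (.node (.node (.node (.node (.leaf 2648690) (.leaf 11421819)) (.node (.leaf 7372412) (.leaf 3145850))) (.node (.node (.leaf 8589427) (.leaf 9091181)) (.node (.leaf 9606264) (.leaf 2043472)))) (.node (.node (.node (.leaf 4909148) (.leaf 5586552)) (.node (.leaf 8554107) (.leaf 4141664))) (.node (.node (.leaf 1524836) (.leaf 10662003)) (.node (.leaf 10437229) (.leaf 7613536))))) (.node (.node (.node (.node (.leaf 2488920) (.leaf 440440)) (.node (.leaf 7648376) (.leaf 5878376))) (.node (.node (.leaf 5500016) (.leaf 4031088)) (.node (.leaf 11701888) (.leaf 7172712)))) (.node (.node (.node (.leaf 949858) (.leaf 944234)) (.node (.leaf 2124896) (.leaf 5164165))) (.node (.node (.leaf 4188784) (.leaf 2453624)) (.node (.leaf 7014004) (.leaf 6510707)))))) (.node (.node (.node (.node (.node (.leaf 9695864) (.leaf 1193059)) (.node (.leaf 5275261) (.leaf 5274757))) (.node (.node (.leaf 394368) (.leaf 6459507)) (.node (.leaf 10574461) (.leaf 8046203)))) (.node (.node (.node (.leaf 1559160) (.leaf 8228472)) (.node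 (.leaf 5136000) (.leaf 4262514))) (.node (.node (.leaf 1623664) (.leaf 11468920)) (.node (.leaf 8674933) (.leaf 10350195))))) (.node (.node (.node (.node (.leaf 4639344) (.leaf 9977440)) (.node (.leaf 3018344) (.leaf 8674389))) (.node (.node (.leaf 10764405) (.leaf 10312827)) (.node (.leaf 2733692) (.leaf 5487741)))) (.node (.node (.node (.leaf 5488725) (.leaf 6510179)) (.node (.leaf 10332768) (.leaf 5488245))) (.node (.node (.leaf 3616336) (.leaf 2283634)) (.node (.leaf 2390653) (.leaf 1920090)))))))

/-- How a representative arises, part 48. -/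
def tInfoPart48 : Janko1.Tree ℕ := (.node (.node (.node (.node (.node (.node (.leaf 347250) (.leaf 4593776)) (.node (.leaf 342130) (.leaf 2201691))) (.node (.node (.leaf 959080) (.leaf 6289016)) (.node (.leaf 11054162) (.leaf 9664612)))) (.node (.node (.node (.leaf 993899) (.leaf 9565772)) (.node (.leaf 5589090) (.leaf 11798644))) (.node (.node (.leaf 3162745) (.leaf 3177057)) (.node (.leaf 4031089) (.leaf 3155577))))) (.node (.node (.node (.node (.leaf 4045425) (.leaf 8422508)) (.node (.leaf 3217489) (.leaf 10827372))) (.node (.node (.leaf 2021498) (.leaf 8615012)) (.node (.leaf 9443418) (.leaf 7686258)))) (.node (.node (.node (.leaf 2429020) (.leaf 2377842)) (.node (.leaf 3855986) (.leaf 3977324))) (.node (.node (.leaf 7230065) (.leaf 6921833)) (.node (.leaf 1070203) (.leaf 9631860)))))) (.node (.node (.node (.node (.node (.leaf 4681850) (.leaf 7079025)) (.node (.leaf 6987377) (.leaf 4699250))) (.node (.node (.leaf 8770668) (.leaf 7134297)) (.node (.leaf 11574890) (.leaf 9734780)))) (.node (.node (.node (.leaf 5119082) (.leaf 11019372)) (.node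 (.leaf 6452314) (.leaf 3312753))) (.node (.node (.leaf 6442578) (.leaf 578644)) (.node (.leaf 3316337) (.leaf 3264097))))) (.node (.node (.node (.node (.leaf 3947641) (.leaf 10232442)) (.node (.leaf 6857802) (.leaf 3955329))) (.node (.node (.leaf 10226298) (.leaf 6976081)) (.node (.leaf 7015041) (.leaf 7112825)))) (.node (.node (.node (.leaf 2551380) (.leaf 7028329)) (.node (.leaf 6159484) (.leaf 3270769))) (.node (.node (.leaf 7692396) (.leaf 1448562)) (.node (.leaf 10740340) (.leaf 3335297)))))))

/-- How a representative arises, part 49. -/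
def tInfoPart49 : Janko1.Tree ℕ := (.node (.node (.node (.node (.node (.node (.leaf 1442938) (.leaf 9129578)) (.node (.leaf 3181153) (.leaf 9083012))) (.node (.node (.leaf 7855740) (.leaf 3171953)) (.node (.leaf 4025433) (.leaf 9334372)))) (.node (.node (.node (.leaf 4124785) (.leaf 3212409)) (.node (.leaf 4641394) (.leaf 11574380))) (.node (.node (.leaf 7181929) (.leaf 10345586)) (.node (.leaf 6851689) (.leaf 7021682))))) (.node (.node (.node (.node (.leaf 6849145) (.leaf 3377780)) (.node (.leaf 6338668) (.leaf 7212145))) (.node (.node (.leaf 7228025) (.leaf 10050666)) (.node (.leaf 3231330) (.leaf 6625900)))) (.node (.node (.node (.leaf 4020313) (.leaf 4735604)) (.node (.leaf 2742858) (.leaf 3254385))) (.node (.node (.leaf 2747514) (.leaf 4146793)) (.node (.leaf 2097787) (.leaf 6872185)))))) (.node (.node (.node (.node (.node (.leaf 11453052) (.leaf 1632858)) (.node (.leaf 7192161) (.leaf 2223211))) (.node (.node (.leaf 1122426) (.leaf 6926457)) (.node (.leaf 3023987) (.leaf 7243897)))) (.node (.node (.node (.leaf 7391354) (.leaf 6236276))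 (.node (.leaf 7058025) (.leaf 6955121))) (.node (.node (.leaf 10582106) (.leaf 7130233)) (.node (.leaf 7012441) (.leaf 1494652))))) (.node (.node (.node (.node (.leaf 9733754) (.leaf 7122033)) (.node (.leaf 11773050) (.leaf 10948690))) (.node (.node (.leaf 3964025) (.leaf 3332177)) (.node (.leaf 3961465) (.leaf 9975892)))) (.node (.node (.node (.leaf 3328601) (.leaf 3343985)) (.node (.leaf 2089562) (.leaf 2099811))) (.node (.node (.leaf 1205363) (.leaf 6989937)) (.node (.leaf 9478770) (.leaf 7084121)))))))

/-- How a representative arises, part 50. -/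
def tInfoPart50 : Janko1.Tree ℕ := (.node (.node (.node (.node (.node (.node (.leaf 7035513) (.leaf 10434148)) (.node (.leaf 8650858) (.leaf 1137787))) (.node (.node (.leaf 2161275) (.leaf 8417906)) (.node (.leaf 3666018) (.leaf 3408516)))) (.node (.node (.node (.leaf 3670610) (.leaf 7587962)) (.node (.leaf 2192506) (.leaf 2988148))) (.node (.node (.leaf 3952201) (.leaf 6524492)) (.node (.leaf 292944) (.leaf 478321))))) (.node (.node (.node (.node (.leaf 727649) (.leaf 11025016)) (.node (.leaf 1977988) (.leaf 4760713))) (.node (.node (.leaf 4268649) (.leaf 1712232)) (.node (.leaf 4764793) (.leaf 5598328)))) (.node (.node (.node (.leaf 4319849) (.leaf 4811377)) (.node (.leaf 1725050) (.leaf 4828793))) (.node (.node (.leaf 4824161) (.leaf 4527224)) (.node (.leaf 2356832) (.leaf 286328)))))) (.node (.node (.node (.node (.node (.leaf 23140) (.leaf 4480104)) (.node (.leaf 695401) (.leaf 2300528))) (.node (.node (.leaf 8627808) (.leaf 579177)) (.node (.leaf 1721972) (.leaf 4082290)))) (.node (.node (.node (.leaf 81507) (.leaf 3222632)) (.node (.leaf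 5755004) (.leaf 382065))) (.node (.node (.leaf 2131) (.leaf 5223032)) (.node (.leaf 9118312) (.leaf 450153))))) (.node (.node (.node (.node (.leaf 4437604) (.leaf 11508352)) (.node (.leaf 4919912) (.leaf 4185193))) (.node (.node (.leaf 2892384) (.leaf 4195433)) (.node (.leaf 4196465) (.leaf 4231761)))) (.node (.node (.node (.leaf 987259) (.leaf 2830976)) (.node (.leaf 4243569) (.leaf 3781244))) (.node (.node (.leaf 3214976) (.leaf 9146440)) (.node (.leaf 833145) (.leaf 1284218)))))))

/-- How a representative arises, part 51. -/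
def tInfoPart51 : Janko1.Tree ℕ := (.node (.node (.node (.node (.node (.node (.leaf 3161696) (.leaf 840321)) (.node (.leaf 11496560) (.leaf 4912248))) (.node (.node (.leaf 4147313) (.leaf 4882025)) (.node (.leaf 7844432) (.leaf 6607464)))) (.node (.node (.node (.leaf 4888153) (.leaf 2821224)) (.node (.leaf 1150554) (.leaf 744040))) (.node (.node (.leaf 7807104) (.leaf 4210281)) (.node (.leaf 4781681) (.leaf 9468528))))) (.node (.node (.node (.node (.leaf 4907132) (.leaf 1818736)) (.node (.leaf 1071212) (.leaf 4814458))) (.node (.node (.leaf 4303481) (.leaf 4300921)) (.node (.leaf 5283436) (.leaf 9810016)))) (.node (.node (.node (.leaf 644201) (.leaf 5354610)) (.node (.leaf 2217584) (.leaf 494201))) (.node (.node (.leaf 550497) (.leaf 714825)) (.node (.leaf 4923010) (.leaf 708209)))))) (.node (.node (.node (.node (.node (.leaf 560737) (.leaf 721529)) (.node (.leaf 715377) (.leaf 1204315))) (.node (.node (.leaf 2222693) (.leaf 4295761)) (.node (.leaf 2163835) (.leaf 1875048)))) (.node (.node (.node (.leaf 1344114) (.leaf 9838192)) (.node (.leaf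 598137) (.leaf 680041))) (.node (.node (.leaf 361577) (.leaf 757857)) (.node (.leaf 3318384) (.leaf 8091712))))) (.node (.node (.node (.node (.leaf 1273424) (.leaf 362625)) (.node (.leaf 5350000) (.leaf 3378296))) (.node (.node (.leaf 8124024) (.leaf 4165249)) (.node (.leaf 4174449) (.leaf 4218489)))) (.node (.node (.node (.leaf 4214401) (.leaf 4909145)) (.node (.leaf 4228729) (.leaf 4918897))) (.node (.node (.leaf 5289056) (.leaf 3307112)) (.node (.leaf 1789042) (.leaf 8081496)))))))

/-- How a representative arises, part 52. -/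
def tInfoPart52 : Janko1.Tree ℕ := (.node (.node (.node (.node (.node (.node (.leaf 330881) (.leaf 3366504)) (.node (.leaf 854113) (.leaf 400505))) (.node (.node (.leaf 4801656) (.leaf 1671274)) (.node (.leaf 2224747) (.leaf 643688)))) (.node (.node (.node (.leaf 4898433) (.leaf 1134707)) (.node (.leaf 35954) (.leaf 2161787))) (.node (.node (.leaf 8860264) (.leaf 4957281)) (.node (.leaf 4962937) (.leaf 8696444))))) (.node (.node (.node (.node (.leaf 10947684) (.leaf 1035363)) (.node (.leaf 3191411) (.leaf 4740229))) (.node (.node (.leaf 9635947) (.leaf 8743034)) (.node (.leaf 7494779) (.leaf 1697924)))) (.node (.node (.node (.leaf 2503290) (.leaf 10152045)) (.node (.leaf 11416187) (.leaf 10081899))) (.node (.node (.leaf 9376357) (.leaf 7706725)) (.node (.leaf 2428508) (.leaf 10066549)))))) (.node (.node (.node (.node (.node (.leaf 9111115) (.leaf 4128882)) (.node (.leaf 10067069) (.leaf 11163242))) (.node (.node (.leaf 3245691) (.leaf 7221332)) (.node (.leaf 7352443) (.leaf 6760042)))) (.node (.node (.node (.leaf 4791914) (.leaf 4242037)) (.node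 (.leaf 11091050) (.leaf 4851819))) (.node (.node (.leaf 580212) (.leaf 72827)) (.node (.leaf 5734516) (.leaf 4007029))))) (.node (.node (.node (.node (.leaf 6771811) (.leaf 7845485)) (.node (.leaf 7968379) (.leaf 9921653))) (.node (.node (.leaf 9111667) (.leaf 10862188)) (.node (.leaf 7846005) (.leaf 9922149)))) (.node (.node (.node (.leaf 6159980) (.leaf 661610)) (.node (.leaf 9930860) (.leaf 9718373))) (.node (.node (.leaf 7492731) (.leaf 7922805)) (.node (.leaf 1188938) (.leaf 9271410)))))))

/-- How a representative arises, part 53. -/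
def tInfoPart53 : Janko1.Tree ℕ := (.node (.node (.node (.node (.node (.node (.leaf 11417219) (.leaf 7923317)) (.node (.leaf 5520476) (.leaf 11396706))) (.node (.node (.leaf 9084020) (.leaf 8041043)) (.node (.leaf 11330116) (.leaf 10894963)))) (.node (.node (.node (.leaf 11268733) (.leaf 6299762)) (.node (.leaf 10857579) (.leaf 8595579))) (.node (.node (.leaf 11471474) (.leaf 10486882)) (.node (.leaf 5372028) (.leaf 1622628))))) (.node (.node (.node (.node (.leaf 8815741) (.leaf 4892796)) (.node (.leaf 10305139) (.leaf 9317474))) (.node (.node (.leaf 1246826) (.leaf 8953444)) (.node (.leaf 3475066) (.leaf 3108452)))) (.node (.node (.node (.leaf 5994611) (.leaf 6626420)) (.node (.leaf 5693565) (.leaf 11421820))) (.node (.node (.leaf 5627019) (.leaf 5937787)) (.node (.leaf 6999660) (.leaf 10501236)))))) (.node (.node (.node (.node (.node (.leaf 2633853) (.leaf 8098434)) (.node (.leaf 5168755) (.leaf 5152372))) (.node (.node (.leaf 2080883) (.leaf 7932548)) (.node (.leaf 785028) (.leaf 8948341)))) (.node (.node (.node (.leaf 10343539) (.leaf 10492533))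 (.node (.leaf 8948853) (.leaf 10881634))) (.node (.node (.leaf 10266220) (.leaf 5918314)) (.node (.leaf 11634810) (.leaf 9030261))))) (.node (.node (.node (.node (.leaf 10651218) (.leaf 8477773)) (.node (.leaf 10806882) (.leaf 4388978))) (.node (.node (.leaf 10290789) (.leaf 2766972)) (.node (.leaf 1835130) (.leaf 10112116)))) (.node (.node (.node (.leaf 5374573) (.leaf 6525043)) (.node (.leaf 4571228) (.leaf 1888373))) (.node (.node (.leaf 2081395) (.leaf 8780386)) (.node (.leaf 5113459) (.leaf 5049956)))))))

/-- How a representative arises, part 54. -/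
def tInfoPart54 : Janko1.Tree ℕ := (.node (.node (.node (.node (.node (.node (.leaf 9556074) (.leaf 11351668)) (.node (.leaf 3136611) (.leaf 5682283))) (.node (.node (.leaf 8283762) (.leaf 5062245)) (.node (.leaf 521841) (.leaf 541280)))) (.node (.node (.node (.leaf 4310632) (.leaf 5931616)) (.node (.leaf 594537) (.leaf 11661920))) (.node (.node (.leaf 4000904) (.leaf 5441144)) (.node (.leaf 4325497) (.leaf 4840561))))) (.node (.node (.node (.node (.leaf 489593) (.leaf 624761)) (.node (.leaf 571496) (.leaf 7706240))) (.node (.node (.leaf 2597496) (.leaf 4333672)) (.node (.leaf 4083834) (.leaf 509024)))) (.node (.node (.node (.leaf 7677048) (.leaf 704121)) (.node (.leaf 9729640) (.leaf 6710376))) (.node (.node (.leaf 791649) (.leaf 9294448)) (.node (.leaf 383609) (.leaf 447585)))))) (.node (.node (.node (.node (.node (.leaf 3440760) (.leaf 5279858)) (.node (.leaf 4984944) (.leaf 1066603))) (.node (.node (.leaf 4091507) (.leaf 3208827)) (.node (.leaf 4769898) (.leaf 253037)))) (.node (.node (.node (.leaf 3318893) (.leaf 989787)) (.node (.leaf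 7956072) (.leaf 3151475))) (.node (.node (.leaf 5190770) (.leaf 253549)) (.node (.leaf 4696696) (.leaf 1484920))))) (.node (.node (.node (.node (.leaf 334449) (.leaf 347249)) (.node (.leaf 820841) (.leaf 414337))) (.node (.node (.leaf 407153) (.leaf 5012072)) (.node (.leaf 417353) (.leaf 4171345)))) (.node (.node (.node (.leaf 4882537) (.leaf 4891249)) (.node (.leaf 4175481) (.leaf 4929145))) (.node (.node (.leaf 3071576) (.leaf 9038944)) (.node (.leaf 4222553) (.leaf 11711064)))))))

/-- How a representative arises, part 55. -/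
def tInfoPart55 : Janko1.Tree ℕ := (.node (.node (.node (.node (.node (.node (.leaf 7181360) (.leaf 4769897)) (.node (.leaf 4766313) (.leaf 4259417))) (.node (.node (.leaf 7234168) (.leaf 5072492)) (.node (.leaf 2099808) (.leaf 9631328)))) (.node (.node (.node (.leaf 4311169) (.leaf 509025)) (.node (.leaf 7614568) (.leaf 635481))) (.node (.node (.leaf 515697) (.leaf 652385)) (.node (.leaf 510065) (.leaf 712305))))) (.node (.node (.node (.node (.leaf 439400) (.leaf 4920954)) (.node (.leaf 717417) (.leaf 4280417))) (.node (.node (.leaf 2069616) (.leaf 8506472)) (.node (.leaf 1213546) (.leaf 4297337)))) (.node (.node (.node (.leaf 4849257) (.leaf 2126440)) (.node (.leaf 4334697) (.leaf 4858473))) (.node (.node (.leaf 4341337) (.leaf 599153)) (.node (.leaf 467569) (.leaf 602737)))))) (.node (.node (.node (.node (.node (.leaf 533097) (.leaf 10833016)) (.node (.leaf 995972) (.leaf 538209))) (.node (.node (.leaf 678993) (.leaf 4206696)) (.node (.leaf 821882) (.leaf 615564)))) (.node (.node (.node (.leaf 8228952) (.leaf 352873)) (.node (.leaf 5709426)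 (.leaf 778345))) (.node (.node (.leaf 363633) (.leaf 835193)) (.node (.leaf 424561) (.leaf 4450410))))) (.node (.node (.node (.node (.leaf 442961) (.leaf 11093576)) (.node (.leaf 876128) (.leaf 8972936))) (.node (.node (.leaf 4876897) (.leaf 4874353)) (.node (.leaf 4206177) (.leaf 934496)))) (.node (.node (.node (.leaf 4211809) (.leaf 3017808)) (.node (.leaf 4344434) (.leaf 4604000))) (.node (.node (.leaf 740465) (.leaf 11431008)) (.node (.leaf 743529) (.leaf 879732)))))))

/-- How a representative arises, part 56. -/
def tInfoPart56 : Janko1.Tree ℕ := (.node (.node (.node (.node (.node (.node (.leaf 5078128) (.leaf 11462744)) (.node (.leaf 1466940) (.leaf 3618416))) (.node (.node (.leaf 402553) (.leaf 199770)) (.node (.leaf 4184185) (.leaf 4892793)))) (.node (.node (.node (.leaf 900184) (.leaf 2913392)) (.node (.leaf 4230777) (.leaf 6282348))) (.node (.node (.leaf 4967017) (.leaf 5970034)) (.node (.leaf 4336731) (.leaf 4423789))))) (.node (.node (.node (.node (.leaf 4007524) (.leaf 11742338)) (.node (.leaf 11471965) (.leaf 153690))) (.node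 (.node (.leaf 3987058) (.leaf 5898348)) (.node (.leaf 7490164) (.leaf 2186284)))) (.node (.node (.node (.leaf 8828026) (.leaf 10933356)) (.node (.leaf 7770733) (.leaf 7931507))) (.node (.node (.leaf 8383594) (.leaf 2018412)) (.node (.leaf 11786364) (.leaf 9857125)))))) (.node (.node (.node (.node (.node (.leaf 4143212) (.leaf 11168898)) (.node (.leaf 10446954) (.leaf 446077))) (.node (.node (.leaf 10877044) (.leaf 7434357)) (.node (.leaf 4142195) (.leaf 7437941)))) (.node (.node (.node (.leaf 4792954) (.leaf 3376757)) (.node (.leaf 7438469) (.leaf 5211762))) (.node (.node (.leaf 6770811) (.leaf 11366018)) (.node (.leaf 7293043) (.leaf 3849332))))) (.node (.node (.node (.node (.leaf 7790690) (.leaf 2145388)) (.node (.leaf 9990253) (.leaf 9989237))) (.node (.node (.leaf 10132091) (.leaf 9990773)) (.node (.leaf 9739883) (.leaf 1318002)))) (.node (.node (.node (.leaf 2935410) (.leaf 4515964)) (.node (.leaf 11899005) (.leaf 11448923))) (.node (.node (.leaf 7559796) (.leaf 11896933)) (.node (.leaf 11899501) (.leaf 8350324)))))))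

/-- How a representative arises, part 57. -/
def tInfoPart57 : Janko1.Tree ℕ := (.node (.node (.node (.node (.node (.node (.leaf 11748979) (.leaf 9618036)) (.node (.leaf 9084515) (.leaf 6698562))) (.node (.node (.leaf 9100397) (.leaf 9097341)) (.node (.leaf 11249275) (.leaf 10918005)))) (.node (.node (.node (.leaf 3564140) (.leaf 8567931)) (.node (.leaf 10858595) (.leaf 11129986))) (.node (.node (.leaf 5155956) (.leaf 5375610)) (.node (.leaf 8261220) (.leaf 11467378))))) (.node (.node (.node (.node (.leaf 8486531) (.leaf 8001123)) (.node (.leaf 6546004) (.leaf 10304107))) (.node (.node (.leaf 8901228) (.leaf 3474530)) (.node (.leaf 8031338) (.leaf 1113716)))) (.node (.node (.node (.leaf 7755354) (.leaf 5999733)) (.node (.leaf 10325628) (.leaf 1758829))) (.node (.node (.leaf 5367884) (.leaf 1243243)) (.node (.leaf 9374842) (.leaf 1379450)))))) (.node (.node (.node (.node (.node (.leaf 5689955) (.leaf 1759349)) (.node (.leaf 5112947) (.leaf 9056356))) (.node (.node (.leaf 8518763) (.leaf 10344051)) (.node (.leaf 10565245) (.leaf 9882234)))) (.node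 (.node (.node (.leaf 8185965) (.leaf 8000635)) (.node (.leaf 8194156) (.leaf 10876522))) (.node (.node (.leaf 9155724) (.leaf 11331685)) (.node (.leaf 3438684) (.leaf 1171572))))) (.node (.node (.node (.node (.leaf 8684149) (.leaf 11246715)) (.node (.leaf 9803890) (.leaf 3019380))) (.node (.node (.leaf 5815418) (.leaf 8684669)) (.node (.leaf 10125436) (.leaf 1500269)))) (.node (.node (.node (.leaf 8355970) (.leaf 1242683)) (.node (.leaf 5168243) (.leaf 5690467))) (.node (.node (.leaf 5260396) (.leaf 8779898)) (.node (.leaf 8038004) (.leaf 5476469)))))))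

/-- How a representative arises, part 58. -/
def tInfoPart58 : Janko1.Tree ℕ := (.node (.node (.node (.node (.node (.node (.leaf 3916890) (.leaf 1438828)) (.node (.leaf 5995107) (.leaf 7449202))) (.node (.node (.leaf 2397285) (.leaf 9999484)) (.node (.leaf 3618421) (.leaf 2352752)))) (.node (.node (.node (.leaf 4339315) (.leaf 8631352)) (.node (.leaf 3748968) (.leaf 7497307))) (.node (.node (.leaf 7514229) (.leaf 1677940)) (.node (.leaf 3688040) (.leaf 122996))))) (.node (.node (.node (.node (.leaf 1691248) (.leaf 9378933)) (.node (.leaf 9917048) (.leaf 2408564))) (.node (.node (.leaf 11737205) (.leaf 9778811)) (.node (.leaf 2304624) (.leaf 7707757)))) (.node (.node (.node (.leaf 11029608) (.leaf 11737701)) (.node (.leaf 9741931) (.leaf 1117803))) (.node (.node (.leaf 3242603) (.leaf 8052344)) (.node (.leaf 4526197) (.leaf 847989)))))) (.node (.node (.node (.node (.node (.leaf 4293739) (.leaf 4526725)) (.node (.leaf 4244061) (.leaf 4854867))) (.node (.node (.leaf 4008565) (.leaf 6823515)) (.node (.leaf 76371) (.leaf 2817120)))) (.node (.node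 (.node (.leaf 3169906) (.leaf 4895864)) (.node (.leaf 6548088) (.leaf 980061))) (.node (.node (.leaf 9148531) (.leaf 5234264)) (.node (.leaf 7972963) (.leaf 11545696))))) (.node (.node (.node (.node (.leaf 9778283) (.leaf 9108587)) (.node (.leaf 9517181) (.leaf 2530404))) (.node (.node (.leaf 11512928) (.leaf 1135216)) (.node (.leaf 9721949) (.leaf 9631859)))) (.node (.node (.node (.leaf 4959320) (.leaf 6430274)) (.node (.leaf 276588) (.leaf 837232))) (.node (.node (.leaf 6163028) (.leaf 6849658)) (.node (.leaf 11408493) (.leaf 9589877)))))))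

/-- How a representative arises, part 59. -/
def tInfoPart59 : Janko1.Tree ℕ := (.node (.node (.node (.node (.node (.node (.leaf 5699184) (.leaf 11240059)) (.node (.leaf 8563819) (.leaf 8057453))) (.node (.node (.leaf 8404600) (.leaf 2204776)) (.node (.leaf 8038003) (.leaf 8816237)))) (.node (.node (.node (.leaf 5350516) (.leaf 2845298)) (.node (.leaf 9036923) (.leaf 4875884))) (.node (.node (.leaf 10860667) (.leaf 10664043)) (.node (.leaf 11195485) (.leaf 2156643))))) (.node (.node (.node (.node (.leaf 5705856) (.leaf 5694085)) (.node (.leaf 5164659) (.leaf 5694573))) (.node (.node (.leaf 2278013) (.leaf 8411776)) (.node (.leaf 1248883) (.leaf 7006842)))) (.node (.node (.node (.leaf 5696091) (.leaf 6415957)) (.node (.leaf 5998699) (.leaf 2272864))) (.node (.node (.leaf 2634845) (.leaf 6587986)) (.node (.leaf 5642891) (.leaf 9074283)))))) (.node (.node (.node (.node (.node (.leaf 4773996) (.leaf 8405101)) (.node (.leaf 9037427) (.leaf 5373544))) (.node (.node (.leaf 7019128) (.leaf 10663035)) (.node (.leaf 1353840) (.leaf 10292845)))) (.node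 (.node (.node (.leaf 10089064) (.leaf 8480885)) (.node (.leaf 10341499) (.leaf 8561787))) (.node (.node (.leaf 10293373) (.leaf 10846845)) (.node (.leaf 8503419) (.leaf 11206747))))) (.node (.node (.node (.node (.leaf 8481365) (.leaf 10302587)) (.node (.leaf 3312232) (.leaf 7367258))) (.node (.node (.leaf 5327440) (.leaf 7362690)) (.node (.leaf 6207101) (.leaf 1184371)))) (.node (.node (.node (.leaf 5381232) (.leaf 3064955)) (.node (.leaf 5642355) (.leaf 5940859))) (.node (.node (.leaf 4767848) (.leaf 3017813)) (.node (.leaf 11239520) (.leaf 6511739)))))))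

/-- How a representative arises, part 60. -/
def tInfoPart60 : Janko1.Tree ℕ := (.node (.node (.node (.node (.node (.node (.leaf 2031733) (.leaf 2727536)) (.node (.leaf 2210939) (.leaf 5066365))) (.node (.node (.leaf 5111379) (.leaf 2032237)) (.node (.leaf 3550833) (.leaf 8661074)))) (.node (.node (.node (.leaf 2201692) (.leaf 3615361)) (.node (.leaf 9507962) (.leaf 3739772))) (.node (.node (.leaf 9724530) (.leaf 8428140)) (.node (.leaf 7284865) (.leaf 7282297))))) (.node (.node (.node (.node (.leaf 7264329) (.leaf 7326329)) (.node (.leaf 7323241) (.leaf 7634044))) (.node (.node (.leaf 5459562) (.leaf 7336545)) (.node (.leaf 7333977) (.leaf 6206074)))) (.node (.node (.node (.leaf 8580204) (.leaf 77956)) (.node (.leaf 6036604) (.leaf 3711057))) (.node (.node (.leaf 3703929) (.leaf 3719257)) (.node (.leaf 1770604) (.leaf 3732577)))))) (.node (.node (.node (.node (.node (.leaf 3712097) (.leaf 2818690)) (.node (.leaf 3758697) (.leaf 7543396))) (.node (.node (.leaf 3314802) (.leaf 3880057)) (.node (.leaf 9182826) (.leaf 1067627)))) (.node (.node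 (.node (.leaf 7400569) (.leaf 9775188)) (.node (.leaf 7408249) (.leaf 893530))) (.node (.node (.leaf 993387) (.leaf 10587244)) (.node (.leaf 7434849) (.leaf 1422970))))) (.node (.node (.node (.node (.leaf 6573162) (.leaf 10767988)) (.node (.leaf 6569602) (.leaf 3390593))) (.node (.node (.leaf 3418721) (.leaf 3397249)) (.node (.leaf 3471473) (.leaf 11549290)))) (.node (.node (.node (.leaf 238716) (.leaf 3479673)) (.node (.leaf 6145132) (.leaf 6644849))) (.node (.node (.leaf 4565626) (.leaf 6687857)) (.node (.leaf 11686508) (.leaf 10243170)))))))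

/-- How a representative arises, part 61. -/
def tInfoPart61 : Janko1.Tree ℕ := (.node (.node (.node (.node (.node (.node (.leaf 6697089) (.leaf 6708849)) (.node (.leaf 9154658) (.leaf 7267945))) (.node (.node (.leaf 7328881) (.leaf 8085620)) (.node (.leaf 8864874) (.leaf 3303036)))) (.node (.node (.node (.leaf 8260738) (.leaf 3641961)) (.node (.leaf 3659881) (.leaf 3652185))) (.node (.node (.leaf 3649121) (.leaf 1606764)) (.node (.leaf 3730545) (.leaf 10017396))))) (.node (.node (.node (.node (.leaf 1108586) (.leaf 3716721)) (.node (.leaf 3714153) (.leaf 6937714))) (.node (.node (.leaf 3082851) (.leaf 6773345)) (.node (.leaf 860804) (.leaf 1206893)))) (.node (.node (.node (.leaf 6617724) (.leaf 6520954)) (.node (.leaf 10464380) (.leaf 6516858))) (.node (.node (.leaf 6835817) (.leaf 3547233)) (.node (.leaf 1578093) (.leaf 3558513)))))) (.node (.node (.node (.node (.node (.leaf 5139564) (.leaf 10064506)) (.node (.leaf 3619449) (.leaf 4727914))) (.node (.node (.leaf 3626105) (.leaf 8966732)) (.node (.leaf 8513122) (.leaf 9946748)))) (.node (.node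 (.node (.leaf 3402849) (.leaf 895596)) (.node (.leaf 6712436) (.leaf 3478129))) (.node (.node (.leaf 8019060) (.leaf 3690074)) (.node (.leaf 11506308) (.leaf 5222508))))) (.node (.node (.node (.node (.leaf 9394794) (.leaf 6713449)) (.node (.leaf 6694529) (.leaf 6706281))) (.node (.node (.leaf 10596474) (.leaf 7871076)) (.node (.leaf 3812985) (.leaf 3761265)))) (.node (.node (.node (.leaf 3763825) (.leaf 3873385)) (.node (.leaf 4271738) (.leaf 3484260))) (.node (.node (.leaf 5036164) (.leaf 7404121)) (.node (.leaf 11747962) (.leaf 1191036)))))))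

/-- How a representative arises, part 62. -/
def tInfoPart62 : Janko1.Tree ℕ := (.node (.node (.node (.node (.node (.node (.leaf 1982061) (.leaf 6873700)) (.node (.leaf 3023451) (.leaf 8888892))) (.node (.node (.leaf 1982573) (.leaf 6510708)) (.node (.leaf 726653) (.leaf 2351714)))) (.node (.node (.node (.leaf 1037931) (.leaf 727165)) (.node (.leaf 3846258) (.leaf 2535488))) (.node (.node (.leaf 7047796) (.leaf 11473525)) (.node (.leaf 6068338) (.leaf 5854828))))) (.node (.node (.node (.node (.leaf 11474045) (.leaf 7313002)) (.node (.leaf 7718520) (.leaf 7487091))) (.node (.node (.leaf 9859173) (.leaf 9778280)) (.node (.leaf 2638960) (.leaf 5929032)))) (.node (.node (.node (.leaf 2578568) (.leaf 10097763)) (.node (.leaf 150659) (.leaf 449117))) (.node (.node (.leaf 448621) (.leaf 2793586)) (.node (.leaf 4863587) (.leaf 2782810)))))) (.node (.node (.node (.node (.node (.leaf 1037411) (.leaf 170084)) (.node (.leaf 4261500) (.leaf 4294275))) (.node (.node (.leaf 4630645) (.leaf 3251827)) (.node (.leaf 3377781) (.leaf 3380349)))) (.node (.node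 (.node (.leaf 9079384) (.leaf 3127912)) (.node (.leaf 11162232) (.leaf 3197043))) (.node (.node (.leaf 9041520) (.leaf 3066992)) (.node (.leaf 1489016) (.leaf 7643781))))) (.node (.node (.node (.node (.leaf 7971451) (.leaf 7486555)) (.node (.leaf 9992837) (.leaf 10275944))) (.node (.node (.leaf 7644253) (.leaf 9993357)) (.node (.leaf 10236520) (.leaf 9741435)))) (.node (.node (.node (.leaf 10098803) (.leaf 2349172)) (.node (.leaf 560236) (.leaf 9243757))) (.node (.node (.leaf 7151220) (.leaf 11900541)) (.node (.leaf 11414643) (.leaf 9244293)))))))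

/-- How a representative arises, part 63. -/
def tInfoPart63 : Janko1.Tree ℕ := (.node (.node (.node (.node (.node (.node (.leaf 9246829) (.leaf 4717172)) (.node (.leaf 1461890) (.leaf 8548445))) (.node (.node (.leaf 5539424) (.leaf 8588915)) (.node (.leaf 8883837) (.leaf 10897019)))) (.node (.node (.node (.leaf 10983045) (.leaf 10984045)) (.node (.leaf 10839656) (.leaf 11216499))) (.node (.node (.leaf 8729176) (.leaf 2510448)) (.node (.leaf 2155139) (.leaf 5688939))))) (.node (.node (.node (.node (.leaf 2152565) (.leaf 2132608)) (.node (.leaf 8548440) (.leaf 5635691))) (.node (.node (.leaf 4131944) (.leaf 9635944)) (.node (.leaf 2758245) (.leaf 6093957)))) (.node (.node (.node (.leaf 2423912) (.leaf 7012962)) (.node (.leaf 2758717) (.leaf 2759277))) (.node (.node (.leaf 2484856) (.leaf 6465667)) (.node (.leaf 1546872) (.leaf 11434096)))))) (.node (.node (.node (.node (.node (.leaf 8745069) (.leaf 11250283)) (.node (.leaf 8256096) (.leaf 8553571))) (.node (.node (.leaf 11465328) (.leaf 10336848)) (.node (.leaf 11217515) (.leaf 863856)))) (.node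 (.node (.node (.leaf 4983932) (.leaf 3639906)) (.node (.leaf 10772093) (.leaf 313458))) (.node (.node (.leaf 8504427) (.leaf 8128629)) (.node (.leaf 10301043) (.leaf 10651763))))) (.node (.node (.node (.node (.leaf 5082216) (.leaf 3526224)) (.node (.leaf 1580152) (.leaf 6683764))) (.node (.node (.leaf 2202211) (.leaf 6114914)) (.node (.leaf 5941347) (.leaf 6466675)))) (.node (.node (.node (.leaf 11099184) (.leaf 4587112)) (.node (.leaf 1384061) (.leaf 1194115))) (.node (.node (.leaf 6293632) (.leaf 5109371)) (.node (.leaf 4322418) (.leaf 11042378)))))))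

/-- How a representative arises, part 64. -/
def tInfoPart64 : Janko1.Tree ℕ := (.node (.node (.node (.node (.node (.node (.leaf 5833844) (.leaf 2198132)) (.node (.leaf 11031146) (.leaf 382068))) (.node (.node (.leaf 9781338) (.leaf 7456860)) (.node (.leaf 3656305) (.leaf 8713852)))) (.node (.node (.node (.leaf 6209650) (.leaf 3583609)) (.node (.leaf 3725937) (.leaf 3597937))) (.node (.node (.leaf 3577457) (.leaf 9585260)) (.node (.leaf 3605625) (.leaf 3585153))))) (.node (.node (.node (.node (.leaf 1071723) (.leaf 101971)) (.node (.leaf 7396985) (.leaf 4339316))) (.node (.node (.leaf 6672993) (.leaf 3325557)) (.node (.leaf 7408769) (.leaf 9114738)))) (.node (.node (.node (.leaf 1803876) (.leaf 9119330)) (.node (.leaf 5536868) (.leaf 7391852))) (.node (.node (.leaf 6723185) (.leaf 10720860)) (.node (.leaf 259181) (.leaf 4674650)))))) (.node (.node (.node (.node (.node (.leaf 3791993) (.leaf 3394681)) (.node (.leaf 7238260) (.leaf 3788905))) (.node (.node (.leaf 3864692) (.leaf 11277410)) (.node (.leaf 3781737) (.leaf 3798641)))) (.node (.node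 (.node (.leaf 3775601) (.leaf 10633324)) (.node (.leaf 4455516) (.leaf 3830377))) (.node (.node (.leaf 7527996) (.leaf 3467385)) (.node (.leaf 8788092) (.leaf 3860073))))) (.node (.node (.node (.node (.leaf 3838081) (.leaf 3480673)) (.node (.leaf 3459201) (.leaf 9220722))) (.node (.node (.leaf 3642473) (.leaf 3533929)) (.node (.leaf 11467868) (.leaf 8264810)))) (.node (.node (.node (.leaf 3653737) (.leaf 3539553)) (.node (.leaf 3602049) (.leaf 3727993))) (.node (.node (.leaf 3706465) (.leaf 3578993)) (.node (.leaf 3704953) (.leaf 3720825)))))))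

/-- How a representative arises, part 65. -/
def tInfoPart65 : Janko1.Tree ℕ := (.node (.node (.node (.node (.node (.node (.leaf 3591273) (.leaf 7950460)) (.node (.leaf 4928100) (.leaf 1125980))) (.node (.node (.leaf 7296625) (.leaf 3088509)) (.node (.leaf 6931546) (.leaf 9099372)))) (.node (.node (.node (.leaf 10293370) (.leaf 4618866)) (.node (.leaf 2040963) (.leaf 6769796))) (.node (.node (.leaf 11242618) (.leaf 6825577)) (.node (.leaf 9988730) (.leaf 6830169))))) (.node (.node (.node (.node (.leaf 3084885) (.leaf 10005642)) (.node (.leaf 7353977) (.leaf 6520434))) (.node (.node (.leaf 3773049) (.leaf 9466994)) (.node (.leaf 3391073) (.leaf 3406457)))) (.node (.node (.node (.leaf 3779681) (.leaf 3403385)) (.node (.leaf 3802754) (.leaf 7882876))) (.node (.node (.leaf 8509034) (.leaf 3475569)) (.node (.leaf 3848289) (.leaf 3467889)))))) (.node (.node (.node (.node (.node (.leaf 2340450) (.leaf 3843185)) (.node (.leaf 3485273) (.leaf 8190044))) (.node (.node (.leaf 3478633) (.leaf 5416018)) (.node (.leaf 6665340) (.leaf 5410922)))) (.node (.node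 (.node (.leaf 7401089) (.leaf 6671961)) (.node (.leaf 8008796) (.leaf 7294050))) (.node (.node (.leaf 1334893) (.leaf 11484780)) (.node (.leaf 1336429) (.leaf 4174450))))) (.node (.node (.node (.node (.leaf 7413873) (.leaf 6304892)) (.node (.leaf 6722153) (.leaf 7432809))) (.node (.node (.leaf 6727769) (.leaf 6048338)) (.node (.leaf 4675705) (.leaf 4673649)))) (.node (.node (.node (.leaf 4350569) (.leaf 7154818)) (.node (.leaf 4717697) (.leaf 4419185))) (.node (.node (.leaf 4416617) (.leaf 4723825)) (.node (.leaf 60529) (.leaf 2061428)))))))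

/-- How a representative arises, part 66. -/
def tInfoPart66 : Janko1.Tree ℕ := (.node (.node (.node (.node (.node (.node (.leaf 7050874) (.leaf 4483696)) (.node (.leaf 8638576) (.leaf 5951108))) (.node (.node (.leaf 115321) (.leaf 131193)) (.node (.leaf 4496480) (.leaf 128089)))) (.node (.node (.node (.leaf 2395248) (.leaf 2476124)) (.node (.leaf 922729) (.leaf 186473))) (.node (.node (.leaf 460387) (.leaf 10375800)) (.node (.leaf 867433) (.leaf 931441))))) (.node (.node (.node (.node (.leaf 241209) (.leaf 3958388)) (.node (.leaf 1335922) (.leaf 3886685))) (.node (.node (.leaf 469099) (.leaf 2816624)) (.node (.leaf 2132) (.leaf 4636753)))) (.node (.node (.node (.leaf 4948064) (.leaf 4527225)) (.node (.leaf 5852780) (.leaf 10382456))) (.node (.node (.leaf 190033) (.leaf 1201264)) (.node (.leaf 6919272) (.leaf 6275186)))))) (.node (.node (.node (.node (.node (.leaf 938601) (.leaf 3219552)) (.node (.leaf 7097972) (.leaf 4445297))) (.node (.node (.leaf 10171000) (.leaf 2826336)) (.node (.leaf 4515961) (.leaf 4514889)))) (.node (.node (.node (.leaf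 4600425) (.leaf 4494977)) (.node (.leaf 4615297) (.leaf 2854504))) (.node (.node (.leaf 4655737) (.leaf 3453044)) (.node (.leaf 4367393) (.leaf 5751888))))) (.node (.node (.node (.node (.leaf 4348033) (.leaf 3031154)) (.node (.leaf 601700) (.leaf 4728449))) (.node (.node (.leaf 4413569) (.leaf 3769448)) (.node (.leaf 39017) (.leaf 2969708)))) (.node (.node (.node (.leaf 10985056) (.leaf 51833)) (.node (.leaf 2263152) (.leaf 3600))) (.node (.node (.leaf 7471224) (.leaf 109673)) (.node (.leaf 2170488) (.leaf 6684260)))))))

/-- How a representative arises, part 67. -/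
def tInfoPart67 : Janko1.Tree ℕ := (.node (.node (.node (.node (.node (.node (.leaf 2158205) (.leaf 4381297)) (.node (.leaf 1133677) (.leaf 7389216))) (.node (.node (.leaf 6266996) (.leaf 137320)) (.node (.leaf 5225) (.leaf 4398688)))) (.node (.node (.node (.leaf 6226034) (.leaf 1415292)) (.node (.leaf 4385392) (.leaf 907377))) (.node (.node (.leaf 8117328) (.leaf 901721)) (.node (.leaf 5085284) (.leaf 216681))))) (.node (.node (.node (.node (.leaf 3326016) (.leaf 952961)) (.node (.leaf 288353) (.leaf 961121))) (.node (.node (.leaf 3302520) (.leaf 3958906)) (.node (.leaf 241786) (.leaf 4656220)))) (.node (.node (.node (.leaf 8863864) (.leaf 639592)) (.node (.leaf 3575932) (.leaf 4498521))) (.node (.node (.leaf 4595305) (.leaf 4505705)) (.node (.leaf 8128624) (.leaf 7026792)))))) (.node (.node (.node (.node (.node (.leaf 171129) (.leaf 174697)) (.node (.leaf 975977) (.leaf 254569))) (.node (.node (.leaf 11581048) (.leaf 256633)) (.node (.leaf 305769) (.leaf 4582985)))) (.node (.node (.node (.leaf 2896493) (.leaf 4858992)) (.node (.leaf 2728552)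 (.leaf 648808))) (.node (.node (.leaf 1582171) (.leaf 4627033)) (.node (.leaf 7212650) (.leaf 4632697))))) (.node (.node (.node (.node (.leaf 11684987) (.leaf 5934204)) (.node (.leaf 9800243) (.leaf 9405043))) (.node (.node (.leaf 11774053) (.leaf 7193178)) (.node (.leaf 10047587) (.leaf 11774597)))) (.node (.node (.node (.leaf 11695187) (.leaf 7184484)) (.node (.leaf 5616714) (.leaf 3799140))) (.node (.node (.leaf 10668106) (.leaf 11529851)) (.node (.leaf 5838450) (.leaf 9833578)))))))

/-- How a representative arises, part 68. -/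
def tInfoPart68 : Janko1.Tree ℕ := (.node (.node (.node (.node (.node (.node (.leaf 7755355) (.leaf 4247660)) (.node (.leaf 3500114) (.leaf 787589))) (.node (.node (.leaf 8050810) (.leaf 9007706)) (.node (.leaf 3932252) (.leaf 7248995)))) (.node (.node (.node (.leaf 7780986) (.leaf 10657388)) (.node (.leaf 3009146) (.leaf 3941973))) (.node (.node (.leaf 3561587) (.leaf 9077362)) (.node (.leaf 7240819) (.leaf 9807972))))) (.node (.node (.node (.node (.leaf 6674029) (.leaf 5254754)) (.node (.leaf 4407916) (.leaf 8752236))) (.node (.node (.leaf 10966644) (.leaf 11570285)) (.node (.leaf 9890941) (.leaf 9430651)))) (.node (.node (.node (.leaf 9479797) (.leaf 11484779)) (.node (.leaf 5663364) (.leaf 11448450))) (.node (.node (.leaf 2031732) (.leaf 9335403)) (.node (.leaf 10508890) (.leaf 7889005)))))) (.node (.node (.node (.node (.node (.leaf 9438835) (.leaf 6419058)) (.node (.leaf 8582253) (.leaf 1226348))) (.node (.node (.leaf 5069428) (.leaf 7811162)) (.node (.leaf 10966643) (.leaf 8024685)))) (.node (.node (.node (.leaf 11234941) (.leaf 10096740))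 (.node (.leaf 8316523) (.leaf 636530))) (.node (.node (.leaf 705644) (.leaf 8970346)) (.node (.leaf 2958450) (.leaf 10619483))))) (.node (.node (.node (.node (.leaf 10596981) (.leaf 8779901)) (.node (.leaf 3426402) (.leaf 5247060))) (.node (.node (.leaf 6363771) (.leaf 10189418)) (.node (.leaf 6468741) (.leaf 2693236)))) (.node (.node (.node (.leaf 5639277) (.leaf 7735916)) (.node (.leaf 6469693) (.leaf 6374003))) (.node (.node (.leaf 6253186) (.leaf 9027708)) (.node (.leaf 11357314) (.leaf 5197410)))))))

/-- How a representative arises, part 69. -/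
def tInfoPart69 : Janko1.Tree ℕ := (.node (.node (.node (.node (.node (.node (.leaf 6361181) (.leaf 10386546)) (.node (.leaf 10243668) (.leaf 142442))) (.node (.node (.leaf 8913517) (.leaf 8223868)) (.node (.leaf 1740410) (.leaf 830596)))) (.node (.node (.node (.leaf 9567354) (.leaf 10459253)) (.node (.leaf 11199588) (.leaf 8234619))) (.node (.node (.leaf 8934524) (.leaf 8799330)) (.node (.leaf 10579043) (.leaf 8442485))))) (.node (.node (.node (.node (.leaf 7580274) (.leaf 8991845)) (.node (.leaf 1354860) (.leaf 8242779))) (.node (.node (.leaf 9217644) (.leaf 5532275)) (.node (.leaf 3297380) (.leaf 1695835)))) (.node (.node (.node (.leaf 10318972) (.leaf 5317229)) (.node (.leaf 5269107) (.leaf 11312748))) (.node (.node (.leaf 10901626) (.leaf 5524587)) (.node (.leaf 6046827) (.leaf 2809476)))))) (.node (.node (.node (.node (.node (.leaf 1701995) (.leaf 5845621)) (.node (.leaf 1963133) (.leaf 5262963))) (.node (.node (.leaf 11718754) (.leaf 5015669)) (.node (.leaf 1635427) (.leaf 2767459)))) (.node (.node (.node (.leaf 10526816) (.leaf 4665457))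 (.node (.leaf 7073912) (.leaf 6110316))) (.node (.node (.leaf 9570408) (.leaf 4004464)) (.node (.leaf 4417649) (.leaf 4708465))))) (.node (.node (.node (.node (.leaf 4089964) (.leaf 4392017)) (.node (.leaf 34921) (.leaf 4291696))) (.node (.node (.leaf 49753) (.leaf 7357548)) (.node (.leaf 138369) (.leaf 4306520)))) (.node (.node (.node (.leaf 1080361) (.leaf 105081)) (.node (.leaf 1074289) (.leaf 3391072))) (.node (.node (.leaf 3451010) (.leaf 5005944)) (.node (.leaf 390236) (.leaf 978033)))))))

/-- How a representative arises, part 70. -/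
def tInfoPart70 : Janko1.Tree ℕ := (.node (.node (.node (.node (.node (.node (.leaf 309377) (.leaf 2986098)) (.node (.leaf 684162) (.leaf 179813))) (.node (.node (.leaf 3577970) (.leaf 3256933)) (.node (.leaf 6342264) (.leaf 4579937)))) (.node (.node (.node (.leaf 3127424) (.leaf 4701312)) (.node (.leaf 810610) (.leaf 536691))) (.node (.node (.leaf 1095256) (.leaf 3574891)) (.node (.leaf 9262688) (.leaf 3435128))))) (.node (.node (.node (.node (.leaf 120428) (.leaf 1431664)) (.node (.leaf 6280306) (.leaf 10275424))) (.node (.node (.leaf 960121) (.leaf 6706792)) (.node (.leaf 4467313) (.leaf 3076184)))) (.node (.node (.node (.leaf 3953252) (.leaf 7960664)) (.node (.leaf 4542065) (.leaf 4502649))) (.node (.node (.leaf 4607585) (.leaf 11203696)) (.node (.leaf 4614265) (.leaf 4506713)))))) (.node (.node (.node (.node (.node (.leaf 4611153) (.leaf 4095600)) (.node (.leaf 4372593) (.leaf 4368513))) (.node (.node (.leaf 4345969) (.leaf 4403321)) (.node (.leaf 4400201) (.leaf 4412513)))) (.node (.node (.node (.leaf 4406865) (.leaf 61017)) (.node (.leaf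 2905194) (.leaf 55417))) (.node (.node (.leaf 5869160) (.leaf 387144)) (.node (.leaf 998513) (.leaf 116849))))) (.node (.node (.node (.node (.leaf 133737) (.leaf 5187652)) (.node (.leaf 126545) (.leaf 7608952))) (.node (.node (.leaf 2038397) (.leaf 6327938)) (.node (.leaf 8547920) (.leaf 4744305)))) (.node (.node (.node (.leaf 10592376) (.leaf 18545)) (.node (.leaf 4210280) (.leaf 700532))) (.node (.node (.leaf 1032305) (.leaf 155257)) (.node (.leaf 9675880) (.leaf 4193920)))))))

/-- How a representative arises, part 71. -/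
def tInfoPart71 : Janko1.Tree ℕ := (.node (.node (.node (.node (.node (.node (.leaf 85625) (.leaf 5826640)) (.node (.leaf 89185) (.leaf 894073))) (.node (.node (.leaf 207961) (.leaf 290425)) (.node (.leaf 6749808) (.leaf 2846820)))) (.node (.node (.node (.leaf 4447873) (.leaf 4460649)) (.node (.leaf 4517505) (.leaf 4624481))) (.node (.node (.leaf 11090528) (.leaf 3327596)) (.node (.leaf 5862978) (.leaf 3585640))))) (.node (.node (.node (.node (.leaf 11473008) (.leaf 6809200)) (.node (.leaf 6947444) (.leaf 1580672))) (.node (.node (.leaf 935025) (.leaf 298097)) (.node (.leaf 974409) (.leaf 5960834)))) (.node (.node (.node (.leaf 9981504) (.leaf 2656347)) (.node (.leaf 930424) (.leaf 1265757))) (.node (.node (.leaf 4552304) (.leaf 1349724)) (.node (.leaf 4626537) (.leaf 4527737)))))) (.node (.node (.node (.node (.node (.leaf 7957077) (.leaf 7956077)) (.node (.leaf 10012259) (.leaf 9402467))) (.node (.node (.leaf 11437181) (.leaf 10869370)) (.node (.leaf 4465778) (.leaf 5558900)))) (.node (.node (.node (.leaf 9809507) (.leaf 9822325)) (.node (.leaf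 9408637) (.leaf 5617274))) (.node (.node (.leaf 4058220) (.leaf 11529339)) (.node (.leaf 11730035) (.leaf 10797154))))) (.node (.node (.node (.node (.leaf 6203492) (.leaf 7081053)) (.node (.leaf 7079549) (.leaf 7197803))) (.node (.node (.leaf 4432995) (.leaf 8294492)) (.node (.leaf 3427957) (.leaf 9006682)))) (.node (.node (.node (.leaf 3617403) (.leaf 8127082)) (.node (.leaf 10553980) (.leaf 7187035))) (.node (.node (.leaf 1371754) (.leaf 4900461)) (.node (.leaf 235117) (.leaf 4739187)))))))

/-- How a representative arises, part 72. -/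
def tInfoPart72 : Janko1.Tree ℕ := (.node (.node (.node (.node (.node (.node (.leaf 235629) (.leaf 355964)) (.node (.leaf 9861236) (.leaf 11694715))) (.node (.node (.leaf 7604333) (.leaf 9952893)) (.node (.leaf 9430123) (.leaf 9270909)))) (.node (.node (.node (.leaf 3926636) (.leaf 10700412)) (.node (.leaf 11685515) (.leaf 7735915))) (.node (.node (.leaf 5365370) (.leaf 5455476)) (.node (.leaf 7548525) (.leaf 7549045))))) (.node (.node (.node (.node (.leaf 78956) (.leaf 9371771)) (.node (.leaf 11838061) (.leaf 7815786))) (.node (.node (.leaf 10272364) (.leaf 3078770)) (.node (.leaf 6712964) (.leaf 9045618)))) (.node (.node (.node (.leaf 9064021) (.leaf 896628)) (.node (.leaf 8243835) (.leaf 2697340))) (.node (.node (.leaf 9977948) (.leaf 2959466)) (.node (.leaf 11266684) (.leaf 4862060)))))) (.node (.node (.node (.node (.node (.leaf 9253948) (.leaf 10946677)) (.node (.leaf 1160802) (.leaf 8288869))) (.node (.node (.leaf 2091629) (.leaf 5943933)) (.node (.leaf 3076733) (.leaf 6418059)))) (.node (.node (.node (.leaf 11412586) (.leaf 1764483))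 (.node (.leaf 5116021) (.leaf 10142812))) (.node (.node (.leaf 5211765) (.leaf 6510180)) (.node (.leaf 4608628) (.leaf 8138876))))) (.node (.node (.node (.node (.leaf 3420284) (.leaf 9328236)) (.node (.leaf 2510962) (.leaf 127602))) (.node (.node (.leaf 8150645) (.leaf 8334458)) (.node (.leaf 10057852) (.leaf 10618499)))) (.node (.node (.node (.leaf 11332732) (.leaf 8707189)) (.node (.leaf 8865915) (.leaf 4962940))) (.node (.node (.leaf 11143299) (.leaf 8278643)) (.node (.leaf 10741869) (.leaf 8208507)))))))

/-- How a representative arises, part 73. -/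
def tInfoPart73 : Janko1.Tree ℕ := (.node (.node (.node (.node (.node (.node (.leaf 10742373) (.leaf 4145250)) (.node (.leaf 11604076) (.leaf 8877171))) (.node (.node (.leaf 9633378) (.leaf 8811131)) (.node (.leaf 6055019) (.leaf 6373483)))) (.node (.node (.node (.leaf 6251125) (.leaf 1694315)) (.node (.leaf 5269595) (.leaf 11178572))) (.node (.node (.leaf 2448509) (.leaf 6045291)) (.node (.leaf 6364259) (.leaf 799372))))) (.node (.node (.node (.node (.leaf 5745237) (.leaf 1569387)) (.node (.leaf 11449460) (.leaf 6572149))) (.node (.node (.leaf 11682403) (.leaf 484988)) (.node (.leaf 9801811) (.leaf 3647056)))) (.node (.node (.node (.leaf 10648696) (.leaf 2286170)) (.node (.leaf 9369723) (.leaf 3744864))) (.node (.node (.leaf 11775101) (.leaf 11692147)) (.node (.leaf 6130744) (.leaf 11702901)))))) (.node (.node (.node (.node (.node (.leaf 216680) (.leaf 2299000)) (.node (.leaf 10029157) (.leaf 2158706))) (.node (.node (.leaf 7572080) (.leaf 11703933)) (.node (.leaf 341602) (.leaf 4524664)))) (.node (.node (.node (.leaf 4694643) (.leaf 11506808))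 (.node (.leaf 4477037) (.leaf 5223552))) (.node (.node (.leaf 3908204) (.leaf 1239136)) (.node (.leaf 3223160) (.leaf 5238896))))) (.node (.node (.node (.node (.leaf 10413144) (.leaf 4685427)) (.node (.leaf 752240) (.leaf 7816256))) (.node (.node (.leaf 6676573) (.leaf 7238771)) (.node (.leaf 922229) (.leaf 595579)))) (.node (.node (.node (.leaf 3751547) (.leaf 9895509)) (.node (.leaf 11571285) (.leaf 9483901))) (.node (.node (.leaf 5214840) (.leaf 7060084)) (.node (.leaf 6912096) (.leaf 9147520)))))))

/-- How a representative arises, part 74. -/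
def tInfoPart74 : Janko1.Tree ℕ := (.node (.node (.node (.node (.node (.node (.leaf 9428091) (.leaf 7690867)) (.node (.leaf 9482853) (.leaf 11483251))) (.node (.node (.leaf 9332859) (.leaf 7891061)) (.node (.leaf 9691773) (.leaf 10925139)))) (.node (.node (.node (.leaf 8583765) (.leaf 5792856)) (.node (.leaf 8285307) (.leaf 8026709))) (.node (.node (.leaf 8584845) (.leaf 10678389)) (.node (.leaf 10722408) (.leaf 10934843))))) (.node (.node (.node (.node (.leaf 11161717) (.leaf 4552810)) (.node (.leaf 4543578) (.leaf 6034512))) (.node (.node (.leaf 61016) (.leaf 4968540)) (.node (.leaf 2182736) (.leaf 9808488)))) (.node (.node (.node (.leaf 2216053) (.leaf 8400488)) (.node (.leaf 6234236) (.leaf 7384136))) (.node (.node (.leaf 6411875) (.leaf 1189485)) (.node (.leaf 1644627) (.leaf 6470781)))))) (.node (.node (.node (.node (.node (.leaf 2763371) (.leaf 2650218)) (.node (.leaf 7500880) (.leaf 88696))) (.node (.node (.leaf 881762) (.leaf 1700451)) (.node (.leaf 2565731) (.leaf 5278291)))) (.node (.node (.node (.leaf 6420595) (.leaf 50744)) (.node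 (.leaf 1634403) (.leaf 2572381))) (.node (.node (.leaf 11145851) (.leaf 8367221)) (.node (.leaf 10968691) (.leaf 11016829))))) (.node (.node (.node (.node (.leaf 8365685) (.leaf 8314499)) (.node (.leaf 11138171) (.leaf 8995413))) (.node (.node (.leaf 2733160) (.leaf 8867448)) (.node (.leaf 8213627) (.leaf 8444037)))) (.node (.node (.node (.leaf 10961523) (.leaf 10616915)) (.node (.leaf 10253445) (.leaf 4810864))) (.node (.node (.leaf 8321075) (.leaf 6150253)) (.node (.leaf 6366843) (.leaf 1566843)))))))

/-- How a representative arises, part 75. -/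
def tInfoPart75 : Janko1.Tree ℕ := (.node (.node (.node (.node (.node (.node (.leaf 3332736) (.leaf 11570280)) (.node (.leaf 6148197) (.leaf 8082024))) (.node (.node (.leaf 2957949) (.leaf 1964637)) (.node (.leaf 8860752) (.leaf 10119272)))) (.node (.node (.node (.leaf 4817512) (.leaf 11229304)) (.node (.leaf 2958453) (.leaf 2111090))) (.node (.node (.leaf 2701392) (.leaf 4801080)) (.node (.leaf 6852729) (.leaf 4471420))))) (.node (.node (.node (.node (.leaf 6866561) (.leaf 7171697)) (.node (.leaf 7251580) (.leaf 2146940))) (.node (.node (.leaf 8641634) (.leaf 6912097)) (.node (.leaf 6908521) (.leaf 3672698)))) (.node (.node (.node (.leaf 4034129) (.leaf 3161697)) (.node (.leaf 10603100) (.leaf 4108401))) (.node (.node (.leaf 4118121) (.leaf 4095089)) (.node (.leaf 10264154) (.leaf 10269306)))))) (.node (.node (.node (.node (.node (.leaf 4231764) (.leaf 11543162)) (.node (.leaf 9844332) (.leaf 745061))) (.node (.node (.leaf 3949137) (.leaf 4642394)) (.node (.leaf 11633772) (.leaf 4629050)))) (.node (.node (.node (.leaf 3893869) (.leaf 4008564))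 (.node (.leaf 876133) (.leaf 11606130))) (.node (.node (.leaf 11602562) (.leaf 3506283)) (.node (.leaf 3893381) (.leaf 682075))))) (.node (.node (.node (.node (.leaf 7135857) (.leaf 7612548)) (.node (.leaf 3909225) (.leaf 3925617))) (.node (.node (.leaf 3271745) (.leaf 7488116)) (.node (.leaf 9173578) (.leaf 10972228)))) (.node (.node (.node (.leaf 2743410) (.leaf 3660404)) (.node (.leaf 978514) (.leaf 10538092))) (.node (.node (.leaf 9248874) (.leaf 7045713)) (.node (.leaf 2869882) (.leaf 7107177)))))))

/-- How a representative arises, part 76. -/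
def tInfoPart76 : Janko1.Tree ℕ := (.node (.node (.node (.node (.node (.node (.leaf 1116298) (.leaf 7022201)) (.node (.leaf 1119338) (.leaf 6850153))) (.node (.node (.leaf 6863449) (.leaf 10410620)) (.node (.leaf 6963306) (.leaf 652892)))) (.node (.node (.node (.leaf 6977130) (.leaf 6915689)) (.node (.leaf 11090044) (.leaf 4060769))) (.node (.node (.leaf 4037745) (.leaf 3179113)) (.node (.leaf 3170945) (.leaf 6855762))))) (.node (.node (.node (.node (.leaf 6853732) (.leaf 4127865)) (.node (.leaf 5006962) (.leaf 6729316))) (.node (.node (.leaf 6873697) (.leaf 8925818)) (.node (.leaf 3290754) (.leaf 4790916)))) (.node (.node (.node (.leaf 1140349) (.leaf 7236209)) (.node (.leaf 9963124) (.leaf 6317172))) (.node (.node (.leaf 8859746) (.leaf 3184754)) (.node (.leaf 4085345) (.leaf 4144241)))))) (.node (.node (.node (.node (.node (.leaf 1446002) (.leaf 3246705)) (.node (.leaf 3906681) (.leaf 6088290))) (.node (.node (.leaf 6965364) (.leaf 11433084)) (.node (.leaf 4232802) (.leaf 3283049)))) (.node (.node (.node (.leaf 3358825) (.leaf 3340921)) (.node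 (.leaf 4739188) (.leaf 11803746))) (.node (.node (.leaf 3960441) (.leaf 6980225)) (.node (.leaf 6972529) (.leaf 7048321))))) (.node (.node (.node (.node (.leaf 7062641) (.leaf 10616418)) (.node (.leaf 11897978) (.leaf 5312124))) (.node (.node (.leaf 3284572) (.leaf 451162)) (.node (.leaf 10325116) (.leaf 3953753)))) (.node (.node (.node (.leaf 1111148) (.leaf 3362913)) (.node (.leaf 1774189) (.leaf 4891252))) (.node (.node (.leaf 591946) (.leaf 7039609)) (.node (.leaf 6834300) (.leaf 7044185)))))))

/-- How a representative arises, part 77. -/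
def tInfoPart77 : Janko1.Tree ℕ := (.node (.node (.node (.node (.node (.node (.leaf 10514536) (.leaf 7959677)) (.node (.leaf 10013803) (.leaf 3757154))) (.node (.node (.leaf 11517563) (.leaf 489050)) (.node (.leaf 3962440) (.leaf 9758861)))) (.node (.node (.node (.leaf 11662416) (.leaf 7701627)) (.node (.leaf 4288120) (.leaf 9811579))) (.node (.node (.leaf 9411709) (.leaf 11726459)) (.node (.leaf 11499101) (.leaf 7744093))))) (.node (.node (.node (.node (.leaf 10229344) (.leaf 3441256)) (.node (.leaf 7195763) (.leaf 1399400))) (.node (.node (.leaf 374845) (.leaf 4580973)) (.node (.leaf 8192616) (.leaf 3742331)))) (.node (.node (.node (.leaf 11401272) (.leaf 4698184)) (.node (.leaf 10019448) (.leaf 6874723))) (.node (.node (.leaf 5645420) (.leaf 4901477)) (.node (.leaf 4699762) (.leaf 7411309)))))) (.node (.node (.node (.node (.node (.leaf 1468514) (.leaf 11631213)) (.node (.leaf 7607925) (.leaf 1426544))) (.node (.node (.leaf 9956469) (.leaf 9955437)) (.node (.leaf 9284720) (.leaf 10059371)))) (.node (.node (.node (.leaf 1662068) (.leaf 9359451))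 (.node (.leaf 1602690) (.leaf 11682915))) (.node (.node (.leaf 7947376) (.leaf 11157080)) (.node (.leaf 10047088) (.leaf 4742784))))) (.node (.node (.node (.node (.leaf 9437811) (.leaf 11840125)) (.node (.leaf 10619480) (.leaf 9066589))) (.node (.node (.leaf 10329709) (.leaf 5229188)) (.node (.leaf 8283235) (.leaf 4042824)))) (.node (.node (.node (.leaf 8802427) (.leaf 11710544)) (.node (.leaf 10933875) (.leaf 2521168))) (.node (.node (.leaf 405096) (.leaf 8205931)) (.node (.leaf 4970594) (.leaf 7613048)))))))

/-- How a representative arises, part 78. -/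
def tInfoPart78 : Janko1.Tree ℕ := (.node (.node (.node (.node (.node (.node (.leaf 3077757) (.leaf 1002586)) (.node (.leaf 4103240) (.leaf 8539216))) (.node (.node (.leaf 2125424) (.leaf 5120117)) (.node (.leaf 5946997) (.leaf 6441572)))) (.node (.node (.node (.leaf 3256930) (.leaf 886370)) (.node (.leaf 6366291) (.leaf 7641200))) (.node (.node (.leaf 9661560) (.leaf 5212269)) (.node (.leaf 5214349) (.leaf 1142396))))) (.node (.node (.node (.node (.leaf 322136) (.leaf 3145338)) (.node (.leaf 5135464) (.leaf 10593883))) (.node (.node (.leaf 1623144) (.leaf 11468400)) (.node (.leaf 10969723) (.leaf 11181675)))) (.node (.node (.node (.leaf 3564664) (.leaf 11085437)) (.node (.leaf 1525336) (.leaf 4905572))) (.node (.node (.leaf 1068132) (.leaf 8092773)) (.node (.leaf 10583659) (.leaf 7921256)))))) (.node (.node (.node (.node (.node (.leaf 11306069) (.leaf 2962016)) (.node (.leaf 8323171) (.leaf 5224019))) (.node (.node (.leaf 9356912) (.leaf 3615864)) (.node (.leaf 2452613) (.leaf 6253189)))) (.node (.node (.node (.leaf 6251653) (.leaf 6097531))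 (.node (.leaf 6420099) (.leaf 8219256))) (.node (.node (.leaf 1548928) (.leaf 5215363)) (.node (.leaf 8999024) (.leaf 6574725))))) (.node (.node (.node (.node (.leaf 2109546) (.leaf 6412891)) (.node (.leaf 7179369) (.leaf 9490546))) (.node (.node (.leaf 2084474) (.leaf 8645212)) (.node (.leaf 6846577) (.leaf 1889396)))) (.node (.node (.node (.leaf 6895721) (.leaf 4119676)) (.node (.leaf 7444060) (.leaf 3167857))) (.node (.node (.leaf 10739276) (.leaf 4059233)) (.node (.leaf 1957978) (.leaf 4056153)))))))

/-- How a representative arises, part 79. -/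
def tInfoPart79 : Janko1.Tree ℕ := (.node (.node (.node (.node (.node (.node (.leaf 4035177) (.leaf 3230817)) (.node (.leaf 2191466) (.leaf 4094057))) (.node (.node (.leaf 3886161) (.leaf 3941481)) (.node (.leaf 3312233) (.leaf 3892849)))) (.node (.node (.node (.leaf 5064826) (.leaf 7064700)) (.node (.leaf 4001385) (.leaf 323669))) (.node (.node (.leaf 3367001) (.leaf 6993001)) (.node (.leaf 5160546) (.leaf 11605626))))) (.node (.node (.node (.node (.leaf 7094377) (.leaf 11800180)) (.node (.leaf 6610554) (.leaf 7036017))) (.node (.node (.leaf 544875) (.leaf 4374652)) (.node (.leaf 368252) (.leaf 2216572)))) (.node (.node (.node (.leaf 3902569) (.leaf 148084)) (.node (.leaf 2494580) (.leaf 8180322))) (.node (.node (.leaf 11619964) (.leaf 973930)) (.node (.leaf 3967601) (.leaf 8421428)))))) (.node (.node (.node (.node (.node (.leaf 8237162) (.leaf 6968945)) (.node (.leaf 3978868) (.leaf 6966385))) (.node (.node (.leaf 7031417) (.leaf 7112297)) (.node (.leaf 10792572) (.leaf 7028841)))) (.node (.node (.node (.leaf 8576124) (.leaf 7124081)) (.node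 (.leaf 11297402) (.leaf 7164537))) (.node (.node (.leaf 4680834) (.leaf 11302522)) (.node (.leaf 7175273) (.leaf 4697706))))) (.node (.node (.node (.node (.leaf 7206505) (.leaf 4796508)) (.node (.leaf 7203969) (.leaf 907380))) (.node (.node (.leaf 2710644) (.leaf 3166329)) (.node (.leaf 4061817) (.leaf 7776900)))) (.node (.node (.node (.leaf 9974836) (.leaf 4038769)) (.node (.leaf 4053609) (.leaf 3232345))) (.node (.node (.leaf 6645868) (.leaf 4126841)) (.node (.leaf 3211857) (.leaf 1433180)))))))

/-- How a representative arises, part 80. -/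
def tInfoPart80 : Janko1.Tree ℕ := (.node (.node (.node (.node (.node (.node (.leaf 4113497) (.leaf 6873161)) (.node (.leaf 1521275) (.leaf 2651771))) (.node (.node (.leaf 7190649) (.leaf 5051004)) (.node (.leaf 3028581) (.leaf 11075196)))) (.node (.node (.node (.leaf 7250041) (.leaf 2043477)) (.node (.leaf 7868020) (.leaf 2685562))) (.node (.node (.leaf 3248745) (.leaf 4083313)) (.node (.leaf 6087802) (.leaf 3899977))))) (.node (.node (.node (.node (.leaf 5318268) (.leaf 6074474)) (.node (.leaf 1557100) (.leaf 3993721))) (.node (.node (.leaf 9082492) (.leaf 3360377)) (.node (.leaf 3971193) (.leaf 10052204)))) (.node (.node (.node (.leaf 5489778) (.leaf 3352697)) (.node (.leaf 6950481) (.leaf 9774674))) (.node (.node (.leaf 6963305) (.leaf 9770618)) (.node (.leaf 2828900) (.leaf 10337892)))))) (.node (.node (.node (.node (.node (.leaf 10467428) (.leaf 3309689)) (.node (.leaf 11421292) (.leaf 3260521))) (.node (.node (.leaf 3318385) (.leaf 3727458)) (.node (.leaf 1576027) (.leaf 8461946)))) (.node (.node (.node (.leaf 6625372) (.leaf 4734060))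 (.node (.leaf 593010) (.leaf 2289253))) (.node (.node (.leaf 8687674) (.leaf 1272437)) (.node (.leaf 1272957) (.leaf 7095361))))) (.node (.node (.node (.node (.leaf 1373300) (.leaf 3854962)) (.node (.leaf 3595892) (.leaf 7138945))) (.node (.node (.leaf 497241) (.leaf 650345)) (.node (.leaf 488049) (.leaf 642161)))) (.node (.node (.node (.leaf 480865) (.leaf 639089)) (.node (.leaf 578641) (.leaf 201330))) (.node (.node (.leaf 3706984) (.leaf 571497)) (.node (.leaf 694897) (.leaf 569465)))))))

/-- How a representative arises, part 81. -/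
def tInfoPart81 : Janko1.Tree ℕ := (.node (.node (.node (.node (.node (.node (.leaf 688233) (.leaf 4444280)) (.node (.leaf 9874528) (.leaf 4761705))) (.node (.node (.leaf 7371860) (.leaf 4526192)) (.node (.leaf 2355824) (.leaf 285824)))) (.node (.node (.node (.leaf 262260) (.leaf 5225082)) (.node (.leaf 470651) (.leaf 11507816))) (.node (.node (.leaf 406108) (.leaf 10414200)) (.node (.leaf 4246633) (.leaf 3253872))))) (.node (.node (.node (.node (.leaf 8055416) (.leaf 1205360)) (.node (.leaf 4235897) (.leaf 6923856))) (.node (.node (.leaf 747625) (.leaf 8903800)) (.node (.leaf 382545) (.leaf 5644404)))) (.node (.node (.node (.leaf 373873) (.leaf 4921448)) (.node (.leaf 846465) (.leaf 387673))) (.node (.node (.leaf 2181740) (.leaf 395897)) (.node (.leaf 4180097) (.leaf 4871777)))))) (.node (.node (.node (.node (.node (.leaf 10402912) (.leaf 4934241)) (.node (.leaf 6913144) (.leaf 351857))) (.node (.node (.leaf 346225) (.leaf 776800)) (.node (.leaf 429689) (.leaf 517193)))) (.node (.node (.node (.leaf 631409) (.leaf 5228148)) (.node (.leaf 623737)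 (.leaf 500321))) (.node (.node (.leaf 620657) (.leaf 10722856)) (.node (.leaf 5711464) (.leaf 553041))))) (.node (.node (.node (.node (.leaf 549993) (.leaf 7392880)) (.node (.leaf 4755058) (.leaf 4258409))) (.node (.node (.leaf 4782177) (.leaf 935028)) (.node (.leaf 9809504) (.leaf 4326529)))) (.node (.node (.node (.leaf 20584) (.leaf 3166332)) (.node (.leaf 4314737) (.leaf 661089))) (.node (.node (.leaf 666721) (.leaf 463473)) (.node (.leaf 654961) (.leaf 3023450)))))))

/-- How a representative arises, part 82. -/
def tInfoPart82 : Janko1.Tree ℕ := (.node (.node (.node (.node (.node (.node (.leaf 5702744) (.leaf 10712696)) (.node (.leaf 3809912) (.leaf 671361))) (.node (.node (.leaf 6442084) (.leaf 686700)) (.node (.leaf 10978376) (.leaf 9800240)))) (.node (.node (.node (.leaf 2209376) (.leaf 2523781)) (.node (.leaf 4848745) (.leaf 7466104))) (.node (.node (.leaf 6850156) (.leaf 10483312)) (.node (.leaf 4150865) (.leaf 4879977))))) (.node (.node (.node (.node (.leaf 5644906) (.leaf 9190528)) (.node (.leaf 4218969) (.leaf 1307240))) (.node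 (.node (.leaf 1068660) (.leaf 10127992)) (.node (.leaf 766561) (.leaf 2765424)))) (.node (.node (.node (.leaf 680528) (.leaf 758897)) (.node (.leaf 354929) (.leaf 420993))) (.node (.node (.leaf 413257) (.leaf 4191857)) (.node (.leaf 4198001) (.leaf 8113264)))))) (.node (.node (.node (.node (.node (.leaf 3272808) (.leaf 4964481)) (.node (.leaf 1584227) (.leaf 817252))) (.node (.node (.leaf 3949138) (.leaf 4952689)) (.node (.leaf 2758712) (.leaf 267882)))) (.node (.node (.node (.leaf 786025) (.leaf 7769208)) (.node (.leaf 320593) (.leaf 4802168))) (.node (.node (.leaf 812649) (.leaf 644200)) (.node (.leaf 445033) (.leaf 4079738))))) (.node (.node (.node (.node (.leaf 11490931) (.leaf 10020939)) (.node (.leaf 227452) (.leaf 11763317))) (.node (.node (.leaf 9519212) (.leaf 4118124)) (.node (.leaf 9348221) (.leaf 7683125)))) (.node (.node (.node (.leaf 8271498) (.leaf 11710549)) (.node (.leaf 7668323) (.leaf 8717938))) (.node (.node (.leaf 8674388) (.leaf 9370227)) (.node (.leaf 6215276) (.leaf 3813501)))))))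

/-- How a representative arises, part 83. -/
def tInfoPart83 : Janko1.Tree ℕ := (.node (.node (.node (.node (.node (.node (.leaf 7188091) (.leaf 2279532)) (.node (.leaf 4850810) (.leaf 10518148))) (.node (.node (.leaf 5628532) (.leaf 5387386)) (.node (.leaf 6817906) (.leaf 910461)))) (.node (.node (.node (.leaf 10480234) (.leaf 3552899)) (.node (.leaf 4745843) (.leaf 4184685))) (.node (.node (.leaf 11197530) (.leaf 585323)) (.node (.leaf 368748) (.leaf 9316970))))) (.node (.node (.node (.node (.leaf 1245810) (.leaf 8612452)) (.node (.leaf 3473530) (.leaf 11576917))) (.node (.node (.leaf 7815789) (.leaf 9439867)) (.node (.leaf 9899133) (.leaf 9386594)))) (.node (.node (.node (.leaf 11654252) (.leaf 1379970)) (.node (.leaf 9448548) (.leaf 3977844))) (.node (.node (.leaf 7879277) (.leaf 7352956)) (.node (.leaf 852578) (.leaf 9087586)))))) (.node (.node (.node (.node (.node (.leaf 7593588) (.leaf 7825522)) (.node (.leaf 7879773) (.leaf 10667085))) (.node (.node (.leaf 11228789) (.leaf 11436146)) (.node (.leaf 10667637) (.leaf 8799851)))) (.node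 (.node (.node (.leaf 8788581) (.leaf 4808810)) (.node (.leaf 11166325) (.leaf 10606205))) (.node (.node (.leaf 11178571) (.leaf 10401859)) (.node (.leaf 10379370) (.leaf 8809083))))) (.node (.node (.node (.node (.leaf 1433708) (.leaf 792178)) (.node (.leaf 9168508) (.leaf 3052650))) (.node (.node (.leaf 1559683) (.leaf 2205293)) (.node (.leaf 5629557) (.leaf 10113652)))) (.node (.node (.node (.leaf 7866988) (.leaf 656996)) (.node (.leaf 2204781) (.leaf 8882820))) (.node (.node (.leaf 7736914) (.leaf 6368869)) (.node (.leaf 10392684) (.leaf 5533309)))))))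

/-- How a representative arises, part 84. -/
def tInfoPart84 : Janko1.Tree ℕ := (.node (.node (.node (.node (.node (.node (.leaf 1175668) (.leaf 2646651)) (.node (.leaf 6370917) (.leaf 8372845))) (.node (.node (.leaf 5317228) (.leaf 5870690)) (.node (.leaf 10469469) (.leaf 8923253)))) (.node (.node (.node (.leaf 11025021) (.leaf 8875635)) (.node (.leaf 10466941) (.leaf 10915418))) (.node (.node (.leaf 10013236) (.leaf 4893796)) (.node (.leaf 11739242) (.leaf 9366660))))) (.node (.node (.node (.node (.leaf 11600500) (.leaf 8435333)) (.node (.leaf 1837669) (.leaf 8742530))) (.node (.node (.leaf 1703035) (.leaf 2581091)) (.node (.leaf 5100676) (.leaf 3106404)))) (.node (.node (.node (.leaf 306778) (.leaf 5217387)) (.node (.leaf 7933052) (.leaf 2622034))) (.node (.node (.leaf 4676212) (.leaf 9654362)) (.node (.leaf 9236100) (.leaf 4126842)))))) (.node (.node (.node (.node (.node (.leaf 1627771) (.leaf 2946189)) (.node (.leaf 513129) (.leaf 486004))) (.node (.node (.leaf 641633) (.leaf 563305)) (.node (.leaf 2003568) (.leaf 697449)))) (.node (.node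 (.node (.leaf 196682) (.leaf 10544248)) (.node (.leaf 10872432) (.leaf 2046068))) (.node (.node (.leaf 2573416) (.leaf 8761456)) (.node (.leaf 2403418) (.leaf 5964908))))) (.node (.node (.node (.node (.leaf 570992) (.leaf 4821105)) (.node (.leaf 4332656) (.leaf 4193921))) (.node (.node (.leaf 4902001) (.leaf 4896345)) (.node (.leaf 3907700) (.leaf 1655412)))) (.node (.node (.node (.leaf 3381373) (.leaf 3383421)) (.node (.leaf 3464288) (.leaf 5065808))) (.node (.node (.leaf 6355992) (.leaf 790633)) (.node (.leaf 20084) (.leaf 4917890)))))))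

/-- How a representative arises, part 85. -/
def tInfoPart85 : Janko1.Tree ℕ := (.node (.node (.node (.node (.node (.node (.leaf 10056272) (.leaf 395377)) (.node (.leaf 5866092) (.leaf 4159065))) (.node (.node (.leaf 5011576) (.leaf 4941945)) (.node (.leaf 4932185) (.leaf 4216953)))) (.node (.node (.node (.leaf 698994) (.leaf 7946864)) (.node (.leaf 3034176) (.leaf 755833))) (.node (.node (.leaf 10010744) (.leaf 439401)) (.node (.leaf 838769) (.leaf 437889))))) (.node (.node (.node (.node (.leaf 9074280) (.leaf 832121)) (.node (.leaf 5022852) (.leaf 2100344))) (.node (.node (.leaf 484985) (.leaf 582257)) (.node (.leaf 2078320) (.leaf 572017)))) (.node (.node (.node (.leaf 713825) (.leaf 564321)) (.node (.leaf 5537920) (.leaf 4770393))) (.node (.node (.leaf 4590684) (.leaf 8732776)) (.node (.leaf 4212344) (.leaf 1136756)))))) (.node (.node (.node (.node (.node (.leaf 7614024) (.leaf 369272)) (.node (.leaf 5189674) (.leaf 3023986))) (.node (.node (.leaf 662593) (.leaf 8538744)) (.node (.leaf 518769) (.leaf 761962)))) (.node (.node (.node (.leaf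 541817) (.leaf 5501032)) (.node (.leaf 1284714) (.leaf 432224))) (.node (.node (.leaf 4296809) (.leaf 4793473)) (.node (.leaf 4280937) (.leaf 4800633))))) (.node (.node (.node (.node (.leaf 5822584) (.leaf 2650221)) (.node (.leaf 2648693) (.leaf 2454104))) (.node (.node (.leaf 8691272) (.leaf 2715195)) (.node (.leaf 1154146) (.leaf 3530372)))) (.node (.node (.node (.leaf 8262264) (.leaf 4887161)) (.node (.leaf 3590752) (.leaf 10343040))) (.node (.node (.leaf 4879449) (.leaf 4921449)) (.node (.leaf 4211289) (.leaf 1524328)))))))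

/-- How a representative arises, part 86. -/
def tInfoPart86 : Janko1.Tree ℕ := (.node (.node (.node (.node (.node (.node (.leaf 9334904) (.leaf 4910713)) (.node (.leaf 5645938) (.leaf 5085792))) (.node (.node (.leaf 370817) (.leaf 4638792)) (.node (.leaf 5124196) (.leaf 876664)))) (.node (.node (.node (.leaf 8973416) (.leaf 411241)) (.node (.leaf 11462248) (.leaf 2402413))) (.node (.node (.leaf 3617896) (.leaf 9354864)) (.node (.leaf 2655859) (.leaf 1549936))))) (.node (.node (.node (.node (.leaf 4966489) (.leaf 3523160)) (.node (.leaf 4946041) (.leaf 5111376))) (.node (.node (.leaf 332401) (.leaf 3010648)) (.node (.leaf 317057) (.leaf 4594288)))) (.node (.node (.node (.leaf 271970) (.leaf 853113)) (.node (.leaf 6796404) (.leaf 900728))) (.node (.node (.leaf 7879768) (.leaf 845425)) (.node (.leaf 11429989) (.leaf 8354930)))))) (.node (.node (.node (.node (.node (.leaf 5949020) (.leaf 9611874)) (.node (.leaf 9614397) (.leaf 1827946))) (.node (.node (.leaf 9747581) (.leaf 3850836)) (.node (.leaf 7521402) (.leaf 2147940)))) (.node (.node (.node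 (.leaf 7947381) (.leaf 7689827)) (.node (.leaf 11483747) (.leaf 9418853))) (.node (.node (.leaf 11685979) (.leaf 9403003)) (.node (.leaf 9617004) (.leaf 2432578))))) (.node (.node (.node (.node (.leaf 7748213) (.leaf 9831557)) (.node (.leaf 7763075) (.leaf 10407546))) (.node (.node (.leaf 380541) (.leaf 527979)) (.node (.leaf 9844860) (.leaf 5422684)))) (.node (.node (.node (.leaf 6301786) (.leaf 7272556)) (.node (.leaf 4851322) (.leaf 9399900))) (.node (.node (.leaf 6804082) (.leaf 4895869)) (.node (.leaf 7397981) (.leaf 6941275)))))))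

/-- How a representative arises, part 87. -/
def tInfoPart87 : Janko1.Tree ℕ := (.node (.node (.node (.node (.node (.node (.leaf 7397501) (.leaf 4945010)) (.node (.leaf 3744867) (.leaf 3616339))) (.node (.node (.leaf 3472506) (.leaf 7734395)) (.node (.leaf 9963125) (.leaf 9718372)))) (.node (.node (.node (.leaf 11519107) (.leaf 5623924)) (.node (.leaf 9440891) (.leaf 8274556))) (.node (.node (.leaf 10177629) (.leaf 9811051)) (.node (.leaf 8098938) (.leaf 7540349))))) (.node (.node (.node (.node (.leaf 7723635) (.leaf 7657083)) (.node (.leaf 11530363) (.leaf 5848684))) (.node (.node (.leaf 7453284) (.leaf 8709748)) (.node (.leaf 10941059) (.leaf 6341730)))) (.node (.node (.node (.leaf 11399300) (.leaf 11166834)) (.node (.leaf 4578412) (.leaf 6761082))) (.node (.node (.leaf 5315666) (.leaf 8506989)) (.node (.leaf 11144827) (.leaf 8776315)))))) (.node (.node (.node (.node (.node (.leaf 5004420) (.leaf 10609787)) (.node (.leaf 8315987) (.leaf 8157820))) (.node (.node (.leaf 9115228) (.leaf 3051634)) (.node (.leaf 3229300) (.leaf 6372955)))) (.node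 (.node (.node (.leaf 1500788) (.leaf 11527268)) (.node (.leaf 4789876) (.leaf 6264924))) (.node (.node (.leaf 7730292) (.leaf 2083421)) (.node (.leaf 1628259) (.leaf 6046323))))) (.node (.node (.node (.node (.leaf 2737748) (.leaf 2709619)) (.node (.leaf 11249788) (.leaf 2580595))) (.node (.node (.leaf 9997444) (.leaf 5202028)) (.node (.leaf 5574747) (.leaf 9848442)))) (.node (.node (.node (.leaf 5879410) (.leaf 8715373)) (.node (.leaf 8717421) (.leaf 11178083))) (.node (.node (.leaf 10378843) (.leaf 10587243)) (.node (.leaf 4520554) (.leaf 8081501)))))))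

/-- How a representative arises, part 88. -/
def tInfoPart88 : Janko1.Tree ℕ := (.node (.node (.node (.node (.node (.node (.leaf 10910850) (.leaf 10976859)) (.node (.leaf 7221874) (.leaf 8641637))) (.node (.node (.leaf 8864875) (.leaf 11741306)) (.node (.leaf 1446005) (.leaf 1448565)))) (.node (.node (.node (.leaf 5523051) (.leaf 8741970)) (.node (.leaf 3982962) (.leaf 2458229))) (.node (.node (.leaf 9589874) (.leaf 11316860)) (.node (.leaf 5219427) (.leaf 7569002))))) (.node (.node (.node (.node (.leaf 5532795) (.leaf 1312349)) (.node (.leaf 7792236) (.leaf 4125802))) (.node (.node (.leaf 6565997) (.leaf 8383098)) (.node (.leaf 6565485) (.leaf 2759795)))) (.node (.node (.node (.leaf 3688544) (.leaf 11765349)) (.node (.leaf 11727963) (.leaf 9439864))) (.node (.node (.leaf 11805792) (.leaf 9130093)) (.node (.leaf 7756387) (.leaf 10012763)))))) (.node (.node (.node (.node (.node (.leaf 7261306) (.leaf 10041469)) (.node (.leaf 4495488) (.leaf 9916024))) (.node (.node (.leaf 2588788) (.leaf 10039909)) (.node (.leaf 11713677) (.leaf 7583352))))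 (.node (.node (.node (.leaf 3816541) (.leaf 7186035)) (.node (.leaf 6995045) (.leaf 664699))) (.node (.node (.leaf 389236) (.leaf 3818093)) (.node (.leaf 2737250) (.leaf 5606516))))) (.node (.node (.node (.node (.leaf 6998141) (.leaf 4387451)) (.node (.leaf 7194739) (.leaf 4869232))) (.node (.node (.leaf 3936373) (.leaf 3550315)) (.node (.leaf 4748923) (.leaf 2857058)))) (.node (.node (.node (.leaf 4949104) (.leaf 6603896)) (.node (.leaf 913517) (.leaf 3744371))) (.node (.node (.leaf 9123408) (.leaf 9490037)) (.node (.leaf 9901677) (.leaf 1134704)))))))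

/-- How a representative arises, part 89. -/
def tInfoPart89 : Janko1.Tree ℕ := (.node (.node (.node (.node (.node (.node (.leaf 8029272) (.leaf 3249272)) (.node (.leaf 11516523) (.leaf 10050667))) (.node (.node (.leaf 9492589) (.leaf 6918768)) (.node (.leaf 1675892) (.leaf 7702651)))) (.node (.node (.node (.leaf 11690595) (.leaf 9684069)) (.node (.leaf 3954292) (.leaf 7880309))) (.node (.node (.leaf 7727171) (.leaf 7881821)) (.node (.leaf 40052) (.leaf 9548397))))) (.node (.node (.node (.node (.leaf 9503360) (.leaf 3830376)) (.node (.leaf 10382947) (.leaf 993386))) (.node (.node (.leaf 10670189) (.leaf 10970755)) (.node (.leaf 3278970) (.leaf 8860267)))) (.node (.node (.node (.leaf 2663036) (.leaf 1805416)) (.node (.leaf 8230013) (.leaf 8791653))) (.node (.node (.leaf 10984040) (.leaf 8284795)) (.node (.leaf 3156066) (.leaf 3167858)))))) (.node (.node (.node (.node (.node (.leaf 4376200) (.leaf 8868947)) (.node (.leaf 8249443) (.leaf 11169893))) (.node (.node (.leaf 9510000) (.leaf 5632621)) (.node (.leaf 2207333) (.leaf 11903104)))) (.node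 (.node (.node (.leaf 1844832) (.leaf 5588587)) (.node (.leaf 5744240) (.leaf 6950482))) (.node (.node (.leaf 1631835) (.leaf 8602224)) (.node (.leaf 1710699) (.leaf 5535333))))) (.node (.node (.node (.node (.leaf 2212976) (.leaf 6843506)) (.node (.leaf 6029928) (.leaf 56944))) (.node (.node (.leaf 2230882) (.leaf 2244210)) (.node (.leaf 8840251) (.leaf 3265676)))) (.node (.node (.node (.leaf 11172467) (.leaf 8375405)) (.node (.leaf 10449536) (.leaf 10410099))) (.node (.node (.leaf 10471557) (.leaf 8085112)) (.node (.leaf 2754160) (.leaf 10591867)))))))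

/-- How a representative arises, part 90. -/
def tInfoPart90 : Janko1.Tree ℕ := (.node (.node (.node (.node (.node (.node (.leaf 4848744) (.leaf 4876900)) (.node (.leaf 8832627) (.leaf 8984189))) (.node (.node (.leaf 8838240) (.leaf 2664024)) (.node (.leaf 10089584) (.leaf 8436325)))) (.node (.node (.node (.leaf 8985189) (.leaf 5530731)) (.node (.leaf 2830445) (.leaf 5380680))) (.node (.node (.leaf 1574499) (.leaf 6158965)) (.node (.leaf 9196656) (.leaf 3085436))))) (.node (.node (.node (.node (.leaf 2639475) (.leaf 6167666)) (.node (.leaf 6503016) (.leaf 768132))) (.node (.node (.leaf 715872) (.leaf 2694235)) (.node (.leaf 4768344) (.leaf 2950269)))) (.node (.node (.node (.leaf 612464) (.leaf 7752792)) (.node (.leaf 3542641) (.leaf 5510746))) (.node (.node (.leaf 4268124) (.leaf 10770540)) (.node (.leaf 3733633) (.leaf 10998882)))))) (.node (.node (.node (.node (.node (.leaf 1902700) (.leaf 3725409)) (.node (.leaf 7421028) (.leaf 7284361))) (.node (.node (.leaf 7273065) (.leaf 6812225)) (.node (.leaf 6789233) (.leaf 6804081)))) (.node (.node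 (.node (.leaf 6674529) (.leaf 6677105)) (.node (.leaf 477307) (.leaf 9149570))) (.node (.node (.leaf 3507331) (.leaf 7920242)) (.node (.leaf 10522740) (.leaf 967258))))) (.node (.node (.node (.node (.leaf 7421025) (.leaf 1934452)) (.node (.leaf 3758193) (.leaf 8327804))) (.node (.node (.leaf 3765345) (.leaf 5695588)) (.node (.leaf 3806825) (.leaf 3498105)))) (.node (.node (.node (.leaf 7990906) (.leaf 3449449)) (.node (.leaf 1092714) (.leaf 7373937))) (.node (.node (.leaf 11514506) (.leaf 165996)) (.node (.leaf 6696529) (.leaf 9991274)))))))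

/-- How a representative arises, part 91. -/
def tInfoPart91 : Janko1.Tree ℕ := (.node (.node (.node (.node (.node (.node (.leaf 6681721) (.leaf 11584114)) (.node (.leaf 3412593) (.leaf 7341148))) (.node (.node (.leaf 10075258) (.leaf 10787948)) (.node (.leaf 7596660) (.leaf 3836529)))) (.node (.node (.node (.leaf 3849833) (.leaf 4167804)) (.node (.leaf 3526225) (.leaf 8903290))) (.node (.node (.leaf 3242604) (.leaf 3738217)) (.node (.leaf 8967804) (.leaf 3714681))))) (.node (.node (.node (.node (.leaf 9947748) (.leaf 3707473)) (.node (.leaf 7267433) (.leaf 7256665))) (.node (.node (.leaf 9253500) (.leaf 6809201)) (.node (.leaf 6785657) (.leaf 1421946)))) (.node (.node (.node (.leaf 6801505) (.leaf 3630185)) (.node (.leaf 3632753) (.leaf 3690073))) (.node (.node (.leaf 10329178) (.leaf 3569265)) (.node (.leaf 10314330) (.leaf 3613809)))))) (.node (.node (.node (.node (.node (.leaf 5095546) (.leaf 6773865)) (.node (.leaf 10141812) (.leaf 6777961))) (.node (.node (.leaf 11206274) (.leaf 1654891)) (.node (.leaf 11221106) (.leaf 1525341)))) (.node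 (.node (.node (.leaf 7356017) (.leaf 7340657)) (.node (.leaf 4997738) (.leaf 4987004))) (.node (.node (.leaf 7645786) (.leaf 7371385)) (.node (.leaf 7648874) (.leaf 7362689))))) (.node (.node (.node (.node (.leaf 428642) (.leaf 1545348)) (.node (.leaf 3740794) (.leaf 7850100))) (.node (.node (.leaf 4964972) (.leaf 6683761)) (.node (.leaf 2880628) (.leaf 7710314)))) (.node (.node (.node (.leaf 3416145) (.leaf 1014364)) (.node (.leaf 3870322) (.leaf 3844209))) (.node (.node (.leaf 3854961) (.leaf 3831897)) (.node (.leaf 3362428) (.leaf 2776165)))))))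

/-- How a representative arises, part 92. -/
def tInfoPart92 : Janko1.Tree ℕ := (.node (.node (.node (.node (.node (.node (.leaf 9709690) (.leaf 8210028)) (.node (.leaf 2526291) (.leaf 7431265))) (.node (.node (.leaf 1782901) (.leaf 1718891)) (.node (.leaf 9795146) (.leaf 9782370)))) (.node (.node (.node (.leaf 4319850) (.leaf 3061356)) (.node (.leaf 3809913) (.leaf 3503705))) (.node (.node (.leaf 11847290) (.leaf 3495025)) (.node (.leaf 11488867) (.leaf 9324675))))) (.node (.node (.node (.node (.leaf 9617005) (.leaf 9750101)) (.node (.leaf 7121000) (.leaf 7757947))) (.node (.node (.leaf 11482739) (.leaf 9333355)) (.node (.leaf 2543736) (.leaf 7717464)))) (.node (.node (.node (.leaf 9843315) (.leaf 10919008)) (.node (.leaf 9834613) (.leaf 9777240))) (.node (.node (.leaf 4683379) (.leaf 1460834)) (.node (.leaf 3437173) (.leaf 1481328)))))) (.node (.node (.node (.node (.node (.leaf 11396200) (.leaf 9288824)) (.node (.leaf 658507) (.leaf 228965))) (.node (.node (.leaf 7989376) (.leaf 6939779)) (.node (.leaf 6394936) (.leaf 10051192)))) (.node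 (.node (.node (.leaf 3304053) (.leaf 7616621)) (.node (.leaf 8165496) (.leaf 6656080))) (.node (.node (.leaf 10236024) (.leaf 7670875)) (.node (.leaf 1456760) (.leaf 3634292))))) (.node (.node (.node (.node (.leaf 6483578) (.leaf 6486642)) (.node (.leaf 10179173) (.leaf 9813611))) (.node (.node (.leaf 7657579) (.leaf 1064552)) (.node (.leaf 5800556) (.leaf 2163324)))) (.node (.node (.node (.leaf 9202293) (.leaf 3453540)) (.node (.leaf 993898) (.leaf 8509037))) (.node (.node (.leaf 8275547) (.leaf 8206435)) (.node (.leaf 8510576) (.leaf 10875005)))))))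

/-- How a representative arises, part 93. -/
def tInfoPart93 : Janko1.Tree ℕ := (.node (.node (.node (.node (.node (.node (.leaf 10583656) (.leaf 9056893)) (.node (.leaf 388192) (.leaf 4604532))) (.node (.node (.leaf 10584179) (.leaf 10398317)) (.node (.leaf 10396773) (.leaf 8283763)))) (.node (.node (.node (.leaf 10961003) (.leaf 11171955)) (.node (.leaf 8859749) (.leaf 5817456))) (.node (.node (.leaf 9666160) (.leaf 2133088)) (.node (.leaf 8548976) (.leaf 7229024))))) (.node (.node (.node (.node (.leaf 5107325) (.leaf 10623600)) (.node (.leaf 2039408) (.leaf 6096499))) (.node (.node (.leaf 891500) (.leaf 6951026)) (.node (.leaf 2755179) (.leaf 5530227)))) (.node (.node (.node (.leaf 10848352) (.leaf 4239984)) (.node (.leaf 1574011) (.leaf 2517600))) (.node (.node (.leaf 8737344) (.leaf 3147364)) (.node (.leaf 6053501) (.leaf 2423416)))))) (.node (.node (.node (.node (.node (.leaf 1608312) (.leaf 6800496)) (.node (.leaf 8769139) (.leaf 11094125))) (.node (.node (.leaf 3613296) (.leaf 3090004)) (.node (.leaf 10409067) (.leaf 10615411)))) (.node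 (.node (.node (.leaf 5071952) (.leaf 8322627)) (.node (.leaf 3520624) (.leaf 956024))) (.node (.node (.leaf 8831083) (.leaf 4626536)) (.node (.leaf 8643677) (.leaf 5136980))))) (.node (.node (.node (.node (.leaf 4545128) (.leaf 3831898)) (.node (.leaf 1579624) (.leaf 2461813))) (.node (.node (.leaf 6037091) (.leaf 6260349)) (.node (.leaf 6262389) (.leaf 6066818)))) (.node (.node (.node (.leaf 11443280) (.leaf 10312304)) (.node (.leaf 3560016) (.leaf 2775156))) (.node (.node (.leaf 1009276) (.leaf 6244456)) (.node (.leaf 5737093) (.leaf 1762411)))))))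

/-- How a representative arises, part 94. -/
def tInfoPart94 : Janko1.Tree ℕ := (.node (.node (.node (.node (.node (.node (.leaf 11009658) (.leaf 3606641)) (.node (.leaf 3585641) (.leaf 6152314))) (.node (.node (.leaf 9763410) (.leaf 3576409)) (.node (.leaf 3702401) (.leaf 7335521)))) (.node (.node (.node (.leaf 10938482) (.leaf 5987404)) (.node (.leaf 6814321) (.leaf 6792297))) (.node (.node (.leaf 9679466) (.leaf 7563388)) (.node (.leaf 6787193) (.leaf 8822404))))) (.node (.node (.node (.node (.leaf 7324785) (.leaf 6781049)) (.node (.leaf 6726761) (.leaf 7441481))) (.node (.node (.leaf 684163) (.leaf 11639940)) (.node (.leaf 7924346) (.leaf 10656900)))) (.node (.node (.node (.leaf 3692139) (.leaf 3565675)) (.node (.leaf 3443841) (.leaf 3499105))) (.node (.node (.leaf 8936562) (.leaf 3501161)) (.node (.leaf 7991890) (.leaf 2879106)))))) (.node (.node (.node (.node (.node (.leaf 8560212) (.leaf 6660217)) (.node (.leaf 7374929) (.leaf 7391849))) (.node (.node (.leaf 6656609) (.leaf 6636153)) (.node (.leaf 457860) (.leaf 6635113)))) (.node (.node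 (.node (.leaf 7492212) (.leaf 7365241)) (.node (.leaf 6935146) (.leaf 7357545))) (.node (.node (.leaf 3405409) (.leaf 7133788)) (.node (.leaf 3776105) (.leaf 3419769))))) (.node (.node (.node (.node (.leaf 2030724) (.leaf 3774081)) (.node (.leaf 7040634) (.leaf 1543770))) (.node (.node (.leaf 9188442) (.leaf 3715697)) (.node (.leaf 3601017) (.leaf 8226906)))) (.node (.node (.node (.leaf 3577969) (.leaf 3594817)) (.node (.leaf 3722361) (.leaf 1421426))) (.node (.node (.leaf 6797953) (.leaf 1436266)) (.node (.leaf 6806633) (.leaf 6785145)))))))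

/-- How a representative arises, part 95. -/
def tInfoPart95 : Janko1.Tree ℕ := (.node (.node (.node (.node (.node (.node (.leaf 3190386) (.leaf 6800985)) (.node (.leaf 4673122) (.leaf 5248124))) (.node (.node (.leaf 3685481) (.leaf 3631233)) (.node (.leaf 4667514) (.leaf 3239036)))) (.node (.node (.node (.leaf 11275906) (.leaf 10042978)) (.node (.leaf 6571642) (.leaf 7297121))) (.node (.node (.leaf 4560490) (.leaf 11206746)) (.node (.leaf 6778969) (.leaf 1653867))))) (.node (.node (.node (.node (.leaf 6765665) (.leaf 1521771)) (.node (.leaf 2652275) (.leaf 11244644))) (.node (.node (.leaf 2525795) (.leaf 9992308)) (.node (.leaf 6661249) (.leaf 7372409)))) (.node (.node (.node (.leaf 8598130) (.leaf 441474)) (.node (.leaf 7386745) (.leaf 6653561))) (.node (.node (.leaf 10451068) (.leaf 6631009)) (.node (.leaf 3065460) (.leaf 564842)))))) (.node (.node (.node (.node (.node (.leaf 3778169) (.leaf 3795057)) (.node (.leaf 579698) (.leaf 2400346))) (.node (.node (.leaf 11165268) (.leaf 7950956)) (.node (.leaf 7708282) (.leaf 2409581)))) (.node (.node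 (.node (.leaf 2412165) (.leaf 1398397)) (.node (.leaf 7445121) (.leaf 7416433))) (.node (.node (.leaf 9097340) (.leaf 10070652)) (.node (.leaf 3821657) (.leaf 3445361))))) (.node (.node (.node (.node (.leaf 3824225) (.leaf 3883129)) (.node (.leaf 11849338) (.leaf 1641084))) (.node (.node (.leaf 10629226) (.leaf 3486841)) (.node (.leaf 3874425) (.leaf 3493993)))) (.node (.node (.node (.leaf 4657281) (.leaf 4652145)) (.node (.leaf 4369001) (.leaf 4664945))) (.node (.node (.leaf 4349009) (.leaf 4661305)) (.node (.leaf 2274928) (.leaf 4717169)))))))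

/-- How a representative arises, part 96. -/
def tInfoPart96 : Janko1.Tree ℕ := (.node (.node (.node (.node (.node (.node (.leaf 4396657) (.leaf 4720761)) (.node (.leaf 2211440) (.leaf 42073))) (.node (.node (.leaf 1024609) (.leaf 7204460)) (.node (.leaf 1107057) (.leaf 3827820)))) (.node (.node (.node (.leaf 130681) (.leaf 5705328)) (.node (.leaf 127601) (.leaf 1074793))) (.node (.node (.leaf 870513) (.leaf 7774808)) (.node (.leaf 6496368) (.leaf 5450868))))) (.node (.node (.node (.node (.leaf 910953) (.leaf 3404906)) (.node (.leaf 912473) (.leaf 177265))) (.node (.node (.leaf 930905) (.leaf 307313)) (.node (.leaf 969833) (.leaf 2920554)))) (.node (.node (.node (.leaf 972377) (.leaf 929901)) (.node (.leaf 8121456) (.leaf 3948677))) (.node (.node (.leaf 3329632) (.leaf 9220216)) (.node (.leaf 930429) (.leaf 5401692)))))) (.node (.node (.node (.node (.node (.leaf 4523641) (.leaf 3634291)) (.node (.leaf 905321) (.leaf 211049))) (.node (.node (.leaf 609392) (.leaf 4803192)) (.node (.leaf 8845424) (.leaf 4554353)))) (.node (.node (.node (.leaf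 4465777) (.leaf 4560489)) (.node (.leaf 4607073) (.leaf 4514409))) (.node (.node (.leaf 4599913) (.leaf 4614753)) (.node (.leaf 4489833) (.leaf 4611689))))) (.node (.node (.node (.node (.leaf 4678273) (.leaf 4352633)) (.node (.leaf 4472944) (.leaf 4359785))) (.node (.node (.leaf 4735601) (.leaf 6182496)) (.node (.leaf 4522616) (.leaf 3592290)))) (.node (.node (.node (.leaf 2353760) (.leaf 62577)) (.node (.leaf 1008225) (.leaf 7270504))) (.node (.node (.leaf 1021553) (.leaf 1014361)) (.node (.leaf 143457) (.leaf 1087593)))))))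

/-- How a representative arises, part 97. -/
def tInfoPart97 : Janko1.Tree ℕ := (.node (.node (.node (.node (.node (.node (.leaf 7323744) (.leaf 4556388)) (.node (.leaf 5682824) (.leaf 3463786))) (.node (.node (.leaf 107129) (.leaf 9433688)) (.node (.leaf 4383321) (.leaf 951404)))) (.node (.node (.node (.leaf 6134384) (.leaf 1717875)) (.node (.leaf 8637024) (.leaf 2716779))) (.node (.node (.leaf 2222189) (.leaf 4534880)) (.node (.leaf 4743793) (.leaf 1042033))))) (.node (.node (.node (.node (.leaf 20081) (.leaf 9404008)) (.node (.leaf 8340576) (.leaf 1058921))) (.node (.node (.leaf 893529) (.leaf 952425)) (.node (.leaf 295529) (.leaf 1656938)))) (.node (.node (.node (.leaf 1157760) (.leaf 4566121)) (.node (.leaf 5174392) (.leaf 4594793))) (.node (.node (.leaf 11305072) (.leaf 10168440)) (.node (.leaf 2823792) (.leaf 254065)))))) (.node (.node (.node (.node (.node (.leaf 11339872) (.leaf 3325036)) (.node (.leaf 4916344) (.leaf 7053922))) (.node (.node (.leaf 305257) (.leaf 4481145)) (.node (.leaf 2963045) (.leaf 5182584)))) (.node (.node (.node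 (.leaf 2586707) (.leaf 1973389)) (.node (.leaf 10421352) (.leaf 3251288))) (.node (.node (.leaf 5784698) (.leaf 9371227)) (.node (.leaf 10779690) (.leaf 4504180))))) (.node (.node (.node (.node (.leaf 10888306) (.leaf 5992050)) (.node (.leaf 8822868) (.leaf 10150485))) (.node (.node (.leaf 7735411) (.leaf 11736685)) (.node (.leaf 11647066) (.leaf 7137402)))) (.node (.node (.node (.leaf 8789116) (.leaf 2157148)) (.node (.leaf 9647228) (.leaf 11860084))) (.node (.node (.leaf 9256578) (.leaf 584819)) (.node (.leaf 3427954) (.leaf 4522621)))))))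

/-- How a representative arises, part 98. -/
def tInfoPart98 : Janko1.Tree ℕ := (.node (.node (.node (.node (.node (.node (.leaf 650346) (.leaf 9807436)) (.node (.leaf 3870325) (.leaf 7607412))) (.node (.node (.leaf 978517) (.leaf 594027)) (.node (.leaf 9848956) (.leaf 6724221)))) (.node (.node (.node (.leaf 9042546) (.leaf 979077)) (.node (.leaf 784490) (.leaf 7817842))) (.node (.node (.leaf 3068490) (.leaf 3737188)) (.node (.leaf 9431179) (.leaf 6674026))))) (.node (.node (.node (.node (.leaf 10567260) (.leaf 11076730)) (.node (.leaf 9810019) (.leaf 9393243))) (.node (.node (.leaf 11721323) (.leaf 2261092)) (.node (.leaf 10456162) (.leaf 7698547)))) (.node (.node (.node (.leaf 9587837) (.leaf 6370402)) (.node (.leaf 3004516) (.leaf 10608243))) (.node (.node (.leaf 8056933) (.leaf 10127476)) (.node (.leaf 10704469) (.leaf 3424364)))))) (.node (.node (.node (.node (.node (.leaf 10577019) (.leaf 8125034)) (.node (.leaf 3614322) (.leaf 8152172))) (.node (.node (.leaf 722546) (.leaf 7779938)) (.node (.leaf 8801371) (.leaf 8190556)))) (.node (.node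 (.node (.leaf 10628213) (.leaf 8765523)) (.node (.leaf 8255093) (.leaf 1255037))) (.node (.node (.leaf 1766499) (.leaf 5522547)) (.node (.leaf 6044771) (.leaf 10244204))))) (.node (.node (.node (.node (.leaf 6717556) (.leaf 6106731)) (.node (.leaf 10139242) (.leaf 10287212))) (.node (.node (.leaf 6055539) (.leaf 10424418)) (.node (.leaf 7735412) (.leaf 9957988)))) (.node (.node (.node (.leaf 8697474) (.leaf 7469154)) (.node (.leaf 8403069) (.leaf 11049565))) (.node (.node (.leaf 11152491) (.leaf 8838243)) (.node (.leaf 8293994) (.leaf 9029237)))))))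

/-- How a representative arises, part 99. -/
def tInfoPart99 : Janko1.Tree ℕ := (.node (.node (.node (.node (.node (.node (.leaf 11179595) (.leaf 10403459)) (.node (.leaf 8479333) (.leaf 8875123))) (.node (.node (.leaf 7543906) (.leaf 8479853)) (.node (.leaf 4072546) (.leaf 11199092)))) (.node (.node (.node (.leaf 10782826) (.leaf 6205541)) (.node (.leaf 1627251) (.leaf 2880629))) (.node (.node (.leaf 1889397) (.leaf 9381972)) (.node (.leaf 2701395) (.leaf 2881133))))) (.node (.node (.node (.node (.leaf 4464738) (.leaf 3016829)) (.node (.leaf 5938282) (.leaf 1635947))) (.node (.node (.leaf 2029165) (.leaf 5208683)) (.node (.leaf 7188610) (.leaf 10744954)))) (.node (.node (.node (.leaf 4673121) (.leaf 1797724)) (.node (.leaf 4728953) (.leaf 4159576))) (.node (.node (.leaf 4395641) (.leaf 7617144)) (.node (.leaf 1026169) (.leaf 205388)))))) (.node (.node (.node (.node (.node (.leaf 1003105) (.leaf 8551528)) (.node (.leaf 996465) (.leaf 140393))) (.node (.node (.leaf 1108585) (.leaf 137841)) (.node (.leaf 1867900) (.leaf 8516184)))) (.node (.node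 (.node (.leaf 920177) (.leaf 388197)) (.node (.leaf 308865) (.leaf 4542576))) (.node (.node (.leaf 612994) (.leaf 928881)) (.node (.leaf 9365112) (.leaf 3527810))))) (.node (.node (.node (.node (.leaf 677491) (.leaf 537195)) (.node (.leaf 1609848) (.leaf 8260224))) (.node (.node (.leaf 3548776) (.leaf 4637305)) (.node (.leaf 752698) (.leaf 471667)))) (.node (.node (.node (.leaf 1544288) (.leaf 8222832)) (.node (.leaf 889961) (.leaf 205385))) (.node (.node (.leaf 214649) (.leaf 932968)) (.node (.leaf 279641) (.leaf 946801)))))))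

/-- How a representative arises, part 100. -/
def tInfoPart100 : Janko1.Tree ℕ := (.node (.node (.node (.node (.node (.node (.leaf 271969) (.leaf 284265)) (.node (.leaf 4555897) (.leaf 4559993))) (.node (.node (.leaf 6059636) (.leaf 1584224)) (.node (.leaf 6334538) (.leaf 4496481)))) (.node (.node (.node (.leaf 4600961) (.leaf 6758008)) (.node (.leaf 7256668) (.leaf 4355185))) (.node (.node (.leaf 811618) (.leaf 4365433)) (.node (.leaf 501352) (.leaf 4402769))))) (.node (.node (.node (.node (.leaf 4710497) (.leaf 1334890)) (.node (.leaf 567896) (.leaf 1006705))) (.node (.node (.leaf 682610) (.leaf 45177)) (.node (.leaf 4774500) (.leaf 2001528)))) (.node (.node (.node (.leaf 8473696) (.leaf 9741928)) (.node (.leaf 5927008) (.leaf 6475388))) (.node (.node (.leaf 2587243) (.leaf 2604600)) (.node (.leaf 9780344) (.leaf 10923104)))))) (.node (.node (.node (.node (.node (.leaf 5981312) (.leaf 2655339)) (.node (.leaf 539768) (.leaf 5431392))) (.node (.node (.leaf 5745) (.leaf 9345)) (.node (.leaf 1121905) (.leaf 165993)))) (.node (.node (.node (.leaf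 1125977) (.leaf 85065)) (.node (.leaf 6429812) (.leaf 1058385))) (.node (.node (.leaf 4679800) (.leaf 11159128)) (.node (.leaf 880241) (.leaf 966777))))) (.node (.node (.node (.node (.leaf 3896418) (.leaf 10053248)) (.node (.leaf 942705) (.leaf 267377))) (.node (.node (.leaf 3328116) (.leaf 5003880)) (.node (.leaf 4567161) (.leaf 11364472)))) (.node (.node (.node (.leaf 4439161) (.leaf 3266172)) (.node (.leaf 4617329) (.leaf 2846308))) (.node (.node (.leaf 9046112) (.leaf 3074152)) (.node (.leaf 185465) (.leaf 908401)))))))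

/-- How a representative arises, part 101. -/
def tInfoPart101 : Janko1.Tree ℕ := (.node (.node (.node (.node (.node (.node (.leaf 3025524) (.leaf 916065)) (.node (.leaf 1023088) (.leaf 932969))) (.node (.node (.leaf 4711536) (.leaf 3570788)) (.node (.leaf 973929) (.leaf 304745)))) (.node (.node (.node (.leaf 1330293) (.leaf 2343541)) (.node (.leaf 2344557) (.leaf 1289844))) (.node (.node (.leaf 4574329) (.leaf 4479081)) (.node (.leaf 1329773) (.leaf 2344045))))) (.node (.node (.node (.node (.leaf 825980) (.leaf 3083884)) (.node (.leaf 7247458) (.leaf 11721843))) (.node (.node (.leaf 11731570) (.leaf 5507708)) (.node (.leaf 9646197) (.leaf 10892412)))) (.node (.node (.node (.leaf 10900610) (.leaf 7733371)) (.node (.leaf 4513410) (.leaf 11535997))) (.node (.node (.leaf 10858596) (.leaf 5672554)) (.node (.leaf 7688291) (.leaf 7772269)))))) (.node (.node (.node (.node (.node (.leaf 4629053) (.leaf 4747363)) (.node (.leaf 8329316) (.leaf 3488869))) (.node (.node (.leaf 3617899) (.leaf 4385875)) (.node (.leaf 8693892) (.leaf 4692059)))) (.node (.node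 (.node (.leaf 3489397) (.leaf 355428)) (.node (.leaf 8963690) (.leaf 2203724))) (.node (.node (.leaf 4423243) (.leaf 8730236)) (.node (.leaf 3547234) (.leaf 7435389))))) (.node (.node (.node (.node (.leaf 9325146) (.leaf 3624555)) (.node (.leaf 4375675) (.leaf 8294996))) (.node (.node (.leaf 9991277) (.leaf 9849475)) (.node (.leaf 10388602) (.leaf 9305717)))) (.node (.node (.node (.leaf 3991652) (.leaf 10019939)) (.node (.leaf 9306229) (.leaf 2443372))) (.node (.node (.leaf 6770298) (.leaf 8618612)) (.node (.leaf 10048107) (.leaf 11897461)))))))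

/-- How a representative arises, part 102. -/
def tInfoPart102 : Janko1.Tree ℕ := (.node (.node (.node (.node (.node (.node (.leaf 10010747) (.leaf 9405563)) (.node (.leaf 1709180) (.leaf 9099373))) (.node (.node (.leaf 829050) (.leaf 8244347)) (.node (.leaf 8120426) (.leaf 1356402)))) (.node (.node (.node (.leaf 9362530) (.leaf 9291868)) (.node (.leaf 3008122) (.leaf 9006202))) (.node (.node (.leaf 3243124) (.leaf 10941563)) (.node (.leaf 10981501) (.leaf 9288282))))) (.node (.node (.node (.node (.leaf 8886396) (.leaf 10208882)) (.node (.leaf 3134085) (.leaf 1764987))) (.node (.node (.leaf 2998900) (.leaf 6825578)) (.node (.leaf 9134708) (.leaf 6365299)))) (.node (.node (.node (.leaf 11446386) (.leaf 5361786)) (.node (.leaf 6308962) (.leaf 10139778))) (.node (.node (.leaf 8177772) (.leaf 1758333)) (.node (.leaf 1759861) (.leaf 3484788)))))) (.node (.node (.node (.node (.node (.leaf 8857188) (.leaf 6093405)) (.node (.leaf 1695307) (.leaf 2942068))) (.node (.node (.leaf 10413147) (.leaf 2461810)) (.node (.leaf 11301492) (.leaf 60530)))) (.node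 (.node (.node (.leaf 6355548) (.leaf 8741973)) (.node (.leaf 8800875) (.leaf 3946586))) (.node (.node (.leaf 8743525) (.leaf 8837739)) (.node (.leaf 8125549) (.leaf 2581090))))) (.node (.node (.node (.node (.leaf 11576916) (.leaf 6762100)) (.node (.leaf 11334765) (.leaf 5330548))) (.node (.node (.leaf 8370818) (.leaf 8126077)) (.node (.leaf 8127085) (.leaf 9605754)))) (.node (.node (.node (.leaf 4962420) (.leaf 5477501)) (.node (.leaf 5270139) (.leaf 9834106))) (.node (.node (.leaf 10798194) (.leaf 6564996)) (.node (.leaf 2637419) (.leaf 2510965)))))))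

/-- How a representative arises, part 103. -/
def tInfoPart103 : Janko1.Tree ℕ := (.node (.node (.node (.node (.node (.node (.leaf 5478005) (.leaf 10495596)) (.node (.leaf 5475965) (.leaf 2572907))) (.node (.node (.leaf 5141116) (.leaf 1382509)) (.node (.leaf 9902194) (.leaf 11418228)))) (.node (.node (.node (.leaf 10867322) (.leaf 6623877)) (.node (.leaf 4464242) (.leaf 10210420))) (.node (.node (.leaf 7513717) (.leaf 10049139)) (.node (.leaf 9173125) (.leaf 11806845))))) (.node (.node (.node (.node (.leaf 4427888) (.leaf 2344042)) (.node (.leaf 9173581) (.leaf 553042))) (.node (.node (.leaf 4378704) (.leaf 11527267)) (.node (.leaf 9360507) (.leaf 7710317)))) (.node (.node (.node (.leaf 1990770) (.leaf 7757411)) (.node (.leaf 11738229) (.leaf 9377405))) (.node (.node (.leaf 2735720) (.leaf 8870512)) (.node (.leaf 10130552) (.leaf 7037533)))))) (.node (.node (.node (.node (.node (.leaf 4525701) (.leaf 849501)) (.node (.leaf 10093184) (.leaf 2489972))) (.node (.node (.leaf 4245101) (.leaf 3752035)) (.node (.leaf 4008053) (.leaf 3279464)))) (.node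 (.node (.node (.leaf 5296728) (.leaf 10450024)) (.node (.leaf 11727483) (.leaf 6500984))) (.node (.node (.leaf 712304) (.leaf 2724984)) (.node (.leaf 10121832) (.leaf 4819064))))) (.node (.node (.node (.node (.leaf 5811836) (.leaf 9812083)) (.node (.leaf 7849069) (.leaf 2666104))) (.node (.node (.leaf 7658619) (.leaf 9516141)) (.node (.leaf 7022680) (.leaf 7701107)))) (.node (.node (.node (.leaf 5341800) (.leaf 1298504)) (.node (.leaf 9180256) (.leaf 9399899))) (.node (.node (.leaf 11407485) (.leaf 11171443)) (.node (.leaf 8621693) (.leaf 10707061)))))))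

/-- How a representative arises, part 104. -/
def tInfoPart104 : Janko1.Tree ℕ := (.node (.node (.node (.node (.node (.node (.leaf 8870011) (.leaf 4449912)) (.node (.leaf 11270773) (.leaf 6200928))) (.node (.node (.leaf 4969084) (.leaf 8215091)) (.node (.leaf 9912960) (.leaf 11183227)))) (.node (.node (.node (.leaf 3467388) (.leaf 3653736)) (.node (.leaf 8860755) (.leaf 8242307))) (.node (.node (.leaf 10655344) (.leaf 11194485)) (.node (.leaf 5661824) (.leaf 6128256))))) (.node (.node (.node (.node (.leaf 937548) (.leaf 215144)) (.node (.leaf 1645139) (.leaf 4441208))) (.node (.node (.leaf 2277493) (.leaf 6189144)) (.node (.leaf 287352) (.leaf 2359408)))) (.node (.node (.node (.leaf 6414453) (.leaf 1634939)) (.node (.leaf 3644016) (.leaf 5596264))) (.node (.node (.leaf 6414957) (.leaf 880244)) (.node (.leaf 1566299) (.leaf 2636909)))))) (.node (.node (.node (.node (.node (.leaf 10969187) (.leaf 4164226)) (.node (.leaf 1334388) (.leaf 11334760))) (.node (.node (.leaf 10593371) (.leaf 2895480)) (.node (.leaf 8404085) (.leaf 4967016)))) (.node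 (.node (.node (.leaf 11504248) (.leaf 9031789)) (.node (.leaf 3198056) (.leaf 10292333))) (.node (.node (.leaf 4251778) (.leaf 8056928)) (.node (.leaf 8767107) (.leaf 5493874))))) (.node (.node (.node (.node (.leaf 5376085) (.leaf 740976)) (.node (.leaf 2882677) (.leaf 346754))) (.node (.node (.leaf 6206581) (.leaf 7847024)) (.node (.leaf 2883173) (.leaf 2885224)))) (.node (.node (.node (.leaf 1891965) (.leaf 11494504)) (.node (.leaf 3018869) (.leaf 1128048))) (.node (.node (.leaf 5895253) (.leaf 491610)) (.node (.leaf 5212792) (.leaf 5531251)))))))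

/-- How a representative arises, part 105. -/
def tInfoPart105 : Janko1.Tree ℕ := (.node (.node (.node (.node (.node (.node (.leaf 3019381) (.leaf 2030181)) (.node (.leaf 2052722) (.leaf 3247208))) (.node (.node (.leaf 2573915) (.leaf 5065813)) (.node (.leaf 6859897) (.leaf 7218273)))) (.node (.node (.node (.leaf 7687802) (.leaf 6911593)) (.node (.leaf 6908017) (.leaf 11039852))) (.node (.node (.leaf 3168873) (.leaf 3185257)) (.node (.leaf 4032121) (.leaf 7525492))))) (.node (.node (.node (.node (.leaf 7252076) (.leaf 2147428)) (.node (.leaf 8609898) (.leaf 4094585))) (.node (.node (.leaf 1754748) (.leaf 6871666)) (.node (.leaf 3302521) (.leaf 6020220)))) (.node (.node (.node (.leaf 3364969) (.leaf 805981)) (.node (.leaf 6994553) (.leaf 6976602))) (.node (.node (.leaf 5118058) (.leaf 10840700)) (.node (.leaf 937085) (.leaf 11634268)))))) (.node (.node (.node (.node (.node (.leaf 8442484) (.leaf 3280489)) (.node (.leaf 3292289) (.leaf 3902073))) (.node (.node (.leaf 1447034) (.leaf 3355753)) (.node (.leaf 3353201) (.leaf 2186844)))) (.node (.node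 (.node (.leaf 8708700) (.leaf 3957353)) (.node (.leaf 3289714) (.leaf 4420700))) (.node (.node (.leaf 2247804) (.leaf 6952033)) (.node (.leaf 6968409) (.leaf 6945921))))) (.node (.node (.node (.node (.leaf 2806386) (.leaf 5624948)) (.node (.leaf 2802738) (.leaf 1040986))) (.node (.node (.leaf 1046642) (.leaf 7183465)) (.node (.leaf 6492780) (.leaf 1171036)))) (.node (.node (.node (.leaf 7032946) (.leaf 7229025)) (.node (.leaf 5172330) (.leaf 11363964))) (.node (.node (.leaf 6890089) (.leaf 6907009)) (.node (.leaf 3166833) (.leaf 6508650)))))))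

/-- How a representative arises, part 106. -/
def tInfoPart106 : Janko1.Tree ℕ := (.node (.node (.node (.node (.node (.node (.leaf 6908020) (.leaf 4051561)) (.node (.leaf 4030041) (.leaf 8195188))) (.node (.node (.leaf 3238505) (.leaf 652388)) (.node (.leaf 3221089) (.leaf 4127353)))) (.node (.node (.node (.leaf 4114041) (.leaf 2871914)) (.node (.leaf 2585699) (.leaf 9997948))) (.node (.node (.leaf 3353202) (.leaf 7235697)) (.node (.leaf 2527323) (.leaf 2748530))))) (.node (.node (.node (.node (.leaf 2742354) (.leaf 3228276)) (.node (.leaf 1577077) (.leaf 4080233))) (.node (.node (.leaf 3230314) (.leaf 2678364)) (.node (.leaf 1503338) (.leaf 1577557)))) (.node (.node (.node (.leaf 9665650) (.leaf 3276409)) (.node (.leaf 3289713) (.leaf 3917937))) (.node (.node (.leaf 3899529) (.leaf 3624556)) (.node (.leaf 11767386) (.leaf 3977321)))))) (.node (.node (.node (.node (.node (.leaf 7076977) (.leaf 7057001)) (.node (.leaf 9738274) (.leaf 11023978))) (.node (.node (.leaf 6950009) (.leaf 11018850)) (.node (.leaf 7128673) (.leaf 3138180)))) (.node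 (.node (.node (.leaf 4738660) (.leaf 7024241)) (.node (.leaf 10195052) (.leaf 7003249))) (.node (.node (.leaf 7019129) (.leaf 7588970)) (.node (.leaf 6835324) (.leaf 3953249))))) (.node (.node (.node (.node (.leaf 1627252) (.leaf 9409138)) (.node (.leaf 1645659) (.leaf 7672434))) (.node (.node (.leaf 2968141) (.leaf 6999161)) (.node (.leaf 8067172) (.leaf 8652386)))) (.node (.node (.node (.leaf 11560036) (.leaf 2968701)) (.node (.leaf 8488050) (.leaf 7043665))) (.node (.node (.leaf 7133265) (.leaf 7830140)) (.node (.leaf 2651227) (.leaf 7139433)))))))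

/-- How a representative arises, part 107. -/
def tInfoPart107 : Janko1.Tree ℕ := (.node (.node (.node (.node (.node (.node (.leaf 11518051) (.leaf 4207744)) (.node (.leaf 2482296) (.leaf 9795149))) (.node (.node (.leaf 10837104) (.leaf 7702123)) (.node (.leaf 11684475) (.leaf 551546)))) (.node (.node (.node (.leaf 7602808) (.leaf 7669363)) (.node (.leaf 11526267) (.leaf 11538037))) (.node (.node (.leaf 4108400) (.leaf 2130032)) (.node (.leaf 11489403) (.leaf 5496392))))) (.node (.node (.node (.node (.leaf 11540613) (.leaf 8504944)) (.node (.leaf 11699816) (.leaf 7170176))) (.node (.node (.leaf 4607072) (.leaf 4630141)) (.node (.leaf 3492461) (.leaf 7922800)))) (.node (.node (.node (.leaf 3742843) (.leaf 11128944)) (.node (.leaf 4540498) (.leaf 3490421))) (.node (.node (.leaf 6247528) (.leaf 3593840)) (.node (.leaf 4378707) (.leaf 4657778)))))) (.node (.node (.node (.node (.node (.leaf 1556088) (.leaf 6761552)) (.node (.leaf 3561075) (.leaf 9852531))) (.node (.node (.leaf 10059891) (.leaf 9427563)) (.node (.leaf 2949736) (.leaf 9323595))))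 (.node (.node (.node (.leaf 2648162) (.leaf 7584885)) (.node (.leaf 9841787) (.leaf 3619960))) (.node (.node (.leaf 9438331) (.leaf 11902061)) (.node (.leaf 10297440) (.leaf 5107832))))) (.node (.node (.node (.node (.leaf 9802347) (.leaf 9401939)) (.node (.leaf 8547925) (.leaf 10617459))) (.node (.node (.leaf 515192) (.leaf 5930088)) (.node (.leaf 10919013) (.leaf 5125754)))) (.node (.node (.node (.leaf 8767627) (.leaf 5985888)) (.node (.leaf 10420827) (.leaf 10427517))) (.node (.node (.leaf 5032570) (.leaf 8832123)) (.node (.leaf 8758915) (.leaf 7129208)))))))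

/-- How a representative arises, part 108. -/
def tInfoPart108 : Janko1.Tree ℕ := (.node (.node (.node (.node (.node (.node (.leaf 8884349) (.leaf 4286040)) (.node (.leaf 2152045) (.leaf 2150005))) (.node (.node (.leaf 2835522) (.leaf 9767040)) (.node (.leaf 6002309) (.leaf 535144)))) (.node (.node (.node (.leaf 10512488) (.leaf 5426296)) (.node (.leaf 5265533) (.leaf 2754675))) (.node (.node (.leaf 2629203) (.leaf 10547296)) (.node (.leaf 5266021) (.leaf 3201634))))) (.node (.node (.node (.node (.leaf 10970203) (.leaf 11182187)) (.node (.leaf 3077752) (.leaf 8186981))) (.node (.node (.leaf 992372) (.leaf 8187517)) (.node (.leaf 1585252) (.leaf 10959979)))) (.node (.node (.node (.leaf 8685677) (.leaf 9257584)) (.node (.leaf 10773621) (.leaf 8323707))) (.node (.node (.leaf 3279956) (.leaf 10271848)) (.node (.leaf 3505248) (.leaf 8687205)))))) (.node (.node (.node (.node (.node (.leaf 4905068) (.leaf 1067628)) (.node (.leaf 6306941) (.leaf 342634))) (.node (.node (.leaf 7944792) (.leaf 1633883)) (.node (.leaf 1503341) (.leaf 1501301)))) (.node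 (.node (.node (.leaf 6048339) (.leaf 7985224)) (.node (.leaf 1565811) (.leaf 1501805))) (.node (.node (.leaf 2399341) (.leaf 3393144)) (.node (.leaf 5026440) (.leaf 6036603))))) (.node (.node (.node (.node (.leaf 1711235) (.leaf 1486432)) (.node (.leaf 5790837) (.leaf 6704248))) (.node (.node (.leaf 7157345) (.leaf 1822820)) (.node (.leaf 7169137) (.leaf 7409764)))) (.node (.node (.node (.leaf 3861634) (.leaf 5517428)) (.node (.leaf 6895225) (.leaf 6910569))) (.node (.node (.leaf 8448106) (.leaf 4031577)) (.node (.leaf 2552412) (.leaf 8460914)))))))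

/-- How a representative arises, part 109. -/
def tInfoPart109 : Janko1.Tree ℕ := (.node (.node (.node (.node (.node (.node (.leaf 6161004) (.leaf 4024433)) (.node (.leaf 3217017) (.leaf 3230313))) (.node (.node (.leaf 3228273) (.leaf 3209849)) (.node (.leaf 4117601) (.leaf 5573244)))) (.node (.node (.node (.leaf 674931) (.leaf 7116884)) (.node (.leaf 5682284) (.leaf 10225770))) (.node (.node (.leaf 5816428) (.leaf 3364449)) (.node (.leaf 3366505) (.leaf 6975594))))) (.node (.node (.node (.node (.leaf 10304106) (.leaf 6962794)) (.node (.leaf 440924) (.leaf 2279036))) (.node (.node (.leaf 6561362) (.leaf 478787)) (.node (.leaf 1947748) (.leaf 10014834)))) (.node (.node (.node (.leaf 3508851) (.leaf 3908201)) (.node (.leaf 9142394) (.leaf 9450084))) (.node (.node (.leaf 9129082) (.leaf 8455276)) (.node (.leaf 917626) (.leaf 9828996)))))) (.node (.node (.node (.node (.node (.leaf 3357817) (.leaf 911962)) (.node (.leaf 3967065) (.leaf 8848506))) (.node (.node (.leaf 6960761) (.leaf 6976601)) (.node (.leaf 7060577) (.leaf 7627908)))) (.node (.node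 (.node (.leaf 7016025) (.leaf 7030905)) (.node (.leaf 11620460) (.leaf 8913514))) (.node (.node (.leaf 6614130) (.leaf 7155257)) (.node (.leaf 6841969) (.leaf 7152745))))) (.node (.node (.node (.node (.leaf 6854753) (.leaf 7206001)) (.node (.leaf 10345066) (.leaf 10339434))) (.node (.node (.leaf 6508130) (.leaf 4029545)) (.node (.leaf 3157105) (.leaf 3171449)))) (.node (.node (.node (.leaf 4043905) (.leaf 3213937)) (.node (.leaf 10270834) (.leaf 10264698))) (.node (.node (.leaf 2710132) (.leaf 10145908)) (.node (.leaf 8958074) (.leaf 8945746)))))))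

/-- How a representative arises, part 110. -/
def tInfoPart110 : Janko1.Tree ℕ := (.node (.node (.node (.node (.node (.node (.leaf 7898700) (.leaf 10392172)) (.node (.leaf 6936689) (.leaf 1631834))) (.node (.node (.leaf 9130092) (.leaf 9231994)) (.node (.leaf 8135284) (.leaf 978034)))) (.node (.node (.node (.leaf 4017769) (.leaf 4019817)) (.node (.leaf 4073577) (.leaf 3248241))) (.node (.node (.leaf 10112628) (.leaf 4082793)) (.node (.leaf 3206241) (.leaf 7867508))))) (.node (.node (.node (.node (.leaf 3278465) (.leaf 10013804)) (.node (.leaf 3290217) (.leaf 11773546))) (.node (.node (.leaf 10338924) (.leaf 11019898)) (.node (.leaf 6958193) (.leaf 4283466)))) (.node (.node (.node (.leaf 8089684) (.leaf 11023474)) (.node (.leaf 10301540) (.leaf 4296298))) (.node (.node (.leaf 11573364) (.leaf 7032945)) (.node (.leaf 5524082) (.leaf 11835474)))))) (.node (.node (.node (.node (.node (.leaf 1712235) (.leaf 3045996)) (.node (.leaf 6575180) (.leaf 3306617))) (.node (.node (.leaf 3361401) (.leaf 1514579)) (.node (.leaf 6980705) (.leaf 5100132))))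 (.node (.node (.node (.leaf 8487034) (.leaf 3791994)) (.node (.leaf 2654323) (.leaf 3796610))) (.node (.node (.leaf 4428928) (.leaf 1863290)) (.node (.leaf 8591992) (.leaf 134776))))) (.node (.node (.node (.node (.leaf 4082794) (.leaf 619097)) (.node (.leaf 2172512) (.leaf 696953))) (.node (.node (.leaf 260732) (.leaf 10943592)) (.node (.leaf 1729138) (.leaf 3837032)))) (.node (.node (.node (.leaf 4255353) (.leaf 4778609)) (.node (.leaf 4843625) (.leaf 117866))) (.node (.node (.leaf 4306521) (.leaf 4832873)) (.node (.leaf 2468458) (.leaf 11825256)))))))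

/-- How a representative arises, part 111. -/
def tInfoPart111 : Janko1.Tree ℕ := (.node (.node (.node (.node (.node (.node (.leaf 10131568) (.leaf 2767456)) (.node (.leaf 682072) (.leaf 4186729))) (.node (.node (.leaf 6507640) (.leaf 4770394)) (.node (.leaf 2707568) (.leaf 4232801)))) (.node (.node (.node (.leaf 608363) (.leaf 3635299)) (.node (.leaf 10486368) (.leaf 5352048))) (.node (.node (.leaf 799865) (.leaf 8125544)) (.node (.leaf 313457) (.leaf 856161))))) (.node (.node (.node (.node (.leaf 5296224) (.leaf 858721)) (.node (.leaf 406105) (.leaf 1271368))) (.node (.node (.leaf 848497) (.leaf 4164729)) (.node (.leaf 10121344) (.leaf 4938841)))) (.node (.node (.node (.leaf 4209753) (.leaf 4933745)) (.node (.leaf 4207209) (.leaf 4932729))) (.node (.node (.leaf 769113) (.leaf 10477136)) (.node (.leaf 365697) (.leaf 8115808)))))) (.node (.node (.node (.node (.node (.leaf 755297) (.leaf 358505)) (.node (.leaf 821881) (.leaf 762498))) (.node (.node (.leaf 1262712) (.leaf 815721)) (.node (.leaf 429169) (.leaf 651377)))) (.node (.node (.node (.leaf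 4922482) (.leaf 487025)) (.node (.leaf 642665) (.leaf 484481))) (.node (.node (.leaf 6138976) (.leaf 9913960)) (.node (.leaf 5353050) (.leaf 2401400))))) (.node (.node (.node (.node (.leaf 714337) (.leaf 707185)) (.node (.leaf 4771433) (.leaf 4768345))) (.node (.node (.leaf 8298048) (.leaf 4272737)) (.node (.leaf 3224172) (.leaf 5660784)))) (.node (.node (.node (.leaf 4824665) (.leaf 4322417)) (.node (.leaf 8336992) (.leaf 7337600))) (.node (.node (.leaf 4442232) (.leaf 610921)) (.node (.leaf 819314) (.leaf 7537264)))))))

/-- How a representative arises, part 112. -/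
def tInfoPart112 : Janko1.Tree ℕ := (.node (.node (.node (.node (.node (.node (.leaf 604281) (.leaf 591945)) (.node (.leaf 2393200) (.leaf 7573608))) (.node (.node (.leaf 6190200) (.leaf 6850676)) (.node (.leaf 10645112) (.leaf 4810369)))) (.node (.node (.node (.leaf 693362) (.leaf 4792953)) (.node (.leaf 7275632) (.leaf 2716251))) (.node (.node (.leaf 4848241) (.leaf 7329408)) (.node (.leaf 4900952) (.leaf 4870721))))) (.node (.node (.node (.node (.leaf 11299928) (.leaf 4221561)) (.node (.leaf 4911225) (.leaf 4438082))) (.node (.node (.leaf 350809) (.leaf 778873)) (.node (.leaf 348265) (.leaf 776801)))) (.node (.node (.node (.leaf 342129) (.leaf 770689)) (.node (.leaf 1523332) (.leaf 5278288))) (.node (.node (.leaf 9157744) (.leaf 828017)) (.node (.leaf 4893793) (.leaf 2403930)))))) (.node (.node (.node (.node (.node (.leaf 1844325) (.leaf 2833517)) (.node (.leaf 8930928) (.leaf 834656))) (.node (.node (.leaf 1338972) (.leaf 4952185)) (.node (.leaf 452721) (.leaf 3217488)))) (.node (.node (.node (.leaf 9657466) (.leaf 10140285)) (.node (.leaf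 9482356) (.leaf 4129378))) (.node (.node (.leaf 8397442) (.leaf 7754875)) (.node (.leaf 8827498) (.leaf 11796605))))) (.node (.node (.node (.node (.leaf 9325147) (.leaf 9163901)) (.node (.leaf 11720819) (.leaf 10863228))) (.node (.node (.leaf 7713893) (.leaf 3982458)) (.node (.leaf 11741765) (.leaf 6162020)))) (.node (.node (.node (.leaf 9383541) (.leaf 153218)) (.node (.leaf 9800827) (.leaf 11742341))) (.node (.node (.leaf 10074229) (.leaf 7734907)) (.node (.leaf 854653) (.leaf 6931067)))))))

/-- How a representative arises, part 113. -/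
def tInfoPart113 : Janko1.Tree ℕ := (.node (.node (.node (.node (.node (.node (.leaf 10380362) (.leaf 5681764)) (.node (.leaf 7041653) (.leaf 3753579))) (.node (.node (.leaf 4791410) (.leaf 855157)) (.node (.leaf 527483) (.leaf 4746331)))) (.node (.node (.node (.leaf 11435106) (.leaf 4423244)) (.node (.leaf 441980) (.leaf 4233837))) (.node (.node (.leaf 11167322) (.leaf 6882419)) (.node (.leaf 521339) (.leaf 970861))))) (.node (.node (.node (.node (.leaf 6344266) (.leaf 1948252)) (.node (.leaf 1188442) (.leaf 7854205))) (.node (.node (.leaf 8002674) (.leaf 5469276)) (.node (.leaf 661090) (.leaf 7593076)))) (.node (.node (.node (.leaf 7721042) (.leaf 11606637)) (.node (.leaf 7667323) (.leaf 1318506))) (.node (.node (.leaf 9866356) (.leaf 7626868)) (.node (.leaf 9432171) (.leaf 7689347)))))) (.node (.node (.node (.node (.node (.leaf 798290) (.leaf 7789690)) (.node (.leaf 1696892) (.leaf 4947058))) (.node (.node (.leaf 7777396) (.leaf 11198074)) (.node (.leaf 9973364) (.leaf 8608397)))) (.node (.node (.node (.leaf 6393978) (.leaf 965204)) (.node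 (.leaf 11153507) (.leaf 8608893))) (.node (.node (.leaf 8764507) (.leaf 4850282)) (.node (.leaf 11129442) (.leaf 8809571))))) (.node (.node (.node (.node (.leaf 10638941) (.leaf 8825461)) (.node (.leaf 7748724) (.leaf 10369147))) (.node (.node (.leaf 8263277) (.leaf 11200629)) (.node (.leaf 6699114) (.leaf 9090130)))) (.node (.node (.node (.leaf 6512749) (.leaf 4620924)) (.node (.leaf 5683805) (.leaf 6374515))) (.node (.node (.leaf 6513277) (.leaf 1244285)) (.node (.leaf 2265725) (.leaf 1639541)))))))

/-- How a representative arises, part 114. -/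
def tInfoPart114 : Janko1.Tree ℕ := (.node (.node (.node (.node (.node (.node (.leaf 8172164) (.leaf 7754874)) (.node (.leaf 2647163) (.leaf 5051484))) (.node (.node (.leaf 1253490) (.leaf 2642021)) (.node (.leaf 1703523) (.leaf 6422645)))) (.node (.node (.node (.leaf 8956533) (.leaf 10967627)) (.node (.leaf 6340212) (.leaf 2830444))) (.node (.node (.leaf 10932339) (.leaf 5642354)) (.node (.leaf 11601524) (.leaf 7076474))))) (.node (.node (.node (.node (.leaf 8847995) (.leaf 8207467)) (.node (.leaf 10835037) (.leaf 9333356))) (.node (.node (.leaf 8235635) (.leaf 3317364)) (.node (.leaf 10835565) (.leaf 5747818)))) (.node (.node (.node (.leaf 10715770) (.leaf 2893940)) (.node (.leaf 5575267) (.leaf 5382757))) (.node (.node (.leaf 1637987) (.leaf 7460978)) (.node (.leaf 6576244) (.leaf 9556594)))))) (.node (.node (.node (.node (.node (.leaf 11455580) (.leaf 3917938)) (.node (.leaf 1568859) (.leaf 9203812))) (.node (.node (.leaf 7534722) (.leaf 5055101)) (.node (.leaf 11183732) (.leaf 1828970)))) (.node (.node (.node (.leaf 5885013) (.leaf 2020477))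 (.node (.leaf 634969) (.leaf 488561))) (.node (.node (.leaf 626281) (.leaf 481377)) (.node (.leaf 9697928) (.leaf 562809))))) (.node (.node (.node (.node (.leaf 5963892) (.leaf 2418248)) (.node (.leaf 4186728) (.leaf 4773497))) (.node (.node (.leaf 4764281) (.leaf 4257393)) (.node (.leaf 1725554) (.leaf 5579368)))) (.node (.node (.node (.leaf 7218276) (.leaf 4029048)) (.node (.leaf 4304985) (.leaf 10577016))) (.node (.node (.leaf 3974772) (.leaf 399453)) (.node (.leaf 536179) (.leaf 9979488)))))))

/-- How a representative arises, part 115. -/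
def tInfoPart115 : Janko1.Tree ℕ := (.node (.node (.node (.node (.node (.node (.leaf 4640360) (.leaf 2427012)) (.node (.leaf 19556) (.leaf 471163))) (.node (.node (.leaf 3635827) (.leaf 3515003)) (.node (.leaf 99428) (.leaf 333401)))) (.node (.node (.node (.leaf 241789) (.leaf 5172848)) (.node (.leaf 1655924) (.leaf 4877946))) (.node (.node (.leaf 394849) (.leaf 4178545)) (.node (.leaf 11121256) (.leaf 4175969))))) (.node (.node (.node (.node (.leaf 4884081) (.leaf 4597320)) (.node (.leaf 11082360) (.leaf 866416))) (.node (.node (.leaf 8961656) (.leaf 4926065)) (.node (.leaf 11463768) (.leaf 779881)))) (.node (.node (.node (.leaf 411244) (.leaf 358001)) (.node (.leaf 438881) (.leaf 437353))) (.node (.node (.leaf 3553368) (.leaf 9321584)) (.node (.leaf 5075040) (.leaf 428641)))))) (.node (.node (.node (.node (.node (.leaf 680044) (.leaf 514176)) (.node (.leaf 508025) (.leaf 9737856))) (.node (.node (.leaf 3402852) (.leaf 723065)) (.node (.leaf 7715432) (.leaf 713337)))) (.node (.node (.node (.leaf 4340832) (.leaf 3466852)) (.node (.leaf 1207420)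 (.leaf 1945696))) (.node (.node (.leaf 3906160) (.leaf 10522232)) (.node (.leaf 5435504) (.leaf 4846177))))) (.node (.node (.node (.node (.leaf 4836985) (.leaf 4320873)) (.node (.leaf 5921368) (.leaf 612465))) (.node (.node (.leaf 474729) (.leaf 614521)) (.node (.leaf 2572376) (.leaf 600697)))) (.node (.node (.node (.leaf 539241) (.leaf 681081)) (.node (.leaf 7069296) (.leaf 11628648))) (.node (.node (.leaf 1467996) (.leaf 1583723)) (.node (.leaf 4002920) (.leaf 1217146)))))))

/-- How a representative arises, part 116. -/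
def tInfoPart116 : Janko1.Tree ℕ := (.node (.node (.node (.node (.node (.node (.leaf 6353008) (.leaf 4873857)) (.node (.leaf 4154489) (.leaf 4151417))) (.node (.node (.leaf 4869233) (.leaf 4920953)) (.node (.leaf 4915321) (.leaf 3139696)))) (.node (.node (.node (.leaf 4202617) (.leaf 4905569)) (.node (.leaf 5070892) (.leaf 1395808))) (.node (.node (.leaf 760433) (.leaf 341601)) (.node (.leaf 338529) (.leaf 11404400))))) (.node (.node (.node (.node (.leaf 822385) (.leaf 418417)) (.node (.leaf 818769) (.leaf 3504216))) (.node (.node (.leaf 5698154) (.leaf 4196977)) (.node (.leaf 4893281) (.leaf 4683376)))) (.node (.node (.node (.leaf 4239473) (.leaf 4960361)) (.node (.leaf 4247657) (.leaf 7984248))) (.node (.node (.leaf 4229761) (.leaf 4945545)) (.node (.leaf 2526290) (.leaf 800881)))))) (.node (.node (.node (.node (.node (.leaf 8148592) (.leaf 10220128)) (.node (.leaf 852577) (.leaf 451161))) (.node (.node (.leaf 10058363) (.leaf 1900154)) (.node (.leaf 10601588) (.leaf 9783917)))) (.node (.node (.node (.leaf 9808979) (.leaf 10019451)) (.node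 (.leaf 7983725) (.leaf 11038332))) (.node (.node (.leaf 3981922) (.leaf 2314332)) (.node (.leaf 8306794) (.leaf 521844))))) (.node (.node (.node (.node (.leaf 9865341) (.leaf 7700075)) (.node (.leaf 7779421) (.leaf 7733875))) (.node (.node (.leaf 9865829) (.leaf 7666755)) (.node (.leaf 5474940) (.leaf 7322748)))) (.node (.node (.node (.leaf 5211258) (.leaf 11365474)) (.node (.leaf 3497093) (.leaf 6876771))) (.node (.node (.leaf 7187539) (.leaf 7143029)) (.node (.leaf 6941803) (.leaf 7419493)))))))

/-- How a representative arises, part 117. -/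
def tInfoPart117 : Janko1.Tree ℕ := (.node (.node (.node (.node (.node (.node (.leaf 3745395) (.leaf 3616859)) (.node (.leaf 7421565) (.leaf 5423212))) (.node (.node (.leaf 6357114) (.leaf 7273068)) (.node (.leaf 3680355) (.leaf 9313917)))) (.node (.node (.node (.leaf 8013434) (.leaf 7145604)) (.node (.leaf 9270394) (.leaf 11675261))) (.node (.node (.leaf 9314413) (.leaf 8978522)) (.node (.leaf 7452812) (.leaf 659058))))) (.node (.node (.node (.node (.leaf 3540082) (.leaf 11881573)) (.node (.leaf 11731051) (.leaf 9234565))) (.node (.node (.leaf 8748652) (.leaf 11491443)) (.node (.leaf 5624436) (.leaf 9392243)))) (.node (.node (.node (.leaf 8275052) (.leaf 9549956)) (.node (.leaf 4626060) (.leaf 6493300))) (.node (.node (.leaf 11195482) (.leaf 10484362)) (.node (.leaf 5004908) (.leaf 6854756)))))) (.node (.node (.node (.node (.node (.leaf 5374570) (.leaf 8541261)) (.node (.leaf 9115772) (.leaf 10402915))) (.node (.node (.leaf 8338029) (.leaf 6300778)) (.node (.leaf 8244843) (.leaf 9157204)))) (.node (.node (.node (.leaf 10369635) (.leaf 8335981))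 (.node (.leaf 5262962) (.leaf 7889004))) (.node (.node (.leaf 8842852) (.leaf 7839866)) (.node (.leaf 5580899) (.leaf 1757819))))) (.node (.node (.node (.node (.leaf 849498) (.leaf 3606114)) (.node (.leaf 5217899) (.leaf 5160549))) (.node (.node (.leaf 2145917) (.leaf 8004204)) (.node (.leaf 2146941) (.leaf 7768178)))) (.node (.node (.node (.leaf 9020514) (.leaf 728706)) (.node (.leaf 9309804) (.leaf 1769069))) (.node (.node (.leaf 5208171) (.leaf 8043626)) (.node (.leaf 5523555) (.leaf 9302586)))))))

/-- How a representative arises, part 118. -/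
def tInfoPart118 : Janko1.Tree ℕ := (.node (.node (.node (.node (.node (.node (.leaf 1702515) (.leaf 8988276)) (.node (.leaf 8754293) (.leaf 11128949))) (.node (.node (.leaf 11161716) (.leaf 10652778)) (.node (.leaf 8754813) (.leaf 1369708)))) (.node (.node (.node (.leaf 11129445) (.leaf 11327101)) (.node (.leaf 5917818) (.leaf 8673909))) (.node (.node (.leaf 11433596) (.leaf 11327589)) (.node (.leaf 3136612) (.leaf 8837235))))) (.node (.node (.node (.node (.leaf 11709546) (.leaf 8765043)) (.node (.leaf 2433650) (.leaf 6417011))) (.node (.node (.leaf 2520181) (.leaf 8719994)) (.node (.leaf 6314565) (.leaf 2646139)))) (.node (.node (.node (.leaf 10036340) (.leaf 6045819)) (.node (.leaf 2710131) (.leaf 2554986))) (.node (.node (.leaf 3285100) (.leaf 8793706)) (.node (.leaf 10324092) (.leaf 6056547)))))) (.node (.node (.node (.node (.node (.leaf 2864244) (.leaf 9626242)) (.node (.leaf 2389637) (.leaf 10073724))) (.node (.node (.leaf 2240632) (.leaf 10143349)) (.node (.leaf 4400200) (.leaf 4019284)))) (.node (.node (.node (.leaf 4350064) (.leaf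 9812080)) (.node (.leaf 2587748) (.leaf 9164893))) (.node (.node (.leaf 11718755) (.leaf 9842811)) (.node (.leaf 11905640) (.leaf 1846392))))) (.node (.node (.node (.node (.leaf 7766643) (.leaf 11683955)) (.node (.leaf 9472096) (.leaf 9386093))) (.node (.node (.leaf 9803387) (.leaf 9334371)) (.node (.leaf 3157106) (.leaf 856685)))) (.node (.node (.node (.leaf 3703404) (.leaf 4684931)) (.node (.leaf 2694232) (.leaf 4355700))) (.node (.node (.leaf 2168940) (.leaf 3687547)) (.node (.leaf 3264634) (.leaf 3364448)))))))

/-- How a representative arises, part 119. -/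
def tInfoPart119 : Janko1.Tree ℕ := (.node (.node (.node (.node (.node (.node (.leaf 5375104) (.leaf 4404804)) (.node (.leaf 7021176) (.leaf 2231396))) (.node (.node (.leaf 2794114) (.leaf 5316208)) (.node (.leaf 5607012) (.leaf 6964344)))) (.node (.node (.node (.leaf 11517035) (.leaf 10051195)) (.node (.leaf 39540) (.leaf 7670371))) (.node (.node (.leaf 9712253) (.leaf 7916653)) (.node (.leaf 121460) (.leaf 1364600))))) (.node (.node (.node (.node (.leaf 9712749) (.leaf 5324896)) (.node (.leaf 7917157) (.leaf 1676388))) (.node (.node (.leaf 7659123) (.leaf 9581181)) (.node (.leaf 2328672) (.leaf 10625147)))) (.node (.node (.node (.leaf 4826748) (.leaf 3328602)) (.node (.leaf 10935419) (.leaf 4524152))) (.node (.node (.leaf 5188188) (.leaf 3152484)) (.node (.leaf 3678304) (.leaf 10616419)))))) (.node (.node (.node (.node (.node (.leaf 10642045) (.leaf 8869475)) (.node (.leaf 8266325) (.leaf 10925691))) (.node (.node (.leaf 5683304) (.leaf 10642557)) (.node (.leaf 8214643) (.leaf 5589091)))) (.node (.node (.node (.leaf 6515813) (.leaf 5685373))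 (.node (.leaf 6099075) (.leaf 1632387))) (.node (.node (.leaf 701044) (.leaf 2397776)) (.node (.leaf 6516349) (.leaf 6195776))))) (.node (.node (.node (.node (.leaf 2693755) (.leaf 2644037)) (.node (.leaf 1644155) (.leaf 1223788))) (.node (.node (.leaf 6890092) (.leaf 3752032)) (.node (.leaf 6037627) (.leaf 1575027)))) (.node (.node (.node (.leaf 5586557) (.leaf 6429308)) (.node (.leaf 8898160) (.leaf 10161768))) (.node (.node (.leaf 10410619) (.leaf 332402)) (.node (.leaf 7808632) (.leaf 314986)))))))

/-- How a representative arises, part 120. -/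
def tInfoPart120 : Janko1.Tree ℕ := (.node (.node (.node (.node (.node (.node (.leaf 8935504) (.leaf 8412293)) (.node (.leaf 10376827) (.leaf 8768619))) (.node (.node (.leaf 1912434) (.leaf 11180635)) (.node (.leaf 10285661) (.leaf 10372728)))) (.node (.node (.node (.leaf 8471149) (.leaf 463474)) (.node (.leaf 3212408) (.leaf 10839661))) (.node (.node (.leaf 5228656) (.leaf 8759899)) (.node (.leaf 2042482) (.leaf 8906864))))) (.node (.node (.node (.node (.leaf 2639995) (.leaf 2890861)) (.node (.leaf 4914272) (.leaf 6213709))) (.node (.node (.leaf 1710195) (.leaf 809592)) (.node (.leaf 7857264) (.leaf 5276795)))) (.node (.node (.node (.leaf 11510896) (.leaf 2630771)) (.node (.leaf 2021989) (.leaf 3221088))) (.node (.node (.leaf 10421840) (.leaf 8061544)) (.node (.leaf 7437938) (.leaf 10735228)))))) (.node (.node (.node (.node (.node (.leaf 7428730) (.leaf 3663945)) (.node (.leaf 6206578) (.leaf 8679532))) (.node (.node (.leaf 3710081) (.leaf 11044458)) (.node (.leaf 3702865) (.leaf 7348290)))) (.node (.node (.node (.leaf 6760553) (.leaf 11779674))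 (.node (.leaf 6752849) (.leaf 11791978))) (.node (.node (.leaf 6730865) (.leaf 6102138)) (.node (.leaf 6814841) (.leaf 10963586))))) (.node (.node (.node (.node (.leaf 3827821) (.leaf 8162402)) (.node (.leaf 813685) (.leaf 1437290))) (.node (.node (.leaf 2000500) (.leaf 3828301)) (.node (.leaf 7884914) (.leaf 814197)))) (.node (.node (.node (.leaf 904306) (.leaf 893042)) (.node (.leaf 354932) (.leaf 8220738))) (.node (.node (.leaf 8729716) (.leaf 3426945)) (.node (.leaf 3429489) (.leaf 428156)))))))

/-- How a representative arises, part 121. -/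
def tInfoPart121 : Janko1.Tree ℕ := (.node (.node (.node (.node (.node (.node (.leaf 3497577) (.leaf 1030250)) (.node (.leaf 1016938) (.leaf 6644305))) (.node (.node (.leaf 10242642) (.leaf 8457836)) (.node (.leaf 6634601) (.leaf 6650489)))) (.node (.node (.node (.leaf 6648425) (.leaf 6627953)) (.node (.leaf 6710377) (.leaf 9950842))) (.node (.node (.leaf 7596148) (.leaf 2444396)) (.node (.leaf 6700145) (.leaf 4167300))))) (.node (.node (.node (.node (.leaf 10327138) (.leaf 3799665)) (.node (.leaf 7632508) (.leaf 3790441))) (.node (.node (.leaf 11616900) (.leaf 3861633)) (.node (.leaf 4670074) (.leaf 3852913)))) (.node (.node (.node (.leaf 3649633) (.leaf 3667049)) (.node (.leaf 3644017) (.leaf 3640937))) (.node (.node (.leaf 3658361) (.leaf 3731033)) (.node (.leaf 3730041) (.leaf 1610370)))))) (.node (.node (.node (.node (.node (.leaf 1419396) (.leaf 7919706)) (.node (.leaf 7923314) (.leaf 6713452))) (.node (.node (.leaf 958586) (.leaf 8967276)) (.node (.leaf 6808689) (.leaf 1493106)))) (.node (.node (.node (.leaf 6783105) (.leaf 3557985))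 (.node (.leaf 10063986) (.leaf 3564137))) (.node (.node (.leaf 4727402) (.leaf 3554921)) (.node (.leaf 11346052) (.leaf 3570273))))) (.node (.node (.node (.node (.leaf 8139900) (.leaf 1198189)) (.node (.leaf 7298673) (.leaf 1587325))) (.node (.node (.leaf 3485276) (.leaf 4618346)) (.node (.leaf 7294585) (.leaf 7349353)))) (.node (.node (.node (.leaf 7872116) (.leaf 5040242)) (.node (.leaf 1522299) (.leaf 5043322))) (.node (.node (.leaf 2203250) (.leaf 6641777)) (.node (.leaf 6639217) (.leaf 6630481)))))))

/-- How a representative arises, part 122. -/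
def tInfoPart122 : Janko1.Tree ℕ := (.node (.node (.node (.node (.node (.node (.leaf 2815084) (.leaf 11604604)) (.node (.leaf 9400442) (.leaf 6685817))) (.node (.node (.leaf 6697569) (.leaf 2340986)) (.node (.leaf 3796609) (.leaf 3772001)))) (.node (.node (.node (.leaf 3300996) (.leaf 3818090)) (.node (.leaf 3858529) (.leaf 3833449))) (.node (.node (.leaf 6049402) (.leaf 1850989)) (.node (.leaf 7412849) (.leaf 2713715))))) (.node (.node (.node (.node (.leaf 6563948) (.leaf 9241188)) (.node (.leaf 7034988) (.leaf 3432537))) (.node (.node (.leaf 3441257) (.leaf 11008618)) (.node (.leaf 6982268) (.leaf 3496561)))) (.node (.node (.node (.leaf 10209404) (.leaf 3447409)) (.node (.leaf 3503225) (.leaf 3487353))) (.node (.node (.leaf 1646203) (.leaf 6615652)) (.node (.leaf 9785973) (.leaf 7654000)))))) (.node (.node (.node (.node (.node (.leaf 10849896) (.leaf 7987845)) (.node (.leaf 7692395) (.leaf 9786501))) (.node (.node (.leaf 9787453) (.leaf 10813048)) (.node (.leaf 4191352) (.leaf 9674848)))) (.node (.node (.node (.leaf 8701024) (.leaf 8552032))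 (.node (.leaf 9843787) (.leaf 9866853))) (.node (.node (.leaf 4137040) (.leaf 7783557)) (.node (.leaf 10013235) (.leaf 9868917))))) (.node (.node (.node (.node (.leaf 9867373) (.leaf 9609312)) (.node (.leaf 3499645) (.leaf 958048))) (.node (.node (.leaf 6287464) (.leaf 3753059)) (.node (.leaf 3500117) (.leaf 895064)))) (.node (.node (.node (.leaf 4575872) (.leaf 8964704)) (.node (.leaf 3560019) (.leaf 7424637))) (.node (.node (.leaf 7423581) (.leaf 11466864)) (.node (.leaf 6803552) (.leaf 10339920)))))))

/-- How a representative arises, part 123. -/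
def tInfoPart123 : Janko1.Tree ℕ := (.node (.node (.node (.node (.node (.node (.leaf 9363560) (.leaf 7425133)) (.node (.leaf 7197267) (.leaf 10299504))) (.node (.node (.leaf 3366005) (.leaf 931968)) (.node (.leaf 7099524) (.leaf 3697740)))) (.node (.node (.node (.leaf 9437307) (.leaf 6844514)) (.node (.leaf 2980952) (.leaf 6848090))) (.node (.node (.leaf 11482235) (.leaf 5800044)) (.node (.leaf 9316973) (.leaf 9400939))))) (.node (.node (.node (.node (.leaf 6430826) (.leaf 11677813)) (.node (.leaf 5853804) (.leaf 11885685))) (.node (.node (.leaf 6949514) (.leaf 6954090)) (.node (.leaf 7047292) (.leaf 3634804)))) (.node (.node (.node (.leaf 11886149) (.leaf 11181163)) (.node (.leaf 5917304) (.leaf 8861811))) (.node (.node (.leaf 9093749) (.leaf 10933355)) (.node (.leaf 569464) (.leaf 10909797)))))) (.node (.node (.node (.node (.node (.leaf 8760435) (.leaf 9094253)) (.node (.leaf 11631736) (.leaf 8891525))) (.node (.node (.leaf 10516096) (.leaf 8802931)) (.node (.leaf 9532536) (.leaf 10990725)))) (.node (.node (.node (.leaf 11669096) (.leaf 10550880))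 (.node (.leaf 8768099) (.leaf 10991229))) (.node (.node (.leaf 4257392) (.leaf 3130981)) (.node (.leaf 2755683) (.leaf 538736))))) (.node (.node (.node (.node (.leaf 5992557) (.leaf 6365811)) (.node (.leaf 7007314) (.leaf 2694771))) (.node (.node (.leaf 2566779) (.leaf 2766429)) (.node (.leaf 2764901) (.leaf 5396080)))) (.node (.node (.node (.leaf 6482522) (.leaf 2766973)) (.node (.leaf 2765429) (.leaf 6038107))) (.node (.node (.leaf 6358123) (.leaf 6893170)) (.node (.leaf 3970160) (.leaf 2574459)))))))

/-- How a representative arises, part 124. -/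
def tInfoPart124 : Janko1.Tree ℕ := (.node (.node (.node (.node (.node (.node (.leaf 313978) (.leaf 10409587)) (.node (.leaf 5137524) (.leaf 3640442))) (.node (.node (.leaf 462442) (.leaf 5084780)) (.node (.leaf 10625651) (.leaf 2308202)))) (.node (.node (.node (.leaf 8116853) (.leaf 8312923)) (.node (.leaf 8117333) (.leaf 8274027))) (.node (.node (.leaf 5577835) (.leaf 1512061)) (.node (.leaf 5487213) (.leaf 1105024))))) (.node (.node (.node (.node (.leaf 5489781) (.leaf 5589619)) (.node (.leaf 1632859) (.leaf 5787261))) (.node (.node (.leaf 10280032) (.leaf 3498616)) (.node (.leaf 5569634) (.leaf 5713532)))) (.node (.node (.node (.leaf 3524217) (.leaf 11851362)) (.node (.leaf 10630242) (.leaf 3646561))) (.node (.node (.leaf 3517553) (.leaf 7436410)) (.node (.leaf 3637865) (.leaf 11043442)))))) (.node (.node (.node (.node (.node (.leaf 5986932) (.leaf 3606113)) (.node (.leaf 11032178) (.leaf 3713145))) (.node (.node (.leaf 3582041) (.leaf 3598441)) (.node (.leaf 3709025) (.leaf 8821868)))) (.node (.node (.node (.leaf 11035252) (.leaf 4457084))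 (.node (.leaf 5458554) (.leaf 2327132))) (.node (.node (.leaf 10574458) (.leaf 11003004)) (.node (.leaf 6749297) (.leaf 7319129))))) (.node (.node (.node (.node (.leaf 7335001) (.leaf 6816857)) (.node (.leaf 4219506) (.leaf 2156148))) (.node (.node (.leaf 8392804) (.leaf 9725546)) (.node (.leaf 6803553) (.leaf 6780521)))) (.node (.node (.node (.leaf 3997812) (.leaf 9118834)) (.node (.leaf 5489276) (.leaf 7411841))) (.node (.node (.leaf 7336036) (.leaf 3200114)) (.node (.leaf 11674220) (.leaf 8162922)))))))

/-- How a representative arises, part 125. -/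
def tInfoPart125 : Janko1.Tree ℕ := (.node (.node (.node (.node (.node (.node (.leaf 8156274) (.leaf 9432172)) (.node (.leaf 3448949) (.leaf 892034))) (.node (.node (.leaf 45684) (.leaf 8839290)) (.node (.leaf 904818) (.leaf 6717553)))) (.node (.node (.node (.leaf 7885930) (.leaf 7607924)) (.node (.leaf 3507795) (.leaf 3814513))) (.node (.node (.leaf 128092) (.leaf 9186906)) (.node (.leaf 8225346) (.leaf 3807353))))) (.node (.node (.node (.node (.leaf 7646332) (.leaf 3428977)) (.node (.leaf 248429) (.leaf 3933316))) (.node (.node (.leaf 3498617) (.leaf 3880561)) (.node (.leaf 3449969) (.leaf 2833018)))) (.node (.node (.node (.leaf 3870825) (.leaf 7957610)) (.node (.leaf 2819194) (.leaf 3490857))) (.node (.node (.leaf 9395820) (.leaf 3546217)) (.node (.leaf 3005556) (.leaf 706148)))))) (.node (.node (.node (.node (.node (.leaf 3540081) (.leaf 1109098)) (.node (.leaf 6505556) (.leaf 2892914))) (.node (.node (.leaf 7996010) (.leaf 7916156)) (.node (.leaf 7988842) (.leaf 3611753)))) (.node (.node (.node (.leaf 1158764) (.leaf 3588705)) (.node (.leaf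 3715161) (.leaf 11367012))) (.node (.node (.leaf 3729025) (.leaf 3706985)) (.node (.leaf 8152692) (.leaf 9111116))))) (.node (.node (.node (.node (.leaf 7286393) (.leaf 3488868)) (.node (.leaf 6745201) (.leaf 7265393))) (.node (.node (.leaf 5068364) (.leaf 6754929)) (.node (.leaf 7270505) (.leaf 6733425)))) (.node (.node (.node (.leaf 7338089) (.leaf 7317609)) (.node (.leaf 6797409) (.leaf 6793329))) (.node (.node (.leaf 6456948) (.leaf 3253362)) (.node (.leaf 11093108) (.leaf 7306345)))))))

/-- How a representative arises, part 126. -/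
def tInfoPart126 : Janko1.Tree ℕ := (.node (.node (.node (.node (.node (.node (.leaf 7322217) (.leaf 8189018)) (.node (.leaf 2472053) (.leaf 6678129))) (.node (.node (.leaf 7413329) (.leaf 9681010)) (.node (.leaf 1719395) (.leaf 9692266)))) (.node (.node (.node (.leaf 6671481) (.leaf 2584187)) (.node (.leaf 10031228) (.leaf 6820980))) (.node (.node (.leaf 6728305) (.leaf 11748474)) (.node (.leaf 7444609) (.leaf 10528890))))) (.node (.node (.node (.node (.leaf 8105036) (.leaf 7294586)) (.node (.leaf 2652787) (.leaf 3811961))) (.node (.node (.leaf 4271210) (.leaf 10998378)) (.node (.leaf 3442289) (.leaf 9747058)))) (.node (.node (.node (.leaf 8071292) (.leaf 3810393)) (.node (.leaf 3431017) (.leaf 5515866))) (.node (.node (.leaf 4925540) (.leaf 3823721)) (.node (.leaf 3882601) (.leaf 11811418)))))) (.node (.node (.node (.node (.node (.leaf 3504217) (.leaf 10595946)) (.node (.leaf 7400570) (.leaf 10606690))) (.node (.node (.leaf 6250088) (.leaf 1011331)) (.node (.leaf 877664) (.leaf 805002)))) (.node (.node (.node (.leaf 8986216) (.leaf 120947))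 (.node (.leaf 11108448) (.leaf 3582538))) (.node (.node (.leaf 11606129) (.leaf 4305971)) (.node (.leaf 11608697) (.leaf 6730864))))) (.node (.node (.node (.node (.leaf 9201785) (.leaf 3155043)) (.node (.leaf 9554545) (.leaf 4261499))) (.node (.node (.leaf 10317936) (.leaf 9577585)) (.node (.leaf 1082507) (.leaf 9580657)))) (.node (.node (.node (.leaf 9245257) (.leaf 11078240)) (.node (.leaf 4451965) (.leaf 11551313))) (.node (.node (.leaf 919120) (.leaf 768637)) (.node (.leaf 3782261) (.leaf 11620457)))))))

/-- How a representative arises, part 127. -/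
def tInfoPart127 : Janko1.Tree ℕ := (.node (.node (.node (.node (.node (.node (.leaf 4451453) (.leaf 3782757)) (.node (.leaf 883821) (.leaf 9183873))) (.node (.node (.leaf 9541737) (.leaf 3508344)) (.node (.leaf 3606640) (.leaf 5989496)))) (.node (.node (.node (.leaf 9604209) (.leaf 2174045)) (.node (.leaf 9595489) (.leaf 1130618))) (.node (.node (.leaf 8819824) (.leaf 7010396)) (.node (.leaf 9151585) (.leaf 518768))))) (.node (.node (.node (.node (.leaf 5596781) (.leaf 608866)) (.node (.leaf 7099992) (.leaf 10568264))) (.node (.node (.leaf 5404784) (.leaf 1147515)) (.node (.leaf 5961848) (.leaf 6643826)))) (.node (.node (.node (.leaf 9136249) (.leaf 9796200)) (.node (.leaf 9161305) (.leaf 2105459))) (.node (.node (.leaf 7670872) (.leaf 5660267)) (.node (.leaf 2786420) (.leaf 9654361)))))) (.node (.node (.node (.node (.node (.leaf 6731386) (.leaf 11704425)) (.node (.leaf 1993848) (.leaf 5595763))) (.node (.node (.leaf 11504249) (.leaf 6428795)) (.node (.leaf 11624560) (.leaf 11535465)))) (.node (.node (.node (.leaf 6337658) (.leaf 1520756))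 (.node (.leaf 11548785) (.leaf 1845370))) (.node (.node (.leaf 11618417) (.leaf 1800293)) (.node (.leaf 1922661) (.leaf 9186409))))) (.node (.node (.node (.node (.leaf 2913397) (.leaf 9180257)) (.node (.leaf 4973669) (.leaf 9537657))) (.node (.node (.leaf 6437972) (.leaf 1920621)) (.node (.leaf 4976245) (.leaf 9227873)))) (.node (.node (.node (.leaf 5804133) (.leaf 10244728)) (.node (.leaf 2061427) (.leaf 11637353))) (.node (.node (.leaf 11644001) (.leaf 11149920)) (.node (.leaf 6331000) (.leaf 5965946)))))))

/-- How a representative arises, part 128. -/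
def tInfoPart128 : Janko1.Tree ℕ := (.node (.node (.node (.node (.node (.node (.leaf 1042528) (.leaf 5129851)) (.node (.leaf 10039904) (.leaf 930908))) (.node (.node (.leaf 9558633) (.leaf 8143976)) (.node (.leaf 9278584) (.leaf 9239657)))) (.node (.node (.node (.leaf 6485107) (.leaf 9248377)) (.node (.leaf 7856242) (.leaf 10901108))) (.node (.node (.leaf 8671348) (.leaf 836722)) (.node (.leaf 4323428) (.leaf 3234923))))) (.node (.node (.node (.node (.leaf 4833907) (.leaf 9472629)) (.node (.leaf 6804571) (.leaf 10776684))) (.node (.node (.leaf 7864909) (.leaf 3174507)) (.node (.leaf 4126332) (.leaf 9664093)))) (.node (.node (.node (.leaf 7434852) (.leaf 7862885)) (.node (.leaf 230012) (.leaf 1233002))) (.node (.node (.leaf 6413434) (.leaf 7584884)) (.node (.leaf 4938322) (.leaf 3799141)))))) (.node (.node (.node (.node (.node (.leaf 10499194) (.leaf 7513171)) (.node (.leaf 10145370) (.leaf 11115122))) (.node (.node (.leaf 7551580) (.leaf 3914861)) (.node (.leaf 11377274) (.leaf 8028794)))) (.node (.node (.node (.leaf 11458668) (.leaf 1377388))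 (.node (.leaf 5148756) (.leaf 2190453))) (.node (.node (.leaf 11267699) (.leaf 3559034)) (.node (.leaf 6355549) (.leaf 7822450))))) (.node (.node (.node (.node (.leaf 9201236) (.leaf 10905707)) (.node (.leaf 8558197) (.leaf 1165419))) (.node (.node (.leaf 3043947) (.leaf 11212917)) (.node (.leaf 5101691) (.leaf 8560213)))) (.node (.node (.node (.leaf 9046644) (.leaf 2245747)) (.node (.leaf 11210365) (.leaf 4777578))) (.node (.node (.leaf 10650709) (.leaf 10462330)) (.node (.leaf 8775805) (.leaf 5616195)))))))

/-- How a representative arises, part 129. -/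
def tInfoPart129 : Janko1.Tree ℕ := (.node (.node (.node (.node (.node (.node (.leaf 5299322) (.leaf 10591357)) (.node (.leaf 5145699) (.leaf 6493299))) (.node (.node (.leaf 10397812) (.leaf 1818237)) (.node (.leaf 11225691) (.leaf 9637490)))) (.node (.node (.node (.leaf 6879364) (.leaf 5310029)) (.node (.leaf 11116652) (.leaf 2634842))) (.node (.node (.leaf 6138493) (.leaf 727652)) (.node (.leaf 10701435) (.leaf 4617332))))) (.node (.node (.node (.node (.leaf 11079268) (.leaf 8850036)) (.node (.leaf 659580) (.leaf 1748098))) (.node (.node (.leaf 1935989) (.leaf 9089651)) (.node (.leaf 3476588) (.leaf 5820021)))) (.node (.node (.node (.leaf 7249514) (.leaf 8907373)) (.node (.leaf 5616715) (.leaf 5916779))) (.node (.node (.leaf 1430132) (.leaf 11006573)) (.node (.leaf 9928826) (.leaf 6290044)))))) (.node (.node (.node (.node (.node (.leaf 10894442) (.leaf 7133266)) (.node (.leaf 1165947) (.leaf 3045475))) (.node (.node (.leaf 9938548) (.leaf 10786405)) (.node (.leaf 5100131) (.leaf 11650682)))) (.node (.node (.node (.leaf 2247267) (.leaf 8420997))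 (.node (.leaf 10826850) (.leaf 4408938))) (.node (.node (.leaf 807530) (.leaf 41579)) (.node (.leaf 4034691) (.leaf 3098226))))) (.node (.node (.node (.node (.leaf 2051196) (.leaf 689768)) (.node (.leaf 3583610) (.leaf 5298792))) (.node (.node (.leaf 6980704) (.leaf 1200258)) (.node (.leaf 9237112) (.leaf 9587313)))) (.node (.node (.node (.leaf 3457650) (.leaf 2602604)) (.node (.leaf 252036) (.leaf 663144))) (.node (.node (.leaf 4841568) (.leaf 5497956)) (.node (.leaf 2713712) (.leaf 3404373)))))))

/-- How a representative arises, part 130. -/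
def tInfoPart130 : Janko1.Tree ℕ := (.node (.node (.node (.node (.node (.node (.leaf 3404909) (.leaf 9182329)) (.node (.leaf 7364197) (.leaf 196213))) (.node (.node (.leaf 183420) (.leaf 3272813)) (.node (.leaf 3353720) (.leaf 8111208)))) (.node (.node (.node (.leaf 9568369) (.leaf 9114737)) (.node (.leaf 9600617) (.leaf 2371672))) (.node (.node (.leaf 9592953) (.leaf 5078133)) (.node (.leaf 9895504) (.leaf 604794))))) (.node (.node (.node (.node (.leaf 190032) (.leaf 9631329)) (.node (.leaf 5664360) (.leaf 1262186))) (.node (.node (.leaf 6016629) (.leaf 11689585)) (.node (.leaf 6743140) (.leaf 11717745)))) (.node (.node (.node (.leaf 9411704) (.leaf 1695832)) (.node (.leaf 1675893) (.leaf 3586676))) (.node (.node (.leaf 1329772) (.leaf 7570032)) (.node (.leaf 5604467) (.leaf 6630482)))))) (.node (.node (.node (.node (.node (.leaf 2283120) (.leaf 199288)) (.node (.leaf 2060923) (.leaf 4708468))) (.node (.node (.leaf 6745202) (.leaf 1731704)) (.node (.leaf 11541609) (.leaf 5650563)))) (.node (.node (.node (.leaf 5401693) (.leaf 6232677)) (.node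 (.leaf 11564161) (.leaf 4106874))) (.node (.node (.leaf 11557505) (.leaf 252458)) (.node (.leaf 6277188) (.leaf 1418333))))) (.node (.node (.node (.node (.leaf 2601594) (.leaf 9534577)) (.node (.leaf 5703797) (.leaf 8038992))) (.node (.node (.leaf 6534253) (.leaf 5191272)) (.node (.leaf 2300005) (.leaf 9573489)))) (.node (.node (.node (.leaf 9566313) (.leaf 2839144)) (.node (.leaf 7216722) (.leaf 11580545))) (.node (.node (.leaf 11661921) (.leaf 11669097)) (.node (.leaf 5952107) (.leaf 9544801)))))))

/-- How a representative arises, part 131. -/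
def tInfoPart131 : Janko1.Tree ℕ := (.node (.node (.node (.node (.node (.node (.leaf 610924) (.leaf 9550969)) (.node (.leaf 9203809) (.leaf 8046200))) (.node (.node (.leaf 5910147) (.leaf 2105947)) (.node (.leaf 5198920) (.leaf 2230883)))) (.node (.node (.node (.leaf 1152096) (.leaf 11489904)) (.node (.leaf 9248873) (.leaf 9948797))) (.node (.node (.leaf 4269683) (.leaf 9261197)) (.node (.leaf 1366650) (.leaf 7194220))))) (.node (.node (.node (.node (.leaf 7598709) (.leaf 1018483)) (.node (.leaf 9016954) (.leaf 9182829))) (.node (.node (.leaf 6759547) (.leaf 10162293)) (.node (.leaf 7282803) (.leaf 1227882)))) (.node (.node (.node (.leaf 7521877) (.leaf 11816565)) (.node (.leaf 3490858) (.leaf 7075413))) (.node (.node (.leaf 6184588) (.leaf 10906220)) (.node (.leaf 4070516) (.leaf 10497130)))))) (.node (.node (.node (.node (.node (.leaf 10142339) (.leaf 11110498)) (.node (.leaf 215669) (.leaf 1880164))) (.node (.node (.leaf 7382653) (.leaf 8550516)) (.node (.leaf 10144882) (.leaf 11382378)))) (.node (.node (.node (.leaf 10432106) (.leaf 9874020))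 (.node (.leaf 8017018) (.leaf 8096364))) (.node (.node (.leaf 3431018) (.leaf 8974930)) (.node (.leaf 8607859) (.leaf 10366587))))) (.node (.node (.node (.node (.leaf 2955898) (.leaf 5921373)) (.node (.leaf 8579699) (.leaf 10319995))) (.node (.node (.leaf 11324524) (.leaf 10672227)) (.node (.leaf 8549499) (.leaf 8060003)))) (.node (.node (.node (.leaf 8065124) (.leaf 11259019)) (.node (.leaf 3045995) (.leaf 5205626))) (.node (.node (.leaf 10855517) (.leaf 5624435)) (.node (.leaf 8907372) (.leaf 840804)))))))

/-- How a representative arises, part 132. -/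
def tInfoPart132 : Janko1.Tree ℕ := (.node (.node (.node (.node (.node (.node (.leaf 6767218) (.leaf 11147898)) (.node (.leaf 5110908) (.leaf 4892282))) (.node (.node (.leaf 6372954) (.leaf 5146747)) (.node (.leaf 5671555) (.leaf 9636970)))) (.node (.node (.node (.leaf 10319483) (.leaf 11491444)) (.node (.leaf 2443373) (.leaf 6246013))) (.node (.node (.leaf 972924) (.leaf 2635890)) (.node (.leaf 1743466) (.leaf 2316885))))) (.node (.node (.node (.node (.leaf 915044) (.leaf 8981084)) (.node (.leaf 1299045) (.leaf 11532396))) (.node (.node (.leaf 11722354) (.leaf 1174123)) (.node (.leaf 10525269) (.leaf 8701029)))) (.node (.node (.node (.leaf 8701557) (.leaf 2185851)) (.node (.leaf 11083396) (.leaf 5626475))) (.node (.node (.leaf 10821754) (.leaf 3497580)) (.node (.leaf 1236060) (.leaf 5885010)))))) (.node (.node (.node (.node (.node (.leaf 8198268) (.leaf 6504563)) (.node (.leaf 57467) (.leaf 11560533))) (.node (.node (.leaf 7798397) (.leaf 2940520)) (.node (.leaf 9469565) (.leaf 3236467)))) (.node (.node (.node (.leaf 11561069) (.leaf 4831363))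 (.node (.leaf 9469045) (.leaf 1016939))) (.node (.node (.leaf 4079228) (.leaf 8245352)) (.node (.leaf 5154376) (.leaf 9139323))))) (.node (.node (.node (.node (.leaf 913512) (.leaf 4464741)) (.node (.leaf 6252656) (.leaf 9952368))) (.node (.node (.leaf 9650803) (.leaf 11103856)) (.node (.leaf 4465245) (.leaf 9784419)))) (.node (.node (.node (.leaf 3914349) (.leaf 895597)) (.node (.leaf 6647917) (.leaf 4170349))) (.node (.node (.leaf 9165955) (.leaf 1632384)) (.node (.leaf 7985227) (.leaf 10354288)))))))

/-- How a representative arises, part 133. -/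
def tInfoPart133 : Janko1.Tree ℕ := (.node (.node (.node (.node (.node (.node (.leaf 9375864) (.leaf 2188397)) (.node (.leaf 8014443) (.leaf 11239523))) (.node (.node (.leaf 8612451) (.leaf 10923627)) (.node (.leaf 2032736) (.leaf 5080170)))) (.node (.node (.node (.leaf 8513659) (.leaf 10571896)) (.node (.leaf 1553013) (.leaf 1931352))) (.node (.node (.leaf 8425064) (.leaf 7058512)) (.node (.leaf 11619440) (.leaf 1553517))))) (.node (.node (.node (.node (.leaf 6953580) (.leaf 1405058)) (.node (.leaf 2192923) (.leaf 5994104))) (.node (.node (.leaf 3148922) (.leaf 10852960)) (.node (.leaf 11209821) (.leaf 10588261)))) (.node (.node (.node (.leaf 8210557) (.leaf 2851948)) (.node (.leaf 2133091) (.leaf 2261627))) (.node (.node (.leaf 8209517) (.leaf 9544800)) (.node (.leaf 5547114) (.leaf 10665595)))))) (.node (.node (.node (.node (.node (.leaf 9099888) (.leaf 6135405)) (.node (.leaf 9102963) (.leaf 8053891))) (.node (.node (.leaf 5308029) (.leaf 3059816)) (.node (.leaf 6481004) (.leaf 1478776)))) (.node (.node (.node (.leaf 9060427) (.leaf 10321011))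 (.node (.leaf 8615011) (.leaf 4211290))) (.node (.node (.leaf 6676088) (.leaf 3444332)) (.node (.leaf 10247280) (.leaf 9275464))))) (.node (.node (.node (.node (.leaf 1081952) (.leaf 11174480)) (.node (.leaf 8353885) (.leaf 6446715))) (.node (.node (.leaf 8904317) (.leaf 2260587)) (.node (.leaf 10025032) (.leaf 8354429)))) (.node (.node (.node (.leaf 9051744) (.leaf 1983602)) (.node (.leaf 1996930) (.leaf 10221165))) (.node (.node (.leaf 10785389) (.leaf 8963197)) (.node (.leaf 6633080) (.leaf 3216500)))))))

/-- How a representative arises, part 134. -/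
def tInfoPart134 : Janko1.Tree ℕ := (.node (.node (.node (.node (.node (.node (.leaf 10783317) (.leaf 9954425)) (.node (.leaf 4042827) (.leaf 6605442))) (.node (.node (.leaf 7261307) (.leaf 11610242)) (.node (.leaf 6788203) (.leaf 9972850)))) (.node (.node (.node (.leaf 9891956) (.leaf 7576689)) (.node (.leaf 8651380) (.leaf 6910570))) (.node (.node (.leaf 7925857) (.leaf 7318627)) (.node (.leaf 9884769) (.leaf 7970906))))) (.node (.node (.node (.node (.leaf 764021) (.leaf 6954629)) (.node (.leaf 9981505) (.leaf 3346538))) (.node (.node (.leaf 764541) (.leaf 970858)) (.node (.leaf 8402004) (.leaf 6627405)))) (.node (.node (.node (.leaf 7531121) (.leaf 2129028)) (.node (.leaf 7559793) (.leaf 877117))) (.node (.node (.leaf 8174714) (.leaf 8171098)) (.node (.leaf 5015666) (.leaf 9245260)))))) (.node (.node (.node (.node (.node (.leaf 6866034) (.leaf 11237474)) (.node (.leaf 1141885) (.leaf 7941220))) (.node (.node (.leaf 795252) (.leaf 9949810)) (.node (.leaf 7976025) (.leaf 5503573)))) (.node (.node (.node (.leaf 9814625) (.leaf 2539629)) (.node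 (.leaf 9213532) (.leaf 6552698))) (.node (.node (.leaf 2541181) (.leaf 2048107)) (.node (.leaf 8142450) (.leaf 3367004))))) (.node (.node (.node (.node (.leaf 908882) (.leaf 7805572)) (.node (.leaf 7506017) (.leaf 2689650))) (.node (.node (.leaf 5134955) (.leaf 5965411)) (.node (.leaf 10024065) (.leaf 10031721)))) (.node (.node (.node (.leaf 6405244) (.leaf 9324156)) (.node (.leaf 10311252) (.leaf 5326972))) (.node (.node (.leaf 7934562) (.leaf 9878649)) (.node (.leaf 8145516) (.leaf 6117957)))))))

/-- How a representative arises, part 135. -/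
def tInfoPart135 : Janko1.Tree ℕ := (.node (.node (.node (.node (.node (.node (.leaf 9918049) (.leaf 1794173)) (.node (.leaf 5479538) (.leaf 5800045))) (.node (.node (.leaf 7870057) (.leaf 10993258)) (.node (.leaf 10979962) (.leaf 8181372)))) (.node (.node (.node (.leaf 5798509) (.leaf 4969085)) (.node (.leaf 7563385) (.leaf 8015996))) (.node (.node (.leaf 3864178) (.leaf 5905011)) (.node (.leaf 1426012) (.leaf 9988209))))) (.node (.node (.node (.node (.leaf 8681586) (.leaf 9996921)) (.node (.leaf 7698010) (.leaf 9449562))) (.node (.node (.leaf 3032683) (.leaf 4803684)) (.node (.leaf 11546716) (.leaf 2248306)))) (.node (.node (.node (.leaf 2690128) (.leaf 4058747)) (.node (.leaf 6440048) (.leaf 2717784))) (.node (.node (.leaf 7155260) (.leaf 3758700)) (.node (.leaf 6525040) (.leaf 736880)))))) (.node (.node (.node (.node (.node (.leaf 3261040) (.leaf 7208052)) (.node (.leaf 10159733) (.leaf 1324104))) (.node (.node (.leaf 8070256) (.leaf 3358824)) (.node (.leaf 9242232) (.leaf 5023874)))) (.node (.node (.node (.leaf 1350768) (.leaf 5027434))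 (.node (.leaf 6431336) (.leaf 1074290))) (.node (.node (.leaf 4030044) (.leaf 4568693)) (.node (.leaf 11243120) (.leaf 212093))))) (.node (.node (.node (.node (.leaf 2718834) (.leaf 7380077)) (.node (.leaf 6986368) (.leaf 1314416))) (.node (.node (.leaf 3286117) (.leaf 3284573)) (.node (.leaf 5360752) (.leaf 1475698)))) (.node (.node (.node (.leaf 11807355) (.leaf 4881533)) (.node (.leaf 1343096) (.leaf 4974706))) (.node (.node (.leaf 10321523) (.leaf 2288240)) (.node (.leaf 8539219) (.leaf 6158448)))))))

/-- How a representative arises, part 136. -/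
def tInfoPart136 : Janko1.Tree ℕ := (.node (.node (.node (.node (.node (.node (.leaf 11003488) (.leaf 7526512)) (.node (.leaf 6031453) (.leaf 8022131))) (.node (.node (.leaf 8317040) (.leaf 3675744)) (.node (.leaf 8623723) (.leaf 5200509)))) (.node (.node (.node (.leaf 7268448) (.leaf 4649602)) (.node (.leaf 1675360) (.leaf 10695803))) (.node (.node (.leaf 9038949) (.leaf 4510832)) (.node (.leaf 268912) (.leaf 741484))))) (.node (.node (.node (.node (.leaf 2656346) (.leaf 10997328)) (.node (.leaf 5672555) (.leaf 7518328))) (.node (.node (.leaf 10379373) (.leaf 3062379)) (.node (.leaf 3261562) (.leaf 8308864)))) (.node (.node (.node (.leaf 8841821) (.leaf 3664488)) (.node (.leaf 5613672) (.leaf 8280165))) (.node (.node (.leaf 8279677) (.leaf 5977203)) (.node (.leaf 8513123) (.leaf 10877043)))))) (.node (.node (.node (.node (.node (.leaf 11231339) (.leaf 2807920)) (.node (.leaf 8624763) (.leaf 2439797))) (.node (.node (.leaf 2440285) (.leaf 4307570)) (.node (.leaf 3239528) (.leaf 10435176)))) (.node (.node (.node (.leaf 1224288) (.leaf 10675331))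 (.node (.leaf 6687860) (.leaf 3203196))) (.node (.node (.leaf 6882912) (.leaf 1189480)) (.node (.leaf 5716069) (.leaf 4979332))))) (.node (.node (.node (.node (.leaf 6622832) (.leaf 852080)) (.node (.leaf 2132091) (.leaf 11074677))) (.node (.node (.leaf 559186) (.leaf 547434)) (.node (.leaf 3232344) (.leaf 8627317)))) (.node (.node (.node (.leaf 10713717) (.leaf 10712701)) (.node (.leaf 1215600) (.leaf 1196660))) (.node (.node (.leaf 5029500) (.leaf 5149299)) (.node (.leaf 8000632) (.leaf 1180280)))))))

/-- How a representative arises, part 137. -/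
def tInfoPart137 : Janko1.Tree ℕ := (.node (.node (.node (.node (.node (.node (.leaf 35419) (.leaf 9954913)) (.node (.leaf 5167218) (.leaf 4765283))) (.node (.node (.leaf 7549553) (.leaf 7890545)) (.node (.leaf 7269507) (.leaf 1072771)))) (.node (.node (.node (.leaf 4459636) (.leaf 10273402)) (.node (.leaf 6909530) (.leaf 3215483))) (.node (.node (.leaf 7051901) (.leaf 286852)) (.node (.leaf 7976026) (.leaf 4549253))))) (.node (.node (.node (.node (.leaf 3397757) (.leaf 9915505)) (.node (.leaf 10725972) (.leaf 9912961))) (.node (.node (.leaf 9238130) (.leaf 7358597)) (.node (.leaf 7533169) (.leaf 8885370)))) (.node (.node (.node (.leaf 9499780) (.leaf 8173666)) (.node (.leaf 4291188) (.leaf 3236466))) (.node (.node (.leaf 6135404) (.leaf 6867050)) (.node (.leaf 10235522) (.leaf 7449721)))))) (.node (.node (.node (.node (.node (.leaf 1637988) (.leaf 11225690)) (.node (.leaf 5899349) (.leaf 4581498))) (.node (.node (.leaf 7977585) (.leaf 2670189)) (.node (.leaf 5108842) (.leaf 11310196)))) (.node (.node (.node (.leaf 1669261) (.leaf 9807433))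 (.node (.leaf 6556778) (.leaf 5303924))) (.node (.node (.leaf 6551634) (.leaf 10047089)) (.node (.leaf 3616860) (.leaf 1359484))))) (.node (.node (.node (.node (.leaf 922730) (.leaf 8856674)) (.node (.leaf 10169412) (.leaf 7515241))) (.node (.node (.leaf 5593715) (.leaf 10065009)) (.node (.leaf 1300596) (.leaf 10071161)))) (.node (.node (.node (.leaf 2811002) (.leaf 6975044)) (.node (.leaf 11879538) (.leaf 2421853))) (.node (.node (.leaf 11904122) (.leaf 5582434)) (.node (.leaf 9944705) (.leaf 6193266)))))))

/-- How a representative arises, part 138. -/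
def tInfoPart138 : Janko1.Tree ℕ := (.node (.node (.node (.node (.node (.node (.leaf 4833908) (.leaf 6226037)) (.node (.leaf 5395589) (.leaf 5396085))) (.node (.node (.leaf 976500) (.leaf 7868017)) (.node (.leaf 2292837) (.leaf 6254204)))) (.node (.node (.node (.leaf 1275501) (.leaf 7859833)) (.node (.leaf 7517297) (.leaf 6528117))) (.node (.node (.leaf 5697661) (.leaf 7903841)) (.node (.leaf 10283132) (.leaf 9897577))))) (.node (.node (.node (.node (.leaf 5070891) (.leaf 9902193)) (.node (.leaf 6430827) (.leaf 9968737))) (.node (.node (.leaf 9921145) (.leaf 9985657)) (.node (.leaf 7696490) (.leaf 9927801)))) (.node (.node (.node (.leaf 2382442) (.leaf 9994329)) (.node (.leaf 8454770) (.leaf 2048619))) (.node (.node (.leaf 7535201) (.leaf 7884409)) (.node (.leaf 2171515) (.leaf 7543393)))))) (.node (.node (.node (.node (.node (.leaf 7921257) (.leaf 446074)) (.node (.leaf 7926905) (.leaf 8612962))) (.node (.node (.leaf 5955660) (.leaf 9271409)) (.node (.leaf 3154547) (.leaf 2344556)))) (.node (.node (.node (.leaf 4773995) (.leaf 6261872)) (.node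 (.leaf 7263827) (.leaf 9515129))) (.node (.node (.leaf 4095603) (.leaf 982112)) (.node (.leaf 11360377) (.leaf 5099120))))) (.node (.node (.node (.node (.leaf 120427) (.leaf 3610744)) (.node (.leaf 2284156) (.leaf 11901033))) (.node (.node (.leaf 247404) (.leaf 6222968)) (.node (.leaf 6953053) (.leaf 9501297)))) (.node (.node (.node (.leaf 761965) (.leaf 3574890)) (.node (.leaf 945264) (.leaf 7896168))) (.node (.node (.leaf 6771808) (.leaf 8199808)) (.node (.leaf 11856977) (.leaf 5145192)))))))

/-- How a representative arises, part 139. -/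
def tInfoPart139 : Janko1.Tree ℕ := (.node (.node (.node (.node (.node (.node (.leaf 11851873) (.leaf 6786680)) (.node (.leaf 11446896) (.leaf 1633880))) (.node (.node (.leaf 11751529) (.leaf 5606005)) (.node (.leaf 11760761) (.leaf 8787048)))) (.node (.node (.node (.leaf 4278392) (.leaf 9397865)) (.node (.leaf 9390193) (.leaf 11655264))) (.node (.node (.leaf 9406081) (.leaf 6328405)) (.node (.leaf 9363025) (.leaf 3925616))))) (.node (.node (.node (.node (.leaf 10537584) (.leaf 7094376)) (.node (.leaf 9367161) (.leaf 1930352))) (.node (.node (.leaf 11761265) (.leaf 8814192)) (.node (.leaf 11766881) (.leaf 5956712)))) (.node (.node (.node (.leaf 5073011) (.leaf 589416)) (.node (.leaf 1145410) (.leaf 5937256))) (.node (.node (.leaf 7655536) (.leaf 9414257)) (.node (.leaf 9415273) (.leaf 9422457)))))) (.node (.node (.node (.node (.node (.leaf 3090003) (.leaf 9381497)) (.node (.leaf 9387137) (.leaf 758898))) (.node (.node (.leaf 1792629) (.leaf 9257089)) (.node (.leaf 4736112) (.leaf 5288573)))) (.node (.node (.node (.leaf 9263201) (.leaf 6115965))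 (.node (.leaf 9257585) (.leaf 6272636))) (.node (.node (.leaf 1791093) (.leaf 10035824)) (.node (.leaf 6114917) (.leaf 11349097))))) (.node (.node (.node (.node (.leaf 11341945) (.leaf 2651228)) (.node (.leaf 6728808) (.leaf 8178784))) (.node (.node (.leaf 2924149) (.leaf 3113568)) (.node (.leaf 3394156) (.leaf 2170947)))) (.node (.node (.node (.leaf 10067576) (.leaf 5604987)) (.node (.leaf 1083504) (.leaf 9280105))) (.node (.node (.leaf 9051240) (.leaf 4664944)) (.node (.leaf 4600964) (.leaf 9521249)))))))

/-- How a representative arises, part 140. -/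
def tInfoPart140 : Janko1.Tree ℕ := (.node (.node (.node (.node (.node (.node (.leaf 11136632) (.leaf 5962363)) (.node (.leaf 4550268) (.leaf 11368569))) (.node (.node (.leaf 11376768) (.leaf 11373681)) (.node (.leaf 590932) (.leaf 9878141)))) (.node (.node (.node (.leaf 6807666) (.leaf 3796068)) (.node (.leaf 11477082) (.leaf 11810948))) (.node (.node (.leaf 59499) (.leaf 3860076)) (.node (.leaf 4857954) (.leaf 9539685))))) (.node (.node (.node (.node (.leaf 11135602) (.leaf 6750827)) (.node (.leaf 11356781) (.leaf 10401858))) (.node (.node (.leaf 11390554) (.leaf 7872621)) (.node (.leaf 9747580) (.leaf 9614947)))) (.node (.node (.node (.leaf 3120226) (.leaf 7469155)) (.node (.leaf 857722) (.leaf 10115171))) (.node (.node (.leaf 3597426) (.leaf 1809532)) (.node (.leaf 1376866) (.leaf 9794155)))))) (.node (.node (.node (.node (.node (.leaf 9137243) (.leaf 1876588)) (.node (.leaf 7764082) (.leaf 5583492))) (.node (.node (.leaf 904309) (.leaf 726130)) (.node (.leaf 3481690) (.leaf 905821)))) (.node (.node (.node (.leaf 6657138) (.leaf 6453869))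 (.node (.leaf 11360898) (.leaf 10869867))) (.node (.node (.leaf 10351732) (.leaf 10099306)) (.node (.leaf 2803788) (.leaf 4799074))))) (.node (.node (.node (.node (.leaf 9066092) (.leaf 10359411)) (.node (.leaf 2198133) (.leaf 8511107))) (.node (.node (.leaf 2553973) (.leaf 5510749)) (.node (.leaf 9104508) (.leaf 8052851)))) (.node (.node (.node (.leaf 10915419) (.leaf 3618940)) (.node (.leaf 8566893) (.leaf 2926194))) (.node (.node (.leaf 773220) (.leaf 3117675)) (.node (.leaf 4688476) (.leaf 10168956)))))))

/-- How a representative arises, part 141. -/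
def tInfoPart141 : Janko1.Tree ℕ := (.node (.node (.node (.node (.node (.node (.leaf 5970035) (.leaf 3044467)) (.node (.leaf 4747364) (.leaf 5926003))) (.node (.node (.leaf 10582109) (.leaf 7792730)) (.node (.leaf 3555956) (.leaf 8203381)))) (.node (.node (.node (.leaf 5155419) (.leaf 6503499)) (.node (.leaf 1809005) (.leaf 7224962))) (.node (.node (.leaf 2799717) (.leaf 11232339)) (.node (.leaf 6126685) (.leaf 1807477))))) (.node (.node (.node (.node (.leaf 10913907) (.leaf 4530226)) (.node (.leaf 6128261) (.leaf 7122034))) (.node (.node (.leaf 919660) (.leaf 1946741)) (.node (.leaf 8616027) (.leaf 1944701)))) (.node (.node (.node (.leaf 11259507) (.leaf 10849394)) (.node (.leaf 2940525) (.leaf 4116082))) (.node (.node (.leaf 3044979) (.leaf 5624947)) (.node (.leaf 1887874) (.leaf 8150124)))))) (.node (.node (.node (.node (.node (.leaf 6503500) (.leaf 310386)) (.node (.leaf 10447469) (.leaf 10798197))) (.node (.node (.leaf 2077763) (.leaf 2195051)) (.node (.leaf 8833124) (.leaf 2494050)))) (.node (.node (.node (.leaf 1230468) (.leaf 3114091))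 (.node (.leaf 5061748) (.leaf 8973909))) (.node (.node (.leaf 9490545) (.leaf 11251320)) (.node (.leaf 6790771) (.leaf 2751600))))) (.node (.node (.node (.node (.leaf 1012851) (.leaf 4036195)) (.node (.leaf 3163763) (.leaf 4761179))) (.node (.node (.leaf 6729827) (.leaf 3295352)) (.node (.leaf 11395169) (.leaf 11880033)))) (.node (.node (.node (.leaf 11396705) (.leaf 11884153)) (.node (.leaf 10504304) (.leaf 6114380))) (.node (.node (.leaf 7722592) (.leaf 6432368)) (.node (.leaf 10103912) (.leaf 2357364)))))))

/-- How a representative arises, part 142. -/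
def tInfoPart142 : Janko1.Tree ℕ := (.node (.node (.node (.node (.node (.node (.leaf 344701) (.leaf 344189)) (.node (.leaf 8881264) (.leaf 4877445))) (.node (.node (.leaf 7375485) (.leaf 5763188)) (.node (.leaf 3279957) (.leaf 11846761)))) (.node (.node (.node (.leaf 10492024) (.leaf 468076)) (.node (.leaf 7565440) (.leaf 5180530))) (.node (.node (.leaf 9931888) (.leaf 2062461)) (.node (.leaf 3042421) (.leaf 4765282))))) (.node (.node (.node (.node (.leaf 6157360) (.leaf 11793521)) (.node (.leaf 11786849) (.leaf 11454553))) (.node (.node (.leaf 9329265) (.leaf 1735760)) (.node (.leaf 11789416) (.leaf 9388137)))) (.node (.node (.node (.leaf 823404) (.leaf 3082852)) (.node (.leaf 9454192) (.leaf 3737720))) (.node (.node (.leaf 8278640) (.leaf 1668221)) (.node (.leaf 7267432) (.leaf 10675328)))))) (.node (.node (.node (.node (.node (.leaf 5622880) (.leaf 6952564)) (.node (.leaf 6011005) (.leaf 1155667))) (.node (.node (.leaf 1157234) (.leaf 4511832)) (.node (.leaf 11462249) (.leaf 11801689)))) (.node (.node (.node (.leaf 11469417) (.leaf 2316880))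 (.node (.leaf 8640080) (.leaf 9346673))) (.node (.node (.leaf 9417329) (.leaf 9353321)) (.node (.leaf 9423465) (.leaf 7259760))))) (.node (.node (.node (.node (.leaf 768634) (.leaf 10665592)) (.node (.leaf 1516620) (.leaf 3271748))) (.node (.node (.leaf 9465969) (.leaf 3383420)) (.node (.leaf 7795320) (.leaf 6540400)))) (.node (.node (.node (.leaf 4889200) (.leaf 6224509)) (.node (.leaf 5710933) (.leaf 6542957))) (.node (.node (.leaf 6544997) (.leaf 1289845)) (.node (.leaf 1292925) (.leaf 6432876)))))))

/-- How a representative arises, part 143. -/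
def tInfoPart143 : Janko1.Tree ℕ := (.node (.node (.node (.node (.node (.node (.leaf 2310237) (.leaf 11487872)) (.node (.leaf 6882416) (.leaf 1218676))) (.node (.node (.leaf 3444868) (.leaf 9266257)) (.node (.leaf 11311208) (.leaf 4087394)))) (.node (.node (.node (.leaf 9276529) (.leaf 2869344)) (.node (.leaf 8948848) (.leaf 3089523))) (.node (.node (.leaf 5136979) (.leaf 5659747)) (.node (.leaf 5962867) (.leaf 6486643))))) (.node (.node (.node (.node (.leaf 6897264) (.leaf 2179691)) (.node (.leaf 5253240) (.leaf 5594723))) (.node (.node (.leaf 5901931) (.leaf 1148016)) (.node (.leaf 11876473) (.leaf 6876768)))) (.node (.node (.node (.leaf 11478080) (.leaf 3176048)) (.node (.leaf 11905641) (.leaf 4958826))) (.node (.node (.leaf 9253949) (.leaf 10191474)) (.node (.leaf 11615357) (.leaf 7593589)))))) (.node (.node (.node (.node (.node (.leaf 4117099) (.leaf 7592053)) (.node (.leaf 8502380) (.leaf 4856938))) (.node (.node (.leaf 9525356) (.leaf 10170485)) (.node (.leaf 7530621) (.leaf 7533693)))) (.node (.node (.node (.leaf 7272067) (.leaf 5269106))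 (.node (.leaf 11822173) (.leaf 11404914))) (.node (.node (.leaf 235116) (.leaf 4831867)) (.node (.leaf 359541) (.leaf 5979252))))) (.node (.node (.node (.node (.leaf 3413085) (.leaf 11840620)) (.node (.leaf 7068781) (.leaf 9794683))) (.node (.node (.leaf 7067773) (.leaf 10152539)) (.node (.leaf 11904596) (.leaf 9749611)))) (.node (.node (.node (.leaf 9307242) (.leaf 9172091)) (.node (.leaf 4891765) (.leaf 11463771))) (.node (.node (.leaf 220797) (.leaf 8040042)) (.node (.leaf 4482684) (.leaf 10490444)))))))

/-- How a representative arises, part 144. -/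
def tInfoPart144 : Janko1.Tree ℕ := (.node (.node (.node (.node (.node (.node (.leaf 5097589) (.leaf 8579195)) (.node (.leaf 10371186) (.leaf 3604564))) (.node (.node (.leaf 11082866) (.leaf 10100330)) (.node (.leaf 3061357) (.leaf 4663900)))) (.node (.node (.node (.leaf 8511611) (.leaf 8960092)) (.node (.leaf 2680941) (.leaf 4900458))) (.node (.node (.leaf 10460268) (.leaf 5195885)) (.node (.leaf 10866285) (.leaf 2078323))))) (.node (.node (.node (.node (.leaf 10864237) (.leaf 6810212)) (.node (.leaf 8011362) (.leaf 5617275))) (.node (.node (.leaf 3115123) (.leaf 8502381)) (.node (.leaf 7726730) (.leaf 8500869)))) (.node (.node (.node (.leaf 8272509) (.leaf 2186843)) (.node (.leaf 5924443) (.leaf 8066154))) (.node (.node (.leaf 2885748) (.leaf 9058938)) (.node (.leaf 8836197) (.leaf 8080988)))))) (.node (.node (.node (.node (.node (.leaf 6759012) (.leaf 10930285)) (.node (.leaf 5678699) (.leaf 2433653))) (.node (.node (.leaf 10760818) (.leaf 4992636)) (.node (.leaf 4530810) (.leaf 10137692)))) (.node (.node (.node (.leaf 1423469) (.leaf 11101300))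 (.node (.leaf 10914939) (.leaf 5974146))) (.node (.node (.leaf 5691002) (.leaf 10104948)) (.node (.leaf 11676786) (.leaf 2937980))))) (.node (.node (.node (.node (.leaf 9175668) (.leaf 10835562)) (.node (.leaf 8136301) (.leaf 5925467))) (.node (.node (.leaf 10516589) (.leaf 8817258)) (.node (.leaf 8999508) (.leaf 7769724)))) (.node (.node (.node (.leaf 5154907) (.leaf 11069525)) (.node (.leaf 4859500) (.leaf 9581682))) (.node (.node (.leaf 8962172) (.leaf 1175147)) (.node (.leaf 8316522) (.leaf 5615219)))))))

/-- How a representative arises, part 145. -/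
def tInfoPart145 : Janko1.Tree ℕ := (.node (.node (.node (.node (.node (.node (.leaf 8751746) (.leaf 10724485)) (.node (.leaf 2255475) (.leaf 11547244))) (.node (.node (.leaf 8074349) (.leaf 6492779)) (.node (.leaf 8985184) (.leaf 7864424)))) (.node (.node (.node (.leaf 4276347) (.leaf 7159924)) (.node (.leaf 4611152) (.leaf 2052196))) (.node (.node (.leaf 2990184) (.leaf 7212148)) (.node (.leaf 9672805) (.leaf 4057699))))) (.node (.node (.node (.node (.leaf 2727026) (.leaf 6766704)) (.node (.leaf 9670789) (.leaf 1102931))) (.node (.node (.leaf 11353701) (.leaf 4316803)) (.node (.leaf 9539189) (.leaf 4567160)))) (.node (.node (.node (.leaf 2601076) (.leaf 7467123)) (.node (.leaf 10112115) (.leaf 4455517))) (.node (.node (.leaf 9165435) (.leaf 10006112)) (.node (.leaf 2964080) (.leaf 9033856)))))) (.node (.node (.node (.node (.node (.leaf 11805795) (.leaf 6965845)) (.node (.leaf 4456557) (.leaf 11118184))) (.node (.node (.leaf 10330208) (.leaf 3507792)) (.node (.leaf 7955579) (.leaf 8212576)))) (.node (.node (.node (.leaf 6739552) (.leaf 6656085))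 (.node (.leaf 9648227) (.leaf 3605104))) (.node (.node (.leaf 4177509) (.leaf 3922525)) (.node (.leaf 6902394) (.leaf 6831744))))) (.node (.node (.node (.node (.leaf 8587891) (.leaf 1393778)) (.node (.leaf 11230843) (.leaf 10313315))) (.node (.node (.leaf 6330500) (.leaf 2550888)) (.node (.leaf 519272) (.leaf 2670186)))) (.node (.node (.node (.leaf 5456496) (.leaf 6343285)) (.node (.leaf 10674299) (.leaf 8613483))) (.node (.node (.leaf 8537179) (.leaf 6343797)) (.node (.leaf 5128828) (.leaf 10658437)))))))

/-- How a representative arises, part 146. -/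
def tInfoPart146 : Janko1.Tree ℕ := (.node (.node (.node (.node (.node (.node (.leaf 9760368) (.leaf 8791648)) (.node (.leaf 5139563) (.leaf 5908064))) (.node (.node (.leaf 10866280) (.leaf 10576000)) (.node (.leaf 8761461) (.leaf 11140741)))) (.node (.node (.node (.leaf 3922040) (.leaf 3111539)) (.node (.leaf 5673595) (.leaf 10581101))) (.node (.node (.leaf 7088752) (.leaf 5986427)) (.node (.leaf 2797677) (.leaf 4722272))))) (.node (.node (.node (.node (.leaf 1408628) (.leaf 1804917)) (.node (.leaf 6125693) (.leaf 1114216))) (.node (.node (.leaf 10029672) (.leaf 9055864)) (.node (.leaf 8538747) (.leaf 996464)))) (.node (.node (.node (.leaf 10362963) (.leaf 10287736)) (.node (.leaf 1973890) (.leaf 4997741))) (.node (.node (.leaf 8512579) (.leaf 10314331)) (.node (.leaf 4987504) (.leaf 5000317)))))) (.node (.node (.node (.node (.node (.leaf 2937461) (.leaf 10912819)) (.node (.leaf 2239090) (.leaf 6663792))) (.node (.node (.leaf 1133676) (.leaf 6456435)) (.node (.leaf 4671064) (.leaf 8346749)))) (.node (.node (.node (.leaf 3054712) (.leaf 3112051))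 (.node (.leaf 10444901) (.leaf 10998885))) (.node (.node (.leaf 5985371) (.leaf 1166451)) (.node (.leaf 10232445) (.leaf 8428661))))) (.node (.node (.node (.node (.leaf 8971877) (.leaf 10229349)) (.node (.leaf 3381368) (.leaf 5140603))) (.node (.node (.leaf 8973421) (.leaf 25195)) (.node (.leaf 5997692) (.leaf 8928370)))) (.node (.node (.node (.leaf 7817841) (.leaf 2887794)) (.node (.leaf 7268979) (.leaf 1075827))) (.node (.node (.leaf 5723260) (.leaf 4108915)) (.node (.leaf 7649401) (.leaf 8268914)))))))

/-- How a representative arises, part 147. -/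
def tInfoPart147 : Janko1.Tree ℕ := (.node (.node (.node (.node (.node (.node (.leaf 1004667) (.leaf 5781604)) (.node (.leaf 10181241) (.leaf 6738547))) (.node (.node (.leaf 9158258) (.leaf 5943388)) (.node (.leaf 9145458) (.leaf 4813435)))) (.node (.node (.node (.leaf 8780908) (.leaf 7311979)) (.node (.leaf 3767421) (.leaf 6186612))) (.node (.node (.leaf 6946413) (.leaf 9904708)) (.node (.leaf 7799385) (.leaf 7043666))))) (.node (.node (.node (.node (.leaf 7631481) (.leaf 8516724)) (.node (.leaf 11249274) (.leaf 10161265))) (.node (.node (.leaf 4161141) (.leaf 10168953)) (.node (.leaf 4158061) (.leaf 9704049)))) (.node (.node (.node (.leaf 8638076) (.leaf 9108098)) (.node (.leaf 3194490) (.leaf 5599349))) (.node (.node (.leaf 7877754) (.leaf 1551986)) (.node (.leaf 2532981) (.leaf 1526885)))))) (.node (.node (.node (.node (.node (.leaf 7723137) (.leaf 8216170)) (.node (.leaf 7730809) (.leaf 7693425))) (.node (.node (.leaf 6775420) (.leaf 1526373)) (.node (.leaf 7686777) (.leaf 7704689)))) (.node (.node (.node (.leaf 9343076) (.leaf 7698009))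 (.node (.leaf 4990066) (.leaf 7022204))) (.node (.node (.leaf 10111073) (.leaf 10118241)) (.node (.leaf 9782889) (.leaf 2121331))))) (.node (.node (.node (.node (.leaf 9789529) (.leaf 5125755)) (.node (.leaf 6460026) (.leaf 7959164))) (.node (.node (.leaf 7746145) (.leaf 11193964)) (.node (.leaf 6981730) (.leaf 7998060)))) (.node (.node (.node (.leaf 1211011) (.leaf 2233947)) (.node (.leaf 10445940) (.leaf 6489195))) (.node (.node (.leaf 9195620) (.leaf 1783917)) (.node (.leaf 3177060) (.leaf 5279333)))))))

/-- How a representative arises, part 148. -/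
def tInfoPart148 : Janko1.Tree ℕ := (.node (.node (.node (.node (.node (.node (.leaf 8666234) (.leaf 2779749)) (.node (.leaf 2391154) (.leaf 2396786))) (.node (.node (.leaf 7834209) (.leaf 9666161)) (.node (.leaf 5805189) (.leaf 4977285)))) (.node (.node (.node (.leaf 9678441) (.leaf 3749482)) (.node (.leaf 9965644) (.leaf 5806717))) (.node (.node (.leaf 4979333) (.leaf 7641714)) (.node (.leaf 2916453) (.leaf 1925237))))) (.node (.node (.node (.node (.leaf 11531356) (.leaf 11858018)) (.node (.leaf 5010540) (.leaf 7419490))) (.node (.node (.leaf 4314738) (.leaf 10120324)) (.node (.leaf 9787450) (.leaf 7857777)))) (.node (.node (.node (.leaf 1154147) (.leaf 5468778)) (.node (.leaf 10571346) (.leaf 5594203))) (.node (.node (.leaf 10566778) (.leaf 8846988)) (.node (.leaf 5126763) (.leaf 5955659)))))) (.node (.node (.node (.node (.node (.leaf 6428288) (.leaf 9252485)) (.node (.leaf 1062498) (.leaf 7591029))) (.node (.node (.leaf 7589493) (.leaf 4122235)) (.node (.leaf 725608) (.leaf 9938549)))) (.node (.node (.node (.leaf 10144376) (.leaf 7527997))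 (.node (.leaf 7530093) (.leaf 4315739))) (.node (.node (.leaf 357493) (.leaf 11439723)) (.node (.leaf 7065725) (.leaf 8893560))))) (.node (.node (.node (.node (.leaf 9792619) (.leaf 10151035)) (.node (.leaf 6991440) (.leaf 7958115))) (.node (.node (.leaf 9211504) (.leaf 5305944)) (.node (.leaf 7011960) (.leaf 11465331)))) (.node (.node (.node (.leaf 11797635) (.leaf 473212)) (.node (.leaf 264272) (.leaf 1341540))) (.node (.node (.leaf 8622715) (.leaf 5096549)) (.node (.leaf 2074741) (.leaf 2073701)))))))

/-- How a representative arises, part 149. -/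
def tInfoPart149 : Janko1.Tree ℕ := (.node (.node (.node (.node (.node (.node (.leaf 11784288) (.leaf 8577659)) (.node (.leaf 8312432) (.leaf 1758824))) (.node (.node (.leaf 2678365) (.leaf 2784378)) (.node (.leaf 1660536) (.leaf 10702395)))) (.node (.node (.node (.leaf 6172272) (.leaf 5339764)) (.node (.leaf 1581684) (.leaf 11007056))) (.node (.node (.leaf 10861677) (.leaf 11794024)) (.node (.leaf 1767032) (.leaf 3732576))))) (.node (.node (.node (.node (.leaf 5617763) (.leaf 5674600)) (.node (.leaf 10708584) (.leaf 6543986))) (.node (.node (.leaf 9058419) (.leaf 847448)) (.node (.leaf 8953944) (.leaf 11239027)))) (.node (.node (.node (.leaf 5406325) (.leaf 6526576)) (.node (.leaf 8536179) (.leaf 8047187))) (.node (.node (.leaf 10703475) (.leaf 624764)) (.node (.leaf 2065019) (.leaf 11325048)))))) (.node (.node (.node (.node (.node (.leaf 8691845) (.leaf 2874472)) (.node (.leaf 10219136) (.leaf 2252387))) (.node (.node (.leaf 6901328) (.leaf 3204184)) (.node (.leaf 8073837) (.leaf 871532)))) (.node (.node (.node (.leaf 1073779) (.leaf 103539))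 (.node (.leaf 7641713) (.leaf 7849569))) (.node (.node (.leaf 9477732) (.leaf 7643225)) (.node (.leaf 3216499) (.leaf 7854705))))) (.node (.node (.node (.node (.leaf 4823155) (.leaf 7649913)) (.node (.leaf 7856241) (.leaf 6799475))) (.node (.node (.leaf 1619026) (.leaf 9683529)) (.node (.leaf 10178673) (.leaf 3169907)))) (.node (.node (.node (.leaf 4250227) (.leaf 9687169)) (.node (.leaf 9690737) (.leaf 6736499))) (.node (.node (.leaf 10361978) (.leaf 335485)) (.node (.leaf 5155418) (.leaf 7838841)))))))

/-- How a representative arises, part 150. -/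
def tInfoPart150 : Janko1.Tree ℕ := (.node (.node (.node (.node (.node (.node (.leaf 7045237) (.leaf 7637105)) (.node (.leaf 5142642) (.leaf 4543101))) (.node (.node (.leaf 4541565) (.leaf 7366269)) (.node (.leaf 9665649) (.leaf 7367789)))) (.node (.node (.node (.leaf 10161769) (.leaf 4624482)) (.node (.leaf 9673849) (.leaf 3275381))) (.node (.node (.leaf 5788260) (.leaf 9671281)) (.node (.leaf 197229) (.leaf 10167929))))) (.node (.node (.node (.node (.leaf 5908589) (.leaf 7891570)) (.node (.leaf 11150964) (.leaf 5079621))) (.node (.node (.leaf 8910428) (.leaf 5078637)) (.node (.leaf 9763945) (.leaf 898666)))) (.node (.node (.node (.leaf 3048556) (.leaf 901722)) (.node (.leaf 9774193) (.leaf 7663729))) (.node (.node (.leaf 7727745) (.leaf 11189372)) (.node (.leaf 1659509) (.leaf 7656553)))))) (.node (.node (.node (.node (.node (.leaf 8217210) (.leaf 7721041)) (.node (.leaf 7672433) (.leaf 7732849))) (.node (.node (.leaf 3102827) (.leaf 10145369)) (.node (.leaf 2241139) (.leaf 11291252)))) (.node (.node (.node (.leaf 4570226) (.leaf 6345844))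 (.node (.leaf 11211866) (.leaf 9086596))) (.node (.node (.leaf 6981242) (.leaf 1145931)) (.node (.leaf 3032147) (.leaf 7680625))))) (.node (.node (.node (.node (.leaf 2173043) (.leaf 7681145)) (.node (.leaf 6400124) (.leaf 7746681))) (.node (.node (.leaf 4952692) (.leaf 5088362)) (.node (.leaf 7685713) (.leaf 7752305)))) (.node (.node (.node (.leaf 7794289) (.leaf 11356780)) (.node (.leaf 3873386) (.leaf 8540802))) (.node (.node (.leaf 7586929) (.leaf 7802993)) (.node (.leaf 1181804) (.leaf 2128506)))))))

/-- How a representative arises, part 151. -/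
def tInfoPart151 : Janko1.Tree ℕ := (.node (.node (.node (.node (.node (.node (.leaf 3413084) (.leaf 5389421)) (.node (.leaf 4997228) (.leaf 10438772))) (.node (.node (.leaf 10195049) (.leaf 11389532)) (.node (.leaf 2270322) (.leaf 9162844)))) (.node (.node (.node (.leaf 9706097) (.leaf 2301037)) (.node (.leaf 10204793) (.leaf 3475572))) (.node (.node (.leaf 8604282) (.leaf 9701481)) (.node (.leaf 1285741) (.leaf 5044868))))) (.node (.node (.node (.node (.leaf 7806561) (.leaf 9262204)) (.node (.leaf 7601753) (.leaf 1144955))) (.node (.node (.leaf 2172027) (.leaf 11495524)) (.node (.leaf 7813713) (.leaf 5081731)))) (.node (.node (.node (.leaf 7612001) (.leaf 7822449)) (.node (.leaf 3193980) (.leaf 9714810))) (.node (.node (.leaf 2122347) (.leaf 6091890)) (.node (.leaf 8060004) (.leaf 3105923)))))) (.node (.node (.node (.node (.node (.leaf 10259580) (.leaf 2243683)) (.node (.leaf 10209401) (.leaf 10972802))) (.node (.node (.leaf 5266516) (.leaf 5954659)) (.node (.leaf 9724017) (.leaf 10967162)))) (.node (.node (.node (.leaf 6682192) (.leaf 11380336))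 (.node (.leaf 3218027) (.leaf 11633265))) (.node (.node (.leaf 6629976) (.leaf 11350136)) (.node (.leaf 1264738) (.leaf 6731387))))) (.node (.node (.node (.node (.leaf 1074792) (.leaf 7313003)) (.node (.leaf 1003611) (.leaf 998000))) (.node (.node (.leaf 4024939) (.leaf 4772443)) (.node (.leaf 9058416) (.leaf 4660840)))) (.node (.node (.node (.leaf 9244777) (.leaf 4503165)) (.node (.leaf 7016525) (.leaf 11613801))) (.node (.node (.leaf 3840116) (.leaf 3845757)) (.node (.leaf 6729826) (.leaf 1413744)))))))

/-- How a representative arises, part 152. -/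
def tInfoPart152 : Janko1.Tree ℕ := (.node (.node (.node (.node (.node (.node (.leaf 9280104) (.leaf 3384400)) (.node (.leaf 2303100) (.leaf 3846261))) (.node (.node (.leaf 9531001) (.leaf 944237)) (.node (.leaf 4208245) (.leaf 3117672)))) (.node (.node (.node (.leaf 6332520) (.leaf 3965045)) (.node (.leaf 9225297) (.leaf 10042496))) (.node (.node (.leaf 9112689) (.leaf 9105513)) (.node (.leaf 2236533) (.leaf 5652077))))) (.node (.node (.node (.node (.leaf 9610345) (.leaf 7201384)) (.node (.leaf 11721320) (.leaf 2142312))) (.node (.node (.leaf 10631792) (.leaf 6391405)) (.node (.leaf 7594096) (.leaf 8710768)))) (.node (.node (.node (.leaf 2608757) (.leaf 5883496)) (.node (.leaf 11522657) (.leaf 409728))) (.node (.node (.leaf 4215408) (.leaf 6536316)) (.node (.leaf 6682714) (.leaf 8503416)))))) (.node (.node (.node (.node (.node (.leaf 9626721) (.leaf 9160801)) (.node (.leaf 8528488) (.leaf 3030139))) (.node (.node (.leaf 9651824) (.leaf 9641577)) (.node (.leaf 5566064) (.leaf 6798954)))) (.node (.node (.node (.leaf 11503233) (.leaf 2439792))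 (.node (.leaf 1579140) (.leaf 5902963))) (.node (.node (.leaf 5354109) (.leaf 4035682)) (.node (.leaf 1528952) (.leaf 8206432))))) (.node (.node (.node (.node (.leaf 11559033) (.leaf 5354613)) (.node (.leaf 11652681) (.leaf 6178925))) (.node (.node (.leaf 8241264) (.leaf 11596913)) (.node (.leaf 9378928) (.leaf 2861165)))) (.node (.node (.node (.leaf 1988725) (.leaf 5859437)) (.node (.leaf 9959008) (.leaf 9563737))) (.node (.node (.leaf 968304) (.leaf 2418786)) (.node (.leaf 9222265) (.leaf 11425896)))))))

/-- How a representative arises, part 153. -/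
def tInfoPart153 : Janko1.Tree ℕ := (.node (.node (.node (.node (.node (.node (.leaf 1571448) (.leaf 4761708)) (.node (.leaf 6789760) (.leaf 2178163))) (.node (.node (.leaf 11671145) (.leaf 3604056)) (.node (.leaf 1458292) (.leaf 3092595)))) (.node (.node (.node (.leaf 8997488) (.leaf 9205857)) (.node (.leaf 5799538) (.leaf 2052195))) (.node (.node (.leaf 946800) (.leaf 9239137)) (.node (.leaf 6437971) (.leaf 7839349))))) (.node (.node (.node (.node (.leaf 9917053) (.leaf 7839869)) (.node (.leaf 6750331) (.leaf 132211))) (.node (.node (.leaf 2948218) (.leaf 4119675)) (.node (.leaf 11377277) (.leaf 7332475)))) (.node (.node (.node (.leaf 11695188) (.leaf 9252482)) (.node (.leaf 11377741) (.leaf 9645667))) (.node (.node (.leaf 3862637) (.leaf 9788035)) (.node (.leaf 10461778) (.leaf 7031925)))))) (.node (.node (.node (.node (.node (.leaf 11420226) (.leaf 841837)) (.node (.leaf 3981925) (.leaf 11470963))) (.node (.node (.leaf 5975172) (.leaf 11069042)) (.node (.leaf 9129083) (.leaf 7950955)))) (.node (.node (.node (.leaf 10114139) (.leaf 7969892))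 (.node (.leaf 5667437) (.leaf 3016826))) (.node (.node (.leaf 10473596) (.leaf 2250869)) (.node (.leaf 713338) (.leaf 11233395))))) (.node (.node (.node (.node (.leaf 6500477) (.leaf 11457636)) (.node (.leaf 6406277) (.leaf 1622629))) (.node (.node (.leaf 1365098) (.leaf 6406765)) (.node (.leaf 1623149) (.leaf 10870827)))) (.node (.node (.node (.leaf 10671723) (.leaf 6727274)) (.node (.leaf 11244149) (.leaf 5680195))) (.node (.node (.leaf 5979779) (.leaf 6319226)) (.node (.leaf 5625979) (.leaf 4830842)))))))

/-- How a representative arises, part 154. -/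
def tInfoPart154 : Janko1.Tree ℕ := (.node (.node (.node (.node (.node (.node (.leaf 1553516) (.leaf 6822490)) (.node (.leaf 6805124) (.leaf 11451514))) (.node (.node (.leaf 8247405) (.leaf 1174635)) (.node (.leaf 10213466) (.leaf 10622557)))) (.node (.node (.node (.leaf 4941442) (.leaf 5093491)) (.node (.leaf 6442579) (.leaf 5369453))) (.node (.node (.leaf 4066930) (.leaf 6197357)) (.node (.leaf 9593970) (.leaf 8580203))))) (.node (.node (.node (.node (.leaf 6197877) (.leaf 1248884)) (.node (.leaf 10672739) (.leaf 3941482))) (.node (.node (.leaf 9090131) (.leaf 2991717)) (.node (.leaf 5040245) (.leaf 11266683)))) (.node (.node (.node (.leaf 9053299) (.leaf 1240179)) (.node (.leaf 10487421) (.leaf 5727874))) (.node (.node (.leaf 5147779) (.leaf 6494803)) (.node (.leaf 11044461) (.leaf 1173595)))))) (.node (.node (.node (.node (.node (.leaf 9899130) (.leaf 10487949)) (.node (.leaf 10857578) (.leaf 2130563))) (.node (.node (.leaf 8454773) (.leaf 11620986)) (.node (.leaf 5678155) (.leaf 1429620)))) (.node (.node (.node (.leaf 9823858) (.leaf 9014372))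 (.node (.leaf 8455277) (.leaf 10793026))) (.node (.node (.leaf 4854868) (.leaf 962668)) (.node (.leaf 744578) (.leaf 6780019))))) (.node (.node (.node (.node (.leaf 1261090) (.leaf 487548)) (.node (.leaf 6730315) (.leaf 11485792))) (.node (.node (.leaf 608362) (.leaf 111227)) (.node (.leaf 9209465) (.leaf 9555065)))) (.node (.node (.node (.leaf 2914394) (.leaf 7160412)) (.node (.leaf 4023915) (.leaf 3152483))) (.node (.node (.leaf 9586817) (.leaf 9588849)) (.node (.leaf 9245801) (.leaf 5255264)))))))

/-- How a representative arises, part 155. -/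
def tInfoPart155 : Janko1.Tree ℕ := (.node (.node (.node (.node (.node (.node (.leaf 3202096) (.leaf 3466301)) (.node (.leaf 3466853) (.leaf 5201008))) (.node (.node (.leaf 4254348) (.leaf 423037)) (.node (.leaf 423525) (.leaf 253548)))) (.node (.node (.node (.leaf 7839344) (.leaf 854112)) (.node (.leaf 6592112) (.leaf 4036196))) (.node (.node (.leaf 3335773) (.leaf 7802456)) (.node (.leaf 9567873) (.leaf 9224825))))) (.node (.node (.node (.node (.leaf 5715560) (.leaf 9115769)) (.node (.leaf 11817568) (.leaf 1532492))) (.node (.node (.leaf 2977922) (.leaf 9630833)) (.node (.leaf 11688569) (.leaf 11478081)))) (.node (.node (.node (.leaf 66680) (.leaf 1736317)) (.node (.leaf 6005352) (.leaf 2735725))) (.node (.node (.leaf 8611944) (.leaf 2736253)) (.node (.leaf 1213547) (.leaf 3093107)))))) (.node (.node (.node (.node (.node (.leaf 9134705) (.leaf 10774128)) (.node (.leaf 11870296) (.leaf 7433296))) (.node (.node (.leaf 1329260) (.leaf 8585816)) (.node (.leaf 2197032) (.leaf 5129323)))) (.node (.node (.node (.leaf 74360) (.leaf 3036764)) (.node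 (.leaf 11541113) (.leaf 157288))) (.node (.node (.leaf 5903475) (.leaf 6429307)) (.node (.leaf 1776258) (.leaf 1312344))))) (.node (.node (.node (.node (.leaf 4034690) (.leaf 6692468)) (.node (.leaf 8100464) (.leaf 2489973))) (.node (.node (.leaf 2541690) (.leaf 1343621)) (.node (.leaf 1407092) (.leaf 620656)))) (.node (.node (.node (.leaf 9196657) (.leaf 9535601)) (.node (.leaf 9188961) (.leaf 1344117))) (.node (.node (.leaf 9346) (.leaf 2359413)) (.node (.leaf 9572977) (.leaf 9565769)))))))

/-- How a representative arises, part 156. -/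
def tInfoPart156 : Janko1.Tree ℕ := (.node (.node (.node (.node (.node (.node (.leaf 2918516) (.leaf 611436)) (.node (.leaf 11574377) (.leaf 11633769))) (.node (.node (.leaf 5128315) (.leaf 1322112)) (.node (.leaf 6477955) (.leaf 3460708)))) (.node (.node (.node (.leaf 9244776) (.leaf 3351160)) (.node (.leaf 1380976) (.leaf 5902466))) (.node (.node (.leaf 10117216) (.leaf 4785768)) (.node (.leaf 2231395) (.leaf 7059058))))) (.node (.node (.node (.node (.leaf 630376) (.leaf 11222120)) (.node (.leaf 4595308) (.leaf 9585257))) (.node (.node (.leaf 696952) (.leaf 11253368)) (.node (.leaf 1108075) (.leaf 11658877)))) (.node (.node (.node (.leaf 7635037) (.leaf 11873388)) (.node (.leaf 3076730) (.leaf 1302130))) (.node (.node (.leaf 11659381) (.leaf 8092770)) (.node (.leaf 7636597) (.leaf 7272555)))))) (.node (.node (.node (.node (.node (.leaf 2375284) (.leaf 3227251)) (.node (.leaf 11855461) (.leaf 4845171))) (.node (.node (.leaf 3790972) (.leaf 8344676)) (.node (.leaf 3432058) (.leaf 11852413)))) (.node (.node (.node (.leaf 4135036) (.leaf 3481693))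 (.node (.leaf 8550020) (.leaf 10142811))) (.node (.node (.leaf 4621421) (.leaf 6765666)) (.node (.leaf 4334180) (.leaf 4787322))))) (.node (.node (.node (.node (.leaf 6186092) (.leaf 6260810)) (.node (.leaf 9904236) (.leaf 7949939))) (.node (.node (.leaf 11438179) (.leaf 10711660)) (.node (.leaf 1235554) (.leaf 4936804)))) (.node (.node (.node (.leaf 10367091) (.leaf 10078836)) (.node (.leaf 7785082) (.leaf 11566196))) (.node (.node (.leaf 3016298) (.leaf 10331772)) (.node (.leaf 1361530) (.leaf 9360506)))))))

/-- How a representative arises, part 157. -/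
def tInfoPart157 : Janko1.Tree ℕ := (.node (.node (.node (.node (.node (.node (.leaf 8116338) (.leaf 2799204)) (.node (.leaf 8029275) (.leaf 6085765))) (.node (.node (.leaf 7844978) (.leaf 3132546)) (.node (.leaf 9050748) (.leaf 5243498)))) (.node (.node (.node (.leaf 841292) (.leaf 6503019)) (.node (.leaf 8944260) (.leaf 9075821))) (.node (.node (.leaf 3561076) (.leaf 6305386)) (.node (.leaf 10338925) (.leaf 11456618))))) (.node (.node (.node (.node (.leaf 10418765) (.leaf 6836346)) (.node (.leaf 3055211) (.leaf 10419269))) (.node (.node (.leaf 6425170) (.leaf 10214994)) (.node (.leaf 8551531) (.leaf 6297725)))) (.node (.node (.node (.leaf 8061059) (.leaf 915580)) (.node (.leaf 7723636) (.leaf 4067938))) (.node (.node (.leaf 8517235) (.leaf 1504364)) (.node (.leaf 1492605) (.leaf 8032348)))))) (.node (.node (.node (.node (.node (.leaf 2572906) (.leaf 11224691)) (.node (.leaf 1690754) (.leaf 8303714))) (.node (.node (.leaf 6607469) (.leaf 10709603)) (.node (.leaf 6604413) (.leaf 9051243)))) (.node (.node (.node (.leaf 8701554) (.leaf 6314108))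 (.node (.leaf 10331771) (.leaf 11255932))) (.node (.node (.leaf 10681451) (.leaf 7197802)) (.node (.leaf 5145195) (.leaf 5671019))))) (.node (.node (.node (.node (.leaf 10558077) (.leaf 10558573)) (.node (.leaf 8736893) (.leaf 5615739))) (.node (.node (.leaf 11617394) (.leaf 2127979)) (.node (.leaf 10788450) (.leaf 4359786)))) (.node (.node (.node (.leaf 5834338) (.leaf 7925860)) (.node (.leaf 1104499) (.leaf 7836797))) (.node (.node (.leaf 9913965) (.leaf 5079098)) (.node (.leaf 11592309) (.leaf 4779123)))))))

/-- How a representative arises, part 158. -/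
def tInfoPart158 : Janko1.Tree ℕ := (.node (.node (.node (.node (.node (.node (.leaf 7837285) (.leaf 3388536)) (.node (.leaf 9278072) (.leaf 11181672))) (.node (.node (.leaf 9698341) (.leaf 3122296)) (.node (.leaf 7896173) (.leaf 11147392)))) (.node (.node (.node (.leaf 9698941) (.leaf 3062376)) (.node (.leaf 4513909) (.leaf 5761156))) (.node (.node (.leaf 5039720) (.leaf 3835508)) (.node (.leaf 3474032) (.leaf 7029373))))) (.node (.node (.node (.node (.leaf 1409656) (.leaf 4446308)) (.node (.leaf 4994152) (.leaf 839781))) (.node (.node (.leaf 877114) (.leaf 6415952)) (.node (.leaf 2655338) (.leaf 9089648)))) (.node (.node (.node (.leaf 9131043) (.leaf 7948411)) (.node (.leaf 11438699) (.leaf 8612963))) (.node (.node (.leaf 2249845) (.leaf 8534651)) (.node (.leaf 6496373) (.leaf 5666397)))))) (.node (.node (.node (.node (.node (.leaf 2153072) (.leaf 10674811)) (.node (.leaf 5666909) (.leaf 8054891))) (.node (.node (.leaf 5567589) (.leaf 2445888)) (.node (.leaf 10351731) (.leaf 421976)))) (.node (.node (.node (.leaf 10825840) (.leaf 763508))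 (.node (.leaf 8589893) (.leaf 4915324))) (.node (.node (.leaf 8033357) (.leaf 11717232)) (.node (.leaf 7206504) (.leaf 3273340))))) (.node (.node (.node (.node (.leaf 1591906) (.leaf 2133619)) (.node (.leaf 8804469) (.leaf 1576028))) (.node (.node (.leaf 1075826) (.leaf 2072179)) (.node (.leaf 2200699) (.leaf 11183733)))) (.node (.node (.node (.leaf 5610099) (.leaf 8741488)) (.node (.leaf 6196861) (.leaf 9103475))) (.node (.node (.leaf 11265123) (.leaf 1880165)) (.node (.leaf 9069171) (.leaf 8022651)))))))

/-- How a representative arises, part 159. -/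
def tInfoPart159 : Janko1.Tree ℕ := (.node (.node (.node (.node (.node (.node (.leaf 5365373) (.leaf 2873469)) (.node (.leaf 3609200) (.leaf 6895724))) (.node (.node (.leaf 8615523) (.leaf 2988661)) (.node (.leaf 2002037) (.leaf 10701939)))) (.node (.node (.node (.leaf 8992384) (.leaf 8578675)) (.node (.leaf 4160634) (.leaf 2002565))) (.node (.node (.leaf 8505979) (.leaf 5036165)) (.node (.leaf 10486373) (.leaf 2131555))))) (.node (.node (.node (.node (.leaf 2261091) (.leaf 5663859)) (.node (.leaf 5978203) (.leaf 10486885))) (.node (.node (.leaf 5610627) (.leaf 882808)) (.node (.leaf 11068552) (.leaf 10261629)))) (.node (.node (.node (.leaf 6508131) (.leaf 941168)) (.node (.leaf 9003133) (.leaf 4823628))) (.node (.node (.leaf 6454891) (.leaf 9890417)) (.node (.leaf 9892961) (.leaf 10011274)))))) (.node (.node (.node (.node (.node (.leaf 9962609) (.leaf 6788707)) (.node (.leaf 3168371) (.leaf 234092))) (.node (.node (.leaf 10309226) (.leaf 6738043)) (.node (.leaf 1076339) (.leaf 7541345)))) (.node (.node (.node (.leaf 2622596) (.leaf 997499))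 (.node (.leaf 7574625) (.leaf 6862442))) (.node (.node (.leaf 4053612) (.leaf 9876073)) (.node (.leaf 1054330) (.leaf 2811986))))) (.node (.node (.node (.node (.leaf 9948265) (.leaf 9946233)) (.node (.leaf 4497037) (.leaf 3956853))) (.node (.node (.leaf 8855658) (.leaf 937549)) (.node (.leaf 7869554) (.leaf 7862882)))) (.node (.node (.node (.leaf 2392172) (.leaf 9595492)) (.node (.leaf 7558249) (.leaf 7909977))) (.node (.node (.leaf 8137858) (.leaf 3808364)) (.node (.leaf 7453777) (.leaf 11535466)))))))

/-- How a representative arises, part 160. -/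
def tInfoPart160 : Janko1.Tree ℕ := (.node (.node (.node (.node (.node (.node (.leaf 7980628) (.leaf 6476389)) (.node (.leaf 5645421) (.leaf 6623356))) (.node (.node (.leaf 11272298) (.leaf 11261050)) (.node (.leaf 8214644) (.leaf 7978593)))) (.node (.node (.node (.leaf 1321548) (.leaf 9984074)) (.node (.leaf 6989940) (.leaf 5169778))) (.node (.node (.leaf 10490948) (.leaf 5545565)) (.node (.leaf 9799785) (.leaf 10023545))))) (.node (.node (.node (.node (.leaf 10018913) (.leaf 10174604)) (.node (.leaf 9838697) (.leaf 3054188))) (.node (.node (.leaf 4664436) (.leaf 1497698)) (.node (.leaf 1210475) (.leaf 7470169)))) (.node (.node (.node (.leaf 3226714) (.leaf 7960665)) (.node (.leaf 7499889) (.leaf 8082540))) (.node (.node (.leaf 11581556) (.leaf 5912691)) (.node (.leaf 9356396) (.leaf 10347100)))))) (.node (.node (.node (.node (.node (.leaf 5647491) (.leaf 8950890)) (.node (.leaf 9036388) (.leaf 9862745))) (.node (.node (.leaf 5593219) (.leaf 5528178)) (.node (.leaf 7382650) (.leaf 1859693)))) (.node (.node (.node (.leaf 4287090) (.leaf 9917569))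 (.node (.leaf 1860213) (.leaf 5040756))) (.node (.node (.leaf 7865457) (.leaf 11344988)) (.node (.leaf 10956874) (.leaf 11101820))))) (.node (.node (.node (.node (.leaf 9659498) (.leaf 5850741)) (.node (.leaf 9952369) (.leaf 9486954))) (.node (.node (.leaf 9898577) (.leaf 5647987)) (.node (.leaf 6480515) (.leaf 8644226)))) (.node (.node (.node (.leaf 10277492) (.leaf 7666754)) (.node (.leaf 6431339) (.leaf 3246708))) (.node (.node (.leaf 1950322) (.leaf 2234491)) (.node (.leaf 7882361) (.leaf 5134451)))))))

/-- How a representative arises, part 161. -/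
def tInfoPart161 : Janko1.Tree ℕ := (.node (.node (.node (.node (.node (.node (.leaf 3660898) (.leaf 7551577)) (.node (.leaf 7770228) (.leaf 383610))) (.node (.node (.leaf 11271796) (.leaf 7579209)) (.node (.leaf 7207540) (.leaf 3821660)))) (.node (.node (.node (.leaf 11655789) (.leaf 6941272)) (.node (.leaf 7633013) (.leaf 8040576))) (.node (.node (.leaf 1025635) (.leaf 11656309)) (.node (.leaf 6885488) (.leaf 11488864))))) (.node (.node (.node (.node (.leaf 1193584) (.leaf 7557205)) (.node (.leaf 8954480) (.leaf 4942448))) (.node (.node (.leaf 4324467) (.leaf 4546170)) (.node (.leaf 11850877) (.leaf 2810480)))) (.node (.node (.node (.leaf 10185832) (.leaf 4976754)) (.node (.leaf 4981338) (.leaf 9651827))) (.node (.node (.leaf 1843308) (.leaf 4618869)) (.node (.leaf 3480189) (.leaf 9783419)))))) (.node (.node (.node (.node (.node (.leaf 1246320) (.leaf 175732)) (.node (.leaf 4619365) (.leaf 4619909))) (.node (.node (.leaf 8945264) (.leaf 10208376)) (.node (.leaf 7501939) (.leaf 888434)))) (.node (.node (.node (.leaf 11807835) (.leaf 818768))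 (.node (.leaf 7946867) (.leaf 11776107))) (.node (.node (.leaf 761456) (.leaf 10923107)) (.node (.leaf 5142645) (.leaf 6738044))))) (.node (.node (.node (.node (.leaf 1537148) (.leaf 10885755)) (.node (.leaf 5143173) (.leaf 8624259))) (.node (.node (.leaf 41072) (.leaf 8586339)) (.node (.leaf 9864808) (.leaf 2749037)))) (.node (.node (.node (.leaf 2748533) (.leaf 8520781)) (.node (.leaf 3113571) (.leaf 5148755))) (.node (.node (.leaf 7401088) (.leaf 8346744)) (.node (.leaf 1829992) (.leaf 5094515)))))))

/-- How a representative arises, part 162. -/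
def tInfoPart162 : Janko1.Tree ℕ := (.node (.node (.node (.node (.node (.node (.leaf 8380528) (.leaf 1234555)) (.node (.leaf 10973309) (.leaf 10972229))) (.node (.node (.leaf 8318061) (.leaf 5977707)) (.node (.leaf 30832) (.leaf 4412016)))) (.node (.node (.node (.leaf 8318565) (.leaf 5922891)) (.node (.leaf 3298904) (.leaf 5466237))) (.node (.node (.leaf 6962304) (.leaf 5498994)) (.node (.leaf 10350667) (.leaf 5503082))))) (.node (.node (.node (.node (.leaf 9069675) (.leaf 9239136)) (.node (.leaf 5369448) (.leaf 5466741))) (.node (.node (.leaf 3144260) (.leaf 8046707)) (.node (.leaf 6474336) (.leaf 11219576)))) (.node (.node (.node (.leaf 668784) (.leaf 5771869)) (.node (.leaf 2715192) (.leaf 948316))) (.node (.node (.leaf 5772405) (.leaf 9201784)) (.node (.leaf 3288168) (.leaf 11114109)))))) (.node (.node (.node (.node (.node (.leaf 6953048) (.leaf 2047586)) (.node (.leaf 1282144) (.leaf 1167475))) (.node (.node (.leaf 496242) (.leaf 7004232)) (.node (.leaf 483946) (.leaf 4978812)))) (.node (.node (.node (.leaf 11209336) (.leaf 6464632)) (.node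 (.leaf 11311741) (.leaf 2976364))) (.node (.node (.leaf 674436) (.leaf 4601452)) (.node (.leaf 2163834) (.leaf 6514800))))) (.node (.node (.node (.node (.leaf 11846764) (.leaf 4692586)) (.node (.leaf 10628212) (.leaf 4250763))) (.node (.node (.leaf 9931377) (.leaf 4754539)) (.node (.leaf 10001513) (.leaf 9933425)))) (.node (.node (.node (.leaf 6737027) (.leaf 10004593)) (.node (.leaf 9746556) (.leaf 6448242))) (.node (.node (.leaf 103011) (.leaf 5993580)) (.node (.leaf 2378372) (.leaf 593540)))))))

/-- How a representative arises, part 163. -/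
def tInfoPart163 : Janko1.Tree ℕ := (.node (.node (.node (.node (.node (.node (.leaf 5719148) (.leaf 23139)) (.node (.leaf 7573113) (.leaf 7917673))) (.node (.node (.leaf 7575673) (.leaf 1053818)) (.node (.leaf 9884273) (.leaf 8923250)))) (.node (.node (.node (.leaf 10761340) (.leaf 1036418)) (.node (.leaf 415869) (.leaf 9947249))) (.node (.node (.leaf 416381) (.leaf 9886332)) (.node (.leaf 1560194) (.leaf 416885))))) (.node (.node (.node (.node (.leaf 7863866) (.leaf 3326573)) (.node (.leaf 7869034) (.leaf 261741))) (.node (.node (.leaf 7900273) (.leaf 3173994)) (.node (.leaf 1809004) (.leaf 8142930)))) (.node (.node (.node (.leaf 5532796) (.leaf 3188338)) (.node (.leaf 7387756) (.leaf 11534970))) (.node (.node (.leaf 7842420) (.leaf 11546218)) (.node (.leaf 7456857) (.leaf 5125253)))))) (.node (.node (.node (.node (.node (.leaf 11260530) (.leaf 7029370)) (.node (.leaf 6064749) (.leaf 5234269))) (.node (.node (.leaf 10335354) (.leaf 6609522)) (.node (.leaf 4882540) (.leaf 9844329)))) (.node (.node (.node (.leaf 5234805) (.leaf 1042036)) (.node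 (.leaf 7954553) (.leaf 10205292))) (.node (.node (.leaf 5964907) (.leaf 7478377)) (.node (.leaf 7963241) (.leaf 11443828))))) (.node (.node (.node (.node (.leaf 8889970) (.leaf 5601915)) (.node (.leaf 969834) (.leaf 7514753))) (.node (.node (.leaf 10026049) (.leaf 2119283)) (.node (.leaf 8245874) (.leaf 3359330)))) (.node (.node (.node (.leaf 7974010) (.leaf 2863738)) (.node (.leaf 3040883) (.leaf 2180731))) (.node (.node (.leaf 7387250) (.leaf 6254708)) (.node (.leaf 7382130) (.leaf 10579042)))))))

/-- How a representative arises, part 164. -/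
def tInfoPart164 : Janko1.Tree ℕ := (.node (.node (.node (.node (.node (.node (.leaf 6276197) (.leaf 6129250)) (.node (.leaf 9728634) (.leaf 9969777))) (.node (.node (.leaf 5752909) (.leaf 7869033)) (.node (.leaf 5431922) (.leaf 10239092)))) (.node (.node (.node (.leaf 6582909) (.leaf 7571057)) (.node (.leaf 11241588) (.leaf 7563905))) (.node (.node (.leaf 9889921) (.leaf 2119747)) (.node (.leaf 9950313) (.leaf 9897089))))) (.node (.node (.node (.node (.leaf 9956985) (.leaf 7661146)) (.node (.leaf 3493516) (.leaf 9927289))) (.node (.node (.leaf 2325618) (.leaf 9993841)) (.node (.leaf 1966714) (.leaf 9106556)))) (.node (.node (.node (.leaf 7579745) (.leaf 10134620)) (.node (.leaf 7926385) (.leaf 6440051))) (.node (.node (.leaf 9312864) (.leaf 1081955)) (.node (.leaf 2118756) (.leaf 9492081)))))) (.node (.node (.node (.node (.node (.leaf 1512568) (.leaf 9523321)) (.node (.leaf 6643304) (.leaf 9524825))) (.node (.node (.leaf 2345092) (.leaf 4759146)) (.node (.leaf 1089136) (.leaf 3163251)))) (.node (.node (.node (.leaf 11888737) (.leaf 7939696))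 (.node (.leaf 10282104) (.leaf 6720616))) (.node (.node (.leaf 769114) (.leaf 9470585)) (.node (.leaf 7007317) (.leaf 3512442))))) (.node (.node (.node (.node (.leaf 10241104) (.leaf 9088624)) (.node (.leaf 11171952) (.leaf 11820649))) (.node (.node (.leaf 4212837) (.leaf 11856497)) (.node (.leaf 5503572) (.leaf 1040000)))) (.node (.node (.node (.leaf 11864193) (.leaf 11418721)) (.node (.leaf 5520992) (.leaf 1223789))) (.node (.node (.leaf 11424361) (.leaf 5234802)) (.node (.leaf 5662845) (.leaf 6492269)))))))

/-- How a representative arises, part 165. -/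
def tInfoPart165 : Janko1.Tree ℕ := (.node (.node (.node (.node (.node (.node (.leaf 5571664) (.leaf 1224293)) (.node (.leaf 2151520) (.leaf 9326689))) (.node (.node (.leaf 2444888) (.leaf 9688184)) (.node (.leaf 3318892) (.leaf 9332329)))) (.node (.node (.node (.leaf 9362529) (.leaf 9717880)) (.node (.leaf 2770036) (.leaf 7630960))) (.node (.node (.leaf 4051056) (.leaf 10596976)) (.node (.leaf 5649523) (.leaf 6477427))))) (.node (.node (.node (.node (.leaf 1156203) (.leaf 3523708)) (.node (.leaf 2968138) (.leaf 11468921))) (.node (.node (.leaf 5803632) (.leaf 10783312)) (.node (.leaf 9353833) (.leaf 2050683)))) (.node (.node (.node (.leaf 5857368) (.leaf 10816096)) (.node (.leaf 10326640) (.leaf 2849893))) (.node (.node (.leaf 5701714) (.leaf 6778968)) (.node (.leaf 8211064) (.leaf 10362960)))))) (.node (.node (.node (.node (.node (.leaf 2850405) (.leaf 1603192)) (.node (.leaf 5033093) (.leaf 2902136))) (.node (.node (.leaf 5866093) (.leaf 11811417)) (.node (.leaf 11075696) (.leaf 6232672)))) (.node (.node (.node (.leaf 2984069) (.leaf 11111536))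 (.node (.leaf 11872377) (.leaf 2984565))) (.node (.node (.leaf 9342576) (.leaf 9484417)) (.node (.leaf 4550772) (.leaf 5136499))))) (.node (.node (.node (.node (.leaf 9494617) (.leaf 1198188)) (.node (.leaf 9372792) (.leaf 9517697))) (.node (.node (.leaf 2933864) (.leaf 3393652)) (.node (.leaf 3892850) (.leaf 11834481)))) (.node (.node (.node (.leaf 5651563) (.leaf 883816)) (.node (.leaf 941656) (.leaf 10172530))) (.node (.node (.leaf 7241852) (.leaf 4119155)) (.node (.leaf 6813307) (.leaf 4046971)))))))

/-- How a representative arises, part 166. -/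
def tInfoPart166 : Janko1.Tree ℕ := (.node (.node (.node (.node (.node (.node (.leaf 4787323) (.leaf 11588205)) (.node (.leaf 4510292) (.leaf 592500))) (.node (.node (.leaf 4319347) (.leaf 9571941)) (.node (.leaf 9782892) (.leaf 1027203)))) (.node (.node (.node (.leaf 5719676) (.leaf 9704565)) (.node (.leaf 4270715) (.leaf 9572453))) (.node (.node (.leaf 3851885) (.leaf 5582972)) (.node (.leaf 11804283) (.leaf 4508789))))) (.node (.node (.node (.node (.leaf 3852405) (.leaf 7676012)) (.node (.leaf 2636908) (.leaf 7512667))) (.node (.node (.leaf 965749) (.leaf 8983658)) (.node (.leaf 10143851) (.leaf 8007258)))) (.node (.node (.node (.leaf 7386748) (.leaf 11713132)) (.node (.leaf 10419266) (.leaf 6418060))) (.node (.node (.leaf 8552035) (.leaf 6505557)) (.node (.leaf 9105020) (.leaf 11408490)))))) (.node (.node (.node (.node (.node (.leaf 6773348) (.leaf 6291050)) (.node (.leaf 6506101) (.leaf 1239141))) (.node (.node (.leaf 10318451) (.leaf 1611893)) (.node (.leaf 5359204) (.leaf 1635428)))) (.node (.node (.node (.leaf 11464266) (.leaf 8108164))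 (.node (.leaf 9051747) (.leaf 10194026))) (.node (.node (.leaf 2618485) (.leaf 10880635)) (.node (.leaf 4960362) (.leaf 1241195))))) (.node (.node (.node (.node (.leaf 4747868) (.leaf 8602229)) (.node (.leaf 2988658) (.leaf 5117052))) (.node (.node (.leaf 9029234) (.leaf 10455148)) (.node (.leaf 3617404) (.leaf 2246779)))) (.node (.node (.node (.leaf 8241269) (.leaf 6504035)) (.node (.leaf 9214548) (.leaf 7829626))) (.node (.node (.leaf 2186283) (.leaf 858722)) (.node (.leaf 11169388) (.leaf 6448747)))))))

/-- How a representative arises, part 167. -/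
def tInfoPart167 : Janko1.Tree ℕ := (.node (.node (.node (.node (.node (.node (.leaf 10613349) (.leaf 4782180)) (.node (.leaf 5359205) (.leaf 10914427))) (.node (.node (.leaf 5742202) (.leaf 6185589)) (.node (.leaf 5927538) (.leaf 5252212)))) (.node (.node (.node (.leaf 1510508) (.leaf 10880115)) (.node (.leaf 10680435) (.leaf 6186093))) (.node (.node (.leaf 10661426) (.leaf 8616547)) (.node (.leaf 2013805) (.leaf 9279076))))) (.node (.node (.node (.node (.leaf 10361475) (.leaf 11480164)) (.node (.leaf 5878381) (.leaf 9032308))) (.node (.node (.leaf 8385613) (.leaf 11035253)) (.node (.leaf 10478717) (.leaf 7523954)))) (.node (.node (.node (.leaf 3493996) (.leaf 2562674)) (.node (.leaf 6919804) (.leaf 11409540))) (.node (.node (.leaf 6448243) (.leaf 3912290)) (.node (.leaf 8279154) (.leaf 10275949)))))) (.node (.node (.node (.node (.node (.leaf 9553482) (.leaf 5672051)) (.node (.leaf 8461421) (.leaf 3054187))) (.node (.node (.leaf 10276469) (.leaf 8461949)) (.node (.leaf 1079899) (.leaf 111731)))) (.node (.node (.node (.leaf 11525248) (.leaf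 6791275)) (.node (.leaf 7314027) (.leaf 3153019))) (.node (.node (.leaf 4263539) (.leaf 4774499)) (.node (.leaf 6739555) (.leaf 7833664))))) (.node (.node (.node (.node (.leaf 858232) (.leaf 11364969)) (.node (.leaf 11369561) (.leaf 11838585))) (.node (.node (.leaf 11370601) (.leaf 11840617)) (.node (.leaf 7797864) (.leaf 11879537)))) (.node (.node (.node (.leaf 11883617) (.leaf 10186352)) (.node (.leaf 7363164) (.leaf 2776160))) (.node (.node (.leaf 3028578) (.leaf 4597325)) (.node (.leaf 3456613) (.leaf 11481728)))))))

/-- How a representative arises, part 168. -/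
def tInfoPart168 : Janko1.Tree ℕ := (.node (.node (.node (.node (.node (.node (.leaf 7105645) (.leaf 631922)) (.node (.leaf 11352177) (.leaf 793192))) (.node (.node (.leaf 11386465) (.leaf 11821168)) (.node (.leaf 11753585) (.leaf 11450473)))) (.node (.node (.node (.leaf 3510908) (.leaf 9521248)) (.node (.leaf 2725989) (.leaf 6016080))) (.node (.node (.leaf 4371560) (.leaf 6063237)) (.node (.leaf 163448) (.leaf 5232757))))) (.node (.node (.node (.node (.leaf 6531700) (.leaf 11762793)) (.node (.leaf 7401592) (.leaf 11811960))) (.node (.node (.leaf 11769465) (.leaf 11443281)) (.node (.leaf 7425648) (.leaf 11476081)))) (.node (.node (.node (.leaf 2107499) (.leaf 1213043)) (.node (.leaf 6010496) (.leaf 2232947))) (.node (.node (.leaf 5135467) (.leaf 9819776)) (.node (.leaf 3332180) (.leaf 152152)))))) (.node (.node (.node (.node (.node (.leaf 7483504) (.leaf 985204)) (.node (.leaf 8073832) (.leaf 2481765))) (.node (.node (.leaf 10469464) (.leaf 5312616)) (.node (.leaf 6433380) (.leaf 8103552)))) (.node (.node (.node (.leaf 1470573) (.leaf 4442738))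 (.node (.leaf 5445229) (.leaf 6894676))) (.node (.node (.leaf 11350641) (.leaf 11357801)) (.node (.leaf 11824761) (.leaf 2692208))))) (.node (.node (.node (.node (.leaf 6523000) (.leaf 11388521)) (.node (.leaf 11874913) (.leaf 11382377))) (.node (.node (.leaf 2107003) (.leaf 2231915)) (.node (.leaf 2667124) (.leaf 1148019)))) (.node (.node (.node (.leaf 7005808) (.leaf 5083259)) (.node (.leaf 6439027) (.leaf 1661018))) (.node (.node (.leaf 11208808) (.leaf 11367009)) (.node (.leaf 11835993) (.leaf 11372673)))))))

/-- How a representative arises, part 169. -/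
def tInfoPart169 : Janko1.Tree ℕ := (.node (.node (.node (.node (.node (.node (.leaf 11875961) (.leaf 11408977)) (.node (.leaf 9975397) (.leaf 7426140))) (.node (.node (.leaf 9974389) (.leaf 7333475)) (.node (.leaf 4046443) (.leaf 11427410)))) (.node (.node (.node (.leaf 3172971) (.leaf 9974837)) (.node (.leaf 11094650) (.leaf 10079290))) (.node (.node (.leaf 4832379) (.leaf 9226365)) (.node (.leaf 4780155) (.leaf 9064018))))) (.node (.node (.node (.node (.leaf 3473013) (.leaf 3873900)) (.node (.leaf 3474533) (.leaf 9743476))) (.node (.node (.leaf 3473533) (.leaf 11028068)) (.node (.leaf 7118973) (.leaf 9759859)))) (.node (.node (.node (.leaf 10115699) (.leaf 8984690)) (.node (.leaf 653922) (.leaf 11464267))) (.node (.node (.leaf 4531820) (.leaf 9623155)) (.node (.leaf 9594492) (.leaf 1179242)))))) (.node (.node (.node (.node (.node (.leaf 4943485) (.leaf 3423858)) (.node (.leaf 5743220) (.leaf 8960628))) (.node (.node (.leaf 11393154) (.leaf 7981676)) (.node (.leaf 10420346) (.leaf 3122301)))) (.node (.node (.node (.leaf 8028795) (.leaf 3122797))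 (.node (.leaf 1742973) (.leaf 1743469))) (.node (.node (.leaf 5249637) (.leaf 6806634)) (.node (.leaf 9052259) (.leaf 11203194))))) (.node (.node (.node (.node (.leaf 8571507) (.leaf 5250165)) (.node (.leaf 795780) (.leaf 11231843))) (.node (.node (.leaf 9312338) (.leaf 10347645)) (.node (.leaf 2254427) (.leaf 8530029)))) (.node (.node (.node (.leaf 6495875) (.leaf 8525925)) (.node (.leaf 9028698) (.leaf 10312828))) (.node (.node (.leaf 5917307) (.leaf 8530557)) (.node (.leaf 6443611) (.leaf 2130035)))))))

/-- How a representative arises, part 170. -/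
def tInfoPart170 : Janko1.Tree ℕ := (.node (.node (.node (.node (.node (.node (.leaf 8112748) (.leaf 10964085)) (.node (.leaf 5154379) (.leaf 8863869))) (.node (.node (.leaf 10964581) (.leaf 7834738)) (.node (.leaf 11712626) (.leaf 8607347)))) (.node (.node (.node (.leaf 5460053) (.leaf 2938460)) (.node (.leaf 9873538) (.leaf 5459565))) (.node (.node (.leaf 9140860) (.leaf 10662514)) (.node (.leaf 6611045) (.leaf 10800754))))) (.node (.node (.node (.node (.leaf 9813114) (.leaf 2381413)) (.node (.leaf 2382973) (.leaf 1823866))) (.node (.node (.leaf 1230939) (.leaf 11105909)) (.node (.leaf 4805244) (.leaf 8729181)))) (.node (.node (.node (.leaf 9285748) (.leaf 8728701)) (.node (.leaf 11106429) (.leaf 5625467))) (.node (.node (.leaf 10754669) (.leaf 1709698)) (.node (.leaf 10758269) (.leaf 1424500)))))) (.node (.node (.node (.node (.node (.leaf 8109685) (.leaf 10755197)) (.node (.leaf 79466) (.leaf 2429538))) (.node (.node (.leaf 8108637) (.leaf 2759276)) (.node (.leaf 129147) (.leaf 2110572)))) (.node (.node (.node (.leaf 4841571) (.leaf 9905773))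 (.node (.leaf 2788450) (.leaf 6815347))) (.node (.node (.leaf 4049531) (.leaf 4784747)) (.node (.leaf 3274322) (.leaf 1103451))))) (.node (.node (.node (.node (.leaf 9093744) (.leaf 11385965)) (.node (.leaf 7972448) (.leaf 9703013))) (.node (.node (.leaf 1024123) (.leaf 7906941)) (.node (.leaf 7275635) (.leaf 9569917)))) (.node (.node (.node (.leaf 10292840) (.leaf 11806299)) (.node (.leaf 6690936) (.leaf 11387496))) (.node (.node (.leaf 182404) (.leaf 3849333)) (.node (.leaf 3383920) (.leaf 7947883)))))))

/-- How a representative arises, part 171. -/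
def tInfoPart171 : Janko1.Tree ℕ := (.node (.node (.node (.node (.node (.node (.leaf 8146560) (.leaf 9756795)) (.node (.leaf 9648747) (.leaf 4224629))) (.node (.node (.leaf 10141307) (.leaf 4035180)) (.node (.leaf 7474283) (.leaf 4225117)))) (.node (.node (.node (.leaf 1044600) (.leaf 11432043)) (.node (.leaf 6368376) (.leaf 6840954))) (.node (.node (.leaf 1082988) (.leaf 5674605)) (.node (.leaf 10911867) (.leaf 9070163))))) (.node (.node (.node (.node (.leaf 4115072) (.leaf 2257989)) (.node (.leaf 10876523) (.leaf 1610877))) (.node (.node (.leaf 338528) (.leaf 10789488)) (.node (.leaf 9712744) (.leaf 1066090)))) (.node (.node (.node (.leaf 1611381) (.leaf 1059386)) (.node (.leaf 410176) (.leaf 5852272))) (.node (.node (.leaf 2262107) (.leaf 5140075)) (.node (.leaf 11696240) (.leaf 10642552)))))) (.node (.node (.node (.node (.node (.leaf 8043101) (.leaf 5087347)) (.node (.leaf 8598629) (.leaf 1224827))) (.node (.node (.leaf 3584628) (.leaf 2438736)) (.node (.leaf 7015514) (.leaf 11173501)))) (.node (.node (.node (.leaf 1158763) (.leaf 8237165))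 (.node (.leaf 4645484) (.leaf 5618291))) (.node (.node (.leaf 11174005) (.leaf 5931619)) (.node (.leaf 10320512) (.leaf 9346160))))) (.node (.node (.node (.node (.leaf 1529968) (.leaf 10357864)) (.node (.leaf 2864245) (.leaf 8240232))) (.node (.node (.leaf 6183541) (.leaf 6780520)) (.node (.leaf 6636660) (.leaf 1408132)))) (.node (.node (.node (.leaf 2928768) (.leaf 2996325)) (.node (.leaf 8021123) (.leaf 2987096))) (.node (.node (.leaf 2173562) (.leaf 10878059)) (.node (.leaf 10666083) (.leaf 6302816)))))))

/-- How a representative arises, part 172. -/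
def tInfoPart172 : Janko1.Tree ℕ := (.node (.node (.node (.node (.node (.node (.leaf 2917492) (.leaf 3542640)) (.node (.leaf 3112579) (.leaf 5985891))) (.node (.node (.leaf 1159779) (.leaf 3459700)) (.node (.leaf 8931941) (.leaf 1133164)))) (.node (.node (.node (.leaf 9968736) (.leaf 887392)) (.node (.leaf 6228080) (.leaf 10002544))) (.node (.node (.leaf 9030760) (.leaf 7908992)) (.node (.leaf 9012845) (.leaf 5781100))))) (.node (.node (.node (.node (.leaf 7947882) (.leaf 7613537)) (.node (.leaf 7963746) (.leaf 6798955))) (.node (.node (.leaf 996987) (.leaf 1547378)) (.node (.leaf 4032635) (.leaf 7648873)))) (.node (.node (.node (.leaf 11008108) (.leaf 114283)) (.node (.leaf 5998700) (.leaf 3223683))) (.node (.node (.leaf 4813947) (.leaf 8813692)) (.node (.leaf 7312483) (.leaf 9124450)))))) (.node (.node (.node (.node (.node (.leaf 9109090) (.leaf 9720953)) (.node (.leaf 9723473) (.leaf 5577836))) (.node (.node (.leaf 11554426) (.leaf 7625841)) (.node (.leaf 7624321) (.leaf 4287596)))) (.node (.node (.node (.leaf 6995578) (.leaf 7634553)) (.node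 (.leaf 4557434) (.leaf 9663593))) (.node (.node (.leaf 4569722) (.leaf 6188156)) (.node (.leaf 3966557) (.leaf 9672289))))) (.node (.node (.node (.node (.leaf 9699433) (.leaf 9696353)) (.node (.leaf 4209277) (.leaf 10712196))) (.node (.node (.leaf 946293) (.leaf 9742969)) (.node (.leaf 2237037) (.leaf 963682)))) (.node (.node (.node (.leaf 9764953) (.leaf 7913082)) (.node (.leaf 8065644) (.leaf 7927378))) (.node (.node (.leaf 9773137) (.leaf 9227874)) (.node (.leaf 6829180) (.leaf 1590909)))))))

/-- How a representative arises, part 173. -/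
def tInfoPart173 : Janko1.Tree ℕ := (.node (.node (.node (.node (.node (.node (.leaf 7654529) (.leaf 3370098)) (.node (.leaf 7665777) (.leaf 7692921))) (.node (.node (.leaf 1037412) (.leaf 7704185)) (.node (.leaf 7697513) (.leaf 11520098)))) (.node (.node (.node (.leaf 3135100) (.leaf 9752689)) (.node (.leaf 9761393) (.leaf 11247202))) (.node (.node (.leaf 3560572) (.leaf 6512746)) (.node (.leaf 8233596) (.leaf 7681649))))) (.node (.node (.node (.node (.leaf 10475636) (.leaf 10360442)) (.node (.leaf 1145411) (.leaf 2172515))) (.node (.node (.leaf 10072690) (.leaf 10157708)) (.node (.leaf 8905788) (.leaf 2845301)))) (.node (.node (.node (.leaf 9461874) (.leaf 6162525)) (.node (.leaf 9966180) (.leaf 2845829))) (.node (.node (.leaf 1505380) (.leaf 6163029)) (.node (.leaf 7833665) (.leaf 5862501)))))) (.node (.node (.node (.node (.node (.leaf 5027957) (.leaf 8434802)) (.node (.leaf 1992813) (.leaf 363634))) (.node (.node (.leaf 359034) (.leaf 10194025)) (.node (.leaf 7619690) (.leaf 11255396)))) (.node (.node (.node (.leaf 647292) (.leaf 7811161))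 (.node (.leaf 10083420) (.leaf 6488691))) (.node (.node (.leaf 7824505) (.leaf 7852657)) (.node (.leaf 5602931) (.leaf 6439547))))) (.node (.node (.node (.node (.leaf 7857265) (.leaf 10175609)) (.node (.leaf 2118755) (.leaf 10183273))) (.node (.node (.leaf 5956187) (.leaf 5071955)) (.node (.leaf 4122707) (.leaf 9165432)))) (.node (.node (.node (.leaf 10428528) (.leaf 7336035)) (.node (.leaf 11485312) (.leaf 8006248))) (.node (.node (.leaf 1178728) (.leaf 9972853)) (.node (.leaf 816256) (.leaf 268396)))))))

/-- How a representative arises, part 174. -/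
def tInfoPart174 : Janko1.Tree ℕ := (.node (.node (.node (.node (.node (.node (.leaf 6171724) (.leaf 6529144)) (.node (.leaf 758352) (.leaf 4267099))) (.node (.node (.leaf 7367788) (.leaf 6936688)) (.node (.leaf 3469437) (.leaf 1252968)))) (.node (.node (.node (.leaf 6880376) (.leaf 11492448)) (.node (.leaf 8012888) (.leaf 5199952))) (.node (.node (.leaf 10112627) (.leaf 9174643)) (.node (.leaf 4936805) (.leaf 11465835))))) (.node (.node (.node (.node (.leaf 11798099) (.leaf 537196)) (.node (.leaf 6538312) (.leaf 6840418))) (.node (.node (.leaf 11431523) (.leaf 291437)) (.node (.leaf 8623227) (.leaf 5151349)))) (.node (.node (.node (.leaf 10913379) (.leaf 11265627)) (.node (.leaf 10736768) (.leaf 11853920))) (.node (.node (.leaf 8585819) (.leaf 2139269)) (.node (.leaf 5769856) (.leaf 3338858)))))) (.node (.node (.node (.node (.node (.leaf 3335770) (.leaf 6074477)) (.node (.leaf 6074981) (.leaf 1582706))) (.node (.node (.leaf 2854010) (.leaf 6058584)) (.node (.leaf 10322043) (.leaf 1064058)))) (.node (.node (.node (.leaf 1233531) (.leaf 8358000))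 (.node (.leaf 3797104) (.leaf 10745960))) (.node (.node (.leaf 11871352) (.leaf 10899061)) (.node (.leaf 10898557) (.leaf 5088363))))) (.node (.node (.node (.node (.leaf 9083501) (.leaf 6013560)) (.node (.leaf 8309877) (.leaf 10404477))) (.node (.node (.leaf 10405485) (.leaf 6508651)) (.node (.leaf 8309381) (.leaf 115320)))) (.node (.node (.node (.leaf 2194035) (.leaf 2222184)) (.node (.leaf 988268) (.leaf 2786916))) (.node (.node (.leaf 3777106) (.leaf 2494581)) (.node (.leaf 8536699) (.leaf 6287981)))))))

/-- How a representative arises, part 175. -/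
def tInfoPart175 : Janko1.Tree ℕ := (.node (.node (.node (.node (.node (.node (.leaf 6287469) (.leaf 10363515)) (.node (.leaf 2303594) (.leaf 8504947))) (.node (.node (.leaf 472106) (.leaf 7729272)) (.node (.leaf 657520) (.leaf 8854136)))) (.node (.node (.node (.leaf 2678896) (.leaf 4779632)) (.node (.leaf 11244144) (.leaf 7756384))) (.node (.node (.leaf 5785197) (.leaf 1367125)) (.node (.leaf 7372898) (.leaf 10547829))))) (.node (.node (.node (.node (.leaf 4761180) (.leaf 2671212)) (.node (.leaf 8169565) (.leaf 8169069))) (.node (.node (.leaf 1345624) (.leaf 10548301)) (.node (.leaf 10547301) (.leaf 5931115)))) (.node (.node (.node (.leaf 3220588) (.leaf 1235555)) (.node (.leaf 10118240) (.leaf 1167995))) (.node (.node (.leaf 730208) (.leaf 4838520)) (.node (.leaf 104051) (.leaf 7606361)))))) (.node (.node (.node (.node (.node (.leaf 4307571) (.leaf 7816257)) (.node (.leaf 4823627) (.leaf 7616089))) (.node (.node (.leaf 8909890) (.leaf 7619689)) (.node (.leaf 7319675) (.leaf 995971)))) (.node (.node (.node (.leaf 9902708) (.leaf 23675)) (.node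 (.leaf 1550458) (.leaf 6565994))) (.node (.node (.leaf 8413308) (.leaf 7790689)) (.node (.leaf 10610804) (.leaf 11880036))))) (.node (.node (.node (.node (.leaf 7097973) (.leaf 7599233)) (.node (.leaf 4662882) (.leaf 10316922))) (.node (.node (.leaf 8776316) (.leaf 7624825)) (.node (.leaf 7827049) (.leaf 9727596)))) (.node (.node (.node (.leaf 6996586) (.leaf 11014764)) (.node (.leaf 5097586) (.leaf 11558002))) (.node (.node (.leaf 11553898) (.leaf 4590685)) (.node (.leaf 3249786) (.leaf 5959813)))))))

/-- How a representative arises, part 176. -/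
def tInfoPart176 : Janko1.Tree ℕ := (.node (.node (.node (.node (.node (.node (.leaf 9733753) (.leaf 5132901)) (.node (.leaf 10081385) (.leaf 9146994))) (.node (.node (.leaf 3097693) (.leaf 6624892)) (.node (.leaf 1489482) (.leaf 9737337)))) (.node (.node (.node (.leaf 5960293) (.leaf 9771089)) (.node (.leaf 11426412) (.leaf 2759794))) (.node (.node (.leaf 9200764) (.leaf 3098229)) (.node (.leaf 8875634) (.leaf 2114685))))) (.node (.node (.node (.node (.leaf 5097052) (.leaf 7858308)) (.node (.leaf 3103331) (.leaf 6941802))) (.node (.node (.leaf 11327100) (.leaf 10109553)) (.node (.leaf 5127795) (.leaf 9754737)))) (.node (.node (.node (.leaf 5648499) (.leaf 11519610)) (.node (.leaf 10138745) (.leaf 2058339))) (.node (.node (.leaf 6512218) (.leaf 3040363)) (.node (.leaf 9788545) (.leaf 4622946)))))) (.node (.node (.node (.node (.node (.leaf 5072491) (.leaf 1554060)) (.node (.leaf 6432371) (.leaf 9797729))) (.node (.node (.leaf 3687026) (.leaf 10398316)) (.node (.leaf 11356276) (.leaf 3412596)))) (.node (.node (.node (.leaf 6589565) (.leaf 10194521))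 (.node (.leaf 2360445) (.leaf 9261692))) (.node (.node (.leaf 7289458) (.leaf 1219699)) (.node (.leaf 11495020) (.leaf 6651004))))) (.node (.node (.node (.node (.leaf 11755122) (.leaf 5406322)) (.node (.leaf 6479443) (.leaf 9015412))) (.node (.node (.leaf 6038106) (.leaf 1155187)) (.node (.leaf 3041395) (.leaf 2181739)))) (.node (.node (.node (.leaf 9716321) (.leaf 10935418)) (.node (.leaf 6430275) (.leaf 10218105))) (.node (.node (.leaf 4656755) (.leaf 11349600)) (.node (.leaf 9210465) (.leaf 3409512)))))))

/-- How a representative arises, part 177. -/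
def tInfoPart177 : Janko1.Tree ℕ := (.node (.node (.node (.node (.node (.node (.leaf 1199714) (.leaf 3638371)) (.node (.leaf 7264892) (.leaf 4650579))) (.node (.node (.leaf 11144312) (.leaf 10032768)) (.node (.leaf 3098730) (.leaf 7974504)))) (.node (.node (.node (.leaf 4720216) (.leaf 6013052)) (.node (.leaf 4444285) (.leaf 9192049))) (.node (.node (.leaf 8146016) (.leaf 4998256)) (.node (.leaf 11386976) (.leaf 6691440))))) (.node (.node (.node (.node (.leaf 9569385) (.leaf 9218161)) (.node (.leaf 1907828) (.leaf 890485))) (.node (.node (.leaf 6369904) (.leaf 1006200)) (.node (.leaf 9068648) (.leaf 11551857)))) (.node (.node (.node (.leaf 6385752) (.leaf 1122920)) (.node (.leaf 6643829) (.leaf 11648617))) (.node (.node (.leaf 11697785) (.leaf 2182741)) (.node (.leaf 5608053) (.leaf 1216116)))))) (.node (.node (.node (.node (.node (.leaf 6441573) (.leaf 10632312)) (.node (.leaf 2048616) (.leaf 8494208))) (.node (.node (.leaf 9619056) (.leaf 5508720)) (.node (.leaf 9124449) (.leaf 5502573)))) (.node (.node (.node (.leaf 6329981) (.leaf 692340))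 (.node (.leaf 9713248) (.leaf 5500021))) (.node (.node (.leaf 337008) (.leaf 9152633)) (.node (.leaf 4168808) (.leaf 6323290))))) (.node (.node (.node (.node (.leaf 11715681) (.leaf 11495017)) (.node (.leaf 11502185) (.leaf 7161976))) (.node (.node (.leaf 6377035) (.leaf 2091112)) (.node (.leaf 4762748) (.leaf 1735291)))) (.node (.node (.node (.leaf 11739241) (.leaf 872572)) (.node (.leaf 9135721) (.leaf 5188723))) (.node (.node (.leaf 9142913) (.leaf 417352)) (.node (.leaf 5808240) (.leaf 2439272)))))))

/-- How a representative arises, part 178. -/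
def tInfoPart178 : Janko1.Tree ℕ := (.node (.node (.node (.node (.node (.node (.leaf 9194609) (.leaf 6116461)) (.node (.leaf 9187945) (.leaf 9527385))) (.node (.node (.leaf 6955124) (.leaf 6733944)) (.node (.leaf 1562744) (.leaf 6114381)))) (.node (.node (.node (.leaf 9221761) (.leaf 2785373)) (.node (.leaf 1932405) (.leaf 11618921))) (.node (.node (.leaf 11555961) (.leaf 2923109)) (.node (.leaf 2928240) (.leaf 5812853))))) (.node (.node (.node (.node (.leaf 5505659) (.leaf 6789232)) (.node (.leaf 5866618) (.leaf 1636984))) (.node (.node (.leaf 9543793) (.leaf 10366064)) (.node (.leaf 2663035) (.leaf 9586289)))) (.node (.node (.node (.leaf 5236851) (.leaf 6067819)) (.node (.leaf 5096544) (.leaf 5498995))) (.node (.node (.leaf 6276192) (.leaf 6325363)) (.node (.leaf 975464) (.leaf 2995808)))))) (.node (.node (.node (.node (.node (.leaf 7875184) (.leaf 2899048)) (.node (.leaf 11670649) (.leaf 11553901))) (.node (.node (.leaf 505459) (.leaf 9298554)) (.node (.leaf 3661931) (.leaf 4731491)))) (.node (.node (.node (.leaf 9876589) (.leaf 9409636))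 (.node (.leaf 9464453) (.leaf 718434))) (.node (.node (.leaf 5415028) (.leaf 10707060)) (.node (.leaf 512115) (.leaf 11354749))))) (.node (.node (.node (.node (.leaf 3670611) (.leaf 10797676)) (.node (.leaf 9071234) (.leaf 11355253))) (.node (.node (.leaf 9674853) (.leaf 10427970)) (.node (.leaf 6726762) (.leaf 10040947)))) (.node (.node (.node (.leaf 9342579) (.leaf 774245)) (.node (.leaf 5242970) (.leaf 6967357))) (.node (.node (.leaf 7069836) (.leaf 11108978)) (.node (.leaf 3686508) (.leaf 10498690)))))))

/-- How a representative arises, part 179. -/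
def tInfoPart179 : Janko1.Tree ℕ := (.node (.node (.node (.node (.node (.node (.leaf 5686388) (.leaf 6411874)) (.node (.leaf 10211954) (.leaf 5821548))) (.node (.node (.leaf 2211972) (.leaf 10943091)) (.node (.leaf 2199149) (.leaf 5622885)))) (.node (.node (.node (.leaf 8787051) (.leaf 11189883)) (.node (.leaf 10429531) (.leaf 5622365))) (.node (.node (.leaf 7894644) (.leaf 8294995)) (.node (.leaf 6519412) (.leaf 9126524))))) (.node (.node (.node (.node (.leaf 8878707) (.leaf 1168466)) (.node (.leaf 4996196) (.leaf 5197411))) (.node (.node (.leaf 2686563) (.leaf 1491580)) (.node (.leaf 8567421) (.leaf 11416698)))) (.node (.node (.node (.leaf 10660949) (.leaf 8204389)) (.node (.leaf 5573243) (.leaf 10394218))) (.node (.node (.leaf 10220668) (.leaf 5204090)) (.node (.leaf 11349098) (.leaf 5302397)))))) (.node (.node (.node (.node (.node (.leaf 11424364) (.leaf 2515562)) (.node (.leaf 6126205) (.leaf 8848995))) (.node (.node (.leaf 4006002) (.leaf 8325242)) (.node (.leaf 6128717) (.leaf 1744490)))) (.node (.node (.node (.leaf 3111540) (.leaf 9572450))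 (.node (.leaf 7585898) (.leaf 2635354))) (.node (.node (.leaf 8855155) (.leaf 8232051)) (.node (.leaf 5831253) (.leaf 1945701))))) (.node (.node (.node (.node (.leaf 10634339) (.leaf 1877082)) (.node (.leaf 8821867) (.leaf 8340091))) (.node (.node (.leaf 11000429) (.leaf 6028403)) (.node (.leaf 6754932) (.leaf 10820730)))) (.node (.node (.node (.leaf 6402163) (.leaf 7819892)) (.node (.leaf 9929290) (.leaf 10010236))) (.node (.node (.leaf 10233965) (.leaf 10769514)) (.node (.leaf 7250546) (.leaf 8430693)))))))

/-- How a representative arises, part 180. -/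
def tInfoPart180 : Janko1.Tree ℕ := (.node (.node (.node (.node (.node (.node (.leaf 10797157) (.leaf 5376084)) (.node (.leaf 9553481) (.leaf 1195106))) (.node (.node (.leaf 9211001) (.leaf 625779)) (.node (.leaf 678994) (.leaf 7054436)))) (.node (.node (.node (.leaf 3226232) (.leaf 7210091)) (.node (.leaf 1243240) (.leaf 8035960))) (.node (.node (.leaf 4880512) (.leaf 3583082)) (.node (.leaf 5806716) (.leaf 7200875))))) (.node (.node (.node (.node (.leaf 845936) (.leaf 6582352)) (.node (.leaf 9193073) (.leaf 6692954))) (.node (.node (.leaf 3395685) (.leaf 1651324)) (.node (.leaf 7050373) (.leaf 9216121)))) (.node (.node (.node (.leaf 11624561) (.leaf 11560033)) (.node (.leaf 2772592) (.leaf 4877949))) (.node (.node (.leaf 7374445) (.leaf 2422916)) (.node (.leaf 8959088) (.leaf 7840376)))))) (.node (.node (.node (.node (.node (.leaf 6375018) (.leaf 2062981)) (.node (.leaf 3042949) (.leaf 1852040))) (.node (.node (.leaf 11485793) (.leaf 11856496)) (.node (.leaf 6229108) (.leaf 11723361)))) (.node (.node (.node (.leaf 3525234) (.leaf 6009453))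 (.node (.leaf 104568) (.leaf 2910834))) (.node (.node (.leaf 6090864) (.leaf 10965584)) (.node (.leaf 9639537) (.leaf 2188392))))) (.node (.node (.node (.node (.leaf 66112) (.leaf 3399810)) (.node (.leaf 5499507) (.leaf 5026900))) (.node (.node (.leaf 3820160) (.leaf 6337106)) (.node (.leaf 11494505) (.leaf 11705985)))) (.node (.node (.node (.leaf 11501657) (.leaf 9493096)) (.node (.leaf 3797632) (.leaf 1733235))) (.node (.node (.leaf 1836096) (.leaf 2222688)) (.node (.leaf 6098528) (.leaf 9176185)))))))

/-- How a representative arises, part 181. -/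
def tInfoPart181 : Janko1.Tree ℕ := (.node (.node (.node (.node (.node (.node (.leaf 7461472) (.leaf 73816)) (.node (.leaf 6742612) (.leaf 1409661))) (.node (.node (.leaf 5395069) (.leaf 6223997)) (.node (.leaf 1277552) (.leaf 9220721)))) (.node (.node (.node (.leaf 253034) (.leaf 11626089)) (.node (.leaf 11619441) (.leaf 7757408))) (.node (.node (.leaf 6474848) (.leaf 4779120)) (.node (.leaf 1594468) (.leaf 11589225))))) (.node (.node (.node (.node (.leaf 11652161) (.leaf 3525748)) (.node (.leaf 9557113) (.leaf 9214065))) (.node (.node (.leaf 8108632) (.leaf 2661491)) (.node (.leaf 2534003) (.leaf 5237883)))) (.node (.node (.node (.leaf 5551699) (.leaf 6068339)) (.node (.leaf 6387331) (.leaf 9584225))) (.node (.node (.leaf 11638897) (.leaf 11646073)) (.node (.leaf 1675363) (.leaf 731240)))))) (.node (.node (.node (.node (.node (.leaf 5229691) (.leaf 4786288)) (.node (.leaf 2654320) (.leaf 11597393))) (.node (.node (.leaf 11222656) (.leaf 1234554)) (.node (.leaf 4675195) (.leaf 11614845)))) (.node (.node (.node (.leaf 3660899) (.leaf 714338))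 (.node (.leaf 9940613) (.leaf 1955460))) (.node (.node (.leaf 3013218) (.leaf 4361843)) (.node (.leaf 4663899) (.leaf 9192565))))) (.node (.node (.node (.node (.leaf 10169413) (.leaf 11792980)) (.node (.leaf 7531621) (.leaf 9072226))) (.node (.node (.leaf 579699) (.leaf 11508843)) (.node (.leaf 4561501) (.leaf 4559477)))) (.node (.node (.node (.leaf 6715002) (.leaf 7742555)) (.node (.leaf 10427514) (.leaf 8603764))) (.node (.node (.leaf 7069301) (.leaf 4847218)) (.node (.leaf 6320234) (.leaf 9375347)))))))

/-- How a representative arises, part 182. -/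
def tInfoPart182 : Janko1.Tree ℕ := (.node (.node (.node (.node (.node (.node (.leaf 11452522) (.leaf 4005500)) (.node (.leaf 221797) (.leaf 6823514))) (.node (.node (.leaf 8480884) (.leaf 7391357)) (.node (.leaf 3294829) (.leaf 4187244)))) (.node (.node (.node (.leaf 4938842) (.leaf 10068091)) (.node (.leaf 9455731) (.leaf 9799268))) (.node (.node (.leaf 779882) (.leaf 2682996)) (.node (.leaf 9322082) (.leaf 8078946))))) (.node (.node (.node (.node (.leaf 8886395) (.leaf 5098085)) (.node (.leaf 10952811) (.leaf 8974450))) (.node (.node (.leaf 2679933) (.leaf 2955370)) (.node (.leaf 10003068) (.leaf 1165418)))) (.node (.node (.node (.leaf 3175036) (.leaf 1440364)) (.node (.leaf 1683053) (.leaf 8879715))) (.node (.node (.leaf 9266260) (.leaf 9047677)) (.node (.leaf 2684523) (.leaf 10310269)))))) (.node (.node (.node (.node (.node (.leaf 10181762) (.leaf 5311090)) (.node (.leaf 6446716) (.leaf 10465898))) (.node (.node (.leaf 1624707) (.leaf 3015284)) (.node (.leaf 10931325) (.leaf 6250610)))) (.node (.node (.node (.leaf 2549875) (.leaf 8873076))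 (.node (.leaf 6401619) (.leaf 6858332))) (.node (.node (.leaf 10395250) (.leaf 132714)) (.node (.leaf 6238789) (.leaf 1425501))))) (.node (.node (.node (.node (.leaf 8848507) (.leaf 9340532)) (.node (.leaf 5410421) (.leaf 10988155))) (.node (.node (.leaf 9571426) (.leaf 2432581)) (.node (.leaf 2323573) (.leaf 1037932)))) (.node (.node (.node (.leaf 8856675) (.leaf 2636418)) (.node (.leaf 9052260) (.leaf 1305205))) (.node (.node (.leaf 10977387) (.leaf 6830172)) (.node (.leaf 8342651) (.leaf 6559357)))))))

/-- How a representative arises, part 183. -/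
def tInfoPart183 : Janko1.Tree ℕ := (.node (.node (.node (.node (.node (.node (.leaf 8268915) (.leaf 5109372)) (.node (.leaf 5896818) (.leaf 11429516))) (.node (.node (.leaf 1548387) (.leaf 11069045)) (.node (.leaf 5572715) (.leaf 10699882)))) (.node (.node (.node (.leaf 8943220) (.leaf 4684412)) (.node (.leaf 11155564) (.leaf 1559163))) (.node (.node (.leaf 8636517) (.leaf 5561987)) (.node (.leaf 7179883) (.leaf 10249344))))) (.node (.node (.node (.node (.leaf 3664491) (.leaf 9874021)) (.node (.leaf 6694976) (.leaf 5048432))) (.node (.node (.leaf 709243) (.leaf 9462397)) (.node (.leaf 7871077) (.leaf 5130858)))) (.node (.node (.node (.leaf 3027560) (.leaf 1090656)) (.node (.leaf 7977080) (.leaf 11183224))) (.node (.node (.leaf 9671797) (.leaf 3608187)) (.node (.leaf 11510899) (.leaf 4399756)))))) (.node (.node (.node (.node (.node (.leaf 4993648) (.leaf 6965365)) (.node (.leaf 9448547) (.leaf 10028163))) (.node (.node (.leaf 6657653) (.leaf 7747707)) (.node (.leaf 3923533) (.leaf 903277)))) (.node (.node (.node (.leaf 10065008) (.leaf 2839658))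 (.node (.leaf 9090656) (.leaf 4176501))) (.node (.node (.leaf 2153584) (.leaf 4648042)) (.node (.leaf 3445364) (.leaf 8226907))))) (.node (.node (.node (.node (.leaf 8498304) (.leaf 7166592)) (.node (.leaf 6449789) (.leaf 4061296))) (.node (.node (.leaf 8334955) (.leaf 11170939)) (.node (.leaf 4549730) (.leaf 8853627)))) (.node (.node (.node (.leaf 8750704) (.leaf 6341733)) (.node (.leaf 8820851) (.leaf 2552413))) (.node (.node (.leaf 2445432) (.leaf 8010821)) (.node (.leaf 6025835) (.leaf 1689707)))))))

/-- How a representative arises, part 184. -/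
def tInfoPart184 : Janko1.Tree ℕ := (.node (.node (.node (.node (.node (.node (.leaf 4123256) (.leaf 1526882)) (.node (.leaf 5241947) (.leaf 8564853))) (.node (.node (.leaf 3259986) (.leaf 9614392)) (.node (.leaf 2753155) (.leaf 6035579)))) (.node (.node (.node (.leaf 2497136) (.leaf 1404530)) (.node (.leaf 6410827) (.leaf 1608803))) (.node (.node (.leaf 3148402) (.leaf 2742859)) (.node (.leaf 10958963) (.leaf 10603099))))) (.node (.node (.node (.node (.leaf 11453552) (.leaf 5152848)) (.node (.leaf 6952036) (.leaf 10432107))) (.node (.node (.leaf 2798189) (.leaf 3515504)) (.node (.leaf 9349744) (.leaf 2938461)))) (.node (.node (.node (.leaf 7903840) (.leaf 10596475)) (.node (.leaf 11111032) (.leaf 4621416))) (.node (.node (.leaf 764540) (.leaf 2999920)) (.node (.leaf 925272) (.leaf 2938981)))))) (.node (.node (.node (.node (.node (.leaf 1943157) (.leaf 3565676)) (.node (.leaf 8261219) (.leaf 8992888))) (.node (.node (.leaf 10445941) (.leaf 10350664)) (.node (.leaf 8346245) (.leaf 2682995)))) (.node (.node (.node (.leaf 5565539) (.leaf 1532024))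 (.node (.leaf 6088291) (.leaf 2620035))) (.node (.node (.leaf 3537536) (.leaf 561778)) (.node (.leaf 10231397) (.leaf 10794101))))) (.node (.node (.node (.node (.leaf 7861864) (.leaf 883312)) (.node (.leaf 10230885) (.leaf 1746539))) (.node (.node (.leaf 2627699) (.leaf 2933336)) (.node (.leaf 7891569) (.leaf 7637612)))) (.node (.node (.node (.leaf 619651) (.leaf 3647059)) (.node (.leaf 7583873) (.leaf 6903915))) (.node (.node (.leaf 3922524) (.leaf 3582539)) (.node (.leaf 4642939) (.leaf 11647612)))))))

/-- How a representative arises, part 185. -/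
def tInfoPart185 : Janko1.Tree ℕ := (.node (.node (.node (.node (.node (.node (.leaf 10335866) (.leaf 1765492)) (.node (.leaf 10003065) (.leaf 6896771))) (.node (.node (.leaf 4171348) (.leaf 3766885)) (.node (.leaf 5876868) (.leaf 3225706)))) (.node (.node (.node (.leaf 433284) (.leaf 6944893)) (.node (.leaf 7567985) (.leaf 7565921))) (.node (.node (.leaf 3767917) (.leaf 7899241)) (.node (.leaf 3684476) (.leaf 1645138))))) (.node (.node (.node (.node (.leaf 885357) (.leaf 3359826)) (.node (.leaf 2005100) (.leaf 9982049))) (.node (.node (.leaf 9675364) (.leaf 4159581)) (.node (.leaf 1153125) (.leaf 6934140)))) (.node (.node (.node (.leaf 1152101) (.leaf 10052697)) (.node (.leaf 10045545) (.leaf 5491813))) (.node (.node (.leaf 9938018) (.leaf 1527429)) (.node (.leaf 6515324) (.leaf 7979633)))))) (.node (.node (.node (.node (.node (.leaf 10384500) (.leaf 5011042)) (.node (.leaf 7489673) (.leaf 4991604))) (.node (.node (.leaf 1034346) (.leaf 10043497)) (.node (.leaf 9818225) (.leaf 6708356)))) (.node (.node (.node (.leaf 9825865) (.leaf 9206914))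 (.node (.leaf 10063473) (.leaf 4805740))) (.node (.node (.leaf 8203898) (.leaf 908402)) (.node (.leaf 7479929) (.leaf 1662579))))) (.node (.node (.node (.node (.leaf 2665563) (.leaf 959588)) (.node (.leaf 9133170) (.leaf 6070875))) (.node (.node (.leaf 5217388) (.leaf 2596979)) (.node (.leaf 7534209) (.leaf 4237434)))) (.node (.node (.node (.leaf 6079082) (.leaf 5093492)) (.node (.leaf 6108269) (.leaf 7978596))) (.node (.node (.leaf 1783413) (.leaf 6621268)) (.node (.leaf 9879673) (.leaf 4978293)))))))

/-- How a representative arises, part 186. -/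
def tInfoPart186 : Janko1.Tree ℕ := (.node (.node (.node (.node (.node (.node (.leaf 9871977) (.leaf 1924205)) (.node (.leaf 8246396) (.leaf 8613482))) (.node (.node (.leaf 7552121) (.leaf 7631986)) (.node (.leaf 1528955) (.leaf 7626330)))) (.node (.node (.node (.leaf 7882873) (.leaf 2019434)) (.node (.leaf 7846524) (.leaf 2032234))) (.node (.node (.leaf 6404724) (.leaf 3723866)) (.node (.leaf 7578225) (.leaf 8675954))))) (.node (.node (.node (.node (.leaf 9037948) (.leaf 8682090)) (.node (.leaf 9966713) (.leaf 1534571))) (.node (.node (.leaf 7690866) (.leaf 9935473)) (.node (.leaf 3865706) (.leaf 6810724)))) (.node (.node (.node (.leaf 3849834) (.leaf 9995881)) (.node (.leaf 3663459) (.leaf 3535971))) (.node (.node (.leaf 3237488) (.leaf 4598386)) (.node (.leaf 9252965) (.leaf 9189493)))))) (.node (.node (.node (.node (.node (.leaf 1992812) (.leaf 6577776)) (.node (.leaf 11284096) (.leaf 3675747))) (.node (.node (.leaf 3545179) (.leaf 7528573)) (.node (.leaf 7529029) (.leaf 6909531)))) (.node (.node (.node (.leaf 718979) (.leaf 4703858)) (.node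 (.leaf 825440) (.leaf 11511427))) (.node (.node (.leaf 90220) (.leaf 3410493)) (.node (.leaf 7676011) (.leaf 7066229))))) (.node (.node (.node (.node (.leaf 3230816) (.leaf 6892664)) (.node (.leaf 356965) (.leaf 7389221))) (.node (.node (.leaf 792664) (.leaf 3292781)) (.node (.leaf 1073778) (.leaf 3058301)))) (.node (.node (.node (.leaf 6688876) (.leaf 3205244)) (.node (.leaf 2074229) (.leaf 5929037))) (.node (.node (.leaf 5927541) (.leaf 6023285)) (.node (.leaf 2712148) (.leaf 947316)))))))

/-- How a representative arises, part 187. -/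
def tInfoPart187 : Janko1.Tree ℕ := (.node (.node (.node (.node (.node (.node (.leaf 6105208) (.leaf 10969720)) (.node (.leaf 163904) (.leaf 10993755))) (.node (.node (.leaf 5193853) (.leaf 5194853)) (.node (.leaf 2677301) (.leaf 4974202)))) (.node (.node (.node (.leaf 8250971) (.leaf 8499301)) (.node (.leaf 6348379) (.leaf 1550459))) (.node (.node (.leaf 8381032) (.leaf 10862189)) (.node (.leaf 9480816) (.leaf 5720672))))) (.node (.node (.node (.node (.leaf 10307197) (.leaf 7364192)) (.node (.leaf 10370669) (.leaf 10372213))) (.node (.node (.leaf 6034515) (.leaf 10961520)) (.node (.leaf 1543771) (.leaf 151152)))) (.node (.node (.node (.leaf 2192920) (.leaf 10926205)) (.node (.leaf 4363872) (.leaf 8271981))) (.node (.node (.leaf 1405554) (.leaf 2618979)) (.node (.leaf 11170411) (.leaf 2430557)))))) (.node (.node (.node (.node (.node (.leaf 1348736) (.leaf 8215619)) (.node (.leaf 3264096) (.leaf 6382204))) (.node (.node (.leaf 10433139) (.leaf 1085548)) (.node (.leaf 11561064) (.leaf 10949747)))) (.node (.node (.node (.leaf 8886872) (.leaf 10146424))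 (.node (.leaf 6556781) (.leaf 6557309))) (.node (.node (.leaf 8298595) (.leaf 3319932)) (.node (.leaf 11220088) (.leaf 669296))))) (.node (.node (.node (.node (.leaf 5725813) (.leaf 9229952)) (.node (.leaf 3347040) (.leaf 11068557))) (.node (.node (.leaf 5358704) (.leaf 10514053)) (.node (.leaf 3698282) (.leaf 1739355)))) (.node (.node (.node (.leaf 8879224) (.leaf 8634485)) (.node (.leaf 10722861) (.leaf 6479440))) (.node (.node (.leaf 547946) (.leaf 691816)) (.node (.leaf 3579508) (.leaf 5132900)))))))

/-- How a representative arises, part 188. -/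
def tInfoPart188 : Janko1.Tree ℕ := (.node (.node (.node (.node (.node (.node (.leaf 11209816) (.leaf 1618019)) (.node (.leaf 11284589) (.leaf 11285085))) (.node (.node (.leaf 480339) (.leaf 8757324)) (.node (.leaf 11544170) (.leaf 10962516)))) (.node (.node (.node (.leaf 7542377) (.leaf 5614708)) (.node (.leaf 7084124) (.leaf 3671164))) (.node (.node (.leaf 1962108) (.leaf 11599986)) (.node (.leaf 491115) (.leaf 9589348))))) (.node (.node (.node (.node (.leaf 11611250) (.leaf 3656827)) (.node (.leaf 9932409) (.leaf 2196092))) (.node (.node (.leaf 10004089) (.leaf 7208051)) (.node (.leaf 8589892) (.leaf 7902314)))) (.node (.node (.node (.leaf 1685612) (.leaf 4543581)) (.node (.leaf 2753154) (.leaf 4541053))) (.node (.node (.leaf 9877625) (.leaf 9874529)) (.node (.leaf 8466556) (.leaf 9237634)))))) (.node (.node (.node (.node (.node (.leaf 4872821) (.leaf 9916489)) (.node (.leaf 198237) (.leaf 2875002))) (.node (.node (.leaf 198757) (.leaf 11292786)) (.node (.leaf 9805441) (.leaf 11517036)))) (.node (.node (.node (.leaf 6973050) (.leaf 4782716))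 (.node (.leaf 10309706) (.leaf 3036765))) (.node (.node (.leaf 2057845) (.leaf 2689132)) (.node (.leaf 10296938) (.leaf 7454849))))) (.node (.node (.node (.node (.leaf 7765636) (.leaf 4580970)) (.node (.leaf 2660453) (.leaf 1658989))) (.node (.node (.leaf 11240060) (.leaf 1660541)) (.node (.leaf 7928945) (.leaf 7498865)))) (.node (.node (.node (.leaf 6668884) (.leaf 3182196)) (.node (.leaf 1443956) (.leaf 1051746))) (.node (.node (.leaf 1670787) (.leaf 9817729)) (.node (.leaf 1535083) (.leaf 2672251)))))))

/-- How a representative arises, part 189. -/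
def tInfoPart189 : Janko1.Tree ℕ := (.node (.node (.node (.node (.node (.node (.leaf 8185964) (.leaf 2545259)) (.node (.leaf 9825385) (.leaf 2952812))) (.node (.node (.leaf 3283050) (.leaf 5542459)) (.node (.leaf 10077793) (.leaf 6380659)))) (.node (.node (.node (.leaf 7465057) (.leaf 1663083)) (.node (.leaf 2666107) (.leaf 8137330))) (.node (.node (.leaf 7995001) (.leaf 5547115)) (.node (.leaf 6069851) (.leaf 6863452))))) (.node (.node (.node (.node (.leaf 7874681) (.leaf 5302892)) (.node (.leaf 6078074) (.leaf 5388909))) (.node (.node (.leaf 1570908) (.leaf 7840900)) (.node (.leaf 5481066) (.leaf 9102964)))) (.node (.node (.node (.leaf 11807834) (.leaf 6193778)) (.node (.leaf 6362220) (.leaf 6185586))) (.node (.node (.leaf 9764954) (.leaf 1043572)) (.node (.leaf 11880570) (.leaf 10352244)))))) (.node (.node (.node (.node (.node (.leaf 7885929) (.leaf 5186155)) (.node (.leaf 7892601) (.leaf 6336059))) (.node (.node (.leaf 7912065) (.leaf 1592435)) (.node (.leaf 2019954) (.leaf 9449066)))) (.node (.node (.node (.leaf 5175875) (.leaf 9961585))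 (.node (.leaf 4690540) (.leaf 9968225))) (.node (.node (.leaf 9919089) (.leaf 1732203)) (.node (.leaf 2734195) (.leaf 8250972))))) (.node (.node (.node (.node (.leaf 417900) (.leaf 11361385)) (.node (.leaf 6642808) (.leaf 5233266))) (.node (.node (.leaf 7049844) (.leaf 10290280)) (.node (.leaf 3586179) (.leaf 9489513)))) (.node (.node (.node (.leaf 3026528) (.leaf 9480817)) (.node (.leaf 3638899) (.leaf 4714611))) (.node (.node (.leaf 3121776) (.leaf 7209075)) (.node (.leaf 3414648) (.leaf 3784301)))))))

/-- How a representative arises, part 190. -/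
def tInfoPart190 : Janko1.Tree ℕ := (.node (.node (.node (.node (.node (.node (.leaf 11347049) (.leaf 1220226)) (.node (.leaf 8133240) (.leaf 9303120))) (.node (.node (.leaf 4450413) (.leaf 11375200)) (.node (.leaf 690794) (.leaf 3053176)))) (.node (.node (.node (.leaf 3964028) (.leaf 9470065)) (.node (.leaf 9462881) (.leaf 7930984))) (.node (.node (.leaf 9089128) (.leaf 6381144)) (.node (.leaf 9288825) (.leaf 1118832))))) (.node (.node (.node (.node (.leaf 9287281) (.leaf 7215728)) (.node (.leaf 9389153) (.leaf 4060280))) (.node (.node (.leaf 6434413) (.leaf 9365601)) (.node (.leaf 8498800) (.leaf 2175085)))) (.node (.node (.node (.leaf 1541253) (.leaf 11424825)) (.node (.leaf 946292) (.leaf 11419769))) (.node (.node (.leaf 11412585) (.leaf 11788401)) (.node (.leaf 3141772) (.leaf 11780209)))))) (.node (.node (.node (.node (.node (.leaf 4124280) (.leaf 3457148)) (.node (.leaf 6334539) (.leaf 5238379))) (.node (.node (.leaf 11682912) (.leaf 1275498)) (.node (.leaf 2975852) (.leaf 9708144)))) (.node (.node (.node (.leaf 1539699) (.leaf 632426))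 (.node (.leaf 2544227) (.leaf 1128548))) (.node (.node (.leaf 4977284) (.leaf 1144954)) (.node (.leaf 4395642) (.leaf 6833248))))) (.node (.node (.node (.node (.leaf 8244840) (.leaf 11873385)) (.node (.leaf 2999416) (.leaf 9998456))) (.node (.node (.leaf 6316136) (.leaf 9460857)) (.node (.leaf 2911853) (.leaf 8993904)))) (.node (.node (.node (.leaf 2902632) (.leaf 11076216)) (.node (.leaf 9291369) (.leaf 2912901))) (.node (.node (.leaf 9284209) (.leaf 5080700)) (.node (.leaf 1673843) (.leaf 2671211)))))))

/-- How a representative arises, part 191. -/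
def tInfoPart191 : Janko1.Tree ℕ := (.node (.node (.node (.node (.node (.node (.leaf 3538560) (.leaf 3095156)) (.node (.leaf 6379115) (.leaf 9487473))) (.node (.node (.leaf 5187651) (.leaf 4614264)) (.node (.leaf 11100264) (.leaf 263274)))) (.node (.node (.node (.leaf 2934376) (.leaf 3580532)) (.node (.leaf 4089466) (.leaf 1595483))) (.node (.node (.leaf 9303121) (.leaf 884328)) (.node (.leaf 9309289) (.leaf 4665963))))) (.node (.node (.node (.node (.leaf 5890156) (.leaf 11562117)) (.node (.leaf 9885245) (.leaf 4411499))) (.node (.node (.leaf 5615740) (.leaf 7800445)) (.node (.leaf 7222379) (.leaf 11563117)))) (.node (.node (.node (.leaf 10529404) (.leaf 7137916)) (.node (.leaf 5379194) (.leaf 11476594))) (.node (.node (.leaf 6401618) (.leaf 4363388)) (.node (.leaf 711787) (.leaf 7460460)))))) (.node (.node (.node (.node (.node (.leaf 7864429) (.leaf 133204)) (.node (.leaf 9823323) (.leaf 9349235))) (.node (.node (.leaf 1242682) (.leaf 7642228)) (.node (.leaf 781933) (.leaf 3003506)))) (.node (.node (.node (.leaf 737394) (.leaf 4468837)) (.node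 (.leaf 6975597) (.leaf 3596922))) (.node (.node (.leaf 5483132) (.leaf 9343075)) (.node (.leaf 10693220) (.leaf 3915373))))) (.node (.node (.node (.node (.leaf 7743619) (.leaf 3119218)) (.node (.leaf 6028916) (.leaf 856682))) (.node (.node (.leaf 3916397) (.leaf 8554108)) (.node (.leaf 10400883) (.leaf 11518052)))) (.node (.node (.node (.leaf 10643555) (.leaf 1164389)) (.node (.leaf 2191469) (.leaf 10098802))) (.node (.node (.leaf 6307460) (.leaf 11096690)) (.node (.leaf 6353509) (.leaf 6656610)))))))

/-- How a representative arises, part 192. -/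
def tInfoPart192 : Janko1.Tree ℕ := (.node (.node (.node (.node (.node (.node (.leaf 5195380) (.leaf 10371690)) (.node (.leaf 11360378) (.leaf 5219946))) (.node (.node (.leaf 3046522) (.leaf 1232492)) (.node (.leaf 2674259) (.leaf 3544698)))) (.node (.node (.node (.leaf 6451324) (.leaf 11098748)) (.node (.leaf 9344626) (.leaf 8004205))) (.node (.node (.leaf 6019699) (.leaf 8991354)) (.node (.leaf 10133116) (.leaf 2686075))))) (.node (.node (.node (.node (.leaf 8006762) (.leaf 3422842)) (.node (.leaf 8212581) (.leaf 11149925))) (.node (.node (.leaf 2622035) (.leaf 5303412)) (.node (.leaf 9840218) (.leaf 5311613)))) (.node (.node (.node (.leaf 8856187) (.leaf 8232539)) (.node (.leaf 6136949) (.leaf 10430563))) (.node (.node (.leaf 8341075) (.leaf 11309172)) (.node (.leaf 4991605) (.leaf 5821053)))))) (.node (.node (.node (.node (.node (.leaf 10906738) (.leaf 10760282)) (.node (.leaf 11197531) (.leaf 7225970))) (.node (.node (.leaf 8813171) (.leaf 8332411)) (.node (.leaf 11582572) (.leaf 7489122)))) (.node (.node (.node (.leaf 3554924) (.leaf 2505834))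 (.node (.leaf 164978) (.leaf 2557011))) (.node (.node (.leaf 10452597) (.leaf 8905789)) (.node (.leaf 2744955) (.leaf 7559274))))) (.node (.node (.node (.node (.leaf 3071076) (.leaf 6348931)) (.node (.leaf 6554732) (.leaf 2550891))) (.node (.node (.leaf 10787949) (.leaf 5572227)) (.node (.leaf 6080627) (.leaf 5167732)))) (.node (.node (.node (.leaf 9645666) (.leaf 10487420)) (.node (.leaf 4649067) (.leaf 11489400))) (.node (.node (.leaf 6884472) (.leaf 3187816)) (.node (.leaf 8041040) (.leaf 11898481)))))))

/-- How a representative arises, part 193. -/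
def tInfoPart193 : Janko1.Tree ℕ := (.node (.node (.node (.node (.node (.node (.leaf 11406457) (.leaf 5259400)) (.node (.leaf 11396201) (.leaf 11887225))) (.node (.node (.leaf 6847083) (.leaf 7160411)) (.node (.leaf 1730172) (.leaf 7835256)))) (.node (.node (.node (.leaf 6596168) (.leaf 9514105)) (.node (.leaf 9305185) (.leaf 2841712))) (.node (.node (.leaf 1208442) (.leaf 11481200)) (.node (.leaf 3178600) (.leaf 7061117))))) (.node (.node (.node (.node (.leaf 6893664) (.leaf 704122)) (.node (.leaf 11379817) (.leaf 10424944))) (.node (.node (.leaf 1905220) (.leaf 3645036)) (.node (.leaf 7364741) (.leaf 195637)))) (.node (.node (.node (.leaf 3272317) (.leaf 849992)) (.node (.leaf 823922) (.leaf 4933240))) (.node (.node (.leaf 11863648) (.leaf 9398865)) (.node (.leaf 1219700) (.leaf 9395817)))))) (.node (.node (.node (.node (.node (.leaf 9521760) (.leaf 9388673)) (.node (.leaf 8353880) (.leaf 1840752))) (.node (.node (.leaf 5906037) (.leaf 7373416)) (.node (.leaf 10741864) (.leaf 3034181)))) (.node (.node (.node (.leaf 3764328) (.leaf 4764794))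 (.node (.leaf 11425897) (.leaf 10970752))) (.node (.node (.leaf 11412097) (.leaf 1677941)) (.node (.leaf 6018157) (.leaf 6016085))))) (.node (.node (.node (.node (.leaf 1856120) (.leaf 757858)) (.node (.leaf 3853424) (.leaf 1830504))) (.node (.node (.leaf 5551211) (.leaf 7365240)) (.node (.leaf 1596539) (.leaf 2594915)))) (.node (.node (.node (.leaf 11769961) (.leaf 619098)) (.node (.leaf 6094456) (.leaf 10961000))) (.node (.node (.leaf 11761785) (.leaf 11427409)) (.node (.leaf 7450128) (.leaf 4364888)))))))

/-- How a representative arises, part 194. -/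
def tInfoPart194 : Janko1.Tree ℕ := (.node (.node (.node (.node (.node (.node (.leaf 2730099) (.leaf 3158644)) (.node (.leaf 10501728) (.leaf 5368440))) (.node (.node (.leaf 6234237) (.leaf 11561600)) (.node (.leaf 6998624) (.leaf 11375201)))) (.node (.node (.node (.leaf 3297872) (.leaf 6535277)) (.node (.leaf 1282149) (.leaf 6532716))) (.node (.node (.leaf 2714752) (.leaf 5763698)) (.node (.leaf 634968) (.leaf 3566716))))) (.node (.node (.node (.node (.leaf 9283177) (.leaf 8095336)) (.node (.leaf 6005835) (.leaf 120946))) (.node (.node (.leaf 10489976) (.leaf 2543739)) (.node (.leaf 1282672) (.leaf 1722970)))) (.node (.node (.node (.leaf 11410049) (.leaf 11552360)) (.node (.leaf 3953754) (.leaf 11398745))) (.node (.node (.leaf 276066) (.leaf 1664115)) (.node (.leaf 10137208) (.leaf 9312337)))))) (.node (.node (.node (.node (.node (.leaf 4088418) (.leaf 9302121)) (.node (.leaf 9519209) (.leaf 5266018))) (.node (.node (.leaf 8623724) (.leaf 6705266)) (.node (.leaf 4218492) (.leaf 4860994)))) (.node (.node (.node (.leaf 4722819) (.leaf 11612788))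 (.node (.leaf 11623005) (.leaf 577635))) (.node (.node (.leaf 5378178) (.leaf 7178315)) (.node (.leaf 7522413) (.leaf 5460052))))) (.node (.node (.node (.node (.leaf 11816061) (.leaf 4732531)) (.node (.leaf 10781820) (.leaf 9311354))) (.node (.node (.leaf 9822859) (.leaf 3421813)) (.node (.leaf 10993756) (.leaf 7074413)))) (.node (.node (.node (.leaf 7684691) (.leaf 9025666)) (.node (.leaf 8288868) (.leaf 3003002))) (.node (.node (.leaf 5639276) (.leaf 7381629)) (.node (.leaf 11807356) (.leaf 11543667)))))))

/-- How a representative arises, part 195. -/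
def tInfoPart195 : Janko1.Tree ℕ := (.node (.node (.node (.node (.node (.node (.leaf 7465580) (.leaf 3118698)) (.node (.leaf 215149) (.leaf 9374307))) (.node (.node (.leaf 214149) (.leaf 10607227)) (.node (.leaf 8183420) (.leaf 10171506)))) (.node (.node (.node (.leaf 6933620) (.leaf 6350450)) (.node (.leaf 5041716) (.leaf 5090893))) (.node (.node (.leaf 11439722) (.leaf 2067589)) (.node (.leaf 664188) (.leaf 6753922))))) (.node (.node (.node (.node (.leaf 8303715) (.leaf 10978379)) (.node (.leaf 11190907) (.leaf 10370666))) (.node (.node (.leaf 1185908) (.leaf 6653042)) (.node (.leaf 3416148) (.leaf 6027851)))) (.node (.node (.node (.leaf 6349419) (.leaf 2676859)) (.node (.leaf 8491637) (.leaf 3247740))) (.node (.node (.leaf 5259891) (.leaf 10856557)) (.node (.leaf 6244980) (.leaf 4806756)))))) (.node (.node (.node (.node (.node (.leaf 6020219) (.leaf 9982052)) (.node (.leaf 6339707) (.leaf 8281725))) (.node (.node (.leaf 2556515) (.leaf 8846437)) (.node (.leaf 8844405) (.leaf 8014444)))) (.node (.node (.node (.leaf 3422322) (.leaf 8010818))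 (.node (.leaf 5218412) (.leaf 1433181))) (.node (.node (.leaf 10459252) (.leaf 1435733)) (.node (.leaf 11414644) (.leaf 10632835))))) (.node (.node (.node (.node (.leaf 5719149) (.leaf 10175076)) (.node (.leaf 5718117) (.leaf 1298509))) (.node (.node (.leaf 5974642) (.leaf 9245804)) (.node (.leaf 8329843) (.leaf 7230594)))) (.node (.node (.node (.leaf 5144700) (.leaf 8748138)) (.node (.leaf 147578) (.leaf 2505338))) (.node (.node (.leaf 7493226) (.leaf 6073451)) (.node (.leaf 8143981) (.leaf 2745971)))))))

/-- How a representative arises, part 196. -/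
def tInfoPart196 : Janko1.Tree ℕ := (.node (.node (.node (.node (.node (.node (.leaf 10523757) (.leaf 10525805)) (.node (.leaf 8817786) (.leaf 11277933))) (.node (.node (.leaf 1686099) (.leaf 8628813)) (.node (.leaf 10715773) (.leaf 10714725)))) (.node (.node (.node (.leaf 8066157) (.leaf 8386690)) (.node (.leaf 7799925) (.leaf 6666872))) (.node (.node (.leaf 928882) (.leaf 8171632)) (.node (.leaf 11379816) (.leaf 4661304))))) (.node (.node (.node (.node (.leaf 1988196) (.leaf 1035360)) (.node (.leaf 9530493) (.leaf 6360168))) (.node (.node (.leaf 10069600) (.leaf 4415579)) (.node (.leaf 7232635) (.leaf 7972960)))) (.node (.node (.node (.leaf 709755) (.leaf 11177560)) (.node (.leaf 9529469) (.leaf 94324))) (.node (.node (.leaf 9821803) (.leaf 1413232)) (.node (.leaf 5043784) (.leaf 780413)))))) (.node (.node (.node (.node (.node (.leaf 6974061) (.leaf 9069168)) (.node (.leaf 7742059) (.leaf 4728448))) (.node (.node (.leaf 4155516) (.leaf 9449563)) (.node (.leaf 6580314) (.leaf 5612109)))) (.node (.node (.node (.leaf 8852587) (.leaf 1161813))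 (.node (.leaf 9618544) (.leaf 11687520))) (.node (.node (.leaf 6275676) (.leaf 942204)) (.node (.leaf 1390194) (.leaf 6350965))))) (.node (.node (.node (.node (.leaf 10646653) (.leaf 4077160)) (.node (.leaf 11208813) (.leaf 8531040))) (.node (.node (.leaf 10647165) (.leaf 11208309)) (.node (.leaf 4548212) (.leaf 1606763)))) (.node (.node (.node (.leaf 6959218) (.leaf 7195264)) (.node (.leaf 9723472) (.leaf 8756328))) (.node (.node (.leaf 10589805) (.leaf 2564195)) (.node (.leaf 10829920) (.leaf 4174944)))))))

/-- How a representative arises, part 197. -/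
def tInfoPart197 : Janko1.Tree ℕ := (.node (.node (.node (.node (.node (.node (.leaf 8209029) (.leaf 8773253)) (.node (.leaf 6079083) (.leaf 1617003))) (.node (.node (.leaf 5844600) (.leaf 6839922)) (.node (.leaf 400986) (.leaf 1814645)))) (.node (.node (.node (.leaf 8793707) (.leaf 6780016)) (.node (.leaf 1816677) (.leaf 6134909))) (.node (.node (.leaf 536690) (.leaf 938600)) (.node (.leaf 1934965) (.leaf 6790772))))) (.node (.node (.node (.node (.leaf 10635851) (.leaf 2929264)) (.node (.leaf 3836530) (.leaf 8885883))) (.node (.node (.leaf 3603064) (.leaf 6026851)) (.node (.leaf 1635944) (.leaf 11005061)))) (.node (.node (.node (.leaf 6059146) (.leaf 809084)) (.node (.leaf 6400635) (.leaf 9353832))) (.node (.node (.leaf 8215088) (.leaf 5513843)) (.node (.leaf 2994800) (.leaf 4647020)))))) (.node (.node (.node (.node (.node (.leaf 6312048) (.leaf 6164594)) (.node (.leaf 1330292) (.leaf 5253739))) (.node (.node (.leaf 6408811) (.leaf 2620507)) (.node (.leaf 4415580) (.leaf 10187377)))) (.node (.node (.node (.leaf 2252388) (.leaf 10180185)) (.node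 (.leaf 10974852) (.leaf 9720425))) (.node (.node (.leaf 7208571) (.leaf 3593843)) (.node (.leaf 1619578) (.leaf 7614025))))) (.node (.node (.node (.node (.leaf 7617641) (.leaf 8307836)) (.node (.leaf 8268386) (.leaf 3647611))) (.node (.node (.leaf 7856761) (.leaf 7216723)) (.node (.leaf 2881634) (.leaf 7848561)))) (.node (.node (.node (.leaf 11523186) (.leaf 10835036)) (.node (.leaf 4611690) (.leaf 4624978))) (.node (.node (.leaf 763509) (.leaf 10001514)) (.node (.leaf 9699961) (.leaf 9697401)))))))

/-- How a representative arises, part 198. -/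
def tInfoPart198 : Janko1.Tree ℕ := (.node (.node (.node (.node (.node (.node (.leaf 11592306) (.leaf 4148333)) (.node (.leaf 7043170) (.leaf 7593073))) (.node (.node (.leaf 7590521) (.leaf 56444)) (.node (.leaf 4149365) (.leaf 9799788)))) (.node (.node (.node (.leaf 877669) (.leaf 1024610)) (.node (.leaf 5591149) (.leaf 3232892))) (.node (.node (.leaf 7946346) (.leaf 8033356)) (.node (.leaf 7961218) (.leaf 11532924))))) (.node (.node (.node (.node (.leaf 7703657) (.leaf 917116)) (.node (.leaf 7695969) (.leaf 2168437))) (.node (.node (.leaf 3309178) (.leaf 9968228)) (.node (.leaf 9743473) (.leaf 7753812)))) (.node (.node (.node (.leaf 9726577) (.leaf 9122930)) (.node (.leaf 1440860) (.leaf 9266796))) (.node (.node (.leaf 10119273) (.leaf 3499108)) (.node (.leaf 6576706) (.leaf 1661019)))))) (.node (.node (.node (.node (.node (.leaf 6565482) (.leaf 648316)) (.node (.leaf 9753161) (.leaf 3014252))) (.node (.node (.leaf 11217514) (.leaf 4630644)) (.node (.leaf 4989554) (.leaf 5541467)))) (.node (.node (.node (.leaf 10156129) (.leaf 1601155)) (.node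 (.leaf 9677937) (.leaf 1566300))) (.node (.node (.leaf 9341548) (.leaf 2273906)) (.node (.leaf 9658993) (.leaf 10203729))))) (.node (.node (.node (.node (.leaf 2004578) (.leaf 10199153)) (.node (.leaf 6118517) (.leaf 8481362))) (.node (.node (.leaf 7804009) (.leaf 1038452)) (.node (.leaf 7792729) (.leaf 9053300)))) (.node (.node (.node (.leaf 2136690) (.leaf 2127978)) (.node (.leaf 7628393) (.leaf 8096868))) (.node (.node (.leaf 1914997) (.leaf 5495403)) (.node (.leaf 9693809) (.leaf 10212457)))))))

/-- How a representative arises, part 199. -/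
def tInfoPart199 : Janko1.Tree ℕ := (.node (.node (.node (.node (.node (.node (.leaf 11788402) (.leaf 4743796)) (.node (.leaf 1731707) (.leaf 7342202))) (.node (.node (.leaf 4315250) (.leaf 6550644)) (.node (.leaf 9790586) (.leaf 1529411)))) (.node (.node (.node (.leaf 5162604) (.leaf 2723955)) (.node (.leaf 8005744) (.leaf 7171179))) (.node (.node (.leaf 9945725) (.leaf 9947749)) (.node (.leaf 10391144) (.leaf 4408451))))) (.node (.node (.node (.node (.leaf 2726514) (.leaf 9260149)) (.node (.leaf 1666652) (.leaf 7265396))) (.node (.node (.leaf 11622525) (.leaf 11281000)) (.node (.leaf 788592) (.leaf 7520357)))) (.node (.node (.node (.leaf 2796664) (.leaf 4418155)) (.node (.leaf 6583904) (.leaf 816760))) (.node (.node (.leaf 1057890) (.leaf 9180789)) (.node (.leaf 6879856) (.leaf 1187448)))))) (.node (.node (.node (.node (.node (.leaf 9141856) (.leaf 10398848)) (.node (.leaf 6899264) (.leaf 364669))) (.node (.node (.leaf 5596780) (.leaf 3649636)) (.node (.leaf 11288680) (.leaf 9832059)))) (.node (.node (.node (.leaf 10038923) (.leaf 3285101))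 (.node (.leaf 4888152) (.leaf 11545699))) (.node (.node (.leaf 6579298) (.leaf 4881005)) (.node (.leaf 211581) (.leaf 2177116))))) (.node (.node (.node (.node (.leaf 10957947) (.leaf 8385608)) (.node (.leaf 9516664) (.leaf 3848288))) (.node (.node (.leaf 5770320) (.leaf 10431603)) (.node (.leaf 1785448) (.leaf 3047541)))) (.node (.node (.node (.leaf 1518706) (.leaf 2247264)) (.node (.leaf 9859688) (.leaf 5199957))) (.node (.node (.leaf 6005832) (.leaf 10424419)) (.node (.leaf 26736) (.leaf 6031941)))))))

/-- How a representative arises, part 200. -/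
def tInfoPart200 : Janko1.Tree ℕ := (.node (.node (.node (.node (.node (.node (.leaf 6030437) (.leaf 10854517)) (.node (.leaf 3858528) (.leaf 5779064))) (.node (.node (.leaf 9039973) (.leaf 6087803)) (.node (.leaf 6959714) (.leaf 8488565)))) (.node (.node (.node (.leaf 8489101) (.leaf 6097528)) (.node (.leaf 155720) (.leaf 7496816))) (.node (.node (.leaf 4414584) (.leaf 36472)) (.node (.leaf 6399603) (.leaf 10380365))))) (.node (.node (.node (.node (.leaf 2239618) (.leaf 2441333)) (.node (.leaf 10384499) (.leaf 1337448))) (.node (.node (.leaf 394850) (.leaf 6956148)) (.node (.leaf 400506) (.leaf 8068192)))) (.node (.node (.node (.leaf 3286112) (.leaf 5415029)) (.node (.leaf 2361458) (.leaf 6475880))) (.node (.node (.leaf 10604155) (.leaf 2313837)) (.node (.leaf 11214960) (.leaf 2679416)))))) (.node (.node (.node (.node (.node (.leaf 7009392) (.leaf 1520236)) (.node (.leaf 3276908) (.leaf 5242483))) (.node (.node (.leaf 3292776) (.leaf 5308024)) (.node (.leaf 10474080) (.leaf 6162522)))) (.node (.node (.node (.leaf 6036051) (.leaf 6357627)) (.node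 (.leaf 4870724) (.leaf 989308))) (.node (.node (.leaf 2554987) (.leaf 6469688)) (.node (.leaf 5566603) (.leaf 7738984))))) (.node (.node (.node (.node (.leaf 1738347) (.leaf 8627813)) (.node (.leaf 4343387) (.leaf 9870468))) (.node (.node (.leaf 3244114) (.leaf 10188393)) (.node (.leaf 7156843) (.leaf 9144962)))) (.node (.node (.node (.leaf 10177097) (.leaf 6100596)) (.node (.leaf 10179681) (.leaf 3531355))) (.node (.node (.leaf 10707580) (.leaf 4652667)) (.node (.leaf 7615577) (.leaf 8254026)))))))

/-- How a representative arises, part 201. -/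
def tInfoPart201 : Janko1.Tree ℕ := (.node (.node (.node (.node (.node (.node (.leaf 8449652) (.leaf 618099)) (.node (.leaf 1760892) (.leaf 479819))) (.node (.node (.leaf 3645547) (.leaf 10286202)) (.node (.leaf 8737908) (.leaf 6926970)))) (.node (.node (.node (.leaf 9696356) (.leaf 7052925)) (.node (.leaf 4426356) (.leaf 9662057))) (.node (.node (.leaf 4548725) (.leaf 10160249)) (.node (.leaf 7358077) (.leaf 7800913))))) (.node (.node (.node (.node (.leaf 7357037) (.leaf 7797865)) (.node (.leaf 11795572) (.leaf 7592513))) (.node (.node (.leaf 5142138) (.leaf 2010740)) (.node (.leaf 11589226) (.leaf 3750524)))) (.node (.node (.node (.leaf 2825850) (.leaf 10440316)) (.node (.leaf 5900925) (.leaf 8169564))) (.node (.node (.leaf 7662201) (.leaf 3029613)) (.node (.leaf 1021042) (.leaf 8908906)))))) (.node (.node (.node (.node (.node (.leaf 7655537) (.leaf 1024122)) (.node (.leaf 5046388) (.leaf 9744497))) (.node (.node (.leaf 10092161) (.leaf 7894140)) (.node (.leaf 10089065) (.leaf 9735281)))) (.node (.node (.node (.leaf 2991220) (.leaf 8846434))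 (.node (.leaf 6519932) (.leaf 9301620))) (.node (.node (.leaf 1529971) (.leaf 2538091)) (.node (.leaf 3251828) (.leaf 9956466))))) (.node (.node (.node (.node (.leaf 9013852) (.leaf 9754193)) (.node (.leaf 7782492) (.leaf 10116209))) (.node (.node (.leaf 6471802) (.leaf 11258500)) (.node (.leaf 1671275) (.leaf 1535619)))) (.node (.node (.node (.leaf 3751034) (.leaf 2421341)) (.node (.leaf 2422917) (.leaf 7965292))) (.node (.node (.leaf 6225029) (.leaf 2005618)) (.node (.leaf 3110524) (.leaf 9695345)))))))

/-- How a representative arises, part 202. -/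
def tInfoPart202 : Janko1.Tree ℕ := (.node (.node (.node (.node (.node (.node (.leaf 5397597) (.leaf 10505828)) (.node (.leaf 11459188) (.leaf 9230452))) (.node (.node (.leaf 8541258) (.leaf 9500282)) (.node (.leaf 2129538) (.leaf 3598444)))) (.node (.node (.node (.leaf 1274485) (.leaf 7353466)) (.node (.leaf 4950132) (.leaf 11783282))) (.node (.node (.leaf 7418962) (.leaf 7640161)) (.node (.leaf 2595947) (.leaf 7646329))))) (.node (.node (.node (.node (.leaf 4404803) (.leaf 6898283)) (.node (.leaf 3576947) (.leaf 7314028))) (.node (.node (.leaf 9588345) (.leaf 4357203)) (.node (.leaf 7864904) (.leaf 489051)))) (.node (.node (.node (.leaf 8985696) (.leaf 3518075)) (.node (.leaf 9236097) (.leaf 6822000))) (.node (.node (.leaf 4397675) (.leaf 6067324)) (.node (.leaf 8204384) (.leaf 745058)))))) (.node (.node (.node (.node (.node (.leaf 6278776) (.leaf 6644850)) (.node (.leaf 5651564) (.leaf 2997344))) (.node (.node (.leaf 9181825) (.leaf 6230650)) (.node (.leaf 918640) (.leaf 2936936)))) (.node (.node (.node (.leaf 3837037) (.leaf 9216625)) (.node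 (.leaf 3976325) (.leaf 4213365))) (.node (.node (.leaf 11616361) (.leaf 6695533)) (.node (.leaf 11422832) (.leaf 6740576))))) (.node (.node (.node (.node (.leaf 1569384) (.leaf 3541064)) (.node (.leaf 10329704) (.leaf 1223301))) (.node (.node (.leaf 481888) (.leaf 7659640)) (.node (.leaf 5661293) (.leaf 4266616)))) (.node (.node (.node (.leaf 3588706) (.leaf 7695968)) (.node (.leaf 5661829) (.leaf 11716209))) (.node (.node (.leaf 6491261) (.leaf 9604721)) (.node (.leaf 674930) (.leaf 9549432)))))))

/-- How a representative arises, part 203. -/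
def tInfoPart203 : Janko1.Tree ℕ := (.node (.node (.node (.node (.node (.node (.leaf 5404272) (.leaf 9637489)) (.node (.leaf 1984104) (.leaf 9152113))) (.node (.node (.leaf 5455976) (.leaf 6439028)) (.node (.leaf 525920) (.leaf 4818052)))) (.node (.node (.node (.leaf 5496395) (.leaf 6323291)) (.node (.leaf 11547241) (.leaf 11733609))) (.node (.node (.leaf 1674867) (.leaf 9797240)) (.node (.leaf 1391740) (.leaf 5552243))))) (.node (.node (.node (.node (.leaf 6387827) (.leaf 1459316)) (.node (.leaf 6334075) (.leaf 9654881))) (.node (.node (.leaf 1665131) (.leaf 2662011)) (.node (.leaf 5341805) (.leaf 1031272)))) (.node (.node (.node (.leaf 3043944) (.leaf 9184889)) (.node (.leaf 14450) (.leaf 10030192))) (.node (.node (.leaf 5342341) (.leaf 1112176)) (.node (.leaf 3107968) (.leaf 1342596)))))) (.node (.node (.node (.node (.node (.leaf 2851949) (.leaf 6627400)) (.node (.leaf 11347048) (.leaf 2985597))) (.node (.node (.leaf 182882) (.leaf 1500264)) (.node (.leaf 5033589) (.leaf 5237331)))) (.node (.node (.node (.leaf 1595003) (.leaf 5188187)) (.node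 (.leaf 9592425) (.leaf 1530979))) (.node (.node (.leaf 3082328) (.leaf 3338348)) (.node (.leaf 11575913) (.leaf 11581553))))) (.node (.node (.node (.node (.leaf 6060627) (.leaf 11628649)) (.node (.leaf 5180035) (.leaf 8182888))) (.node (.node (.leaf 1537643) (.leaf 11662969)) (.node (.leaf 2855548) (.leaf 11670097)))) (.node (.node (.node (.leaf 11659380) (.leaf 9906821)) (.node (.leaf 9444980) (.leaf 9251914))) (.node (.node (.leaf 1761876) (.leaf 1169026)) (.node (.leaf 6867051) (.leaf 70236)))))))

/-- How a representative arises, part 204. -/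
def tInfoPart204 : Janko1.Tree ℕ := (.node (.node (.node (.node (.node (.node (.leaf 7829093) (.leaf 4173956)) (.node (.leaf 3550834) (.leaf 8608892))) (.node (.node (.leaf 720507) (.leaf 3605107)) (.node (.leaf 7823466) (.leaf 9039970)))) (.node (.node (.node (.leaf 11386981) (.leaf 5415556)) (.node (.leaf 11741307) (.leaf 9867899))) (.node (.node (.leaf 9447539) (.leaf 3749996)) (.node (.leaf 4509309) (.leaf 9833579))))) (.node (.node (.node (.node (.leaf 965205) (.leaf 9860195)) (.node (.leaf 5873284) (.leaf 11416186))) (.node (.node (.leaf 7716411) (.leaf 3991653)) (.node (.leaf 10512996) (.leaf 4226637)))) (.node (.node (.node (.leaf 11144826) (.leaf 3131482)) (.node (.leaf 8878708) (.leaf 8888891))) (.node (.node (.leaf 8268387) (.leaf 1238661)) (.node (.leaf 10391147) (.leaf 5559429)))))) (.node (.node (.node (.node (.node (.leaf 10439803) (.leaf 9001082)) (.node (.leaf 1250420) (.leaf 717946))) (.node (.node (.leaf 11165803) (.leaf 3491442)) (.node (.leaf 9283698) (.leaf 4568692)))) (.node (.node (.node (.leaf 5561451) (.leaf 4940930))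 (.node (.leaf 11176546) (.leaf 10693221))) (.node (.node (.leaf 10503290) (.leaf 11254917)) (.node (.leaf 6650492) (.leaf 11450474))))) (.node (.node (.node (.node (.leaf 10149498) (.leaf 10261628)) (.node (.leaf 8799333) (.leaf 3250300))) (.node (.node (.leaf 11175005) (.leaf 10433138)) (.node (.leaf 10614893) (.leaf 6241916)))) (.node (.node (.node (.leaf 2549347) (.leaf 2704492)) (.node (.leaf 10188396) (.leaf 6186613))) (.node (.node (.leaf 50306) (.leaf 8331891)) (.node (.leaf 8289898) (.leaf 8236140)))))))

/-- How a representative arises, part 205. -/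
def tInfoPart205 : Janko1.Tree ℕ := (.node (.node (.node (.node (.node (.node (.leaf 1875053) (.leaf 8778883)) (.node (.leaf 7039612) (.leaf 2014845))) (.node (.node (.leaf 10978939) (.leaf 7539842)) (.node (.leaf 8340579) (.leaf 10600563)))) (.node (.node (.node (.leaf 2999925) (.leaf 11034213)) (.node (.leaf 5260899) (.leaf 10671722))) (.node (.node (.leaf 9370748) (.leaf 11621490)) (.node (.leaf 5377660) (.leaf 2675843))))) (.node (.node (.node (.node (.leaf 5253243) (.leaf 6393979)) (.node (.leaf 11568740) (.leaf 10274917))) (.node (.node (.leaf 10736210) (.leaf 6340715)) (.node (.leaf 4951652) (.leaf 1103452)))) (.node (.node (.node (.leaf 7107676) (.leaf 6899267)) (.node (.leaf 725096) (.leaf 7759472))) (.node (.node (.leaf 3400818) (.leaf 4357755)) (.node (.leaf 2675320) (.leaf 8852072)))))) (.node (.node (.node (.node (.node (.leaf 9578609) (.leaf 7727168)) (.node (.leaf 4395131) (.leaf 1375344))) (.node (.node (.leaf 4348531) (.leaf 4648555)) (.node (.leaf 6837371) (.leaf 11599465)))) (.node (.node (.node (.leaf 8066672) (.leaf 6946408))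 (.node (.leaf 4598389) (.leaf 7767640))) (.node (.node (.leaf 9529985) (.leaf 6485592)) (.node (.leaf 2422404) (.leaf 14940))))) (.node (.node (.node (.node (.leaf 7106165) (.leaf 7105101)) (.node (.leaf 9561689) (.leaf 2486908))) (.node (.node (.leaf 278653) (.leaf 3354232)) (.node (.leaf 1382504) (.leaf 6730314)))) (.node (.node (.node (.leaf 279149) (.leaf 9211000)) (.node (.leaf 3291248) (.leaf 11583593))) (.node (.node (.leaf 808554) (.leaf 5966965)) (.node (.leaf 8677992) (.leaf 300648)))))))

/-- How a representative arises, part 206. -/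
def tInfoPart206 : Janko1.Tree ℕ := (.node (.node (.node (.node (.node (.node (.leaf 7561328) (.leaf 6165600)) (.node (.leaf 5967477) (.leaf 9123409))) (.node (.node (.leaf 3658360) (.leaf 1695304)) (.node (.leaf 1728125) (.leaf 2724989)))) (.node (.node (.node (.leaf 3724392) (.leaf 9630313)) (.node (.leaf 1728621) (.leaf 2725493))) (.node (.node (.leaf 2727029) (.leaf 11505769)) (.node (.leaf 7532624) (.leaf 6118512))))) (.node (.node (.node (.node (.leaf 11740777) (.leaf 6781530)) (.node (.leaf 2542195) (.leaf 9620577))) (.node (.node (.leaf 9141857) (.leaf 6270066)) (.node (.leaf 7264328) (.leaf 9169001)))) (.node (.node (.node (.leaf 9175665) (.leaf 9657465)) (.node (.leaf 1665651) (.leaf 2662531))) (.node (.node (.leaf 10179168) (.leaf 6275189)) (.node (.leaf 6273117) (.leaf 754296)))))) (.node (.node (.node (.node (.node (.leaf 9527913) (.leaf 11277928)) (.node (.leaf 10211440) (.leaf 1595004))) (.node (.node (.leaf 817776) (.leaf 3902074)) (.node (.leaf 9215609) (.leaf 1351285)))) (.node (.node (.node (.leaf 1352309) (.leaf 2367101))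 (.node (.leaf 6872664) (.leaf 5246568))) (.node (.node (.leaf 2367605) (.leaf 11647065)) (.node (.leaf 4646500) (.leaf 9550457))))) (.node (.node (.node (.node (.leaf 6333555) (.leaf 9577073)) (.node (.leaf 9583729) (.leaf 10396768))) (.node (.node (.leaf 3142768) (.leaf 5257848)) (.node (.leaf 4707428) (.leaf 3204696)))) (.node (.node (.node (.leaf 11662417) (.leaf 11669601)) (.node (.leaf 3726956) (.leaf 9252962))) (.node (.node (.leaf 7231603) (.leaf 9975893)) (.node (.leaf 6867571) (.leaf 8961122)))))))

/-- How a representative arises, part 207. -/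
def tInfoPart207 : Janko1.Tree ℕ := (.node (.node (.node (.node (.node (.node (.leaf 7739514) (.leaf 9289349)) (.node (.leaf 504443) (.leaf 7568501))) (.node (.node (.leaf 7221875) (.leaf 11869813)) (.node (.leaf 580211) (.leaf 6856307)))) (.node (.node (.node (.leaf 7168627) (.leaf 7807610)) (.node (.leaf 3072610) (.leaf 11870301))) (.node (.node (.leaf 5480044) (.leaf 5206650)) (.node (.leaf 7328380) (.leaf 9447019))))) (.node (.node (.node (.node (.leaf 432229) (.leaf 9375867)) (.node (.leaf 10683492) (.leaf 9409635))) (.node (.node (.leaf 9341035) (.leaf 9798788)) (.node (.leaf 11419250) (.leaf 4237948)))) (.node (.node (.node (.leaf 3357317) (.leaf 6078588)) (.node (.leaf 6776426) (.leaf 4939901))) (.node (.node (.leaf 9384027) (.leaf 9839740)) (.node (.leaf 3356789) (.leaf 7276644)))))) (.node (.node (.node (.node (.node (.leaf 6373482) (.leaf 10645620)) (.node (.leaf 3121261) (.leaf 971860))) (.node (.node (.leaf 8886875) (.leaf 5152373)) (.node (.leaf 8822403) (.leaf 3175532)))) (.node (.node (.node (.leaf 9359450) (.leaf 8855659)) (.node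 (.leaf 5152853) (.leaf 712826))) (.node (.node (.leaf 1505932) (.leaf 1228922)) (.node (.leaf 916068) (.leaf 1742469))))) (.node (.node (.node (.node (.leaf 3492458) (.leaf 8982132)) (.node (.leaf 11182186) (.leaf 8529005))) (.node (.node (.leaf 6394939) (.leaf 8526429)) (.node (.leaf 6424666) (.leaf 11119228)))) (.node (.node (.node (.leaf 10900093) (.leaf 8529469)) (.node (.leaf 5371002) (.leaf 6858868))) (.node (.node (.leaf 11358820) (.leaf 1557099)) (.node (.leaf 6081139) (.leaf 6915180)))))))

/-- How a representative arises, part 208. -/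
def tInfoPart208 : Janko1.Tree ℕ := (.node (.node (.node (.node (.node (.node (.leaf 8863357) (.leaf 11394164)) (.node (.leaf 10150482) (.leaf 10405484))) (.node (.node (.leaf 1687659) (.leaf 1548931)) (.node (.leaf 8702066) (.leaf 11198075)))) (.node (.node (.node (.leaf 8330875) (.leaf 8259707)) (.node (.leaf 2496109) (.leaf 5364852))) (.node (.node (.leaf 5459053) (.leaf 11165267)) (.node (.leaf 8294491) (.leaf 11595860))))) (.node (.node (.node (.node (.leaf 7552626) (.leaf 11564668)) (.node (.leaf 8269443) (.leaf 1368165))) (.node (.node (.leaf 4934244) (.leaf 9609826)) (.node (.leaf 6421620) (.leaf 8375402)))) (.node (.node (.node (.leaf 11321460) (.leaf 10077796)) (.node (.leaf 11106933) (.leaf 3075724))) (.node (.node (.leaf 2737747) (.leaf 9823322)) (.node (.leaf 8171101) (.leaf 5206139)))))) (.node (.node (.node (.node (.node (.leaf 5611098) (.leaf 8665709)) (.node (.leaf 3559516) (.leaf 1303652))) (.node (.node (.leaf 2746995) (.leaf 2624131)) (.node (.leaf 9194612) (.leaf 5714530)))) (.node (.node (.node (.leaf 838772) (.leaf 10757245))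 (.node (.leaf 9905269) (.leaf 6283896))) (.node (.node (.leaf 11113080) (.leaf 3001952)) (.node (.leaf 7309940) (.leaf 6231144))))) (.node (.node (.node (.node (.leaf 35420) (.leaf 6008948)) (.node (.leaf 1606256) (.leaf 11456104))) (.node (.node (.leaf 116340) (.leaf 11385469)) (.node (.leaf 4662379) (.leaf 646771)))) (.node (.node (.node (.leaf 3545176) (.leaf 973432)) (.node (.leaf 6308448) (.leaf 9989232))) (.node (.node (.leaf 9449067) (.leaf 1970276)) (.node (.leaf 913008) (.leaf 3850837)))))))

/-- How a representative arises, part 209. -/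
def tInfoPart209 : Janko1.Tree ℕ := (.node (.node (.node (.node (.node (.node (.leaf 9411187) (.leaf 8980592)) (.node (.leaf 321140) (.leaf 963685))) (.node (.node (.leaf 6826600) (.leaf 6707333)) (.node (.leaf 7713379) (.leaf 395380)))) (.node (.node (.node (.leaf 964213) (.leaf 2777722)) (.node (.leaf 495704) (.leaf 10986091))) (.node (.node (.leaf 1236061) (.leaf 6479988)) (.node (.leaf 563784) (.leaf 10949227))))) (.node (.node (.node (.node (.leaf 10594435) (.leaf 10898552)) (.node (.leaf 8298051) (.leaf 6395477))) (.node (.node (.leaf 8424552) (.leaf 7058024)) (.node (.leaf 5418096) (.leaf 8324219)))) (.node (.node (.node (.leaf 7111808) (.leaf 629356)) (.node (.leaf 1609325) (.leaf 6435428))) (.node (.node (.leaf 8042605) (.leaf 6398547)) (.node (.leaf 5936744) (.leaf 1617523)))))) (.node (.node (.node (.node (.node (.leaf 8779384) (.leaf 2753643)) (.node (.leaf 5191275) (.leaf 6347387))) (.node (.node (.leaf 5995104) (.leaf 9783912)) (.node (.leaf 11252349) (.leaf 6411379)))) (.node (.node (.node (.leaf 8795765) (.leaf 1465450)) (.node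 (.leaf 11174485) (.leaf 1543299))) (.node (.node (.leaf 3206786) (.leaf 8796269)) (.node (.leaf 11204723) (.leaf 6181973))))) (.node (.node (.node (.node (.leaf 10432579) (.leaf 2865245)) (.node (.leaf 10034800) (.leaf 5398618))) (.node (.node (.leaf 8216171) (.leaf 9098880)) (.node (.leaf 4258938) (.leaf 6676568)))) (.node (.node (.node (.leaf 10385531) (.leaf 5045381)) (.node (.leaf 10477141) (.leaf 11033221))) (.node (.node (.leaf 1740411) (.leaf 7968872)) (.node (.leaf 10477685) (.leaf 8383597)))))))

/-- How a representative arises, part 210. -/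
def tInfoPart210 : Janko1.Tree ℕ := (.node (.node (.node (.node (.node (.node (.leaf 4725360) (.leaf 3334772)) (.node (.leaf 8131688) (.leaf 9011805))) (.node (.node (.leaf 6633584) (.leaf 10827373)) (.node (.leaf 8170096) (.leaf 1471088)))) (.node (.node (.node (.leaf 6688360) (.leaf 1689187)) (.node (.leaf 2850404) (.leaf 10827877))) (.node (.node (.leaf 6861938) (.leaf 6867570)) (.node (.leaf 4582986) (.leaf 7581297))))) (.node (.node (.node (.node (.leaf 4578930) (.leaf 481891)) (.node (.leaf 7916153) (.leaf 5112946))) (.node (.node (.leaf 6897267) (.leaf 6967930)) (.node (.leaf 9891953) (.leaf 9893993)))) (.node (.node (.node (.leaf 4218972) (.leaf 4344435)) (.node (.leaf 10667084) (.leaf 10002545))) (.node (.node (.leaf 6844515) (.leaf 3923076)) (.node (.leaf 6557306) (.leaf 3529835)))))) (.node (.node (.node (.node (.node (.leaf 9134194) (.leaf 4489317)) (.node (.leaf 8143474) (.leaf 7863865))) (.node (.node (.leaf 3746428) (.leaf 8690300)) (.node (.leaf 8855154) (.leaf 7898697)))) (.node (.node (.node (.leaf 7862378) (.leaf 3968117))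 (.node (.leaf 947829) (.leaf 8917634))) (.node (.node (.leaf 9979489) (.leaf 7940722)) (.node (.leaf 5638780) (.leaf 7936114))))) (.node (.node (.node (.node (.leaf 4745330) (.leaf 9806961)) (.node (.leaf 10014329) (.leaf 10008689))) (.node (.node (.leaf 10052201) (.leaf 6484581)) (.node (.leaf 4992124) (.leaf 4636754)))) (.node (.node (.node (.leaf 6376061) (.leaf 4631650)) (.node (.leaf 9176700) (.leaf 6501474))) (.node (.node (.leaf 2590813) (.leaf 1588357)) (.node (.leaf 5042292) (.leaf 5061210)))))))

/-- How a representative arises, part 211. -/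
def tInfoPart211 : Janko1.Tree ℕ := (.node (.node (.node (.node (.node (.node (.leaf 10105476) (.leaf 5540461)) (.node (.leaf 7489121) (.leaf 2938980))) (.node (.node (.leaf 6918226) (.leaf 7482481)) (.node (.leaf 9827961) (.leaf 8955010)))) (.node (.node (.node (.leaf 10025033) (.leaf 4858476)) (.node (.leaf 2758244) (.leaf 5175411))) (.node (.node (.leaf 6007915) (.leaf 9870465)) (.node (.leaf 5217900) (.leaf 2546275))))) (.node (.node (.node (.node (.leaf 3191412) (.leaf 8884850)) (.node (.leaf 10279044) (.leaf 5272140))) (.node (.node (.leaf 7901298) (.leaf 7991889)) (.node (.leaf 5186675) (.leaf 6015099)))) (.node (.node (.node (.leaf 7875185) (.leaf 6163573)) (.node (.leaf 9660026) (.leaf 6164061))) (.node (.node (.leaf 5333109) (.leaf 11027554)) (.node (.leaf 11015258) (.leaf 9881713)))))) (.node (.node (.node (.node (.node (.leaf 9942137) (.leaf 1320564)) (.node (.leaf 6988372) (.leaf 11827314))) (.node (.node (.leaf 7978084) (.leaf 10578546)) (.node (.leaf 5861997) (.leaf 9971313)))) (.node (.node (.node (.leaf 372858) (.leaf 7806564))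 (.node (.leaf 384122) (.leaf 11306628))) (.node (.node (.leaf 7536745) (.leaf 2187898)) (.node (.leaf 7544937) (.leaf 1950842))))) (.node (.node (.node (.node (.leaf 8114828) (.leaf 1967746)) (.node (.leaf 2666619) (.leaf 1614460))) (.node (.node (.leaf 6758516) (.leaf 2313298)) (.node (.leaf 9957985) (.leaf 9929289)))) (.node (.node (.node (.leaf 5495915) (.leaf 3799666)) (.node (.leaf 6404220) (.leaf 1098356))) (.node (.node (.leaf 8889456) (.leaf 6923859)) (.node (.leaf 7234171) (.leaf 568931)))))))

/-- How a representative arises, part 212. -/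
def tInfoPart212 : Janko1.Tree ℕ := (.node (.node (.node (.node (.node (.node (.leaf 4980850) (.leaf 10110568)) (.node (.leaf 9287797) (.leaf 9285749))) (.node (.node (.leaf 9242744) (.leaf 6910083)) (.node (.leaf 10503792) (.leaf 7016520)))) (.node (.node (.node (.leaf 11865197) (.leaf 6858867)) (.node (.leaf 7170651) (.leaf 648811))) (.node (.node (.leaf 4650578) (.leaf 1289312)) (.node (.leaf 7117925) (.leaf 4834936))))) (.node (.node (.node (.node (.leaf 2680936) (.leaf 9830523)) (.node (.leaf 10037867) (.leaf 623736))) (.node (.node (.leaf 9233000) (.leaf 3354749)) (.node (.leaf 10493032) (.leaf 10066035)))) (.node (.node (.node (.leaf 1537642) (.leaf 1525850)) (.node (.leaf 4935805) (.leaf 10458736))) (.node (.node (.leaf 1011834) (.leaf 4935293)) (.node (.leaf 1280120) (.leaf 2137701)))))) (.node (.node (.node (.node (.node (.leaf 6121568) (.leaf 8333443)) (.node (.leaf 8261747) (.leaf 2383488))) (.node (.node (.leaf 11163243) (.leaf 4518472)) (.node (.leaf 6178920) (.leaf 3675256)))) (.node (.node (.node (.leaf 9416240) (.leaf 5245045))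 (.node (.leaf 5247573) (.leaf 7267944))) (.node (.node (.leaf 1674864) (.leaf 4602498)) (.node (.leaf 3738216) (.leaf 10703984))))) (.node (.node (.node (.node (.leaf 5244547) (.leaf 9889920)) (.node (.leaf 10345069) (.leaf 1076338))) (.node (.node (.leaf 194664) (.leaf 5193315)) (.node (.leaf 1604218) (.leaf 2690619)))) (.node (.node (.node (.leaf 5254755) (.leaf 3663944)) (.node (.leaf 10962517) (.leaf 940130))) (.node (.node (.leaf 1665648) (.leaf 5198923)) (.node (.leaf 3728504) (.leaf 10697336)))))))

/-- How a representative arises, part 213. -/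
def tInfoPart213 : Janko1.Tree ℕ := (.node (.node (.node (.node (.node (.node (.leaf 8308325) (.leaf 8310397)) (.node (.leaf 6574168) (.leaf 8820339))) (.node (.node (.leaf 1481821) (.leaf 6288501)) (.node (.leaf 10393219) (.leaf 8784515)))) (.node (.node (.node (.leaf 7836792) (.leaf 3147880)) (.node (.leaf 2379893) (.leaf 10423403))) (.node (.node (.leaf 1535620) (.leaf 6883448)) (.node (.leaf 8830563) (.leaf 5783149))))) (.node (.node (.node (.node (.leaf 6381700) (.leaf 10383947)) (.node (.leaf 11526776) (.leaf 1260152))) (.node (.node (.leaf 8042600) (.leaf 10546277)) (.node (.leaf 6088819) (.leaf 1739851)))) (.node (.node (.node (.leaf 1608315) (.leaf 7786608)) (.node (.leaf 5133924) (.leaf 3635298))) (.node (.node (.leaf 11311736) (.leaf 1542771)) (.node (.leaf 3521628) (.leaf 8107125)))))) (.node (.node (.node (.node (.node (.leaf 6078587) (.leaf 2289250)) (.node (.leaf 1749627) (.leaf 1618555))) (.node (.node (.leaf 1180784) (.leaf 1690203)) (.node (.leaf 1551987) (.leaf 1249376)))) (.node (.node (.node (.leaf 4398187) (.leaf 4710011))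 (.node (.leaf 6904963) (.leaf 6447730))) (.node (.node (.leaf 5838980) (.leaf 6445154)) (.node (.leaf 7585897) (.leaf 4391555))))) (.node (.node (.node (.node (.leaf 4700227) (.leaf 9901169)) (.node (.leaf 6894675) (.leaf 10295914))) (.node (.node (.leaf 5615220) (.leaf 10001009)) (.node (.leaf 6553162) (.leaf 10003561)))) (.node (.node (.node (.leaf 1962628) (.leaf 8138354)) (.node (.leaf 4001388) (.leaf 7096445))) (.node (.node (.leaf 7532625) (.leaf 4591237)) (.node (.leaf 7863418) (.leaf 2451572)))))))

/-- How a representative arises, part 214. -/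
def tInfoPart214 : Janko1.Tree ℕ := (.node (.node (.node (.node (.node (.node (.leaf 2674258) (.leaf 49756)) (.node (.leaf 7868538) (.leaf 8202858))) (.node (.node (.leaf 9916025) (.leaf 3337853)) (.node (.leaf 1686100) (.leaf 9913425)))) (.node (.node (.node (.leaf 2812482) (.leaf 4831868)) (.node (.leaf 9816681) (.leaf 3098733))) (.node (.node (.leaf 10017393) (.leaf 2115189)) (.node (.leaf 9853057) (.leaf 6669428))))) (.node (.node (.node (.node (.leaf 3182716) (.leaf 10334322)) (.node (.leaf 1444460) (.leaf 7938161))) (.node (.node (.leaf 7980625) (.leaf 6058589)) (.node (.leaf 6911594) (.leaf 5227117)))) (.node (.node (.node (.leaf 920692) (.leaf 7973490)) (.node (.leaf 3010164) (.leaf 9829505))) (.node (.node (.leaf 10042977) (.leaf 6381147)) (.node (.leaf 3428484) (.leaf 9864289)))))) (.node (.node (.node (.node (.node (.leaf 10077281) (.leaf 6863988)) (.node (.leaf 3494524) (.leaf 5547643))) (.node (.node (.leaf 6070387) (.leaf 5063796)) (.node (.leaf 6921836) (.leaf 5504107)))) (.node (.node (.node (.leaf 8175210) (.leaf 7998593)) (.node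 (.leaf 10944642) (.leaf 4188250))) (.node (.node (.leaf 2473061) (.leaf 4191858)) (.node (.leaf 2475629) (.leaf 7895161))))) (.node (.node (.node (.node (.leaf 1464445) (.leaf 11551316)) (.node (.leaf 4290666) (.leaf 9976401))) (.node (.node (.leaf 5758573) (.leaf 10170484)) (.node (.leaf 7945284) (.leaf 1662067)))) (.node (.node (.node (.leaf 1951346) (.leaf 2537067)) (.node (.leaf 1732723) (.leaf 2734723))) (.node (.node (.leaf 11204188) (.leaf 9986121)) (.node (.leaf 10203732) (.leaf 8930436)))))))

/-- How a representative arises, part 215. -/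
def tInfoPart215 : Janko1.Tree ℕ := (.node (.node (.node (.node (.node (.node (.leaf 10000488) (.leaf 563787)) (.node (.leaf 11828849) (.leaf 3586675))) (.node (.node (.leaf 11901553) (.leaf 7870056)) (.node (.leaf 5285498) (.leaf 6835816)))) (.node (.node (.node (.leaf 9271937) (.leaf 10323560)) (.node (.leaf 8208504) (.leaf 9308273))) (.node (.node (.leaf 3844733) (.leaf 11821169)) (.node (.leaf 11815553) (.leaf 11814001))))) (.node (.node (.node (.node (.leaf 10348) (.leaf 8980056)) (.node (.leaf 4561496) (.leaf 11864681))) (.node (.node (.leaf 11064952) (.leaf 7014533)) (.node (.leaf 9374304) (.leaf 5145696)))) (.node (.node (.node (.leaf 11447416) (.leaf 1634400)) (.node (.leaf 9251913) (.leaf 1646700))) (.node (.node (.leaf 9340016) (.leaf 6688877)) (.node (.leaf 9288281) (.leaf 9286769)))))) (.node (.node (.node (.node (.node (.leaf 9331825) (.leaf 6483053)) (.node (.leaf 9328233) (.leaf 1215085))) (.node (.node (.leaf 7666304) (.leaf 2628216)) (.node (.leaf 9366129) (.leaf 5342834)))) (.node (.node (.node (.leaf 1215605) (.leaf 7700584))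 (.node (.leaf 2236013) (.leaf 3925120))) (.node (.node (.leaf 10537072) (.leaf 2607733)) (.node (.leaf 7093856) (.leaf 11746409))))) (.node (.node (.node (.node (.leaf 10572416) (.leaf 2652788)) (.node (.leaf 7146600) (.leaf 6389877))) (.node (.node (.leaf 5238899) (.leaf 4599404)) (.node (.leaf 10852456) (.leaf 8815208)))) (.node (.node (.node (.leaf 1339506) (.leaf 11771489)) (.node (.leaf 5410416) (.leaf 5029964))) (.node (.node (.leaf 606844) (.leaf 5178995)) (.node (.leaf 11809385) (.leaf 1674331)))))))

/-- How a representative arises, part 216. -/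
def tInfoPart216 : Janko1.Tree ℕ := (.node (.node (.node (.node (.node (.node (.leaf 3025016) (.leaf 1005180)) (.node (.leaf 9100392) (.leaf 3086448))) (.node (.node (.leaf 5351549) (.leaf 6390384)) (.node (.leaf 6177365) (.leaf 1125488)))) (.node (.node (.node (.leaf 9276024) (.leaf 3385960)) (.node (.leaf 1534572) (.leaf 1449072))) (.node (.node (.leaf 5026901) (.leaf 9299561)) (.node (.leaf 1084004) (.leaf 9293417))))) (.node (.node (.node (.node (.leaf 11385960) (.leaf 9283697)) (.node (.leaf 3049080) (.leaf 11841657))) (.node (.node (.leaf 6361712) (.leaf 39018)) (.node (.leaf 2604603) (.leaf 11833465)))) (.node (.node (.node (.leaf 3113080) (.leaf 3581572)) (.node (.leaf 3893378) (.leaf 10066544))) (.node (.node (.leaf 1538667) (.leaf 2543219)) (.node (.leaf 9280633) (.leaf 1595995)))))) (.node (.node (.node (.node (.node (.leaf 204386) (.leaf 2594395)) (.node (.leaf 9302585) (.leaf 1472120))) (.node (.node (.leaf 4412019) (.leaf 9510005)) (.node (.leaf 2027132) (.leaf 721003)))) (.node (.node (.node (.leaf 8320628) (.leaf 9914501)) (.node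 (.leaf 3607675) (.leaf 6243410))) (.node (.node (.leaf 7838309) (.leaf 379508)) (.node (.leaf 11595861) (.leaf 4802674))))) (.node (.node (.node (.node (.leaf 4412516) (.leaf 10441802)) (.node (.leaf 453748) (.leaf 9562229))) (.node (.node (.leaf 7899765) (.leaf 5616196)) (.node (.leaf 8283236) (.leaf 3535467)))) (.node (.node (.node (.leaf 842877) (.leaf 10069603)) (.node (.leaf 9426516) (.leaf 843389))) (.node (.node (.leaf 7029893) (.leaf 6701701)) (.node (.leaf 7709819) (.leaf 11506811)))))))

/-- How a representative arises, part 217. -/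
def tInfoPart217 : Janko1.Tree ℕ := (.node (.node (.node (.node (.node (.node (.leaf 4217957) (.leaf 6702205)) (.node (.leaf 10039419) (.leaf 959589))) (.node (.node (.leaf 3982965) (.leaf 9390724)) (.node (.leaf 5669501) (.leaf 4832876)))) (.node (.node (.node (.leaf 10193514) (.leaf 11191410)) (.node (.leaf 7764604) (.leaf 8258643))) (.node (.node (.leaf 9986124) (.leaf 5195884)) (.node (.leaf 8223323) (.leaf 6295682))))) (.node (.node (.node (.node (.leaf 8888435) (.leaf 6706282)) (.node (.leaf 5570677) (.leaf 5269594))) (.node (.node (.leaf 11245157) (.leaf 3122794)) (.node (.leaf 9094250) (.leaf 3428980)))) (.node (.node (.node (.leaf 3611754) (.leaf 8594549)) (.node (.leaf 1685611) (.leaf 9106052))) (.node (.node (.leaf 5252211) (.leaf 3002490)) (.node (.leaf 736378) (.leaf 11410556)))))) (.node (.node (.node (.node (.node (.leaf 9024122) (.leaf 8808069)) (.node (.leaf 2953324) (.leaf 6339163))) (.node (.node (.leaf 6450804) (.leaf 1257586)) (.node (.leaf 9308274) (.leaf 10623101)))) (.node (.node (.node (.leaf 1881717) (.leaf 11191923))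 (.node (.leaf 5821050) (.leaf 2805364))) (.node (.node (.leaf 5367885) (.leaf 10813522)) (.node (.leaf 1882197) (.leaf 3352700))))) (.node (.node (.node (.node (.leaf 5633634) (.leaf 9385580)) (.node (.leaf 11645050) (.leaf 5039725))) (.node (.node (.leaf 10438259) (.leaf 8332915)) (.node (.leaf 6417012) (.leaf 5871741)))) (.node (.node (.node (.leaf 2004581) (.leaf 8295523)) (.node (.leaf 774764) (.leaf 8395389))) (.node (.node (.leaf 8714802) (.leaf 65658)) (.node (.leaf 8940669) (.leaf 1361004)))))))

/-- How a representative arises, part 218. -/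
def tInfoPart218 : Janko1.Tree ℕ := (.node (.node (.node (.node (.node (.node (.leaf 8395885) (.leaf 10488948)) (.node (.leaf 2685035) (.leaf 10263629))) (.node (.node (.leaf 10453628) (.leaf 8217724)) (.node (.leaf 5520995) (.leaf 10264157)))) (.node (.node (.node (.leaf 9004149) (.leaf 10202228)) (.node (.leaf 2676331) (.leaf 8454261))) (.node (.node (.leaf 7763072) (.leaf 11371121)) (.node (.leaf 10149992) (.leaf 11830377))))) (.node (.node (.node (.node (.leaf 7732848) (.leaf 11405945)) (.node (.leaf 10111072) (.leaf 2655856))) (.node (.node (.leaf 8106624) (.leaf 5284442)) (.node (.leaf 9279609) (.leaf 10504752)))) (.node (.node (.node (.leaf 9269881) (.leaf 1323656)) (.node (.leaf 4871778) (.leaf 9513561))) (.node (.node (.leaf 9304665) (.leaf 3260520)) (.node (.leaf 728168) (.leaf 11352697)))))) (.node (.node (.node (.node (.node (.leaf 4835944) (.leaf 3707476)) (.node (.leaf 11870849) (.leaf 11384433))) (.node (.node (.leaf 631410) (.leaf 11379313)) (.node (.leaf 320596) (.leaf 11848809)))) (.node (.node (.node (.leaf 9472097) (.leaf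 7007856)) (.node (.leaf 1287794) (.leaf 1315432))) (.node (.node (.leaf 8063096) (.leaf 9295993)) (.node (.leaf 9286249) (.leaf 5957229))))) (.node (.node (.node (.node (.leaf 3095157) (.leaf 5130861)) (.node (.leaf 9932904) (.leaf 4516984))) (.node (.node (.leaf 1737341) (.leaf 1735765)) (.node (.leaf 2737253) (.leaf 2735213)))) (.node (.node (.node (.leaf 10674808) (.leaf 8318560)) (.node (.leaf 5241461) (.leaf 5678152))) (.node (.node (.leaf 6072933) (.leaf 6071917)) (.node (.leaf 6113376) (.leaf 6386795)))))))

/-- How a representative arises, part 219. -/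
def tInfoPart219 : Janko1.Tree ℕ := (.node (.node (.node (.node (.node (.node (.leaf 4458616) (.leaf 1597035)) (.node (.leaf 6171256) (.leaf 2664027))) (.node (.node (.leaf 2535491) (.leaf 1698936)) (.node (.leaf 6060131) (.leaf 6378595)))) (.node (.node (.node (.leaf 5614200) (.leaf 2604155)) (.node (.leaf 5179435) (.leaf 5497955))) (.node (.node (.leaf 7310968) (.leaf 5671016)) (.node (.leaf 1538147) (.leaf 2542715))))) (.node (.node (.node (.node (.leaf 767064) (.leaf 11343969)) (.node (.leaf 11389529) (.leaf 11859049))) (.node (.node (.leaf 9474665) (.leaf 1155664)) (.node (.leaf 11488328) (.leaf 9255537)))) (.node (.node (.node (.leaf 3186296) (.leaf 9300609)) (.node (.leaf 11527784) (.leaf 6943352))) (.node (.node (.leaf 9505393) (.leaf 9290337)) (.node (.leaf 9497201) (.leaf 9282649)))))) (.node (.node (.node (.node (.node (.leaf 759904) (.leaf 11835473)) (.node (.leaf 2409090) (.leaf 11365473))) (.node (.node (.leaf 11399785) (.leaf 11894393)) (.node (.leaf 3892330) (.leaf 11878513)))) (.node (.node (.node (.leaf 2868312) (.leaf 11890761))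 (.node (.leaf 9477729) (.leaf 5293164))) (.node (.node (.leaf 9126008) (.leaf 11516520)) (.node (.leaf 4019818) (.leaf 9164416))))) (.node (.node (.node (.node (.leaf 4723299) (.leaf 1766500)) (.node (.leaf 6654066) (.leaf 3988084))) (.node (.node (.leaf 9818228) (.leaf 11094122)) (.node (.leaf 11658365) (.leaf 513635)))) (.node (.node (.node (.leaf 9856116) (.leaf 11438698)) (.node (.leaf 710763) (.leaf 158820))) (.node (.node (.leaf 570499) (.leaf 10666604)) (.node (.leaf 11170410) (.leaf 503923)))))))

/-- How a representative arises, part 220. -/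
def tInfoPart220 : Janko1.Tree ℕ := (.node (.node (.node (.node (.node (.node (.leaf 11537003) (.leaf 439925)) (.node (.leaf 3423330) (.leaf 4621949))) (.node (.node (.leaf 8984186) (.leaf 438397)) (.node (.leaf 653418) (.leaf 7465060)))) (.node (.node (.node (.leaf 9349747) (.leaf 4622437)) (.node (.leaf 11742835) (.leaf 7501940))) (.node (.node (.leaf 9445955) (.leaf 8069738)) (.node (.leaf 4432516) (.leaf 9060426))))) (.node (.node (.node (.node (.leaf 8289388) (.leaf 9409139)) (.node (.leaf 7799386) (.leaf 4960890))) (.node (.node (.leaf 10136700) (.leaf 11202666)) (.node (.leaf 8880755) (.leaf 8813691)))) (.node (.node (.node (.leaf 10383948) (.leaf 11164267)) (.node (.leaf 2124901) (.leaf 3416692))) (.node (.node (.leaf 11191411) (.leaf 8887931)) (.node (.leaf 3480676) (.leaf 1754749)))))) (.node (.node (.node (.node (.node (.leaf 11406970) (.leaf 11155563)) (.node (.leaf 5258357) (.leaf 9095778))) (.node (.node (.leaf 8997972) (.leaf 845426)) (.node (.leaf 9078381) (.leaf 9079389)))) (.node (.node (.node (.leaf 5204603) (.leaf 10894445))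 (.node (.leaf 5521531) (.leaf 3610234))) (.node (.node (.leaf 6655084) (.leaf 8105594)) (.node (.leaf 9024626) (.leaf 9286772))))) (.node (.node (.node (.node (.leaf 5563531) (.leaf 6708852)) (.node (.leaf 5272692) (.leaf 4806252))) (.node (.node (.leaf 10633323) (.leaf 2504813)) (.node (.leaf 9813610) (.leaf 5825138)))) (.node (.node (.node (.leaf 4665964) (.leaf 9246828)) (.node (.leaf 8304747) (.leaf 8233059))) (.node (.node (.leaf 4478074) (.leaf 6606461)) (.node (.leaf 8330347) (.leaf 10401387)))))))

/-- How a representative arises, part 221. -/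
def tInfoPart221 : Janko1.Tree ℕ := (.node (.node (.node (.node (.node (.node (.leaf 8959604) (.leaf 7979636)) (.node (.leaf 8293995) (.leaf 6619756))) (.node (.node (.leaf 7176818) (.leaf 2373733)) (.node (.leaf 2430082) (.leaf 8179333)))) (.node (.node (.node (.leaf 6338667) (.leaf 2685563)) (.node (.leaf 1612916) (.leaf 2557531))) (.node (.node (.leaf 3368572) (.leaf 6082643)) (.node (.leaf 239194) (.leaf 9620578))))) (.node (.node (.node (.node (.leaf 10750069) (.leaf 10749037)) (.node (.leaf 2674811) (.leaf 8101493))) (.node (.node (.leaf 2548835) (.leaf 2884196)) (.node (.leaf 9993840) (.leaf 1394810)))) (.node (.node (.node (.leaf 7224427) (.leaf 9911933)) (.node (.leaf 11107440) (.leaf 11593349))) (.node (.node (.leaf 4360819) (.leaf 9508437)) (.node (.leaf 11593821) (.leaf 1518194)))))) (.node (.node (.node (.node (.node (.leaf 9379448) (.leaf 1593456)) (.node (.leaf 3600003) (.leaf 6782568))) (.node (.node (.leaf 10317432) (.leaf 7178883)) (.node (.leaf 640115) (.leaf 9561205)))) (.node (.node (.node (.leaf 3859053) (.leaf 11539587))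 (.node (.leaf 2996320) (.leaf 841293))) (.node (.node (.leaf 6314560) (.leaf 4566640)) (.node (.leaf 2935912) (.leaf 918128))))) (.node (.node (.node (.node (.leaf 10073723) (.leaf 1639536)) (.node (.leaf 9450083) (.leaf 6832224))) (.node (.node (.leaf 6945370) (.leaf 5394540)) (.node (.leaf 6530682) (.leaf 6497389)))) (.node (.node (.node (.leaf 8818275) (.leaf 482416)) (.node (.leaf 1225837) (.leaf 6497917))) (.node (.node (.leaf 5664869) (.leaf 10393699)) (.node (.leaf 7694456) (.leaf 2249325)))))))

/-- How a representative arises, part 222. -/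
def tInfoPart222 : Janko1.Tree ℕ := (.node (.node (.node (.node (.node (.node (.leaf 8286339) (.leaf 6404725)) (.node (.leaf 11616360) (.leaf 7046776))) (.node (.node (.leaf 1457242) (.leaf 9582704)) (.node (.leaf 11651704) (.leaf 7101048)))) (.node (.node (.node (.leaf 5566067) (.leaf 10685565)) (.node (.leaf 2558072) (.leaf 525432))) (.node (.node (.leaf 2742355) (.leaf 3397252)) (.node (.leaf 11243125) (.leaf 5999728))))) (.node (.node (.node (.node (.leaf 7002730) (.leaf 5556851)) (.node (.leaf 8805509) (.leaf 10621061))) (.node (.node (.leaf 7088248) (.leaf 2752635)) (.node (.leaf 8245877) (.leaf 8806005)))) (.node (.node (.node (.leaf 7143024) (.leaf 6888058)) (.node (.leaf 10986603) (.leaf 1002108))) (.node (.node (.leaf 1031792) (.leaf 6792300)) (.node (.leaf 4721264) (.leaf 10595947)))))) (.node (.node (.node (.node (.node (.leaf 3108984) (.leaf 3646562)) (.node (.leaf 3649122) (.leaf 5871205))) (.node (.node (.leaf 10993259) (.leaf 10636403)) (.node (.leaf 1079900) (.leaf 3471472)))) (.node (.node (.node (.leaf 2990685) (.leaf 3776634))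 (.node (.leaf 747628) (.leaf 5243499))) (.node (.node (.leaf 6401115) (.leaf 9066584)) (.node (.leaf 1004664) (.leaf 1747563))))) (.node (.node (.node (.node (.leaf 11041901) (.leaf 1330812)) (.node (.leaf 6387328) (.leaf 1266804))) (.node (.node (.leaf 5254259) (.leaf 1411176)) (.node (.leaf 2621027) (.leaf 11354744)))) (.node (.node (.node (.leaf 9319016) (.leaf 8452205)) (.node (.leaf 9123962) (.leaf 5843068))) (.node (.node (.leaf 9723001) (.leaf 374844)) (.node (.leaf 490595) (.leaf 9709689)))))))

/-- How a representative arises, part 223. -/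
def tInfoPart223 : Janko1.Tree ℕ := (.node (.node (.node (.node (.node (.node (.leaf 2701946) (.leaf 4709499)) (.node (.leaf 7820393) (.leaf 547435))) (.node (.node (.leaf 3307626) (.leaf 3583083)) (.node (.leaf 7855737) (.leaf 7165555)))) (.node (.node (.node (.leaf 9545844) (.leaf 2826850)) (.node (.leaf 3523163) (.leaf 9675361))) (.node (.node (.leaf 7008893) (.leaf 9664609)) (.node (.leaf 9441412) (.leaf 4556914))))) (.node (.node (.node (.node (.leaf 55924) (.leaf 7009397)) (.node (.leaf 9954914) (.leaf 6682197))) (.node (.node (.leaf 5098082) (.leaf 3958389)) (.node (.leaf 6682717) (.leaf 4678738)))) (.node (.node (.node (.leaf 7827569) (.leaf 10033282)) (.node (.leaf 9406084) (.leaf 6311532))) (.node (.node (.leaf 972380) (.leaf 2883170)) (.node (.leaf 7655025) (.leaf 7703137)))))) (.node (.node (.node (.node (.node (.leaf 6671964) (.leaf 7695473)) (.node (.leaf 9267308) (.leaf 3375226))) (.node (.node (.leaf 7687273) (.leaf 8875122)) (.node (.leaf 2602605) (.leaf 1506436)))) (.node (.node (.node (.leaf 2760826) (.leaf 6385269)) (.node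 (.leaf 10135145) (.leaf 10128505))) (.node (.node (.leaf 3246186) (.leaf 10118777)) (.node (.leaf 715380) (.leaf 1591411))))) (.node (.node (.node (.node (.leaf 2595443) (.leaf 5505139)) (.node (.leaf 5153906) (.leaf 1527899))) (.node (.node (.leaf 2536019) (.leaf 5542003)) (.node (.leaf 6380115) (.leaf 6916188)))) (.node (.node (.node (.leaf 1601627) (.leaf 9994330)) (.node (.leaf 10147425) (.leaf 647804))) (.node (.node (.leaf 6326883) (.leaf 10084988)) (.node (.leaf 10171505) (.leaf 4887164)))))))

/-- How a representative arises, part 224. -/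
def tInfoPart224 : Janko1.Tree ℕ := (.node (.node (.node (.node (.node (.node (.leaf 359538) (.leaf 10165353)) (.node (.leaf 10164817) (.leaf 5346941))) (.node (.node (.leaf 11286644) (.leaf 1943154)) (.node (.leaf 2854509) (.leaf 1861765)))) (.node (.node (.node (.leaf 3348604) (.leaf 6171725)) (.node (.leaf 5347461) (.leaf 8064628))) (.node (.node (.leaf 11563644) (.leaf 7629433)) (.node (.leaf 10183801) (.leaf 5228147))))) (.node (.node (.node (.node (.leaf 10934842) (.leaf 4685924)) (.node (.leaf 10175073) (.leaf 2733163))) (.node (.node (.leaf 7960188) (.leaf 5177451)) (.node (.leaf 10216569) (.leaf 2672763)))) (.node (.node (.node (.leaf 7620721) (.leaf 6146674)) (.node (.leaf 8232052) (.leaf 7647345))) (.node (.node (.leaf 3133044) (.leaf 4743292)) (.node (.leaf 7640689) (.leaf 11192940)))))) (.node (.node (.node (.node (.node (.leaf 4408939) (.leaf 9294949)) (.node (.leaf 9296997) (.leaf 574579))) (.node (.node (.leaf 11654781) (.leaf 1394298)) (.node (.leaf 9295461) (.leaf 29292)))) (.node (.node (.node (.leaf 865386) (.leaf 868466))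 (.node (.leaf 7003248) (.leaf 11847813))) (.node (.node (.leaf 111228) (.leaf 1514578)) (.node (.leaf 4369507) (.leaf 4674651))))) (.node (.node (.node (.node (.leaf 11850365) (.leaf 1276016)) (.node (.leaf 638595) (.leaf 6485104))) (.node (.node (.leaf 9385083) (.leaf 1974356)) (.node (.leaf 3713636) (.leaf 6437496)))) (.node (.node (.node (.leaf 436341) (.leaf 9420915)) (.node (.leaf 4348036) (.leaf 4618349))) (.node (.node (.leaf 7012440) (.leaf 4927093)) (.node (.leaf 4925005) (.leaf 9377907)))))))

/-- How a representative arises, part 225. -/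
def tInfoPart225 : Janko1.Tree ℕ := (.node (.node (.node (.node (.node (.node (.leaf 285277) (.leaf 6530146)) (.node (.leaf 1285224) (.leaf 4925541))) (.node (.node (.leaf 9343563) (.leaf 283765)) (.node (.leaf 5971053) (.leaf 6108776)))) (.node (.node (.node (.leaf 3107453) (.leaf 1059930)) (.node (.leaf 8325243) (.leaf 5972101))) (.node (.node (.leaf 10392171) (.leaf 265848)) (.node (.leaf 8288355) (.leaf 1582170))))) (.node (.node (.node (.node (.leaf 7255160) (.leaf 10424947)) (.node (.leaf 1215084) (.leaf 6901876))) (.node (.node (.leaf 932466) (.leaf 2749557)) (.node (.leaf 7305792) (.leaf 10384995)))) (.node (.node (.node (.leaf 8225347) (.leaf 6409843)) (.node (.leaf 8522373) (.leaf 8522869))) (.node (.node (.leaf 929900) (.leaf 2621539)) (.node (.leaf 6172784) (.leaf 10335869)))))) (.node (.node (.node (.node (.node (.leaf 6355995) (.leaf 2684027)) (.node (.leaf 8317045) (.leaf 6400123))) (.node (.node (.leaf 10416757) (.leaf 10414693)) (.node (.leaf 8319093) (.leaf 8317549)))) (.node (.node (.node (.leaf 1731184) (.leaf 3694208)) (.node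 (.leaf 2691179) (.leaf 2562675))) (.node (.node (.leaf 6562936) (.leaf 8829571)) (.node (.leaf 10178672) (.leaf 10950259))))) (.node (.node (.node (.node (.leaf 1490549) (.leaf 8794195)) (.node (.leaf 6873160) (.leaf 1176176))) (.node (.node (.leaf 3170944) (.leaf 1358437)) (.node (.leaf 1356405) (.leaf 10959483)))) (.node (.node (.node (.leaf 8038512) (.leaf 1244792)) (.node (.leaf 8853107) (.leaf 8783963))) (.node (.node (.leaf 10430560) (.leaf 5247568)) (.node (.leaf 5242971) (.leaf 11286128)))))))

/-- How a representative arises, part 226. -/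
def tInfoPart226 : Janko1.Tree ℕ := (.node (.node (.node (.node (.node (.node (.leaf 794736) (.leaf 7800912)) (.node (.leaf 1748587) (.leaf 11113085))) (.node (.node (.leaf 10187376) (.leaf 11324016)) (.node (.leaf 4935800) (.leaf 11115125)))) (.node (.node (.node (.leaf 6878296) (.leaf 5567083)) (.node (.leaf 11310717) (.leaf 3181664))) (.node (.node (.leaf 9139320) (.leaf 5515867)) (.node (.leaf 11311213) (.leaf 9177672))))) (.node (.node (.node (.node (.leaf 9676393) (.leaf 2483317)) (.node (.leaf 10172529) (.leaf 2485333))) (.node (.node (.leaf 7603834) (.leaf 10165865)) (.node (.leaf 6277189) (.leaf 9659497)))) (.node (.node (.node (.leaf 3687546) (.leaf 2483837)) (.node (.leaf 2485837) (.leaf 3683930))) (.node (.node (.leaf 9231476) (.leaf 8235132)) (.node (.leaf 6275677) (.leaf 3598964)))))) (.node (.node (.node (.node (.node (.leaf 10192001) (.leaf 7685714)) (.node (.leaf 11424828) (.leaf 5751893))) (.node (.node (.leaf 8627314) (.leaf 7594097)) (.node (.leaf 2351717) (.leaf 7787113)))) (.node (.node (.node (.leaf 6582357) (.leaf 5752421))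 (.node (.leaf 7832705) (.leaf 7629945))) (.node (.node (.leaf 9461346) (.leaf 7627377)) (.node (.leaf 1338973) (.leaf 1337453))))) (.node (.node (.node (.node (.leaf 5227643) (.leaf 5540979)) (.node (.leaf 10009692) (.leaf 10190417))) (.node (.node (.leaf 9680489) (.leaf 4168290)) (.node (.leaf 9685065) (.leaf 10930802)))) (.node (.node (.node (.leaf 9716841) (.leaf 10213465)) (.node (.leaf 6326387) (.leaf 9708145))) (.node (.node (.leaf 10207857) (.leaf 5406810)) (.node (.leaf 9715281) (.leaf 11752042)))))))

/-- How a representative arises, part 227. -/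
def tInfoPart227 : Janko1.Tree ℕ := (.node (.node (.node (.node (.node (.node (.leaf 3374716) (.leaf 6145666)) (.node (.leaf 8094836) (.leaf 6071411))) (.node (.node (.leaf 7622273) (.leaf 7602809)) (.node (.leaf 5321796) (.leaf 1553012)))) (.node (.node (.node (.leaf 7647865) (.leaf 6015619)) (.node (.leaf 7844433) (.leaf 6398548))) (.node (.node (.leaf 7639673) (.leaf 4949628)) (.node (.leaf 11816058) (.leaf 7645785))))) (.node (.node (.node (.node (.leaf 4448377) (.leaf 3894396)) (.node (.leaf 4446841) (.leaf 4566641))) (.node (.node (.leaf 4346504) (.leaf 2205288)) (.node (.leaf 3897458) (.leaf 10)))) (.node (.node (.node (.leaf 7504496) (.leaf 4491385)) (.node (.leaf 4608625) (.leaf 6252))) (.node (.node (.leaf 3769984) (.leaf 207449)) (.node (.leaf 1869384) (.leaf 11886712)))))) (.node (.node (.node (.node (.node (.leaf 5749880) (.leaf 10749560)) (.node (.leaf 956537) (.leaf 264825))) (.node (.node (.leaf 58448) (.leaf 3632756)) (.node (.leaf 1777275) (.leaf 4635257)))) (.node (.node (.node (.leaf 2158709) (.leaf 873593)) (.node (.leaf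 908881) (.leaf 170081))) (.node (.node (.leaf 173673) (.leaf 7101532)) (.node (.leaf 1879152) (.leaf 258161))))) (.node (.node (.node (.node (.leaf 304241) (.leaf 38505)) (.node (.leaf 1030249) (.leaf 1336946))) (.node (.node (.leaf 4756568) (.leaf 1001057)) (.node (.leaf 167028) (.leaf 6494800)))) (.node (.node (.node (.leaf 3102826) (.leaf 243836)) (.node (.leaf 4671609) (.leaf 4646497))) (.node (.node (.leaf 4364889) (.leaf 4359281)) (.node (.leaf 1355344) (.leaf 4025956)))))))

/-- How a representative arises, part 228. -/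
def tInfoPart228 : Janko1.Tree ℕ := (.node (.node (.node (.node (.node (.node (.leaf 4711025) (.leaf 4720217)) (.node (.leaf 6249) (.leaf 1031793))) (.node (.node (.leaf 9841) (.leaf 1040001)) (.node (.leaf 7783008) (.leaf 677488)))) (.node (.node (.node (.leaf 8874088) (.leaf 1907325)) (.node (.leaf 4383841) (.leaf 6686338))) (.node (.node (.leaf 9194104) (.leaf 2407035)) (.node (.leaf 1906277) (.leaf 11607656))))) (.node (.node (.node (.node (.leaf 1845371) (.leaf 4422769)) (.node (.leaf 2839659) (.leaf 4427393))) (.node (.node (.leaf 1682546) (.leaf 11001459)) (.node (.leaf 10510443) (.leaf 8024181)))) (.node (.node (.node (.leaf 11637868) (.leaf 11107443)) (.node (.leaf 8023677) (.leaf 7643228))) (.node (.node (.leaf 2449532) (.leaf 10450027)) (.node (.leaf 6036052) (.leaf 9811052)))))) (.node (.node (.node (.node (.node (.leaf 8131691) (.leaf 211050)) (.node (.leaf 1741940) (.leaf 8772186))) (.node (.node (.leaf 10597509) (.leaf 7544938)) (.node (.leaf 9434740) (.leaf 1964148)))) (.node (.node (.node (.leaf 9552508) (.leaf 1187949)) (.node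 (.leaf 5881972) (.leaf 6308451))) (.node (.node (.leaf 1509499) (.leaf 2895483)) (.node (.leaf 6469237) (.leaf 5527133))))) (.node (.node (.node (.node (.leaf 5324899) (.leaf 6264923)) (.node (.leaf 7192682) (.leaf 9685588))) (.node (.node (.leaf 5525621) (.leaf 5665908)) (.node (.leaf 6360685) (.leaf 11785332)))) (.node (.node (.node (.leaf 11014765) (.leaf 11008619)) (.node (.leaf 8122954) (.leaf 9078378))) (.node (.node (.leaf 11117675) (.leaf 7851650)) (.node (.leaf 8168051) (.leaf 7678580)))))))

/-- How a representative arises, part 229. -/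
def tInfoPart229 : Janko1.Tree ℕ := (.node (.node (.node (.node (.node (.node (.leaf 11072115) (.leaf 10443371)) (.node (.leaf 3486842) (.leaf 709242))) (.node (.node (.leaf 11036763) (.leaf 10811493)) (.node (.leaf 7775346) (.leaf 9464948)))) (.node (.node (.node (.leaf 5768828) (.leaf 6145133)) (.node (.leaf 6828650) (.leaf 10509946))) (.node (.node (.leaf 2819693) (.leaf 5316725)) (.node (.leaf 6319227) (.leaf 1497203))))) (.node (.node (.node (.node (.leaf 2886275) (.leaf 5315667)) (.node (.leaf 5249098) (.leaf 10423402))) (.node (.node (.leaf 6722666) (.leaf 1962109)) (.node (.leaf 5716068) (.leaf 5016165)))) (.node (.node (.node (.leaf 9622636) (.leaf 10156642)) (.node (.leaf 4470377) (.leaf 4571225))) (.node (.node (.leaf 4438641) (.leaf 8728192)) (.node (.leaf 4498041) (.leaf 18042)))))) (.node (.node (.node (.node (.node (.leaf 4402268) (.leaf 424560)) (.node (.leaf 4609649) (.leaf 203337))) (.node (.node (.leaf 887393) (.leaf 899705)) (.node (.leaf 2066536) (.leaf 962665)))) (.node (.node (.node (.leaf 10612848) (.leaf 7219824)) (.node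 (.leaf 268393) (.leaf 940129))) (.node (.node (.leaf 4471913) (.leaf 4575337)) (.node (.leaf 7621744) (.leaf 4530225))))) (.node (.node (.node (.node (.leaf 4239472) (.leaf 1457723)) (.node (.leaf 6057588) (.leaf 2840675))) (.node (.node (.leaf 918129) (.leaf 232553)) (.node (.leaf 239193) (.leaf 11715680)))) (.node (.node (.node (.leaf 7178312) (.leaf 865385)) (.node (.leaf 2040432) (.leaf 5906554))) (.node (.node (.leaf 5546104) (.leaf 62041)) (.node (.leaf 3578474) (.leaf 55921)))))))

/-- How a representative arises, part 230. -/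
def tInfoPart230 : Janko1.Tree ℕ := (.node (.node (.node (.node (.node (.node (.leaf 28769) (.leaf 11089512)) (.node (.leaf 26737) (.leaf 999009))) (.node (.node (.leaf 119937) (.leaf 1088633)) (.node (.leaf 1086073) (.leaf 4448884)))) (.node (.node (.node (.leaf 125561) (.leaf 1095257)) (.node (.leaf 4354673) (.leaf 4353121))) (.node (.node (.leaf 4658809) (.leaf 3576408)) (.node (.leaf 4420697) (.leaf 4727401))))) (.node (.node (.node (.node (.leaf 6801504) (.leaf 4702321)) (.node (.leaf 16993) (.leaf 19553))) (.node (.node (.leaf 1865316) (.leaf 903272)) (.node (.leaf 156273) (.leaf 1124961)))) (.node (.node (.node (.leaf 84585) (.leaf 6108268)) (.node (.leaf 4689513) (.leaf 5116016))) (.node (.node (.leaf 1395331) (.leaf 3621968)) (.node (.leaf 6274162) (.leaf 2281581)))))) (.node (.node (.node (.node (.node (.leaf 4736633) (.leaf 4743289)) (.node (.leaf 4427889) (.leaf 7074412))) (.node (.node (.leaf 5639796) (.leaf 7468162)) (.node (.leaf 11109995) (.leaf 9063533)))) (.node (.node (.node (.leaf 44106) (.leaf 426108)) (.node (.leaf 8692322)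 (.leaf 10946165))) (.node (.node (.leaf 9598050) (.leaf 8289389)) (.node (.leaf 7549042) (.leaf 10388605))))) (.node (.node (.node (.node (.leaf 11804780) (.leaf 8849525)) (.node (.leaf 8935507) (.leaf 2091117))) (.node (.node (.leaf 5316211) (.leaf 2462843)) (.node (.leaf 7288452) (.leaf 5619810)))) (.node (.node (.node (.leaf 5837946) (.leaf 3076189)) (.node (.leaf 5116549) (.leaf 2504316))) (.node (.node (.leaf 7186546) (.leaf 8582252)) (.node (.leaf 6159979) (.leaf 5718114)))))))

/-- How a representative arises, part 231. -/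
def tInfoPart231 : Janko1.Tree ℕ := (.node (.node (.node (.node (.node (.node (.leaf 2446948) (.leaf 5944938)) (.node (.leaf 5209213) (.leaf 10868842))) (.node (.node (.leaf 4465242) (.leaf 8128106)) (.node (.leaf 10528373) (.leaf 7848050)))) (.node (.node (.node (.leaf 11044963) (.leaf 8167523)) (.node (.leaf 8378459) (.leaf 2328196))) (.node (.node (.leaf 8051826) (.leaf 1224826)) (.node (.leaf 10741357) (.leaf 10544251))))) (.node (.node (.node (.node (.leaf 723066) (.leaf 7181932)) (.node (.leaf 8944259) (.leaf 10508354))) (.node (.node (.leaf 2454107) (.leaf 2821227)) (.node (.leaf 5557380) (.leaf 6320235)))) (.node (.node (.node (.leaf 10207858) (.leaf 1439877)) (.node (.leaf 1886323) (.leaf 6254707))) (.node (.node (.leaf 2337405) (.leaf 2336893)) (.node (.leaf 5745773) (.leaf 311420)))))) (.node (.node (.node (.node (.node (.leaf 5744741) (.leaf 1321549)) (.node (.leaf 1653868) (.leaf 22136))) (.node (.node (.leaf 8902259) (.leaf 11236973)) (.node (.leaf 5391970) (.leaf 140392)))) (.node (.node (.node (.leaf 4200060) (.leaf 10677877))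 (.node (.leaf 8732779) (.leaf 7394936))) (.node (.node (.leaf 11161197) (.leaf 4151868)) (.node (.leaf 3784296) (.leaf 8689259))))) (.node (.node (.node (.node (.leaf 8407656) (.leaf 4263538)) (.node (.leaf 5321795) (.leaf 1922658))) (.node (.node (.leaf 1926762) (.leaf 5640813)) (.node (.leaf 407676) (.leaf 129640)))) (.node (.node (.node (.leaf 5813876) (.leaf 1830507)) (.node (.leaf 1564285) (.leaf 5386347))) (.node (.node (.leaf 6313083) (.leaf 1504875)) (.node (.leaf 2879611) (.leaf 10460757)))))))

/-- How a representative arises, part 232. -/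
def tInfoPart232 : Janko1.Tree ℕ := (.node (.node (.node (.node (.node (.node (.leaf 10454643) (.leaf 7748208)) (.node (.leaf 5139058) (.leaf 5127794))) (.node (.node (.leaf 2546276) (.leaf 8365189)) (.node (.leaf 8724579) (.leaf 8915061)))) (.node (.node (.node (.leaf 10997331) (.leaf 2609788)) (.node (.leaf 3280488) (.leaf 8356971))) (.node (.node (.leaf 1781892) (.leaf 1333872)) (.node (.leaf 8936563) (.leaf 4592738))))) (.node (.node (.node (.node (.leaf 11228784) (.leaf 606328)) (.node (.leaf 1442939) (.leaf 1601626))) (.node (.node (.leaf 1829501) (.leaf 5912692)) (.node (.leaf 6499928) (.leaf 6211139)))) (.node (.node (.node (.leaf 5321317) (.leaf 8861808)) (.node (.leaf 2820693) (.leaf 1827413))) (.node (.node (.leaf 5967972) (.leaf 6970480)) (.node (.leaf 548964) (.leaf 1964149)))))) (.node (.node (.node (.node (.node (.leaf 9180784) (.leaf 3270768)) (.node (.leaf 10444896) (.leaf 2456179))) (.node (.node (.leaf 8114280) (.leaf 6304355)) (.node (.leaf 5848685) (.leaf 3367544)))) (.node (.node (.node (.leaf 2886779) (.leaf 6019194))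 (.node (.leaf 7103609) (.leaf 4183162))) (.node (.node (.leaf 7375986) (.leaf 6022276)) (.node (.leaf 5523050) (.leaf 3359825))))) (.node (.node (.node (.node (.leaf 4012652) (.leaf 9739882)) (.node (.leaf 5476988) (.leaf 10688100))) (.node (.node (.leaf 9438332) (.leaf 1140853)) (.node (.leaf 9410162) (.leaf 9423466)))) (.node (.node (.node (.leaf 7085161) (.leaf 4419188)) (.node (.leaf 1141357) (.leaf 2246260))) (.node (.node (.leaf 7034985) (.leaf 8744564)) (.node (.leaf 378482) (.leaf 3795058)))))))

/-- How a representative arises, part 233. -/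
def tInfoPart233 : Janko1.Tree ℕ := (.node (.node (.node (.node (.node (.node (.leaf 3259985) (.leaf 3317889)) (.node (.leaf 3930745) (.leaf 1773163))) (.node (.node (.leaf 9689708) (.leaf 7673442)) (.node (.leaf 3950193) (.leaf 2020476)))) (.node (.node (.node (.leaf 11791476) (.leaf 4038257)) (.node (.leaf 5574748) (.leaf 11606634))) (.node (.node (.leaf 11603050) (.leaf 3222121)) (.node (.leaf 3220585) (.leaf 7681652))))) (.node (.node (.node (.node (.leaf 296020) (.leaf 7161977)) (.node (.leaf 6181972) (.leaf 6860937))) (.node (.node (.leaf 6839921) (.leaf 6901329)) (.node (.leaf 5525620) (.leaf 9469044)))) (.node (.node (.node (.leaf 3147881) (.leaf 9235058)) (.node (.leaf 8385140) (.leaf 2870882))) (.node (.node (.leaf 4082289) (.leaf 9754740)) (.node (.leaf 4518020) (.leaf 8818812)))))) (.node (.node (.node (.node (.node (.leaf 2771571) (.leaf 7191145)) (.node (.leaf 2902637) (.leaf 1912949))) (.node (.node (.leaf 2082412) (.leaf 6932585)) (.node (.leaf 11065979) (.leaf 9067117)))) (.node (.node (.node (.leaf 10328685) (.leaf 10329181))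 (.node (.leaf 3651684) (.leaf 8516725))) (.node (.node (.leaf 5491810) (.leaf 8689787)) (.node (.leaf 8514672) (.leaf 8852077))))) (.node (.node (.node (.node (.leaf 8851061) (.leaf 11111539)) (.node (.leaf 11039851) (.leaf 10948693))) (.node (.node (.leaf 10947685) (.leaf 8293493)) (.node (.leaf 8291445) (.leaf 1981556)))) (.node (.node (.node (.leaf 8387179) (.leaf 1927802)) (.node (.leaf 6144587) (.leaf 1840755))) (.node (.node (.leaf 5119085) (.leaf 5119613)) (.node (.leaf 2093117) (.leaf 2093685)))))))

/-- How a representative arises, part 234. -/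
def tInfoPart234 : Janko1.Tree ℕ := (.node (.node (.node (.node (.node (.node (.leaf 104052) (.leaf 392280)) (.node (.leaf 2887291) (.leaf 5530728))) (.node (.node (.leaf 9597536) (.leaf 4068440)) (.node (.leaf 27732) (.leaf 6017652)))) (.node (.node (.node (.leaf 6044285) (.leaf 6041709)) (.node (.leaf 488562) (.leaf 8537176))) (.node (.node (.leaf 11733608) (.leaf 11003491)) (.node (.leaf 5752908) (.leaf 2099300))))) (.node (.node (.node (.node (.leaf 2983520) (.leaf 8724083)) (.node (.leaf 7922288) (.leaf 11127912))) (.node (.node (.leaf 3530864) (.leaf 8697963)) (.node (.leaf 6762616) (.leaf 11030131)))) (.node (.node (.node (.leaf 5699700) (.leaf 3781740)) (.node (.leaf 6253685) (.leaf 1440365))) (.node (.node (.leaf 9000040) (.leaf 2450565)) (.node (.leaf 6121004) (.leaf 2834042)))))) (.node (.node (.node (.node (.node (.leaf 9323592) (.leaf 6575181)) (.node (.leaf 6574173) (.leaf 2338893))) (.node (.node (.leaf 6979689) (.leaf 6959217)) (.node (.leaf 5436514) (.leaf 7072369)))) (.node (.node (.node (.leaf 7005273) (.leaf 4422772)) (.node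 (.leaf 438396) (.leaf 7101529))) (.node (.node (.leaf 2275956) (.leaf 3288169)) (.node (.leaf 3269233) (.leaf 370820))))) (.node (.node (.node (.node (.leaf 2218596) (.leaf 11020402)) (.node (.leaf 9569388) (.leaf 4284002))) (.node (.node (.leaf 3341425) (.leaf 11024498)) (.node (.leaf 3338857) (.leaf 11801692)))) (.node (.node (.node (.leaf 1395811) (.leaf 1778307)) (.node (.leaf 2404963) (.leaf 6988369))) (.node (.node (.leaf 3027565) (.leaf 8583282)) (.node (.leaf 3028093) (.leaf 7043169)))))))

/-- How a representative arises, part 235. -/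
def tInfoPart235 : Janko1.Tree ℕ := (.node (.node (.node (.node (.node (.node (.leaf 7147105) (.leaf 9831020)) (.node (.leaf 9490034) (.leaf 3257953))) (.node (.node (.leaf 9477234) (.leaf 2319450)) (.node (.leaf 1842275) (.leaf 7673970)))) (.node (.node (.node (.leaf 4002921) (.leaf 5471348)) (.node (.leaf 4061297) (.leaf 4040313))) (.node (.node (.leaf 6611546) (.leaf 513636)) (.node (.leaf 7154273) (.leaf 6861425))))) (.node (.node (.node (.node (.leaf 6842489) (.leaf 6906490)) (.node (.leaf 7167601) (.leaf 6840417))) (.node (.node (.leaf 8371324) (.leaf 1886844)) (.node (.leaf 1390197) (.leaf 4068441)))) (.node (.node (.node (.leaf 3249273) (.leaf 3204185)) (.node (.leaf 4130905) (.leaf 4081281))) (.node (.node (.leaf 1115762) (.leaf 4145249)) (.node (.leaf 1507962) (.leaf 2289717)))))) (.node (.node (.node (.node (.node (.leaf 10898060) (.leaf 1273429)) (.node (.leaf 7199857) (.leaf 7695476))) (.node (.node (.leaf 1461371) (.leaf 7911010)) (.node (.leaf 7412324) (.leaf 6933617)))) (.node (.node (.node (.leaf 782921) (.leaf 348793)) (.node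 (.leaf 777337) (.leaf 62040))) (.node (.node (.leaf 338041) (.leaf 442473)) (.node (.leaf 435833) (.leaf 96880))))) (.node (.node (.node (.node (.leaf 2242684) (.leaf 426105)) (.node (.leaf 8372840) (.leaf 4885121))) (.node (.node (.leaf 4151865) (.leaf 4439162)) (.node (.leaf 5789816) (.leaf 3843184)))) (.node (.node (.node (.leaf 4219505) (.leaf 4215409)) (.node (.leaf 4905065) (.leaf 379505))) (.node (.node (.leaf 2175616) (.leaf 53352)) (.node (.leaf 372321) (.leaf 3888234)))))))

/-- How a representative arises, part 236. -/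
def tInfoPart236 : Janko1.Tree ℕ := (.node (.node (.node (.node (.node (.node (.leaf 9836656) (.leaf 2268264)) (.node (.leaf 845937) (.leaf 390769))) (.node (.node (.leaf 6076008) (.leaf 393825)) (.node (.leaf 2524781) (.leaf 7385160)))) (.node (.node (.node (.leaf 6018684) (.leaf 200834)) (.node (.leaf 3833448) (.leaf 4951649))) (.node (.node (.leaf 5336178) (.leaf 8842344)) (.node (.leaf 4782713) (.leaf 10130032))))) (.node (.node (.node (.node (.leaf 4827776) (.leaf 2306660)) (.node (.leaf 5237330) (.leaf 3316848))) (.node (.node (.leaf 2367100) (.leaf 6978128)) (.node (.leaf 3341944) (.leaf 692337)))) (.node (.node (.node (.leaf 1776261) (.leaf 4289625)) (.node (.leaf 3569266) (.leaf 4287593))) (.node (.node (.leaf 4858993) (.leaf 1775213)) (.node (.leaf 4856937) (.leaf 10443880)))))) (.node (.node (.node (.node (.node (.leaf 614001) (.leaf 8080000)) (.node (.leaf 603761) (.leaf 5376624))) (.node (.node (.leaf 700018) (.leaf 2965098)) (.node (.leaf 11597392) (.leaf 11228293)))) (.node (.node (.node (.leaf 10668109) (.leaf 8343683)) (.node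 (.leaf 7508596) (.leaf 10809426))) (.node (.node (.leaf 9806962) (.leaf 5732442)) (.node (.leaf 10511491) (.leaf 8228957))))) (.node (.node (.node (.node (.leaf 7167602) (.leaf 10878058)) (.node (.leaf 11107963) (.leaf 10476139))) (.node (.node (.leaf 5931114) (.leaf 5630077)) (.node (.leaf 11618924) (.leaf 6265459)))) (.node (.node (.node (.leaf 1179245) (.leaf 8285306)) (.node (.leaf 6216827) (.leaf 1178237))) (.node (.node (.leaf 146028) (.leaf 1834098)) (.node (.leaf 5420651) (.leaf 7594620)))))))

/-- How a representative arises, part 237. -/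
def tInfoPart237 : Janko1.Tree ℕ := (.node (.node (.node (.node (.node (.node (.leaf 5534845) (.leaf 1444971)) (.node (.leaf 6368381) (.leaf 8794194))) (.node (.node (.leaf 5373547) (.leaf 6309499)) (.node (.leaf 9630836) (.leaf 11023477)))) (.node (.node (.node (.leaf 10468973) (.leaf 9731684)) (.node (.leaf 8943219) (.leaf 8174715))) (.node (.node (.leaf 10467429) (.leaf 11008107)) (.node (.leaf 8981637) (.leaf 6698106))))) (.node (.node (.node (.node (.leaf 10802797) (.leaf 4865618)) (.node (.leaf 6301290) (.leaf 7168628))) (.node (.node (.leaf 8380011) (.leaf 11724924)) (.node (.leaf 1380458) (.leaf 5327989)))) (.node (.node (.node (.leaf 1834619) (.leaf 1835621)) (.node (.leaf 9898580) (.leaf 2827869))) (.node (.node (.leaf 5326461) (.leaf 3115122)) (.node (.leaf 5007997) (.leaf 9302122)))))) (.node (.node (.node (.node (.node (.leaf 5836373) (.leaf 300124)) (.node (.leaf 2946685) (.leaf 9034346))) (.node (.node (.leaf 11691652) (.leaf 6318195)) (.node (.leaf 1951349) (.leaf 1886843)))) (.node (.node (.node (.leaf 5389420) (.leaf 759905))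 (.node (.leaf 342633) (.leaf 758353))) (.node (.node (.leaf 441977) (.leaf 7647344)) (.node (.leaf 4354162) (.leaf 827513))))) (.node (.node (.node (.node (.leaf 4244056) (.leaf 21628)) (.node (.leaf 8515704) (.leaf 4166241))) (.node (.node (.leaf 2096720) (.leaf 4205169)) (.node (.leaf 4202097) (.leaf 5551208)))) (.node (.node (.node (.leaf 796257) (.leaf 385649)) (.node (.leaf 372857) (.leaf 4190312))) (.node (.node (.leaf 9662056) (.leaf 401529)) (.node (.leaf 811617) (.leaf 404593)))))))

/-- How a representative arises, part 238. -/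
def tInfoPart238 : Janko1.Tree ℕ := (.node (.node (.node (.node (.node (.node (.leaf 8723072) (.leaf 4204624)) (.node (.leaf 33898) (.leaf 7174768))) (.node (.node (.leaf 2037320) (.leaf 2650749)) (.node (.leaf 5502568) (.leaf 4240465)))) (.node (.node (.node (.leaf 7112300) (.leaf 4965505)) (.node (.leaf 4948065) (.leaf 10608752))) (.node (.node (.leaf 4767849) (.leaf 875128)) (.node (.leaf 4757097) (.leaf 4553816))))) (.node (.node (.node (.node (.leaf 2545788) (.leaf 4918898)) (.node (.leaf 2983032) (.leaf 2607732))) (.node (.node (.leaf 8227440) (.leaf 1556608)) (.node (.leaf 3529832) (.leaf 499833)))) (.node (.node (.node (.leaf 559185) (.leaf 701561)) (.node (.leaf 556665) (.leaf 552569))) (.node (.node (.leaf 549489) (.leaf 7215180)) (.node (.leaf 7878760) (.leaf 2912376)))))) (.node (.node (.node (.node (.node (.leaf 4281985) (.leaf 1392741)) (.node (.leaf 11119672) (.leaf 927864))) (.node (.node (.leaf 3011168) (.leaf 2470507)) (.node (.leaf 2841219) (.leaf 6754416)))) (.node (.node (.node (.leaf 611433) (.leaf 3554408)) (.node (.leaf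 601697) (.leaf 5076080))) (.node (.node (.leaf 1216626) (.leaf 2966122)) (.node (.leaf 731241) (.leaf 736881))))) (.node (.node (.node (.node (.leaf 3581024) (.leaf 695402)) (.node (.leaf 5163120) (.leaf 10333304))) (.node (.node (.leaf 10872941) (.leaf 7065210)) (.node (.leaf 10482307) (.leaf 10804322)))) (.node (.node (.node (.leaf 7179370) (.leaf 6023284)) (.node (.leaf 8139387) (.leaf 7615580))) (.node (.node (.leaf 11702898) (.leaf 11108979)) (.node (.leaf 11036299) (.leaf 10954869)))))))

/-- How a representative arises, part 239. -/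
def tInfoPart239 : Janko1.Tree ℕ := (.node (.node (.node (.node (.node (.node (.leaf 8737907) (.leaf 10883186)) (.node (.leaf 6263419) (.leaf 3657852))) (.node (.node (.leaf 2455611) (.leaf 3067997)) (.node (.leaf 1705066) (.leaf 3066997)))) (.node (.node (.node (.leaf 2437746) (.leaf 5381235)) (.node (.leaf 2083957) (.leaf 7486556))) (.node (.node (.leaf 69234) (.leaf 5421147)) (.node (.leaf 5849716) (.leaf 5219949))))) (.node (.node (.node (.node (.leaf 1443955) (.leaf 8712820)) (.node (.leaf 7520890) (.leaf 2020988))) (.node (.node (.leaf 6049901) (.leaf 235626)) (.node (.leaf 10573444) (.leaf 4140668)))) (.node (.node (.node (.leaf 1883268) (.leaf 11093581)) (.node (.leaf 11472490) (.leaf 10545251))) (.node (.node (.leaf 8162925) (.leaf 10475635)) (.node (.leaf 8175211) (.leaf 8389739)))))) (.node (.node (.node (.node (.node (.leaf 10450539) (.leaf 10734189)) (.node (.leaf 7713892) (.leaf 8080989))) (.node (.node (.leaf 6287978) (.leaf 11047011)) (.node (.leaf 8934523) (.leaf 8099450)))) (.node (.node (.node (.leaf 2458733) (.leaf 9387626))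 (.node (.leaf 2833019) (.leaf 6259325))) (.node (.node (.leaf 1448053) (.leaf 5946476)) (.node (.leaf 1508467) (.leaf 848498))))) (.node (.node (.node (.node (.leaf 5325931) (.leaf 8820852)) (.node (.leaf 2515563) (.leaf 11820652))) (.node (.node (.leaf 2884731) (.leaf 10604668)) (.node (.leaf 10527339) (.leaf 6768)))) (.node (.node (.node (.leaf 11112547) (.leaf 10489451)) (.node (.leaf 6073448) (.leaf 125024))) (.node (.node (.leaf 8229477) (.leaf 11064411)) (.node (.leaf 3780210) (.leaf 5736496)))))))

/-- How a representative arises, part 240. -/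
def tInfoPart240 : Janko1.Tree ℕ := (.node (.node (.node (.node (.node (.node (.leaf 7380576) (.leaf 2170948)) (.node (.leaf 9501800) (.leaf 5750368))) (.node (.node (.leaf 11884664) (.leaf 10606693)) (.node (.leaf 11169389) (.leaf 8182891)))) (.node (.node (.node (.leaf 6462069) (.leaf 5436515)) (.node (.leaf 9817192) (.leaf 16992))) (.node (.node (.leaf 7480432) (.leaf 6313563)) (.node (.leaf 6080624) (.leaf 1181805))))) (.node (.node (.node (.node (.leaf 5322339) (.leaf 5745768)) (.node (.leaf 6006916) (.leaf 3838080))) (.node (.node (.leaf 5756528) (.leaf 11902056)) (.node (.leaf 8837232) (.leaf 8373877)))) (.node (.node (.node (.leaf 8924797) (.leaf 10520171)) (.node (.leaf 1586802) (.leaf 600696))) (.node (.node (.leaf 2755680) (.leaf 10480739)) (.node (.leaf 8732243) (.leaf 3222122)))))) (.node (.node (.node (.node (.node (.leaf 5317744) (.leaf 8436853)) (.node (.leaf 6965840) (.leaf 9218160))) (.node (.node (.leaf 5333104) (.leaf 11601000)) (.node (.leaf 8984693) (.leaf 926322)))) (.node (.node (.node (.leaf 2670696) (.leaf 8847992))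 (.node (.leaf 6143587) (.leaf 10101368))) (.node (.node (.leaf 6158453) (.leaf 11238520)) (.node (.leaf 5378683) (.leaf 6303363))))) (.node (.node (.node (.node (.leaf 6504032) (.leaf 5330053)) (.node (.leaf 3311216) (.leaf 6898282))) (.node (.node (.leaf 6974056) (.leaf 2949741)) (.node (.leaf 5838453) (.leaf 6209651)))) (.node (.node (.node (.leaf 4021308) (.leaf 11608696)) (.node (.leaf 3780721) (.leaf 11769964))) (.node (.node (.leaf 3793521) (.leaf 3769985)) (.node (.leaf 3464289) (.leaf 3461217)))))))

/-- How a representative arises, part 241. -/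
def tInfoPart241 : Janko1.Tree ℕ := (.node (.node (.node (.node (.node (.node (.leaf 353906) (.leaf 425068)) (.node (.leaf 8508538) (.leaf 8512578))) (.node (.node (.leaf 9672804) (.leaf 7384681)) (.node (.leaf 7359593) (.leaf 6712433)))) (.node (.node (.node (.leaf 6693481) (.leaf 6692465)) (.node (.leaf 6684257) (.leaf 6698561))) (.node (.node (.leaf 3433593) (.leaf 3384921)) (.node (.leaf 7295074) (.leaf 9415804))))) (.node (.node (.node (.node (.leaf 1707124) (.leaf 11760762)) (.node (.leaf 3876985) (.leaf 10818676))) (.node (.node (.leaf 3825273) (.leaf 4172418)) (.node (.leaf 4214900) (.leaf 10594938)))) (.node (.node (.node (.leaf 5510250) (.leaf 2773075)) (.node (.leaf 7444057) (.leaf 11010138))) (.node (.node (.leaf 7344724) (.leaf 5792380)) (.node (.leaf 3868284) (.leaf 6817905)))))) (.node (.node (.node (.node (.node (.leaf 8763508) (.leaf 9737340)) (.node (.leaf 6782073) (.leaf 6800497))) (.node (.node (.leaf 8188522) (.leaf 3650673)) (.node (.leaf 3666017) (.leaf 5985372)))) (.node (.node (.node (.leaf 3639905) (.leaf 567412)) (.node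 (.leaf 3612281) (.leaf 8368252))) (.node (.node (.leaf 3604561) (.leaf 3578473)) (.node (.leaf 3595385) (.leaf 10765924))))) (.node (.node (.node (.node (.leaf 6765177) (.leaf 1901676)) (.node (.leaf 7348841) (.leaf 10856556))) (.node (.node (.leaf 7665780) (.leaf 4726898)) (.node (.leaf 3512441) (.leaf 3548777)))) (.node (.node (.node (.leaf 4315740) (.leaf 3749993)) (.node (.leaf 10737268) (.leaf 3697737))) (.node (.node (.leaf 3894900) (.leaf 318056)) (.node (.leaf 1913450) (.leaf 8509565)))))))

/-- How a representative arises, part 242. -/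
def tInfoPart242 : Janko1.Tree ℕ := (.node (.node (.node (.node (.node (.node (.leaf 8508541) (.leaf 2416248)) (.node (.leaf 425568) (.leaf 9699432))) (.node (.node (.leaf 9056357) (.leaf 11064955)) (.node (.leaf 8695923) (.leaf 9603144)))) (.node (.node (.node (.leaf 3961980) (.leaf 463962)) (.node (.leaf 5452404) (.leaf 478322))) (.node (.node (.leaf 10396269) (.leaf 8396427)) (.node (.leaf 7622784) (.leaf 5107837))))) (.node (.node (.node (.node (.leaf 1832555) (.leaf 8704112)) (.node (.leaf 5936749) (.leaf 2224748))) (.node (.node (.leaf 3070581) (.leaf 2509931)) (.node (.leaf 2708573) (.leaf 2165868)))) (.node (.node (.node (.leaf 4038768) (.leaf 2823795)) (.node (.leaf 7228024) (.leaf 1513595))) (.node (.node (.leaf 8163957) (.leaf 5551700)) (.node (.leaf 10539581) (.leaf 3331666)))))) (.node (.node (.node (.node (.node (.leaf 7917152) (.leaf 11031147)) (.node (.leaf 6286952) (.leaf 4627552))) (.node (.node (.leaf 9004144) (.leaf 11094653)) (.node (.leaf 8223320) (.leaf 1545832)))) (.node (.node (.node (.leaf 11295349) (.leaf 9326688))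 (.node (.leaf 10735733) (.leaf 8083557))) (.node (.node (.leaf 8084061) (.leaf 6243952)) (.node (.leaf 1449077) (.leaf 1452131))))) (.node (.node (.node (.node (.leaf 5436021) (.leaf 5433981)) (.node (.leaf 2461301) (.leaf 2287716))) (.node (.node (.leaf 6202499) (.leaf 6260813)) (.node (.leaf 2517603) (.leaf 2888283)))) (.node (.node (.node (.leaf 6568069) (.leaf 6568565)) (.node (.leaf 6258291) (.leaf 2331253))) (.node (.node (.leaf 8266320) (.leaf 5737597)) (.node (.leaf 11474040) (.leaf 1503851)))))))

/-- How a representative arises, part 243. -/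
def tInfoPart243 : Janko1.Tree ℕ := (.node (.node (.node (.node (.node (.node (.leaf 1894531) (.leaf 1313893)) (.node (.leaf 9371224) (.leaf 3866745))) (.node (.node (.leaf 2508924) (.leaf 3484257)) (.node (.leaf 125564) (.leaf 8561786)))) (.node (.node (.node (.leaf 4244612) (.leaf 3460705)) (.node (.leaf 10841700) (.leaf 9846900))) (.node (.node (.leaf 2202210) (.leaf 7644252)) (.node (.leaf 7606362) (.leaf 6641273))))) (.node (.node (.node (.node (.leaf 7371857) (.leaf 4198004)) (.node (.leaf 7385721) (.leaf 3816538))) (.node (.node (.leaf 7363161) (.leaf 7609964)) (.node (.leaf 7360625) (.leaf 7377505)))) (.node (.node (.node (.leaf 3760721) (.leaf 3433081)) (.node (.leaf 3384401) (.leaf 7295618))) (.node (.node (.leaf 1773683) (.leaf 11749484)) (.node (.leaf 5666908) (.leaf 7431769)))))) (.node (.node (.node (.node (.node (.leaf 4272738) (.leaf 6728809)) (.node (.leaf 6715001) (.leaf 7416905))) (.node (.node (.leaf 6721657) (.leaf 6155874)) (.node (.leaf 8932954) (.leaf 208516)))) (.node (.node (.node (.leaf 7331449) (.leaf 6810209)) (.node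 (.leaf 2891378) (.leaf 6808185))) (.node (.node (.leaf 7305793) (.leaf 7321697)) (.node (.leaf 8629380) (.leaf 2633852))))) (.node (.node (.node (.node (.leaf 284268) (.leaf 1492602)) (.node (.leaf 3669113) (.leaf 10917476))) (.node (.node (.leaf 3644537) (.leaf 3641457)) (.node (.leaf 3658865) (.leaf 5151858)))) (.node (.node (.node (.leaf 7236724) (.leaf 1400909)) (.node (.leaf 3862636) (.leaf 11587194))) (.node (.node (.leaf 2151012) (.leaf 10356858)) (.node (.leaf 8389740) (.leaf 9643124)))))))

/-- How a representative arises, part 244. -/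
def tInfoPart244 : Janko1.Tree ℕ := (.node (.node (.node (.node (.node (.node (.leaf 10367610) (.leaf 7294049)) (.node (.leaf 3620977) (.leaf 3756121))) (.node (.node (.leaf 9990250) (.leaf 8353380)) (.node (.leaf 3740793) (.leaf 1841787)))) (.node (.node (.node (.leaf 4469873) (.leaf 4552809)) (.node (.leaf 7324784) (.leaf 5683800))) (.node (.node (.leaf 3973226) (.leaf 85626)) (.node (.leaf 4490857) (.leaf 4615801))))) (.node (.node (.node (.node (.leaf 4490361) (.leaf 11053664)) (.node (.leaf 193641) (.leaf 2389632))) (.node (.node (.leaf 951401) (.leaf 2473060)) (.node (.leaf 949857) (.leaf 264273)))) (.node (.node (.node (.leaf 8342136) (.leaf 1717872)) (.node (.leaf 7103058) (.leaf 1459835))) (.node (.node (.leaf 2471011) (.leaf 8301184)) (.node (.leaf 2221117) (.leaf 4642393)))))) (.node (.node (.node (.node (.node (.leaf 1394811) (.leaf 229505)) (.node (.leaf 2225236) (.leaf 9884272))) (.node (.node (.leaf 5958754) (.leaf 61537)) (.node (.leaf 8052848) (.leaf 1021041)))) (.node (.node (.node (.leaf 9152112) (.leaf 142441)) (.node (.leaf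 1089137) (.leaf 3154544))) (.node (.node (.leaf 9112136) (.leaf 830072)) (.node (.leaf 4669545) (.leaf 2880112))))) (.node (.node (.node (.node (.leaf 4345465) (.leaf 4414585)) (.node (.leaf 8059000) (.leaf 1043065))) (.node (.node (.leaf 563308) (.leaf 6920304)) (.node (.leaf 97905) (.leaf 1125489)))) (.node (.node (.node (.leaf 146537) (.leaf 5219424)) (.node (.leaf 9122424) (.leaf 1057889))) (.node (.node (.leaf 4689009) (.leaf 4698185)) (.node (.leaf 3826292) (.leaf 2840171)))))))

/-- How a representative arises, part 245. -/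
def tInfoPart245 : Janko1.Tree ℕ := (.node (.node (.node (.node (.node (.node (.leaf 2888824) (.leaf 1972853)) (.node (.leaf 11306064) (.leaf 2825336))) (.node (.node (.leaf 9562226) (.leaf 3996794)) (.node (.leaf 10705509) (.leaf 8731258)))) (.node (.node (.node (.leaf 11070035) (.leaf 145026)) (.node (.leaf 8474180) (.leaf 5435004))) (.node (.node (.leaf 4145778) (.leaf 8730235)) (.node (.leaf 8406138) (.leaf 9392244))))) (.node (.node (.node (.node (.leaf 11193965) (.leaf 124028)) (.node (.leaf 8801898) (.leaf 4245100))) (.node (.node (.leaf 2643562) (.leaf 8254029)) (.node (.leaf 1254517) (.leaf 6308963)))) (.node (.node (.node (.leaf 5692029) (.leaf 9685068)) (.node (.leaf 5313635) (.leaf 6254203))) (.node (.node (.leaf 9857122) (.leaf 10568788)) (.node (.leaf 1629285) (.leaf 11748980)))))) (.node (.node (.node (.node (.node (.leaf 4406396) (.leaf 6161003)) (.node (.leaf 5991546) (.leaf 1823347))) (.node (.node (.leaf 11118187) (.leaf 10483787)) (.node (.leaf 8946301) (.leaf 9043066)))) (.node (.node (.node (.leaf 10492029) (.leaf 8946829))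 (.node (.leaf 8132219) (.leaf 1162354))) (.node (.node (.leaf 11037299) (.leaf 9259130)) (.node (.leaf 8478829) (.leaf 3442290))))) (.node (.node (.node (.node (.leaf 10512491) (.leaf 5382275)) (.node (.leaf 6319739) (.leaf 1889909))) (.node (.node (.leaf 1497699) (.leaf 2880117)) (.node (.leaf 5374061) (.leaf 7185508)))) (.node (.node (.node (.leaf 10177626) (.leaf 5769316)) (.node (.leaf 10401386) (.leaf 11854964))) (.node (.node (.leaf 2028149) (.leaf 4454012)) (.node (.leaf 11064410) (.leaf 3017333)))))))

/-- How a representative arises, part 246. -/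
def tInfoPart246 : Janko1.Tree ℕ := (.node (.node (.node (.node (.node (.node (.leaf 1833083) (.leaf 10115170)) (.node (.leaf 4448881) (.leaf 5440112))) (.node (.node (.leaf 4563569) (.leaf 3929208)) (.node (.leaf 4605049) (.leaf 5388392)))) (.node (.node (.node (.leaf 4511833) (.leaf 8436320)) (.node (.leaf 10913376) (.leaf 3637868))) (.node (.node (.leaf 967257) (.leaf 296017)) (.node (.leaf 941657) (.leaf 267881))))) (.node (.node (.node (.node (.leaf 4583553) (.leaf 10561120)) (.node (.leaf 11680360) (.leaf 1845875))) (.node (.node (.leaf 4529777) (.leaf 4634745)) (.node (.leaf 10523752) (.leaf 4641393)))) (.node (.node (.node (.leaf 2407491) (.leaf 1906272)) (.node (.leaf 8809568) (.leaf 2642544))) (.node (.node (.leaf 184953) (.leaf 933505)) (.node (.leaf 2574976) (.leaf 968817)))))) (.node (.node (.node (.node (.node (.leaf 299129) (.leaf 9290336)) (.node (.leaf 1006201) (.leaf 51289))) (.node (.node (.leaf 44105) (.leaf 119417)) (.node (.leaf 1085545) (.leaf 133201)))) (.node (.node (.node (.leaf 5710932) (.leaf 125025)) (.node (.leaf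 8154720) (.leaf 4672097))) (.node (.node (.leaf 10051672) (.leaf 6395472)) (.node (.leaf 1054824) (.leaf 4703857))))) (.node (.node (.node (.node (.leaf 11161192) (.leaf 4701817)) (.node (.leaf 1042529) (.leaf 10276968))) (.node (.node (.leaf 1052785) (.leaf 11408976)) (.node (.leaf 6707328) (.leaf 8313)))) (.node (.node (.node (.leaf 155721) (.leaf 3399296)) (.node (.leaf 84089) (.leaf 7359596))) (.node (.node (.leaf 1059385) (.leaf 1329261)) (.node (.leaf 2343005) (.leaf 7996536)))))))

/-- How a representative arises, part 247. -/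
def tInfoPart247 : Janko1.Tree ℕ := (.node (.node (.node (.node (.node (.node (.leaf 4381817) (.leaf 9047160)) (.node (.leaf 6221930) (.leaf 11110499))) (.node (.node (.leaf 3995770) (.leaf 7471716)) (.node (.leaf 1739354) (.leaf 10364541)))) (.node (.node (.node (.leaf 7507578) (.leaf 8332412)) (.node (.leaf 2002036) (.leaf 3744372))) (.node (.node (.leaf 10520700) (.leaf 4146794)) (.node (.leaf 11769468) (.leaf 5640300))))) (.node (.node (.node (.node (.leaf 8881269) (.leaf 4433508)) (.node (.leaf 6311027) (.leaf 6209147))) (.node (.node (.leaf 1507459) (.leaf 5668482)) (.node (.leaf 1897027) (.leaf 5891186)))) (.node (.node (.node (.leaf 9454724) (.leaf 9857658)) (.node (.leaf 10817642) (.leaf 1833579))) (.node (.node (.leaf 5264509) (.leaf 5482579)) (.node (.leaf 11615876) (.leaf 5783146)))))) (.node (.node (.node (.node (.node (.leaf 5403756) (.leaf 5265021)) (.node (.leaf 9859172) (.leaf 6090372))) (.node (.node (.leaf 4512866) (.leaf 8083554)) (.node (.leaf 8800876) (.leaf 3547762)))) (.node (.node (.node (.leaf 568932) (.leaf 2387076))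 (.node (.leaf 9601644) (.leaf 3067994))) (.node (.node (.leaf 8368748) (.leaf 8024682)) (.node (.leaf 8127565) (.leaf 3443290))))) (.node (.node (.node (.node (.leaf 8125037) (.leaf 1174634)) (.node (.leaf 7234684) (.leaf 9260146))) (.node (.node (.leaf 7746146) (.leaf 8128109)) (.node (.leaf 10441323) (.leaf 11336277)))) (.node (.node (.node (.leaf 8969858) (.leaf 8909891)) (.node (.leaf 6770810) (.leaf 6216307))) (.node (.node (.leaf 6305885) (.leaf 6264419)) (.node (.leaf 6160483) (.leaf 8497780)))))))

/-- How a representative arises, part 248. -/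
def tInfoPart248 : Janko1.Tree ℕ := (.node (.node (.node (.node (.node (.node (.leaf 11141226) (.leaf 1438307)) (.node (.leaf 4886082) (.leaf 1822819))) (.node (.node (.leaf 5472875) (.leaf 1382013)) (.node (.leaf 11721844) (.leaf 1383549)))) (.node (.node (.node (.leaf 2464323) (.leaf 6144588)) (.node (.leaf 10550883) (.leaf 8733299))) (.node (.node (.leaf 8396923) (.leaf 10995827)) (.node (.leaf 10518147) (.leaf 11271797))))) (.node (.node (.node (.node (.leaf 11058304) (.leaf 11194989)) (.node (.leaf 8928371) (.leaf 8256101))) (.node (.node (.leaf 97908) (.leaf 10455147)) (.node (.leaf 4310138) (.leaf 8817261)))) (.node (.node (.node (.leaf 2276469) (.leaf 6201971)) (.node (.leaf 1257589) (.leaf 1902699))) (.node (.node (.leaf 3710576) (.leaf 2518147)) (.node (.leaf 7112828) (.leaf 1683048)))))) (.node (.node (.node (.node (.node (.leaf 6524493) (.leaf 10644584)) (.node (.leaf 5386851) (.leaf 6415469))) (.node (.node (.leaf 5577341) (.leaf 1505379)) (.node (.leaf 11012696) (.leaf 6257787)))) (.node (.node (.node (.leaf 2635893) (.leaf 2814595))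 (.node (.leaf 11040387) (.leaf 10495085))) (.node (.node (.leaf 9155184) (.leaf 5239920)) (.node (.leaf 10414688) (.leaf 10495597))))) (.node (.node (.node (.node (.leaf 11050613) (.leaf 10378368)) (.node (.leaf 11331680) (.leaf 9030765))) (.node (.node (.leaf 2893424) (.leaf 4985946)) (.node (.leaf 10847365) (.leaf 8181851)))) (.node (.node (.node (.leaf 11300968) (.leaf 9031293)) (.node (.leaf 8901227) (.leaf 10847845))) (.node (.node (.leaf 8146019) (.leaf 5967476)) (.node (.leaf 6913632) (.leaf 5377149)))))))

/-- How a representative arises, part 249. -/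
def tInfoPart249 : Janko1.Tree ℕ := (.node (.node (.node (.node (.node (.node (.leaf 1895555) (.leaf 3215480)) (.node (.leaf 1890925) (.leaf 2509443))) (.node (.node (.leaf 2048108) (.leaf 1164912)) (.node (.leaf 1831515) (.leaf 1891429)))) (.node (.node (.node (.leaf 5379195) (.leaf 3018349)) (.node (.leaf 7845480) (.leaf 805480))) (.node (.node (.leaf 7806064) (.leaf 742000)) (.node (.leaf 5064829) (.leaf 63100))))) (.node (.node (.node (.node (.leaf 7335002) (.leaf 5487210)) (.node (.leaf 7616092) (.leaf 7027297))) (.node (.node (.leaf 11670100) (.leaf 7100521)) (.node (.leaf 7114865) (.leaf 3297873)))) (.node (.node (.node (.leaf 10649196) (.leaf 3985017)) (.node (.leaf 11050610) (.leaf 3977841))) (.node (.node (.leaf 3731034) (.leaf 4373100)) (.node (.leaf 3725938) (.leaf 2021986)))))) (.node (.node (.node (.node (.node (.leaf 1847923) (.leaf 9689220)) (.node (.leaf 7141433) (.leaf 7147641))) (.node (.node (.leaf 7034465) (.leaf 9583732)) (.node (.leaf 7038553) (.leaf 3887737)))) (.node (.node (.node (.leaf 3889793) (.leaf 3946585)) (.node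 (.leaf 9513562) (.leaf 7701106))) (.node (.node (.leaf 5895252) (.leaf 444028)) (.node (.leaf 3360865) (.leaf 10968692))))) (.node (.node (.node (.node (.leaf 3182713) (.leaf 4051057)) (.node (.leaf 4029049) (.leaf 3238009))) (.node (.node (.leaf 4102753) (.leaf 4682370)) (.node (.leaf 10227290) (.leaf 4142196)))) (.node (.node (.node (.leaf 6848089) (.leaf 5575268)) (.node (.leaf 7173713) (.leaf 10750068))) (.node (.node (.leaf 6918225) (.leaf 11232338)) (.node (.leaf 9878140) (.leaf 7204457)))))))

/-- How a representative arises, part 250. -/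
def tInfoPart250 : Janko1.Tree ℕ := (.node (.node (.node (.node (.node (.node (.leaf 4517508) (.leaf 8818276)) (.node (.leaf 3192433) (.leaf 2806898))) (.node (.node (.leaf 4081761) (.leaf 3786860)) (.node (.leaf 1843309) (.leaf 3247209)))) (.node (.node (.node (.leaf 1981029) (.leaf 7199345)) (.node (.leaf 1460347) (.leaf 9143930))) (.node (.node (.leaf 1981557) (.leaf 6932089)) (.node (.leaf 5437050) (.leaf 8731771))))) (.node (.node (.node (.node (.leaf 8937579) (.leaf 10919549)) (.node (.leaf 8547445) (.leaf 10920053))) (.node (.node (.leaf 11636840) (.leaf 10985061)) (.node (.leaf 10981997) (.leaf 545392)))) (.node (.node (.node (.leaf 3652188) (.leaf 4293736)) (.node (.leaf 10982533) (.leaf 8329317))) (.node (.node (.leaf 8351323) (.leaf 5482104)) (.node (.leaf 2151013) (.leaf 6017148)))))) (.node (.node (.node (.node (.node (.leaf 2887795) (.leaf 5322875)) (.node (.leaf 9526880) (.leaf 3934816))) (.node (.node (.leaf 6001781) (.leaf 2823283)) (.node (.leaf 2121330) (.leaf 6210691)))) (.node (.node (.node (.leaf 1761373) (.leaf 5978200))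 (.node (.leaf 6094965) (.leaf 2536576))) (.node (.node (.leaf 1831019) (.leaf 10870824)) (.node (.leaf 3466296) (.leaf 8927843))))) (.node (.node (.node (.node (.leaf 6711928) (.leaf 11402352)) (.node (.leaf 3403888) (.leaf 1435728))) (.node (.node (.leaf 8159872) (.leaf 8744565)) (.node (.leaf 11100267) (.leaf 10056824)))) (.node (.node (.node (.leaf 8687677) (.leaf 8685173)) (.node (.leaf 5753988) (.leaf 8183419))) (.node (.node (.leaf 8397931) (.leaf 11063379)) (.node (.leaf 10996339) (.leaf 992888)))))))

/-- How a representative arises, part 251. -/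
def tInfoPart251 : Janko1.Tree ℕ := (.node (.node (.node (.node (.node (.node (.leaf 2306156) (.leaf 5478461)) (.node (.leaf 3492968) (.leaf 264828))) (.node (.node (.leaf 6177364) (.leaf 5479021)) (.node (.leaf 5481069) (.leaf 1389168)))) (.node (.node (.node (.leaf 2773074) (.leaf 2400349)) (.node (.leaf 2398837) (.leaf 6302331))) (.node (.node (.leaf 1096832) (.leaf 11192432)) (.node (.leaf 885354) (.leaf 3032144))))) (.node (.node (.node (.node (.leaf 7945816) (.leaf 1841267)) (.node (.leaf 5819004) (.leaf 7070833))) (.node (.node (.leaf 4377204) (.leaf 6962793)) (.node (.leaf 2218084) (.leaf 6088818)))) (.node (.node (.node (.leaf 7117924) (.leaf 9704050)) (.node (.leaf 7002729) (.leaf 7115385))) (.node (.node (.leaf 11891322) (.leaf 9535604)) (.node (.leaf 3297377) (.leaf 10515564)))))) (.node (.node (.node (.node (.node (.leaf 5588586) (.leaf 11051130)) (.node (.leaf 3351161) (.leaf 6991441))) (.node (.node (.leaf 9830524) (.leaf 9456754)) (.node (.leaf 3086453) (.leaf 6998625)))) (.node (.node (.node (.leaf 10705508) (.leaf 11655788))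 (.node (.leaf 8522866) (.leaf 1454187))) (.node (.node (.leaf 3299937) (.leaf 3937905)) (.node (.leaf 1712749) (.leaf 7686778))))) (.node (.node (.node (.node (.leaf 3363417) (.leaf 4002417)) (.node (.leaf 3370625) (.leaf 6976082))) (.node (.node (.leaf 5970556) (.leaf 4052073)) (.node (.leaf 10299010) (.leaf 4103241)))) (.node (.node (.node (.leaf 3211377) (.leaf 2077764)) (.node (.leaf 10015330) (.leaf 3818604))) (.node (.node (.leaf 7182961) (.leaf 6870105)) (.node (.leaf 6850673) (.leaf 11509346)))))))

/-- How a representative arises, part 252. -/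
def tInfoPart252 : Janko1.Tree ℕ := (.node (.node (.node (.node (.node (.node (.leaf 10614892) (.leaf 6863985)) (.node (.leaf 7215177) (.leaf 6925953))) (.node (.node (.leaf 7228529) (.leaf 6900857)) (.node (.leaf 11018364) (.leaf 1568858)))) (.node (.node (.node (.leaf 10897516) (.leaf 8676980)) (.node (.leaf 10740844) (.leaf 11690596))) (.node (.node (.leaf 1040506) (.leaf 9484892)) (.node (.leaf 4144737) (.leaf 1461891))))) (.node (.node (.node (.node (.leaf 3181154) (.leaf 7441484)) (.node (.leaf 3185258) (.leaf 1397883))) (.node (.node (.leaf 2680434) (.leaf 6157916)) (.node (.leaf 2684522) (.leaf 6933113)))) (.node (.node (.node (.leaf 370297) (.leaf 5658754)) (.node (.leaf 353905) (.leaf 433281))) (.node (.node (.leaf 425569) (.leaf 2368624)) (.node (.leaf 4167801) (.leaf 4868737)))))) (.node (.node (.node (.node (.node (.leaf 4484192) (.leaf 4221041)) (.node (.leaf 2305632) (.leaf 404052))) (.node (.node (.leaf 329345) (.leaf 3748472)) (.node (.leaf 331881) (.leaf 316521)))) (.node (.node (.node (.leaf 793721) (.leaf 6018156)) (.node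 (.leaf 853609) (.leaf 859761))) (.node (.node (.leaf 390233) (.leaf 393337)) (.node (.leaf 4529280) (.leaf 4899441))))) (.node (.node (.node (.node (.leaf 4081762) (.leaf 1579629)) (.node (.leaf 4959321) (.leaf 2296424))) (.node (.node (.leaf 214648) (.leaf 4945009)) (.node (.leaf 2581618) (.leaf 11011696)))) (.node (.node (.node (.leaf 10415224) (.leaf 5295226)) (.node (.leaf 3254384) (.leaf 1206888))) (.node (.node (.leaf 6924888) (.leaf 10378840)) (.node (.leaf 4327521) (.leaf 4323425)))))))

/-- How a representative arises, part 253. -/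
def tInfoPart253 : Janko1.Tree ℕ := (.node (.node (.node (.node (.node (.node (.leaf 4320385) (.leaf 5177450)) (.node (.leaf 632425) (.leaf 629353))) (.node (.node (.leaf 5752420) (.leaf 623209)) (.node (.leaf 501353) (.leaf 4901472)))) (.node (.node (.node (.leaf 574033) (.leaf 2790472)) (.node (.leaf 11301976) (.leaf 475764))) (.node (.node (.leaf 2834045) (.leaf 4793969)) (.node (.leaf 8048256) (.leaf 4801081))))) (.node (.node (.node (.node (.leaf 2469979) (.leaf 2834533)) (.node (.leaf 1393779) (.leaf 4856441))) (.node (.node (.leaf 2408563) (.leaf 473209)) (.node (.leaf 1155186) (.leaf 2849888)))) (.node (.node (.node (.leaf 8929896) (.leaf 11325560)) (.node (.leaf 542297) (.leaf 737393))) (.node (.node (.leaf 774240) (.leaf 724089)) (.node (.leaf 728169) (.leaf 7475316)))))) (.node (.node (.node (.node (.node (.leaf 11672162) (.leaf 8609413)) (.node (.leaf 7114866) (.leaf 11010139))) (.node (.node (.leaf 10522235) (.leaf 10697341)) (.node (.leaf 8609901) (.leaf 2016884)))) (.node (.node (.node (.leaf 8825973) (.leaf 11108451)) (.node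 (.leaf 8390771) (.leaf 10909290))) (.node (.node (.leaf 8732244) (.leaf 4536962)) (.node (.leaf 10981996) (.leaf 11201149))))) (.node (.node (.node (.node (.leaf 2276468) (.leaf 9831556)) (.node (.leaf 9576010) (.leaf 2884195))) (.node (.node (.leaf 160874) (.leaf 5431395)) (.node (.leaf 8743522) (.leaf 8456284)))) (.node (.node (.node (.leaf 2266221) (.leaf 9656426)) (.node (.leaf 5582437) (.leaf 1898091))) (.node (.node (.leaf 8826922) (.leaf 5314179)) (.node (.leaf 2642549) (.leaf 2617402)))))))

/-- How a representative arises, part 254. -/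
def tInfoPart254 : Janko1.Tree ℕ := (.node (.node (.node (.node (.node (.node (.leaf 2463835) (.leaf 6423157)) (.node (.leaf 8410741) (.leaf 4522108))) (.node (.node (.leaf 10503797) (.leaf 11167866)) (.node (.leaf 8909419) (.leaf 6344818)))) (.node (.node (.node (.leaf 10283645) (.leaf 6662258)) (.node (.leaf 8731259) (.leaf 8380531))) (.node (.node (.leaf 8468061) (.leaf 10836077)) (.node (.leaf 11079267) (.leaf 10284149))))) (.node (.node (.node (.node (.leaf 9021549) (.leaf 5916780)) (.node (.leaf 10086002) (.leaf 8468589))) (.node (.node (.leaf 9932412) (.leaf 7693428)) (.node (.leaf 299636) (.leaf 3539554)))) (.node (.node (.node (.leaf 6212733) (.leaf 5421667)) (.node (.leaf 6151299) (.leaf 8493148))) (.node (.node (.leaf 1444459) (.leaf 2832483)) (.node (.leaf 5380683) (.leaf 1184370)))))) (.node (.node (.node (.node (.node (.leaf 5885557) (.leaf 8994930)) (.node (.leaf 10861148) (.leaf 658506))) (.node (.node (.leaf 8643676) (.leaf 1824371)) (.node (.leaf 7736434) (.leaf 3008629)))) (.node (.node (.node (.leaf 783481) (.leaf 776305))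 (.node (.leaf 361049) (.leaf 770161))) (.node (.node (.leaf 844921) (.leaf 1720956)) (.node (.leaf 8439920) (.leaf 435313))))) (.node (.node (.node (.node (.leaf 434305) (.leaf 426609)) (.node (.leaf 4163697) (.leaf 4153961))) (.node (.node (.leaf 4871281) (.leaf 4313704)) (.node (.leaf 10880112) (.leaf 4204625)))) (.node (.node (.node (.leaf 4907129) (.leaf 1971840)) (.node (.leaf 7067768) (.leaf 400985))) (.node (.node (.leaf 404049) (.leaf 802929)) (.node (.leaf 7056492) (.leaf 573040)))))))

/-- How a representative arises, part 255. -/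
def tInfoPart255 : Janko1.Tree ℕ := (.node (.node (.node (.node (.node (.node (.leaf 4183161) (.leaf 4894329)) (.node (.leaf 2583138) (.leaf 4958337))) (.node (.node (.leaf 4248681) (.leaf 4964969)) (.node (.leaf 266874) (.leaf 9726080)))) (.node (.node (.node (.leaf 4789377) (.leaf 259180)) (.node (.leaf 3465336) (.leaf 4266617))) (.node (.node (.leaf 1780868) (.leaf 4839529)) (.node (.leaf 1434720) (.leaf 4835945))))) (.node (.node (.node (.node (.leaf 10228856) (.leaf 5018216)) (.node (.leaf 11198584) (.leaf 6408808))) (.node (.node (.leaf 5540460) (.leaf 628809)) (.node (.leaf 483945) (.leaf 4714608)))) (.node (.node (.node (.leaf 701041) (.leaf 556129)) (.node (.leaf 9044600) (.leaf 1457245))) (.node (.node (.leaf 549492) (.leaf 1846395)) (.node (.leaf 11359856) (.leaf 2465413)))))) (.node (.node (.node (.node (.node (.leaf 1394299) (.leaf 766562)) (.node (.leaf 3385434) (.leaf 661609))) (.node (.node (.leaf 7982176) (.leaf 518249)) (.node (.leaf 10047584) (.leaf 590929)))) (.node (.node (.node (.leaf 730745) (.leaf 3032680)) (.node (.leaf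 589417) (.leaf 10009200))) (.node (.node (.leaf 10689106) (.leaf 7125634)) (.node (.leaf 6022780) (.leaf 8168547))))) (.node (.node (.node (.node (.leaf 8542317) (.leaf 8381539)) (.node (.leaf 8565852) (.leaf 10520699))) (.node (.node (.leaf 10356861) (.leaf 10354293)) (.node (.leaf 8479332) (.leaf 8889461)))) (.node (.node (.node (.leaf 3944068) (.leaf 5795946)) (.node (.leaf 11741762) (.leaf 8942715))) (.node (.node (.leaf 139900) (.leaf 10989669)) (.node (.leaf 8703603) (.leaf 8908907)))))))

/-- How a representative arises, part 256. -/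
def tInfoPart256 : Janko1.Tree ℕ := (.node (.node (.node (.node (.node (.node (.leaf 5161077) (.leaf 8319602)) (.node (.leaf 2147429) (.leaf 1498755))) (.node (.node (.leaf 8712300) (.leaf 2503802)) (.node (.leaf 5679228) (.leaf 5323891)))) (.node (.node (.node (.leaf 154202) (.leaf 1824891)) (.node (.leaf 6310011) (.leaf 2522723))) (.node (.node (.leaf 6099573) (.leaf 2893939)) (.node (.leaf 6101605) (.leaf 6255235))))) (.node (.node (.node (.node (.leaf 10968180) (.leaf 306298)) (.node (.leaf 9716324) (.leaf 8195189))) (.node (.node (.leaf 6183540) (.leaf 8175739)) (.node (.leaf 7713380) (.leaf 11431522)))) (.node (.node (.node (.leaf 10571901) (.leaf 8195701)) (.node (.leaf 10441803) (.leaf 8194157))) (.node (.node (.leaf 8140403) (.leaf 11326597)) (.node (.leaf 1884268) (.leaf 8729715)))))) (.node (.node (.node (.node (.node (.leaf 8935011) (.leaf 11010667)) (.node (.leaf 8673397) (.leaf 10876036))) (.node (.node (.leaf 3540602) (.leaf 1509989)) (.node (.leaf 5486717) (.leaf 1508995)))) (.node (.node (.node (.leaf 1313890) (.leaf 8820340))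 (.node (.leaf 5420155) (.leaf 1510509))) (.node (.node (.leaf 5484661) (.leaf 11863164)) (.node (.leaf 2388605) (.leaf 6265971))))) (.node (.node (.node (.node (.leaf 6616693) (.leaf 6162019)) (.node (.leaf 519804) (.leaf 8995410))) (.node (.node (.leaf 2388101) (.leaf 9754196)) (.node (.leaf 5684296) (.leaf 8052349)))) (.node (.node (.node (.leaf 7325808) (.leaf 10699885)) (.node (.leaf 11263093) (.leaf 8350843))) (.node (.node (.leaf 8611437) (.leaf 11032179)) (.node (.leaf 8266869) (.leaf 11201661)))))))

/-- How a representative arises, part 257. -/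
def tInfoPart257 : Janko1.Tree ℕ := (.node (.node (.node (.node (.node (.node (.leaf 8826925) (.leaf 11016824)) (.node (.leaf 11202149) (.leaf 3753056))) (.node (.node (.leaf 5685885) (.leaf 6314107)) (.node (.leaf 7333472) (.leaf 42596)))) (.node (.node (.node (.leaf 1246325) (.leaf 6006396)) (.node (.leaf 6515325) (.leaf 1829995))) (.node (.node (.leaf 2268797) (.leaf 1689184)) (.node (.leaf 7306348) (.leaf 2363504))))) (.node (.node (.node (.node (.leaf 5481587) (.leaf 4498520)) (.node (.leaf 1642589) (.leaf 3889796))) (.node (.node (.leaf 2643565) (.leaf 2824827)) (.node (.leaf 7550584) (.leaf 8957549)))) (.node (.node (.node (.leaf 10505829) (.leaf 11059813)) (.node (.leaf 2782314) (.leaf 8696443))) (.node (.node (.leaf 8358515) (.leaf 10194520)) (.node (.leaf 4904552) (.leaf 1400434)))))) (.node (.node (.node (.node (.node (.leaf 802928) (.leaf 10163312)) (.node (.leaf 460388) (.leaf 2891381))) (.node (.node (.leaf 1901677) (.leaf 6948994)) (.node (.leaf 277620) (.leaf 2517091)))) (.node (.node (.node (.leaf 6539882) (.leaf 6535274)) (.node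 (.leaf 5887589) (.leaf 6210163))) (.node (.node (.leaf 10203256) (.leaf 1506939)) (.node (.leaf 4872816) (.leaf 5058181))))) (.node (.node (.node (.node (.leaf 3010653) (.leaf 11307096)) (.node (.leaf 747120) (.leaf 2023029))) (.node (.node (.leaf 3423329) (.leaf 8475242)) (.node (.leaf 3417177) (.leaf 2013802)))) (.node (.node (.node (.leaf 358508) (.leaf 3484785)) (.node (.leaf 3463785) (.leaf 3476585))) (.node (.node (.leaf 3454561) (.leaf 6661737)) (.node (.leaf 8291444) (.leaf 6638713)))))))

/-- How a representative arises, part 258. -/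
def tInfoPart258 : Janko1.Tree ℕ := (.node (.node (.node (.node (.node (.node (.leaf 6655081) (.leaf 6631529)) (.node (.leaf 3677284) (.leaf 2384498))) (.node (.node (.leaf 8661586) (.leaf 4434036)) (.node (.leaf 3762809) (.leaf 3810913)))) (.node (.node (.node (.leaf 9725050) (.leaf 9710186)) (.node (.leaf 1772667) (.leaf 5457516))) (.node (.node (.leaf 7436898) (.leaf 7428202)) (.node (.leaf 11874914) (.leaf 7287924))))) (.node (.node (.node (.node (.leaf 7432305) (.leaf 2590325)) (.node (.leaf 7443545) (.leaf 1397347))) (.node (.node (.leaf 2405995) (.leaf 7426665)) (.node (.leaf 8221306) (.leaf 6757465)))) (.node (.node (.node (.leaf 6754417) (.leaf 6732929)) (.node (.leaf 9600620) (.leaf 7957074))) (.node (.node (.leaf 6810721) (.leaf 1030778)) (.node (.leaf 6784633) (.leaf 1017418)))))) (.node (.node (.node (.node (.node (.leaf 8405100) (.leaf 3200610)) (.node (.leaf 3540601) (.leaf 9120378))) (.node (.node (.leaf 9114234) (.leaf 2707058)) (.node (.leaf 3604057) (.leaf 8840250)))) (.node (.node (.node (.leaf 3580017) (.leaf 7297633)) (.node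 (.leaf 10894964) (.leaf 7700076))) (.node (.node (.leaf 5090890) (.leaf 2838123)) (.node (.leaf 7348289) (.leaf 11687036))))) (.node (.node (.node (.node (.leaf 10028642) (.leaf 7341145)) (.node (.leaf 4060772) (.leaf 4673650))) (.node (.node (.leaf 11492970) (.leaf 7416908)) (.node (.leaf 6466154) (.leaf 3694689)))) (.node (.node (.node (.leaf 6461562) (.leaf 8647276)) (.node (.leaf 1389683) (.leaf 6143588))) (.node (.node (.leaf 11111035) (.leaf 2002560)) (.node (.leaf 11670648) (.leaf 10552440)))))))

/-- How a representative arises, part 259. -/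
def tInfoPart259 : Janko1.Tree ℕ := (.node (.node (.node (.node (.node (.node (.leaf 5478000) (.leaf 9565296)) (.node (.leaf 3999848) (.leaf 10909293))) (.node (.node (.leaf 8690819) (.leaf 5420152)) (.node (.leaf 9531000) (.leaf 9093237)))) (.node (.node (.node (.leaf 10552443) (.leaf 10480235)) (.node (.leaf 3845754) (.leaf 3832442))) (.node (.node (.leaf 8338517) (.leaf 4211812)) (.node (.leaf 541818) (.leaf 2364034))))) (.node (.node (.node (.node (.leaf 8358003) (.leaf 1976936)) (.node (.leaf 6312051) (.leaf 7308402))) (.node (.node (.leaf 2510451) (.leaf 5993581)) (.node (.leaf 5991549) (.leaf 6153323)))) (.node (.node (.node (.leaf 6064218) (.leaf 2816099)) (.node (.leaf 5482107) (.leaf 7720568))) (.node (.node (.leaf 1769589) (.leaf 1771645)) (.node (.leaf 2640992) (.leaf 5275757)))))) (.node (.node (.node (.node (.node (.leaf 510064) (.leaf 1770109)) (.node (.leaf 5276261) (.leaf 8756333))) (.node (.node (.leaf 6700144) (.leaf 11132533)) (.node (.leaf 11063907) (.leaf 8696931)))) (.node (.node (.node (.leaf 4096628) (.leaf 10765925))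 (.node (.leaf 5552244) (.leaf 8117861))) (.node (.node (.leaf 8118901) (.leaf 3089520)) (.node (.leaf 168556) (.leaf 873594))))) (.node (.node (.node (.node (.leaf 8118389) (.leaf 4642936)) (.node (.leaf 1457720) (.leaf 5028952))) (.node (.node (.leaf 6315637) (.leaf 2520701)) (.node (.leaf 6316141) (.leaf 2457219)))) (.node (.node (.node (.leaf 2824307) (.leaf 1102928)) (.node (.leaf 1504363) (.leaf 4689512))) (.node (.node (.leaf 1377389) (.leaf 9430122)) (.node (.leaf 3796065) (.leaf 2014322)))))))

/-- How a representative arises, part 260. -/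
def tInfoPart260 : Janko1.Tree ℕ := (.node (.node (.node (.node (.node (.node (.leaf 6035052) (.leaf 8560748)) (.node (.leaf 3866177) (.leaf 3483761))) (.node (.node (.leaf 3840609) (.leaf 443514)) (.node (.leaf 2280554) (.leaf 7649914)))) (.node (.node (.node (.leaf 3455089) (.leaf 2267266)) (.node (.leaf 5568642) (.leaf 5610100))) (.node (.node (.leaf 7406169) (.leaf 1720405)) (.node (.leaf 6678641) (.leaf 11850874))))) (.node (.node (.node (.node (.leaf 10629730) (.leaf 1460835)) (.node (.leaf 7429218) (.leaf 1846835))) (.node (.node (.leaf 10643554) (.leaf 6670961)) (.node (.leaf 2837083) (.leaf 7403105)))) (.node (.node (.node (.leaf 2718837) (.leaf 8749156)) (.node (.leaf 10964084) (.leaf 6210162))) (.node (.node (.leaf 7428729) (.leaf 2633332)) (.node (.leaf 1542266) (.leaf 283764)))))) (.node (.node (.node (.node (.node (.leaf 9187434) (.leaf 4340340)) (.node (.leaf 6742609) (.leaf 3313786))) (.node (.node (.leaf 10916988) (.leaf 8225906)) (.node (.leaf 6734409) (.leaf 7318137)))) (.node (.node (.node (.leaf 1804916) (.leaf 7316089))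 (.node (.leaf 6809665) (.leaf 7308401))) (.node (.node (.leaf 7958114) (.leaf 6786169)) (.node (.leaf 2819690) (.leaf 7952482))))) (.node (.node (.node (.node (.leaf 9465452) (.leaf 3557473)) (.node (.leaf 5770884) (.leaf 7237748))) (.node (.node (.leaf 3863668) (.leaf 10242178)) (.node (.leaf 1453675) (.leaf 3677769)))) (.node (.node (.node (.leaf 11856980) (.leaf 1328237)) (.node (.leaf 3569777) (.leaf 2324604))) (.node (.node (.leaf 3696745) (.leaf 3755633)) (.node (.leaf 1388131) (.leaf 3620441)))))))

/-- How a representative arises, part 261. -/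
def tInfoPart261 : Janko1.Tree ℕ := (.node (.node (.node (.node (.node (.node (.leaf 900185) (.leaf 8291952)) (.node (.leaf 895065) (.leaf 219249))) (.node (.node (.leaf 1741432) (.leaf 287353)) (.node (.leaf 940673) (.leaf 281721)))) (.node (.node (.node (.leaf 276585) (.leaf 962145)) (.node (.leaf 4024434) (.leaf 4461673))) (.node (.node (.leaf 4454521) (.leaf 4572793)) (.node (.leaf 4446305) (.leaf 8628808))))) (.node (.node (.node (.node (.leaf 4512865) (.leaf 4603505)) (.node (.leaf 863857) (.leaf 225377))) (.node (.node (.leaf 866417) (.leaf 184449)) (.node (.leaf 9402464) (.leaf 1751680)))) (.node (.node (.node (.leaf 974953) (.leaf 2351212)) (.node (.leaf 10693712) (.leaf 7550064))) (.node (.node (.leaf 179296) (.leaf 1518709)) (.node (.leaf 291952) (.leaf 4528745)))))) (.node (.node (.node (.node (.node (.leaf 3825276) (.leaf 4636273)) (.node (.leaf 2524277) (.leaf 4670073))) (.node (.node (.leaf 4347505) (.leaf 5208168)) (.node (.leaf 3154032) (.leaf 10409584)))) (.node (.node (.node (.leaf 3242096) (.leaf 3451514)) (.node (.leaf 53353)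 (.leaf 6547048))) (.node (.node (.leaf 4894328) (.leaf 2779744)) (.node (.leaf 8899696) (.leaf 831096))))) (.node (.node (.node (.node (.leaf 1092217) (.leaf 141937)) (.node (.leaf 1090657) (.leaf 2881128))) (.node (.node (.leaf 4373617) (.leaf 1998444)) (.node (.leaf 4380257) (.leaf 4696697)))) (.node (.node (.node (.leaf 1236616) (.leaf 2347643)) (.node (.leaf 4430945) (.leaf 2771053))) (.node (.node (.leaf 7820392) (.leaf 421452)) (.node (.leaf 6555752) (.leaf 991361)))))))

/-- How a representative arises, part 262. -/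
def tInfoPart262 : Janko1.Tree ℕ := (.node (.node (.node (.node (.node (.node (.leaf 147065) (.leaf 1055313)) (.node (.leaf 154201) (.leaf 10202752))) (.node (.node (.leaf 1122921) (.leaf 6792810)) (.node (.leaf 7394420) (.leaf 10723948)))) (.node (.node (.node (.leaf 10666605) (.leaf 1802298)) (.node (.leaf 284780) (.leaf 8017021))) (.node (.node (.leaf 4072058) (.leaf 10918004)) (.node (.leaf 10270835) (.leaf 10668677))))) (.node (.node (.node (.node (.leaf 11167325) (.leaf 8425067)) (.node (.leaf 9881196) (.leaf 9538690))) (.node (.node (.leaf 10605685) (.leaf 9502308)) (.node (.leaf 1179765) (.leaf 2331787)))) (.node (.node (.node (.leaf 9892474) (.leaf 1177709)) (.node (.leaf 4506716) (.leaf 3011707))) (.node (.node (.leaf 598620) (.leaf 5061211)) (.node (.leaf 5932124) (.leaf 4361842)))))) (.node (.node (.node (.node (.node (.leaf 6370405) (.leaf 5839467)) (.node (.leaf 9749612) (.leaf 5620842))) (.node (.node (.leaf 11613802) (.leaf 6369909)) (.node (.leaf 1570909) (.leaf 9642612)))) (.node (.node (.node (.leaf 6621267) (.leaf 11852412))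 (.node (.leaf 723570) (.leaf 7338092))) (.node (.node (.leaf 10711659) (.leaf 8103555)) (.node (.leaf 4196980) (.leaf 3499642))))) (.node (.node (.node (.node (.leaf 10811492) (.leaf 8050298)) (.node (.leaf 9077882) (.leaf 6086756))) (.node (.node (.leaf 10243173) (.leaf 8981085)) (.node (.leaf 9007707) (.leaf 8096867)))) (.node (.node (.node (.leaf 10803837) (.leaf 11320451)) (.node (.leaf 8121946) (.leaf 9393244))) (.node (.node (.leaf 5327445) (.leaf 7134300)) (.node (.leaf 4837482) (.leaf 8318060)))))))

/-- How a representative arises, part 263. -/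
def tInfoPart263 : Janko1.Tree ℕ := (.node (.node (.node (.node (.node (.node (.leaf 2827397) (.leaf 4360300)) (.node (.leaf 1837189) (.leaf 5053563))) (.node (.node (.leaf 10437226) (.leaf 10931828)) (.node (.leaf 1950325) (.leaf 5009013)))) (.node (.node (.node (.leaf 9712252) (.leaf 5366898)) (.node (.leaf 1373299) (.leaf 11447906))) (.node (.node (.leaf 1966204) (.leaf 6827634)) (.node (.leaf 5388904) (.leaf 5711980))))) (.node (.node (.node (.node (.leaf 8436848) (.leaf 3960952)) (.node (.leaf 4023914) (.leaf 275033))) (.node (.node (.leaf 2565232) (.leaf 4438081)) (.node (.leaf 498808) (.leaf 7678072)))) (.node (.node (.node (.leaf 9772128) (.leaf 5971560)) (.node (.leaf 10912816) (.leaf 4602497))) (.node (.node (.leaf 907881) (.leaf 915577)) (.node (.leaf 231025) (.leaf 7072368)))))) (.node (.node (.node (.node (.node (.leaf 279148) (.leaf 2589292)) (.node (.leaf 2539624) (.leaf 9740400))) (.node (.node (.leaf 10883672) (.leaf 5924440)) (.node (.leaf 470120) (.leaf 1975411)))) (.node (.node (.node (.leaf 4531817) (.leaf 576120)) (.node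 (.leaf 4347001) (.leaf 4679241))) (.node (.node (.leaf 4366985) (.leaf 5054064)) (.node (.leaf 4402265) (.leaf 4713057))))) (.node (.node (.node (.node (.leaf 28273) (.leaf 3103858)) (.node (.leaf 4402772) (.leaf 124537))) (.node (.node (.leaf 10052696) (.leaf 1055312)) (.node (.leaf 1084001) (.leaf 3398768)))) (.node (.node (.node (.leaf 2403933) (.leaf 1392736)) (.node (.leaf 1976435) (.leaf 2409580))) (.node (.node (.leaf 64129) (.leaf 1033305)) (.node (.leaf 1040985) (.leaf 989784)))))))

/-- How a representative arises, part 264. -/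
def tInfoPart264 : Janko1.Tree ℕ := (.node (.node (.node (.node (.node (.node (.leaf 9084512) (.leaf 1057385)) (.node (.leaf 87169) (.leaf 1059929))) (.node (.node (.leaf 1674332) (.leaf 1119849)) (.node (.leaf 1104496) (.leaf 8631947)))) (.node (.node (.node (.leaf 2569834) (.leaf 10719355)) (.node (.leaf 3805316) (.leaf 10873453))) (.node (.node (.leaf 7542380) (.leaf 10711147)) (.node (.leaf 500324) (.leaf 8103035))))) (.node (.node (.node (.node (.leaf 3947122) (.leaf 11313283)) (.node (.leaf 8857189) (.leaf 5790332))) (.node (.node (.leaf 5939274) (.leaf 3068493)) (.node (.leaf 10855026) (.leaf 5104253)))) (.node (.node (.node (.leaf 9926780) (.leaf 2082413)) (.node (.leaf 6625371) (.leaf 5896819))) (.node (.node (.leaf 6050925) (.leaf 2960483)) (.node (.leaf 5734003) (.leaf 1705069)))))) (.node (.node (.node (.node (.node (.leaf 10680954) (.leaf 11720820)) (.node (.leaf 11627122) (.leaf 7416436))) (.node (.node (.leaf 5890659) (.leaf 2704493)) (.node (.leaf 8638579) (.leaf 11092589)))) (.node (.node (.node (.leaf 10710635) (.leaf 9007218))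 (.node (.leaf 8161397) (.leaf 10539133))) (.node (.node (.leaf 10538093) (.leaf 9293418)) (.node (.leaf 8966731) (.leaf 10721387))))) (.node (.node (.node (.node (.leaf 427644) (.leaf 9075818)) (.node (.leaf 8126578) (.leaf 10521708))) (.node (.node (.leaf 8448107) (.leaf 11771492)) (.node (.leaf 11292789) (.leaf 11294837)))) (.node (.node (.node (.leaf 2341475) (.leaf 10141306)) (.node (.leaf 6259829) (.leaf 1447541))) (.node (.node (.leaf 1772140) (.leaf 4837986)) (.node (.leaf 3993204) (.leaf 10436218)))))))

/-- How a representative arises, part 265. -/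
def tInfoPart265 : Janko1.Tree ℕ := (.node (.node (.node (.node (.node (.node (.leaf 10790020) (.leaf 5890155)) (.node (.leaf 2459253) (.leaf 6414954))) (.node (.node (.leaf 2951779) (.leaf 2330221)) (.node (.leaf 11171442) (.leaf 162908)))) (.node (.node (.node (.leaf 5736501) (.leaf 6626419)) (.node (.leaf 8575597) (.leaf 8067171))) (.node (.node (.leaf 10671221) (.leaf 10238067)) (.node (.leaf 10654840) (.leaf 260164))))) (.node (.node (.node (.node (.leaf 8455803) (.leaf 6137944)) (.node (.leaf 4250228) (.leaf 8632432))) (.node (.node (.leaf 10225275) (.leaf 9880696)) (.node (.leaf 11057280) (.leaf 8790645)))) (.node (.node (.node (.leaf 2943083) (.leaf 1683568)) (.node (.leaf 5020763) (.leaf 3643000))) (.node (.node (.leaf 5594720) (.leaf 1182317)) (.node (.leaf 6462589) (.leaf 5893763)))))) (.node (.node (.node (.node (.node (.leaf 6371437) (.leaf 479820)) (.node (.leaf 213080) (.leaf 5012075))) (.node (.node (.leaf 2295400) (.leaf 6563443)) (.node (.leaf 3631730) (.leaf 7574120)))) (.node (.node (.node (.leaf 1927274) (.leaf 6869112))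 (.node (.leaf 10470525) (.leaf 1172096))) (.node (.node (.leaf 10226299) (.leaf 8056424)) (.node (.leaf 8924269) (.leaf 2488436))))) (.node (.node (.node (.node (.leaf 781928) (.leaf 10243669)) (.node (.leaf 11282043) (.leaf 10165864))) (.node (.node (.leaf 11333240) (.leaf 8986221)) (.node (.leaf 2894960) (.leaf 5138538)))) (.node (.node (.node (.leaf 10804325) (.leaf 5126762)) (.node (.leaf 6157917) (.leaf 1326195))) (.node (.node (.leaf 1164384) (.leaf 5179432)) (.node (.leaf 2032739) (.leaf 8048768)))))))

/-- How a representative arises, part 266. -/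
def tInfoPart266 : Janko1.Tree ℕ := (.node (.node (.node (.node (.node (.node (.leaf 2395763) (.leaf 1469034)) (.node (.leaf 1839205) (.leaf 6550120))) (.node (.node (.leaf 409212) (.leaf 773760)) (.node (.leaf 5018747) (.leaf 4871280)))) (.node (.node (.node (.leaf 2950789) (.leaf 805976)) (.node (.leaf 1598546) (.leaf 5892211))) (.node (.node (.leaf 4950624) (.leaf 3918969)) (.node (.leaf 3901033) (.leaf 6142570))))) (.node (.node (.node (.node (.leaf 3298905) (.leaf 3279465)) (.node (.leaf 3277425) (.leaf 3291249))) (.node (.node (.leaf 3973753) (.leaf 3970161)) (.node (.leaf 6951025) (.leaf 6947961)))) (.node (.node (.node (.leaf 6123636) (.leaf 7058513)) (.node (.leaf 7102569) (.leaf 7114353))) (.node (.node (.leaf 7011961) (.leaf 9506932)) (.node (.leaf 5731444) (.leaf 2318922)))))) (.node (.node (.node (.node (.node (.leaf 528482) (.leaf 3946089)) (.node (.leaf 3997809) (.leaf 3374713))) (.node (.node (.leaf 3325033) (.leaf 2195586)) (.node (.leaf 1271371) (.leaf 2285683)))) (.node (.node (.node (.leaf 7084657) (.leaf 378938)) (.node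 (.leaf 2965099) (.leaf 1524333))) (.node (.node (.leaf 11862644) (.leaf 7174249)) (.node (.leaf 7323244) (.leaf 6852217))))) (.node (.node (.node (.node (.leaf 6849657) (.leaf 8478828)) (.node (.leaf 10263626) (.leaf 6889081))) (.node (.node (.leaf 11538034) (.leaf 7227481)) (.node (.leaf 3180673) (.leaf 3160169)))) (.node (.node (.node (.leaf 3158113) (.leaf 4062849)) (.node (.leaf 4041329) (.leaf 4039289))) (.node (.node (.leaf 4125801) (.leaf 4102241)) (.node (.leaf 10346082) (.leaf 5421668)))))))

/-- How a representative arises, part 267. -/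
def tInfoPart267 : Janko1.Tree ℕ := (.node (.node (.node (.node (.node (.node (.leaf 6872665) (.leaf 5678700)) (.node (.leaf 2284667) (.leaf 974954))) (.node (.node (.leaf 1782405) (.leaf 5849212)) (.node (.leaf 8167522) (.leaf 7243377)))) (.node (.node (.node (.leaf 9160802) (.leaf 7453780)) (.node (.leaf 1781357) (.leaf 10935924))) (.node (.node (.leaf 2870394) (.leaf 3145337)) (.node (.leaf 3147361) (.leaf 8248962))))) (.node (.node (.node (.node (.leaf 1905221) (.leaf 9234018)) (.node (.leaf 8508013) (.leaf 11282555))) (.node (.node (.leaf 10791027) (.leaf 7075408)) (.node (.leaf 11637352) (.leaf 9055869)))) (.node (.node (.node (.leaf 1982056) (.leaf 543356)) (.node (.leaf 10276971) (.leaf 10397301))) (.node (.node (.leaf 513128) (.leaf 8859253)) (.node (.leaf 8661075) (.leaf 9009259)))))) (.node (.node (.node (.node (.node (.leaf 10956877) (.leaf 8302709)) (.node (.leaf 2097276) (.leaf 1317499))) (.node (.node (.leaf 1958531) (.leaf 9527384)) (.node (.leaf 3935328) (.leaf 5937261)))) (.node (.node (.node (.leaf 5935733) (.leaf 2285682))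 (.node (.leaf 3071077) (.leaf 5444736))) (.node (.node (.leaf 3006571) (.leaf 8470096)) (.node (.leaf 2007152) (.leaf 5108349))))) (.node (.node (.node (.node (.leaf 7119992) (.leaf 4285048)) (.node (.leaf 2570856) (.leaf 2707061))) (.node (.node (.leaf 2707573) (.leaf 2395251)) (.node (.leaf 3014787) (.leaf 5977200)))) (.node (.node (.node (.leaf 3403384) (.leaf 1435248)) (.node (.leaf 10781307) (.leaf 11368048))) (.node (.node (.leaf 5067888) (.leaf 3503704)) (.node (.leaf 9295456) (.leaf 8164469)))))))

/-- How a representative arises, part 268. -/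
def tInfoPart268 : Janko1.Tree ℕ := (.node (.node (.node (.node (.node (.node (.leaf 10266755) (.leaf 8067675)) (.node (.leaf 11165800) (.leaf 8654963))) (.node (.node (.leaf 8997971) (.leaf 8642685)) (.node (.leaf 10735229) (.leaf 10736213)))) (.node (.node (.node (.leaf 10280035) (.leaf 3429488)) (.node (.leaf 7318628) (.leaf 5833331))) (.node (.node (.leaf 1473138) (.leaf 5025880)) (.node (.leaf 1449589) (.leaf 1955971))))) (.node (.node (.node (.node (.leaf 1312901) (.leaf 1315437)) (.node (.leaf 6567037) (.leaf 6070876))) (.node (.node (.leaf 2833514) (.leaf 1602162)) (.node (.leaf 2385019) (.leaf 3004515)))) (.node (.node (.node (.leaf 5796939) (.leaf 5739133)) (.node (.leaf 6141554) (.leaf 11830378))) (.node (.node (.leaf 8803940) (.leaf 3330665)) (.node (.leaf 6960257) (.leaf 7075969)))))) (.node (.node (.node (.node (.node (.leaf 6019698) (.leaf 6973553)) (.node (.leaf 9664090) (.leaf 7023201))) (.node (.node (.leaf 11774594) (.leaf 10613348)) (.node (.leaf 7116881) (.leaf 10742372)))) (.node (.node (.node (.leaf 8653426) (.leaf 9485932))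 (.node (.leaf 4006001) (.leaf 3951705))) (.node (.node (.leaf 3790442) (.leaf 3320953)) (.node (.leaf 3954809) (.leaf 4012649))))) (.node (.node (.node (.node (.leaf 3794554) (.leaf 3380857)) (.node (.leaf 1270379) (.leaf 1909371))) (.node (.node (.leaf 8643196) (.leaf 7140465)) (.node (.leaf 4113500) (.leaf 1656941)))) (.node (.node (.node (.leaf 7439484) (.leaf 1657461)) (.node (.leaf 7146601) (.leaf 7184001))) (.node (.node (.leaf 6869617) (.leaf 6498922)) (.node (.leaf 6862961) (.leaf 11538538)))))))

/-- How a representative arises, part 269. -/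
def tInfoPart269 : Janko1.Tree ℕ := (.node (.node (.node (.node (.node (.node (.leaf 5052018) (.leaf 6893665)) (.node (.leaf 10950260) (.leaf 6611042))) (.node (.node (.leaf 10055290) (.leaf 438884)) (.node (.leaf 10049138) (.leaf 3213401)))) (.node (.node (.node (.leaf 4128881) (.leaf 4104321)) (.node (.leaf 11605098) (.leaf 3224681))) (.node (.node (.leaf 5173354) (.leaf 4115073)) (.node (.leaf 7184481) (.leaf 11654780))))) (.node (.node (.node (.node (.leaf 974410) (.leaf 9450612)) (.node (.leaf 6935145) (.leaf 2410621))) (.node (.node (.leaf 1400437) (.leaf 7252585)) (.node (.leaf 1399405) (.leaf 6942833)))) (.node (.node (.node (.leaf 1261091) (.leaf 10825316)) (.node (.leaf 1263221) (.leaf 4068977))) (.node (.node (.leaf 3249785) (.leaf 3205241)) (.node (.leaf 3354746) (.leaf 5417564)))))) (.node (.node (.node (.node (.node (.leaf 4884577) (.leaf 4453506)) (.node (.leaf 4162673) (.leaf 3783788))) (.node (.node (.leaf 4215897) (.leaf 4904057)) (.node (.leaf 4220529) (.leaf 544372)))) (.node (.node (.node (.leaf 4354674) (.leaf 353417))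 (.node (.leaf 767065) (.leaf 6136944))) (.node (.node (.leaf 412265) (.leaf 8664160)) (.node (.leaf 421977) (.leaf 2098812))))) (.node (.node (.node (.node (.leaf 5595760) (.leaf 4190313)) (.node (.leaf 195634) (.leaf 1977443))) (.node (.node (.leaf 4944497) (.leaf 3711056)) (.node (.leaf 4950625) (.leaf 1132125)))) (.node (.node (.node (.leaf 4961409) (.leaf 4013690)) (.node (.leaf 9871464) (.leaf 28274))) (.node (.node (.leaf 173672) (.leaf 7535200)) (.node (.leaf 6126680) (.leaf 4528256)))))))

/-- How a representative arises, part 270. -/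
def tInfoPart270 : Janko1.Tree ℕ := (.node (.node (.node (.node (.node (.node (.leaf 1672314) (.leaf 8656496)) (.node (.leaf 486001) (.leaf 652889))) (.node (.node (.leaf 691817) (.leaf 565865)) (.node (.leaf 689769) (.leaf 4271209)))) (.node (.node (.node (.leaf 4265073) (.leaf 2243684)) (.node (.leaf 4837985) (.leaf 4963432))) (.node (.node (.leaf 2860656) (.leaf 5591668)) (.node (.leaf 1911428) (.leaf 519273))))) (.node (.node (.node (.node (.leaf 10369632) (.leaf 694898)) (.node (.leaf 7319132) (.leaf 1230936))) (.node (.node (.leaf 732793) (.leaf 1266803)) (.node (.leaf 2820688) (.leaf 743528)))) (.node (.node (.node (.leaf 6551128) (.leaf 4474978)) (.node (.leaf 10676813) (.leaf 10710131))) (.node (.node (.leaf 8025709) (.leaf 8806004)) (.node (.leaf 5972100) (.leaf 4373618)))))) (.node (.node (.node (.node (.node (.leaf 9730676) (.leaf 10720859)) (.node (.leaf 8780389) (.leaf 9629812))) (.node (.node (.leaf 8448627) (.leaf 11885188)) (.node (.leaf 7077474) (.leaf 10742900)))) (.node (.node (.node (.leaf 2961531) (.leaf 6468229)) (.node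 (.leaf 1188941) (.leaf 5732443))) (.node (.node (.leaf 2212981) (.leaf 5638253)) (.node (.leaf 10899060) (.leaf 1187453))))) (.node (.node (.node (.node (.leaf 2613364) (.leaf 6217316)) (.node (.leaf 2569837) (.leaf 5526141))) (.node (.node (.leaf 225380) (.leaf 5849715)) (.node (.leaf 2018411) (.leaf 2392683)))) (.node (.node (.node (.leaf 9516140) (.leaf 4111980)) (.node (.leaf 6625899) (.leaf 6359693))) (.node (.node (.leaf 8967803) (.leaf 11130986)) (.node (.leaf 8363637) (.leaf 11015261)))))))

/-- How a representative arises, part 271. -/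
def tInfoPart271 : Janko1.Tree ℕ := (.node (.node (.node (.node (.node (.node (.leaf 10719859) (.leaf 10460269)) (.node (.leaf 8660075) (.leaf 8449651))) (.node (.node (.leaf 10949228) (.leaf 8975995)) (.node (.leaf 10249853) (.leaf 10199154)))) (.node (.node (.node (.leaf 8441973) (.leaf 11765868)) (.node (.leaf 7063156) (.leaf 10258547))) (.node (.node (.leaf 1826421) (.leaf 10704468)) (.node (.leaf 2952811) (.leaf 2817653))))) (.node (.node (.node (.node (.leaf 5741675) (.leaf 5470260)) (.node (.leaf 9316458) (.leaf 2394219))) (.node (.node (.leaf 8576644) (.leaf 3473010)) (.node (.leaf 853114) (.leaf 146540)))) (.node (.node (.node (.leaf 5840507) (.leaf 2957437)) (.node (.leaf 9411188) (.leaf 2956413))) (.node (.node (.leaf 4165753) (.leaf 4182649)) (.node (.leaf 5433976) (.leaf 4204145)))))) (.node (.node (.node (.node (.node (.leaf 7129720) (.leaf 1981024)) (.node (.leaf 4918393) (.leaf 2545260))) (.node (.node (.leaf 355425) (.leaf 369273)) (.node (.leaf 4292200) (.leaf 542840)))) (.node (.node (.node (.leaf 825441) (.leaf 1267299))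 (.node (.leaf 2038909) (.leaf 3021933))) (.node (.node (.leaf 4014194) (.leaf 2008176)) (.node (.leaf 4954737) (.leaf 3966064))))) (.node (.node (.node (.node (.leaf 1788546) (.leaf 10547824)) (.node (.leaf 738865) (.leaf 10869864))) (.node (.node (.leaf 741481) (.leaf 480868)) (.node (.leaf 330345) (.leaf 445561)))) (.node (.node (.node (.leaf 851553) (.leaf 7706720)) (.node (.leaf 9767480) (.leaf 1720404))) (.node (.node (.leaf 8160368) (.leaf 637049)) (.node (.leaf 644713) (.leaf 551545)))))))

/-- How a representative arises, part 272. -/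
def tInfoPart272 : Janko1.Tree ℕ := (.node (.node (.node (.node (.node (.node (.leaf 700529) (.leaf 558689)) (.node (.leaf 4776569) (.leaf 4918394))) (.node (.node (.leaf 4695656) (.leaf 4817513)) (.node (.leaf 6409840) (.leaf 4814977)))) (.node (.node (.node (.leaf 4310137) (.leaf 4825721)) (.node (.leaf 4308089) (.leaf 462441))) (.node (.node (.leaf 11359360) (.leaf 1389680)) (.node (.leaf 1984636) (.leaf 610409))))) (.node (.node (.node (.node (.leaf 475761) (.leaf 612993)) (.node (.leaf 588921) (.leaf 3456128))) (.node (.node (.leaf 10260072) (.leaf 1268867)) (.node (.leaf 1264741) (.leaf 2283125)))) (.node (.node (.node (.leaf 4330105) (.leaf 1099376)) (.node (.leaf 4335217) (.leaf 10048104))) (.node (.node (.leaf 9883274) (.leaf 5527132)) (.node (.leaf 7380076) (.leaf 4475514)))))) (.node (.node (.node (.node (.node (.leaf 9469564) (.leaf 10881637)) (.node (.leaf 2646140) (.leaf 5747306))) (.node (.node (.leaf 11708538) (.leaf 10822747)) (.node (.leaf 4280940) (.leaf 5831250)))) (.node (.node (.node (.leaf 7681148) (.leaf 10227843)) (.node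 (.leaf 8850037) (.leaf 9006683))) (.node (.node (.leaf 10945613) (.leaf 11737700)) (.node (.leaf 5115501) (.leaf 1318003))))) (.node (.node (.node (.node (.leaf 1959523) (.leaf 8781434)) (.node (.leaf 231546) (.leaf 2372220))) (.node (.node (.leaf 6623355) (.leaf 1833578)) (.node (.leaf 4466804) (.leaf 1949811)))) (.node (.node (.node (.leaf 5210757) (.leaf 69754)) (.node (.leaf 2696821) (.leaf 8271978))) (.node (.node (.leaf 2141828) (.leaf 5897339)) (.node (.leaf 10132090) (.leaf 4851818)))))))

/-- How a representative arises, part 273. -/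
def tInfoPart273 : Janko1.Tree ℕ := (.node (.node (.node (.node (.node (.node (.leaf 8477772) (.leaf 10407026)) (.node (.leaf 2462340) (.leaf 11084405))) (.node (.node (.leaf 11322483) (.leaf 11399786)) (.node (.leaf 9804908) (.leaf 10742901)))) (.node (.node (.node (.leaf 6406762) (.leaf 8091253)) (.node (.leaf 10220131) (.leaf 8597636))) (.node (.node (.leaf 11304061) (.leaf 8669291)) (.node (.leaf 11312747) (.leaf 11471962))))) (.node (.node (.node (.node (.leaf 10650708) (.leaf 5423213)) (.node (.leaf 5742203) (.leaf 5014131))) (.node (.node (.leaf 2449029) (.leaf 5898347)) (.node (.leaf 5746293) (.leaf 7838306)))) (.node (.node (.node (.leaf 7487604) (.leaf 847986)) (.node (.leaf 5003883) (.leaf 3659884))) (.node (.node (.leaf 2337877) (.leaf 5889643)) (.node (.leaf 2310234) (.leaf 5712500)))))) (.node (.node (.node (.node (.node (.leaf 9434224) (.leaf 8028293)) (.node (.leaf 8583285) (.leaf 2167394))) (.node (.node (.leaf 8782437) (.leaf 10599517)) (.node (.leaf 11283563) (.leaf 10237563)))) (.node (.node (.node (.leaf 11159133) (.leaf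 8220741)) (.node (.leaf 10825315) (.leaf 10598517))) (.node (.node (.leaf 11160693) (.leaf 6120554)) (.node (.leaf 5639797) (.leaf 6115962))))) (.node (.node (.node (.node (.leaf 5011043) (.leaf 1801316)) (.node (.leaf 7360116) (.leaf 3715160))) (.node (.node (.leaf 3015771) (.leaf 1717376)) (.node (.leaf 1191525) (.leaf 2333768)))) (.node (.node (.node (.leaf 6132328) (.leaf 203340)) (.node (.leaf 217728) (.leaf 2362480))) (.node (.node (.leaf 1378939) (.leaf 3005555)) (.node (.leaf 1563773) (.leaf 11062888)))))))

/-- How a representative arises, part 274. -/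
def tInfoPart274 : Janko1.Tree ℕ := (.node (.node (.node (.node (.node (.node (.leaf 8366677) (.leaf 3188832)) (.node (.leaf 5208680) (.leaf 10461781))) (.node (.node (.leaf 10236523) (.leaf 8999507)) (.node (.leaf 5227640) (.leaf 11541608)))) (.node (.node (.node (.leaf 10761851) (.leaf 2844802)) (.node (.leaf 2816096) (.leaf 8431731))) (.node (.node (.leaf 10812525) (.leaf 6547544)) (.node (.leaf 2229340) (.leaf 771168))))) (.node (.node (.node (.node (.leaf 8935008) (.leaf 2847344)) (.node (.leaf 4906104) (.leaf 7850600))) (.node (.node (.leaf 803432) (.leaf 1957979)) (.node (.leaf 1827949) (.leaf 5019771)))) (.node (.node (.node (.leaf 6149237) (.leaf 1167472)) (.node (.leaf 10420824) (.leaf 2410620))) (.node (.node (.leaf 5795443) (.leaf 5892731)) (.node (.leaf 5319789) (.leaf 1966715)))))) (.node (.node (.node (.node (.node (.leaf 6590570) (.leaf 2333771)) (.node (.leaf 778872) (.leaf 6564475))) (.node (.node (.leaf 1385603) (.leaf 2959469)) (.node (.leaf 7384137) (.leaf 9602684)))) (.node (.node (.node (.leaf 10589804) (.leaf 517194))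 (.node (.leaf 2066020) (.leaf 3801210))) (.node (.node (.leaf 7578228) (.leaf 3817594)) (.node (.leaf 6692953) (.leaf 6691969))))) (.node (.node (.node (.node (.leaf 6705265) (.leaf 3393145)) (.node (.leaf 5929580) (.leaf 354402))) (.node (.node (.leaf 3417729) (.leaf 3855985)) (.node (.leaf 8404084) (.leaf 9401938)))) (.node (.node (.node (.leaf 3842665) (.leaf 9396818)) (.node (.leaf 6665337) (.leaf 1910907))) (.node (.node (.leaf 9748578) (.leaf 4062332)) (.node (.leaf 1139845) (.leaf 7415385)))))))

/-- How a representative arises, part 275. -/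
def tInfoPart275 : Janko1.Tree ℕ := (.node (.node (.node (.node (.node (.node (.leaf 9925236) (.leaf 7398482)) (.node (.leaf 2166909) (.leaf 7446113))) (.node (.node (.leaf 9690738) (.leaf 7664724)) (.node (.leaf 2561116) (.leaf 3761793)))) (.node (.node (.node (.leaf 3818601) (.leaf 10764404)) (.node (.leaf 9520756) (.leaf 3446385))) (.node (.node (.leaf 7415388) (.leaf 3665529)) (.node (.leaf 9563740) (.leaf 10556028))))) (.node (.node (.node (.node (.leaf 7128676) (.leaf 2001020)) (.node (.leaf 7470172) (.leaf 3610745))) (.node (.node (.leaf 3590753) (.leaf 9149034)) (.node (.leaf 3603065) (.leaf 426612)))) (.node (.node (.node (.leaf 3364970) (.leaf 7309937)) (.node (.leaf 11772524) (.leaf 9224826))) (.node (.node (.leaf 7315577) (.leaf 3677772)) (.node (.leaf 10007162) (.leaf 1904763)))))) (.node (.node (.node (.node (.node (.leaf 3555953) (.leaf 4619906)) (.node (.leaf 3740241) (.leaf 6929002))) (.node (.node (.leaf 11513962) (.leaf 3698281)) (.node (.leaf 2896995) (.leaf 7630452)))) (.node (.node (.node (.leaf 4723298) (.leaf 2504812))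 (.node (.leaf 1913453) (.leaf 7041146))) (.node (.node (.leaf 6827129) (.leaf 6831201)) (.node (.leaf 1912437) (.leaf 7288956))))) (.node (.node (.node (.node (.leaf 8968819) (.leaf 10883677)) (.node (.leaf 7062128) (.leaf 10782827))) (.node (.node (.leaf 9531504) (.leaf 9068165)) (.node (.leaf 2594396) (.leaf 2041466)))) (.node (.node (.node (.leaf 8516189) (.leaf 3961464)) (.node (.leaf 8961659) (.leaf 4094060))) (.node (.node (.leaf 8456283) (.leaf 3641962)) (.node (.leaf 2593904) (.leaf 2334323)))))))

/-- How a representative arises, part 276. -/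
def tInfoPart276 : Janko1.Tree ℕ := (.node (.node (.node (.node (.node (.node (.leaf 2954355) (.leaf 3903600)) (.node (.leaf 5834875) (.leaf 5118061))) (.node (.node (.leaf 2699357) (.leaf 2698349)) (.node (.leaf 4256368) (.leaf 6008434)))) (.node (.node (.node (.leaf 6012026) (.leaf 7719528)) (.node (.leaf 10923624) (.leaf 4337256))) (.node (.node (.leaf 8810096) (.leaf 8625267)) (.node (.leaf 8961123) (.leaf 8708701))))) (.node (.node (.node (.node (.leaf 10223704) (.leaf 10792059)) (.node (.leaf 11086445) (.leaf 2415212))) (.node (.node (.leaf 4716) (.leaf 3221618)) (.node (.leaf 10279043) (.leaf 1015408)))) (.node (.node (.node (.leaf 11307101) (.leaf 11305589)) (.node (.leaf 8649317) (.leaf 10743933))) (.node (.node (.leaf 8112235) (.leaf 8464499)) (.node (.leaf 3342978) (.leaf 8092277)))))) (.node (.node (.node (.node (.node (.leaf 10752067) (.leaf 7100524)) (.node (.leaf 1997436) (.leaf 5843067))) (.node (.node (.leaf 1490544) (.leaf 11410048)) (.node (.leaf 5062240) (.leaf 5068363)))) (.node (.node (.node (.leaf 5425765) (.leaf 5426301))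 (.node (.leaf 988800) (.leaf 6573669))) (.node (.node (.leaf 2226260) (.leaf 2339429)) (.node (.leaf 6562427) (.leaf 5832827))))) (.node (.node (.node (.node (.leaf 7997024) (.leaf 5747309)) (.node (.leaf 5788259) (.leaf 1324109))) (.node (.node (.leaf 1322621) (.leaf 6652537)) (.node (.leaf 6633585) (.leaf 6629977)))) (.node (.node (.node (.leaf 7378049) (.leaf 2342002)) (.node (.leaf 7392377) (.leaf 7370849))) (.node (.node (.leaf 2330218) (.leaf 7680122)) (.node (.leaf 2565732) (.leaf 3415177)))))))

/-- How a representative arises, part 277. -/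
def tInfoPart277 : Janko1.Tree ℕ := (.node (.node (.node (.node (.node (.node (.leaf 207964) (.leaf 8562282)) (.node (.leaf 4292724) (.leaf 3392097))) (.node (.node (.leaf 6137468) (.leaf 2215506)) (.node (.leaf 10879100) (.leaf 3422321)))) (.node (.node (.node (.leaf 2202730) (.leaf 7606914)) (.node (.leaf 6714481) (.leaf 7417457))) (.node (.node (.leaf 7399034) (.leaf 6729313)) (.node (.leaf 2044525) (.leaf 1969755))))) (.node (.node (.node (.node (.leaf 3496065) (.leaf 3879033)) (.node (.leaf 3826289) (.leaf 11852924))) (.node (.node (.leaf 10631284) (.leaf 3519577)) (.node (.leaf 7337068) (.leaf 3546729)))) (.node (.node (.node (.leaf 3651681) (.leaf 3526761)) (.node (.leaf 3541065) (.leaf 9433180))) (.node (.node (.leaf 7276641) (.leaf 2509932)) (.node (.leaf 6755961) (.leaf 8937082)))))) (.node (.node (.node (.node (.node (.leaf 4246124) (.leaf 2890858)) (.node (.leaf 7268449) (.leaf 7992434))) (.node (.node (.leaf 6743681) (.leaf 7280729)) (.node (.leaf 7986818) (.leaf 5042802)))) (.node (.node (.node (.leaf 3741297) (.leaf 1969275))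 (.node (.leaf 3748473) (.leaf 10280570))) (.node (.node (.leaf 6929506) (.leaf 8715372)) (.node (.leaf 10291810) (.leaf 6934658))))) (.node (.node (.node (.node (.leaf 3755129) (.leaf 5151346)) (.node (.leaf 2346107) (.leaf 2966123))) (.node (.node (.leaf 1965164) (.leaf 7350401)) (.node (.leaf 8277620) (.leaf 7039090)))) (.node (.node (.node (.leaf 881761) (.leaf 206969)) (.node (.leaf 906353) (.leaf 9842808))) (.node (.node (.leaf 201329) (.leaf 281209)) (.node (.leaf 276065) (.leaf 4101210)))))))

/-- How a representative arises, part 278. -/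
def tInfoPart278 : Janko1.Tree ℕ := (.node (.node (.node (.node (.node (.node (.leaf 4441681) (.leaf 4562553)) (.node (.leaf 4439673) (.leaf 11886144))) (.node (.node (.leaf 10749032) (.leaf 2477634)) (.node (.leaf 1805928) (.leaf 4608121)))) (.node (.node (.node (.leaf 5700216) (.leaf 10718832)) (.node (.leaf 4602985) (.leaf 5899348))) (.node (.node (.leaf 169585) (.leaf 10991224)) (.node (.leaf 2286708) (.leaf 2272360))))) (.node (.node (.node (.node (.leaf 243833) (.leaf 246369)) (.node (.leaf 9816680) (.leaf 306777))) (.node (.node (.leaf 934497) (.leaf 2215024)) (.node (.leaf 4479601) (.leaf 2349171)))) (.node (.node (.node (.leaf 10755192) (.leaf 4585073)) (.node (.leaf 5953644) (.leaf 11842120))) (.node (.node (.leaf 1581685) (.leaf 5707352)) (.node (.leaf 2583677) (.leaf 4647017)))))) (.node (.node (.node (.node (.node (.leaf 4364401) (.leaf 613490)) (.node (.leaf 4353641) (.leaf 4705409))) (.node (.node (.leaf 11231336) (.leaf 4756088)) (.node (.leaf 2695280) (.leaf 3392098)))) (.node (.node (.node (.leaf 11602016) (.leaf 1010297))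 (.node (.leaf 54297) (.leaf 3031682))) (.node (.node (.leaf 110201) (.leaf 2414708)) (.node (.leaf 1270378) (.leaf 10449024))))) (.node (.node (.node (.node (.leaf 3301480) (.leaf 717416)) (.node (.leaf 1844837) (.leaf 4824160))) (.node (.node (.leaf 2836085) (.leaf 4391001)) (.node (.leaf 7045716) (.leaf 3633788)))) (.node (.node (.node (.leaf 4430457) (.leaf 2703472)) (.node (.leaf 985713) (.leaf 15473))) (.node (.node (.leaf 1044089) (.leaf 6333554)) (.node (.leaf 3374192) (.leaf 153689)))))))

/-- How a representative arises, part 279. -/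
def tInfoPart279 : Janko1.Tree ℕ := (.node (.node (.node (.node (.node (.node (.leaf 94321) (.leaf 1122425)) (.node (.leaf 96881) (.leaf 1127025))) (.node (.node (.leaf 281210) (.leaf 9006203)) (.node (.leaf 8095339) (.leaf 4293252)))) (.node (.node (.node (.leaf 2644034) (.leaf 11324523)) (.node (.leaf 8628348) (.leaf 8062075))) (.node (.node (.leaf 11740780) (.leaf 11199589)) (.node (.leaf 9016955) (.leaf 8105035))))) (.node (.node (.node (.node (.leaf 7506538) (.leaf 1738874)) (.node (.leaf 285276) (.leaf 9566314))) (.node (.node (.leaf 10639477) (.leaf 8264813)) (.node (.leaf 10887794) (.leaf 530044)))) (.node (.node (.node (.leaf 6512221) (.leaf 5785194)) (.node (.leaf 5766276) (.leaf 2951275))) (.node (.node (.leaf 2150004) (.leaf 5684301)) (.node (.leaf 6578795) (.leaf 4418154)))))) (.node (.node (.node (.node (.node (.leaf 1640581) (.leaf 5053043)) (.node (.leaf 4507268) (.leaf 5004907))) (.node (.node (.leaf 635482) (.leaf 126548)) (.node (.leaf 11314811) (.leaf 8594548)))) (.node (.node (.node (.leaf 1161810) (.leaf 1679492)) (.node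 (.leaf 5436020) (.leaf 3441786))) (.node (.node (.leaf 8470101) (.leaf 3079794)) (.node (.leaf 10269307) (.leaf 9432692))))) (.node (.node (.node (.node (.leaf 9020517) (.leaf 8968315)) (.node (.leaf 3561586) (.leaf 11287667))) (.node (.node (.leaf 3020387) (.leaf 1900157)) (.node (.leaf 10114666) (.leaf 2888829)))) (.node (.node (.node (.leaf 5383813) (.leaf 6212221)) (.node (.leaf 10400882) (.leaf 11750524))) (.node (.node (.leaf 11141754) (.leaf 2033220)) (.node (.leaf 5059195) (.leaf 5886573)))))))

/-- How a representative arises, part 280. -/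
def tInfoPart280 : Janko1.Tree ℕ := (.node (.node (.node (.node (.node (.node (.leaf 5305450) (.leaf 11411562)) (.node (.leaf 385652) (.leaf 5054069))) (.node (.node (.leaf 5013107) (.leaf 6576707)) (.node (.leaf 4229240) (.leaf 9699960)))) (.node (.node (.node (.leaf 5868152) (.leaf 201841)) (.node (.leaf 199769) (.leaf 4184680))) (.node (.node (.leaf 282233) (.leaf 5818488)) (.node (.leaf 4459633) (.leaf 2476642))))) (.node (.node (.node (.node (.leaf 4449913) (.leaf 4550265)) (.node (.leaf 5526640) (.leaf 7169136))) (.node (.node (.leaf 4604001) (.leaf 533100)) (.node (.leaf 2354788) (.leaf 8735824)))) (.node (.node (.node (.leaf 2517088) (.leaf 5954658)) (.node (.leaf 919121) (.leaf 925273))) (.node (.node (.leaf 4162152) (.leaf 976497)) (.node (.leaf 983673) (.leaf 1331315)))))) (.node (.node (.node (.node (.node (.leaf 4130424) (.leaf 2347115)) (.node (.leaf 1800812) (.leaf 4581993))) (.node (.node (.leaf 4488833) (.leaf 9610864)) (.node (.leaf 7102570) (.leaf 2899555)))) (.node (.node (.node (.leaf 279644) (.leaf 2589812)) (.node (.leaf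 4540009) (.leaf 4640361))) (.node (.node (.leaf 4668033) (.leaf 2904162)) (.node (.leaf 4354161) (.leaf 4654201))))) (.node (.node (.node (.node (.leaf 4718713) (.leaf 4407417)) (.node (.leaf 11089008) (.leaf 861256))) (.node (.node (.leaf 3638900) (.leaf 5158504)) (.node (.leaf 1014897) (.leaf 40049)))) (.node (.node (.node (.leaf 3519576) (.leaf 3516522)) (.node (.leaf 124025) (.leaf 117361))) (.node (.node (.leaf 3015768) (.leaf 6221426)) (.node (.leaf 4691065) (.leaf 4699249)))))))

/-- How a representative arises, part 281. -/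
def tInfoPart281 : Janko1.Tree ℕ := (.node (.node (.node (.node (.node (.node (.leaf 8975992) (.leaf 2287715)) (.node (.leaf 4551280) (.leaf 4754033))) (.node (.node (.leaf 9370224) (.leaf 7769)) (.node (.leaf 1041521) (.leaf 8265832)))) (.node (.node (.node (.leaf 1618016) (.leaf 83065)) (.node (.leaf 6734978) (.leaf 156753))) (.node (.node (.leaf 1119337) (.leaf 7579210)) (.node (.leaf 8543349) (.leaf 8450163))))) (.node (.node (.node (.node (.leaf 11892340) (.leaf 1885802)) (.node (.leaf 11288179) (.leaf 143458))) (.node (.node (.leaf 7183468) (.leaf 8734834)) (.node (.leaf 8069739) (.leaf 10434685)))) (.node (.node (.node (.leaf 4008050) (.leaf 10435181)) (.node (.leaf 1752698) (.leaf 5986428))) (.node (.node (.leaf 9933426) (.leaf 2019955)) (.node (.leaf 4265572) (.leaf 2147941)))))) (.node (.node (.node (.node (.node (.leaf 10764908) (.leaf 11732082)) (.node (.leaf 5272141) (.leaf 2026091))) (.node (.node (.leaf 5891187) (.leaf 5271677)) (.node (.leaf 1318507) (.leaf 1960027)))) (.node (.node (.node (.leaf 5839995) (.leaf 2764397)) (.node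 (.leaf 8104075) (.leaf 10572925))) (.node (.node (.leaf 8753261) (.leaf 8752237)) (.node (.leaf 4434540) (.leaf 8070259))))) (.node (.node (.node (.node (.leaf 10521212) (.leaf 3442786)) (.node (.leaf 11771004) (.leaf 8753757))) (.node (.node (.leaf 8752765) (.leaf 5640812)) (.node (.leaf 8096363) (.leaf 783482)))) (.node (.node (.node (.leaf 7128180) (.leaf 8115317)) (.node (.leaf 5831804) (.leaf 11328109))) (.node (.node (.leaf 9860196) (.leaf 10114138)) (.node (.leaf 10820196) (.leaf 11077234)))))))

/-- How a representative arises, part 282. -/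
def tInfoPart282 : Janko1.Tree ℕ := (.node (.node (.node (.node (.node (.node (.leaf 2519661) (.leaf 4215900)) (.node (.leaf 6675058) (.leaf 10671220))) (.node (.node (.leaf 10399858) (.leaf 2519157)) (.node (.leaf 6370914) (.leaf 10700924)))) (.node (.node (.node (.leaf 1376869) (.leaf 11652164)) (.node (.leaf 11153506) (.leaf 7344260))) (.node (.node (.leaf 6619237) (.leaf 6773866)) (.node (.leaf 9825388) (.leaf 1949299))))) (.node (.node (.node (.node (.leaf 6615653) (.leaf 5304914)) (.node (.leaf 10987128) (.leaf 7508096))) (.node (.node (.leaf 10826355) (.leaf 10762875)) (.node (.leaf 10793027) (.leaf 5555322)))) (.node (.node (.node (.leaf 4391000) (.leaf 1782900)) (.node (.leaf 1846832) (.leaf 3881072))) (.node (.node (.leaf 11838056) (.leaf 11202669)) (.node (.leaf 5448818) (.leaf 8828541)))))) (.node (.node (.node (.node (.node (.leaf 5438074) (.leaf 2267757)) (.node (.leaf 2384499) (.leaf 10946672))) (.node (.node (.leaf 2209904) (.leaf 5843579)) (.node (.leaf 5684845) (.leaf 8398456)))) (.node (.node (.node (.leaf 414850) (.leaf 418418))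 (.node (.leaf 5786224) (.leaf 1968219))) (.node (.node (.leaf 6424669) (.leaf 5586053)) (.node (.leaf 1774704) (.leaf 2645581))))) (.node (.node (.node (.node (.leaf 3810392) (.leaf 5833843)) (.node (.leaf 98892) (.leaf 8463459))) (.node (.node (.leaf 11060325) (.leaf 2766424)) (.node (.leaf 8958589) (.leaf 10753139)))) (.node (.node (.node (.leaf 8633467) (.leaf 11060853)) (.node (.leaf 2709616) (.leaf 8959093))) (.node (.node (.leaf 4971626) (.leaf 3380344)) (.node (.leaf 4643962) (.leaf 21100)))))))

/-- How a representative arises, part 283. -/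
def tInfoPart283 : Janko1.Tree ℕ := (.node (.node (.node (.node (.node (.node (.leaf 8422507) (.leaf 9023101)) (.node (.leaf 10837629) (.leaf 10727027))) (.node (.node (.leaf 2033219) (.leaf 673904)) (.node (.leaf 5883499) (.leaf 1900645)))) (.node (.node (.node (.leaf 1967747) (.leaf 6214773)) (.node (.leaf 11598960) (.leaf 1003610))) (.node (.node (.leaf 3368048) (.leaf 3011173)) (.node (.leaf 8080496) (.leaf 1263720))))) (.node (.node (.node (.node (.leaf 1533050) (.leaf 2579580)) (.node (.leaf 9773138) (.leaf 4280420))) (.node (.node (.leaf 3926633) (.leaf 9876076)) (.node (.leaf 3919465) (.leaf 10617458)))) (.node (.node (.node (.leaf 3333225) (.leaf 3329633)) (.node (.leaf 11899498) (.leaf 3973225))) (.node (.node (.leaf 3986025) (.leaf 6978129)) (.node (.leaf 6957169) (.leaf 9471100)))))) (.node (.node (.node (.node (.node (.leaf 7119473) (.leaf 7099993)) (.node (.leaf 4332156) (.leaf 9908324))) (.node (.node (.leaf 11798098) (.leaf 8664700)) (.node (.leaf 7701626) (.leaf 1198693)))) (.node (.node (.node (.leaf 8670834) (.leaf 8685674))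 (.node (.leaf 3997273) (.leaf 7248476))) (.node (.node (.leaf 9514610) (.leaf 8384124)) (.node (.leaf 9525850) (.leaf 1979019))))) (.node (.node (.node (.node (.leaf 2965619) (.leaf 2083956)) (.node (.leaf 7089793) (.leaf 8449122))) (.node (.node (.leaf 7039089) (.leaf 9442938)) (.node (.leaf 2589293) (.leaf 11041900)))) (.node (.node (.node (.leaf 4230244) (.leaf 7181361)) (.node (.leaf 9843788) (.leaf 6913633))) (.node (.node (.leaf 6891129) (.leaf 6888529)) (.node (.leaf 5421148) (.leaf 11502186)))))))

/-- How a representative arises, part 284. -/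
def tInfoPart284 : Janko1.Tree ℕ := (.node (.node (.node (.node (.node (.node (.leaf 7226985) (.leaf 4028513)) (.node (.leaf 10019938) (.leaf 4043377))) (.node (.node (.leaf 3187817) (.leaf 10303106)) (.node (.leaf 9804388) (.leaf 11570786)))) (.node (.node (.node (.leaf 8565364) (.leaf 7872618)) (.node (.leaf 5896308) (.leaf 445036))) (.node (.node (.leaf 2842189) (.leaf 8858714)) (.node (.leaf 6887017) (.leaf 7236721))))) (.node (.node (.node (.node (.leaf 7094884) (.leaf 1949812)) (.node (.leaf 9128578) (.leaf 1848957))) (.node (.node (.leaf 3188833) (.leaf 1970275)) (.node (.leaf 8312924) (.leaf 3240553)))) (.node (.node (.node (.leaf 4133505) (.leaf 9210466)) (.node (.leaf 4245624) (.leaf 9000043))) (.node (.node (.leaf 8731768) (.leaf 404592)) (.node (.leaf 10357869) (.leaf 10760283)))))) (.node (.node (.node (.node (.node (.leaf 10277491) (.leaf 8626299)) (.node (.leaf 2464320) (.leaf 10727539))) (.node (.node (.leaf 3842172) (.leaf 8661587)) (.node (.leaf 8339069) (.leaf 3783292)))) (.node (.node (.node (.leaf 5538392) (.leaf 10589304))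 (.node (.leaf 10991749) (.leaf 9607264))) (.node (.node (.leaf 8339581) (.leaf 10225771)) (.node (.leaf 4204144) (.leaf 2386043))))) (.node (.node (.node (.node (.leaf 2478712) (.leaf 7640160)) (.node (.leaf 5067371) (.leaf 10831968))) (.node (.node (.leaf 3132021) (.leaf 2112098)) (.node (.leaf 7605880) (.leaf 361048)))) (.node (.node (.node (.leaf 5163125) (.leaf 419426)) (.node (.leaf 3015283) (.leaf 8536696))) (.node (.node (.leaf 1770605) (.leaf 6104197)) (.node (.leaf 6104693) (.leaf 2954835)))))))

/-- How a representative arises, part 285. -/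
def tInfoPart285 : Janko1.Tree ℕ := (.node (.node (.node (.node (.node (.node (.leaf 1771125) (.leaf 9978488)) (.node (.leaf 8196205) (.leaf 8970347))) (.node (.node (.leaf 2960480) (.leaf 8971872)) (.node (.leaf 875648) (.leaf 5592172)))) (.node (.node (.node (.leaf 10717275) (.leaf 10344512)) (.node (.leaf 9366128) (.leaf 10763373))) (.node (.node (.leaf 5647492) (.leaf 1523824)) (.node (.leaf 10767469) (.leaf 4594792))))) (.node (.node (.node (.node (.leaf 2396787) (.leaf 1512573)) (.node (.leaf 4546672) (.leaf 2334843))) (.node (.node (.leaf 2955371) (.leaf 7879272)) (.node (.leaf 5011579) (.leaf 5129848)))) (.node (.node (.node (.leaf 3580016) (.leaf 5797507)) (.node (.leaf 5069427) (.leaf 11463288))) (.node (.node (.leaf 5075552) (.leaf 11429984)) (.node (.leaf 11051642) (.leaf 3898985)))))) (.node (.node (.node (.node (.node (.leaf 4329074) (.leaf 7545964)) (.node (.leaf 3896417) (.leaf 3910761))) (.node (.node (.leaf 3267193) (.leaf 3284081)) (.node (.leaf 3962441) (.leaf 3333761)))) (.node (.node (.node (.leaf 3959377) (.leaf 5589618))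 (.node (.leaf 11885684) (.leaf 9607796))) (.node (.node (.leaf 4249202) (.leaf 11834484)) (.node (.leaf 7022681) (.leaf 7004233))))) (.node (.node (.node (.node (.leaf 7120481) (.leaf 7104633)) (.node (.leaf 7017585) (.leaf 5488242))) (.node (.node (.leaf 7116377) (.leaf 3307625)) (.node (.leaf 7702650) (.leaf 3947121)))) (.node (.node (.node (.leaf 3316849) (.leaf 8523898)) (.node (.leaf 3951217) (.leaf 3856490))) (.node (.node (.leaf 3954289) (.leaf 2253930)) (.node (.leaf 4047476) (.leaf 7413332)))))))

/-- How a representative arises, part 286. -/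
def tInfoPart286 : Janko1.Tree ℕ := (.node (.node (.node (.node (.node (.node (.leaf 2257010) (.leaf 2717789)) (.node (.leaf 6861937) (.leaf 11502714))) (.node (.node (.leaf 7205489) (.leaf 6916185)) (.node (.leaf 6893169) (.leaf 11508842)))) (.node (.node (.node (.leaf 7219825) (.leaf 5020762)) (.node (.leaf 3178097) (.leaf 9568372))) (.node (.node (.leaf 8335980) (.leaf 3156601)) (.node (.leaf 4026985) (.leaf 4128369))))) (.node (.node (.node (.node (.leaf 7474812) (.leaf 147068)) (.node (.leaf 7873138) (.leaf 6104692))) (.node (.node (.leaf 4226636) (.leaf 6934657)) (.node (.leaf 1462917) (.leaf 7252073)))) (.node (.node (.node (.leaf 6942289) (.leaf 7931506)) (.node (.leaf 1759348) (.leaf 3979876))) (.node (.node (.leaf 3200609) (.leaf 3204697)) (.node (.leaf 6054524) (.leaf 4142689)))))) (.node (.node (.node (.node (.node (.leaf 4489314) (.leaf 4868217)) (.node (.leaf 4436060) (.leaf 10987640))) (.node (.node (.leaf 474732) (.leaf 4903545)) (.node (.leaf 62576) (.leaf 10955376)))) (.node (.node (.node (.leaf 340585) (.leaf 3842664)) (.node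 (.leaf 1882192) (.leaf 777849))) (.node (.node (.leaf 2044524) (.leaf 834657)) (.node (.leaf 828521) (.leaf 3782752))))) (.node (.node (.node (.node (.leaf 843897) (.leaf 421449)) (.node (.leaf 11838584) (.leaf 419425))) (.node (.node (.leaf 131192) (.leaf 187980)) (.node (.leaf 2582138) (.leaf 4382288)))) (.node (.node (.node (.leaf 8556656) (.leaf 1199717)) (.node (.leaf 4083314) (.leaf 10945608))) (.node (.node (.leaf 371801) (.leaf 3832944)) (.node (.leaf 375929) (.leaf 748641)))))))

/-- How a representative arises, part 287. -/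
def tInfoPart287 : Janko1.Tree ℕ := (.node (.node (.node (.node (.node (.node (.leaf 380033) (.leaf 2467946)) (.node (.leaf 386673) (.leaf 444025))) (.node (.node (.leaf 810609) (.leaf 11828848)) (.node (.leaf 4863064) (.leaf 11267696)))) (.node (.node (.node (.leaf 572529) (.leaf 4809320)) (.node (.leaf 8841816) (.leaf 5591148))) (.node (.node (.leaf 700017) (.leaf 4260969)) (.node (.leaf 4259953) (.leaf 4301953))))) (.node (.node (.node (.node (.leaf 9189488) (.leaf 1306192)) (.node (.leaf 11577976) (.leaf 332908))) (.node (.node (.leaf 464489) (.leaf 653921)) (.node (.leaf 2723952) (.leaf 472105)))) (.node (.node (.node (.leaf 663145) (.leaf 2895978)) (.node (.leaf 669297) (.leaf 1660036))) (.node (.node (.leaf 3384922) (.leaf 11227248)) (.node (.leaf 5377144) (.leaf 3334240)))))) (.node (.node (.node (.node (.node (.leaf 1360488) (.leaf 4297841)) (.node (.leaf 5322336) (.leaf 4329073))) (.node (.node (.leaf 1974357) (.leaf 2963557)) (.node (.leaf 4342393) (.leaf 8768100)))) (.node (.node (.node (.leaf 8457835) (.leaf 8620149)) (.node (.leaf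 9906818) (.leaf 2338892))) (.node (.node (.leaf 8425595) (.leaf 11883620)) (.node (.leaf 7235186) (.leaf 11280515))))) (.node (.node (.node (.node (.leaf 10753138) (.leaf 8056429)) (.node (.leaf 8449123) (.leaf 11192437))) (.node (.node (.leaf 7169668) (.leaf 9845874)) (.node (.leaf 10630245) (.leaf 8630379)))) (.node (.node (.node (.leaf 8416339) (.leaf 8253013)) (.node (.leaf 11192941) (.leaf 5972588))) (.node (.node (.leaf 8642684) (.leaf 2617978)) (.node (.leaf 6619755) (.leaf 2342531)))))))

/-- How a representative arises, part 288. -/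
def tInfoPart288 : Janko1.Tree ℕ := (.node (.node (.node (.node (.node (.node (.leaf 4110964) (.leaf 8397930)) (.node (.leaf 2274933) (.leaf 8757866))) (.node (.node (.leaf 2018947) (.leaf 2393203)) (.node (.leaf 9485428) (.leaf 5576309)))) (.node (.node (.node (.leaf 4046972) (.leaf 2633333)) (.node (.leaf 8947325) (.leaf 8733300))) (.node (.node (.leaf 8402005) (.leaf 5869684)) (.node (.leaf 10269811) (.leaf 10493037))))) (.node (.node (.node (.node (.leaf 11366522) (.leaf 8631355)) (.node (.leaf 5224562) (.leaf 11765348))) (.node (.node (.leaf 11288683) (.leaf 10228355)) (.node (.leaf 9028701) (.leaf 11315811)))) (.node (.node (.node (.leaf 10164818) (.leaf 3756124)) (.node (.leaf 8423019) (.leaf 10949748))) (.node (.node (.leaf 8994434) (.leaf 2019435)) (.node (.leaf 658050) (.leaf 2930282)))))) (.node (.node (.node (.node (.node (.leaf 2493060) (.leaf 2332779)) (.node (.leaf 5375613) (.leaf 5013635))) (.node (.node (.leaf 8013930) (.leaf 7302252)) (.node (.leaf 9069674) (.leaf 3016301)))) (.node (.node (.node (.leaf 1959027) (.leaf 2340451))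 (.node (.leaf 3535970) (.leaf 2430556))) (.node (.node (.leaf 10842224) (.leaf 4150377)) (.node (.leaf 403568) (.leaf 4875353))))) (.node (.node (.node (.node (.leaf 4162153) (.leaf 5832304)) (.node (.leaf 333400) (.leaf 2463832))) (.node (.node (.leaf 4164728) (.leaf 7233144)) (.node (.leaf 413801) (.leaf 817249)))) (.node (.node (.node (.leaf 5507176) (.leaf 4188785)) (.node (.leaf 4192361) (.leaf 267378))) (.node (.node (.leaf 4235896) (.leaf 361576)) (.node (.leaf 7605352) (.leaf 4241009)))))))

/-- How a representative arises, part 289. -/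
def tInfoPart289 : Janko1.Tree ℕ := (.node (.node (.node (.node (.node (.node (.leaf 4956265) (.leaf 4249201)) (.node (.leaf 9662576) (.leaf 785513))) (.node (.node (.leaf 792665) (.leaf 377449)) (.node (.leaf 378481) (.leaf 5576832)))) (.node (.node (.node (.leaf 10608240) (.leaf 2070624)) (.node (.leaf 8506984) (.leaf 5531248))) (.node (.node (.leaf 10581096) (.leaf 6298240)) (.node (.leaf 483433) (.leaf 495705))))) (.node (.node (.node (.node (.leaf 630889) (.leaf 4754538)) (.node (.leaf 11092584) (.leaf 6248040))) (.node (.node (.leaf 548961) (.leaf 690793)) (.node (.leaf 8972384) (.leaf 5177986)))) (.node (.node (.node (.leaf 4758633) (.leaf 6816856)) (.node (.leaf 4756569) (.leaf 4769393))) (.node (.node (.leaf 11437688) (.leaf 4150868)) (.node (.leaf 4309609) (.leaf 5279330)))))) (.node (.node (.node (.node (.node (.leaf 5865596) (.leaf 525921)) (.node (.leaf 623210) (.leaf 665705))) (.node (.node (.leaf 588409) (.leaf 2911848)) (.node (.leaf 730209) (.leaf 4791913)))) (.node (.node (.node (.leaf 7110764) (.leaf 4799609)) (.node (.leaf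 4288625) (.leaf 5163624))) (.node (.node (.leaf 4295265) (.leaf 5812324)) (.node (.leaf 4859497) (.leaf 4335737))))) (.node (.node (.node (.node (.leaf 4865617) (.leaf 4339841)) (.node (.leaf 10916461) (.leaf 8667771))) (.node (.node (.leaf 9015931) (.leaf 4536426)) (.node (.leaf 10913906) (.leaf 9877108)))) (.node (.node (.node (.leaf 10754170) (.leaf 8638075)) (.node (.leaf 7222906) (.leaf 1881716))) (.node (.node (.leaf 11742834) (.leaf 4073580)) (.node (.leaf 5871202) (.leaf 1820764)))))))

/-- How a representative arises, part 290. -/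
def tInfoPart290 : Janko1.Tree ℕ := (.node (.node (.node (.node (.node (.node (.leaf 11321459) (.leaf 10845306)) (.node (.leaf 8630899) (.leaf 7114354))) (.node (.node (.leaf 8967275) (.leaf 10980461)) (.node (.leaf 11673178) (.leaf 2401403)))) (.node (.node (.node (.leaf 518252) (.leaf 6000765)) (.node (.leaf 3133045) (.leaf 10635852))) (.node (.node (.leaf 2393723) (.leaf 3788908)) (.node (.leaf 5897835) (.leaf 2757245))))) (.node (.node (.node (.node (.leaf 5849211) (.leaf 6092397)) (.node (.leaf 10086514) (.leaf 4807290))) (.node (.node (.leaf 10840180) (.leaf 5224018)) (.node (.leaf 11289203) (.leaf 10650220)))) (.node (.node (.node (.leaf 8669811) (.leaf 6343794)) (.node (.leaf 9017443) (.leaf 11168370))) (.node (.node (.leaf 10687604) (.leaf 10446458)) (.node (.leaf 2462844) (.leaf 6748274)))))) (.node (.node (.node (.node (.node (.leaf 10808932) (.leaf 11435658)) (.node (.leaf 10789491) (.leaf 2512493))) (.node (.node (.leaf 10970204) (.leaf 5898843)) (.node (.leaf 2511997) (.leaf 2952315)))) (.node (.node (.node (.leaf 6578291) (.leaf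 3053690)) (.node (.leaf 3021435) (.leaf 9070162))) (.node (.node (.leaf 2962019) (.leaf 2397781)) (.node (.leaf 2228848) (.leaf 11269725))))) (.node (.node (.node (.node (.leaf 4392016) (.leaf 10815075)) (.node (.leaf 540778) (.leaf 8621181))) (.node (.node (.leaf 9805936) (.leaf 10950776)) (.node (.leaf 2103922) (.leaf 8999027)))) (.node (.node (.node (.leaf 8257133) (.leaf 10748536)) (.node (.leaf 10825843) (.leaf 8257653))) (.node (.node (.leaf 10792571) (.leaf 8369280)) (.node (.leaf 10729579) (.leaf 2237552)))))))

/-- How a representative arises, part 291. -/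
def tInfoPart291 : Janko1.Tree ℕ := (.node (.node (.node (.node (.node (.node (.leaf 8601704) (.leaf 5695589)) (.node (.leaf 2528900) (.leaf 10991744))) (.node (.node (.leaf 5881971) (.leaf 2275957)) (.node (.leaf 10959480) (.leaf 1258605)))) (.node (.node (.node (.leaf 2635357) (.leaf 9509488)) (.node (.leaf 10756216) (.leaf 4022892))) (.node (.node (.leaf 1844320) (.leaf 9475704)) (.node (.leaf 8377456) (.leaf 10124856))))) (.node (.node (.node (.node (.leaf 8102507) (.leaf 11051645)) (.node (.leaf 387676) (.leaf 2661488))) (.node (.node (.leaf 4757096) (.leaf 11230840)) (.node (.leaf 10493557) (.leaf 10728555)))) (.node (.node (.node (.leaf 9218680) (.leaf 10848357)) (.node (.leaf 8111211) (.leaf 9032821))) (.node (.node (.leaf 5282424) (.leaf 10782323)) (.node (.leaf 10718835) (.leaf 2882165)))))) (.node (.node (.node (.node (.node (.leaf 1380459) (.leaf 4823152)) (.node (.leaf 6207589) (.leaf 2944067))) (.node (.node (.leaf 6208125) (.leaf 610408)) (.node (.leaf 1386099) (.leaf 3014251)))) (.node (.node (.node (.leaf 3275872) (.leaf 9195112))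 (.node (.leaf 2953843) (.leaf 10454640))) (.node (.node (.leaf 3019909) (.leaf 1267296)) (.node (.leaf 6654065) (.leaf 2399338))))) (.node (.node (.node (.node (.leaf 11021444) (.leaf 6684777)) (.node (.leaf 6699113) (.leaf 9508434))) (.node (.node (.leaf 2281066) (.leaf 11839100)) (.node (.leaf 3794017) (.leaf 3740242)))) (.node (.node (.node (.leaf 3753578) (.leaf 3864177)) (.node (.leaf 4540012) (.leaf 6211138))) (.node (.node (.leaf 9892964) (.leaf 11030130)) (.node (.leaf 2227829) (.leaf 7414905)))))))

/-- How a representative arises, part 292. -/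
def tInfoPart292 : Janko1.Tree ℕ := (.node (.node (.node (.node (.node (.node (.leaf 10763372) (.leaf 11850362)) (.node (.leaf 1900644) (.leaf 7413876))) (.node (.node (.leaf 6101602) (.leaf 10738308)) (.node (.leaf 3385433) (.leaf 10976858)))) (.node (.node (.node (.leaf 7397980) (.leaf 7348842)) (.node (.leaf 1261675) (.leaf 3492969))) (.node (.node (.leaf 3445881) (.leaf 3505249)) (.node (.leaf 2693754) (.leaf 2706498))))) (.node (.node (.node (.node (.leaf 3533425) (.leaf 3545705)) (.node (.leaf 8292460) (.leaf 3595889))) (.node (.node (.leaf 9119850) (.leaf 5641340)) (.node (.leaf 9113730) (.leaf 2818178)))) (.node (.node (.node (.leaf 8330348) (.leaf 7271537)) (.node (.leaf 8900714) (.leaf 3741820))) (.node (.node (.leaf 7470700) (.leaf 3314298)) (.node (.leaf 7337065) (.leaf 7317081)))))) (.node (.node (.node (.node (.node (.leaf 9182330) (.leaf 3677281)) (.node (.leaf 3683929) (.leaf 164460))) (.node (.node (.leaf 3739769) (.leaf 1262187)) (.node (.leaf 3746929) (.leaf 11482738)))) (.node (.node (.node (.leaf 6764649) (.leaf 1979997))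 (.node (.leaf 6779497) (.leaf 6818937))) (.node (.node (.leaf 9824884) (.leaf 6984306)) (.node (.leaf 6826601) (.leaf 6830689))))) (.node (.node (.node (.node (.leaf 2531956) (.leaf 542298)) (.node (.leaf 8544877) (.leaf 8548981))) (.node (.node (.leaf 10754171) (.leaf 2474072)) (.node (.leaf 10366069) (.leaf 5550716)))) (.node (.node (.node (.leaf 3846794) (.leaf 10227291)) (.node (.leaf 4027484) (.leaf 8456827))) (.node (.node (.leaf 10428533) (.leaf 10761339)) (.node (.leaf 10278531) (.leaf 2594916)))))))

/-- How a representative arises, part 293. -/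
def tInfoPart293 : Janko1.Tree ℕ := (.node (.node (.node (.node (.node (.node (.leaf 8327301) (.leaf 8068195)) (.node (.leaf 1978482) (.leaf 10429045))) (.node (.node (.leaf 10427973) (.leaf 3702402)) (.node (.leaf 4026984) (.leaf 5875304)))) (.node (.node (.node (.leaf 2148957) (.leaf 2153589)) (.node (.leaf 1325683) (.leaf 5171829))) (.node (.node (.leaf 5741147) (.leaf 9678952)) (.node (.leaf 2131048) (.leaf 8546424))))) (.node (.node (.node (.node (.leaf 7227480) (.leaf 10622552)) (.node (.leaf 1957475) (.leaf 5748843))) (.node (.node (.leaf 8188005) (.leaf 8189021)) (.node (.leaf 10566781) (.leaf 10279547)))) (.node (.node (.node (.leaf 8188525) (.leaf 862320)) (.node (.leaf 8421427) (.leaf 10567261))) (.node (.node (.leaf 3158114) (.leaf 2907240)) (.node (.leaf 3960444) (.leaf 994402)))))) (.node (.node (.node (.node (.node (.leaf 5125248) (.leaf 10266219)) (.node (.leaf 5228) (.leaf 1521770))) (.node (.node (.leaf 8129661) (.leaf 1502317)) (.node (.leaf 5068891) (.leaf 5479541)))) (.node (.node (.node (.leaf 1315955) (.leaf 7892600))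 (.node (.leaf 11097696) (.leaf 5480045))) (.node (.node (.leaf 1617000) (.leaf 8266864)) (.node (.leaf 5792381) (.leaf 5789821))))) (.node (.node (.node (.node (.leaf 5058683) (.leaf 9371768)) (.node (.leaf 8232536) (.leaf 11441768))) (.node (.node (.leaf 9338456) (.leaf 6663281)) (.node (.leaf 7396473) (.leaf 11031658)))) (.node (.node (.node (.leaf 7403625) (.leaf 6207586)) (.node (.leaf 9794154) (.leaf 6680153))) (.node (.node (.leaf 5767788) (.leaf 5564010)) (.node (.leaf 11851874) (.leaf 2148956)))))))

/-- How a representative arises, part 294. -/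
def tInfoPart294 : Janko1.Tree ℕ := (.node (.node (.node (.node (.node (.node (.leaf 3083885) (.leaf 9641076)) (.node (.leaf 4224626) (.leaf 1327747))) (.node (.node (.leaf 3819105) (.leaf 3440249)) (.node (.leaf 5464162) (.leaf 5459050)))) (.node (.node (.node (.leaf 11780210) (.leaf 3495545)) (.node (.leaf 10562114) (.leaf 3444329))) (.node (.node (.leaf 3825793) (.leaf 3446897)) (.node (.leaf 4566122) (.leaf 3678305))))) (.node (.node (.node (.node (.leaf 3553905) (.leaf 456812)) (.node (.leaf 9950314) (.leaf 3510905))) (.node (.node (.leaf 3565185) (.leaf 3619961)) (.node (.leaf 11483250) (.leaf 1964636)))) (.node (.node (.node (.leaf 9553004) (.leaf 3626633)) (.node (.leaf 6880882) (.leaf 10532476))) (.node (.node (.leaf 4674138) (.leaf 5664868)) (.node (.leaf 6766705) (.leaf 1979523)))))) (.node (.node (.node (.node (.node (.leaf 2346619) (.leaf 2966635)) (.node (.leaf 7299185) (.leaf 2350701))) (.node (.node (.leaf 9587316) (.leaf 6572146)) (.node (.leaf 5095034) (.leaf 11562114)))) (.node (.node (.node (.leaf 5836372) (.leaf 2286171))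 (.node (.leaf 2899051) (.leaf 6827633))) (.node (.node (.leaf 10313314) (.leaf 2351213)) (.node (.leaf 6985330) (.leaf 1335925))))) (.node (.node (.node (.node (.leaf 373872) (.leaf 3902570)) (.node (.leaf 5607013) (.leaf 1664628))) (.node (.node (.leaf 6441093) (.leaf 1157237)) (.node (.leaf 407152) (.leaf 11589729)))) (.node (.node (.node (.leaf 8745064) (.leaf 4214400)) (.node (.leaf 5502053) (.leaf 4034130))) (.node (.node (.leaf 9188441) (.leaf 9528433)) (.node (.leaf 6014060) (.leaf 7200872)))))))

/-- How a representative arises, part 295. -/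
def tInfoPart295 : Janko1.Tree ℕ := (.node (.node (.node (.node (.node (.node (.leaf 5500541) (.leaf 1728620)) (.node (.leaf 9215097) (.leaf 6219899))) (.node (.node (.leaf 8721496) (.leaf 11628153)) (.node (.leaf 2788995) (.leaf 4177016)))) (.node (.node (.node (.leaf 5338747) (.leaf 11674217)) (.node (.leaf 11680361) (.leaf 9721944))) (.node (.node (.leaf 2487387) (.leaf 5296227)) (.node (.leaf 7163504) (.leaf 7164538))))) (.node (.node (.node (.node (.leaf 9213529) (.leaf 1406555)) (.node (.leaf 9585761) (.leaf 8525920))) (.node (.node (.leaf 2116200) (.leaf 9649272)) (.node (.leaf 4076136) (.leaf 2846819)))) (.node (.node (.node (.leaf 5565536) (.leaf 5289061)) (.node (.leaf 9116793) (.leaf 1790565))) (.node (.node (.leaf 9601641) (.leaf 5287549)) (.node (.leaf 939136) (.leaf 9023096)))))) (.node (.node (.node (.node (.node (.leaf 9146993) (.leaf 6117956)) (.node (.leaf 1527896) (.leaf 1626744))) (.node (.node (.leaf 3594816) (.leaf 11521097)) (.node (.leaf 1789555) (.leaf 2782315)))) (.node (.node (.node (.leaf 6277752) (.leaf 6388354))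 (.node (.leaf 9656945) (.leaf 4441684))) (.node (.node (.leaf 10004088) (.leaf 2476643)) (.node (.leaf 11423864) (.leaf 11505257))))) (.node (.node (.node (.node (.leaf 6693482) (.leaf 11513457)) (.node (.leaf 538212) (.leaf 8246896))) (.node (.node (.leaf 1863803) (.leaf 3567208)) (.node (.leaf 3777668) (.leaf 1171573)))) (.node (.node (.node (.leaf 3915372) (.leaf 6453365)) (.node (.leaf 1171037) (.leaf 2450562))) (.node (.node (.leaf 2198645) (.leaf 150660)) (.node (.leaf 54298) (.leaf 6452853)))))))

/-- How a representative arises, part 296. -/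
def tInfoPart296 : Janko1.Tree ℕ := (.node (.node (.node (.node (.node (.node (.leaf 8373346) (.leaf 6345845)) (.node (.leaf 1547381) (.leaf 7540866))) (.node (.node (.leaf 9539684) (.leaf 6123139)) (.node (.leaf 1821299) (.leaf 7512668)))) (.node (.node (.node (.leaf 5871740) (.leaf 10660461)) (.node (.leaf 5312619) (.leaf 8763005))) (.node (.node (.leaf 11684986) (.leaf 5470827)) (.node (.leaf 5949578) (.leaf 11797124))))) (.node (.node (.node (.node (.leaf 1876587) (.leaf 1363050)) (.node (.leaf 7432308) (.leaf 11056243))) (.node (.node (.leaf 3128946) (.leaf 2799205)) (.node (.leaf 1946205) (.leaf 11014259)))) (.node (.node (.node (.leaf 3490418) (.leaf 5000821)) (.node (.leaf 8713315) (.leaf 8375899))) (.node (.node (.leaf 10745468) (.leaf 10498163)) (.node (.leaf 8488564) (.leaf 714826)))))) (.node (.node (.node (.node (.node (.leaf 7408252) (.leaf 10499674)) (.node (.leaf 6132835) (.leaf 8898165))) (.node (.node (.leaf 8350325) (.leaf 6412890)) (.node (.leaf 5371523) (.leaf 9727100)))) (.node (.node (.node (.leaf 8899701) (.leaf 1486435))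 (.node (.leaf 11175538) (.leaf 2334844))) (.node (.node (.leaf 8974933) (.leaf 8430181)) (.node (.leaf 5258354) (.leaf 11377738))))) (.node (.node (.node (.node (.leaf 9610348) (.leaf 10797677)) (.node (.leaf 5740660) (.leaf 2073700))) (.node (.node (.leaf 9826936) (.leaf 27240)) (.node (.leaf 11549809) (.leaf 13410)))) (.node (.node (.node (.leaf 5860988) (.leaf 2245744)) (.node (.leaf 5085285) (.leaf 5085797))) (.node (.node (.leaf 2421338) (.leaf 9195113)) (.node (.leaf 3788416) (.leaf 1826904)))))))

/-- How a representative arises, part 297. -/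
def tInfoPart297 : Janko1.Tree ℕ := (.node (.node (.node (.node (.node (.node (.leaf 8351872) (.leaf 2668661)) (.node (.leaf 2667125) (.leaf 5182069))) (.node (.node (.leaf 5180533) (.leaf 177266)) (.node (.leaf 1989740) (.leaf 7414904)))) (.node (.node (.node (.leaf 9836144) (.leaf 11629169)) (.node (.leaf 11573361) (.leaf 11635321))) (.node (.node (.leaf 93724) (.leaf 8621176)) (.node (.leaf 11679361) (.leaf 7495264))))) (.node (.node (.node (.node (.leaf 9553001) (.leaf 9494144)) (.node (.leaf 1407091) (.leaf 1837664))) (.node (.node (.leaf 7150202) (.leaf 5777008)) (.node (.leaf 5445228) (.leaf 9576569)))) (.node (.node (.node (.leaf 1859688) (.leaf 6223485)) (.node (.leaf 9603145) (.leaf 11214448))) (.node (.node (.leaf 9160305) (.leaf 5908588)) (.node (.leaf 9629809) (.leaf 724600)))))) (.node (.node (.node (.node (.node (.leaf 3097690) (.leaf 11697257)) (.node (.leaf 11492449) (.leaf 11488329))) (.node (.node (.leaf 5355640) (.leaf 1290829)) (.node (.leaf 675458) (.leaf 2978930)))) (.node (.node (.node (.leaf 4784744) (.leaf 5543492))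 (.node (.leaf 9126521) (.leaf 628808))) (.node (.node (.leaf 11221608) (.leaf 6469232)) (.node (.leaf 181364) (.leaf 8892016))))) (.node (.node (.node (.node (.leaf 2746992) (.leaf 1469035)) (.node (.leaf 1854075) (.leaf 255116))) (.node (.node (.leaf 9212544) (.leaf 11512929)) (.node (.leaf 1417323) (.leaf 2425963)))) (.node (.node (.node (.leaf 2789499) (.leaf 5339243)) (.node (.leaf 6268531) (.leaf 6284914))) (.node (.node (.leaf 11534969) (.leaf 7040072)) (.node (.leaf 5617764) (.leaf 5929581)))))))

/-- How a representative arises, part 298. -/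
def tInfoPart298 : Janko1.Tree ℕ := (.node (.node (.node (.node (.node (.node (.leaf 3941970) (.leaf 10569323)) (.node (.leaf 3059821) (.leaf 8688754))) (.node (.node (.leaf 3060349) (.leaf 5098549)) (.node (.leaf 8749155) (.leaf 2451034)))) (.node (.node (.node (.leaf 1806954) (.leaf 6024301)) (.node (.leaf 1685125) (.leaf 1683573))) (.node (.node (.leaf 5196365) (.leaf 11127419)) (.node (.leaf 8190555) (.leaf 8406139))))) (.node (.node (.node (.node (.leaf 5612106) (.leaf 7081050)) (.node (.leaf 10309229) (.leaf 2803787))) (.node (.node (.leaf 10309709) (.leaf 4235372)) (.node (.leaf 5846650) (.leaf 9827962)))) (.node (.node (.node (.leaf 6243411) (.leaf 4189804)) (.node (.leaf 6026852) (.leaf 9801332))) (.node (.node (.leaf 5470259) (.leaf 4456058)) (.node (.leaf 1752180) (.leaf 8484460)))))) (.node (.node (.node (.node (.node (.leaf 1367122) (.leaf 11021915)) (.node (.leaf 3623514) (.leaf 2434149))) (.node (.node (.leaf 2316404) (.leaf 523364)) (.node (.leaf 1426013) (.leaf 8778364)))) (.node (.node (.node (.leaf 2324605) (.leaf 9283178))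 (.node (.leaf 588412) (.leaf 8046706))) (.node (.node (.leaf 8714803) (.leaf 8814716)) (.node (.leaf 1305725) (.leaf 11119227))))) (.node (.node (.node (.node (.leaf 6558805) (.leaf 5419107)) (.node (.leaf 10497650) (.leaf 4285564))) (.node (.node (.leaf 6190699) (.leaf 6127748)) (.node (.leaf 8692325) (.leaf 10212994)))) (.node (.node (.node (.leaf 9872516) (.leaf 5258850)) (.node (.leaf 11286645) (.leaf 10432578))) (.node (.node (.leaf 9905268) (.leaf 8637029)) (.node (.leaf 8636029) (.leaf 1815668)))))))

/-- How a representative arises, part 299. -/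
def tInfoPart299 : Janko1.Tree ℕ := (.node (.node (.node (.node (.node (.node (.leaf 6305882) (.leaf 9475188)) (.node (.leaf 6450301) (.leaf 9688664))) (.node (.node (.leaf 5619813) (.leaf 2197037)) (.node (.leaf 10823792) (.leaf 114284)))) (.node (.node (.node (.leaf 6344269) (.leaf 8499296)) (.node (.leaf 7167088) (.leaf 11692144))) (.node (.node (.leaf 1546349) (.leaf 4259418)) (.node (.leaf 7248992) (.leaf 4255354))))) (.node (.node (.node (.node (.leaf 8748139) (.leaf 9641576)) (.node (.leaf 10785384) (.leaf 2812483))) (.node (.node (.leaf 2436184) (.leaf 8011365)) (.node (.leaf 5452875) (.leaf 350810)))) (.node (.node (.node (.leaf 8565853) (.leaf 10657901)) (.node (.leaf 393828) (.leaf 6141555))) (.node (.node (.leaf 7191144) (.leaf 8201341)) (.node (.leaf 9615984) (.leaf 2435683)))))) (.node (.node (.node (.node (.node (.leaf 8519288) (.leaf 2105944)) (.node (.leaf 11716208) (.leaf 6301291))) (.node (.node (.leaf 8201853) (.leaf 1479779)) (.node (.leaf 3711588) (.leaf 10536571)))) (.node (.node (.node (.leaf 4076652) (.leaf 8711795))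 (.node (.leaf 8361091) (.leaf 7905400))) (.node (.node (.leaf 10502259) (.leaf 5301389)) (.node (.leaf 4622432) (.leaf 198756))))) (.node (.node (.node (.node (.leaf 6112876) (.leaf 6746752)) (.node (.leaf 5826645) (.leaf 3546216))) (.node (.node (.leaf 8157819) (.leaf 4602986)) (.node (.leaf 4597858) (.leaf 4016196)))) (.node (.node (.node (.leaf 10363512) (.leaf 3571824)) (.node (.leaf 4998261) (.leaf 11067504))) (.node (.node (.leaf 6223992) (.leaf 5759100)) (.node (.leaf 4562552) (.leaf 10443885)))))))

/-- How a representative arises, part 300. -/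
def tInfoPart300 : Janko1.Tree ℕ := (.node (.node (.node (.node (.node (.node (.leaf 9988208) (.leaf 2840674)) (.node (.leaf 8896125) (.leaf 467060))) (.node (.node (.leaf 1464442) (.leaf 1564792)) (.node (.leaf 8972389) (.leaf 3205746)))) (.node (.node (.node (.leaf 9341032) (.leaf 8235632)) (.node (.leaf 6293107) (.leaf 5706348))) (.node (.node (.leaf 9886825) (.leaf 9881193)) (.node (.leaf 10513514) (.leaf 1701996))))) (.node (.node (.node (.node (.leaf 5599845) (.leaf 7293564)) (.node (.leaf 9854580) (.leaf 1152597))) (.node (.node (.leaf 2500204) (.leaf 4217956)) (.node (.leaf 9822324) (.leaf 5492349)))) (.node (.node (.node (.leaf 8587380) (.leaf 7866985)) (.node (.leaf 2533445) (.leaf 7910497))) (.node (.node (.leaf 5493365) (.leaf 8463980)) (.node (.leaf 9729130) (.leaf 2531437)))))) (.node (.node (.node (.node (.node (.leaf 5281899) (.leaf 9950841)) (.node (.leaf 9957481) (.leaf 8574578))) (.node (.node (.leaf 9704564) (.leaf 1862267)) (.node (.leaf 7591554) (.leaf 2268796)))) (.node (.node (.node (.leaf 9483362) (.leaf 9677940)) (.node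 (.leaf 7877753) (.leaf 1785451))) (.node (.node (.leaf 7572601) (.leaf 7124084)) (.node (.leaf 7462521) (.leaf 8527980))))) (.node (.node (.node (.node (.leaf 7935097) (.leaf 10350194)) (.node (.leaf 6108781) (.leaf 4742266))) (.node (.node (.leaf 2557532) (.leaf 7483505)) (.node (.leaf 5059714) (.leaf 2914941)))) (.node (.node (.node (.leaf 5056602) (.leaf 10015329)) (.node (.leaf 10009689) (.leaf 2915445))) (.node (.node (.leaf 11261546) (.leaf 9845361)) (.node (.leaf 1835620) (.leaf 4977749)))))))

/-- How a representative arises, part 301. -/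
def tInfoPart301 : Janko1.Tree ℕ := (.node (.node (.node (.node (.node (.node (.leaf 9837169) (.leaf 8399492)) (.node (.leaf 7944793) (.leaf 1406051))) (.node (.node (.leaf 7994481) (.leaf 8759900)) (.node (.leaf 7998057) (.leaf 9164890)))) (.node (.node (.node (.leaf 5391971) (.leaf 9836145)) (.node (.leaf 1795187) (.leaf 2392684))) (.node (.node (.leaf 10072177) (.leaf 8363116)) (.node (.leaf 983674) (.leaf 9854577))))) (.node (.node (.node (.node (.leaf 2166368) (.leaf 1923684)) (.node (.leaf 6056056) (.leaf 10936440))) (.node (.node (.leaf 2258552) (.leaf 8616024)) (.node (.leaf 6069848) (.leaf 4153962)))) (.node (.node (.node (.leaf 4158058) (.leaf 11097699)) (.node (.leaf 11028067) (.leaf 5731944))) (.node (.node (.leaf 2678901) (.leaf 5497458)) (.node (.leaf 3824752) (.leaf 7105644)))))) (.node (.node (.node (.node (.node (.leaf 10501235) (.leaf 8389240)) (.node (.leaf 8498805) (.leaf 6131811))) (.node (.node (.leaf 1812075) (.leaf 5455475)) (.node (.leaf 2250360) (.leaf 10306693)))) (.node (.node (.node (.leaf 335482) (.leaf 5305451))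 (.node (.leaf 2436187) (.leaf 2802739))) (.node (.node (.leaf 10371189) (.leaf 5448308)) (.node (.leaf 6200419) (.leaf 7422552))))) (.node (.node (.node (.node (.leaf 8834173) (.leaf 7206004)) (.node (.leaf 11218544) (.leaf 667248))) (.node (.node (.leaf 1422973) (.leaf 2751080)) (.node (.leaf 8888432) (.leaf 4845168)))) (.node (.node (.node (.leaf 5407853) (.leaf 2432117)) (.node (.leaf 11088475) (.leaf 11018851))) (.node (.node (.leaf 1303653) (.leaf 6960760)) (.node (.leaf 6556293) (.leaf 1290824)))))))

/-- How a representative arises, part 302. -/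
def tInfoPart302 : Janko1.Tree ℕ := (.node (.node (.node (.node (.node (.node (.leaf 2322565) (.leaf 8960627)) (.node (.leaf 5724797) (.leaf 1842276))) (.node (.node (.leaf 11208304) (.leaf 8691277)) (.node (.leaf 8880752) (.leaf 1087090)))) (.node (.node (.node (.leaf 8134269) (.leaf 5403243)) (.node (.leaf 10459752) (.leaf 1281120))) (.node (.node (.leaf 1774188) (.leaf 6291051)) (.node (.leaf 1490035) (.leaf 5428858))))) (.node (.node (.node (.node (.leaf 5908069) (.leaf 5079101)) (.node (.leaf 9984617) (.leaf 2056805))) (.node (.node (.leaf 9658490) (.leaf 10590842)) (.node (.leaf 5174397) (.leaf 2659957)))) (.node (.node (.node (.leaf 7562329) (.leaf 11782244)) (.node (.leaf 10566260) (.leaf 9418850))) (.node (.node (.leaf 10659972) (.leaf 2426491)) (.node (.leaf 9958497) (.leaf 7592050)))))) (.node (.node (.node (.node (.node (.leaf 9998457) (.leaf 5337723)) (.node (.leaf 7595082) (.leaf 10006113))) (.node (.node (.leaf 7886969) (.leaf 5398147)) (.node (.leaf 5293163) (.leaf 8495730)))) (.node (.node (.node (.leaf 7893057) (.leaf 7552625))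 (.node (.leaf 521338) (.leaf 7919705))) (.node (.node (.leaf 7578761) (.leaf 8394348)) (.node (.leaf 1401469) (.leaf 11844724))))) (.node (.node (.node (.node (.leaf 1404037) (.leaf 10627188)) (.node (.leaf 5388397) (.leaf 2321500))) (.node (.node (.leaf 10045050) (.leaf 9815665)) (.node (.leaf 1285229) (.leaf 10018417)))) (.node (.node (.node (.leaf 1283701) (.leaf 6537325)) (.node (.leaf 9846385) (.leaf 9627252))) (.node (.node (.leaf 10044529) (.leaf 5705333)) (.node (.leaf 9838193) (.leaf 7464569)))))))

/-- How a representative arises, part 303. -/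
def tInfoPart303 : Janko1.Tree ℕ := (.node (.node (.node (.node (.node (.node (.leaf 1405555) (.leaf 7945281)) (.node (.leaf 1630842) (.leaf 7471225))) (.node (.node (.leaf 7952481) (.leaf 7993449)) (.node (.leaf 6281835) (.leaf 7516273)))) (.node (.node (.node (.leaf 7997025) (.leaf 3224682)) (.node (.leaf 6221931) (.leaf 6196860))) (.node (.node (.leaf 10062945) (.leaf 10728556)) (.node (.leaf 971378) (.leaf 9862249))))) (.node (.node (.node (.node (.leaf 9264721) (.leaf 1923196)) (.node (.leaf 1150557) (.leaf 9716840))) (.node (.node (.leaf 2220676) (.leaf 9498233)) (.node (.leaf 11358329) (.leaf 4061816)))) (.node (.node (.node (.leaf 8499816) (.leaf 2546813)) (.node (.leaf 5506677) (.leaf 7214200))) (.node (.node (.leaf 6337109) (.leaf 1787507)) (.node (.leaf 9266793) (.leaf 2780283)))))) (.node (.node (.node (.node (.node (.leaf 9273457) (.leaf 9520753)) (.node (.leaf 5450355) (.leaf 6280307))) (.node (.node (.leaf 448616) (.leaf 2476123)) (.node (.leaf 9614944) (.leaf 11359857)))) (.node (.node (.node (.leaf 2088568) (.leaf 1783914))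 (.node (.leaf 1801317) (.leaf 2116724))) (.node (.node (.leaf 11418225) (.leaf 6122621)) (.node (.leaf 11411561) (.leaf 3000944))))) (.node (.node (.node (.node (.leaf 2792053) (.leaf 11785329)) (.node (.leaf 6122101) (.leaf 9338457))) (.node (.node (.leaf 4975205) (.leaf 9330817)) (.node (.leaf 8209512) (.leaf 4974709)))) (.node (.node (.node (.leaf 2058340) (.leaf 11454552)) (.node (.leaf 9433689) (.leaf 4824666))) (.node (.node (.leaf 5286531) (.leaf 11436145)) (.node (.leaf 6109819) (.leaf 9952888)))))))

/-- How a representative arises, part 304. -/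
def tInfoPart304 : Janko1.Tree ℕ := (.node (.node (.node (.node (.node (.node (.leaf 1352810) (.leaf 7860328)) (.node (.leaf 9019496) (.leaf 815722))) (.node (.node (.leaf 9340017) (.leaf 11414136)) (.node (.leaf 9346161) (.leaf 2416251)))) (.node (.node (.node (.leaf 5349443) (.leaf 4031580)) (.node (.leaf 6172275) (.leaf 9459297))) (.node (.node (.leaf 1855619) (.leaf 9443417)) (.node (.leaf 1595992) (.leaf 9451129))))) (.node (.node (.node (.node (.leaf 5613677) (.leaf 11022451)) (.node (.leaf 3668100) (.leaf 5635178))) (.node (.node (.leaf 5824618) (.leaf 10799738)) (.node (.leaf 7495788) (.leaf 7175274)))) (.node (.node (.node (.leaf 4366452) (.leaf 10710634)) (.node (.leaf 381484) (.leaf 5520477))) (.node (.node (.leaf 9683532) (.leaf 10568267)) (.node (.leaf 5517429) (.leaf 11211869)))))) (.node (.node (.node (.node (.node (.leaf 5313107) (.leaf 9554546)) (.node (.leaf 5471859) (.leaf 2442330))) (.node (.node (.leaf 76370) (.leaf 10846844)) (.node (.leaf 8004725) (.leaf 2455612)))) (.node (.node (.node (.leaf 6031452) (.leaf 11151997))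 (.node (.leaf 2805363) (.leaf 10590845))) (.node (.node (.leaf 7529026) (.leaf 8213093)) (.node (.leaf 2500715) (.leaf 7240820))))) (.node (.node (.node (.node (.leaf 10533955) (.leaf 5311093)) (.node (.leaf 9651324) (.leaf 8166011))) (.node (.node (.leaf 11845740) (.leaf 6402162)) (.node (.leaf 10497131) (.leaf 2809477)))) (.node (.node (.node (.leaf 11190370) (.leaf 7532140)) (.node (.leaf 4957282) (.leaf 10472059))) (.node (.node (.leaf 594540) (.leaf 1937533)) (.node (.leaf 8706179) (.leaf 10135146)))))))

/-- How a representative arises, part 305. -/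
def tInfoPart305 : Janko1.Tree ℕ := (.node (.node (.node (.node (.node (.node (.leaf 11054163) (.leaf 10575483)) (.node (.leaf 1937013) (.leaf 9626724))) (.node (.node (.leaf 8191603) (.leaf 2930805)) (.node (.leaf 5304443) (.leaf 8107634)))) (.node (.node (.node (.leaf 8354933) (.leaf 11007061)) (.node (.leaf 10756724) (.leaf 7827570))) (.node (.node (.leaf 3119714) (.leaf 11006061)) (.node (.leaf 2870883) (.leaf 10787461))))) (.node (.node (.node (.node (.leaf 6132331) (.leaf 6195316)) (.node (.leaf 8964709) (.leaf 1428083))) (.node (.node (.leaf 9306730) (.leaf 1810548)) (.node (.leaf 7763586) (.leaf 10223709)))) (.node (.node (.node (.leaf 8964205) (.leaf 1877619)) (.node (.leaf 41576) (.leaf 9466993))) (.node (.node (.leaf 6055016) (.leaf 9465449)) (.node (.leaf 3886164) (.leaf 9460337)))))) (.node (.node (.node (.node (.node (.leaf 5076085) (.leaf 2053253)) (.node (.leaf 3035261) (.leaf 2224216))) (.node (.node (.leaf 7374928) (.leaf 5189677)) (.node (.leaf 3765344) (.leaf 11862641)))) (.node (.node (.node (.leaf 11381865) (.leaf 3951708))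 (.node (.leaf 11845241) (.leaf 9486953))) (.node (.node (.leaf 1663082) (.leaf 6046824)) (.node (.leaf 9281137) (.leaf 3893866))))) (.node (.node (.node (.node (.leaf 9484889) (.leaf 5350003)) (.node (.leaf 4410968) (.leaf 1856123))) (.node (.node (.leaf 2477635) (.leaf 1832552)) (.node (.leaf 5286011) (.leaf 1415291)))) (.node (.node (.node (.leaf 11401273) (.leaf 3852912)) (.node (.leaf 5348986) (.leaf 11425401))) (.node (.node (.leaf 11420225) (.leaf 1860724)) (.node (.leaf 2690616) (.leaf 6489720)))))))

/-- How a representative arises, part 306. -/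
def tInfoPart306 : Janko1.Tree ℕ := (.node (.node (.node (.node (.node (.node (.leaf 5402253) (.leaf 4844144)) (.node (.leaf 6111868) (.leaf 2716248))) (.node (.node (.leaf 5702749) (.leaf 5703269)) (.node (.leaf 5230186) (.leaf 1281661)))) (.node (.node (.node (.leaf 3262064) (.leaf 9372257)) (.node (.leaf 9441913) (.leaf 7042168))) (.node (.node (.leaf 1796220) (.leaf 9434737)) (.node (.leaf 9240688) (.leaf 626280))))) (.node (.node (.node (.node (.leaf 11777649) (.leaf 11441769)) (.node (.leaf 5760108) (.leaf 11434097))) (.node (.node (.leaf 6481536) (.leaf 1476195)) (.node (.leaf 1865315) (.leaf 2856067)))) (.node (.node (.node (.leaf 1315952) (.leaf 5296731)) (.node (.leaf 6229107) (.leaf 1221226))) (.node (.node (.leaf 2414707) (.leaf 2358908)) (.node (.leaf 1342072) (.leaf 7037528)))))) (.node (.node (.node (.node (.node (.leaf 5706852) (.leaf 10541683)) (.node (.leaf 9420396) (.leaf 11630194))) (.node (.node (.leaf 8430180) (.leaf 10664538)) (.node (.leaf 3050605) (.leaf 5408364)))) (.node (.node (.node (.leaf 4383322) (.leaf 10815076))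 (.node (.leaf 155260) (.leaf 9821804))) (.node (.node (.leaf 11013235) (.leaf 5202029)) (.node (.leaf 5203557) (.leaf 2441332))))) (.node (.node (.node (.node (.leaf 10568787) (.leaf 10496099)) (.node (.leaf 2690133) (.leaf 8198267))) (.node (.node (.leaf 5928570) (.leaf 6033533)) (.node (.leaf 6242947) (.leaf 10299509)))) (.node (.node (.node (.leaf 3914346) (.leaf 3679820)) (.node (.leaf 10857077) (.leaf 8723572))) (.node (.node (.leaf 10856053) (.leaf 7500404)) (.node (.leaf 5303923) (.leaf 4057698)))))))

/-- How a representative arises, part 307. -/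
def tInfoPart307 : Janko1.Tree ℕ := (.node (.node (.node (.node (.node (.node (.leaf 1436267) (.leaf 10940549)) (.node (.leaf 10561652) (.leaf 239722))) (.node (.node (.leaf 10380925) (.leaf 2869883)) (.node (.leaf 9524828) (.leaf 8530028)))) (.node (.node (.node (.leaf 6247533) (.leaf 8376947)) (.node (.leaf 5560428) (.leaf 1435253))) (.node (.node (.leaf 11048555) (.leaf 10190954)) (.node (.leaf 8750707) (.leaf 8954483))))) (.node (.node (.node (.node (.leaf 5718645) (.leaf 10890372)) (.node (.leaf 8705155) (.leaf 2626140))) (.node (.node (.leaf 10576491) (.leaf 11122802)) (.node (.leaf 2316405) (.leaf 1387138)))) (.node (.node (.node (.leaf 11902572) (.leaf 8102506)) (.node (.leaf 3872380) (.leaf 5461619))) (.node (.node (.leaf 7536748) (.leaf 1495171)) (.node (.leaf 11278453) (.leaf 11278973)))))) (.node (.node (.node (.node (.node (.leaf 5980796) (.leaf 4534388)) (.node (.leaf 6294619) (.leaf 10593372))) (.node (.node (.leaf 6193779) (.leaf 2862699)) (.node (.leaf 11099187) (.leaf 1918052)))) (.node (.node (.node (.leaf 3647610) (.leaf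 3650674)) (.node (.leaf 5837408) (.leaf 9710688))) (.node (.node (.leaf 325754) (.leaf 5612661)) (.node (.leaf 10571347) (.leaf 7624824))))) (.node (.node (.node (.node (.leaf 408184) (.leaf 1162357)) (.node (.leaf 10600048) (.leaf 2560109))) (.node (.node (.leaf 1552493) (.leaf 6352493)) (.node (.leaf 7153272) (.leaf 5556360)))) (.node (.node (.node (.leaf 4113008) (.leaf 2300002)) (.node (.leaf 2141288) (.leaf 8409195))) (.node (.node (.leaf 7235696) (.leaf 10647677)) (.node (.leaf 5414523) (.leaf 6142075)))))))

/-- How a representative arises, part 308. -/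
def tInfoPart308 : Janko1.Tree ℕ := (.node (.node (.node (.node (.node (.node (.leaf 8722040) (.leaf 348792)) (.node (.leaf 1418875) (.leaf 10799224))) (.node (.node (.leaf 5363827) (.leaf 10646141)) (.node (.leaf 6301787) (.leaf 5892208)))) (.node (.node (.node (.leaf 2498139) (.leaf 8211069)) (.node (.leaf 4056152) (.leaf 4157524))) (.node (.node (.leaf 2091624) (.leaf 7370850)) (.node (.leaf 7196280) (.leaf 2446947))))) (.node (.node (.node (.node (.leaf 5453931) (.leaf 9650800)) (.node (.leaf 2114176) (.leaf 1489019))) (.node (.node (.leaf 7210092) (.leaf 11090043)) (.node (.leaf 8720995) (.leaf 3339890)))) (.node (.node (.node (.leaf 11052651) (.leaf 11106424)) (.node (.leaf 10318448) (.leaf 1453674))) (.node (.node (.leaf 8204912) (.leaf 8149627)) (.node (.leaf 5817997) (.leaf 2053756)))))) (.node (.node (.node (.node (.node (.leaf 2730626) (.leaf 9967208)) (.node (.leaf 2897536) (.leaf 10452069))) (.node (.node (.leaf 6227544) (.leaf 8353381)) (.node (.leaf 4253804) (.leaf 975976)))) (.node (.node (.node (.leaf 6594674) (.leaf 2505835))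 (.node (.leaf 5304915) (.leaf 10783845))) (.node (.node (.leaf 4304988) (.leaf 1569896)) (.node (.leaf 3566184) (.leaf 9386088))))) (.node (.node (.node (.node (.leaf 1600088) (.leaf 8247928)) (.node (.leaf 2868315) (.leaf 5590645))) (.node (.node (.leaf 3663460) (.leaf 2167925)) (.node (.leaf 1142397) (.leaf 7587457)))) (.node (.node (.node (.leaf 8566394) (.leaf 8553570)) (.node (.leaf 8739956) (.leaf 2210938))) (.node (.node (.leaf 9471602) (.leaf 9460338)) (.node (.leaf 377980) (.leaf 3806258)))))))

/-- How a representative arises, part 309. -/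
def tInfoPart309 : Janko1.Tree ℕ := (.node (.node (.node (.node (.node (.node (.leaf 9693812) (.leaf 508026)) (.node (.leaf 7676538) (.leaf 8310396))) (.node (.node (.leaf 6231147) (.leaf 7621745)) (.node (.leaf 7303794) (.leaf 1404531)))) (.node (.node (.node (.leaf 7292010) (.leaf 8442988)) (.node (.leaf 7852145) (.leaf 135804))) (.node (.node (.leaf 6175339) (.leaf 9837172)) (.node (.leaf 8600676) (.leaf 57972))))) (.node (.node (.node (.node (.leaf 6111347) (.leaf 9681009)) (.node (.leaf 9685585) (.leaf 6160482))) (.node (.node (.leaf 1475187) (.leaf 10210417)) (.node (.leaf 1620594) (.leaf 2786421)))) (.node (.node (.node (.leaf 8253010) (.leaf 8380012)) (.node (.leaf 5290101) (.leaf 5941348))) (.node (.node (.leaf 10127993) (.leaf 2882162)) (.node (.leaf 2887290) (.leaf 9759860)))))) (.node (.node (.node (.node (.node (.leaf 5799021) (.leaf 4970109)) (.node (.leaf 7664721) (.leaf 3245162))) (.node (.node (.leaf 7656033) (.leaf 5799541)) (.node (.leaf 2905197) (.leaf 7753809)))) (.node (.node (.node (.leaf 11590762) (.leaf 5391475)) (.node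 (.leaf 9762425) (.leaf 7044186))) (.node (.node (.leaf 11734636) (.leaf 9751689)) (.node (.leaf 4718714) (.leaf 5335667))))) (.node (.node (.node (.node (.leaf 4731490) (.leaf 6128716)) (.node (.leaf 10138225) (.leaf 10068090))) (.node (.node (.leaf 8636516) (.leaf 7674961)) (.node (.leaf 1786491) (.leaf 2783859)))) (.node (.node (.node (.leaf 7680121) (.leaf 11248770)) (.node (.leaf 11251834) (.leaf 5529732))) (.node (.node (.leaf 1467995) (.leaf 6514266)) (.node (.leaf 11027555) (.leaf 7454848)))))))

/-- How a representative arises, part 310. -/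
def tInfoPart310 : Janko1.Tree ℕ := (.node (.node (.node (.node (.node (.node (.leaf 8712819) (.leaf 2189936)) (.node (.leaf 9825864) (.leaf 5918317))) (.node (.node (.leaf 103536) (.leaf 3047045)) (.node (.leaf 8400491) (.leaf 2687077)))) (.node (.node (.node (.leaf 2689133) (.leaf 10457715)) (.node (.leaf 6029933) (.leaf 2034818))) (.node (.node (.leaf 11052147) (.leaf 8757323)) (.node (.leaf 74848) (.leaf 1803875))))) (.node (.node (.node (.node (.leaf 6299763) (.leaf 6199427)) (.node (.leaf 8489605) (.leaf 397940))) (.node (.node (.leaf 8279157) (.leaf 7356530)) (.node (.leaf 6130747) (.leaf 329852)))) (.node (.node (.node (.leaf 2179692) (.leaf 11869808)) (.node (.leaf 8840813) (.leaf 1488491))) (.node (.node (.leaf 1878635) (.leaf 10773616)) (.node (.leaf 11089011) (.leaf 6460520)))))) (.node (.node (.node (.node (.node (.leaf 1432709) (.leaf 8721499)) (.node (.leaf 4778608) (.leaf 2438741))) (.node (.node (.leaf 2848890) (.leaf 10490947)) (.node (.leaf 1058386) (.leaf 1062002)))) (.node (.node (.node (.leaf 3218026) (.leaf 3213402)) (.node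 (.leaf 1276504) (.leaf 2313301))) (.node (.node (.leaf 8148595) (.leaf 8360563)) (.node (.leaf 11135099) (.leaf 8747123))))) (.node (.node (.node (.node (.leaf 10493552) (.leaf 5356640)) (.node (.leaf 663664) (.leaf 1429619))) (.node (.node (.leaf 11075701) (.leaf 10116720)) (.node (.leaf 6484576) (.leaf 697448)))) (.node (.node (.node (.leaf 10523261) (.leaf 1286248)) (.node (.leaf 6142571) (.leaf 8065125))) (.node (.node (.leaf 2801275) (.leaf 11276389)) (.node (.leaf 1479299) (.leaf 1869387)))))))

/-- How a representative arises, part 311. -/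
def tInfoPart311 : Janko1.Tree ℕ := (.node (.node (.node (.node (.node (.node (.leaf 8446050) (.leaf 5899885)) (.node (.leaf 8435834) (.leaf 1940082))) (.node (.node (.leaf 2047085) (.leaf 7297124)) (.node (.leaf 2045541) (.leaf 2337874)))) (.node (.node (.node (.leaf 10709604) (.leaf 9447540)) (.node (.leaf 8452204) (.leaf 511090))) (.node (.node (.leaf 10534522) (.leaf 7291498)) (.node (.leaf 8302188) (.leaf 10538618))))) (.node (.node (.node (.node (.leaf 10510444) (.leaf 7621225)) (.node (.leaf 5419106) (.leaf 7603321))) (.node (.node (.leaf 5631100) (.leaf 7812225)) (.node (.leaf 9575020) (.leaf 8343164)))) (.node (.node (.node (.leaf 9757298) (.leaf 10548300)) (.node (.leaf 6161522) (.leaf 2013300))) (.node (.node (.leaf 2857059) (.leaf 3377282)) (.node (.leaf 10775172) (.leaf 3371130)))))) (.node (.node (.node (.node (.node (.leaf 10093185) (.leaf 1411181)) (.node (.leaf 9228914) (.leaf 10079849))) (.node (.node (.leaf 6526581) (.leaf 11696756)) (.node (.leaf 7696489) (.leaf 5697157)))) (.node (.node (.node (.leaf 1274989) (.leaf 10110569))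 (.node (.leaf 10117217) (.leaf 6110843))) (.node (.node (.leaf 9745489) (.leaf 5143170)) (.node (.leaf 10108545) (.leaf 2790475))))) (.node (.node (.node (.node (.leaf 9752185) (.leaf 9996410)) (.node (.leaf 10001010) (.leaf 7719041))) (.node (.node (.leaf 6525562) (.leaf 2478195)) (.node (.leaf 2848891) (.leaf 7775865)))) (.node (.node (.node (.leaf 7135856) (.leaf 3967066)) (.node (.leaf 2244213) (.leaf 11661409))) (.node (.node (.leaf 9548392) (.leaf 6491765)) (.node (.leaf 9536105) (.leaf 6382205)))))))

/-- How a representative arises, part 312. -/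
def tInfoPart312 : Janko1.Tree ℕ := (.node (.node (.node (.node (.node (.node (.leaf 1598549) (.leaf 1665132)) (.node (.leaf 9789528) (.leaf 2595442))) (.node (.node (.leaf 2548832) (.leaf 9219185)) (.node (.leaf 250490) (.leaf 9750096)))) (.node (.node (.node (.leaf 6165115) (.leaf 11645561)) (.node (.leaf 2487923) (.leaf 5284443))) (.node (.node (.leaf 11673721) (.leaf 6109307)) (.node (.leaf 1960024) (.leaf 5653596))))) (.node (.node (.node (.node (.leaf 1416827) (.leaf 1976436)) (.node (.leaf 6000760) (.leaf 7703656))) (.node (.node (.leaf 558688) (.leaf 2847347)) (.node (.leaf 4324464) (.leaf 5940856)))) (.node (.node (.node (.leaf 7669360) (.leaf 490592)) (.node (.leaf 1788547) (.leaf 2524272))) (.node (.node (.leaf 2237036) (.leaf 9610865)) (.node (.leaf 1261674) (.leaf 1858189)))))) (.node (.node (.node (.node (.node (.leaf 9107073) (.leaf 5341301)) (.node (.leaf 9638985) (.leaf 1402984))) (.node (.node (.leaf 1858685) (.leaf 9146441)) (.node (.leaf 2852445) (.leaf 6377032)))) (.node (.node (.node (.leaf 11178080) (.leaf 11690097)) (.node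 (.leaf 10070128) (.leaf 11723897))) (.node (.node (.leaf 2985085) (.leaf 607346)) (.node (.leaf 11388520) (.leaf 6174339))))) (.node (.node (.node (.node (.leaf 10293856) (.leaf 537708)) (.node (.leaf 5295227) (.leaf 9643121))) (.node (.node (.leaf 9656425) (.leaf 3417728)) (.node (.leaf 9167993) (.leaf 6631530)))) (.node (.node (.node (.leaf 6421104) (.leaf 6271107)) (.node (.leaf 9101944) (.leaf 11494009))) (.node (.node (.leaf 2855547) (.leaf 11501161)) (.node (.leaf 1005680) (.leaf 1797723)))))))

/-- How a representative arises, part 313. -/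
def tInfoPart313 : Janko1.Tree ℕ := (.node (.node (.node (.node (.node (.node (.leaf 3022960) (.leaf 10798732)) (.node (.leaf 8573052) (.leaf 5676669))) (.node (.node (.leaf 1746538) (.leaf 6506613)) (.node (.leaf 7516274) (.leaf 11661412)))) (.node (.node (.node (.leaf 2259589) (.leaf 5677181)) (.node (.leaf 8377459) (.leaf 5466236))) (.node (.node (.leaf 5559925) (.leaf 11127915)) (.node (.leaf 10508355) (.leaf 8416340))))) (.node (.node (.node (.node (.leaf 1877618) (.leaf 8190043)) (.node (.leaf 7296628) (.leaf 9866852))) (.node (.node (.leaf 10473595) (.leaf 2496636)) (.node (.leaf 8155779) (.leaf 6096500)))) (.node (.node (.node (.leaf 7131258) (.leaf 5360755)) (.node (.leaf 8043629) (.leaf 5823604))) (.node (.node (.leaf 2871915) (.leaf 8601709)) (.node (.leaf 11255397) (.leaf 7120484)))))) (.node (.node (.node (.node (.node (.leaf 10692717) (.leaf 10771570)) (.node (.leaf 5471347) (.leaf 6192243))) (.node (.node (.leaf 11727962) (.leaf 1877083)) (.node (.leaf 2492515) (.leaf 8240237)))) (.node (.node (.node (.leaf 11176037) (.leaf 5419627))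 (.node (.leaf 6133379) (.leaf 10613885))) (.node (.node (.leaf 10897018) (.leaf 1810547)) (.node (.leaf 2429019) (.leaf 8092274))))) (.node (.node (.node (.node (.leaf 10902628) (.leaf 6187653)) (.node (.leaf 9320050) (.leaf 304244))) (.node (.node (.leaf 5358709) (.leaf 3072114)) (.node (.leaf 9480300) (.leaf 2014325)))) (.node (.node (.node (.leaf 10774660) (.leaf 8018002)) (.node (.leaf 8520308) (.leaf 7656556))) (.node (.node (.leaf 641634) (.leaf 8918643)) (.node (.leaf 6764650) (.leaf 9766004)))))))

/-- How a representative arises, part 314. -/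
def tInfoPart314 : Janko1.Tree ℕ := (.node (.node (.node (.node (.node (.node (.leaf 5309058) (.leaf 1486979)) (.node (.leaf 2397284) (.leaf 8375900))) (.node (.node (.leaf 3813500) (.leaf 6680154)) (.node (.leaf 11353698) (.leaf 5194850)))) (.node (.node (.node (.leaf 2133620) (.leaf 9013853)) (.node (.leaf 5412475) (.leaf 1818739))) (.node (.node (.leaf 11565169) (.leaf 3725408)) (.node (.leaf 5138541) (.leaf 5967973))))) (.node (.node (.node (.node (.leaf 3966554) (.leaf 7108748)) (.node (.leaf 7253112) (.leaf 9927800))) (.node (.node (.leaf 9185385) (.leaf 9526881)) (.node (.leaf 11037792) (.leaf 9893992)))) (.node (.node (.node (.leaf 6064221) (.leaf 188520)) (.node (.leaf 9559665) (.leaf 11575417))) (.node (.node (.leaf 17516) (.leaf 9459296)) (.node (.leaf 11645049) (.leaf 1769064)))))) (.node (.node (.node (.node (.node (.leaf 11604073) (.leaf 9419904)) (.node (.leaf 1414779) (.leaf 1798259))) (.node (.node (.leaf 2423915) (.leaf 7263336)) (.node (.leaf 5449315) (.leaf 6173283)))) (.node (.node (.node (.leaf 9543233) (.leaf 274544))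 (.node (.leaf 4463224) (.leaf 9576009))) (.node (.node (.leaf 198232) (.leaf 11006056)) (.node (.leaf 9238129) (.leaf 1265754))))) (.node (.node (.node (.node (.leaf 8037488) (.leaf 6888528)) (.node (.leaf 9638009) (.leaf 9629297))) (.node (.node (.leaf 3039362) (.leaf 1131138)) (.node (.leaf 2366581) (.leaf 3396210)))) (.node (.node (.node (.leaf 11681385) (.leaf 4879976)) (.node (.leaf 1350773) (.leaf 2368629))) (.node (.node (.leaf 11722353) (.leaf 11521657)) (.node (.leaf 9135209) (.leaf 254572)))))))

/-- How a representative arises, part 315. -/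
def tInfoPart315 : Janko1.Tree ℕ := (.node (.node (.node (.node (.node (.node (.leaf 9175152) (.leaf 3234920)) (.node (.leaf 1254512) (.leaf 2846307))) (.node (.node (.leaf 4037748) (.leaf 9176697)) (.node (.leaf 3184240) (.leaf 1186928)))) (.node (.node (.node (.leaf 2415211) (.leaf 6847080)) (.node (.leaf 5440603) (.leaf 5339763))) (.node (.node (.leaf 5544580) (.leaf 6165603)) (.node (.leaf 6644306) (.leaf 11495521))))) (.node (.node (.node (.node (.leaf 11705433) (.leaf 4887672)) (.node (.leaf 11732601) (.leaf 6570608))) (.node (.node (.leaf 3119717) (.leaf 10499675)) (.node (.leaf 8749683) (.leaf 4000386)))) (.node (.node (.node (.leaf 133738) (.leaf 3120229)) (.node (.leaf 2024052) (.leaf 8309876))) (.node (.node (.leaf 9578612) (.leaf 9638986)) (.node (.leaf 11055747) (.leaf 8414810)))))) (.node (.node (.node (.node (.node (.leaf 4136578) (.leaf 10540132)) (.node (.leaf 288354) (.leaf 5249101))) (.node (.node (.leaf 5892732) (.leaf 8156275)) (.node (.leaf 10974324) (.leaf 2637930)))) (.node (.node (.node (.leaf 6286955) (.leaf 4189308))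 (.node (.leaf 8527981) (.leaf 10802796))) (.node (.node (.leaf 10702394) (.leaf 10827874)) (.node (.leaf 8528493) (.leaf 5898842))))) (.node (.node (.node (.node (.leaf 10685564) (.leaf 10965589)) (.node (.leaf 7238770) (.leaf 8311933))) (.node (.node (.leaf 10770034) (.leaf 8310909)) (.node (.leaf 10892922) (.leaf 8311405)))) (.node (.node (.node (.leaf 2375748) (.leaf 9320578)) (.node (.leaf 587884) (.leaf 8077930))) (.node (.node (.leaf 8739955) (.leaf 1484925)) (.node (.leaf 10543227) (.leaf 3792492)))))))

/-- How a representative arises, part 316. -/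
def tInfoPart316 : Janko1.Tree ℕ := (.node (.node (.node (.node (.node (.node (.leaf 9040514) (.leaf 6290541)) (.node (.leaf 7808130) (.leaf 8345732))) (.node (.node (.leaf 9613428) (.leaf 1169490)) (.node (.leaf 9265250) (.leaf 8198787)))) (.node (.node (.node (.leaf 8415835) (.leaf 1369709)) (.node (.leaf 4463740) (.leaf 11011699))) (.node (.node (.leaf 7749754) (.leaf 11007612)) (.node (.leaf 2954354) (.leaf 6612605))))) (.node (.node (.node (.node (.leaf 5310026) (.leaf 10907764)) (.node (.leaf 10549877) (.leaf 6374002))) (.node (.node (.leaf 11701364) (.leaf 8666741)) (.node (.leaf 5461099) (.leaf 8665205)))) (.node (.node (.node (.leaf 5302891) (.leaf 8637556)) (.node (.leaf 8459392) (.leaf 10489979))) (.node (.node (.leaf 11656304) (.leaf 8960091)) (.node (.leaf 8193147) (.leaf 1929312)))))) (.node (.node (.node (.node (.node (.leaf 8423016) (.leaf 10456163)) (.node (.leaf 7311980) (.leaf 6396021))) (.node (.node (.leaf 3885692) (.leaf 8748651)) (.node (.leaf 2590320) (.leaf 1609853)))) (.node (.node (.node (.leaf 530552) (.leaf 5558901))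 (.node (.leaf 2614909) (.leaf 9752688))) (.node (.node (.leaf 8042117) (.leaf 2024584)) (.node (.leaf 3695738) (.leaf 323668))))) (.node (.node (.node (.node (.leaf 6129251) (.leaf 8600165)) (.node (.leaf 9543232) (.leaf 5363315))) (.node (.node (.leaf 8238197) (.leaf 1480323)) (.node (.leaf 7655024) (.leaf 2233948)))) (.node (.node (.node (.leaf 1477232) (.leaf 8176704)) (.node (.leaf 6695528) (.leaf 8953947))) (.node (.node (.leaf 3483760) (.leaf 8184963)) (.node (.leaf 1417320) (.leaf 11098235)))))))

/-- How a representative arises, part 317. -/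
def tInfoPart317 : Janko1.Tree ℕ := (.node (.node (.node (.node (.node (.node (.leaf 8917123) (.leaf 1795188)) (.node (.leaf 1871989) (.leaf 8149115))) (.node (.node (.leaf 2997349) (.leaf 4975738)) (.node (.leaf 9096824) (.leaf 1050720)))) (.node (.node (.node (.leaf 8369763) (.leaf 5464163)) (.node (.leaf 6200931) (.leaf 10283640))) (.node (.node (.leaf 9304664) (.leaf 999010)) (.node (.leaf 1441904) (.leaf 6141035))))) (.node (.node (.node (.node (.leaf 9268856) (.leaf 5356643)) (.node (.leaf 1077848) (.leaf 10271853))) (.node (.node (.leaf 1487979) (.leaf 3834468)) (.node (.leaf 11138168) (.leaf 6241915)))) (.node (.node (.node (.leaf 10272365) (.leaf 4665456)) (.node (.leaf 2297452) (.leaf 10826853))) (.node (.node (.leaf 5478458) (.leaf 9943673)) (.node (.leaf 2440284) (.leaf 4171900)))))) (.node (.node (.node (.node (.node (.leaf 2238069) (.leaf 4238450)) (.node (.leaf 9458796) (.leaf 9908321))) (.node (.node (.leaf 6084210) (.leaf 5463156)) (.node (.leaf 5538925) (.leaf 7869553)))) (.node (.node (.node (.leaf 7523953) (.leaf 10624634))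 (.node (.leaf 5539429) (.leaf 7904361))) (.node (.node (.leaf 9763946) (.leaf 2591861)) (.node (.leaf 9777778) (.leaf 6271619))))) (.node (.node (.node (.node (.leaf 9677444) (.leaf 9888889)) (.node (.leaf 4385876) (.leaf 8452722))) (.node (.node (.leaf 2210420) (.leaf 9998937)) (.node (.leaf 6221427) (.leaf 10006641)))) (.node (.node (.node (.leaf 1796723) (.leaf 7628394)) (.node (.leaf 9925753) (.leaf 2146410))) (.node (.node (.leaf 8287356) (.leaf 3866178)) (.node (.leaf 1466939) (.leaf 2479211)))))))

/-- How a representative arises, part 318. -/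
def tInfoPart318 : Janko1.Tree ℕ := (.node (.node (.node (.node (.node (.node (.leaf 7544433) (.leaf 7927377)) (.node (.leaf 2381410) (.leaf 2418251))) (.node (.node (.leaf 431228) (.leaf 5113458)) (.node (.leaf 9922148) (.leaf 5333621)))) (.node (.node (.node (.leaf 6968410) (.leaf 2624620)) (.node (.leaf 4693626) (.leaf 5334141))) (.node (.node (.leaf 4054652) (.leaf 1851509)) (.node (.leaf 11717748) (.leaf 8529468))))) (.node (.node (.node (.node (.leaf 9804905) (.leaf 1898092)) (.node (.leaf 11235922) (.leaf 10853484))) (.node (.node (.leaf 9936986) (.leaf 5860989)) (.node (.leaf 7954025) (.leaf 9205858)))) (.node (.node (.node (.leaf 9779260) (.leaf 8207466)) (.node (.leaf 8918146) (.leaf 5398619))) (.node (.node (.leaf 7997553) (.leaf 5743716)) (.node (.leaf 7506537) (.leaf 10035825)))))) (.node (.node (.node (.node (.node (.leaf 8401028) (.leaf 1452642)) (.node (.leaf 907882) (.leaf 7538284))) (.node (.node (.leaf 6112875) (.leaf 10078329)) (.node (.leaf 5926004) (.leaf 9861233)))) (.node (.node (.node (.leaf 3739256) (.leaf 11053667))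 (.node (.leaf 5680192) (.leaf 10706040))) (.node (.node (.leaf 5980797) (.leaf 1737824)) (.node (.leaf 11090531) (.leaf 9414768))))) (.node (.node (.node (.node (.leaf 5622360) (.leaf 5981317)) (.node (.leaf 8158315) (.leaf 10570355))) (.node (.node (.leaf 10501731) (.leaf 11040864)) (.node (.leaf 7566976) (.leaf 6075509)))) (.node (.node (.node (.leaf 415868) (.leaf 6156920)) (.node (.leaf 10346085) (.leaf 2878563))) (.node (.node (.leaf 3662960) (.leaf 423522)) (.node (.leaf 2444891) (.leaf 3898988)))))))

/-- How a representative arises, part 319. -/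
def tInfoPart319 : Janko1.Tree ℕ := (.node (.node (.node (.node (.node (.node (.leaf 6300779) (.leaf 2478196)) (.node (.leaf 10403965) (.leaf 2347114))) (.node (.node (.leaf 6148192) (.leaf 228472)) (.node (.leaf 11134555) (.leaf 11062395)))) (.node (.node (.node (.leaf 5458045) (.leaf 6903912)) (.node (.leaf 1222784) (.leaf 5078634))) (.node (.node (.leaf 9135720) (.leaf 5203552)) (.node (.leaf 2494053) (.leaf 2842184))))) (.node (.node (.node (.node (.leaf 10562115) (.leaf 10490443)) (.node (.leaf 5782133) (.leaf 5905012))) (.node (.node (.leaf 491116) (.leaf 8722539)) (.node (.leaf 8926835) (.leaf 10425984)))) (.node (.node (.node (.leaf 8170101) (.leaf 1526370)) (.node (.leaf 2867339) (.leaf 9127024))) (.node (.node (.leaf 5305947) (.leaf 10386056)) (.node (.leaf 8170621) (.leaf 2435171)))))) (.node (.node (.node (.node (.node (.leaf 2801747) (.leaf 1842804)) (.node (.leaf 5546612) (.leaf 6189147))) (.node (.node (.leaf 850552) (.leaf 8107637)) (.node (.leaf 175228) (.leaf 1430651)))) (.node (.node (.node (.leaf 6568560) (.leaf 7788120))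 (.node (.leaf 790632) (.leaf 3100277))) (.node (.node (.leaf 2116205) (.leaf 10545250)) (.node (.leaf 5671556) (.leaf 9984073))))) (.node (.node (.node (.node (.leaf 7139436) (.leaf 9698938)) (.node (.leaf 7525489) (.leaf 1721973))) (.node (.node (.leaf 7901817) (.leaf 7496292)) (.node (.leaf 4333146) (.leaf 11060850)))) (.node (.node (.node (.leaf 9898105) (.leaf 3720826)) (.node (.leaf 52348) (.leaf 4195436))) (.node (.node (.leaf 6031940) (.leaf 7628930)) (.node (.leaf 2249322) (.leaf 6222971)))))))

/-- How a representative arises, part 320. -/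
def tInfoPart320 : Janko1.Tree ℕ := (.node (.node (.node (.node (.node (.node (.leaf 9934953) (.leaf 2262106)) (.node (.leaf 7333980) (.leaf 2155634))) (.node (.node (.leaf 1467523) (.leaf 7537265)) (.node (.leaf 10660460) (.leaf 2418787)))) (.node (.node (.node (.leaf 6266485) (.leaf 6267973)) (.node (.leaf 6967354) (.leaf 2378884))) (.node (.node (.leaf 6266997) (.leaf 6553706)) (.node (.leaf 10012258) (.leaf 8395884))))) (.node (.node (.node (.node (.leaf 9805937) (.leaf 11845244)) (.node (.leaf 5016162) (.leaf 9799265))) (.node (.node (.leaf 10051673) (.leaf 6591613)) (.node (.leaf 4579938) (.leaf 6590573)))) (.node (.node (.node (.leaf 11236970) (.leaf 10044025)) (.node (.leaf 4582514) (.leaf 9745492))) (.node (.node (.leaf 7472241) (.leaf 3282554)) (.node (.leaf 6282347) (.leaf 4336732)))))) (.node (.node (.node (.node (.node (.leaf 3294826) (.leaf 6196332)) (.node (.leaf 7509105) (.leaf 2797674))) (.node (.node (.leaf 7515753) (.leaf 6121003)) (.node (.leaf 9818745) (.leaf 2488923)))) (.node (.node (.node (.leaf 2859651) (.leaf 9498236))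 (.node (.leaf 10885252) (.leaf 8856186))) (.node (.node (.leaf 9885244) (.leaf 7674964)) (.node (.leaf 8851058) (.leaf 8625780))))) (.node (.node (.node (.node (.leaf 5804132) (.leaf 5652589)) (.node (.leaf 2161276) (.leaf 1214581))) (.node (.node (.leaf 9461345) (.leaf 6482525)) (.node (.leaf 9505889) (.leaf 9497721)))) (.node (.node (.node (.leaf 1928288) (.leaf 8826488)) (.node (.leaf 11819105) (.leaf 5552765))) (.node (.node (.leaf 11817569) (.leaf 5764218)) (.node (.leaf 11809913) (.leaf 8786552)))))))

/-- How a representative arises, part 321. -/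
def tInfoPart321 : Janko1.Tree ℕ := (.node (.node (.node (.node (.node (.node (.leaf 2528384) (.leaf 415364)) (.node (.leaf 10859648) (.leaf 11858017))) (.node (.node (.leaf 5450867) (.leaf 9478257)) (.node (.leaf 1468515) (.leaf 9485425)))) (.node (.node (.node (.leaf 9525353) (.leaf 1953904)) (.node (.leaf 2621536) (.leaf 11835001))) (.node (.node (.leaf 4090482) (.leaf 11842121)) (.node (.leaf 11832929) (.leaf 5936248))))) (.node (.node (.node (.node (.leaf 275034) (.leaf 2788451)) (.node (.leaf 6727768) (.leaf 11794025))) (.node (.node (.leaf 1866869) (.leaf 10248816)) (.node (.leaf 2860661) (.leaf 5352565)))) (.node (.node (.node (.leaf 11780737) (.leaf 4733568)) (.node (.leaf 9395313) (.leaf 5186674))) (.node (.node (.leaf 4675192) (.leaf 1989237)) (.node (.leaf 6336056) (.leaf 2978421)))))) (.node (.node (.node (.node (.node (.leaf 9425009) (.leaf 11770489)) (.node (.leaf 9303656) (.leaf 6270579))) (.node (.node (.leaf 1504872) (.leaf 1274986)) (.node (.leaf 11808865) (.leaf 11795569)))) (.node (.node (.node (.leaf 11344496) (.leaf 9416241))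 (.node (.leaf 9422937) (.leaf 9412729))) (.node (.node (.leaf 3051128) (.leaf 2538092)) (.node (.leaf 6119035) (.leaf 9458793))))) (.node (.node (.node (.node (.leaf 1790067) (.leaf 9450609)) (.node (.leaf 7121522) (.leaf 11128435))) (.node (.node (.leaf 10508891) (.leaf 9683068)) (.node (.leaf 5877850) (.leaf 10474083)))) (.node (.node (.node (.leaf 6499933) (.leaf 10836074)) (.node (.leaf 8322628) (.leaf 3668596))) (.node (.node (.leaf 9555068) (.leaf 6408301)) (.node (.leaf 1621125) (.leaf 11012699)))))))

/-- How a representative arises, part 322. -/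
def tInfoPart322 : Janko1.Tree ℕ := (.node (.node (.node (.node (.node (.node (.leaf 5973106) (.leaf 5570173)) (.node (.leaf 8920691) (.leaf 5472363))) (.node (.node (.leaf 6193267) (.leaf 1769586)) (.node (.leaf 9580170) (.leaf 8557164)))) (.node (.node (.node (.leaf 11244645) (.leaf 6133875)) (.node (.leaf 1426547) (.leaf 9429116))) (.node (.node (.leaf 1684604) (.leaf 8248437)) (.node (.leaf 10659428) (.leaf 10623605))))) (.node (.node (.node (.node (.leaf 8807541) (.leaf 5303411)) (.node (.leaf 11185789) (.leaf 1820763))) (.node (.node (.leaf 10624109) (.leaf 11119675)) (.node (.leaf 10497651) (.leaf 594028)))) (.node (.node (.node (.leaf 5323890) (.leaf 9783420)) (.node (.leaf 6352490) (.leaf 10161266))) (.node (.node (.leaf 2876549) (.leaf 8714347)) (.node (.leaf 2003573) (.leaf 8945747)))))) (.node (.node (.node (.node (.node (.leaf 10097282) (.leaf 6238786)) (.node (.leaf 4798538) (.leaf 11095650))) (.node (.node (.leaf 2637420) (.leaf 8394349)) (.node (.leaf 1322618) (.leaf 9343562)))) (.node (.node (.node (.leaf 7794290) (.leaf 8394877))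 (.node (.leaf 11043445) (.leaf 1436795))) (.node (.node (.leaf 9059962) (.leaf 6294131)) (.node (.leaf 10264701) (.leaf 2925170))))) (.node (.node (.node (.node (.leaf 7730810) (.leaf 2429539)) (.node (.leaf 8319088) (.leaf 5649010))) (.node (.node (.leaf 5956717) (.leaf 2110061)) (.node (.leaf 3095645) (.leaf 3094653)))) (.node (.node (.node (.leaf 8276608) (.leaf 5130373)) (.node (.leaf 2112101) (.leaf 2110573))) (.node (.node (.leaf 1669716) (.leaf 8684664)) (.node (.leaf 11810425) (.leaf 202336)))))))

/-- How a representative arises, part 323. -/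
def tInfoPart323 : Janko1.Tree ℕ := (.node (.node (.node (.node (.node (.node (.leaf 11381353) (.leaf 11860081)) (.node (.leaf 5448819) (.leaf 7312480))) (.node (.node (.leaf 1734250) (.leaf 1470059)) (.node (.leaf 2848355) (.leaf 5399163)))) (.node (.node (.node (.leaf 6227547) (.leaf 123482)) (.node (.leaf 1408627) (.leaf 2416739))) (.node (.node (.leaf 2782811) (.leaf 11368049)) (.node (.leaf 11373169) (.leaf 194160))))) (.node (.node (.node (.node (.leaf 11893873) (.leaf 11410553)) (.node (.leaf 11904593) (.leaf 2586706))) (.node (.node (.leaf 1478269) (.leaf 2491509)) (.node (.leaf 2489477) (.leaf 5451365)))) (.node (.node (.node (.leaf 6285429) (.leaf 8009832)) (.node (.leaf 1476733) (.leaf 7363692))) (.node (.node (.leaf 9331305) (.leaf 1861764)) (.node (.leaf 9396817) (.leaf 2524780)))))) (.node (.node (.node (.node (.node (.leaf 9356393) (.leaf 9425529)) (.node (.leaf 1248360) (.leaf 8031872))) (.node (.node (.leaf 6270067) (.leaf 1288274)) (.node (.leaf 1865851) (.leaf 2358388)))) (.node (.node (.node (.leaf 8001648) (.leaf 6220403))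 (.node (.leaf 1416299) (.leaf 2035828))) (.node (.node (.leaf 9413209) (.leaf 618098)) (.node (.leaf 9458281) (.leaf 11126891))))) (.node (.node (.node (.node (.leaf 11675754) (.leaf 11055219)) (.node (.leaf 2125429) (.leaf 8741491))) (.node (.node (.leaf 11091051) (.leaf 2125941)) (.node (.leaf 5874794) (.leaf 8911987)))) (.node (.node (.node (.leaf 11736170) (.leaf 2750557)) (.node (.leaf 7293044) (.leaf 8413307))) (.node (.node (.leaf 6086757) (.leaf 4525162)) (.node (.leaf 10463859) (.leaf 7635036)))))))

/-- How a representative arises, part 324. -/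
def tInfoPart324 : Janko1.Tree ℕ := (.node (.node (.node (.node (.node (.node (.leaf 9916490) (.leaf 6087277)) (.node (.leaf 1756794) (.leaf 9080445))) (.node (.node (.leaf 5828724) (.leaf 8315986)) (.node (.leaf 4386924) (.leaf 9561692)))) (.node (.node (.node (.leaf 148602) (.leaf 9077885)) (.node (.leaf 1811571) (.leaf 10525268))) (.node (.node (.leaf 1935988) (.leaf 8387178)) (.node (.leaf 3680356) (.leaf 2612338))))) (.node (.node (.node (.node (.leaf 430196) (.leaf 2267756)) (.node (.leaf 5324418) (.leaf 10889852))) (.node (.node (.leaf 10441322) (.leaf 8955011)) (.node (.leaf 11081323) (.leaf 11170938)))) (.node (.node (.node (.leaf 11682404) (.leaf 5469277)) (.node (.leaf 6348378) (.leaf 11363442))) (.node (.node (.leaf 8531564) (.leaf 7425132)) (.node (.leaf 8405619) (.leaf 10543739)))))) (.node (.node (.node (.node (.node (.leaf 8650340) (.leaf 10474611)) (.node (.leaf 10098266) (.leaf 6149764))) (.node (.node (.leaf 8368251) (.leaf 8737349)) (.node (.leaf 8796268) (.leaf 1309818)))) (.node (.node (.node (.leaf 11117181) (.leaf 1885307))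 (.node (.leaf 9596028) (.leaf 8735829))) (.node (.node (.leaf 1437291) (.leaf 7799922)) (.node (.leaf 5744740) (.leaf 10624108))))) (.node (.node (.node (.node (.leaf 6194291) (.leaf 2492019)) (.node (.leaf 2125940) (.leaf 6134387))) (.node (.node (.leaf 2428507) (.leaf 505460)) (.node (.leaf 9584224) (.leaf 8952435)))) (.node (.node (.node (.leaf 403050) (.leaf 5665909)) (.node (.leaf 10537075) (.leaf 8915571))) (.node (.node (.leaf 2248309) (.leaf 1226349)) (.node (.leaf 7045232) (.leaf 4317792)))))))

/-- How a representative arises, part 325. -/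
def tInfoPart325 : Janko1.Tree ℕ := (.node (.node (.node (.node (.node (.node (.leaf 2615416) (.leaf 3840610)) (.node (.leaf 5990984) (.leaf 5859916))) (.node (.node (.leaf 11089515) (.leaf 10457219)) (.node (.leaf 2549344) (.leaf 6404221)))) (.node (.node (.node (.leaf 2360442) (.leaf 5364339)) (.node (.leaf 10685045) (.leaf 1868907))) (.node (.node (.leaf 7317082) (.leaf 7144056)) (.node (.leaf 5412984) (.leaf 11243621))))) (.node (.node (.node (.node (.leaf 1801827) (.leaf 8591997)) (.node (.leaf 6060626) (.leaf 5454427))) (.node (.node (.leaf 6190203) (.leaf 8830560)) (.node (.leaf 1489483) (.leaf 92204)))) (.node (.node (.node (.leaf 5403755) (.leaf 6130283)) (.node (.leaf 8790640) (.leaf 10620517))) (.node (.node (.leaf 7670368) (.leaf 2811987)) (.node (.leaf 11185277) (.leaf 6195317)))))) (.node (.node (.node (.node (.node (.leaf 11380824) (.leaf 2872933)) (.node (.leaf 986690) (.leaf 8136296))) (.node (.node (.leaf 6195781) (.leaf 11348088)) (.node (.leaf 6628976) (.leaf 5870693)))) (.node (.node (.node (.leaf 3106912) (.leaf 3162746))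 (.node (.leaf 8399979) (.leaf 3045472))) (.node (.node (.leaf 2665562) (.leaf 1033304)) (.node (.leaf 3479672) (.leaf 1509984))))) (.node (.node (.node (.node (.leaf 10484853) (.leaf 6723184)) (.node (.leaf 2506363) (.leaf 8392317))) (.node (.node (.leaf 1444968) (.leaf 2445891)) (.node (.leaf 10077280) (.leaf 10817133)))) (.node (.node (.node (.leaf 7979112) (.leaf 2868867)) (.node (.leaf 180868) (.leaf 5412987))) (.node (.node (.leaf 10817645) (.leaf 1420915)) (.node (.leaf 9002085) (.leaf 9438834)))))))

/-- How a representative arises, part 326. -/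
def tInfoPart326 : Janko1.Tree ℕ := (.node (.node (.node (.node (.node (.node (.leaf 9425010) (.leaf 377452)) (.node (.leaf 2229341) (.leaf 7787633))) (.node (.node (.leaf 8605306) (.leaf 5644909)) (.node (.leaf 2271346) (.leaf 9579660)))) (.node (.node (.node (.leaf 10172017) (.leaf 11757692)) (.node (.leaf 10200169) (.leaf 6385757))) (.node (.node (.leaf 5546613) (.leaf 5452874)) (.node (.leaf 6175875) (.leaf 7822969))))) (.node (.node (.node (.node (.leaf 4216954) (.leaf 7844977)) (.node (.leaf 10184313) (.leaf 3939964))) (.node (.node (.leaf 5425764) (.leaf 7443546)) (.node (.leaf 6213706) (.leaf 10101369)))) (.node (.node (.node (.leaf 1860725) (.leaf 10092673)) (.node (.leaf 10089585) (.leaf 3308146))) (.node (.node (.leaf 7194740) (.leaf 10127473)) (.node (.leaf 2822770) (.leaf 2827394)))))) (.node (.node (.node (.node (.node (.leaf 5779580) (.leaf 3853916)) (.node (.leaf 8381540) (.leaf 1983605))) (.node (.node (.leaf 7762033) (.leaf 7759473)) (.node (.leaf 291436) (.leaf 5098546)))) (.node (.node (.node (.leaf 10116721) (.leaf 10103913))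 (.node (.leaf 5283435) (.leaf 4679242))) (.node (.node (.leaf 7384684) (.leaf 10137689)) (.node (.leaf 10713204) (.leaf 10033786))))) (.node (.node (.node (.node (.leaf 6885994) (.leaf 2480755)) (.node (.leaf 7777913) (.leaf 11215970))) (.node (.node (.leaf 4286580) (.leaf 7774809)) (.node (.leaf 5972589) (.leaf 3706466)))) (.node (.node (.node (.leaf 3108453) (.leaf 3106917)) (.node (.leaf 1972346) (.leaf 7254128))) (.node (.node (.leaf 2236010) (.leaf 7316588)) (.node (.leaf 402042) (.leaf 7562328)))))))

/-- How a representative arises, part 327. -/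
def tInfoPart327 : Janko1.Tree ℕ := (.node (.node (.node (.node (.node (.node (.leaf 302184) (.leaf 8959603)) (.node (.leaf 9926264) (.leaf 5257853))) (.node (.node (.leaf 7521872) (.leaf 1752181)) (.node (.leaf 8925819) (.leaf 9893480)))) (.node (.node (.node (.leaf 10334325) (.leaf 7317610)) (.node (.leaf 8523397) (.leaf 4349012))) (.node (.node (.leaf 2869347) (.leaf 7262320)) (.node (.leaf 6060130) (.leaf 6139939))))) (.node (.node (.node (.node (.leaf 8523901) (.leaf 1977444)) (.node (.leaf 6212216) (.leaf 5355643))) (.node (.node (.leaf 8870517) (.leaf 4514888)) (.node (.leaf 9936496) (.leaf 6153320)))) (.node (.node (.node (.leaf 11006568) (.leaf 8871037)) (.node (.leaf 7531616) (.leaf 1429115))) (.node (.node (.leaf 8649824) (.leaf 6889592)) (.node (.leaf 10563187) (.leaf 1211008)))))) (.node (.node (.node (.node (.node (.leaf 269404) (.leaf 6173284)) (.node (.leaf 1517682) (.leaf 2789498))) (.node (.node (.leaf 6839416) (.leaf 1790564)) (.node (.leaf 7368828) (.leaf 11135603)))) (.node (.node (.node (.leaf 8747627) (.leaf 4925000))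 (.node (.leaf 11278968) (.leaf 11029611))) (.node (.node (.leaf 8914560) (.leaf 8916091)) (.node (.leaf 10180184) (.leaf 8176709))))) (.node (.node (.node (.node (.leaf 6189691) (.leaf 10555501)) (.node (.leaf 8178789) (.leaf 1153120))) (.node (.node (.leaf 6544994) (.leaf 3143768)) (.node (.leaf 2446443) (.leaf 2811491)))) (.node (.node (.node (.leaf 5364851) (.leaf 11309173)) (.node (.leaf 8656501) (.leaf 5307507))) (.node (.node (.leaf 796256) (.leaf 11310197)) (.node (.leaf 2804856) (.leaf 1802299)))))))

/-- How a representative arises, part 328. -/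
def tInfoPart328 : Janko1.Tree ℕ := (.node (.node (.node (.node (.node (.node (.leaf 3880058) (.leaf 2727541)) (.node (.leaf 9668705) (.leaf 8543346))) (.node (.node (.leaf 3914860) (.leaf 7297636)) (.node (.leaf 5235333) (.leaf 5413500)))) (.node (.node (.node (.leaf 7716410) (.leaf 9701001)) (.node (.leaf 2496108) (.leaf 5233269))) (.node (.node (.leaf 4221044) (.leaf 10634338)) (.node (.leaf 5440115) (.leaf 8302708))))) (.node (.node (.node (.node (.leaf 10510964) (.leaf 5572714)) (.node (.leaf 1474675) (.leaf 9684609))) (.node (.node (.leaf 2857587) (.leaf 9717369)) (.node (.leaf 8736380) (.leaf 6201970)))) (.node (.node (.node (.leaf 7513172) (.leaf 9790058)) (.node (.leaf 9724529) (.leaf 6214770))) (.node (.node (.leaf 10977388) (.leaf 435316)) (.node (.leaf 7673441) (.leaf 6580853)))))) (.node (.node (.node (.node (.node (.leaf 11731052) (.leaf 5750373)) (.node (.leaf 5750909) (.leaf 7661145))) (.node (.node (.leaf 1892996) (.leaf 1338501)) (.node (.leaf 7722593) (.leaf 9901676)))) (.node (.node (.node (.leaf 7890546) (.leaf 5751373))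 (.node (.leaf 7656036) (.leaf 8831082))) (.node (.node (.leaf 228964) (.leaf 7759985)) (.node (.leaf 1337965) (.leaf 5448307))))) (.node (.node (.node (.node (.leaf 5348987) (.leaf 6283403)) (.node (.leaf 6887018) (.leaf 7224428))) (.node (.node (.leaf 5787260) (.leaf 2478715)) (.node (.leaf 11486842) (.leaf 7745145)))) (.node (.node (.node (.leaf 6458466) (.leaf 6231667)) (.node (.leaf 6121571) (.leaf 11013748))) (.node (.node (.leaf 5920380) (.leaf 11217002)) (.node (.leaf 2783267) (.leaf 7775345)))))))

/-- How a representative arises, part 329. -/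
def tInfoPart329 : Janko1.Tree ℕ := (.node (.node (.node (.node (.node (.node (.leaf 1151109) (.leaf 1914480)) (.node (.leaf 9548912) (.leaf 5403240))) (.node (.node (.leaf 6433381) (.leaf 11652680)) (.node (.leaf 2174557) (.leaf 5598333)))) (.node (.node (.node (.leaf 9228913) (.leaf 6435429)) (.node (.leaf 10569320) (.leaf 2421850))) (.node (.node (.leaf 6337661) (.leaf 11563641)) (.node (.leaf 8782432) (.leaf 11556953))))) (.node (.node (.node (.node (.leaf 6117492) (.leaf 5507181)) (.node (.leaf 583800) (.leaf 6338181))) (.node (.node (.leaf 9198185) (.leaf 9204337)) (.node (.leaf 5703796) (.leaf 5710451)))) (.node (.node (.node (.leaf 10539576) (.leaf 7144560)) (.node (.leaf 2353259) (.leaf 9592424))) (.node (.node (.leaf 9241185) (.leaf 5864059)) (.node (.leaf 1930355) (.leaf 2919547)))))) (.node (.node (.node (.node (.node (.leaf 11634265) (.leaf 2556512)) (.node (.leaf 469612) (.leaf 8829056))) (.node (.node (.leaf 5853299) (.leaf 6664304)) (.node (.leaf 11485313) (.leaf 11689065)))) (.node (.node (.node (.leaf 7315068) (.leaf 11381864))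 (.node (.leaf 11717233) (.leaf 3468896))) (.node (.node (.leaf 2793589) (.leaf 10286704)) (.node (.leaf 1920093) (.leaf 3099266))))) (.node (.node (.node (.node (.leaf 996984) (.leaf 9122929)) (.node (.leaf 9057384) (.leaf 9115225))) (.node (.node (.leaf 6064748) (.leaf 9153137)) (.node (.leaf 1111672) (.leaf 3582042)))) (.node (.node (.node (.leaf 1929803) (.leaf 2918515)) (.node (.leaf 5652588) (.leaf 11714689))) (.node (.node (.leaf 8181848) (.leaf 1474672)) (.node (.leaf 9611873) (.leaf 9618545)))))))

/-- How a representative arises, part 330. -/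
def tInfoPart330 : Janko1.Tree ℕ := (.node (.node (.node (.node (.node (.node (.leaf 6538315) (.leaf 9162361)) (.node (.leaf 1086072) (.leaf 8978523))) (.node (.node (.leaf 2190965) (.leaf 11301979)) (.node (.leaf 2192509) (.leaf 1807970)))) (.node (.node (.node (.leaf 2621028) (.leaf 7476330)) (.node (.leaf 10864236) (.leaf 6355077))) (.node (.node (.leaf 54906) (.leaf 2561117)) (.node (.leaf 5519477) (.leaf 8682091))))) (.node (.node (.node (.node (.leaf 6354549) (.leaf 1688698)) (.node (.leaf 10768979) (.leaf 7430780))) (.node (.node (.leaf 8559725) (.leaf 8376948)) (.node (.leaf 2310779) (.leaf 11210845)))) (.node (.node (.node (.leaf 7174252) (.leaf 10650221)) (.node (.leaf 11049564) (.leaf 11212389))) (.node (.node (.leaf 5051483) (.leaf 10649197)) (.node (.leaf 11150965) (.leaf 4370026)))))) (.node (.node (.node (.node (.node (.leaf 5814875) (.leaf 2334324)) (.node (.leaf 8774773) (.leaf 5310581))) (.node (.node (.leaf 6137949) (.leaf 9002082)) (.node (.leaf 11292275) (.leaf 2808949)))) (.node (.node (.node (.leaf 3496562) (.leaf 9835132))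 (.node (.leaf 8047186) (.leaf 6138981))) (.node (.node (.leaf 2435172) (.leaf 9298042)) (.node (.leaf 2807405) (.leaf 8980595))))) (.node (.node (.node (.node (.leaf 3128442) (.leaf 8607860)) (.node (.leaf 9071738) (.leaf 151652))) (.node (.node (.leaf 5819501) (.leaf 10678388)) (.node (.leaf 5821549) (.leaf 1948251)))) (.node (.node (.node (.leaf 10546796) (.leaf 8906869)) (.node (.leaf 5815931) (.leaf 3751548))) (.node (.node (.leaf 2995323) (.leaf 5041267)) (.node (.leaf 5242482) (.leaf 364668)))))))

/-- How a representative arises, part 331. -/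
def tInfoPart331 : Janko1.Tree ℕ := (.node (.node (.node (.node (.node (.node (.leaf 8963693) (.leaf 1940083)) (.node (.leaf 10788989) (.leaf 5872220))) (.node (.node (.leaf 11175002) (.leaf 8966245)) (.node (.leaf 11762796) (.leaf 10224741)))) (.node (.node (.node (.leaf 9533049) (.leaf 7162972)) (.node (.leaf 3657336) (.leaf 1693808))) (.node (.node (.leaf 5075557) (.leaf 5907037)) (.node (.leaf 2544226) (.leaf 2054269))))) (.node (.node (.node (.node (.leaf 9575017) (.leaf 4029546)) (.node (.leaf 13906) (.leaf 11549289))) (.node (.node (.leaf 1676389) (.leaf 7522408)) (.node (.leaf 4506208) (.leaf 6017149)))) (.node (.node (.node (.leaf 11036760) (.leaf 1777276)) (.node (.leaf 3669112) (.leaf 5708411))) (.node (.node (.leaf 4983411) (.leaf 7263824)) (.node (.leaf 1988195) (.leaf 2354787)))))) (.node (.node (.node (.node (.node (.leaf 1732200) (.leaf 9247857)) (.node (.leaf 2540148) (.leaf 179812))) (.node (.node (.leaf 11572857) (.leaf 11635841)) (.node (.leaf 5701235) (.leaf 6530147)))) (.node (.node (.node (.leaf 9934952) (.leaf 2981491))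 (.node (.leaf 7060578) (.leaf 273008))) (.node (.node (.leaf 11044960) (.leaf 11678833)) (.node (.leaf 11687521) (.leaf 11680865))))) (.node (.node (.node (.node (.leaf 9131040) (.leaf 1417845)) (.node (.leaf 1194618) (.leaf 1210472))) (.node (.node (.leaf 3454562) (.leaf 6927968)) (.node (.leaf 11521096) (.leaf 5862500)))) (.node (.node (.node (.leaf 8915056) (.leaf 6527592)) (.node (.leaf 6535805) (.leaf 1281125))) (.node (.node (.leaf 1328234) (.leaf 2300533)) (.node (.leaf 9154657) (.leaf 11699321)))))))

/-- How a representative arises, part 332. -/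
def tInfoPart332 : Janko1.Tree ℕ := (.node (.node (.node (.node (.node (.node (.leaf 1716852) (.leaf 9139832)) (.node (.leaf 3183720) (.leaf 4972659))) (.node (.node (.leaf 6529147) (.leaf 1349723)) (.node (.leaf 5257336) (.leaf 2362483)))) (.node (.node (.node (.leaf 11531880) (.leaf 2485332)) (.node (.leaf 8924264) (.leaf 6539883))) (.node (.node (.leaf 5809275) (.leaf 1986163)) (.node (.leaf 2838120) (.leaf 6799474))))) (.node (.node (.node (.node (.leaf 3051133) (.leaf 8438891)) (.node (.leaf 3048557) (.leaf 5092469))) (.node (.node (.leaf 1813106) (.leaf 4515444)) (.node (.leaf 2067069) (.leaf 8374378)))) (.node (.node (.node (.leaf 5920893) (.leaf 10293859)) (.node (.leaf 8094835) (.leaf 2315380))) (.node (.node (.leaf 8689258) (.leaf 7464050)) (.node (.leaf 7517796) (.leaf 8679531)))))) (.node (.node (.node (.node (.node (.leaf 8305778) (.leaf 10287211)) (.node (.leaf 10862706) (.leaf 5530228))) (.node (.node (.leaf 2642020) (.leaf 5713026)) (.node (.leaf 2008179) (.leaf 7720044)))) (.node (.node (.node (.leaf 8668796) (.leaf 10791026))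 (.node (.leaf 10381437) (.leaf 5847146))) (.node (.node (.leaf 8845429) (.leaf 10939005)) (.node (.leaf 4130908) (.leaf 5612658))))) (.node (.node (.node (.node (.leaf 1879676) (.leaf 7081594)) (.node (.leaf 10672738) (.leaf 6247029))) (.node (.node (.leaf 8446051) (.leaf 1434725)) (.node (.leaf 1433709) (.leaf 5417565)))) (.node (.node (.node (.leaf 4369004) (.leaf 2443885)) (.node (.leaf 2442333) (.leaf 2314853))) (.node (.node (.leaf 449116) (.leaf 5717621)) (.node (.leaf 3129978) (.leaf 1365618)))))))

/-- How a representative arises, part 333. -/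
def tInfoPart333 : Janko1.Tree ℕ := (.node (.node (.node (.node (.node (.node (.leaf 8670835) (.leaf 7089796)) (.node (.leaf 10779691) (.leaf 6551133))) (.node (.node (.leaf 2935915) (.leaf 7328884)) (.node (.leaf 8702069) (.leaf 8700501)))) (.node (.node (.node (.leaf 10684548) (.leaf 11078245)) (.node (.leaf 2459252) (.leaf 5241946))) (.node (.node (.leaf 8145517) (.leaf 8568436)) (.node (.leaf 11180634) (.leaf 2925171))))) (.node (.node (.node (.node (.leaf 6076524) (.leaf 5731947)) (.node (.leaf 10212458) (.leaf 9837684))) (.node (.node (.leaf 8628349) (.leaf 5357690)) (.node (.leaf 1690204) (.leaf 6823010)))) (.node (.node (.node (.leaf 10496098) (.leaf 9405564)) (.node (.leaf 1929800) (.leaf 11618416))) (.node (.node (.leaf 2033776) (.leaf 7148656)) (.node (.leaf 8112747) (.leaf 6444653)))))) (.node (.node (.node (.node (.node (.leaf 10572920) (.leaf 5611101)) (.node (.leaf 8653427) (.leaf 5911144))) (.node (.node (.leaf 10808931) (.leaf 197740)) (.node (.leaf 6111348) (.leaf 9034347)))) (.node (.node (.node (.leaf 9792616) (.leaf 485506))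 (.node (.leaf 1293411) (.leaf 2931819))) (.node (.node (.leaf 7082608) (.leaf 2289714)) (.node (.leaf 9543792) (.leaf 8557165))))) (.node (.node (.node (.node (.leaf 10648181) (.leaf 5880947)) (.node (.leaf 3985016) (.leaf 10588773))) (.node (.node (.leaf 522344) (.leaf 5935216)) (.node (.leaf 4988027) (.leaf 8771701)))) (.node (.node (.node (.leaf 6552699) (.leaf 10589309)) (.node (.leaf 10890864) (.leaf 8210029))) (.node (.node (.leaf 8772189) (.leaf 6136429)) (.node (.leaf 8652387) (.leaf 6642288)))))))

/-- How a representative arises, part 334. -/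
def tInfoPart334 : Janko1.Tree ℕ := (.node (.node (.node (.node (.node (.node (.leaf 1730684) (.leaf 5023354)) (.node (.leaf 11330115) (.leaf 3449448))) (.node (.node (.leaf 9314408) (.leaf 2926709)) (.node (.leaf 8645211) (.leaf 4676720)))) (.node (.node (.node (.leaf 3061832) (.leaf 1124960)) (.node (.leaf 5134954) (.leaf 6426216))) (.node (.node (.leaf 10074224) (.leaf 10288243)) (.node (.leaf 4991101) (.leaf 1302131))))) (.node (.node (.node (.node (.leaf 954978) (.leaf 4989043)) (.node (.leaf 9268352) (.leaf 6553707))) (.node (.node (.leaf 2009195) (.leaf 3476072)) (.node (.leaf 8417909) (.leaf 2933867)))) (.node (.node (.node (.leaf 10026048) (.leaf 2840170)) (.node (.leaf 8419445) (.leaf 11174000))) (.node (.node (.leaf 2376811) (.leaf 10785909)) (.node (.leaf 2167397) (.leaf 7517793)))))) (.node (.node (.node (.node (.node (.leaf 6131810) (.leaf 6136426)) (.node (.leaf 5513340) (.leaf 7902793))) (.node (.node (.leaf 2169973) (.leaf 6427773)) (.node (.leaf 5503085) (.leaf 9936985)))) (.node (.node (.node (.leaf 2540149) (.leaf 6027850))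 (.node (.leaf 4270204) (.leaf 9908841))) (.node (.node (.leaf 11716724) (.leaf 1897028)) (.node (.leaf 8645738) (.leaf 2295403))))) (.node (.node (.node (.node (.leaf 10593884) (.leaf 7884913)) (.node (.leaf 5745236) (.leaf 7662714))) (.node (.node (.leaf 3811444) (.leaf 7912577)) (.node (.leaf 2093114) (.leaf 11062396)))) (.node (.node (.node (.leaf 3798642) (.leaf 6596739)) (.node (.leaf 2306155) (.leaf 9920121))) (.node (.node (.leaf 1994355) (.leaf 1968754)) (.node (.leaf 11901036) (.leaf 6585939)))))))

/-- How a representative arises, part 335. -/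
def tInfoPart335 : Janko1.Tree ℕ := (.node (.node (.node (.node (.node (.node (.leaf 9804385) (.leaf 5290621)) (.node (.leaf 10022977) (.leaf 10016369))) (.node (.node (.leaf 11533946) (.leaf 10046577)) (.node (.leaf 2786917) (.leaf 10274426)))) (.node (.node (.node (.leaf 9847921) (.leaf 7934561)) (.node (.leaf 9855612) (.leaf 1916029))) (.node (.node (.leaf 7928433) (.leaf 7461473)) (.node (.leaf 2500716) (.leaf 4968541))))) (.node (.node (.node (.node (.leaf 7490681) (.leaf 2904165)) (.node (.leaf 1703524) (.leaf 9560692))) (.node (.node (.leaf 9824881) (.leaf 10034801)) (.node (.leaf 3747444) (.leaf 10063985)))) (.node (.node (.node (.leaf 7466588) (.leaf 6587987)) (.node (.leaf 8949370) (.leaf 1278067))) (.node (.node (.leaf 7951481) (.leaf 4979819)) (.node (.leaf 5809787) (.leaf 8288356)))))) (.node (.node (.node (.node (.node (.leaf 1644626) (.leaf 11775100)) (.node (.leaf 7072884) (.leaf 3346042))) (.node (.node (.leaf 8645739) (.leaf 9415272)) (.node (.leaf 5917821) (.leaf 10739275)))) (.node (.node (.node (.leaf 3700856) (.leaf 557668))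 (.node (.leaf 11789912) (.leaf 2323064))) (.node (.node (.leaf 4467312) (.leaf 10731619)) (.node (.leaf 10239091) (.leaf 2350696))))) (.node (.node (.node (.node (.leaf 3819652) (.leaf 11329659)) (.node (.leaf 1691253) (.leaf 497242))) (.node (.node (.leaf 7257720) (.leaf 1664112)) (.node (.leaf 2598524) (.leaf 3762810)))) (.node (.node (.node (.leaf 2314848) (.leaf 4457568)) (.node (.leaf 6553163) (.leaf 192624))) (.node (.node (.leaf 4102244) (.leaf 3001955)) (.node (.leaf 5768827) (.leaf 5035123)))))))

/-- How a representative arises, part 336. -/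
def tInfoPart336 : Janko1.Tree ℕ := (.node (.node (.node (.node (.node (.node (.leaf 7557200) (.leaf 8842853)) (.node (.leaf 8652899) (.leaf 9135208))) (.node (.node (.leaf 5203064) (.leaf 5416021)) (.node (.leaf 6851688) (.leaf 2439277)))) (.node (.node (.node (.leaf 1156200) (.leaf 3207776)) (.node (.leaf 8476755) (.leaf 1259648))) (.node (.node (.leaf 8041576) (.leaf 8920688)) (.node (.leaf 4891760) (.leaf 4704370))))) (.node (.node (.node (.node (.leaf 10248819) (.leaf 2314333)) (.node (.leaf 3629668) (.leaf 1925236))) (.node (.node (.leaf 5715565) (.leaf 7836280)) (.node (.leaf 11075197) (.leaf 8142933)))) (.node (.node (.node (.leaf 6552171) (.leaf 5822587)) (.node (.leaf 10860) (.leaf 3206242))) (.node (.node (.leaf 5767787) (.leaf 1247856)) (.node (.leaf 8911984) (.leaf 10175608)))))) (.node (.node (.node (.node (.node (.leaf 10714245) (.leaf 3900548)) (.node (.leaf 1645660) (.leaf 5397596))) (.node (.node (.leaf 11309672) (.leaf 6620280)) (.node (.leaf 11277413) (.leaf 7525993)))) (.node (.node (.node (.leaf 7190652) (.leaf 2047589))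 (.node (.leaf 9730146) (.leaf 2092140))) (.node (.node (.leaf 7911513) (.leaf 11840122)) (.node (.leaf 9879153) (.leaf 9943129))))) (.node (.node (.node (.node (.leaf 5935732) (.leaf 6024298)) (.node (.leaf 9658994) (.leaf 11763842))) (.node (.node (.leaf 1669717) (.leaf 9911401)) (.node (.leaf 9977945) (.leaf 7663730)))) (.node (.node (.node (.leaf 2313834) (.leaf 1811076)) (.node (.leaf 7668322) (.leaf 7545465))) (.node (.node (.leaf 5028955) (.leaf 6594675)) (.node (.leaf 9482850) (.leaf 7592514)))))))

/-- How a representative arises, part 337. -/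
def tInfoPart337 : Janko1.Tree ℕ := (.node (.node (.node (.node (.node (.node (.leaf 2185850) (.leaf 213612)) (.node (.leaf 4289140) (.leaf 6132836))) (.node (.node (.leaf 1968218) (.leaf 9419386)) (.node (.leaf 6587003) (.leaf 9936497)))) (.node (.node (.node (.leaf 9413210) (.leaf 10005113)) (.node (.leaf 5670532) (.leaf 5396581))) (.node (.node (.leaf 10007665) (.leaf 10056273)) (.node (.leaf 9846897) (.leaf 2291309))))) (.node (.node (.node (.node (.leaf 2255476) (.leaf 10044530)) (.node (.leaf 11599466) (.leaf 7978081))) (.node (.node (.leaf 5698157) (.leaf 7975001)) (.node (.leaf 7902794) (.leaf 2739826)))) (.node (.node (.node (.leaf 1926763) (.leaf 5485180)) (.node (.leaf 2753642) (.leaf 9826937))) (.node (.node (.leaf 1512058) (.leaf 9169002)) (.node (.leaf 9815164) (.leaf 9869937)))))) (.node (.node (.node (.node (.node (.leaf 7464049) (.leaf 7945817)) (.node (.leaf 7975002) (.leaf 7470697))) (.node (.node (.leaf 2875482) (.leaf 7510129)) (.node (.leaf 5765235) (.leaf 1629282)))) (.node (.node (.node (.leaf 3924552) (.leaf 11344985))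 (.node (.leaf 3760724) (.leaf 4444786))) (.node (.node (.leaf 8424064) (.leaf 2184821)) (.node (.leaf 11857521) (.leaf 556668))))) (.node (.node (.node (.node (.leaf 5470824) (.leaf 1156725)) (.node (.leaf 5704834) (.leaf 2560616))) (.node (.node (.leaf 9753160) (.leaf 1532493)) (.node (.leaf 2539125) (.leaf 4327520)))) (.node (.node (.node (.leaf 9301617) (.leaf 6329453)) (.node (.leaf 5409904) (.leaf 192114))) (.node (.node (.leaf 1996931) (.leaf 2600068)) (.node (.leaf 7139944) (.leaf 1798258)))))))

/-- How a representative arises, part 338. -/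
def tInfoPart338 : Janko1.Tree ℕ := (.node (.node (.node (.node (.node (.node (.leaf 5852779) (.leaf 8451696)) (.node (.leaf 9478769) (.leaf 9485929))) (.node (.node (.leaf 2294395) (.leaf 5709915)) (.node (.leaf 6539379) (.leaf 2620504)))) (.node (.node (.node (.leaf 5031547) (.leaf 9313393)) (.node (.leaf 1792125) (.leaf 9322081))) (.node (.node (.leaf 3693684) (.leaf 4821618)) (.node (.leaf 1416296) (.leaf 1791613))))) (.node (.node (.node (.node (.leaf 9432689) (.leaf 9424489)) (.node (.leaf 5288053) (.leaf 4984949))) (.node (.node (.leaf 11746929) (.leaf 5812325)) (.node (.leaf 6372480) (.leaf 7938680)))) (.node (.node (.node (.leaf 9098368) (.leaf 3084880)) (.node (.leaf 1924716) (.leaf 4734560))) (.node (.node (.leaf 6389872) (.leaf 11455577)) (.node (.leaf 9267808) (.leaf 11343968)))))) (.node (.node (.node (.node (.node (.leaf 9442937) (.leaf 2973283)) (.node (.leaf 5031019) (.leaf 5862979))) (.node (.node (.leaf 89700) (.leaf 1287283)) (.node (.leaf 11768441) (.leaf 4209756)))) (.node (.node (.node (.leaf 5701715) (.leaf 1038952))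 (.node (.leaf 6530683) (.leaf 2980955))) (.node (.node (.leaf 11467377) (.leaf 1352306)) (.node (.leaf 1080360) (.leaf 7965824))))) (.node (.node (.node (.node (.leaf 8646755) (.leaf 9875570)) (.node (.leaf 10872938) (.leaf 10598004))) (.node (.node (.leaf 10724994) (.leaf 5996164)) (.node (.leaf 8130635) (.leaf 6454381)))) (.node (.node (.node (.leaf 1170037) (.leaf 10831483)) (.node (.leaf 4458108) (.leaf 5510253))) (.node (.node (.leaf 7531124) (.leaf 4382826)) (.node (.leaf 1547885) (.leaf 8121459)))))))

/-- How a representative arises, part 339. -/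
def tInfoPart339 : Janko1.Tree ℕ := (.node (.node (.node (.node (.node (.node (.leaf 2553437) (.leaf 5635690)) (.node (.leaf 10842747) (.leaf 11646562))) (.node (.node (.leaf 11844188) (.leaf 4068980)) (.node (.leaf 2936939) (.leaf 5720195)))) (.node (.node (.node (.leaf 8785498) (.leaf 4043378)) (.node (.leaf 287860) (.leaf 9620082))) (.node (.node (.leaf 1823346) (.leaf 7707244)) (.node (.leaf 2571380) (.leaf 2925675))))) (.node (.node (.node (.node (.leaf 76898) (.leaf 5825139)) (.node (.leaf 8280162) (.leaf 5580900))) (.node (.node (.leaf 10755708) (.leaf 6297202)) (.node (.leaf 8321076) (.leaf 10255483)))) (.node (.node (.node (.leaf 10565244) (.leaf 1807973)) (.node (.leaf 8122507) (.leaf 2800245))) (.node (.node (.leaf 10777707) (.leaf 10926716)) (.node (.leaf 10246779) (.leaf 7083644)))))) (.node (.node (.node (.node (.node (.leaf 8130179) (.leaf 3669628)) (.node (.leaf 10771571) (.leaf 2939517))) (.node (.node (.leaf 1301091) (.leaf 2926195)) (.node (.leaf 11678308) (.leaf 10446957)))) (.node (.node (.node (.leaf 8898669) (.leaf 51292))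 (.node (.leaf 8039546) (.leaf 4192876))) (.node (.node (.leaf 5049443) (.leaf 6081660)) (.node (.leaf 10847364) (.leaf 5816427))))) (.node (.node (.node (.node (.leaf 8107122) (.leaf 5430908)) (.node (.leaf 8975501) (.leaf 10660948))) (.node (.node (.leaf 1375858) (.leaf 8434284)) (.node (.leaf 5084781) (.leaf 1706608)))) (.node (.node (.node (.leaf 5913229) (.leaf 2064501)) (.node (.leaf 3041909) (.leaf 3632248))) (.node (.node (.leaf 11861625) (.leaf 11790968)) (.node (.leaf 7355512) (.leaf 273532)))))))

/-- How a representative arises, part 340. -/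
def tInfoPart340 : Janko1.Tree ℕ := (.node (.node (.node (.node (.node (.node (.leaf 2585700) (.leaf 9455728)) (.node (.leaf 2668133) (.leaf 9504881))) (.node (.node (.leaf 278648) (.leaf 11041400)) (.node (.leaf 9284721) (.leaf 1860212)))) (.node (.node (.node (.leaf 1928827) (.leaf 205938)) (.node (.leaf 2036860) (.leaf 5801091))) (.node (.node (.leaf 1728120) (.leaf 1783410)) (.node (.leaf 11891825) (.leaf 4018794))))) (.node (.node (.node (.node (.leaf 3730544) (.leaf 1918555)) (.node (.leaf 6110840) (.leaf 38506))) (.node (.node (.leaf 465532) (.leaf 5808243)) (.node (.leaf 11032672) (.leaf 5758572)))) (.node (.node (.node (.leaf 9525849) (.leaf 1410181)) (.node (.leaf 4821106) (.leaf 2420357))) (.node (.node (.leaf 10393696) (.leaf 5233794)) (.node (.leaf 9355889) (.leaf 9426513)))))) (.node (.node (.node (.node (.node (.leaf 9367673) (.leaf 7796848)) (.node (.leaf 5711469) (.leaf 4909650))) (.node (.node (.leaf 6543469) (.leaf 10185336)) (.node (.leaf 4890728) (.leaf 2309733)))) (.node (.node (.node (.leaf 2308205) (.leaf 11784817)) (.node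 (.leaf 11452521) (.leaf 2878560))) (.node (.node (.leaf 1182312) (.leaf 8001120)) (.node (.leaf 2907243) (.leaf 5196360))))) (.node (.node (.node (.node (.leaf 10384992) (.leaf 1207914)) (.node (.leaf 6932584) (.leaf 9381969))) (.node (.node (.leaf 9452145) (.leaf 9387625)) (.node (.leaf 9457785) (.leaf 1289315)))) (.node (.node (.node (.leaf 1931355) (.leaf 11803745)) (.node (.leaf 5600884) (.leaf 10734188))) (.node (.node (.leaf 2075757) (.leaf 2077293)) (.node (.leaf 4056700) (.leaf 8481907)))))))

/-- How a representative arises, part 341. -/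
def tInfoPart341 : Janko1.Tree ℕ := (.node (.node (.node (.node (.node (.node (.leaf 5930093) (.leaf 3061837)) (.node (.leaf 8640083) (.leaf 10812522))) (.node (.node (.leaf 8980059) (.leaf 11299931)) (.node (.leaf 5195381) (.leaf 2557012)))) (.node (.node (.node (.leaf 8121947) (.leaf 8474179)) (.node (.leaf 10777211) (.leaf 7423044))) (.node (.node (.leaf 8786026) (.leaf 1306195)) (.node (.leaf 1947747) (.leaf 2564194))))) (.node (.node (.node (.node (.leaf 7177828) (.leaf 7530090)) (.node (.leaf 5746292) (.leaf 10308717))) (.node (.node (.leaf 4043906) (.leaf 572020)) (.node (.leaf 8502901) (.leaf 1300595)))) (.node (.node (.node (.leaf 8835197) (.leaf 7535732)) (.node (.leaf 2441842) (.leaf 5729923))) (.node (.node (.leaf 10929781) (.leaf 1711234)) (.node (.leaf 10373749) (.leaf 1423989)))))) (.node (.node (.node (.node (.node (.leaf 11134554) (.leaf 5409909)) (.node (.leaf 1768044) (.leaf 3989100))) (.node (.node (.leaf 8120427) (.leaf 8586340)) (.node (.leaf 11391610) (.leaf 6044772)))) (.node (.node (.node (.leaf 8647275) (.leaf 11202146))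 (.node (.leaf 156756) (.leaf 2501252))) (.node (.node (.leaf 9421436) (.leaf 10489450)) (.node (.leaf 9026130) (.leaf 5730931))))) (.node (.node (.node (.node (.leaf 2369139) (.leaf 9676396)) (.node (.leaf 2987099) (.leaf 10958460))) (.node (.node (.leaf 10515565) (.leaf 2208372)) (.node (.leaf 9093234) (.leaf 1308763)))) (.node (.node (.node (.leaf 5720675) (.leaf 8635509)) (.node (.leaf 4994155) (.leaf 10725973))) (.node (.node (.leaf 11776108) (.leaf 8074877)) (.node (.leaf 468602) (.leaf 10807931)))))))

/-- How a representative arises, part 342. -/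
def tInfoPart342 : Janko1.Tree ℕ := (.node (.node (.node (.node (.node (.node (.leaf 1168469) (.leaf 8688251)) (.node (.leaf 8477299) (.leaf 5620845))) (.node (.node (.leaf 3772002) (.leaf 3775602)) (.node (.leaf 1169493) (.leaf 9749104)))) (.node (.node (.node (.leaf 2551381) (.leaf 8078467)) (.node (.leaf 480336) (.leaf 10855512))) (.node (.node (.leaf 5899880) (.leaf 7209596)) (.node (.leaf 8677491) (.leaf 1545837))))) (.node (.node (.node (.node (.leaf 585320) (.leaf 3651202)) (.node (.leaf 10658909) (.leaf 3919976))) (.node (.node (.leaf 5502052) (.leaf 1959520)) (.node (.leaf 255620) (.leaf 10576488)))) (.node (.node (.node (.leaf 3003507) (.leaf 1994352)) (.node (.leaf 8464496) (.leaf 4273784))) (.node (.node (.leaf 11141229) (.leaf 9797728)) (.node (.leaf 556128) (.leaf 5779067)))))) (.node (.node (.node (.node (.node (.leaf 5962864) (.leaf 10904192)) (.node (.leaf 2797181) (.leaf 1805421))) (.node (.node (.leaf 8135800) (.leaf 6125141)) (.node (.leaf 11347576) (.leaf 6628472)))) (.node (.node (.node (.leaf 5807212) (.leaf 5036664))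 (.node (.leaf 8466555) (.leaf 3469928))) (.node (.node (.leaf 6717040) (.leaf 1063554)) (.node (.leaf 10732139) (.leaf 5828725))))) (.node (.node (.node (.node (.leaf 1919588) (.leaf 3417176)) (.node (.leaf 2318923) (.leaf 6491762))) (.node (.node (.leaf 10998381) (.leaf 6560891)) (.node (.leaf 15476) (.leaf 5777011)))) (.node (.node (.node (.leaf 5879411) (.leaf 2484300)) (.node (.leaf 3056248) (.leaf 4206180))) (.node (.node (.leaf 6594138) (.leaf 6367360)) (.node (.leaf 9103472) (.leaf 8428141)))))))

/-- How a representative arises, part 343. -/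
def tInfoPart343 : Janko1.Tree ℕ := (.node (.node (.node (.node (.node (.node (.leaf 5874267) (.leaf 7195764)) (.node (.leaf 2088060) (.leaf 9675881))) (.node (.node (.leaf 9615468) (.leaf 2337402)) (.node (.leaf 5600885) (.leaf 2377324)))) (.node (.node (.node (.leaf 2177117) (.leaf 8566890)) (.node (.leaf 7788121) (.leaf 7802457))) (.node (.node (.leaf 7794793) (.leaf 7626865)) (.node (.leaf 2531957) (.leaf 1525853))))) (.node (.node (.node (.node (.leaf 7639161) (.leaf 6321797)) (.node (.leaf 8447610) (.leaf 7630961))) (.node (.node (.leaf 1816180) (.leaf 4970595)) (.node (.leaf 5801563) (.leaf 4335220)))) (.node (.node (.node (.leaf 7410290) (.leaf 10908276)) (.node (.leaf 7719044) (.leaf 7806065))) (.node (.node (.leaf 218228) (.leaf 2909819)) (.node (.leaf 7813241) (.leaf 4981339)))))) (.node (.node (.node (.node (.node (.leaf 7821937) (.leaf 4129916)) (.node (.leaf 5764731) (.leaf 7654001))) (.node (.node (.leaf 8876658) (.leaf 2779261)) (.node (.leaf 7671937) (.leaf 2764394)))) (.node (.node (.node (.leaf 10575484) (.leaf 1488490)) (.node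 (.leaf 1483378) (.leaf 5280357))) (.node (.node (.leaf 10090097) (.leaf 8927842)) (.node (.leaf 450156) (.leaf 2915965))))) (.node (.node (.node (.node (.leaf 9723004) (.leaf 5618292)) (.node (.leaf 2914397) (.leaf 9775185))) (.node (.node (.leaf 7675497) (.leaf 1917043)) (.node (.leaf 10685044) (.leaf 9995882)))) (.node (.node (.node (.leaf 7769209) (.leaf 2458228)) (.node (.leaf 5763187) (.leaf 4718162))) (.node (.node (.leaf 1925747) (.leaf 2920555)) (.node (.leaf 10109065) (.leaf 4971627)))))))

/-- How a representative arises, part 344. -/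
def tInfoPart344 : Janko1.Tree ℕ := (.node (.node (.node (.node (.node (.node (.leaf 9781857) (.leaf 9798265)) (.node (.leaf 8086635) (.leaf 1659504))) (.node (.node (.leaf 1792124) (.leaf 7370356)) (.node (.leaf 9033347) (.leaf 5096061)))) (.node (.node (.node (.leaf 5097053) (.leaf 10701432)) (.node (.leaf 5666392) (.leaf 8078947))) (.node (.node (.leaf 8433771) (.leaf 193140)) (.node (.leaf 320122) (.leaf 325250))))) (.node (.node (.node (.node (.leaf 8678523) (.leaf 6205536)) (.node (.leaf 8678520) (.leaf 10305653))) (.node (.node (.leaf 10308213) (.leaf 8497781)) (.node (.leaf 5703268) (.leaf 11794552)))) (.node (.node (.node (.leaf 8323168) (.leaf 5770323)) (.node (.leaf 8271501) (.leaf 197224))) (.node (.node (.leaf 10371693) (.leaf 470652)) (.node (.leaf 1354859) (.leaf 1999979)))))) (.node (.node (.node (.node (.node (.leaf 8833125) (.leaf 5776491)) (.node (.leaf 5042803) (.leaf 4513904))) (.node (.node (.leaf 10926717) (.leaf 6838888)) (.node (.leaf 6236277) (.leaf 6236781)))) (.node (.node (.node (.leaf 11520616) (.leaf 1422453))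 (.node (.leaf 11339875) (.leaf 5406813))) (.node (.node (.leaf 5407341) (.leaf 8441451)) (.node (.leaf 6065780) (.leaf 1061498))))) (.node (.node (.node (.node (.leaf 6616688) (.leaf 5726325)) (.node (.leaf 846464) (.leaf 1304701))) (.node (.node (.leaf 1303157) (.leaf 6846072)) (.node (.leaf 1152592) (.leaf 6492266)))) (.node (.node (.node (.leaf 10512997) (.leaf 10513517)) (.node (.leaf 6561363) (.leaf 1353331))) (.node (.node (.leaf 3234424) (.leaf 5043323)) (.node (.leaf 11067509) (.leaf 11068029)))))))

/-- How a representative arises, part 345. -/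
def tInfoPart345 : Janko1.Tree ℕ := (.node (.node (.node (.node (.node (.node (.leaf 6537320) (.leaf 10722413)) (.node (.leaf 8073293) (.leaf 4394620))) (.node (.node (.leaf 6551635) (.leaf 2010739)) (.node (.leaf 11284101) (.leaf 2872928)))) (.node (.node (.node (.leaf 5080173) (.leaf 7688292)) (.node (.leaf 305772) (.leaf 10202225))) (.node (.node (.leaf 3037797) (.leaf 9472626)) (.node (.leaf 3689090) (.leaf 8446562))))) (.node (.node (.node (.node (.leaf 9391226) (.leaf 1891964)) (.node (.leaf 1940578) (.leaf 6003829))) (.node (.node (.leaf 9407098) (.leaf 7431772)) (.node (.leaf 1346691) (.leaf 10208881)))) (.node (.node (.node (.leaf 10602122) (.leaf 9768044)) (.node (.leaf 5517946) (.leaf 5977708))) (.node (.node (.leaf 4527740) (.leaf 9725545)) (.node (.leaf 10535034) (.leaf 2357363)))))) (.node (.node (.node (.node (.node (.leaf 7850601) (.leaf 7646841)) (.node (.leaf 5419626) (.leaf 5762163))) (.node (.node (.leaf 5029499) (.leaf 5407850)) (.node (.leaf 2131556) (.leaf 7652465)))) (.node (.node (.node (.leaf 3248242) (.leaf 3243642))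 (.node (.leaf 7705209) (.leaf 7768177))) (.node (.node (.leaf 2434652) (.leaf 4175972)) (.node (.leaf 8253562) (.leaf 9764465))))) (.node (.node (.node (.node (.leaf 9216626) (.leaf 9779257)) (.node (.leaf 3916396) (.leaf 10130033))) (.node (.node (.leaf 10285658) (.leaf 8703604)) (.node (.leaf 7770225) (.leaf 7478900)))) (.node (.node (.node (.leaf 2355827) (.leaf 9661052)) (.node (.leaf 7712353) (.leaf 5822076))) (.node (.node (.leaf 11523706) (.leaf 5029963)) (.node (.leaf 7720569) (.leaf 2214020)))))))

/-- How a representative arises, part 346. -/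
def tInfoPart346 : Janko1.Tree ℕ := (.node (.node (.node (.node (.node (.node (.leaf 10137209) (.leaf 8303236)) (.node (.leaf 10364538) (.leaf 10511996))) (.node (.node (.leaf 5154906) (.leaf 7068780)) (.node (.leaf 9790057) (.leaf 5141634)))) (.node (.node (.node (.leaf 5850736) (.leaf 10819208)) (.node (.leaf 9528961) (.leaf 2595946))) (.node (.node (.leaf 5653597) (.leaf 193644)) (.node (.leaf 250962) (.leaf 1854076))))) (.node (.node (.node (.node (.leaf 5554813) (.leaf 11550841)) (.node (.leaf 2481762) (.leaf 1606261))) (.node (.node (.leaf 11627121) (.leaf 2609789)) (.node (.leaf 11590241) (.leaf 2083416)))) (.node (.node (.node (.leaf 6390901) (.leaf 11654249)) (.node (.leaf 9544321) (.leaf 2301036))) (.node (.node (.leaf 5846120) (.leaf 7600752)) (.node (.leaf 2293371) (.leaf 9249369)))))) (.node (.node (.node (.node (.node (.leaf 11573873) (.leaf 2363507)) (.node (.leaf 9648744) (.leaf 4075648))) (.node (.node (.leaf 5853803) (.leaf 11646561)) (.node (.leaf 7096954) (.leaf 7196768)))) (.node (.node (.node (.leaf 2304627) (.leaf 5353053))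 (.node (.leaf 1867901) (.leaf 11492969))) (.node (.node (.leaf 11722865) (.leaf 11070584)) (.node (.leaf 6177893) (.leaf 2926704))))) (.node (.node (.node (.node (.leaf 1666172) (.leaf 1136250)) (.node (.leaf 9957480) (.leaf 11449968))) (.node (.node (.leaf 2978933) (.leaf 10358880)) (.node (.leaf 5025885) (.leaf 9640569)))) (.node (.node (.node (.leaf 5857909) (.leaf 6313560)) (.node (.leaf 7909488) (.leaf 9031784))) (.node (.node (.leaf 2238068) (.leaf 6631010)) (.node (.leaf 1288275) (.leaf 11739769)))))))

/-- How a representative arises, part 347. -/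
def tInfoPart347 : Janko1.Tree ℕ := (.node (.node (.node (.node (.node (.node (.leaf 6830688) (.leaf 8247400)) (.node (.leaf 9621113) (.leaf 9627745))) (.node (.node (.leaf 6774904) (.leaf 9353320)) (.node (.leaf 5807211) (.leaf 1227885)))) (.node (.node (.node (.leaf 9900660) (.leaf 2553436)) (.node (.leaf 6499453) (.leaf 1878130))) (.node (.node (.leaf 4122236) (.leaf 2520178)) (.node (.leaf 10747460) (.leaf 7502970))))) (.node (.node (.node (.node (.leaf 8490620) (.leaf 134250)) (.node (.leaf 10831971) (.leaf 10769515))) (.node (.node (.leaf 5571669) (.leaf 8446563)) (.node (.leaf 7689828) (.leaf 8593509)))) (.node (.node (.node (.leaf 8035461) (.leaf 509564)) (.node (.leaf 9634940) (.leaf 7252586))) (.node (.node (.leaf 8035965) (.leaf 11245685)) (.node (.leaf 5775458) (.leaf 9862746)))))) (.node (.node (.node (.node (.node (.leaf 5741148) (.leaf 6600291)) (.node (.leaf 2074228) (.leaf 10699362))) (.node (.node (.leaf 8809084) (.leaf 7145042)) (.node (.leaf 8246901) (.leaf 2954834)))) (.node (.node (.node (.leaf 9868412) (.leaf 8483443))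 (.node (.leaf 1883781) (.leaf 10833019))) (.node (.node (.leaf 2875005) (.leaf 8017530)) (.node (.leaf 1884269) (.leaf 9265786))))) (.node (.node (.node (.node (.leaf 2875485) (.leaf 3077210)) (.node (.leaf 10841699) (.leaf 5872221))) (.node (.node (.leaf 3556978) (.leaf 2991221)) (.node (.leaf 5038701) (.leaf 10809427)))) (.node (.node (.node (.leaf 5872765) (.leaf 2995811)) (.node (.leaf 10978940) (.leaf 11072634))) (.node (.node (.leaf 5041715) (.leaf 435836)) (.node (.leaf 10391658) (.leaf 9541236)))))))

/-- How a representative arises, part 348. -/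
def tInfoPart348 : Janko1.Tree ℕ := (.node (.node (.node (.node (.node (.node (.leaf 2935411) (.leaf 10488949)) (.node (.leaf 6547051) (.leaf 9004653))) (.node (.node (.leaf 9573492) (.leaf 6374514)) (.node (.leaf 8452725) (.leaf 10818165)))) (.node (.node (.node (.leaf 5048947) (.leaf 4881530)) (.node (.leaf 10265189) (.leaf 10461258))) (.node (.node (.leaf 1301627) (.leaf 8453245)) (.node (.leaf 10818677) (.leaf 10265725))))) (.node (.node (.node (.node (.leaf 246370) (.leaf 486524)) (.node (.leaf 103008) (.leaf 2596978))) (.node (.node (.leaf 9186905) (.leaf 2112629)) (.node (.leaf 2109549) (.leaf 3094125)))) (.node (.node (.node (.leaf 4110450) (.leaf 5239925)) (.node (.leaf 11566193) (.leaf 7414392))) (.node (.node (.leaf 5240421) (.leaf 6072429)) (.node (.leaf 11818072) (.leaf 9867368)))))) (.node (.node (.node (.node (.node (.leaf 4253300) (.leaf 2221112)) (.node (.leaf 9212545) (.leaf 4369504))) (.node (.node (.leaf 9247345) (.leaf 10772088)) (.node (.leaf 11636841) (.leaf 7431264)))) (.node (.node (.node (.leaf 1287795) (.leaf 1929315))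 (.node (.leaf 4305972) (.leaf 3761264))) (.node (.node (.leaf 11672161) (.leaf 11678305)) (.node (.leaf 6284917) (.leaf 413260))))) (.node (.node (.node (.node (.leaf 11698289) (.leaf 2909306)) (.node (.leaf 5452405) (.leaf 5451909))) (.node (.node (.leaf 1918556) (.leaf 11731569)) (.node (.leaf 11531353) (.leaf 1344605)))) (.node (.node (.node (.leaf 7034464) (.leaf 1343101)) (.node (.leaf 10463344) (.leaf 2358389))) (.node (.node (.leaf 9636969) (.leaf 11555960)) (.node (.leaf 10152536) (.leaf 4205700)))))))

/-- How a representative arises, part 349. -/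
def tInfoPart349 : Janko1.Tree ℕ := (.node (.node (.node (.node (.node (.node (.leaf 11709545) (.leaf 11503729)) (.node (.leaf 5393012) (.leaf 2652272))) (.node (.node (.leaf 11546713) (.leaf 1341539)) (.node (.leaf 2353763) (.leaf 9136737)))) (.node (.node (.node (.leaf 11594360) (.leaf 1279099)) (.node (.leaf 2293899) (.leaf 3257952))) (.node (.node (.leaf 9170033) (.leaf 9641073)) (.node (.leaf 9177673) (.leaf 6993512))))) (.node (.node (.node (.node (.leaf 4462700) (.leaf 5940356)) (.node (.leaf 2638466) (.leaf 5973629))) (.node (.node (.leaf 2126445) (.leaf 5776492)) (.node (.leaf 9639538) (.leaf 8415834)))) (.node (.node (.node (.leaf 11868796) (.leaf 7197268)) (.node (.leaf 7516778) (.leaf 2519658))) (.node (.node (.leaf 5258853) (.leaf 9570954)) (.node (.leaf 6000244) (.leaf 8339578)))))) (.node (.node (.node (.node (.node (.leaf 11047012) (.leaf 10893426)) (.node (.leaf 1363051) (.leaf 4504714))) (.node (.node (.leaf 7684180) (.leaf 5875307)) (.node (.leaf 10336853) (.leaf 9076837)))) (.node (.node (.node (.leaf 1940579) (.leaf 9508996))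 (.node (.leaf 10822746) (.leaf 1370747))) (.node (.node (.leaf 1816676) (.leaf 5886570)) (.node (.leaf 5869683) (.leaf 8320109))))) (.node (.node (.node (.node (.leaf 7132794) (.leaf 5815419)) (.node (.leaf 8669292) (.leaf 4415076))) (.node (.node (.leaf 8973906) (.leaf 2953842)) (.node (.leaf 9264722) (.leaf 7089220)))) (.node (.node (.node (.leaf 3435626) (.leaf 1360493)) (.node (.leaf 9018467) (.leaf 7824506))) (.node (.node (.leaf 1361005) (.leaf 8979051)) (.node (.leaf 11069522) (.leaf 1371755)))))))

/-- How a representative arises, part 350. -/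
def tInfoPart350 : Janko1.Tree ℕ := (.node (.node (.node (.node (.node (.node (.leaf 11116149) (.leaf 8180837)) (.node (.leaf 5868659) (.leaf 8602740))) (.node (.node (.leaf 1307243) (.leaf 1689708)) (.node (.leaf 6546003) (.leaf 8180325)))) (.node (.node (.node (.leaf 4006508) (.leaf 6360682)) (.node (.leaf 8483444) (.leaf 10182266))) (.node (.node (.leaf 9441916) (.leaf 57468)) (.node (.leaf 6555755) (.leaf 7621228))))) (.node (.node (.node (.node (.leaf 10460754) (.leaf 8568964)) (.node (.leaf 455736) (.leaf 1226877))) (.node (.node (.leaf 8113267) (.leaf 2523252)) (.node (.leaf 2469976) (.leaf 5664365)))) (.node (.node (.node (.leaf 8986731) (.leaf 2247805)) (.node (.leaf 1227381) (.leaf 4074604))) (.node (.node (.leaf 10248299) (.leaf 2626141)) (.node (.leaf 10636400) (.leaf 4085344)))))) (.node (.node (.node (.node (.node (.leaf 6405245) (.leaf 5440602)) (.node (.leaf 2584692) (.leaf 10605680))) (.node (.node (.leaf 412264) (.leaf 8592509)) (.node (.leaf 2375747) (.leaf 8032349)))) (.node (.node (.node (.leaf 10785904) (.leaf 8518760))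 (.node (.leaf 7204984) (.leaf 3774572))) (.node (.node (.leaf 4121192) (.leaf 1942651)) (.node (.leaf 2327131) (.leaf 8803941))))) (.node (.node (.node (.node (.leaf 9033859) (.leaf 6317680)) (.node (.leaf 8124515) (.leaf 2873957))) (.node (.node (.leaf 9998936) (.leaf 2967664)) (.node (.leaf 6196333) (.leaf 5366405)))) (.node (.node (.node (.leaf 4975202) (.leaf 3886684)) (.node (.leaf 2901128) (.leaf 9026131))) (.node (.node (.leaf 2001021) (.leaf 8114283)) (.node (.leaf 1574496) (.leaf 6778464)))))))

/-- How a representative arises, part 351. -/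
def tInfoPart351 : Janko1.Tree ℕ := (.node (.node (.node (.node (.node (.node (.leaf 8079443) (.leaf 2404964)) (.node (.leaf 10247283) (.leaf 9348216))) (.node (.node (.leaf 2009707) (.leaf 942704)) (.node (.leaf 2383491) (.leaf 8392805)))) (.node (.node (.node (.leaf 4614752) (.leaf 2234492)) (.node (.leaf 7860848) (.leaf 10485877))) (.node (.node (.leaf 11040869) (.leaf 6223480)) (.node (.leaf 5599844) (.leaf 4562008))))) (.node (.node (.node (.node (.leaf 2931816) (.leaf 9000581)) (.node (.leaf 2377323) (.leaf 10259581))) (.node (.node (.leaf 3709564) (.leaf 11415152)) (.node (.leaf 2319451) (.leaf 10260077)))) (.node (.node (.node (.leaf 11059810) (.leaf 10851460)) (.node (.leaf 7902313) (.leaf 11883138))) (.node (.node (.leaf 7895689) (.leaf 7571553)) (.node (.leaf 6474853) (.leaf 5643893)))))) (.node (.node (.node (.node (.node (.leaf 7423580) (.leaf 11684476)) (.node (.leaf 5546109) (.leaf 2601077))) (.node (.node (.leaf 7404124) (.leaf 6384741)) (.node (.leaf 9904705) (.leaf 9985137)))) (.node (.node (.node (.leaf 2601597) (.leaf 1600093))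 (.node (.leaf 1984107) (.leaf 596594))) (.node (.node (.leaf 11025532) (.leaf 7547505)) (.node (.leaf 2370170) (.leaf 7554169))))) (.node (.node (.node (.node (.leaf 7920241) (.leaf 7580273)) (.node (.leaf 5707355) (.leaf 6542435))) (.node (.node (.leaf 9889401) (.leaf 8364660)) (.node (.leaf 459378) (.leaf 9962097)))) (.node (.node (.node (.leaf 2249842) (.leaf 2071164)) (.node (.leaf 2017874) (.leaf 7574628))) (.node (.node (.leaf 2030178) (.leaf 5981812)) (.node (.leaf 3722362) (.leaf 11224690)))))))

/-- How a representative arises, part 352. -/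
def tInfoPart352 : Janko1.Tree ℕ := (.node (.node (.node (.node (.node (.node (.leaf 7636596) (.leaf 156276)) (.node (.leaf 9807969) (.leaf 11513458))) (.node (.node (.leaf 5345413) (.leaf 10046049)) (.node (.leaf 10238066) (.leaf 11308650)))) (.node (.node (.node (.leaf 11294306) (.leaf 7449201)) (.node (.leaf 1767548) (.leaf 5021309))) (.node (.node (.leaf 7938681) (.leaf 7490161)) (.node (.leaf 10783844) (.leaf 7981673))))) (.node (.node (.node (.node (.leaf 73324) (.leaf 10992244)) (.node (.leaf 3174506) (.leaf 7471713))) (.node (.node (.leaf 2811490) (.leaf 7122556)) (.node (.leaf 6594139) (.leaf 7963745)))) (.node (.node (.node (.leaf 7500881) (.leaf 1572450)) (.node (.leaf 10957948) (.leaf 5826180))) (.node (.node (.leaf 2225768) (.leaf 3106405)) (.node (.leaf 2281580) (.leaf 6104192)))))) (.node (.node (.node (.node (.node (.leaf 162416) (.leaf 3109453)) (.node (.leaf 8434283) (.leaf 6056544))) (.node (.node (.leaf 5142141) (.leaf 3824224)) (.node (.leaf 7157860) (.leaf 8476275)))) (.node (.node (.node (.leaf 6084213) (.leaf 8087155))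 (.node (.leaf 8439923) (.leaf 8354424))) (.node (.node (.leaf 2536020) (.leaf 8521341)) (.node (.leaf 2994283) (.leaf 10960488))))) (.node (.node (.node (.node (.leaf 10890869) (.leaf 150136)) (.node (.leaf 5545564) (.leaf 3828298))) (.node (.node (.leaf 10928736) (.leaf 7451768)) (.node (.leaf 4032636) (.leaf 2227826)))) (.node (.node (.node (.leaf 1891424) (.leaf 2599028)) (.node (.leaf 10416253) (.leaf 4308596))) (.node (.node (.leaf 5714027) (.leaf 4988531)) (.node (.leaf 1831016) (.leaf 5856900)))))))

/-- How a representative arises, part 353. -/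
def tInfoPart353 : Janko1.Tree ℕ := (.node (.node (.node (.node (.node (.node (.leaf 7762032) (.leaf 2657400)) (.node (.leaf 6295685) (.leaf 8088155))) (.node (.node (.leaf 6473840) (.leaf 10808451)) (.node (.leaf 666720) (.leaf 2371677)))) (.node (.node (.node (.leaf 7105100) (.leaf 10849899)) (.node (.leaf 5774981) (.leaf 5803124))) (.node (.node (.leaf 8077931) (.leaf 5771373)) (.node (.leaf 5775461) (.leaf 89188))))) (.node (.node (.node (.node (.leaf 5768307) (.leaf 6515808)) (.node (.leaf 8734341) (.leaf 3899980))) (.node (.node (.leaf 5397124) (.leaf 2942067)) (.node (.leaf 11207800) (.leaf 4987507)))) (.node (.node (.node (.leaf 3965044) (.leaf 2778234)) (.node (.leaf 8099453) (.leaf 5723763))) (.node (.node (.leaf 4997227) (.leaf 5950597)) (.node (.leaf 11061346) (.leaf 10995828)))))) (.node (.node (.node (.node (.node (.leaf 7911009) (.leaf 5951597)) (.node (.leaf 7570033) (.leaf 5951109))) (.node (.node (.leaf 5124725) (.leaf 11842684)) (.node (.leaf 5584514) (.leaf 7562865)))) (.node (.node (.node (.leaf 2728061) (.leaf 9627748))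 (.node (.leaf 1729141) (.leaf 7571556))) (.node (.node (.leaf 2729565) (.leaf 11806298)) (.node (.leaf 9977441) (.leaf 10884212))))) (.node (.node (.node (.node (.leaf 7545961) (.leaf 5706347)) (.node (.leaf 6540403) (.leaf 9520250))) (.node (.node (.leaf 7586385) (.leaf 8620146)) (.node (.leaf 447106) (.leaf 5856899)))) (.node (.node (.node (.leaf 9965641) (.leaf 10924140)) (.node (.leaf 6532715) (.leaf 2484301))) (.node (.node (.leaf 4579458) (.leaf 11236482)) (.node (.leaf 4581994) (.leaf 11498082)))))))

/-- How a representative arises, part 354. -/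
def tInfoPart354 : Janko1.Tree ℕ := (.node (.node (.node (.node (.node (.node (.leaf 8282220) (.leaf 11293802)) (.node (.leaf 6579301) (.leaf 6583405))) (.node (.node (.leaf 4692058) (.leaf 7462524)) (.node (.leaf 8720996) (.leaf 5111930)))) (.node (.node (.node (.leaf 921186) (.leaf 8588916)) (.node (.leaf 1452130) (.leaf 5699187))) (.node (.node (.leaf 8433772) (.leaf 9389156)) (.node (.leaf 1053306) (.leaf 5765731))))) (.node (.node (.node (.node (.leaf 6598275) (.leaf 8467572)) (.node (.leaf 1571970) (.leaf 5707899))) (.node (.node (.leaf 7990905) (.leaf 9815668)) (.node (.leaf 7516777) (.leaf 7996537)))) (.node (.node (.node (.leaf 455280) (.leaf 8717416)) (.node (.leaf 2113124) (.leaf 11863649))) (.node (.node (.leaf 9642104) (.leaf 9255025)) (.node (.leaf 2599029) (.leaf 5570168)))))) (.node (.node (.node (.node (.node (.leaf 11723360) (.leaf 4021880)) (.node (.leaf 557164) (.leaf 9294449))) (.node (.node (.leaf 2537068) (.leaf 2588258)) (.node (.leaf 275562) (.leaf 2436720)))) (.node (.node (.node (.leaf 4102756) (.leaf 4091506)) (.node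 (.leaf 11890281) (.leaf 1868410))) (.node (.node (.leaf 11906161) (.leaf 4122704)) (.node (.leaf 2472050) (.leaf 7240320))))) (.node (.node (.node (.node (.leaf 9277033) (.leaf 2107000)) (.node (.leaf 4984435) (.leaf 9312865))) (.node (.node (.leaf 2054264) (.leaf 9319017)) (.node (.leaf 9028232) (.leaf 416884)))) (.node (.node (.node (.leaf 11112544) (.leaf 6281832)) (.node (.leaf 6170757) (.leaf 5186154))) (.node (.node (.leaf 9436273) (.leaf 3570272)) (.node (.leaf 11455088) (.leaf 6797408)))))))

/-- How a representative arises, part 355. -/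
def tInfoPart355 : Janko1.Tree ℕ := (.node (.node (.node (.node (.node (.node (.leaf 2986101) (.leaf 1641576)) (.node (.leaf 5034085) (.leaf 3513936))) (.node (.node (.leaf 347764) (.leaf 6746224)) (.node (.leaf 5289594) (.leaf 11455089)))) (.node (.node (.node (.leaf 2991712) (.leaf 9407585)) (.node (.leaf 2899554) (.leaf 9986680))) (.node (.node (.leaf 630890) (.leaf 7895160)) (.node (.leaf 1919099) (.leaf 3901036))))) (.node (.node (.node (.node (.leaf 3389058) (.leaf 11433081)) (.node (.leaf 5025411) (.leaf 5855355))) (.node (.node (.leaf 11443825) (.leaf 1928291)) (.node (.leaf 11462745) (.leaf 3511930)))) (.node (.node (.node (.leaf 11466865) (.leaf 4973171)) (.node (.leaf 1287282) (.leaf 11477081))) (.node (.node (.leaf 8131155) (.leaf 10767987)) (.node (.leaf 8991355) (.leaf 9648228)))))) (.node (.node (.node (.node (.node (.leaf 10736771) (.leaf 1612413)) (.node (.leaf 7192164) (.leaf 5560949))) (.node (.node (.leaf 1612917) (.leaf 8979571)) (.node (.leaf 2617405) (.leaf 10747459)))) (.node (.node (.node (.leaf 11253373) (.leaf 214148))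 (.node (.leaf 297570) (.leaf 4119154))) (.node (.node (.leaf 2321499) (.leaf 8600677)) (.node (.leaf 10754668) (.leaf 6545539))))) (.node (.node (.node (.node (.leaf 8536180) (.leaf 2495090)) (.node (.leaf 1811572) (.leaf 8754290))) (.node (.node (.leaf 10729580) (.leaf 6609019)) (.node (.leaf 2311819) (.leaf 8240757)))) (.node (.node (.node (.leaf 11177565) (.leaf 5889116)) (.node (.leaf 8122955) (.leaf 4798066))) (.node (.node (.leaf 10842227) (.leaf 10778235)) (.node (.leaf 10962052) (.leaf 8085619)))))))

/-- How a representative arises, part 356. -/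
def tInfoPart356 : Janko1.Tree ℕ := (.node (.node (.node (.node (.node (.node (.leaf 11373682) (.leaf 11746932)) (.node (.leaf 10172018) (.leaf 7138948))) (.node (.node (.leaf 9590908) (.leaf 11781236)) (.node (.leaf 10452594) (.leaf 8989283)))) (.node (.node (.node (.leaf 6751834) (.leaf 5318730)) (.node (.leaf 10800755) (.leaf 10738787))) (.node (.node (.leaf 10927220) (.leaf 8932957)) (.node (.leaf 132212) (.leaf 4240468))))) (.node (.node (.node (.node (.leaf 8989810) (.leaf 5049955)) (.node (.leaf 1939587) (.leaf 1179762))) (.node (.node (.leaf 10829925) (.leaf 5484660)) (.node (.leaf 9064554) (.leaf 789626)))) (.node (.node (.node (.leaf 8468588) (.leaf 3531866)) (.node (.leaf 1947243) (.leaf 10273917))) (.node (.node (.leaf 9015413) (.leaf 9814628)) (.node (.leaf 11818073) (.leaf 10969184)))))) (.node (.node (.node (.node (.node (.leaf 11810945) (.leaf 11380825)) (.node (.leaf 42072) (.leaf 11374193))) (.node (.node (.leaf 11845737) (.leaf 11862129)) (.node (.leaf 4400754) (.leaf 9256577)))) (.node (.node (.node (.leaf 1797204) (.leaf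 9262689)) (.node (.leaf 5654130) (.leaf 9291865))) (.node (.node (.leaf 274052) (.leaf 3800176)) (.node (.leaf 11358817) (.leaf 261738))))) (.node (.node (.node (.node (.leaf 10959976) (.leaf 11390553)) (.node (.leaf 11397241) (.leaf 11891321))) (.node (.node (.leaf 5757548) (.leaf 8572536)) (.node (.leaf 1854584) (.leaf 9268353)))) (.node (.node (.node (.leaf 11843192) (.leaf 9487985)) (.node (.leaf 9275465) (.leaf 3852400))) (.node (.node (.leaf 7403624) (.leaf 9309801)) (.node (.leaf 9521761) (.leaf 9310833)))))))

/-- How a representative arises, part 357. -/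
def tInfoPart357 : Janko1.Tree ℕ := (.node (.node (.node (.node (.node (.node (.leaf 9481320) (.leaf 4764282)) (.node (.leaf 702064) (.leaf 11250784))) (.node (.node (.leaf 9389697) (.leaf 9339001)) (.node (.leaf 9363561) (.leaf 11219064)))) (.node (.node (.node (.leaf 6472824) (.leaf 11752041)) (.node (.leaf 3950196) (.leaf 11419249))) (.node (.node (.leaf 11784289) (.leaf 1290360)) (.node (.leaf 11560528) (.leaf 11794553))))) (.node (.node (.node (.node (.leaf 11788921) (.leaf 11453049)) (.node (.leaf 692856) (.leaf 9408121))) (.node (.node (.leaf 11241072) (.leaf 9414769)) (.node (.leaf 8879712) (.leaf 625776)))) (.node (.node (.node (.leaf 1145930) (.leaf 6463568)) (.node (.leaf 5600388) (.leaf 11767385))) (.node (.node (.leaf 11772521) (.leaf 11435105)) (.node (.leaf 11779201) (.leaf 9230960)))))) (.node (.node (.node (.node (.node (.leaf 1281656) (.leaf 11803265)) (.node (.leaf 11467865) (.leaf 8482411))) (.node (.node (.leaf 7669868) (.leaf 3118701)) (.node (.leaf 3123309) (.leaf 5982845)))) (.node (.node (.node (.leaf 8526428) (.leaf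 3123837)) (.node (.leaf 2741373) (.leaf 8474747))) (.node (.node (.leaf 8504428) (.leaf 7403108)) (.node (.leaf 6076013) (.leaf 5684842))))) (.node (.node (.node (.node (.leaf 10692714) (.leaf 10347101)) (.node (.leaf 2994803) (.leaf 10348669))) (.node (.node (.leaf 2612850) (.leaf 503420)) (.node (.leaf 8531045) (.leaf 9646194)))) (.node (.node (.node (.leaf 2934907) (.leaf 11901556)) (.node (.leaf 4120146) (.leaf 8525437))) (.node (.node (.leaf 8388210) (.leaf 8531565)) (.node (.leaf 8753258) (.leaf 2070140)))))))

/-- How a representative arises, part 358. -/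
def tInfoPart358 : Janko1.Tree ℕ := (.node (.node (.node (.node (.node (.node (.leaf 3810916) (.leaf 8311402)) (.node (.leaf 2394220) (.leaf 8120947))) (.node (.node (.leaf 2496637) (.leaf 8473699)) (.node (.leaf 7637108) (.leaf 10097762)))) (.node (.node (.node (.leaf 10294907) (.leaf 8438395)) (.node (.leaf 10382946) (.leaf 10255971))) (.node (.node (.leaf 8484459) (.leaf 6611549)) (.node (.leaf 5461100) (.leaf 8447611))))) (.node (.node (.node (.node (.leaf 6612069) (.leaf 10453106)) (.node (.leaf 6045292) (.leaf 8989282))) (.node (.node (.leaf 8171637) (.leaf 3410490)) (.node (.leaf 1937532) (.leaf 3681900)))) (.node (.node (.node (.leaf 9063530) (.leaf 6599811)) (.node (.leaf 5868155) (.leaf 9676916))) (.node (.node (.leaf 10958964) (.leaf 2208900)) (.node (.leaf 2492512) (.leaf 10281067)))))) (.node (.node (.node (.node (.node (.leaf 5883008) (.leaf 7209076)) (.node (.leaf 2432112) (.leaf 8677995))) (.node (.node (.leaf 8466019) (.leaf 4112504)) (.node (.leaf 2236530) (.leaf 2240130)))) (.node (.node (.node (.leaf 2613861) (.leaf 8644707))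 (.node (.leaf 8433267) (.leaf 178300))) (.node (.node (.leaf 1364075) (.leaf 2465408)) (.node (.leaf 5766795) (.leaf 2405992))))) (.node (.node (.node (.node (.leaf 8722536) (.leaf 8041581)) (.node (.leaf 5822075) (.leaf 8237693))) (.node (.node (.leaf 1354355) (.leaf 2992763)) (.node (.leaf 10611829) (.leaf 8526968)))) (.node (.node (.node (.leaf 4017280) (.leaf 10612349)) (.node (.leaf 5832307) (.leaf 5861996))) (.node (.node (.leaf 6184053) (.leaf 10288763)) (.node (.leaf 6304352) (.leaf 1873005)))))))

/-- How a representative arises, part 359. -/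
def tInfoPart359 : Janko1.Tree ℕ := (.node (.node (.node (.node (.node (.node (.leaf 910456) (.leaf 5877381)) (.node (.leaf 1989236) (.leaf 2785370))) (.node (.node (.leaf 1628256) (.leaf 6820480)) (.node (.leaf 5877853) (.leaf 5088848)))) (.node (.node (.node (.leaf 1562232) (.leaf 3273842)) (.node (.leaf 2012293) (.leaf 10004592))) (.node (.node (.leaf 2963040) (.leaf 8930933)) (.node (.leaf 947824) (.leaf 7909976))))) (.node (.node (.node (.node (.leaf 6276728) (.leaf 11032677)) (.node (.leaf 1649268) (.leaf 1294947))) (.node (.node (.leaf 2933339) (.leaf 7874680)) (.node (.leaf 8248432) (.leaf 5874795)))) (.node (.node (.node (.leaf 9010789) (.leaf 10272885)) (.node (.leaf 2941051) (.leaf 1535080))) (.node (.node (.leaf 8214152) (.leaf 6741600)) (.node (.leaf 11425400) (.leaf 574034)))))) (.node (.node (.node (.node (.node (.leaf 10157161) (.leaf 7705722)) (.node (.leaf 10190953) (.leaf 10205289))) (.node (.node (.leaf 8378460) (.leaf 1590397)) (.node (.leaf 6375021) (.leaf 11824228)))) (.node (.node (.node (.leaf 7626329) (.leaf 4514412))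 (.node (.leaf 7558252) (.leaf 7630449))) (.node (.node (.leaf 10174065) (.leaf 2573916)) (.node (.leaf 11038834) (.leaf 10185337))))) (.node (.node (.node (.node (.leaf 10870380) (.leaf 6202994)) (.node (.leaf 2306659) (.leaf 10214993))) (.node (.node (.leaf 11732604) (.leaf 6531699)) (.node (.leaf 8544876) (.leaf 2356835)))) (.node (.node (.node (.leaf 6106226) (.leaf 6596171)) (.node (.leaf 2640492) (.leaf 11786850))) (.node (.node (.leaf 7340658) (.leaf 901250)) (.node (.leaf 7738985) (.leaf 7758449)))))))

/-- How a representative arises, part 360. -/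
def tInfoPart360 : Janko1.Tree ℕ := (.node (.node (.node (.node (.node (.node (.leaf 3665012) (.leaf 11758716)) (.node (.leaf 9734265) (.leaf 5859917))) (.node (.node (.leaf 5027437) (.leaf 3729524)) (.node (.leaf 2979453) (.leaf 7963242)))) (.node (.node (.node (.leaf 11793524) (.leaf 1991293)) (.node (.leaf 9774673) (.leaf 7747185))) (.node (.node (.leaf 5763699) (.leaf 6459002)) (.node (.leaf 7752793) (.leaf 7774321))))) (.node (.node (.node (.node (.leaf 5706851) (.leaf 6875250)) (.node (.leaf 11285082) (.leaf 9751121))) (.node (.node (.leaf 6578290) (.leaf 6588531)) (.node (.leaf 9763409) (.leaf 1286251)))) (.node (.node (.node (.leaf 11556954) (.leaf 6995042)) (.node (.leaf 5150325) (.leaf 10841203))) (.node (.node (.leaf 2134653) (.leaf 4406864)) (.node (.leaf 8651379) (.leaf 6040696)))))) (.node (.node (.node (.node (.node (.leaf 5150845) (.leaf 68208)) (.node (.leaf 8578152) (.leaf 9826432))) (.node (.node (.leaf 1741437) (.leaf 9515128)) (.node (.leaf 10849395) (.leaf 5246573)))) (.node (.node (.node (.leaf 5768304) (.leaf 8351320))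 (.node (.leaf 5247061) (.leaf 5246077))) (.node (.node (.leaf 2254424) (.leaf 4414064)) (.node (.leaf 9084021) (.leaf 10942560))))) (.node (.node (.node (.node (.leaf 10897517) (.leaf 7463032)) (.node (.leaf 1355347) (.leaf 2000499))) (.node (.node (.leaf 11824760) (.leaf 1836664)) (.node (.leaf 9494616) (.leaf 5725808)))) (.node (.node (.node (.leaf 11245152) (.leaf 9024627)) (.node (.leaf 11340403) (.leaf 10143344))) (.node (.node (.leaf 5457517) (.leaf 11213440)) (.node (.leaf 1482877) (.leaf 11308651)))))))

/-- How a representative arises, part 361. -/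
def tInfoPart361 : Janko1.Tree ℕ := (.node (.node (.node (.node (.node (.node (.leaf 5457021) (.leaf 7035512)) (.node (.leaf 5781605) (.leaf 10840699))) (.node (.node (.leaf 1365621) (.leaf 1364605)) (.node (.leaf 8653947) (.leaf 8067672)))) (.node (.node (.node (.leaf 9204336) (.leaf 10462840)) (.node (.leaf 1365101) (.leaf 2745968))) (.node (.node (.leaf 5043787) (.leaf 11103317)) (.node (.leaf 11104381) (.leaf 6468224))))) (.node (.node (.node (.node (.leaf 7738480) (.leaf 2687072)) (.node (.leaf 11103861) (.leaf 10116208))) (.node (.node (.leaf 2011267) (.leaf 8109680)) (.node (.leaf 8664165) (.leaf 8663669)))) (.node (.node (.node (.leaf 11319925) (.leaf 3291712)) (.node (.leaf 2395762) (.leaf 9901172))) (.node (.node (.leaf 10864772) (.leaf 10159185)) (.node (.leaf 9678953) (.leaf 3101813)))))) (.node (.node (.node (.node (.node (.leaf 2113125) (.leaf 9670273)) (.node (.leaf 5958757) (.leaf 11730036))) (.node (.node (.leaf 3875450) (.leaf 9512060)) (.node (.leaf 5133925) (.leaf 8518260)))) (.node (.node (.node (.leaf 1890924) (.leaf 3102325))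 (.node (.leaf 9511538) (.leaf 2138202))) (.node (.node (.leaf 5564508) (.leaf 11698292)) (.node (.leaf 7588465) (.leaf 7804537))))) (.node (.node (.node (.node (.leaf 1831516) (.leaf 7599729)) (.node (.leaf 4052076) (.leaf 8605786))) (.node (.node (.leaf 7796849) (.leaf 5225581)) (.node (.leaf 7595081) (.leaf 10904684)))) (.node (.node (.node (.leaf 1722973) (.leaf 8673908)) (.node (.leaf 8466018) (.leaf 9424490))) (.node (.node (.leaf 7637609) (.leaf 6057589)) (.node (.leaf 5226621) (.leaf 7834737)))))))

/-- How a representative arises, part 362. -/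
def tInfoPart362 : Janko1.Tree ℕ := (.node (.node (.node (.node (.node (.node (.leaf 9679465) (.leaf 11011180)) (.node (.leaf 4476020) (.leaf 5857371))) (.node (.node (.leaf 10208377) (.leaf 2305635)) (.node (.leaf 7446114) (.leaf 10211441)))) (.node (.node (.node (.leaf 10211953) (.leaf 5785724)) (.node (.leaf 11860602) (.leaf 3875964))) (.node (.node (.leaf 8377980) (.leaf 2357875)) (.node (.leaf 10581620) (.leaf 2976363))))) (.node (.node (.node (.node (.leaf 7173716) (.leaf 7610489)) (.node (.leaf 2075252) (.leaf 1277555))) (.node (.node (.leaf 7641201) (.leaf 10569842)) (.node (.leaf 9768548) (.leaf 7352442)))) (.node (.node (.node (.leaf 7853185) (.leaf 5454426)) (.node (.leaf 7858305) (.leaf 7660657))) (.node (.node (.leaf 9868916) (.leaf 7890042)) (.node (.leaf 10830460) (.leaf 2697858)))))) (.node (.node (.node (.node (.node (.leaf 1465453) (.leaf 7666305)) (.node (.leaf 7693929) (.leaf 2474077))) (.node (.node (.leaf 2475125) (.leaf 8416900)) (.node (.leaf 7767641) (.leaf 3915908)))) (.node (.node (.node (.leaf 5438077) (.leaf 5414524))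 (.node (.leaf 2827866) (.leaf 6592117))) (.node (.node (.leaf 7962226) (.leaf 11660924)) (.node (.leaf 5760109) (.leaf 10079289))))) (.node (.node (.node (.node (.leaf 5756533) (.leaf 8451188)) (.node (.leaf 3983988) (.leaf 7351428))) (.node (.node (.leaf 1345629) (.leaf 9736313)) (.node (.leaf 9835644) (.leaf 8229474)))) (.node (.node (.node (.leaf 8215618) (.leaf 9192050)) (.node (.leaf 6050924) (.leaf 7674473))) (.node (.node (.leaf 2356355) (.leaf 9695348)) (.node (.leaf 2975851) (.leaf 11216498)))))))

/-- How a representative arises, part 363. -/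
def tInfoPart363 : Janko1.Tree ℕ := (.node (.node (.node (.node (.node (.node (.leaf 4425332) (.leaf 11210362)) (.node (.leaf 7751289) (.leaf 7705721))) (.node (.node (.leaf 1276507) (.leaf 6886506)) (.node (.leaf 7776369) (.leaf 5632620)))) (.node (.node (.node (.leaf 5811315) (.leaf 3685988)) (.node (.leaf 10034298) (.leaf 9574004))) (.node (.node (.leaf 8341604) (.leaf 10037866)) (.node (.leaf 2983523) (.leaf 6585443))))) (.node (.node (.node (.node (.leaf 5855867) (.leaf 10136697)) (.node (.leaf 10321010) (.leaf 2922571))) (.node (.node (.leaf 4380260) (.leaf 10156641)) (.node (.leaf 11553386) (.leaf 9796201)))) (.node (.node (.node (.leaf 0) (.leaf 0)) (.node (.leaf 0) (.leaf 0))) (.node (.node (.leaf 0) (.leaf 0)) (.node (.leaf 0) (.leaf 0)))))) (.node (.node (.node (.node (.node (.leaf 0) (.leaf 0)) (.node (.leaf 0) (.leaf 0))) (.node (.node (.leaf 0) (.leaf 0)) (.node (.leaf 0) (.leaf 0)))) (.node (.node (.node (.leaf 0) (.leaf 0)) (.node (.leaf 0) (.leaf 0))) (.node (.node (.leaf 0) (.leaf 0)) (.node (.leaf 0) (.leaf 0))))) (.node (.node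 (.node (.node (.leaf 0) (.leaf 0)) (.node (.leaf 0) (.leaf 0))) (.node (.node (.leaf 0) (.leaf 0)) (.node (.leaf 0) (.leaf 0)))) (.node (.node (.node (.leaf 0) (.leaf 0)) (.node (.leaf 0) (.leaf 0))) (.node (.node (.leaf 0) (.leaf 0)) (.node (.leaf 0) (.leaf 0)))))))

/-- How a representative arises, part 364. -/
def tInfoPart364 : Janko1.Tree ℕ := (.node (.node (.node (.node (.node (.node (.leaf 0) (.leaf 0)) (.node (.leaf 0) (.leaf 0))) (.node (.node (.leaf 0) (.leaf 0)) (.node (.leaf 0) (.leaf 0)))) (.node (.node (.node (.leaf 0) (.leaf 0)) (.node (.leaf 0) (.leaf 0))) (.node (.node (.leaf 0) (.leaf 0)) (.node (.leaf 0) (.leaf 0))))) (.node (.node (.node (.node (.leaf 0) (.leaf 0)) (.node (.leaf 0) (.leaf 0))) (.node (.node (.leaf 0) (.leaf 0)) (.node (.leaf 0) (.leaf 0)))) (.node (.node (.node (.leaf 0) (.leaf 0)) (.node (.leaf 0) (.leaf 0))) (.node (.node (.leaf 0) (.leaf 0)) (.node (.leaf 0) (.leaf 0)))))) (.node (.node (.node (.node (.node (.leaf 0) (.leaf 0)) (.node (.leaf 0) (.leaf 0))) (.node (.node (.leaf 0) (.leaf 0)) (.node (.leaf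 0) (.leaf 0)))) (.node (.node (.node (.leaf 0) (.leaf 0)) (.node (.leaf 0) (.leaf 0))) (.node (.node (.leaf 0) (.leaf 0)) (.node (.leaf 0) (.leaf 0))))) (.node (.node (.node (.node (.leaf 0) (.leaf 0)) (.node (.leaf 0) (.leaf 0))) (.node (.node (.leaf 0) (.leaf 0)) (.node (.leaf 0) (.leaf 0)))) (.node (.node (.node (.leaf 0) (.leaf 0)) (.node (.leaf 0) (.leaf 0))) (.node (.node (.leaf 0) (.leaf 0)) (.node (.leaf 0) (.leaf 0)))))))

/-- How a representative arises, part 365. -/
def tInfoPart365 : Janko1.Tree ℕ := (.node (.node (.node (.node (.node (.node (.leaf 0) (.leaf 0)) (.node (.leaf 0) (.leaf 0))) (.node (.node (.leaf 0) (.leaf 0)) (.node (.leaf 0) (.leaf 0)))) (.node (.node (.node (.leaf 0) (.leaf 0)) (.node (.leaf 0) (.leaf 0))) (.node (.node (.leaf 0) (.leaf 0)) (.node (.leaf 0) (.leaf 0))))) (.node (.node (.node (.node (.leaf 0) (.leaf 0)) (.node (.leaf 0) (.leaf 0))) (.node (.node (.leaf 0) (.leaf 0)) (.node (.leaf 0) (.leaf 0)))) (.node (.node (.node (.leaf 0) (.leaf 0)) (.node (.leaf 0) (.leaf 0))) (.node (.node (.leaf 0) (.leaf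 0)) (.node (.leaf 0) (.leaf 0)))))) (.node (.node (.node (.node (.node (.leaf 0) (.leaf 0)) (.node (.leaf 0) (.leaf 0))) (.node (.node (.leaf 0) (.leaf 0)) (.node (.leaf 0) (.leaf 0)))) (.node (.node (.node (.leaf 0) (.leaf 0)) (.node (.leaf 0) (.leaf 0))) (.node (.node (.leaf 0) (.leaf 0)) (.node (.leaf 0) (.leaf 0))))) (.node (.node (.node (.node (.leaf 0) (.leaf 0)) (.node (.leaf 0) (.leaf 0))) (.node (.node (.leaf 0) (.leaf 0)) (.node (.leaf 0) (.leaf 0)))) (.node (.node (.node (.leaf 0) (.leaf 0)) (.node (.leaf 0) (.leaf 0))) (.node (.node (.leaf 0) (.leaf 0)) (.node (.leaf 0) (.leaf 0)))))))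

/-- How a representative arises, part 366. -/
def tInfoPart366 : Janko1.Tree ℕ := (.node (.node (.node (.node (.node (.node (.leaf 0) (.leaf 0)) (.node (.leaf 0) (.leaf 0))) (.node (.node (.leaf 0) (.leaf 0)) (.node (.leaf 0) (.leaf 0)))) (.node (.node (.node (.leaf 0) (.leaf 0)) (.node (.leaf 0) (.leaf 0))) (.node (.node (.leaf 0) (.leaf 0)) (.node (.leaf 0) (.leaf 0))))) (.node (.node (.node (.node (.leaf 0) (.leaf 0)) (.node (.leaf 0) (.leaf 0))) (.node (.node (.leaf 0) (.leaf 0)) (.node (.leaf 0) (.leaf 0)))) (.node (.node (.node (.leaf 0) (.leaf 0)) (.node (.leaf 0) (.leaf 0))) (.node (.node (.leaf 0) (.leaf 0)) (.node (.leaf 0) (.leaf 0)))))) (.node (.node (.node (.node (.node (.leaf 0) (.leaf 0)) (.node (.leaf 0) (.leaf 0))) (.node (.node (.leaf 0) (.leaf 0)) (.node (.leaf 0) (.leaf 0)))) (.node (.node (.node (.leaf 0) (.leaf 0)) (.node (.leaf 0) (.leaf 0))) (.node (.node (.leaf 0) (.leaf 0)) (.node (.leaf 0) (.leaf 0))))) (.node (.node (.node (.node (.leaf 0) (.leaf 0)) (.node (.leaf 0) (.leaf 0))) (.node (.node (.leaf 0) (.leaf 0))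 (.node (.leaf 0) (.leaf 0)))) (.node (.node (.node (.leaf 0) (.leaf 0)) (.node (.leaf 0) (.leaf 0))) (.node (.node (.leaf 0) (.leaf 0)) (.node (.leaf 0) (.leaf 0)))))))

/-- How a representative arises, part 367. -/
def tInfoPart367 : Janko1.Tree ℕ := (.node (.node (.node (.node (.node (.node (.leaf 0) (.leaf 0)) (.node (.leaf 0) (.leaf 0))) (.node (.node (.leaf 0) (.leaf 0)) (.node (.leaf 0) (.leaf 0)))) (.node (.node (.node (.leaf 0) (.leaf 0)) (.node (.leaf 0) (.leaf 0))) (.node (.node (.leaf 0) (.leaf 0)) (.node (.leaf 0) (.leaf 0))))) (.node (.node (.node (.node (.leaf 0) (.leaf 0)) (.node (.leaf 0) (.leaf 0))) (.node (.node (.leaf 0) (.leaf 0)) (.node (.leaf 0) (.leaf 0)))) (.node (.node (.node (.leaf 0) (.leaf 0)) (.node (.leaf 0) (.leaf 0))) (.node (.node (.leaf 0) (.leaf 0)) (.node (.leaf 0) (.leaf 0)))))) (.node (.node (.node (.node (.node (.leaf 0) (.leaf 0)) (.node (.leaf 0) (.leaf 0))) (.node (.node (.leaf 0) (.leaf 0)) (.node (.leaf 0) (.leaf 0)))) (.node (.node (.node (.leaf 0) (.leaf 0)) (.node (.leaf 0) (.leaf 0))) (.node (.node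 (.leaf 0) (.leaf 0)) (.node (.leaf 0) (.leaf 0))))) (.node (.node (.node (.node (.leaf 0) (.leaf 0)) (.node (.leaf 0) (.leaf 0))) (.node (.node (.leaf 0) (.leaf 0)) (.node (.leaf 0) (.leaf 0)))) (.node (.node (.node (.leaf 0) (.leaf 0)) (.node (.leaf 0) (.leaf 0))) (.node (.node (.leaf 0) (.leaf 0)) (.node (.leaf 0) (.leaf 0)))))))

/-- How a representative arises, part 368. -/
def tInfoPart368 : Janko1.Tree ℕ := (.node (.node (.node (.node (.node (.node (.leaf 0) (.leaf 0)) (.node (.leaf 0) (.leaf 0))) (.node (.node (.leaf 0) (.leaf 0)) (.node (.leaf 0) (.leaf 0)))) (.node (.node (.node (.leaf 0) (.leaf 0)) (.node (.leaf 0) (.leaf 0))) (.node (.node (.leaf 0) (.leaf 0)) (.node (.leaf 0) (.leaf 0))))) (.node (.node (.node (.node (.leaf 0) (.leaf 0)) (.node (.leaf 0) (.leaf 0))) (.node (.node (.leaf 0) (.leaf 0)) (.node (.leaf 0) (.leaf 0)))) (.node (.node (.node (.leaf 0) (.leaf 0)) (.node (.leaf 0) (.leaf 0))) (.node (.node (.leaf 0) (.leaf 0)) (.node (.leaf 0) (.leaf 0)))))) (.node (.node (.node (.node (.node (.leaf 0) (.leaf 0)) (.node (.leaf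 0) (.leaf 0))) (.node (.node (.leaf 0) (.leaf 0)) (.node (.leaf 0) (.leaf 0)))) (.node (.node (.node (.leaf 0) (.leaf 0)) (.node (.leaf 0) (.leaf 0))) (.node (.node (.leaf 0) (.leaf 0)) (.node (.leaf 0) (.leaf 0))))) (.node (.node (.node (.node (.leaf 0) (.leaf 0)) (.node (.leaf 0) (.leaf 0))) (.node (.node (.leaf 0) (.leaf 0)) (.node (.leaf 0) (.leaf 0)))) (.node (.node (.node (.leaf 0) (.leaf 0)) (.node (.leaf 0) (.leaf 0))) (.node (.node (.leaf 0) (.leaf 0)) (.node (.leaf 0) (.leaf 0)))))))

/-- How a representative arises, part 369. -/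
def tInfoPart369 : Janko1.Tree ℕ := (.node (.node (.node (.node (.node (.node (.leaf 0) (.leaf 0)) (.node (.leaf 0) (.leaf 0))) (.node (.node (.leaf 0) (.leaf 0)) (.node (.leaf 0) (.leaf 0)))) (.node (.node (.node (.leaf 0) (.leaf 0)) (.node (.leaf 0) (.leaf 0))) (.node (.node (.leaf 0) (.leaf 0)) (.node (.leaf 0) (.leaf 0))))) (.node (.node (.node (.node (.leaf 0) (.leaf 0)) (.node (.leaf 0) (.leaf 0))) (.node (.node (.leaf 0) (.leaf 0)) (.node (.leaf 0) (.leaf 0)))) (.node (.node (.node (.leaf 0) (.leaf 0)) (.node (.leaf 0) (.leaf 0))) (.node (.node (.leaf 0) (.leaf 0)) (.node (.leaf 0) (.leaf 0)))))) (.node (.node (.node (.node (.node (.leaf 0) (.leaf 0)) (.node (.leaf 0) (.leaf 0))) (.node (.node (.leaf 0) (.leaf 0)) (.node (.leaf 0) (.leaf 0)))) (.node (.node (.node (.leaf 0) (.leaf 0)) (.node (.leaf 0) (.leaf 0))) (.node (.node (.leaf 0) (.leaf 0)) (.node (.leaf 0) (.leaf 0))))) (.node (.node (.node (.node (.leaf 0) (.leaf 0)) (.node (.leaf 0) (.leaf 0))) (.node (.node (.leaf 0) (.leaf 0)) (.node (.leaf 0) (.leaf 0)))) (.node (.node (.node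 (.leaf 0) (.leaf 0)) (.node (.leaf 0) (.leaf 0))) (.node (.node (.leaf 0) (.leaf 0)) (.node (.leaf 0) (.leaf 0)))))))

/-- How a representative arises, part 370. -/
def tInfoPart370 : Janko1.Tree ℕ := (.node (.node (.node (.node (.node (.node (.leaf 0) (.leaf 0)) (.node (.leaf 0) (.leaf 0))) (.node (.node (.leaf 0) (.leaf 0)) (.node (.leaf 0) (.leaf 0)))) (.node (.node (.node (.leaf 0) (.leaf 0)) (.node (.leaf 0) (.leaf 0))) (.node (.node (.leaf 0) (.leaf 0)) (.node (.leaf 0) (.leaf 0))))) (.node (.node (.node (.node (.leaf 0) (.leaf 0)) (.node (.leaf 0) (.leaf 0))) (.node (.node (.leaf 0) (.leaf 0)) (.node (.leaf 0) (.leaf 0)))) (.node (.node (.node (.leaf 0) (.leaf 0)) (.node (.leaf 0) (.leaf 0))) (.node (.node (.leaf 0) (.leaf 0)) (.node (.leaf 0) (.leaf 0)))))) (.node (.node (.node (.node (.node (.leaf 0) (.leaf 0)) (.node (.leaf 0) (.leaf 0))) (.node (.node (.leaf 0) (.leaf 0)) (.node (.leaf 0) (.leaf 0)))) (.node (.node (.node (.leaf 0) (.leaf 0)) (.node (.leaf 0) (.leaf 0))) (.node (.node (.leaf 0) (.leaf 0)) (.node (.leaf 0) (.leaf 0)))))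 (.node (.node (.node (.node (.leaf 0) (.leaf 0)) (.node (.leaf 0) (.leaf 0))) (.node (.node (.leaf 0) (.leaf 0)) (.node (.leaf 0) (.leaf 0)))) (.node (.node (.node (.leaf 0) (.leaf 0)) (.node (.leaf 0) (.leaf 0))) (.node (.node (.leaf 0) (.leaf 0)) (.node (.leaf 0) (.leaf 0)))))))

/-- How a representative arises, part 371. -/
def tInfoPart371 : Janko1.Tree ℕ := (.node (.node (.node (.node (.node (.node (.leaf 0) (.leaf 0)) (.node (.leaf 0) (.leaf 0))) (.node (.node (.leaf 0) (.leaf 0)) (.node (.leaf 0) (.leaf 0)))) (.node (.node (.node (.leaf 0) (.leaf 0)) (.node (.leaf 0) (.leaf 0))) (.node (.node (.leaf 0) (.leaf 0)) (.node (.leaf 0) (.leaf 0))))) (.node (.node (.node (.node (.leaf 0) (.leaf 0)) (.node (.leaf 0) (.leaf 0))) (.node (.node (.leaf 0) (.leaf 0)) (.node (.leaf 0) (.leaf 0)))) (.node (.node (.node (.leaf 0) (.leaf 0)) (.node (.leaf 0) (.leaf 0))) (.node (.node (.leaf 0) (.leaf 0)) (.node (.leaf 0) (.leaf 0)))))) (.node (.node (.node (.node (.node (.leaf 0) (.leaf 0)) (.node (.leaf 0) (.leaf 0))) (.node (.node (.leaf 0) (.leaf 0))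 (.node (.leaf 0) (.leaf 0)))) (.node (.node (.node (.leaf 0) (.leaf 0)) (.node (.leaf 0) (.leaf 0))) (.node (.node (.leaf 0) (.leaf 0)) (.node (.leaf 0) (.leaf 0))))) (.node (.node (.node (.node (.leaf 0) (.leaf 0)) (.node (.leaf 0) (.leaf 0))) (.node (.node (.leaf 0) (.leaf 0)) (.node (.leaf 0) (.leaf 0)))) (.node (.node (.node (.leaf 0) (.leaf 0)) (.node (.leaf 0) (.leaf 0))) (.node (.node (.leaf 0) (.leaf 0)) (.node (.leaf 0) (.leaf 0)))))))

/-- How a representative arises, part 372. -/
def tInfoPart372 : Janko1.Tree ℕ := (.node (.node (.node (.node (.node (.node (.leaf 0) (.leaf 0)) (.node (.leaf 0) (.leaf 0))) (.node (.node (.leaf 0) (.leaf 0)) (.node (.leaf 0) (.leaf 0)))) (.node (.node (.node (.leaf 0) (.leaf 0)) (.node (.leaf 0) (.leaf 0))) (.node (.node (.leaf 0) (.leaf 0)) (.node (.leaf 0) (.leaf 0))))) (.node (.node (.node (.node (.leaf 0) (.leaf 0)) (.node (.leaf 0) (.leaf 0))) (.node (.node (.leaf 0) (.leaf 0)) (.node (.leaf 0) (.leaf 0)))) (.node (.node (.node (.leaf 0) (.leaf 0)) (.node (.leaf 0) (.leaf 0))) (.node (.node (.leaf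 0) (.leaf 0)) (.node (.leaf 0) (.leaf 0)))))) (.node (.node (.node (.node (.node (.leaf 0) (.leaf 0)) (.node (.leaf 0) (.leaf 0))) (.node (.node (.leaf 0) (.leaf 0)) (.node (.leaf 0) (.leaf 0)))) (.node (.node (.node (.leaf 0) (.leaf 0)) (.node (.leaf 0) (.leaf 0))) (.node (.node (.leaf 0) (.leaf 0)) (.node (.leaf 0) (.leaf 0))))) (.node (.node (.node (.node (.leaf 0) (.leaf 0)) (.node (.leaf 0) (.leaf 0))) (.node (.node (.leaf 0) (.leaf 0)) (.node (.leaf 0) (.leaf 0)))) (.node (.node (.node (.leaf 0) (.leaf 0)) (.node (.leaf 0) (.leaf 0))) (.node (.node (.leaf 0) (.leaf 0)) (.node (.leaf 0) (.leaf 0)))))))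

/-- How a representative arises, part 373. -/
def tInfoPart373 : Janko1.Tree ℕ := (.node (.node (.node (.node (.node (.node (.leaf 0) (.leaf 0)) (.node (.leaf 0) (.leaf 0))) (.node (.node (.leaf 0) (.leaf 0)) (.node (.leaf 0) (.leaf 0)))) (.node (.node (.node (.leaf 0) (.leaf 0)) (.node (.leaf 0) (.leaf 0))) (.node (.node (.leaf 0) (.leaf 0)) (.node (.leaf 0) (.leaf 0))))) (.node (.node (.node (.node (.leaf 0) (.leaf 0)) (.node (.leaf 0) (.leaf 0))) (.node (.node (.leaf 0) (.leaf 0)) (.node (.leaf 0) (.leaf 0)))) (.node (.node (.node (.leaf 0) (.leaf 0)) (.node (.leaf 0) (.leaf 0))) (.node (.node (.leaf 0) (.leaf 0)) (.node (.leaf 0) (.leaf 0)))))) (.node (.node (.node (.node (.node (.leaf 0) (.leaf 0)) (.node (.leaf 0) (.leaf 0))) (.node (.node (.leaf 0) (.leaf 0)) (.node (.leaf 0) (.leaf 0)))) (.node (.node (.node (.leaf 0) (.leaf 0)) (.node (.leaf 0) (.leaf 0))) (.node (.node (.leaf 0) (.leaf 0)) (.node (.leaf 0) (.leaf 0))))) (.node (.node (.node (.node (.leaf 0) (.leaf 0)) (.node (.leaf 0) (.leaf 0))) (.node (.node (.leaf 0) (.leaf 0))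 (.node (.leaf 0) (.leaf 0)))) (.node (.node (.node (.leaf 0) (.leaf 0)) (.node (.leaf 0) (.leaf 0))) (.node (.node (.leaf 0) (.leaf 0)) (.node (.leaf 0) (.leaf 0)))))))

/-- How a representative arises, part 374. -/
def tInfoPart374 : Janko1.Tree ℕ := (.node (.node (.node (.node (.node (.node (.leaf 0) (.leaf 0)) (.node (.leaf 0) (.leaf 0))) (.node (.node (.leaf 0) (.leaf 0)) (.node (.leaf 0) (.leaf 0)))) (.node (.node (.node (.leaf 0) (.leaf 0)) (.node (.leaf 0) (.leaf 0))) (.node (.node (.leaf 0) (.leaf 0)) (.node (.leaf 0) (.leaf 0))))) (.node (.node (.node (.node (.leaf 0) (.leaf 0)) (.node (.leaf 0) (.leaf 0))) (.node (.node (.leaf 0) (.leaf 0)) (.node (.leaf 0) (.leaf 0)))) (.node (.node (.node (.leaf 0) (.leaf 0)) (.node (.leaf 0) (.leaf 0))) (.node (.node (.leaf 0) (.leaf 0)) (.node (.leaf 0) (.leaf 0)))))) (.node (.node (.node (.node (.node (.leaf 0) (.leaf 0)) (.node (.leaf 0) (.leaf 0))) (.node (.node (.leaf 0) (.leaf 0)) (.node (.leaf 0) (.leaf 0)))) (.node (.node (.node (.leaf 0) (.leaf 0)) (.node (.leaf 0) (.leaf 0))) (.node (.node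 (.leaf 0) (.leaf 0)) (.node (.leaf 0) (.leaf 0))))) (.node (.node (.node (.node (.leaf 0) (.leaf 0)) (.node (.leaf 0) (.leaf 0))) (.node (.node (.leaf 0) (.leaf 0)) (.node (.leaf 0) (.leaf 0)))) (.node (.node (.node (.leaf 0) (.leaf 0)) (.node (.leaf 0) (.leaf 0))) (.node (.node (.leaf 0) (.leaf 0)) (.node (.leaf 0) (.leaf 0)))))))

/-- How a representative arises, part 375. -/
def tInfoPart375 : Janko1.Tree ℕ := (.node (.node (.node (.node (.node (.node (.leaf 0) (.leaf 0)) (.node (.leaf 0) (.leaf 0))) (.node (.node (.leaf 0) (.leaf 0)) (.node (.leaf 0) (.leaf 0)))) (.node (.node (.node (.leaf 0) (.leaf 0)) (.node (.leaf 0) (.leaf 0))) (.node (.node (.leaf 0) (.leaf 0)) (.node (.leaf 0) (.leaf 0))))) (.node (.node (.node (.node (.leaf 0) (.leaf 0)) (.node (.leaf 0) (.leaf 0))) (.node (.node (.leaf 0) (.leaf 0)) (.node (.leaf 0) (.leaf 0)))) (.node (.node (.node (.leaf 0) (.leaf 0)) (.node (.leaf 0) (.leaf 0))) (.node (.node (.leaf 0) (.leaf 0)) (.node (.leaf 0) (.leaf 0)))))) (.node (.node (.node (.node (.node (.leaf 0) (.leaf 0)) (.node (.leaf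 0) (.leaf 0))) (.node (.node (.leaf 0) (.leaf 0)) (.node (.leaf 0) (.leaf 0)))) (.node (.node (.node (.leaf 0) (.leaf 0)) (.node (.leaf 0) (.leaf 0))) (.node (.node (.leaf 0) (.leaf 0)) (.node (.leaf 0) (.leaf 0))))) (.node (.node (.node (.node (.leaf 0) (.leaf 0)) (.node (.leaf 0) (.leaf 0))) (.node (.node (.leaf 0) (.leaf 0)) (.node (.leaf 0) (.leaf 0)))) (.node (.node (.node (.leaf 0) (.leaf 0)) (.node (.leaf 0) (.leaf 0))) (.node (.node (.leaf 0) (.leaf 0)) (.node (.leaf 0) (.leaf 0)))))))

/-- How a representative arises, part 376. -/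
def tInfoPart376 : Janko1.Tree ℕ := (.node (.node (.node (.node (.node (.node (.leaf 0) (.leaf 0)) (.node (.leaf 0) (.leaf 0))) (.node (.node (.leaf 0) (.leaf 0)) (.node (.leaf 0) (.leaf 0)))) (.node (.node (.node (.leaf 0) (.leaf 0)) (.node (.leaf 0) (.leaf 0))) (.node (.node (.leaf 0) (.leaf 0)) (.node (.leaf 0) (.leaf 0))))) (.node (.node (.node (.node (.leaf 0) (.leaf 0)) (.node (.leaf 0) (.leaf 0))) (.node (.node (.leaf 0) (.leaf 0)) (.node (.leaf 0) (.leaf 0)))) (.node (.node (.node (.leaf 0) (.leaf 0)) (.node (.leaf 0) (.leaf 0))) (.node (.node (.leaf 0) (.leaf 0)) (.node (.leaf 0) (.leaf 0)))))) (.node (.node (.node (.node (.node (.leaf 0) (.leaf 0)) (.node (.leaf 0) (.leaf 0))) (.node (.node (.leaf 0) (.leaf 0)) (.node (.leaf 0) (.leaf 0)))) (.node (.node (.node (.leaf 0) (.leaf 0)) (.node (.leaf 0) (.leaf 0))) (.node (.node (.leaf 0) (.leaf 0)) (.node (.leaf 0) (.leaf 0))))) (.node (.node (.node (.node (.leaf 0) (.leaf 0)) (.node (.leaf 0) (.leaf 0))) (.node (.node (.leaf 0) (.leaf 0)) (.node (.leaf 0) (.leaf 0)))) (.node (.node (.node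 (.leaf 0) (.leaf 0)) (.node (.leaf 0) (.leaf 0))) (.node (.node (.leaf 0) (.leaf 0)) (.node (.leaf 0) (.leaf 0)))))))

/-- How a representative arises, part 377. -/
def tInfoPart377 : Janko1.Tree ℕ := (.node (.node (.node (.node (.node (.node (.leaf 0) (.leaf 0)) (.node (.leaf 0) (.leaf 0))) (.node (.node (.leaf 0) (.leaf 0)) (.node (.leaf 0) (.leaf 0)))) (.node (.node (.node (.leaf 0) (.leaf 0)) (.node (.leaf 0) (.leaf 0))) (.node (.node (.leaf 0) (.leaf 0)) (.node (.leaf 0) (.leaf 0))))) (.node (.node (.node (.node (.leaf 0) (.leaf 0)) (.node (.leaf 0) (.leaf 0))) (.node (.node (.leaf 0) (.leaf 0)) (.node (.leaf 0) (.leaf 0)))) (.node (.node (.node (.leaf 0) (.leaf 0)) (.node (.leaf 0) (.leaf 0))) (.node (.node (.leaf 0) (.leaf 0)) (.node (.leaf 0) (.leaf 0)))))) (.node (.node (.node (.node (.node (.leaf 0) (.leaf 0)) (.node (.leaf 0) (.leaf 0))) (.node (.node (.leaf 0) (.leaf 0)) (.node (.leaf 0) (.leaf 0)))) (.node (.node (.node (.leaf 0) (.leaf 0)) (.node (.leaf 0) (.leaf 0))) (.node (.node (.leaf 0) (.leaf 0)) (.node (.leaf 0) (.leaf 0)))))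 (.node (.node (.node (.node (.leaf 0) (.leaf 0)) (.node (.leaf 0) (.leaf 0))) (.node (.node (.leaf 0) (.leaf 0)) (.node (.leaf 0) (.leaf 0)))) (.node (.node (.node (.leaf 0) (.leaf 0)) (.node (.leaf 0) (.leaf 0))) (.node (.node (.leaf 0) (.leaf 0)) (.node (.leaf 0) (.leaf 0)))))))

/-- How a representative arises, part 378. -/
def tInfoPart378 : Janko1.Tree ℕ := (.node (.node (.node (.node (.node (.node (.leaf 0) (.leaf 0)) (.node (.leaf 0) (.leaf 0))) (.node (.node (.leaf 0) (.leaf 0)) (.node (.leaf 0) (.leaf 0)))) (.node (.node (.node (.leaf 0) (.leaf 0)) (.node (.leaf 0) (.leaf 0))) (.node (.node (.leaf 0) (.leaf 0)) (.node (.leaf 0) (.leaf 0))))) (.node (.node (.node (.node (.leaf 0) (.leaf 0)) (.node (.leaf 0) (.leaf 0))) (.node (.node (.leaf 0) (.leaf 0)) (.node (.leaf 0) (.leaf 0)))) (.node (.node (.node (.leaf 0) (.leaf 0)) (.node (.leaf 0) (.leaf 0))) (.node (.node (.leaf 0) (.leaf 0)) (.node (.leaf 0) (.leaf 0)))))) (.node (.node (.node (.node (.node (.leaf 0) (.leaf 0)) (.node (.leaf 0) (.leaf 0))) (.node (.node (.leaf 0) (.leaf 0))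 (.node (.leaf 0) (.leaf 0)))) (.node (.node (.node (.leaf 0) (.leaf 0)) (.node (.leaf 0) (.leaf 0))) (.node (.node (.leaf 0) (.leaf 0)) (.node (.leaf 0) (.leaf 0))))) (.node (.node (.node (.node (.leaf 0) (.leaf 0)) (.node (.leaf 0) (.leaf 0))) (.node (.node (.leaf 0) (.leaf 0)) (.node (.leaf 0) (.leaf 0)))) (.node (.node (.node (.leaf 0) (.leaf 0)) (.node (.leaf 0) (.leaf 0))) (.node (.node (.leaf 0) (.leaf 0)) (.node (.leaf 0) (.leaf 0)))))))

/-- How a representative arises, part 379. -/
def tInfoPart379 : Janko1.Tree ℕ := (.node (.node (.node (.node (.node (.node (.leaf 0) (.leaf 0)) (.node (.leaf 0) (.leaf 0))) (.node (.node (.leaf 0) (.leaf 0)) (.node (.leaf 0) (.leaf 0)))) (.node (.node (.node (.leaf 0) (.leaf 0)) (.node (.leaf 0) (.leaf 0))) (.node (.node (.leaf 0) (.leaf 0)) (.node (.leaf 0) (.leaf 0))))) (.node (.node (.node (.node (.leaf 0) (.leaf 0)) (.node (.leaf 0) (.leaf 0))) (.node (.node (.leaf 0) (.leaf 0)) (.node (.leaf 0) (.leaf 0)))) (.node (.node (.node (.leaf 0) (.leaf 0)) (.node (.leaf 0) (.leaf 0))) (.node (.node (.leaf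 0) (.leaf 0)) (.node (.leaf 0) (.leaf 0)))))) (.node (.node (.node (.node (.node (.leaf 0) (.leaf 0)) (.node (.leaf 0) (.leaf 0))) (.node (.node (.leaf 0) (.leaf 0)) (.node (.leaf 0) (.leaf 0)))) (.node (.node (.node (.leaf 0) (.leaf 0)) (.node (.leaf 0) (.leaf 0))) (.node (.node (.leaf 0) (.leaf 0)) (.node (.leaf 0) (.leaf 0))))) (.node (.node (.node (.node (.leaf 0) (.leaf 0)) (.node (.leaf 0) (.leaf 0))) (.node (.node (.leaf 0) (.leaf 0)) (.node (.leaf 0) (.leaf 0)))) (.node (.node (.node (.leaf 0) (.leaf 0)) (.node (.leaf 0) (.leaf 0))) (.node (.node (.leaf 0) (.leaf 0)) (.node (.leaf 0) (.leaf 0)))))))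

/-- How a representative arises, part 380. -/
def tInfoPart380 : Janko1.Tree ℕ := (.node (.node (.node (.node (.node (.node (.leaf 0) (.leaf 0)) (.node (.leaf 0) (.leaf 0))) (.node (.node (.leaf 0) (.leaf 0)) (.node (.leaf 0) (.leaf 0)))) (.node (.node (.node (.leaf 0) (.leaf 0)) (.node (.leaf 0) (.leaf 0))) (.node (.node (.leaf 0) (.leaf 0)) (.node (.leaf 0) (.leaf 0))))) (.node (.node (.node (.node (.leaf 0) (.leaf 0)) (.node (.leaf 0) (.leaf 0))) (.node (.node (.leaf 0) (.leaf 0)) (.node (.leaf 0) (.leaf 0)))) (.node (.node (.node (.leaf 0) (.leaf 0)) (.node (.leaf 0) (.leaf 0))) (.node (.node (.leaf 0) (.leaf 0)) (.node (.leaf 0) (.leaf 0)))))) (.node (.node (.node (.node (.node (.leaf 0) (.leaf 0)) (.node (.leaf 0) (.leaf 0))) (.node (.node (.leaf 0) (.leaf 0)) (.node (.leaf 0) (.leaf 0)))) (.node (.node (.node (.leaf 0) (.leaf 0)) (.node (.leaf 0) (.leaf 0))) (.node (.node (.leaf 0) (.leaf 0)) (.node (.leaf 0) (.leaf 0))))) (.node (.node (.node (.node (.leaf 0) (.leaf 0)) (.node (.leaf 0) (.leaf 0))) (.node (.node (.leaf 0) (.leaf 0))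 (.node (.leaf 0) (.leaf 0)))) (.node (.node (.node (.leaf 0) (.leaf 0)) (.node (.leaf 0) (.leaf 0))) (.node (.node (.leaf 0) (.leaf 0)) (.node (.leaf 0) (.leaf 0)))))))

/-- How a representative arises, part 381. -/
def tInfoPart381 : Janko1.Tree ℕ := (.node (.node (.node (.node (.node (.node (.leaf 0) (.leaf 0)) (.node (.leaf 0) (.leaf 0))) (.node (.node (.leaf 0) (.leaf 0)) (.node (.leaf 0) (.leaf 0)))) (.node (.node (.node (.leaf 0) (.leaf 0)) (.node (.leaf 0) (.leaf 0))) (.node (.node (.leaf 0) (.leaf 0)) (.node (.leaf 0) (.leaf 0))))) (.node (.node (.node (.node (.leaf 0) (.leaf 0)) (.node (.leaf 0) (.leaf 0))) (.node (.node (.leaf 0) (.leaf 0)) (.node (.leaf 0) (.leaf 0)))) (.node (.node (.node (.leaf 0) (.leaf 0)) (.node (.leaf 0) (.leaf 0))) (.node (.node (.leaf 0) (.leaf 0)) (.node (.leaf 0) (.leaf 0)))))) (.node (.node (.node (.node (.node (.leaf 0) (.leaf 0)) (.node (.leaf 0) (.leaf 0))) (.node (.node (.leaf 0) (.leaf 0)) (.node (.leaf 0) (.leaf 0)))) (.node (.node (.node (.leaf 0) (.leaf 0)) (.node (.leaf 0) (.leaf 0))) (.node (.node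 (.leaf 0) (.leaf 0)) (.node (.leaf 0) (.leaf 0))))) (.node (.node (.node (.node (.leaf 0) (.leaf 0)) (.node (.leaf 0) (.leaf 0))) (.node (.node (.leaf 0) (.leaf 0)) (.node (.leaf 0) (.leaf 0)))) (.node (.node (.node (.leaf 0) (.leaf 0)) (.node (.leaf 0) (.leaf 0))) (.node (.node (.leaf 0) (.leaf 0)) (.node (.leaf 0) (.leaf 0)))))))

/-- How a representative arises, part 382. -/
def tInfoPart382 : Janko1.Tree ℕ := (.node (.node (.node (.node (.node (.node (.leaf 0) (.leaf 0)) (.node (.leaf 0) (.leaf 0))) (.node (.node (.leaf 0) (.leaf 0)) (.node (.leaf 0) (.leaf 0)))) (.node (.node (.node (.leaf 0) (.leaf 0)) (.node (.leaf 0) (.leaf 0))) (.node (.node (.leaf 0) (.leaf 0)) (.node (.leaf 0) (.leaf 0))))) (.node (.node (.node (.node (.leaf 0) (.leaf 0)) (.node (.leaf 0) (.leaf 0))) (.node (.node (.leaf 0) (.leaf 0)) (.node (.leaf 0) (.leaf 0)))) (.node (.node (.node (.leaf 0) (.leaf 0)) (.node (.leaf 0) (.leaf 0))) (.node (.node (.leaf 0) (.leaf 0)) (.node (.leaf 0) (.leaf 0)))))) (.node (.node (.node (.node (.node (.leaf 0) (.leaf 0)) (.node (.leaf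 0) (.leaf 0))) (.node (.node (.leaf 0) (.leaf 0)) (.node (.leaf 0) (.leaf 0)))) (.node (.node (.node (.leaf 0) (.leaf 0)) (.node (.leaf 0) (.leaf 0))) (.node (.node (.leaf 0) (.leaf 0)) (.node (.leaf 0) (.leaf 0))))) (.node (.node (.node (.node (.leaf 0) (.leaf 0)) (.node (.leaf 0) (.leaf 0))) (.node (.node (.leaf 0) (.leaf 0)) (.node (.leaf 0) (.leaf 0)))) (.node (.node (.node (.leaf 0) (.leaf 0)) (.node (.leaf 0) (.leaf 0))) (.node (.node (.leaf 0) (.leaf 0)) (.node (.leaf 0) (.leaf 0)))))))

/-- How a representative arises, part 383. -/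
def tInfoPart383 : Janko1.Tree ℕ := (.node (.node (.node (.node (.node (.node (.leaf 0) (.leaf 0)) (.node (.leaf 0) (.leaf 0))) (.node (.node (.leaf 0) (.leaf 0)) (.node (.leaf 0) (.leaf 0)))) (.node (.node (.node (.leaf 0) (.leaf 0)) (.node (.leaf 0) (.leaf 0))) (.node (.node (.leaf 0) (.leaf 0)) (.node (.leaf 0) (.leaf 0))))) (.node (.node (.node (.node (.leaf 0) (.leaf 0)) (.node (.leaf 0) (.leaf 0))) (.node (.node (.leaf 0) (.leaf 0)) (.node (.leaf 0) (.leaf 0)))) (.node (.node (.node (.leaf 0) (.leaf 0)) (.node (.leaf 0) (.leaf 0))) (.node (.node (.leaf 0) (.leaf 0)) (.node (.leaf 0) (.leaf 0)))))) (.node (.node (.node (.node (.node (.leaf 0) (.leaf 0)) (.node (.leaf 0) (.leaf 0))) (.node (.node (.leaf 0) (.leaf 0)) (.node (.leaf 0) (.leaf 0)))) (.node (.node (.node (.leaf 0) (.leaf 0)) (.node (.leaf 0) (.leaf 0))) (.node (.node (.leaf 0) (.leaf 0)) (.node (.leaf 0) (.leaf 0))))) (.node (.node (.node (.node (.leaf 0) (.leaf 0)) (.node (.leaf 0) (.leaf 0))) (.node (.node (.leaf 0) (.leaf 0)) (.node (.leaf 0) (.leaf 0)))) (.node (.node (.node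 (.leaf 0) (.leaf 0)) (.node (.leaf 0) (.leaf 0))) (.node (.node (.leaf 0) (.leaf 0)) (.node (.leaf 0) (.leaf 0)))))))

/-- How a representative arises, part 384. -/
def tInfoPart384 : Janko1.Tree ℕ := (.node (.node (.node (.node (.node (.node (.leaf 0) (.leaf 0)) (.node (.leaf 0) (.leaf 0))) (.node (.node (.leaf 0) (.leaf 0)) (.node (.leaf 0) (.leaf 0)))) (.node (.node (.node (.leaf 0) (.leaf 0)) (.node (.leaf 0) (.leaf 0))) (.node (.node (.leaf 0) (.leaf 0)) (.node (.leaf 0) (.leaf 0))))) (.node (.node (.node (.node (.leaf 0) (.leaf 0)) (.node (.leaf 0) (.leaf 0))) (.node (.node (.leaf 0) (.leaf 0)) (.node (.leaf 0) (.leaf 0)))) (.node (.node (.node (.leaf 0) (.leaf 0)) (.node (.leaf 0) (.leaf 0))) (.node (.node (.leaf 0) (.leaf 0)) (.node (.leaf 0) (.leaf 0)))))) (.node (.node (.node (.node (.node (.leaf 0) (.leaf 0)) (.node (.leaf 0) (.leaf 0))) (.node (.node (.leaf 0) (.leaf 0)) (.node (.leaf 0) (.leaf 0)))) (.node (.node (.node (.leaf 0) (.leaf 0)) (.node (.leaf 0) (.leaf 0))) (.node (.node (.leaf 0) (.leaf 0)) (.node (.leaf 0) (.leaf 0)))))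 (.node (.node (.node (.node (.leaf 0) (.leaf 0)) (.node (.leaf 0) (.leaf 0))) (.node (.node (.leaf 0) (.leaf 0)) (.node (.leaf 0) (.leaf 0)))) (.node (.node (.node (.leaf 0) (.leaf 0)) (.node (.leaf 0) (.leaf 0))) (.node (.node (.leaf 0) (.leaf 0)) (.node (.leaf 0) (.leaf 0)))))))

/-- How a representative arises, part 385. -/
def tInfoPart385 : Janko1.Tree ℕ := (.node (.node (.node (.node (.node (.node (.leaf 0) (.leaf 0)) (.node (.leaf 0) (.leaf 0))) (.node (.node (.leaf 0) (.leaf 0)) (.node (.leaf 0) (.leaf 0)))) (.node (.node (.node (.leaf 0) (.leaf 0)) (.node (.leaf 0) (.leaf 0))) (.node (.node (.leaf 0) (.leaf 0)) (.node (.leaf 0) (.leaf 0))))) (.node (.node (.node (.node (.leaf 0) (.leaf 0)) (.node (.leaf 0) (.leaf 0))) (.node (.node (.leaf 0) (.leaf 0)) (.node (.leaf 0) (.leaf 0)))) (.node (.node (.node (.leaf 0) (.leaf 0)) (.node (.leaf 0) (.leaf 0))) (.node (.node (.leaf 0) (.leaf 0)) (.node (.leaf 0) (.leaf 0)))))) (.node (.node (.node (.node (.node (.leaf 0) (.leaf 0)) (.node (.leaf 0) (.leaf 0))) (.node (.node (.leaf 0) (.leaf 0))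 (.node (.leaf 0) (.leaf 0)))) (.node (.node (.node (.leaf 0) (.leaf 0)) (.node (.leaf 0) (.leaf 0))) (.node (.node (.leaf 0) (.leaf 0)) (.node (.leaf 0) (.leaf 0))))) (.node (.node (.node (.node (.leaf 0) (.leaf 0)) (.node (.leaf 0) (.leaf 0))) (.node (.node (.leaf 0) (.leaf 0)) (.node (.leaf 0) (.leaf 0)))) (.node (.node (.node (.leaf 0) (.leaf 0)) (.node (.leaf 0) (.leaf 0))) (.node (.node (.leaf 0) (.leaf 0)) (.node (.leaf 0) (.leaf 0)))))))

/-- How a representative arises, part 386. -/
def tInfoPart386 : Janko1.Tree ℕ := (.node (.node (.node (.node (.node (.node (.leaf 0) (.leaf 0)) (.node (.leaf 0) (.leaf 0))) (.node (.node (.leaf 0) (.leaf 0)) (.node (.leaf 0) (.leaf 0)))) (.node (.node (.node (.leaf 0) (.leaf 0)) (.node (.leaf 0) (.leaf 0))) (.node (.node (.leaf 0) (.leaf 0)) (.node (.leaf 0) (.leaf 0))))) (.node (.node (.node (.node (.leaf 0) (.leaf 0)) (.node (.leaf 0) (.leaf 0))) (.node (.node (.leaf 0) (.leaf 0)) (.node (.leaf 0) (.leaf 0)))) (.node (.node (.node (.leaf 0) (.leaf 0)) (.node (.leaf 0) (.leaf 0))) (.node (.node (.leaf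 0) (.leaf 0)) (.node (.leaf 0) (.leaf 0)))))) (.node (.node (.node (.node (.node (.leaf 0) (.leaf 0)) (.node (.leaf 0) (.leaf 0))) (.node (.node (.leaf 0) (.leaf 0)) (.node (.leaf 0) (.leaf 0)))) (.node (.node (.node (.leaf 0) (.leaf 0)) (.node (.leaf 0) (.leaf 0))) (.node (.node (.leaf 0) (.leaf 0)) (.node (.leaf 0) (.leaf 0))))) (.node (.node (.node (.node (.leaf 0) (.leaf 0)) (.node (.leaf 0) (.leaf 0))) (.node (.node (.leaf 0) (.leaf 0)) (.node (.leaf 0) (.leaf 0)))) (.node (.node (.node (.leaf 0) (.leaf 0)) (.node (.leaf 0) (.leaf 0))) (.node (.node (.leaf 0) (.leaf 0)) (.node (.leaf 0) (.leaf 0)))))))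

/-- How a representative arises, part 387. -/
def tInfoPart387 : Janko1.Tree ℕ := (.node (.node (.node (.node (.node (.node (.leaf 0) (.leaf 0)) (.node (.leaf 0) (.leaf 0))) (.node (.node (.leaf 0) (.leaf 0)) (.node (.leaf 0) (.leaf 0)))) (.node (.node (.node (.leaf 0) (.leaf 0)) (.node (.leaf 0) (.leaf 0))) (.node (.node (.leaf 0) (.leaf 0)) (.node (.leaf 0) (.leaf 0))))) (.node (.node (.node (.node (.leaf 0) (.leaf 0)) (.node (.leaf 0) (.leaf 0))) (.node (.node (.leaf 0) (.leaf 0)) (.node (.leaf 0) (.leaf 0)))) (.node (.node (.node (.leaf 0) (.leaf 0)) (.node (.leaf 0) (.leaf 0))) (.node (.node (.leaf 0) (.leaf 0)) (.node (.leaf 0) (.leaf 0)))))) (.node (.node (.node (.node (.node (.leaf 0) (.leaf 0)) (.node (.leaf 0) (.leaf 0))) (.node (.node (.leaf 0) (.leaf 0)) (.node (.leaf 0) (.leaf 0)))) (.node (.node (.node (.leaf 0) (.leaf 0)) (.node (.leaf 0) (.leaf 0))) (.node (.node (.leaf 0) (.leaf 0)) (.node (.leaf 0) (.leaf 0))))) (.node (.node (.node (.node (.leaf 0) (.leaf 0)) (.node (.leaf 0) (.leaf 0))) (.node (.node (.leaf 0) (.leaf 0))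 (.node (.leaf 0) (.leaf 0)))) (.node (.node (.node (.leaf 0) (.leaf 0)) (.node (.leaf 0) (.leaf 0))) (.node (.node (.leaf 0) (.leaf 0)) (.node (.leaf 0) (.leaf 0)))))))

/-- How a representative arises, part 388. -/
def tInfoPart388 : Janko1.Tree ℕ := (.node (.node (.node (.node (.node (.node (.leaf 0) (.leaf 0)) (.node (.leaf 0) (.leaf 0))) (.node (.node (.leaf 0) (.leaf 0)) (.node (.leaf 0) (.leaf 0)))) (.node (.node (.node (.leaf 0) (.leaf 0)) (.node (.leaf 0) (.leaf 0))) (.node (.node (.leaf 0) (.leaf 0)) (.node (.leaf 0) (.leaf 0))))) (.node (.node (.node (.node (.leaf 0) (.leaf 0)) (.node (.leaf 0) (.leaf 0))) (.node (.node (.leaf 0) (.leaf 0)) (.node (.leaf 0) (.leaf 0)))) (.node (.node (.node (.leaf 0) (.leaf 0)) (.node (.leaf 0) (.leaf 0))) (.node (.node (.leaf 0) (.leaf 0)) (.node (.leaf 0) (.leaf 0)))))) (.node (.node (.node (.node (.node (.leaf 0) (.leaf 0)) (.node (.leaf 0) (.leaf 0))) (.node (.node (.leaf 0) (.leaf 0)) (.node (.leaf 0) (.leaf 0)))) (.node (.node (.node (.leaf 0) (.leaf 0)) (.node (.leaf 0) (.leaf 0))) (.node (.node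 (.leaf 0) (.leaf 0)) (.node (.leaf 0) (.leaf 0))))) (.node (.node (.node (.node (.leaf 0) (.leaf 0)) (.node (.leaf 0) (.leaf 0))) (.node (.node (.leaf 0) (.leaf 0)) (.node (.leaf 0) (.leaf 0)))) (.node (.node (.node (.leaf 0) (.leaf 0)) (.node (.leaf 0) (.leaf 0))) (.node (.node (.leaf 0) (.leaf 0)) (.node (.leaf 0) (.leaf 0)))))))

/-- How a representative arises, part 389. -/
def tInfoPart389 : Janko1.Tree ℕ := (.node (.node (.node (.node (.node (.node (.leaf 0) (.leaf 0)) (.node (.leaf 0) (.leaf 0))) (.node (.node (.leaf 0) (.leaf 0)) (.node (.leaf 0) (.leaf 0)))) (.node (.node (.node (.leaf 0) (.leaf 0)) (.node (.leaf 0) (.leaf 0))) (.node (.node (.leaf 0) (.leaf 0)) (.node (.leaf 0) (.leaf 0))))) (.node (.node (.node (.node (.leaf 0) (.leaf 0)) (.node (.leaf 0) (.leaf 0))) (.node (.node (.leaf 0) (.leaf 0)) (.node (.leaf 0) (.leaf 0)))) (.node (.node (.node (.leaf 0) (.leaf 0)) (.node (.leaf 0) (.leaf 0))) (.node (.node (.leaf 0) (.leaf 0)) (.node (.leaf 0) (.leaf 0)))))) (.node (.node (.node (.node (.node (.leaf 0) (.leaf 0)) (.node (.leaf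 0) (.leaf 0))) (.node (.node (.leaf 0) (.leaf 0)) (.node (.leaf 0) (.leaf 0)))) (.node (.node (.node (.leaf 0) (.leaf 0)) (.node (.leaf 0) (.leaf 0))) (.node (.node (.leaf 0) (.leaf 0)) (.node (.leaf 0) (.leaf 0))))) (.node (.node (.node (.node (.leaf 0) (.leaf 0)) (.node (.leaf 0) (.leaf 0))) (.node (.node (.leaf 0) (.leaf 0)) (.node (.leaf 0) (.leaf 0)))) (.node (.node (.node (.leaf 0) (.leaf 0)) (.node (.leaf 0) (.leaf 0))) (.node (.node (.leaf 0) (.leaf 0)) (.node (.leaf 0) (.leaf 0)))))))

/-- How a representative arises, part 390. -/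
def tInfoPart390 : Janko1.Tree ℕ := (.node (.node (.node (.node (.node (.node (.leaf 0) (.leaf 0)) (.node (.leaf 0) (.leaf 0))) (.node (.node (.leaf 0) (.leaf 0)) (.node (.leaf 0) (.leaf 0)))) (.node (.node (.node (.leaf 0) (.leaf 0)) (.node (.leaf 0) (.leaf 0))) (.node (.node (.leaf 0) (.leaf 0)) (.node (.leaf 0) (.leaf 0))))) (.node (.node (.node (.node (.leaf 0) (.leaf 0)) (.node (.leaf 0) (.leaf 0))) (.node (.node (.leaf 0) (.leaf 0)) (.node (.leaf 0) (.leaf 0)))) (.node (.node (.node (.leaf 0) (.leaf 0)) (.node (.leaf 0) (.leaf 0))) (.node (.node (.leaf 0) (.leaf 0)) (.node (.leaf 0) (.leaf 0)))))) (.node (.node (.node (.node (.node (.leaf 0) (.leaf 0)) (.node (.leaf 0) (.leaf 0))) (.node (.node (.leaf 0) (.leaf 0)) (.node (.leaf 0) (.leaf 0)))) (.node (.node (.node (.leaf 0) (.leaf 0)) (.node (.leaf 0) (.leaf 0))) (.node (.node (.leaf 0) (.leaf 0)) (.node (.leaf 0) (.leaf 0))))) (.node (.node (.node (.node (.leaf 0) (.leaf 0)) (.node (.leaf 0) (.leaf 0))) (.node (.node (.leaf 0) (.leaf 0)) (.node (.leaf 0) (.leaf 0)))) (.node (.node (.node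 (.leaf 0) (.leaf 0)) (.node (.leaf 0) (.leaf 0))) (.node (.node (.leaf 0) (.leaf 0)) (.node (.leaf 0) (.leaf 0)))))))

/-- How a representative arises, part 391. -/
def tInfoPart391 : Janko1.Tree ℕ := (.node (.node (.node (.node (.node (.node (.leaf 0) (.leaf 0)) (.node (.leaf 0) (.leaf 0))) (.node (.node (.leaf 0) (.leaf 0)) (.node (.leaf 0) (.leaf 0)))) (.node (.node (.node (.leaf 0) (.leaf 0)) (.node (.leaf 0) (.leaf 0))) (.node (.node (.leaf 0) (.leaf 0)) (.node (.leaf 0) (.leaf 0))))) (.node (.node (.node (.node (.leaf 0) (.leaf 0)) (.node (.leaf 0) (.leaf 0))) (.node (.node (.leaf 0) (.leaf 0)) (.node (.leaf 0) (.leaf 0)))) (.node (.node (.node (.leaf 0) (.leaf 0)) (.node (.leaf 0) (.leaf 0))) (.node (.node (.leaf 0) (.leaf 0)) (.node (.leaf 0) (.leaf 0)))))) (.node (.node (.node (.node (.node (.leaf 0) (.leaf 0)) (.node (.leaf 0) (.leaf 0))) (.node (.node (.leaf 0) (.leaf 0)) (.node (.leaf 0) (.leaf 0)))) (.node (.node (.node (.leaf 0) (.leaf 0)) (.node (.leaf 0) (.leaf 0))) (.node (.node (.leaf 0) (.leaf 0)) (.node (.leaf 0) (.leaf 0)))))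 (.node (.node (.node (.node (.leaf 0) (.leaf 0)) (.node (.leaf 0) (.leaf 0))) (.node (.node (.leaf 0) (.leaf 0)) (.node (.leaf 0) (.leaf 0)))) (.node (.node (.node (.leaf 0) (.leaf 0)) (.node (.leaf 0) (.leaf 0))) (.node (.node (.leaf 0) (.leaf 0)) (.node (.leaf 0) (.leaf 0)))))))

/-- How a representative arises, part 392. -/
def tInfoPart392 : Janko1.Tree ℕ := (.node (.node (.node (.node (.node (.node (.leaf 0) (.leaf 0)) (.node (.leaf 0) (.leaf 0))) (.node (.node (.leaf 0) (.leaf 0)) (.node (.leaf 0) (.leaf 0)))) (.node (.node (.node (.leaf 0) (.leaf 0)) (.node (.leaf 0) (.leaf 0))) (.node (.node (.leaf 0) (.leaf 0)) (.node (.leaf 0) (.leaf 0))))) (.node (.node (.node (.node (.leaf 0) (.leaf 0)) (.node (.leaf 0) (.leaf 0))) (.node (.node (.leaf 0) (.leaf 0)) (.node (.leaf 0) (.leaf 0)))) (.node (.node (.node (.leaf 0) (.leaf 0)) (.node (.leaf 0) (.leaf 0))) (.node (.node (.leaf 0) (.leaf 0)) (.node (.leaf 0) (.leaf 0)))))) (.node (.node (.node (.node (.node (.leaf 0) (.leaf 0)) (.node (.leaf 0) (.leaf 0))) (.node (.node (.leaf 0) (.leaf 0))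 (.node (.leaf 0) (.leaf 0)))) (.node (.node (.node (.leaf 0) (.leaf 0)) (.node (.leaf 0) (.leaf 0))) (.node (.node (.leaf 0) (.leaf 0)) (.node (.leaf 0) (.leaf 0))))) (.node (.node (.node (.node (.leaf 0) (.leaf 0)) (.node (.leaf 0) (.leaf 0))) (.node (.node (.leaf 0) (.leaf 0)) (.node (.leaf 0) (.leaf 0)))) (.node (.node (.node (.leaf 0) (.leaf 0)) (.node (.leaf 0) (.leaf 0))) (.node (.node (.leaf 0) (.leaf 0)) (.node (.leaf 0) (.leaf 0)))))))

/-- How a representative arises, part 393. -/
def tInfoPart393 : Janko1.Tree ℕ := (.node (.node (.node (.node (.node (.node (.leaf 0) (.leaf 0)) (.node (.leaf 0) (.leaf 0))) (.node (.node (.leaf 0) (.leaf 0)) (.node (.leaf 0) (.leaf 0)))) (.node (.node (.node (.leaf 0) (.leaf 0)) (.node (.leaf 0) (.leaf 0))) (.node (.node (.leaf 0) (.leaf 0)) (.node (.leaf 0) (.leaf 0))))) (.node (.node (.node (.node (.leaf 0) (.leaf 0)) (.node (.leaf 0) (.leaf 0))) (.node (.node (.leaf 0) (.leaf 0)) (.node (.leaf 0) (.leaf 0)))) (.node (.node (.node (.leaf 0) (.leaf 0)) (.node (.leaf 0) (.leaf 0))) (.node (.node (.leaf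 0) (.leaf 0)) (.node (.leaf 0) (.leaf 0)))))) (.node (.node (.node (.node (.node (.leaf 0) (.leaf 0)) (.node (.leaf 0) (.leaf 0))) (.node (.node (.leaf 0) (.leaf 0)) (.node (.leaf 0) (.leaf 0)))) (.node (.node (.node (.leaf 0) (.leaf 0)) (.node (.leaf 0) (.leaf 0))) (.node (.node (.leaf 0) (.leaf 0)) (.node (.leaf 0) (.leaf 0))))) (.node (.node (.node (.node (.leaf 0) (.leaf 0)) (.node (.leaf 0) (.leaf 0))) (.node (.node (.leaf 0) (.leaf 0)) (.node (.leaf 0) (.leaf 0)))) (.node (.node (.node (.leaf 0) (.leaf 0)) (.node (.leaf 0) (.leaf 0))) (.node (.node (.leaf 0) (.leaf 0)) (.node (.leaf 0) (.leaf 0)))))))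

/-- How a representative arises, part 394. -/
def tInfoPart394 : Janko1.Tree ℕ := (.node (.node (.node (.node (.node (.node (.leaf 0) (.leaf 0)) (.node (.leaf 0) (.leaf 0))) (.node (.node (.leaf 0) (.leaf 0)) (.node (.leaf 0) (.leaf 0)))) (.node (.node (.node (.leaf 0) (.leaf 0)) (.node (.leaf 0) (.leaf 0))) (.node (.node (.leaf 0) (.leaf 0)) (.node (.leaf 0) (.leaf 0))))) (.node (.node (.node (.node (.leaf 0) (.leaf 0)) (.node (.leaf 0) (.leaf 0))) (.node (.node (.leaf 0) (.leaf 0)) (.node (.leaf 0) (.leaf 0)))) (.node (.node (.node (.leaf 0) (.leaf 0)) (.node (.leaf 0) (.leaf 0))) (.node (.node (.leaf 0) (.leaf 0)) (.node (.leaf 0) (.leaf 0)))))) (.node (.node (.node (.node (.node (.leaf 0) (.leaf 0)) (.node (.leaf 0) (.leaf 0))) (.node (.node (.leaf 0) (.leaf 0)) (.node (.leaf 0) (.leaf 0)))) (.node (.node (.node (.leaf 0) (.leaf 0)) (.node (.leaf 0) (.leaf 0))) (.node (.node (.leaf 0) (.leaf 0)) (.node (.leaf 0) (.leaf 0))))) (.node (.node (.node (.node (.leaf 0) (.leaf 0)) (.node (.leaf 0) (.leaf 0))) (.node (.node (.leaf 0) (.leaf 0))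 (.node (.leaf 0) (.leaf 0)))) (.node (.node (.node (.leaf 0) (.leaf 0)) (.node (.leaf 0) (.leaf 0))) (.node (.node (.leaf 0) (.leaf 0)) (.node (.leaf 0) (.leaf 0)))))))

/-- How a representative arises, part 395. -/
def tInfoPart395 : Janko1.Tree ℕ := (.node (.node (.node (.node (.node (.node (.leaf 0) (.leaf 0)) (.node (.leaf 0) (.leaf 0))) (.node (.node (.leaf 0) (.leaf 0)) (.node (.leaf 0) (.leaf 0)))) (.node (.node (.node (.leaf 0) (.leaf 0)) (.node (.leaf 0) (.leaf 0))) (.node (.node (.leaf 0) (.leaf 0)) (.node (.leaf 0) (.leaf 0))))) (.node (.node (.node (.node (.leaf 0) (.leaf 0)) (.node (.leaf 0) (.leaf 0))) (.node (.node (.leaf 0) (.leaf 0)) (.node (.leaf 0) (.leaf 0)))) (.node (.node (.node (.leaf 0) (.leaf 0)) (.node (.leaf 0) (.leaf 0))) (.node (.node (.leaf 0) (.leaf 0)) (.node (.leaf 0) (.leaf 0)))))) (.node (.node (.node (.node (.node (.leaf 0) (.leaf 0)) (.node (.leaf 0) (.leaf 0))) (.node (.node (.leaf 0) (.leaf 0)) (.node (.leaf 0) (.leaf 0)))) (.node (.node (.node (.leaf 0) (.leaf 0)) (.node (.leaf 0) (.leaf 0))) (.node (.node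 (.leaf 0) (.leaf 0)) (.node (.leaf 0) (.leaf 0))))) (.node (.node (.node (.node (.leaf 0) (.leaf 0)) (.node (.leaf 0) (.leaf 0))) (.node (.node (.leaf 0) (.leaf 0)) (.node (.leaf 0) (.leaf 0)))) (.node (.node (.node (.leaf 0) (.leaf 0)) (.node (.leaf 0) (.leaf 0))) (.node (.node (.leaf 0) (.leaf 0)) (.node (.leaf 0) (.leaf 0)))))))

/-- How a representative arises, part 396. -/
def tInfoPart396 : Janko1.Tree ℕ := (.node (.node (.node (.node (.node (.node (.leaf 0) (.leaf 0)) (.node (.leaf 0) (.leaf 0))) (.node (.node (.leaf 0) (.leaf 0)) (.node (.leaf 0) (.leaf 0)))) (.node (.node (.node (.leaf 0) (.leaf 0)) (.node (.leaf 0) (.leaf 0))) (.node (.node (.leaf 0) (.leaf 0)) (.node (.leaf 0) (.leaf 0))))) (.node (.node (.node (.node (.leaf 0) (.leaf 0)) (.node (.leaf 0) (.leaf 0))) (.node (.node (.leaf 0) (.leaf 0)) (.node (.leaf 0) (.leaf 0)))) (.node (.node (.node (.leaf 0) (.leaf 0)) (.node (.leaf 0) (.leaf 0))) (.node (.node (.leaf 0) (.leaf 0)) (.node (.leaf 0) (.leaf 0)))))) (.node (.node (.node (.node (.node (.leaf 0) (.leaf 0)) (.node (.leaf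 0) (.leaf 0))) (.node (.node (.leaf 0) (.leaf 0)) (.node (.leaf 0) (.leaf 0)))) (.node (.node (.node (.leaf 0) (.leaf 0)) (.node (.leaf 0) (.leaf 0))) (.node (.node (.leaf 0) (.leaf 0)) (.node (.leaf 0) (.leaf 0))))) (.node (.node (.node (.node (.leaf 0) (.leaf 0)) (.node (.leaf 0) (.leaf 0))) (.node (.node (.leaf 0) (.leaf 0)) (.node (.leaf 0) (.leaf 0)))) (.node (.node (.node (.leaf 0) (.leaf 0)) (.node (.leaf 0) (.leaf 0))) (.node (.node (.leaf 0) (.leaf 0)) (.node (.leaf 0) (.leaf 0)))))))

/-- How a representative arises, part 397. -/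
def tInfoPart397 : Janko1.Tree ℕ := (.node (.node (.node (.node (.node (.node (.leaf 0) (.leaf 0)) (.node (.leaf 0) (.leaf 0))) (.node (.node (.leaf 0) (.leaf 0)) (.node (.leaf 0) (.leaf 0)))) (.node (.node (.node (.leaf 0) (.leaf 0)) (.node (.leaf 0) (.leaf 0))) (.node (.node (.leaf 0) (.leaf 0)) (.node (.leaf 0) (.leaf 0))))) (.node (.node (.node (.node (.leaf 0) (.leaf 0)) (.node (.leaf 0) (.leaf 0))) (.node (.node (.leaf 0) (.leaf 0)) (.node (.leaf 0) (.leaf 0)))) (.node (.node (.node (.leaf 0) (.leaf 0)) (.node (.leaf 0) (.leaf 0))) (.node (.node (.leaf 0) (.leaf 0)) (.node (.leaf 0) (.leaf 0)))))) (.node (.node (.node (.node (.node (.leaf 0) (.leaf 0)) (.node (.leaf 0) (.leaf 0))) (.node (.node (.leaf 0) (.leaf 0)) (.node (.leaf 0) (.leaf 0)))) (.node (.node (.node (.leaf 0) (.leaf 0)) (.node (.leaf 0) (.leaf 0))) (.node (.node (.leaf 0) (.leaf 0)) (.node (.leaf 0) (.leaf 0))))) (.node (.node (.node (.node (.leaf 0) (.leaf 0)) (.node (.leaf 0) (.leaf 0))) (.node (.node (.leaf 0) (.leaf 0)) (.node (.leaf 0) (.leaf 0)))) (.node (.node (.node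 (.leaf 0) (.leaf 0)) (.node (.leaf 0) (.leaf 0))) (.node (.node (.leaf 0) (.leaf 0)) (.node (.leaf 0) (.leaf 0)))))))

/-- How a representative arises, part 398. -/
def tInfoPart398 : Janko1.Tree ℕ := (.node (.node (.node (.node (.node (.node (.leaf 0) (.leaf 0)) (.node (.leaf 0) (.leaf 0))) (.node (.node (.leaf 0) (.leaf 0)) (.node (.leaf 0) (.leaf 0)))) (.node (.node (.node (.leaf 0) (.leaf 0)) (.node (.leaf 0) (.leaf 0))) (.node (.node (.leaf 0) (.leaf 0)) (.node (.leaf 0) (.leaf 0))))) (.node (.node (.node (.node (.leaf 0) (.leaf 0)) (.node (.leaf 0) (.leaf 0))) (.node (.node (.leaf 0) (.leaf 0)) (.node (.leaf 0) (.leaf 0)))) (.node (.node (.node (.leaf 0) (.leaf 0)) (.node (.leaf 0) (.leaf 0))) (.node (.node (.leaf 0) (.leaf 0)) (.node (.leaf 0) (.leaf 0)))))) (.node (.node (.node (.node (.node (.leaf 0) (.leaf 0)) (.node (.leaf 0) (.leaf 0))) (.node (.node (.leaf 0) (.leaf 0)) (.node (.leaf 0) (.leaf 0)))) (.node (.node (.node (.leaf 0) (.leaf 0)) (.node (.leaf 0) (.leaf 0))) (.node (.node (.leaf 0) (.leaf 0)) (.node (.leaf 0) (.leaf 0)))))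 (.node (.node (.node (.node (.leaf 0) (.leaf 0)) (.node (.leaf 0) (.leaf 0))) (.node (.node (.leaf 0) (.leaf 0)) (.node (.leaf 0) (.leaf 0)))) (.node (.node (.node (.leaf 0) (.leaf 0)) (.node (.leaf 0) (.leaf 0))) (.node (.node (.leaf 0) (.leaf 0)) (.node (.leaf 0) (.leaf 0)))))))

/-- How a representative arises, part 399. -/
def tInfoPart399 : Janko1.Tree ℕ := (.node (.node (.node (.node (.node (.node (.leaf 0) (.leaf 0)) (.node (.leaf 0) (.leaf 0))) (.node (.node (.leaf 0) (.leaf 0)) (.node (.leaf 0) (.leaf 0)))) (.node (.node (.node (.leaf 0) (.leaf 0)) (.node (.leaf 0) (.leaf 0))) (.node (.node (.leaf 0) (.leaf 0)) (.node (.leaf 0) (.leaf 0))))) (.node (.node (.node (.node (.leaf 0) (.leaf 0)) (.node (.leaf 0) (.leaf 0))) (.node (.node (.leaf 0) (.leaf 0)) (.node (.leaf 0) (.leaf 0)))) (.node (.node (.node (.leaf 0) (.leaf 0)) (.node (.leaf 0) (.leaf 0))) (.node (.node (.leaf 0) (.leaf 0)) (.node (.leaf 0) (.leaf 0)))))) (.node (.node (.node (.node (.node (.leaf 0) (.leaf 0)) (.node (.leaf 0) (.leaf 0))) (.node (.node (.leaf 0) (.leaf 0))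 (.node (.leaf 0) (.leaf 0)))) (.node (.node (.node (.leaf 0) (.leaf 0)) (.node (.leaf 0) (.leaf 0))) (.node (.node (.leaf 0) (.leaf 0)) (.node (.leaf 0) (.leaf 0))))) (.node (.node (.node (.node (.leaf 0) (.leaf 0)) (.node (.leaf 0) (.leaf 0))) (.node (.node (.leaf 0) (.leaf 0)) (.node (.leaf 0) (.leaf 0)))) (.node (.node (.node (.leaf 0) (.leaf 0)) (.node (.leaf 0) (.leaf 0))) (.node (.node (.leaf 0) (.leaf 0)) (.node (.leaf 0) (.leaf 0)))))))

/-- How a representative arises, part 400. -/
def tInfoPart400 : Janko1.Tree ℕ := (.node (.node (.node (.node (.node (.node (.leaf 0) (.leaf 0)) (.node (.leaf 0) (.leaf 0))) (.node (.node (.leaf 0) (.leaf 0)) (.node (.leaf 0) (.leaf 0)))) (.node (.node (.node (.leaf 0) (.leaf 0)) (.node (.leaf 0) (.leaf 0))) (.node (.node (.leaf 0) (.leaf 0)) (.node (.leaf 0) (.leaf 0))))) (.node (.node (.node (.node (.leaf 0) (.leaf 0)) (.node (.leaf 0) (.leaf 0))) (.node (.node (.leaf 0) (.leaf 0)) (.node (.leaf 0) (.leaf 0)))) (.node (.node (.node (.leaf 0) (.leaf 0)) (.node (.leaf 0) (.leaf 0))) (.node (.node (.leaf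 0) (.leaf 0)) (.node (.leaf 0) (.leaf 0)))))) (.node (.node (.node (.node (.node (.leaf 0) (.leaf 0)) (.node (.leaf 0) (.leaf 0))) (.node (.node (.leaf 0) (.leaf 0)) (.node (.leaf 0) (.leaf 0)))) (.node (.node (.node (.leaf 0) (.leaf 0)) (.node (.leaf 0) (.leaf 0))) (.node (.node (.leaf 0) (.leaf 0)) (.node (.leaf 0) (.leaf 0))))) (.node (.node (.node (.node (.leaf 0) (.leaf 0)) (.node (.leaf 0) (.leaf 0))) (.node (.node (.leaf 0) (.leaf 0)) (.node (.leaf 0) (.leaf 0)))) (.node (.node (.node (.leaf 0) (.leaf 0)) (.node (.leaf 0) (.leaf 0))) (.node (.node (.leaf 0) (.leaf 0)) (.node (.leaf 0) (.leaf 0)))))))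

/-- How a representative arises, part 401. -/
def tInfoPart401 : Janko1.Tree ℕ := (.node (.node (.node (.node (.node (.node (.leaf 0) (.leaf 0)) (.node (.leaf 0) (.leaf 0))) (.node (.node (.leaf 0) (.leaf 0)) (.node (.leaf 0) (.leaf 0)))) (.node (.node (.node (.leaf 0) (.leaf 0)) (.node (.leaf 0) (.leaf 0))) (.node (.node (.leaf 0) (.leaf 0)) (.node (.leaf 0) (.leaf 0))))) (.node (.node (.node (.node (.leaf 0) (.leaf 0)) (.node (.leaf 0) (.leaf 0))) (.node (.node (.leaf 0) (.leaf 0)) (.node (.leaf 0) (.leaf 0)))) (.node (.node (.node (.leaf 0) (.leaf 0)) (.node (.leaf 0) (.leaf 0))) (.node (.node (.leaf 0) (.leaf 0)) (.node (.leaf 0) (.leaf 0)))))) (.node (.node (.node (.node (.node (.leaf 0) (.leaf 0)) (.node (.leaf 0) (.leaf 0))) (.node (.node (.leaf 0) (.leaf 0)) (.node (.leaf 0) (.leaf 0)))) (.node (.node (.node (.leaf 0) (.leaf 0)) (.node (.leaf 0) (.leaf 0))) (.node (.node (.leaf 0) (.leaf 0)) (.node (.leaf 0) (.leaf 0))))) (.node (.node (.node (.node (.leaf 0) (.leaf 0)) (.node (.leaf 0) (.leaf 0))) (.node (.node (.leaf 0) (.leaf 0))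 (.node (.leaf 0) (.leaf 0)))) (.node (.node (.node (.leaf 0) (.leaf 0)) (.node (.leaf 0) (.leaf 0))) (.node (.node (.leaf 0) (.leaf 0)) (.node (.leaf 0) (.leaf 0)))))))

/-- How a representative arises, part 402. -/
def tInfoPart402 : Janko1.Tree ℕ := (.node (.node (.node (.node (.node (.node (.leaf 0) (.leaf 0)) (.node (.leaf 0) (.leaf 0))) (.node (.node (.leaf 0) (.leaf 0)) (.node (.leaf 0) (.leaf 0)))) (.node (.node (.node (.leaf 0) (.leaf 0)) (.node (.leaf 0) (.leaf 0))) (.node (.node (.leaf 0) (.leaf 0)) (.node (.leaf 0) (.leaf 0))))) (.node (.node (.node (.node (.leaf 0) (.leaf 0)) (.node (.leaf 0) (.leaf 0))) (.node (.node (.leaf 0) (.leaf 0)) (.node (.leaf 0) (.leaf 0)))) (.node (.node (.node (.leaf 0) (.leaf 0)) (.node (.leaf 0) (.leaf 0))) (.node (.node (.leaf 0) (.leaf 0)) (.node (.leaf 0) (.leaf 0)))))) (.node (.node (.node (.node (.node (.leaf 0) (.leaf 0)) (.node (.leaf 0) (.leaf 0))) (.node (.node (.leaf 0) (.leaf 0)) (.node (.leaf 0) (.leaf 0)))) (.node (.node (.node (.leaf 0) (.leaf 0)) (.node (.leaf 0) (.leaf 0))) (.node (.node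 (.leaf 0) (.leaf 0)) (.node (.leaf 0) (.leaf 0))))) (.node (.node (.node (.node (.leaf 0) (.leaf 0)) (.node (.leaf 0) (.leaf 0))) (.node (.node (.leaf 0) (.leaf 0)) (.node (.leaf 0) (.leaf 0)))) (.node (.node (.node (.leaf 0) (.leaf 0)) (.node (.leaf 0) (.leaf 0))) (.node (.node (.leaf 0) (.leaf 0)) (.node (.leaf 0) (.leaf 0)))))))

/-- How a representative arises, part 403. -/
def tInfoPart403 : Janko1.Tree ℕ := (.node (.node (.node (.node (.node (.node (.leaf 0) (.leaf 0)) (.node (.leaf 0) (.leaf 0))) (.node (.node (.leaf 0) (.leaf 0)) (.node (.leaf 0) (.leaf 0)))) (.node (.node (.node (.leaf 0) (.leaf 0)) (.node (.leaf 0) (.leaf 0))) (.node (.node (.leaf 0) (.leaf 0)) (.node (.leaf 0) (.leaf 0))))) (.node (.node (.node (.node (.leaf 0) (.leaf 0)) (.node (.leaf 0) (.leaf 0))) (.node (.node (.leaf 0) (.leaf 0)) (.node (.leaf 0) (.leaf 0)))) (.node (.node (.node (.leaf 0) (.leaf 0)) (.node (.leaf 0) (.leaf 0))) (.node (.node (.leaf 0) (.leaf 0)) (.node (.leaf 0) (.leaf 0)))))) (.node (.node (.node (.node (.node (.leaf 0) (.leaf 0)) (.node (.leaf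 0) (.leaf 0))) (.node (.node (.leaf 0) (.leaf 0)) (.node (.leaf 0) (.leaf 0)))) (.node (.node (.node (.leaf 0) (.leaf 0)) (.node (.leaf 0) (.leaf 0))) (.node (.node (.leaf 0) (.leaf 0)) (.node (.leaf 0) (.leaf 0))))) (.node (.node (.node (.node (.leaf 0) (.leaf 0)) (.node (.leaf 0) (.leaf 0))) (.node (.node (.leaf 0) (.leaf 0)) (.node (.leaf 0) (.leaf 0)))) (.node (.node (.node (.leaf 0) (.leaf 0)) (.node (.leaf 0) (.leaf 0))) (.node (.node (.leaf 0) (.leaf 0)) (.node (.leaf 0) (.leaf 0)))))))

/-- How a representative arises, part 404. -/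
def tInfoPart404 : Janko1.Tree ℕ := (.node (.node (.node (.node (.node (.node (.leaf 0) (.leaf 0)) (.node (.leaf 0) (.leaf 0))) (.node (.node (.leaf 0) (.leaf 0)) (.node (.leaf 0) (.leaf 0)))) (.node (.node (.node (.leaf 0) (.leaf 0)) (.node (.leaf 0) (.leaf 0))) (.node (.node (.leaf 0) (.leaf 0)) (.node (.leaf 0) (.leaf 0))))) (.node (.node (.node (.node (.leaf 0) (.leaf 0)) (.node (.leaf 0) (.leaf 0))) (.node (.node (.leaf 0) (.leaf 0)) (.node (.leaf 0) (.leaf 0)))) (.node (.node (.node (.leaf 0) (.leaf 0)) (.node (.leaf 0) (.leaf 0))) (.node (.node (.leaf 0) (.leaf 0)) (.node (.leaf 0) (.leaf 0)))))) (.node (.node (.node (.node (.node (.leaf 0) (.leaf 0)) (.node (.leaf 0) (.leaf 0))) (.node (.node (.leaf 0) (.leaf 0)) (.node (.leaf 0) (.leaf 0)))) (.node (.node (.node (.leaf 0) (.leaf 0)) (.node (.leaf 0) (.leaf 0))) (.node (.node (.leaf 0) (.leaf 0)) (.node (.leaf 0) (.leaf 0))))) (.node (.node (.node (.node (.leaf 0) (.leaf 0)) (.node (.leaf 0) (.leaf 0))) (.node (.node (.leaf 0) (.leaf 0)) (.node (.leaf 0) (.leaf 0)))) (.node (.node (.node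 (.leaf 0) (.leaf 0)) (.node (.leaf 0) (.leaf 0))) (.node (.node (.leaf 0) (.leaf 0)) (.node (.leaf 0) (.leaf 0)))))))

/-- How a representative arises, part 405. -/
def tInfoPart405 : Janko1.Tree ℕ := (.node (.node (.node (.node (.node (.node (.leaf 0) (.leaf 0)) (.node (.leaf 0) (.leaf 0))) (.node (.node (.leaf 0) (.leaf 0)) (.node (.leaf 0) (.leaf 0)))) (.node (.node (.node (.leaf 0) (.leaf 0)) (.node (.leaf 0) (.leaf 0))) (.node (.node (.leaf 0) (.leaf 0)) (.node (.leaf 0) (.leaf 0))))) (.node (.node (.node (.node (.leaf 0) (.leaf 0)) (.node (.leaf 0) (.leaf 0))) (.node (.node (.leaf 0) (.leaf 0)) (.node (.leaf 0) (.leaf 0)))) (.node (.node (.node (.leaf 0) (.leaf 0)) (.node (.leaf 0) (.leaf 0))) (.node (.node (.leaf 0) (.leaf 0)) (.node (.leaf 0) (.leaf 0)))))) (.node (.node (.node (.node (.node (.leaf 0) (.leaf 0)) (.node (.leaf 0) (.leaf 0))) (.node (.node (.leaf 0) (.leaf 0)) (.node (.leaf 0) (.leaf 0)))) (.node (.node (.node (.leaf 0) (.leaf 0)) (.node (.leaf 0) (.leaf 0))) (.node (.node (.leaf 0) (.leaf 0)) (.node (.leaf 0) (.leaf 0)))))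 (.node (.node (.node (.node (.leaf 0) (.leaf 0)) (.node (.leaf 0) (.leaf 0))) (.node (.node (.leaf 0) (.leaf 0)) (.node (.leaf 0) (.leaf 0)))) (.node (.node (.node (.leaf 0) (.leaf 0)) (.node (.leaf 0) (.leaf 0))) (.node (.node (.leaf 0) (.leaf 0)) (.node (.leaf 0) (.leaf 0)))))))

/-- How a representative arises, part 406. -/
def tInfoPart406 : Janko1.Tree ℕ := (.node (.node (.node (.node (.node (.node (.leaf 0) (.leaf 0)) (.node (.leaf 0) (.leaf 0))) (.node (.node (.leaf 0) (.leaf 0)) (.node (.leaf 0) (.leaf 0)))) (.node (.node (.node (.leaf 0) (.leaf 0)) (.node (.leaf 0) (.leaf 0))) (.node (.node (.leaf 0) (.leaf 0)) (.node (.leaf 0) (.leaf 0))))) (.node (.node (.node (.node (.leaf 0) (.leaf 0)) (.node (.leaf 0) (.leaf 0))) (.node (.node (.leaf 0) (.leaf 0)) (.node (.leaf 0) (.leaf 0)))) (.node (.node (.node (.leaf 0) (.leaf 0)) (.node (.leaf 0) (.leaf 0))) (.node (.node (.leaf 0) (.leaf 0)) (.node (.leaf 0) (.leaf 0)))))) (.node (.node (.node (.node (.node (.leaf 0) (.leaf 0)) (.node (.leaf 0) (.leaf 0))) (.node (.node (.leaf 0) (.leaf 0))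 (.node (.leaf 0) (.leaf 0)))) (.node (.node (.node (.leaf 0) (.leaf 0)) (.node (.leaf 0) (.leaf 0))) (.node (.node (.leaf 0) (.leaf 0)) (.node (.leaf 0) (.leaf 0))))) (.node (.node (.node (.node (.leaf 0) (.leaf 0)) (.node (.leaf 0) (.leaf 0))) (.node (.node (.leaf 0) (.leaf 0)) (.node (.leaf 0) (.leaf 0)))) (.node (.node (.node (.leaf 0) (.leaf 0)) (.node (.leaf 0) (.leaf 0))) (.node (.node (.leaf 0) (.leaf 0)) (.node (.leaf 0) (.leaf 0)))))))

/-- How a representative arises, part 407. -/
def tInfoPart407 : Janko1.Tree ℕ := (.node (.node (.node (.node (.node (.node (.leaf 0) (.leaf 0)) (.node (.leaf 0) (.leaf 0))) (.node (.node (.leaf 0) (.leaf 0)) (.node (.leaf 0) (.leaf 0)))) (.node (.node (.node (.leaf 0) (.leaf 0)) (.node (.leaf 0) (.leaf 0))) (.node (.node (.leaf 0) (.leaf 0)) (.node (.leaf 0) (.leaf 0))))) (.node (.node (.node (.node (.leaf 0) (.leaf 0)) (.node (.leaf 0) (.leaf 0))) (.node (.node (.leaf 0) (.leaf 0)) (.node (.leaf 0) (.leaf 0)))) (.node (.node (.node (.leaf 0) (.leaf 0)) (.node (.leaf 0) (.leaf 0))) (.node (.node (.leaf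 0) (.leaf 0)) (.node (.leaf 0) (.leaf 0)))))) (.node (.node (.node (.node (.node (.leaf 0) (.leaf 0)) (.node (.leaf 0) (.leaf 0))) (.node (.node (.leaf 0) (.leaf 0)) (.node (.leaf 0) (.leaf 0)))) (.node (.node (.node (.leaf 0) (.leaf 0)) (.node (.leaf 0) (.leaf 0))) (.node (.node (.leaf 0) (.leaf 0)) (.node (.leaf 0) (.leaf 0))))) (.node (.node (.node (.node (.leaf 0) (.leaf 0)) (.node (.leaf 0) (.leaf 0))) (.node (.node (.leaf 0) (.leaf 0)) (.node (.leaf 0) (.leaf 0)))) (.node (.node (.node (.leaf 0) (.leaf 0)) (.node (.leaf 0) (.leaf 0))) (.node (.node (.leaf 0) (.leaf 0)) (.node (.leaf 0) (.leaf 0)))))))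

/-- How a representative arises, part 408. -/
def tInfoPart408 : Janko1.Tree ℕ := (.node (.node (.node (.node (.node (.node (.leaf 0) (.leaf 0)) (.node (.leaf 0) (.leaf 0))) (.node (.node (.leaf 0) (.leaf 0)) (.node (.leaf 0) (.leaf 0)))) (.node (.node (.node (.leaf 0) (.leaf 0)) (.node (.leaf 0) (.leaf 0))) (.node (.node (.leaf 0) (.leaf 0)) (.node (.leaf 0) (.leaf 0))))) (.node (.node (.node (.node (.leaf 0) (.leaf 0)) (.node (.leaf 0) (.leaf 0))) (.node (.node (.leaf 0) (.leaf 0)) (.node (.leaf 0) (.leaf 0)))) (.node (.node (.node (.leaf 0) (.leaf 0)) (.node (.leaf 0) (.leaf 0))) (.node (.node (.leaf 0) (.leaf 0)) (.node (.leaf 0) (.leaf 0)))))) (.node (.node (.node (.node (.node (.leaf 0) (.leaf 0)) (.node (.leaf 0) (.leaf 0))) (.node (.node (.leaf 0) (.leaf 0)) (.node (.leaf 0) (.leaf 0)))) (.node (.node (.node (.leaf 0) (.leaf 0)) (.node (.leaf 0) (.leaf 0))) (.node (.node (.leaf 0) (.leaf 0)) (.node (.leaf 0) (.leaf 0))))) (.node (.node (.node (.node (.leaf 0) (.leaf 0)) (.node (.leaf 0) (.leaf 0))) (.node (.node (.leaf 0) (.leaf 0))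 (.node (.leaf 0) (.leaf 0)))) (.node (.node (.node (.leaf 0) (.leaf 0)) (.node (.leaf 0) (.leaf 0))) (.node (.node (.leaf 0) (.leaf 0)) (.node (.leaf 0) (.leaf 0)))))))

/-- How a representative arises, part 409. -/
def tInfoPart409 : Janko1.Tree ℕ := (.node (.node (.node (.node (.node (.node (.leaf 0) (.leaf 0)) (.node (.leaf 0) (.leaf 0))) (.node (.node (.leaf 0) (.leaf 0)) (.node (.leaf 0) (.leaf 0)))) (.node (.node (.node (.leaf 0) (.leaf 0)) (.node (.leaf 0) (.leaf 0))) (.node (.node (.leaf 0) (.leaf 0)) (.node (.leaf 0) (.leaf 0))))) (.node (.node (.node (.node (.leaf 0) (.leaf 0)) (.node (.leaf 0) (.leaf 0))) (.node (.node (.leaf 0) (.leaf 0)) (.node (.leaf 0) (.leaf 0)))) (.node (.node (.node (.leaf 0) (.leaf 0)) (.node (.leaf 0) (.leaf 0))) (.node (.node (.leaf 0) (.leaf 0)) (.node (.leaf 0) (.leaf 0)))))) (.node (.node (.node (.node (.node (.leaf 0) (.leaf 0)) (.node (.leaf 0) (.leaf 0))) (.node (.node (.leaf 0) (.leaf 0)) (.node (.leaf 0) (.leaf 0)))) (.node (.node (.node (.leaf 0) (.leaf 0)) (.node (.leaf 0) (.leaf 0))) (.node (.node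 (.leaf 0) (.leaf 0)) (.node (.leaf 0) (.leaf 0))))) (.node (.node (.node (.node (.leaf 0) (.leaf 0)) (.node (.leaf 0) (.leaf 0))) (.node (.node (.leaf 0) (.leaf 0)) (.node (.leaf 0) (.leaf 0)))) (.node (.node (.node (.leaf 0) (.leaf 0)) (.node (.leaf 0) (.leaf 0))) (.node (.node (.leaf 0) (.leaf 0)) (.node (.leaf 0) (.leaf 0)))))))

/-- How a representative arises, part 410. -/
def tInfoPart410 : Janko1.Tree ℕ := (.node (.node (.node (.node (.node (.node (.leaf 0) (.leaf 0)) (.node (.leaf 0) (.leaf 0))) (.node (.node (.leaf 0) (.leaf 0)) (.node (.leaf 0) (.leaf 0)))) (.node (.node (.node (.leaf 0) (.leaf 0)) (.node (.leaf 0) (.leaf 0))) (.node (.node (.leaf 0) (.leaf 0)) (.node (.leaf 0) (.leaf 0))))) (.node (.node (.node (.node (.leaf 0) (.leaf 0)) (.node (.leaf 0) (.leaf 0))) (.node (.node (.leaf 0) (.leaf 0)) (.node (.leaf 0) (.leaf 0)))) (.node (.node (.node (.leaf 0) (.leaf 0)) (.node (.leaf 0) (.leaf 0))) (.node (.node (.leaf 0) (.leaf 0)) (.node (.leaf 0) (.leaf 0)))))) (.node (.node (.node (.node (.node (.leaf 0) (.leaf 0)) (.node (.leaf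 0) (.leaf 0))) (.node (.node (.leaf 0) (.leaf 0)) (.node (.leaf 0) (.leaf 0)))) (.node (.node (.node (.leaf 0) (.leaf 0)) (.node (.leaf 0) (.leaf 0))) (.node (.node (.leaf 0) (.leaf 0)) (.node (.leaf 0) (.leaf 0))))) (.node (.node (.node (.node (.leaf 0) (.leaf 0)) (.node (.leaf 0) (.leaf 0))) (.node (.node (.leaf 0) (.leaf 0)) (.node (.leaf 0) (.leaf 0)))) (.node (.node (.node (.leaf 0) (.leaf 0)) (.node (.leaf 0) (.leaf 0))) (.node (.node (.leaf 0) (.leaf 0)) (.node (.leaf 0) (.leaf 0)))))))

/-- How a representative arises, part 411. -/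
def tInfoPart411 : Janko1.Tree ℕ := (.node (.node (.node (.node (.node (.node (.leaf 0) (.leaf 0)) (.node (.leaf 0) (.leaf 0))) (.node (.node (.leaf 0) (.leaf 0)) (.node (.leaf 0) (.leaf 0)))) (.node (.node (.node (.leaf 0) (.leaf 0)) (.node (.leaf 0) (.leaf 0))) (.node (.node (.leaf 0) (.leaf 0)) (.node (.leaf 0) (.leaf 0))))) (.node (.node (.node (.node (.leaf 0) (.leaf 0)) (.node (.leaf 0) (.leaf 0))) (.node (.node (.leaf 0) (.leaf 0)) (.node (.leaf 0) (.leaf 0)))) (.node (.node (.node (.leaf 0) (.leaf 0)) (.node (.leaf 0) (.leaf 0))) (.node (.node (.leaf 0) (.leaf 0)) (.node (.leaf 0) (.leaf 0)))))) (.node (.node (.node (.node (.node (.leaf 0) (.leaf 0)) (.node (.leaf 0) (.leaf 0))) (.node (.node (.leaf 0) (.leaf 0)) (.node (.leaf 0) (.leaf 0)))) (.node (.node (.node (.leaf 0) (.leaf 0)) (.node (.leaf 0) (.leaf 0))) (.node (.node (.leaf 0) (.leaf 0)) (.node (.leaf 0) (.leaf 0))))) (.node (.node (.node (.node (.leaf 0) (.leaf 0)) (.node (.leaf 0) (.leaf 0))) (.node (.node (.leaf 0) (.leaf 0)) (.node (.leaf 0) (.leaf 0)))) (.node (.node (.node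 (.leaf 0) (.leaf 0)) (.node (.leaf 0) (.leaf 0))) (.node (.node (.leaf 0) (.leaf 0)) (.node (.leaf 0) (.leaf 0)))))))

/-- How a representative arises, part 412. -/
def tInfoPart412 : Janko1.Tree ℕ := (.node (.node (.node (.node (.node (.node (.leaf 0) (.leaf 0)) (.node (.leaf 0) (.leaf 0))) (.node (.node (.leaf 0) (.leaf 0)) (.node (.leaf 0) (.leaf 0)))) (.node (.node (.node (.leaf 0) (.leaf 0)) (.node (.leaf 0) (.leaf 0))) (.node (.node (.leaf 0) (.leaf 0)) (.node (.leaf 0) (.leaf 0))))) (.node (.node (.node (.node (.leaf 0) (.leaf 0)) (.node (.leaf 0) (.leaf 0))) (.node (.node (.leaf 0) (.leaf 0)) (.node (.leaf 0) (.leaf 0)))) (.node (.node (.node (.leaf 0) (.leaf 0)) (.node (.leaf 0) (.leaf 0))) (.node (.node (.leaf 0) (.leaf 0)) (.node (.leaf 0) (.leaf 0)))))) (.node (.node (.node (.node (.node (.leaf 0) (.leaf 0)) (.node (.leaf 0) (.leaf 0))) (.node (.node (.leaf 0) (.leaf 0)) (.node (.leaf 0) (.leaf 0)))) (.node (.node (.node (.leaf 0) (.leaf 0)) (.node (.leaf 0) (.leaf 0))) (.node (.node (.leaf 0) (.leaf 0)) (.node (.leaf 0) (.leaf 0)))))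 (.node (.node (.node (.node (.leaf 0) (.leaf 0)) (.node (.leaf 0) (.leaf 0))) (.node (.node (.leaf 0) (.leaf 0)) (.node (.leaf 0) (.leaf 0)))) (.node (.node (.node (.leaf 0) (.leaf 0)) (.node (.leaf 0) (.leaf 0))) (.node (.node (.leaf 0) (.leaf 0)) (.node (.leaf 0) (.leaf 0)))))))

/-- How a representative arises, part 413. -/
def tInfoPart413 : Janko1.Tree ℕ := (.node (.node (.node (.node (.node (.node (.leaf 0) (.leaf 0)) (.node (.leaf 0) (.leaf 0))) (.node (.node (.leaf 0) (.leaf 0)) (.node (.leaf 0) (.leaf 0)))) (.node (.node (.node (.leaf 0) (.leaf 0)) (.node (.leaf 0) (.leaf 0))) (.node (.node (.leaf 0) (.leaf 0)) (.node (.leaf 0) (.leaf 0))))) (.node (.node (.node (.node (.leaf 0) (.leaf 0)) (.node (.leaf 0) (.leaf 0))) (.node (.node (.leaf 0) (.leaf 0)) (.node (.leaf 0) (.leaf 0)))) (.node (.node (.node (.leaf 0) (.leaf 0)) (.node (.leaf 0) (.leaf 0))) (.node (.node (.leaf 0) (.leaf 0)) (.node (.leaf 0) (.leaf 0)))))) (.node (.node (.node (.node (.node (.leaf 0) (.leaf 0)) (.node (.leaf 0) (.leaf 0))) (.node (.node (.leaf 0) (.leaf 0))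 (.node (.leaf 0) (.leaf 0)))) (.node (.node (.node (.leaf 0) (.leaf 0)) (.node (.leaf 0) (.leaf 0))) (.node (.node (.leaf 0) (.leaf 0)) (.node (.leaf 0) (.leaf 0))))) (.node (.node (.node (.node (.leaf 0) (.leaf 0)) (.node (.leaf 0) (.leaf 0))) (.node (.node (.leaf 0) (.leaf 0)) (.node (.leaf 0) (.leaf 0)))) (.node (.node (.node (.leaf 0) (.leaf 0)) (.node (.leaf 0) (.leaf 0))) (.node (.node (.leaf 0) (.leaf 0)) (.node (.leaf 0) (.leaf 0)))))))

/-- How a representative arises, part 414. -/
def tInfoPart414 : Janko1.Tree ℕ := (.node (.node (.node (.node (.node (.node (.leaf 0) (.leaf 0)) (.node (.leaf 0) (.leaf 0))) (.node (.node (.leaf 0) (.leaf 0)) (.node (.leaf 0) (.leaf 0)))) (.node (.node (.node (.leaf 0) (.leaf 0)) (.node (.leaf 0) (.leaf 0))) (.node (.node (.leaf 0) (.leaf 0)) (.node (.leaf 0) (.leaf 0))))) (.node (.node (.node (.node (.leaf 0) (.leaf 0)) (.node (.leaf 0) (.leaf 0))) (.node (.node (.leaf 0) (.leaf 0)) (.node (.leaf 0) (.leaf 0)))) (.node (.node (.node (.leaf 0) (.leaf 0)) (.node (.leaf 0) (.leaf 0))) (.node (.node (.leaf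 0) (.leaf 0)) (.node (.leaf 0) (.leaf 0)))))) (.node (.node (.node (.node (.node (.leaf 0) (.leaf 0)) (.node (.leaf 0) (.leaf 0))) (.node (.node (.leaf 0) (.leaf 0)) (.node (.leaf 0) (.leaf 0)))) (.node (.node (.node (.leaf 0) (.leaf 0)) (.node (.leaf 0) (.leaf 0))) (.node (.node (.leaf 0) (.leaf 0)) (.node (.leaf 0) (.leaf 0))))) (.node (.node (.node (.node (.leaf 0) (.leaf 0)) (.node (.leaf 0) (.leaf 0))) (.node (.node (.leaf 0) (.leaf 0)) (.node (.leaf 0) (.leaf 0)))) (.node (.node (.node (.leaf 0) (.leaf 0)) (.node (.leaf 0) (.leaf 0))) (.node (.node (.leaf 0) (.leaf 0)) (.node (.leaf 0) (.leaf 0)))))))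

/-- How a representative arises, part 415. -/
def tInfoPart415 : Janko1.Tree ℕ := (.node (.node (.node (.node (.node (.node (.leaf 0) (.leaf 0)) (.node (.leaf 0) (.leaf 0))) (.node (.node (.leaf 0) (.leaf 0)) (.node (.leaf 0) (.leaf 0)))) (.node (.node (.node (.leaf 0) (.leaf 0)) (.node (.leaf 0) (.leaf 0))) (.node (.node (.leaf 0) (.leaf 0)) (.node (.leaf 0) (.leaf 0))))) (.node (.node (.node (.node (.leaf 0) (.leaf 0)) (.node (.leaf 0) (.leaf 0))) (.node (.node (.leaf 0) (.leaf 0)) (.node (.leaf 0) (.leaf 0)))) (.node (.node (.node (.leaf 0) (.leaf 0)) (.node (.leaf 0) (.leaf 0))) (.node (.node (.leaf 0) (.leaf 0)) (.node (.leaf 0) (.leaf 0)))))) (.node (.node (.node (.node (.node (.leaf 0) (.leaf 0)) (.node (.leaf 0) (.leaf 0))) (.node (.node (.leaf 0) (.leaf 0)) (.node (.leaf 0) (.leaf 0)))) (.node (.node (.node (.leaf 0) (.leaf 0)) (.node (.leaf 0) (.leaf 0))) (.node (.node (.leaf 0) (.leaf 0)) (.node (.leaf 0) (.leaf 0))))) (.node (.node (.node (.node (.leaf 0) (.leaf 0)) (.node (.leaf 0) (.leaf 0))) (.node (.node (.leaf 0) (.leaf 0))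 (.node (.leaf 0) (.leaf 0)))) (.node (.node (.node (.leaf 0) (.leaf 0)) (.node (.leaf 0) (.leaf 0))) (.node (.node (.leaf 0) (.leaf 0)) (.node (.leaf 0) (.leaf 0)))))))

/-- How a representative arises, part 416. -/
def tInfoPart416 : Janko1.Tree ℕ := (.node (.node (.node (.node (.node (.node (.leaf 0) (.leaf 0)) (.node (.leaf 0) (.leaf 0))) (.node (.node (.leaf 0) (.leaf 0)) (.node (.leaf 0) (.leaf 0)))) (.node (.node (.node (.leaf 0) (.leaf 0)) (.node (.leaf 0) (.leaf 0))) (.node (.node (.leaf 0) (.leaf 0)) (.node (.leaf 0) (.leaf 0))))) (.node (.node (.node (.node (.leaf 0) (.leaf 0)) (.node (.leaf 0) (.leaf 0))) (.node (.node (.leaf 0) (.leaf 0)) (.node (.leaf 0) (.leaf 0)))) (.node (.node (.node (.leaf 0) (.leaf 0)) (.node (.leaf 0) (.leaf 0))) (.node (.node (.leaf 0) (.leaf 0)) (.node (.leaf 0) (.leaf 0)))))) (.node (.node (.node (.node (.node (.leaf 0) (.leaf 0)) (.node (.leaf 0) (.leaf 0))) (.node (.node (.leaf 0) (.leaf 0)) (.node (.leaf 0) (.leaf 0)))) (.node (.node (.node (.leaf 0) (.leaf 0)) (.node (.leaf 0) (.leaf 0))) (.node (.node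 (.leaf 0) (.leaf 0)) (.node (.leaf 0) (.leaf 0))))) (.node (.node (.node (.node (.leaf 0) (.leaf 0)) (.node (.leaf 0) (.leaf 0))) (.node (.node (.leaf 0) (.leaf 0)) (.node (.leaf 0) (.leaf 0)))) (.node (.node (.node (.leaf 0) (.leaf 0)) (.node (.leaf 0) (.leaf 0))) (.node (.node (.leaf 0) (.leaf 0)) (.node (.leaf 0) (.leaf 0)))))))

/-- How a representative arises, part 417. -/
def tInfoPart417 : Janko1.Tree ℕ := (.node (.node (.node (.node (.node (.node (.leaf 0) (.leaf 0)) (.node (.leaf 0) (.leaf 0))) (.node (.node (.leaf 0) (.leaf 0)) (.node (.leaf 0) (.leaf 0)))) (.node (.node (.node (.leaf 0) (.leaf 0)) (.node (.leaf 0) (.leaf 0))) (.node (.node (.leaf 0) (.leaf 0)) (.node (.leaf 0) (.leaf 0))))) (.node (.node (.node (.node (.leaf 0) (.leaf 0)) (.node (.leaf 0) (.leaf 0))) (.node (.node (.leaf 0) (.leaf 0)) (.node (.leaf 0) (.leaf 0)))) (.node (.node (.node (.leaf 0) (.leaf 0)) (.node (.leaf 0) (.leaf 0))) (.node (.node (.leaf 0) (.leaf 0)) (.node (.leaf 0) (.leaf 0)))))) (.node (.node (.node (.node (.node (.leaf 0) (.leaf 0)) (.node (.leaf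 0) (.leaf 0))) (.node (.node (.leaf 0) (.leaf 0)) (.node (.leaf 0) (.leaf 0)))) (.node (.node (.node (.leaf 0) (.leaf 0)) (.node (.leaf 0) (.leaf 0))) (.node (.node (.leaf 0) (.leaf 0)) (.node (.leaf 0) (.leaf 0))))) (.node (.node (.node (.node (.leaf 0) (.leaf 0)) (.node (.leaf 0) (.leaf 0))) (.node (.node (.leaf 0) (.leaf 0)) (.node (.leaf 0) (.leaf 0)))) (.node (.node (.node (.leaf 0) (.leaf 0)) (.node (.leaf 0) (.leaf 0))) (.node (.node (.leaf 0) (.leaf 0)) (.node (.leaf 0) (.leaf 0)))))))

/-- How a representative arises, part 418. -/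
def tInfoPart418 : Janko1.Tree ℕ := (.node (.node (.node (.node (.node (.node (.leaf 0) (.leaf 0)) (.node (.leaf 0) (.leaf 0))) (.node (.node (.leaf 0) (.leaf 0)) (.node (.leaf 0) (.leaf 0)))) (.node (.node (.node (.leaf 0) (.leaf 0)) (.node (.leaf 0) (.leaf 0))) (.node (.node (.leaf 0) (.leaf 0)) (.node (.leaf 0) (.leaf 0))))) (.node (.node (.node (.node (.leaf 0) (.leaf 0)) (.node (.leaf 0) (.leaf 0))) (.node (.node (.leaf 0) (.leaf 0)) (.node (.leaf 0) (.leaf 0)))) (.node (.node (.node (.leaf 0) (.leaf 0)) (.node (.leaf 0) (.leaf 0))) (.node (.node (.leaf 0) (.leaf 0)) (.node (.leaf 0) (.leaf 0)))))) (.node (.node (.node (.node (.node (.leaf 0) (.leaf 0)) (.node (.leaf 0) (.leaf 0))) (.node (.node (.leaf 0) (.leaf 0)) (.node (.leaf 0) (.leaf 0)))) (.node (.node (.node (.leaf 0) (.leaf 0)) (.node (.leaf 0) (.leaf 0))) (.node (.node (.leaf 0) (.leaf 0)) (.node (.leaf 0) (.leaf 0))))) (.node (.node (.node (.node (.leaf 0) (.leaf 0)) (.node (.leaf 0) (.leaf 0))) (.node (.node (.leaf 0) (.leaf 0)) (.node (.leaf 0) (.leaf 0)))) (.node (.node (.node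 (.leaf 0) (.leaf 0)) (.node (.leaf 0) (.leaf 0))) (.node (.node (.leaf 0) (.leaf 0)) (.node (.leaf 0) (.leaf 0)))))))

/-- How a representative arises, part 419. -/
def tInfoPart419 : Janko1.Tree ℕ := (.node (.node (.node (.node (.node (.node (.leaf 0) (.leaf 0)) (.node (.leaf 0) (.leaf 0))) (.node (.node (.leaf 0) (.leaf 0)) (.node (.leaf 0) (.leaf 0)))) (.node (.node (.node (.leaf 0) (.leaf 0)) (.node (.leaf 0) (.leaf 0))) (.node (.node (.leaf 0) (.leaf 0)) (.node (.leaf 0) (.leaf 0))))) (.node (.node (.node (.node (.leaf 0) (.leaf 0)) (.node (.leaf 0) (.leaf 0))) (.node (.node (.leaf 0) (.leaf 0)) (.node (.leaf 0) (.leaf 0)))) (.node (.node (.node (.leaf 0) (.leaf 0)) (.node (.leaf 0) (.leaf 0))) (.node (.node (.leaf 0) (.leaf 0)) (.node (.leaf 0) (.leaf 0)))))) (.node (.node (.node (.node (.node (.leaf 0) (.leaf 0)) (.node (.leaf 0) (.leaf 0))) (.node (.node (.leaf 0) (.leaf 0)) (.node (.leaf 0) (.leaf 0)))) (.node (.node (.node (.leaf 0) (.leaf 0)) (.node (.leaf 0) (.leaf 0))) (.node (.node (.leaf 0) (.leaf 0)) (.node (.leaf 0) (.leaf 0)))))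 (.node (.node (.node (.node (.leaf 0) (.leaf 0)) (.node (.leaf 0) (.leaf 0))) (.node (.node (.leaf 0) (.leaf 0)) (.node (.leaf 0) (.leaf 0)))) (.node (.node (.node (.leaf 0) (.leaf 0)) (.node (.leaf 0) (.leaf 0))) (.node (.node (.leaf 0) (.leaf 0)) (.node (.leaf 0) (.leaf 0)))))))

/-- How a representative arises, part 420. -/
def tInfoPart420 : Janko1.Tree ℕ := (.node (.node (.node (.node (.node (.node (.leaf 0) (.leaf 0)) (.node (.leaf 0) (.leaf 0))) (.node (.node (.leaf 0) (.leaf 0)) (.node (.leaf 0) (.leaf 0)))) (.node (.node (.node (.leaf 0) (.leaf 0)) (.node (.leaf 0) (.leaf 0))) (.node (.node (.leaf 0) (.leaf 0)) (.node (.leaf 0) (.leaf 0))))) (.node (.node (.node (.node (.leaf 0) (.leaf 0)) (.node (.leaf 0) (.leaf 0))) (.node (.node (.leaf 0) (.leaf 0)) (.node (.leaf 0) (.leaf 0)))) (.node (.node (.node (.leaf 0) (.leaf 0)) (.node (.leaf 0) (.leaf 0))) (.node (.node (.leaf 0) (.leaf 0)) (.node (.leaf 0) (.leaf 0)))))) (.node (.node (.node (.node (.node (.leaf 0) (.leaf 0)) (.node (.leaf 0) (.leaf 0))) (.node (.node (.leaf 0) (.leaf 0))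 (.node (.leaf 0) (.leaf 0)))) (.node (.node (.node (.leaf 0) (.leaf 0)) (.node (.leaf 0) (.leaf 0))) (.node (.node (.leaf 0) (.leaf 0)) (.node (.leaf 0) (.leaf 0))))) (.node (.node (.node (.node (.leaf 0) (.leaf 0)) (.node (.leaf 0) (.leaf 0))) (.node (.node (.leaf 0) (.leaf 0)) (.node (.leaf 0) (.leaf 0)))) (.node (.node (.node (.leaf 0) (.leaf 0)) (.node (.leaf 0) (.leaf 0))) (.node (.node (.leaf 0) (.leaf 0)) (.node (.leaf 0) (.leaf 0)))))))

/-- How a representative arises, part 421. -/
def tInfoPart421 : Janko1.Tree ℕ := (.node (.node (.node (.node (.node (.node (.leaf 0) (.leaf 0)) (.node (.leaf 0) (.leaf 0))) (.node (.node (.leaf 0) (.leaf 0)) (.node (.leaf 0) (.leaf 0)))) (.node (.node (.node (.leaf 0) (.leaf 0)) (.node (.leaf 0) (.leaf 0))) (.node (.node (.leaf 0) (.leaf 0)) (.node (.leaf 0) (.leaf 0))))) (.node (.node (.node (.node (.leaf 0) (.leaf 0)) (.node (.leaf 0) (.leaf 0))) (.node (.node (.leaf 0) (.leaf 0)) (.node (.leaf 0) (.leaf 0)))) (.node (.node (.node (.leaf 0) (.leaf 0)) (.node (.leaf 0) (.leaf 0))) (.node (.node (.leaf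 0) (.leaf 0)) (.node (.leaf 0) (.leaf 0)))))) (.node (.node (.node (.node (.node (.leaf 0) (.leaf 0)) (.node (.leaf 0) (.leaf 0))) (.node (.node (.leaf 0) (.leaf 0)) (.node (.leaf 0) (.leaf 0)))) (.node (.node (.node (.leaf 0) (.leaf 0)) (.node (.leaf 0) (.leaf 0))) (.node (.node (.leaf 0) (.leaf 0)) (.node (.leaf 0) (.leaf 0))))) (.node (.node (.node (.node (.leaf 0) (.leaf 0)) (.node (.leaf 0) (.leaf 0))) (.node (.node (.leaf 0) (.leaf 0)) (.node (.leaf 0) (.leaf 0)))) (.node (.node (.node (.leaf 0) (.leaf 0)) (.node (.leaf 0) (.leaf 0))) (.node (.node (.leaf 0) (.leaf 0)) (.node (.leaf 0) (.leaf 0)))))))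

/-- How a representative arises, part 422. -/
def tInfoPart422 : Janko1.Tree ℕ := (.node (.node (.node (.node (.node (.node (.leaf 0) (.leaf 0)) (.node (.leaf 0) (.leaf 0))) (.node (.node (.leaf 0) (.leaf 0)) (.node (.leaf 0) (.leaf 0)))) (.node (.node (.node (.leaf 0) (.leaf 0)) (.node (.leaf 0) (.leaf 0))) (.node (.node (.leaf 0) (.leaf 0)) (.node (.leaf 0) (.leaf 0))))) (.node (.node (.node (.node (.leaf 0) (.leaf 0)) (.node (.leaf 0) (.leaf 0))) (.node (.node (.leaf 0) (.leaf 0)) (.node (.leaf 0) (.leaf 0)))) (.node (.node (.node (.leaf 0) (.leaf 0)) (.node (.leaf 0) (.leaf 0))) (.node (.node (.leaf 0) (.leaf 0)) (.node (.leaf 0) (.leaf 0)))))) (.node (.node (.node (.node (.node (.leaf 0) (.leaf 0)) (.node (.leaf 0) (.leaf 0))) (.node (.node (.leaf 0) (.leaf 0)) (.node (.leaf 0) (.leaf 0)))) (.node (.node (.node (.leaf 0) (.leaf 0)) (.node (.leaf 0) (.leaf 0))) (.node (.node (.leaf 0) (.leaf 0)) (.node (.leaf 0) (.leaf 0))))) (.node (.node (.node (.node (.leaf 0) (.leaf 0)) (.node (.leaf 0) (.leaf 0))) (.node (.node (.leaf 0) (.leaf 0))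 (.node (.leaf 0) (.leaf 0)))) (.node (.node (.node (.leaf 0) (.leaf 0)) (.node (.leaf 0) (.leaf 0))) (.node (.node (.leaf 0) (.leaf 0)) (.node (.leaf 0) (.leaf 0)))))))

/-- How a representative arises, part 423. -/
def tInfoPart423 : Janko1.Tree ℕ := (.node (.node (.node (.node (.node (.node (.leaf 0) (.leaf 0)) (.node (.leaf 0) (.leaf 0))) (.node (.node (.leaf 0) (.leaf 0)) (.node (.leaf 0) (.leaf 0)))) (.node (.node (.node (.leaf 0) (.leaf 0)) (.node (.leaf 0) (.leaf 0))) (.node (.node (.leaf 0) (.leaf 0)) (.node (.leaf 0) (.leaf 0))))) (.node (.node (.node (.node (.leaf 0) (.leaf 0)) (.node (.leaf 0) (.leaf 0))) (.node (.node (.leaf 0) (.leaf 0)) (.node (.leaf 0) (.leaf 0)))) (.node (.node (.node (.leaf 0) (.leaf 0)) (.node (.leaf 0) (.leaf 0))) (.node (.node (.leaf 0) (.leaf 0)) (.node (.leaf 0) (.leaf 0)))))) (.node (.node (.node (.node (.node (.leaf 0) (.leaf 0)) (.node (.leaf 0) (.leaf 0))) (.node (.node (.leaf 0) (.leaf 0)) (.node (.leaf 0) (.leaf 0)))) (.node (.node (.node (.leaf 0) (.leaf 0)) (.node (.leaf 0) (.leaf 0))) (.node (.node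 (.leaf 0) (.leaf 0)) (.node (.leaf 0) (.leaf 0))))) (.node (.node (.node (.node (.leaf 0) (.leaf 0)) (.node (.leaf 0) (.leaf 0))) (.node (.node (.leaf 0) (.leaf 0)) (.node (.leaf 0) (.leaf 0)))) (.node (.node (.node (.leaf 0) (.leaf 0)) (.node (.leaf 0) (.leaf 0))) (.node (.node (.leaf 0) (.leaf 0)) (.node (.leaf 0) (.leaf 0)))))))

/-- How a representative arises, part 424. -/
def tInfoPart424 : Janko1.Tree ℕ := (.node (.node (.node (.node (.node (.node (.leaf 0) (.leaf 0)) (.node (.leaf 0) (.leaf 0))) (.node (.node (.leaf 0) (.leaf 0)) (.node (.leaf 0) (.leaf 0)))) (.node (.node (.node (.leaf 0) (.leaf 0)) (.node (.leaf 0) (.leaf 0))) (.node (.node (.leaf 0) (.leaf 0)) (.node (.leaf 0) (.leaf 0))))) (.node (.node (.node (.node (.leaf 0) (.leaf 0)) (.node (.leaf 0) (.leaf 0))) (.node (.node (.leaf 0) (.leaf 0)) (.node (.leaf 0) (.leaf 0)))) (.node (.node (.node (.leaf 0) (.leaf 0)) (.node (.leaf 0) (.leaf 0))) (.node (.node (.leaf 0) (.leaf 0)) (.node (.leaf 0) (.leaf 0)))))) (.node (.node (.node (.node (.node (.leaf 0) (.leaf 0)) (.node (.leaf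 0) (.leaf 0))) (.node (.node (.leaf 0) (.leaf 0)) (.node (.leaf 0) (.leaf 0)))) (.node (.node (.node (.leaf 0) (.leaf 0)) (.node (.leaf 0) (.leaf 0))) (.node (.node (.leaf 0) (.leaf 0)) (.node (.leaf 0) (.leaf 0))))) (.node (.node (.node (.node (.leaf 0) (.leaf 0)) (.node (.leaf 0) (.leaf 0))) (.node (.node (.leaf 0) (.leaf 0)) (.node (.leaf 0) (.leaf 0)))) (.node (.node (.node (.leaf 0) (.leaf 0)) (.node (.leaf 0) (.leaf 0))) (.node (.node (.leaf 0) (.leaf 0)) (.node (.leaf 0) (.leaf 0)))))))

/-- How a representative arises, part 425. -/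
def tInfoPart425 : Janko1.Tree ℕ := (.node (.node (.node (.node (.node (.node (.leaf 0) (.leaf 0)) (.node (.leaf 0) (.leaf 0))) (.node (.node (.leaf 0) (.leaf 0)) (.node (.leaf 0) (.leaf 0)))) (.node (.node (.node (.leaf 0) (.leaf 0)) (.node (.leaf 0) (.leaf 0))) (.node (.node (.leaf 0) (.leaf 0)) (.node (.leaf 0) (.leaf 0))))) (.node (.node (.node (.node (.leaf 0) (.leaf 0)) (.node (.leaf 0) (.leaf 0))) (.node (.node (.leaf 0) (.leaf 0)) (.node (.leaf 0) (.leaf 0)))) (.node (.node (.node (.leaf 0) (.leaf 0)) (.node (.leaf 0) (.leaf 0))) (.node (.node (.leaf 0) (.leaf 0)) (.node (.leaf 0) (.leaf 0)))))) (.node (.node (.node (.node (.node (.leaf 0) (.leaf 0)) (.node (.leaf 0) (.leaf 0))) (.node (.node (.leaf 0) (.leaf 0)) (.node (.leaf 0) (.leaf 0)))) (.node (.node (.node (.leaf 0) (.leaf 0)) (.node (.leaf 0) (.leaf 0))) (.node (.node (.leaf 0) (.leaf 0)) (.node (.leaf 0) (.leaf 0))))) (.node (.node (.node (.node (.leaf 0) (.leaf 0)) (.node (.leaf 0) (.leaf 0))) (.node (.node (.leaf 0) (.leaf 0)) (.node (.leaf 0) (.leaf 0)))) (.node (.node (.node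 (.leaf 0) (.leaf 0)) (.node (.leaf 0) (.leaf 0))) (.node (.node (.leaf 0) (.leaf 0)) (.node (.leaf 0) (.leaf 0)))))))

/-- How a representative arises, part 426. -/
def tInfoPart426 : Janko1.Tree ℕ := (.node (.node (.node (.node (.node (.node (.leaf 0) (.leaf 0)) (.node (.leaf 0) (.leaf 0))) (.node (.node (.leaf 0) (.leaf 0)) (.node (.leaf 0) (.leaf 0)))) (.node (.node (.node (.leaf 0) (.leaf 0)) (.node (.leaf 0) (.leaf 0))) (.node (.node (.leaf 0) (.leaf 0)) (.node (.leaf 0) (.leaf 0))))) (.node (.node (.node (.node (.leaf 0) (.leaf 0)) (.node (.leaf 0) (.leaf 0))) (.node (.node (.leaf 0) (.leaf 0)) (.node (.leaf 0) (.leaf 0)))) (.node (.node (.node (.leaf 0) (.leaf 0)) (.node (.leaf 0) (.leaf 0))) (.node (.node (.leaf 0) (.leaf 0)) (.node (.leaf 0) (.leaf 0)))))) (.node (.node (.node (.node (.node (.leaf 0) (.leaf 0)) (.node (.leaf 0) (.leaf 0))) (.node (.node (.leaf 0) (.leaf 0)) (.node (.leaf 0) (.leaf 0)))) (.node (.node (.node (.leaf 0) (.leaf 0)) (.node (.leaf 0) (.leaf 0))) (.node (.node (.leaf 0) (.leaf 0)) (.node (.leaf 0) (.leaf 0)))))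 (.node (.node (.node (.node (.leaf 0) (.leaf 0)) (.node (.leaf 0) (.leaf 0))) (.node (.node (.leaf 0) (.leaf 0)) (.node (.leaf 0) (.leaf 0)))) (.node (.node (.node (.leaf 0) (.leaf 0)) (.node (.leaf 0) (.leaf 0))) (.node (.node (.leaf 0) (.leaf 0)) (.node (.leaf 0) (.leaf 0)))))))

/-- How a representative arises, part 427. -/
def tInfoPart427 : Janko1.Tree ℕ := (.node (.node (.node (.node (.node (.node (.leaf 0) (.leaf 0)) (.node (.leaf 0) (.leaf 0))) (.node (.node (.leaf 0) (.leaf 0)) (.node (.leaf 0) (.leaf 0)))) (.node (.node (.node (.leaf 0) (.leaf 0)) (.node (.leaf 0) (.leaf 0))) (.node (.node (.leaf 0) (.leaf 0)) (.node (.leaf 0) (.leaf 0))))) (.node (.node (.node (.node (.leaf 0) (.leaf 0)) (.node (.leaf 0) (.leaf 0))) (.node (.node (.leaf 0) (.leaf 0)) (.node (.leaf 0) (.leaf 0)))) (.node (.node (.node (.leaf 0) (.leaf 0)) (.node (.leaf 0) (.leaf 0))) (.node (.node (.leaf 0) (.leaf 0)) (.node (.leaf 0) (.leaf 0)))))) (.node (.node (.node (.node (.node (.leaf 0) (.leaf 0)) (.node (.leaf 0) (.leaf 0))) (.node (.node (.leaf 0) (.leaf 0))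 (.node (.leaf 0) (.leaf 0)))) (.node (.node (.node (.leaf 0) (.leaf 0)) (.node (.leaf 0) (.leaf 0))) (.node (.node (.leaf 0) (.leaf 0)) (.node (.leaf 0) (.leaf 0))))) (.node (.node (.node (.node (.leaf 0) (.leaf 0)) (.node (.leaf 0) (.leaf 0))) (.node (.node (.leaf 0) (.leaf 0)) (.node (.leaf 0) (.leaf 0)))) (.node (.node (.node (.leaf 0) (.leaf 0)) (.node (.leaf 0) (.leaf 0))) (.node (.node (.leaf 0) (.leaf 0)) (.node (.leaf 0) (.leaf 0)))))))

/-- How a representative arises, part 428. -/
def tInfoPart428 : Janko1.Tree ℕ := (.node (.node (.node (.node (.node (.node (.leaf 0) (.leaf 0)) (.node (.leaf 0) (.leaf 0))) (.node (.node (.leaf 0) (.leaf 0)) (.node (.leaf 0) (.leaf 0)))) (.node (.node (.node (.leaf 0) (.leaf 0)) (.node (.leaf 0) (.leaf 0))) (.node (.node (.leaf 0) (.leaf 0)) (.node (.leaf 0) (.leaf 0))))) (.node (.node (.node (.node (.leaf 0) (.leaf 0)) (.node (.leaf 0) (.leaf 0))) (.node (.node (.leaf 0) (.leaf 0)) (.node (.leaf 0) (.leaf 0)))) (.node (.node (.node (.leaf 0) (.leaf 0)) (.node (.leaf 0) (.leaf 0))) (.node (.node (.leaf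 0) (.leaf 0)) (.node (.leaf 0) (.leaf 0)))))) (.node (.node (.node (.node (.node (.leaf 0) (.leaf 0)) (.node (.leaf 0) (.leaf 0))) (.node (.node (.leaf 0) (.leaf 0)) (.node (.leaf 0) (.leaf 0)))) (.node (.node (.node (.leaf 0) (.leaf 0)) (.node (.leaf 0) (.leaf 0))) (.node (.node (.leaf 0) (.leaf 0)) (.node (.leaf 0) (.leaf 0))))) (.node (.node (.node (.node (.leaf 0) (.leaf 0)) (.node (.leaf 0) (.leaf 0))) (.node (.node (.leaf 0) (.leaf 0)) (.node (.leaf 0) (.leaf 0)))) (.node (.node (.node (.leaf 0) (.leaf 0)) (.node (.leaf 0) (.leaf 0))) (.node (.node (.leaf 0) (.leaf 0)) (.node (.leaf 0) (.leaf 0)))))))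

/-- How a representative arises, part 429. -/
def tInfoPart429 : Janko1.Tree ℕ := (.node (.node (.node (.node (.node (.node (.leaf 0) (.leaf 0)) (.node (.leaf 0) (.leaf 0))) (.node (.node (.leaf 0) (.leaf 0)) (.node (.leaf 0) (.leaf 0)))) (.node (.node (.node (.leaf 0) (.leaf 0)) (.node (.leaf 0) (.leaf 0))) (.node (.node (.leaf 0) (.leaf 0)) (.node (.leaf 0) (.leaf 0))))) (.node (.node (.node (.node (.leaf 0) (.leaf 0)) (.node (.leaf 0) (.leaf 0))) (.node (.node (.leaf 0) (.leaf 0)) (.node (.leaf 0) (.leaf 0)))) (.node (.node (.node (.leaf 0) (.leaf 0)) (.node (.leaf 0) (.leaf 0))) (.node (.node (.leaf 0) (.leaf 0)) (.node (.leaf 0) (.leaf 0)))))) (.node (.node (.node (.node (.node (.leaf 0) (.leaf 0)) (.node (.leaf 0) (.leaf 0))) (.node (.node (.leaf 0) (.leaf 0)) (.node (.leaf 0) (.leaf 0)))) (.node (.node (.node (.leaf 0) (.leaf 0)) (.node (.leaf 0) (.leaf 0))) (.node (.node (.leaf 0) (.leaf 0)) (.node (.leaf 0) (.leaf 0))))) (.node (.node (.node (.node (.leaf 0) (.leaf 0)) (.node (.leaf 0) (.leaf 0))) (.node (.node (.leaf 0) (.leaf 0))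 (.node (.leaf 0) (.leaf 0)))) (.node (.node (.node (.leaf 0) (.leaf 0)) (.node (.leaf 0) (.leaf 0))) (.node (.node (.leaf 0) (.leaf 0)) (.node (.leaf 0) (.leaf 0)))))))

/-- How a representative arises, part 430. -/
def tInfoPart430 : Janko1.Tree ℕ := (.node (.node (.node (.node (.node (.node (.leaf 0) (.leaf 0)) (.node (.leaf 0) (.leaf 0))) (.node (.node (.leaf 0) (.leaf 0)) (.node (.leaf 0) (.leaf 0)))) (.node (.node (.node (.leaf 0) (.leaf 0)) (.node (.leaf 0) (.leaf 0))) (.node (.node (.leaf 0) (.leaf 0)) (.node (.leaf 0) (.leaf 0))))) (.node (.node (.node (.node (.leaf 0) (.leaf 0)) (.node (.leaf 0) (.leaf 0))) (.node (.node (.leaf 0) (.leaf 0)) (.node (.leaf 0) (.leaf 0)))) (.node (.node (.node (.leaf 0) (.leaf 0)) (.node (.leaf 0) (.leaf 0))) (.node (.node (.leaf 0) (.leaf 0)) (.node (.leaf 0) (.leaf 0)))))) (.node (.node (.node (.node (.node (.leaf 0) (.leaf 0)) (.node (.leaf 0) (.leaf 0))) (.node (.node (.leaf 0) (.leaf 0)) (.node (.leaf 0) (.leaf 0)))) (.node (.node (.node (.leaf 0) (.leaf 0)) (.node (.leaf 0) (.leaf 0))) (.node (.node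 (.leaf 0) (.leaf 0)) (.node (.leaf 0) (.leaf 0))))) (.node (.node (.node (.node (.leaf 0) (.leaf 0)) (.node (.leaf 0) (.leaf 0))) (.node (.node (.leaf 0) (.leaf 0)) (.node (.leaf 0) (.leaf 0)))) (.node (.node (.node (.leaf 0) (.leaf 0)) (.node (.leaf 0) (.leaf 0))) (.node (.node (.leaf 0) (.leaf 0)) (.node (.leaf 0) (.leaf 0)))))))

/-- How a representative arises, part 431. -/
def tInfoPart431 : Janko1.Tree ℕ := (.node (.node (.node (.node (.node (.node (.leaf 0) (.leaf 0)) (.node (.leaf 0) (.leaf 0))) (.node (.node (.leaf 0) (.leaf 0)) (.node (.leaf 0) (.leaf 0)))) (.node (.node (.node (.leaf 0) (.leaf 0)) (.node (.leaf 0) (.leaf 0))) (.node (.node (.leaf 0) (.leaf 0)) (.node (.leaf 0) (.leaf 0))))) (.node (.node (.node (.node (.leaf 0) (.leaf 0)) (.node (.leaf 0) (.leaf 0))) (.node (.node (.leaf 0) (.leaf 0)) (.node (.leaf 0) (.leaf 0)))) (.node (.node (.node (.leaf 0) (.leaf 0)) (.node (.leaf 0) (.leaf 0))) (.node (.node (.leaf 0) (.leaf 0)) (.node (.leaf 0) (.leaf 0)))))) (.node (.node (.node (.node (.node (.leaf 0) (.leaf 0)) (.node (.leaf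 0) (.leaf 0))) (.node (.node (.leaf 0) (.leaf 0)) (.node (.leaf 0) (.leaf 0)))) (.node (.node (.node (.leaf 0) (.leaf 0)) (.node (.leaf 0) (.leaf 0))) (.node (.node (.leaf 0) (.leaf 0)) (.node (.leaf 0) (.leaf 0))))) (.node (.node (.node (.node (.leaf 0) (.leaf 0)) (.node (.leaf 0) (.leaf 0))) (.node (.node (.leaf 0) (.leaf 0)) (.node (.leaf 0) (.leaf 0)))) (.node (.node (.node (.leaf 0) (.leaf 0)) (.node (.leaf 0) (.leaf 0))) (.node (.node (.leaf 0) (.leaf 0)) (.node (.leaf 0) (.leaf 0)))))))

/-- How a representative arises, part 432. -/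
def tInfoPart432 : Janko1.Tree ℕ := (.node (.node (.node (.node (.node (.node (.leaf 0) (.leaf 0)) (.node (.leaf 0) (.leaf 0))) (.node (.node (.leaf 0) (.leaf 0)) (.node (.leaf 0) (.leaf 0)))) (.node (.node (.node (.leaf 0) (.leaf 0)) (.node (.leaf 0) (.leaf 0))) (.node (.node (.leaf 0) (.leaf 0)) (.node (.leaf 0) (.leaf 0))))) (.node (.node (.node (.node (.leaf 0) (.leaf 0)) (.node (.leaf 0) (.leaf 0))) (.node (.node (.leaf 0) (.leaf 0)) (.node (.leaf 0) (.leaf 0)))) (.node (.node (.node (.leaf 0) (.leaf 0)) (.node (.leaf 0) (.leaf 0))) (.node (.node (.leaf 0) (.leaf 0)) (.node (.leaf 0) (.leaf 0)))))) (.node (.node (.node (.node (.node (.leaf 0) (.leaf 0)) (.node (.leaf 0) (.leaf 0))) (.node (.node (.leaf 0) (.leaf 0)) (.node (.leaf 0) (.leaf 0)))) (.node (.node (.node (.leaf 0) (.leaf 0)) (.node (.leaf 0) (.leaf 0))) (.node (.node (.leaf 0) (.leaf 0)) (.node (.leaf 0) (.leaf 0))))) (.node (.node (.node (.node (.leaf 0) (.leaf 0)) (.node (.leaf 0) (.leaf 0))) (.node (.node (.leaf 0) (.leaf 0)) (.node (.leaf 0) (.leaf 0)))) (.node (.node (.node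 (.leaf 0) (.leaf 0)) (.node (.leaf 0) (.leaf 0))) (.node (.node (.leaf 0) (.leaf 0)) (.node (.leaf 0) (.leaf 0)))))))

/-- How a representative arises, part 433. -/
def tInfoPart433 : Janko1.Tree ℕ := (.node (.node (.node (.node (.node (.node (.leaf 0) (.leaf 0)) (.node (.leaf 0) (.leaf 0))) (.node (.node (.leaf 0) (.leaf 0)) (.node (.leaf 0) (.leaf 0)))) (.node (.node (.node (.leaf 0) (.leaf 0)) (.node (.leaf 0) (.leaf 0))) (.node (.node (.leaf 0) (.leaf 0)) (.node (.leaf 0) (.leaf 0))))) (.node (.node (.node (.node (.leaf 0) (.leaf 0)) (.node (.leaf 0) (.leaf 0))) (.node (.node (.leaf 0) (.leaf 0)) (.node (.leaf 0) (.leaf 0)))) (.node (.node (.node (.leaf 0) (.leaf 0)) (.node (.leaf 0) (.leaf 0))) (.node (.node (.leaf 0) (.leaf 0)) (.node (.leaf 0) (.leaf 0)))))) (.node (.node (.node (.node (.node (.leaf 0) (.leaf 0)) (.node (.leaf 0) (.leaf 0))) (.node (.node (.leaf 0) (.leaf 0)) (.node (.leaf 0) (.leaf 0)))) (.node (.node (.node (.leaf 0) (.leaf 0)) (.node (.leaf 0) (.leaf 0))) (.node (.node (.leaf 0) (.leaf 0)) (.node (.leaf 0) (.leaf 0)))))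 (.node (.node (.node (.node (.leaf 0) (.leaf 0)) (.node (.leaf 0) (.leaf 0))) (.node (.node (.leaf 0) (.leaf 0)) (.node (.leaf 0) (.leaf 0)))) (.node (.node (.node (.leaf 0) (.leaf 0)) (.node (.leaf 0) (.leaf 0))) (.node (.node (.leaf 0) (.leaf 0)) (.node (.leaf 0) (.leaf 0)))))))

/-- How a representative arises, part 434. -/
def tInfoPart434 : Janko1.Tree ℕ := (.node (.node (.node (.node (.node (.node (.leaf 0) (.leaf 0)) (.node (.leaf 0) (.leaf 0))) (.node (.node (.leaf 0) (.leaf 0)) (.node (.leaf 0) (.leaf 0)))) (.node (.node (.node (.leaf 0) (.leaf 0)) (.node (.leaf 0) (.leaf 0))) (.node (.node (.leaf 0) (.leaf 0)) (.node (.leaf 0) (.leaf 0))))) (.node (.node (.node (.node (.leaf 0) (.leaf 0)) (.node (.leaf 0) (.leaf 0))) (.node (.node (.leaf 0) (.leaf 0)) (.node (.leaf 0) (.leaf 0)))) (.node (.node (.node (.leaf 0) (.leaf 0)) (.node (.leaf 0) (.leaf 0))) (.node (.node (.leaf 0) (.leaf 0)) (.node (.leaf 0) (.leaf 0)))))) (.node (.node (.node (.node (.node (.leaf 0) (.leaf 0)) (.node (.leaf 0) (.leaf 0))) (.node (.node (.leaf 0) (.leaf 0))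 (.node (.leaf 0) (.leaf 0)))) (.node (.node (.node (.leaf 0) (.leaf 0)) (.node (.leaf 0) (.leaf 0))) (.node (.node (.leaf 0) (.leaf 0)) (.node (.leaf 0) (.leaf 0))))) (.node (.node (.node (.node (.leaf 0) (.leaf 0)) (.node (.leaf 0) (.leaf 0))) (.node (.node (.leaf 0) (.leaf 0)) (.node (.leaf 0) (.leaf 0)))) (.node (.node (.node (.leaf 0) (.leaf 0)) (.node (.leaf 0) (.leaf 0))) (.node (.node (.leaf 0) (.leaf 0)) (.node (.leaf 0) (.leaf 0)))))))

/-- How a representative arises, part 435. -/
def tInfoPart435 : Janko1.Tree ℕ := (.node (.node (.node (.node (.node (.node (.leaf 0) (.leaf 0)) (.node (.leaf 0) (.leaf 0))) (.node (.node (.leaf 0) (.leaf 0)) (.node (.leaf 0) (.leaf 0)))) (.node (.node (.node (.leaf 0) (.leaf 0)) (.node (.leaf 0) (.leaf 0))) (.node (.node (.leaf 0) (.leaf 0)) (.node (.leaf 0) (.leaf 0))))) (.node (.node (.node (.node (.leaf 0) (.leaf 0)) (.node (.leaf 0) (.leaf 0))) (.node (.node (.leaf 0) (.leaf 0)) (.node (.leaf 0) (.leaf 0)))) (.node (.node (.node (.leaf 0) (.leaf 0)) (.node (.leaf 0) (.leaf 0))) (.node (.node (.leaf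 0) (.leaf 0)) (.node (.leaf 0) (.leaf 0)))))) (.node (.node (.node (.node (.node (.leaf 0) (.leaf 0)) (.node (.leaf 0) (.leaf 0))) (.node (.node (.leaf 0) (.leaf 0)) (.node (.leaf 0) (.leaf 0)))) (.node (.node (.node (.leaf 0) (.leaf 0)) (.node (.leaf 0) (.leaf 0))) (.node (.node (.leaf 0) (.leaf 0)) (.node (.leaf 0) (.leaf 0))))) (.node (.node (.node (.node (.leaf 0) (.leaf 0)) (.node (.leaf 0) (.leaf 0))) (.node (.node (.leaf 0) (.leaf 0)) (.node (.leaf 0) (.leaf 0)))) (.node (.node (.node (.leaf 0) (.leaf 0)) (.node (.leaf 0) (.leaf 0))) (.node (.node (.leaf 0) (.leaf 0)) (.node (.leaf 0) (.leaf 0)))))))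

/-- How a representative arises, part 436. -/
def tInfoPart436 : Janko1.Tree ℕ := (.node (.node (.node (.node (.node (.node (.leaf 0) (.leaf 0)) (.node (.leaf 0) (.leaf 0))) (.node (.node (.leaf 0) (.leaf 0)) (.node (.leaf 0) (.leaf 0)))) (.node (.node (.node (.leaf 0) (.leaf 0)) (.node (.leaf 0) (.leaf 0))) (.node (.node (.leaf 0) (.leaf 0)) (.node (.leaf 0) (.leaf 0))))) (.node (.node (.node (.node (.leaf 0) (.leaf 0)) (.node (.leaf 0) (.leaf 0))) (.node (.node (.leaf 0) (.leaf 0)) (.node (.leaf 0) (.leaf 0)))) (.node (.node (.node (.leaf 0) (.leaf 0)) (.node (.leaf 0) (.leaf 0))) (.node (.node (.leaf 0) (.leaf 0)) (.node (.leaf 0) (.leaf 0)))))) (.node (.node (.node (.node (.node (.leaf 0) (.leaf 0)) (.node (.leaf 0) (.leaf 0))) (.node (.node (.leaf 0) (.leaf 0)) (.node (.leaf 0) (.leaf 0)))) (.node (.node (.node (.leaf 0) (.leaf 0)) (.node (.leaf 0) (.leaf 0))) (.node (.node (.leaf 0) (.leaf 0)) (.node (.leaf 0) (.leaf 0))))) (.node (.node (.node (.node (.leaf 0) (.leaf 0)) (.node (.leaf 0) (.leaf 0))) (.node (.node (.leaf 0) (.leaf 0))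 (.node (.leaf 0) (.leaf 0)))) (.node (.node (.node (.leaf 0) (.leaf 0)) (.node (.leaf 0) (.leaf 0))) (.node (.node (.leaf 0) (.leaf 0)) (.node (.leaf 0) (.leaf 0)))))))

/-- How a representative arises, part 437. -/
def tInfoPart437 : Janko1.Tree ℕ := (.node (.node (.node (.node (.node (.node (.leaf 0) (.leaf 0)) (.node (.leaf 0) (.leaf 0))) (.node (.node (.leaf 0) (.leaf 0)) (.node (.leaf 0) (.leaf 0)))) (.node (.node (.node (.leaf 0) (.leaf 0)) (.node (.leaf 0) (.leaf 0))) (.node (.node (.leaf 0) (.leaf 0)) (.node (.leaf 0) (.leaf 0))))) (.node (.node (.node (.node (.leaf 0) (.leaf 0)) (.node (.leaf 0) (.leaf 0))) (.node (.node (.leaf 0) (.leaf 0)) (.node (.leaf 0) (.leaf 0)))) (.node (.node (.node (.leaf 0) (.leaf 0)) (.node (.leaf 0) (.leaf 0))) (.node (.node (.leaf 0) (.leaf 0)) (.node (.leaf 0) (.leaf 0)))))) (.node (.node (.node (.node (.node (.leaf 0) (.leaf 0)) (.node (.leaf 0) (.leaf 0))) (.node (.node (.leaf 0) (.leaf 0)) (.node (.leaf 0) (.leaf 0)))) (.node (.node (.node (.leaf 0) (.leaf 0)) (.node (.leaf 0) (.leaf 0))) (.node (.node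 (.leaf 0) (.leaf 0)) (.node (.leaf 0) (.leaf 0))))) (.node (.node (.node (.node (.leaf 0) (.leaf 0)) (.node (.leaf 0) (.leaf 0))) (.node (.node (.leaf 0) (.leaf 0)) (.node (.leaf 0) (.leaf 0)))) (.node (.node (.node (.leaf 0) (.leaf 0)) (.node (.leaf 0) (.leaf 0))) (.node (.node (.leaf 0) (.leaf 0)) (.node (.leaf 0) (.leaf 0)))))))

/-- How a representative arises, part 438. -/
def tInfoPart438 : Janko1.Tree ℕ := (.node (.node (.node (.node (.node (.node (.leaf 0) (.leaf 0)) (.node (.leaf 0) (.leaf 0))) (.node (.node (.leaf 0) (.leaf 0)) (.node (.leaf 0) (.leaf 0)))) (.node (.node (.node (.leaf 0) (.leaf 0)) (.node (.leaf 0) (.leaf 0))) (.node (.node (.leaf 0) (.leaf 0)) (.node (.leaf 0) (.leaf 0))))) (.node (.node (.node (.node (.leaf 0) (.leaf 0)) (.node (.leaf 0) (.leaf 0))) (.node (.node (.leaf 0) (.leaf 0)) (.node (.leaf 0) (.leaf 0)))) (.node (.node (.node (.leaf 0) (.leaf 0)) (.node (.leaf 0) (.leaf 0))) (.node (.node (.leaf 0) (.leaf 0)) (.node (.leaf 0) (.leaf 0)))))) (.node (.node (.node (.node (.node (.leaf 0) (.leaf 0)) (.node (.leaf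 0) (.leaf 0))) (.node (.node (.leaf 0) (.leaf 0)) (.node (.leaf 0) (.leaf 0)))) (.node (.node (.node (.leaf 0) (.leaf 0)) (.node (.leaf 0) (.leaf 0))) (.node (.node (.leaf 0) (.leaf 0)) (.node (.leaf 0) (.leaf 0))))) (.node (.node (.node (.node (.leaf 0) (.leaf 0)) (.node (.leaf 0) (.leaf 0))) (.node (.node (.leaf 0) (.leaf 0)) (.node (.leaf 0) (.leaf 0)))) (.node (.node (.node (.leaf 0) (.leaf 0)) (.node (.leaf 0) (.leaf 0))) (.node (.node (.leaf 0) (.leaf 0)) (.node (.leaf 0) (.leaf 0)))))))

/-- How a representative arises, part 439. -/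
def tInfoPart439 : Janko1.Tree ℕ := (.node (.node (.node (.node (.node (.node (.leaf 0) (.leaf 0)) (.node (.leaf 0) (.leaf 0))) (.node (.node (.leaf 0) (.leaf 0)) (.node (.leaf 0) (.leaf 0)))) (.node (.node (.node (.leaf 0) (.leaf 0)) (.node (.leaf 0) (.leaf 0))) (.node (.node (.leaf 0) (.leaf 0)) (.node (.leaf 0) (.leaf 0))))) (.node (.node (.node (.node (.leaf 0) (.leaf 0)) (.node (.leaf 0) (.leaf 0))) (.node (.node (.leaf 0) (.leaf 0)) (.node (.leaf 0) (.leaf 0)))) (.node (.node (.node (.leaf 0) (.leaf 0)) (.node (.leaf 0) (.leaf 0))) (.node (.node (.leaf 0) (.leaf 0)) (.node (.leaf 0) (.leaf 0)))))) (.node (.node (.node (.node (.node (.leaf 0) (.leaf 0)) (.node (.leaf 0) (.leaf 0))) (.node (.node (.leaf 0) (.leaf 0)) (.node (.leaf 0) (.leaf 0)))) (.node (.node (.node (.leaf 0) (.leaf 0)) (.node (.leaf 0) (.leaf 0))) (.node (.node (.leaf 0) (.leaf 0)) (.node (.leaf 0) (.leaf 0))))) (.node (.node (.node (.node (.leaf 0) (.leaf 0)) (.node (.leaf 0) (.leaf 0))) (.node (.node (.leaf 0) (.leaf 0)) (.node (.leaf 0) (.leaf 0)))) (.node (.node (.node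 (.leaf 0) (.leaf 0)) (.node (.leaf 0) (.leaf 0))) (.node (.node (.leaf 0) (.leaf 0)) (.node (.leaf 0) (.leaf 0)))))))

/-- How a representative arises, part 440. -/
def tInfoPart440 : Janko1.Tree ℕ := (.node (.node (.node (.node (.node (.node (.leaf 0) (.leaf 0)) (.node (.leaf 0) (.leaf 0))) (.node (.node (.leaf 0) (.leaf 0)) (.node (.leaf 0) (.leaf 0)))) (.node (.node (.node (.leaf 0) (.leaf 0)) (.node (.leaf 0) (.leaf 0))) (.node (.node (.leaf 0) (.leaf 0)) (.node (.leaf 0) (.leaf 0))))) (.node (.node (.node (.node (.leaf 0) (.leaf 0)) (.node (.leaf 0) (.leaf 0))) (.node (.node (.leaf 0) (.leaf 0)) (.node (.leaf 0) (.leaf 0)))) (.node (.node (.node (.leaf 0) (.leaf 0)) (.node (.leaf 0) (.leaf 0))) (.node (.node (.leaf 0) (.leaf 0)) (.node (.leaf 0) (.leaf 0)))))) (.node (.node (.node (.node (.node (.leaf 0) (.leaf 0)) (.node (.leaf 0) (.leaf 0))) (.node (.node (.leaf 0) (.leaf 0)) (.node (.leaf 0) (.leaf 0)))) (.node (.node (.node (.leaf 0) (.leaf 0)) (.node (.leaf 0) (.leaf 0))) (.node (.node (.leaf 0) (.leaf 0)) (.node (.leaf 0) (.leaf 0)))))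 (.node (.node (.node (.node (.leaf 0) (.leaf 0)) (.node (.leaf 0) (.leaf 0))) (.node (.node (.leaf 0) (.leaf 0)) (.node (.leaf 0) (.leaf 0)))) (.node (.node (.node (.leaf 0) (.leaf 0)) (.node (.leaf 0) (.leaf 0))) (.node (.node (.leaf 0) (.leaf 0)) (.node (.leaf 0) (.leaf 0)))))))

/-- How a representative arises, part 441. -/
def tInfoPart441 : Janko1.Tree ℕ := (.node (.node (.node (.node (.node (.node (.leaf 0) (.leaf 0)) (.node (.leaf 0) (.leaf 0))) (.node (.node (.leaf 0) (.leaf 0)) (.node (.leaf 0) (.leaf 0)))) (.node (.node (.node (.leaf 0) (.leaf 0)) (.node (.leaf 0) (.leaf 0))) (.node (.node (.leaf 0) (.leaf 0)) (.node (.leaf 0) (.leaf 0))))) (.node (.node (.node (.node (.leaf 0) (.leaf 0)) (.node (.leaf 0) (.leaf 0))) (.node (.node (.leaf 0) (.leaf 0)) (.node (.leaf 0) (.leaf 0)))) (.node (.node (.node (.leaf 0) (.leaf 0)) (.node (.leaf 0) (.leaf 0))) (.node (.node (.leaf 0) (.leaf 0)) (.node (.leaf 0) (.leaf 0)))))) (.node (.node (.node (.node (.node (.leaf 0) (.leaf 0)) (.node (.leaf 0) (.leaf 0))) (.node (.node (.leaf 0) (.leaf 0))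 (.node (.leaf 0) (.leaf 0)))) (.node (.node (.node (.leaf 0) (.leaf 0)) (.node (.leaf 0) (.leaf 0))) (.node (.node (.leaf 0) (.leaf 0)) (.node (.leaf 0) (.leaf 0))))) (.node (.node (.node (.node (.leaf 0) (.leaf 0)) (.node (.leaf 0) (.leaf 0))) (.node (.node (.leaf 0) (.leaf 0)) (.node (.leaf 0) (.leaf 0)))) (.node (.node (.node (.leaf 0) (.leaf 0)) (.node (.leaf 0) (.leaf 0))) (.node (.node (.leaf 0) (.leaf 0)) (.node (.leaf 0) (.leaf 0)))))))

/-- How a representative arises, part 442. -/
def tInfoPart442 : Janko1.Tree ℕ := (.node (.node (.node (.node (.node (.node (.leaf 0) (.leaf 0)) (.node (.leaf 0) (.leaf 0))) (.node (.node (.leaf 0) (.leaf 0)) (.node (.leaf 0) (.leaf 0)))) (.node (.node (.node (.leaf 0) (.leaf 0)) (.node (.leaf 0) (.leaf 0))) (.node (.node (.leaf 0) (.leaf 0)) (.node (.leaf 0) (.leaf 0))))) (.node (.node (.node (.node (.leaf 0) (.leaf 0)) (.node (.leaf 0) (.leaf 0))) (.node (.node (.leaf 0) (.leaf 0)) (.node (.leaf 0) (.leaf 0)))) (.node (.node (.node (.leaf 0) (.leaf 0)) (.node (.leaf 0) (.leaf 0))) (.node (.node (.leaf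 0) (.leaf 0)) (.node (.leaf 0) (.leaf 0)))))) (.node (.node (.node (.node (.node (.leaf 0) (.leaf 0)) (.node (.leaf 0) (.leaf 0))) (.node (.node (.leaf 0) (.leaf 0)) (.node (.leaf 0) (.leaf 0)))) (.node (.node (.node (.leaf 0) (.leaf 0)) (.node (.leaf 0) (.leaf 0))) (.node (.node (.leaf 0) (.leaf 0)) (.node (.leaf 0) (.leaf 0))))) (.node (.node (.node (.node (.leaf 0) (.leaf 0)) (.node (.leaf 0) (.leaf 0))) (.node (.node (.leaf 0) (.leaf 0)) (.node (.leaf 0) (.leaf 0)))) (.node (.node (.node (.leaf 0) (.leaf 0)) (.node (.leaf 0) (.leaf 0))) (.node (.node (.leaf 0) (.leaf 0)) (.node (.leaf 0) (.leaf 0)))))))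

/-- How a representative arises, part 443. -/
def tInfoPart443 : Janko1.Tree ℕ := (.node (.node (.node (.node (.node (.node (.leaf 0) (.leaf 0)) (.node (.leaf 0) (.leaf 0))) (.node (.node (.leaf 0) (.leaf 0)) (.node (.leaf 0) (.leaf 0)))) (.node (.node (.node (.leaf 0) (.leaf 0)) (.node (.leaf 0) (.leaf 0))) (.node (.node (.leaf 0) (.leaf 0)) (.node (.leaf 0) (.leaf 0))))) (.node (.node (.node (.node (.leaf 0) (.leaf 0)) (.node (.leaf 0) (.leaf 0))) (.node (.node (.leaf 0) (.leaf 0)) (.node (.leaf 0) (.leaf 0)))) (.node (.node (.node (.leaf 0) (.leaf 0)) (.node (.leaf 0) (.leaf 0))) (.node (.node (.leaf 0) (.leaf 0)) (.node (.leaf 0) (.leaf 0)))))) (.node (.node (.node (.node (.node (.leaf 0) (.leaf 0)) (.node (.leaf 0) (.leaf 0))) (.node (.node (.leaf 0) (.leaf 0)) (.node (.leaf 0) (.leaf 0)))) (.node (.node (.node (.leaf 0) (.leaf 0)) (.node (.leaf 0) (.leaf 0))) (.node (.node (.leaf 0) (.leaf 0)) (.node (.leaf 0) (.leaf 0))))) (.node (.node (.node (.node (.leaf 0) (.leaf 0)) (.node (.leaf 0) (.leaf 0))) (.node (.node (.leaf 0) (.leaf 0))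 (.node (.leaf 0) (.leaf 0)))) (.node (.node (.node (.leaf 0) (.leaf 0)) (.node (.leaf 0) (.leaf 0))) (.node (.node (.leaf 0) (.leaf 0)) (.node (.leaf 0) (.leaf 0)))))))

/-- How a representative arises, part 444. -/
def tInfoPart444 : Janko1.Tree ℕ := (.node (.node (.node (.node (.node (.node (.leaf 0) (.leaf 0)) (.node (.leaf 0) (.leaf 0))) (.node (.node (.leaf 0) (.leaf 0)) (.node (.leaf 0) (.leaf 0)))) (.node (.node (.node (.leaf 0) (.leaf 0)) (.node (.leaf 0) (.leaf 0))) (.node (.node (.leaf 0) (.leaf 0)) (.node (.leaf 0) (.leaf 0))))) (.node (.node (.node (.node (.leaf 0) (.leaf 0)) (.node (.leaf 0) (.leaf 0))) (.node (.node (.leaf 0) (.leaf 0)) (.node (.leaf 0) (.leaf 0)))) (.node (.node (.node (.leaf 0) (.leaf 0)) (.node (.leaf 0) (.leaf 0))) (.node (.node (.leaf 0) (.leaf 0)) (.node (.leaf 0) (.leaf 0)))))) (.node (.node (.node (.node (.node (.leaf 0) (.leaf 0)) (.node (.leaf 0) (.leaf 0))) (.node (.node (.leaf 0) (.leaf 0)) (.node (.leaf 0) (.leaf 0)))) (.node (.node (.node (.leaf 0) (.leaf 0)) (.node (.leaf 0) (.leaf 0))) (.node (.node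 (.leaf 0) (.leaf 0)) (.node (.leaf 0) (.leaf 0))))) (.node (.node (.node (.node (.leaf 0) (.leaf 0)) (.node (.leaf 0) (.leaf 0))) (.node (.node (.leaf 0) (.leaf 0)) (.node (.leaf 0) (.leaf 0)))) (.node (.node (.node (.leaf 0) (.leaf 0)) (.node (.leaf 0) (.leaf 0))) (.node (.node (.leaf 0) (.leaf 0)) (.node (.leaf 0) (.leaf 0)))))))

/-- How a representative arises, part 445. -/
def tInfoPart445 : Janko1.Tree ℕ := (.node (.node (.node (.node (.node (.node (.leaf 0) (.leaf 0)) (.node (.leaf 0) (.leaf 0))) (.node (.node (.leaf 0) (.leaf 0)) (.node (.leaf 0) (.leaf 0)))) (.node (.node (.node (.leaf 0) (.leaf 0)) (.node (.leaf 0) (.leaf 0))) (.node (.node (.leaf 0) (.leaf 0)) (.node (.leaf 0) (.leaf 0))))) (.node (.node (.node (.node (.leaf 0) (.leaf 0)) (.node (.leaf 0) (.leaf 0))) (.node (.node (.leaf 0) (.leaf 0)) (.node (.leaf 0) (.leaf 0)))) (.node (.node (.node (.leaf 0) (.leaf 0)) (.node (.leaf 0) (.leaf 0))) (.node (.node (.leaf 0) (.leaf 0)) (.node (.leaf 0) (.leaf 0)))))) (.node (.node (.node (.node (.node (.leaf 0) (.leaf 0)) (.node (.leaf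 0) (.leaf 0))) (.node (.node (.leaf 0) (.leaf 0)) (.node (.leaf 0) (.leaf 0)))) (.node (.node (.node (.leaf 0) (.leaf 0)) (.node (.leaf 0) (.leaf 0))) (.node (.node (.leaf 0) (.leaf 0)) (.node (.leaf 0) (.leaf 0))))) (.node (.node (.node (.node (.leaf 0) (.leaf 0)) (.node (.leaf 0) (.leaf 0))) (.node (.node (.leaf 0) (.leaf 0)) (.node (.leaf 0) (.leaf 0)))) (.node (.node (.node (.leaf 0) (.leaf 0)) (.node (.leaf 0) (.leaf 0))) (.node (.node (.leaf 0) (.leaf 0)) (.node (.leaf 0) (.leaf 0)))))))

/-- How a representative arises, part 446. -/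
def tInfoPart446 : Janko1.Tree ℕ := (.node (.node (.node (.node (.node (.node (.leaf 0) (.leaf 0)) (.node (.leaf 0) (.leaf 0))) (.node (.node (.leaf 0) (.leaf 0)) (.node (.leaf 0) (.leaf 0)))) (.node (.node (.node (.leaf 0) (.leaf 0)) (.node (.leaf 0) (.leaf 0))) (.node (.node (.leaf 0) (.leaf 0)) (.node (.leaf 0) (.leaf 0))))) (.node (.node (.node (.node (.leaf 0) (.leaf 0)) (.node (.leaf 0) (.leaf 0))) (.node (.node (.leaf 0) (.leaf 0)) (.node (.leaf 0) (.leaf 0)))) (.node (.node (.node (.leaf 0) (.leaf 0)) (.node (.leaf 0) (.leaf 0))) (.node (.node (.leaf 0) (.leaf 0)) (.node (.leaf 0) (.leaf 0)))))) (.node (.node (.node (.node (.node (.leaf 0) (.leaf 0)) (.node (.leaf 0) (.leaf 0))) (.node (.node (.leaf 0) (.leaf 0)) (.node (.leaf 0) (.leaf 0)))) (.node (.node (.node (.leaf 0) (.leaf 0)) (.node (.leaf 0) (.leaf 0))) (.node (.node (.leaf 0) (.leaf 0)) (.node (.leaf 0) (.leaf 0))))) (.node (.node (.node (.node (.leaf 0) (.leaf 0)) (.node (.leaf 0) (.leaf 0))) (.node (.node (.leaf 0) (.leaf 0)) (.node (.leaf 0) (.leaf 0)))) (.node (.node (.node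 (.leaf 0) (.leaf 0)) (.node (.leaf 0) (.leaf 0))) (.node (.node (.leaf 0) (.leaf 0)) (.node (.leaf 0) (.leaf 0)))))))

/-- How a representative arises, part 447. -/
def tInfoPart447 : Janko1.Tree ℕ := (.node (.node (.node (.node (.node (.node (.leaf 0) (.leaf 0)) (.node (.leaf 0) (.leaf 0))) (.node (.node (.leaf 0) (.leaf 0)) (.node (.leaf 0) (.leaf 0)))) (.node (.node (.node (.leaf 0) (.leaf 0)) (.node (.leaf 0) (.leaf 0))) (.node (.node (.leaf 0) (.leaf 0)) (.node (.leaf 0) (.leaf 0))))) (.node (.node (.node (.node (.leaf 0) (.leaf 0)) (.node (.leaf 0) (.leaf 0))) (.node (.node (.leaf 0) (.leaf 0)) (.node (.leaf 0) (.leaf 0)))) (.node (.node (.node (.leaf 0) (.leaf 0)) (.node (.leaf 0) (.leaf 0))) (.node (.node (.leaf 0) (.leaf 0)) (.node (.leaf 0) (.leaf 0)))))) (.node (.node (.node (.node (.node (.leaf 0) (.leaf 0)) (.node (.leaf 0) (.leaf 0))) (.node (.node (.leaf 0) (.leaf 0)) (.node (.leaf 0) (.leaf 0)))) (.node (.node (.node (.leaf 0) (.leaf 0)) (.node (.leaf 0) (.leaf 0))) (.node (.node (.leaf 0) (.leaf 0)) (.node (.leaf 0) (.leaf 0)))))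 (.node (.node (.node (.node (.leaf 0) (.leaf 0)) (.node (.leaf 0) (.leaf 0))) (.node (.node (.leaf 0) (.leaf 0)) (.node (.leaf 0) (.leaf 0)))) (.node (.node (.node (.leaf 0) (.leaf 0)) (.node (.leaf 0) (.leaf 0))) (.node (.node (.leaf 0) (.leaf 0)) (.node (.leaf 0) (.leaf 0)))))))

/-- How a representative arises, part 448. -/
def tInfoPart448 : Janko1.Tree ℕ := (.node (.node (.node (.node (.node (.node (.leaf 0) (.leaf 0)) (.node (.leaf 0) (.leaf 0))) (.node (.node (.leaf 0) (.leaf 0)) (.node (.leaf 0) (.leaf 0)))) (.node (.node (.node (.leaf 0) (.leaf 0)) (.node (.leaf 0) (.leaf 0))) (.node (.node (.leaf 0) (.leaf 0)) (.node (.leaf 0) (.leaf 0))))) (.node (.node (.node (.node (.leaf 0) (.leaf 0)) (.node (.leaf 0) (.leaf 0))) (.node (.node (.leaf 0) (.leaf 0)) (.node (.leaf 0) (.leaf 0)))) (.node (.node (.node (.leaf 0) (.leaf 0)) (.node (.leaf 0) (.leaf 0))) (.node (.node (.leaf 0) (.leaf 0)) (.node (.leaf 0) (.leaf 0)))))) (.node (.node (.node (.node (.node (.leaf 0) (.leaf 0)) (.node (.leaf 0) (.leaf 0))) (.node (.node (.leaf 0) (.leaf 0))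 (.node (.leaf 0) (.leaf 0)))) (.node (.node (.node (.leaf 0) (.leaf 0)) (.node (.leaf 0) (.leaf 0))) (.node (.node (.leaf 0) (.leaf 0)) (.node (.leaf 0) (.leaf 0))))) (.node (.node (.node (.node (.leaf 0) (.leaf 0)) (.node (.leaf 0) (.leaf 0))) (.node (.node (.leaf 0) (.leaf 0)) (.node (.leaf 0) (.leaf 0)))) (.node (.node (.node (.leaf 0) (.leaf 0)) (.node (.leaf 0) (.leaf 0))) (.node (.node (.leaf 0) (.leaf 0)) (.node (.leaf 0) (.leaf 0)))))))

/-- How a representative arises, part 449. -/
def tInfoPart449 : Janko1.Tree ℕ := (.node (.node (.node (.node (.node (.node (.leaf 0) (.leaf 0)) (.node (.leaf 0) (.leaf 0))) (.node (.node (.leaf 0) (.leaf 0)) (.node (.leaf 0) (.leaf 0)))) (.node (.node (.node (.leaf 0) (.leaf 0)) (.node (.leaf 0) (.leaf 0))) (.node (.node (.leaf 0) (.leaf 0)) (.node (.leaf 0) (.leaf 0))))) (.node (.node (.node (.node (.leaf 0) (.leaf 0)) (.node (.leaf 0) (.leaf 0))) (.node (.node (.leaf 0) (.leaf 0)) (.node (.leaf 0) (.leaf 0)))) (.node (.node (.node (.leaf 0) (.leaf 0)) (.node (.leaf 0) (.leaf 0))) (.node (.node (.leaf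 0) (.leaf 0)) (.node (.leaf 0) (.leaf 0)))))) (.node (.node (.node (.node (.node (.leaf 0) (.leaf 0)) (.node (.leaf 0) (.leaf 0))) (.node (.node (.leaf 0) (.leaf 0)) (.node (.leaf 0) (.leaf 0)))) (.node (.node (.node (.leaf 0) (.leaf 0)) (.node (.leaf 0) (.leaf 0))) (.node (.node (.leaf 0) (.leaf 0)) (.node (.leaf 0) (.leaf 0))))) (.node (.node (.node (.node (.leaf 0) (.leaf 0)) (.node (.leaf 0) (.leaf 0))) (.node (.node (.leaf 0) (.leaf 0)) (.node (.leaf 0) (.leaf 0)))) (.node (.node (.node (.leaf 0) (.leaf 0)) (.node (.leaf 0) (.leaf 0))) (.node (.node (.leaf 0) (.leaf 0)) (.node (.leaf 0) (.leaf 0)))))))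

/-- How a representative arises, part 450. -/
def tInfoPart450 : Janko1.Tree ℕ := (.node (.node (.node (.node (.node (.node (.leaf 0) (.leaf 0)) (.node (.leaf 0) (.leaf 0))) (.node (.node (.leaf 0) (.leaf 0)) (.node (.leaf 0) (.leaf 0)))) (.node (.node (.node (.leaf 0) (.leaf 0)) (.node (.leaf 0) (.leaf 0))) (.node (.node (.leaf 0) (.leaf 0)) (.node (.leaf 0) (.leaf 0))))) (.node (.node (.node (.node (.leaf 0) (.leaf 0)) (.node (.leaf 0) (.leaf 0))) (.node (.node (.leaf 0) (.leaf 0)) (.node (.leaf 0) (.leaf 0)))) (.node (.node (.node (.leaf 0) (.leaf 0)) (.node (.leaf 0) (.leaf 0))) (.node (.node (.leaf 0) (.leaf 0)) (.node (.leaf 0) (.leaf 0)))))) (.node (.node (.node (.node (.node (.leaf 0) (.leaf 0)) (.node (.leaf 0) (.leaf 0))) (.node (.node (.leaf 0) (.leaf 0)) (.node (.leaf 0) (.leaf 0)))) (.node (.node (.node (.leaf 0) (.leaf 0)) (.node (.leaf 0) (.leaf 0))) (.node (.node (.leaf 0) (.leaf 0)) (.node (.leaf 0) (.leaf 0))))) (.node (.node (.node (.node (.leaf 0) (.leaf 0)) (.node (.leaf 0) (.leaf 0))) (.node (.node (.leaf 0) (.leaf 0))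 (.node (.leaf 0) (.leaf 0)))) (.node (.node (.node (.leaf 0) (.leaf 0)) (.node (.leaf 0) (.leaf 0))) (.node (.node (.leaf 0) (.leaf 0)) (.node (.leaf 0) (.leaf 0)))))))

/-- How a representative arises, part 451. -/
def tInfoPart451 : Janko1.Tree ℕ := (.node (.node (.node (.node (.node (.node (.leaf 0) (.leaf 0)) (.node (.leaf 0) (.leaf 0))) (.node (.node (.leaf 0) (.leaf 0)) (.node (.leaf 0) (.leaf 0)))) (.node (.node (.node (.leaf 0) (.leaf 0)) (.node (.leaf 0) (.leaf 0))) (.node (.node (.leaf 0) (.leaf 0)) (.node (.leaf 0) (.leaf 0))))) (.node (.node (.node (.node (.leaf 0) (.leaf 0)) (.node (.leaf 0) (.leaf 0))) (.node (.node (.leaf 0) (.leaf 0)) (.node (.leaf 0) (.leaf 0)))) (.node (.node (.node (.leaf 0) (.leaf 0)) (.node (.leaf 0) (.leaf 0))) (.node (.node (.leaf 0) (.leaf 0)) (.node (.leaf 0) (.leaf 0)))))) (.node (.node (.node (.node (.node (.leaf 0) (.leaf 0)) (.node (.leaf 0) (.leaf 0))) (.node (.node (.leaf 0) (.leaf 0)) (.node (.leaf 0) (.leaf 0)))) (.node (.node (.node (.leaf 0) (.leaf 0)) (.node (.leaf 0) (.leaf 0))) (.node (.node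 (.leaf 0) (.leaf 0)) (.node (.leaf 0) (.leaf 0))))) (.node (.node (.node (.node (.leaf 0) (.leaf 0)) (.node (.leaf 0) (.leaf 0))) (.node (.node (.leaf 0) (.leaf 0)) (.node (.leaf 0) (.leaf 0)))) (.node (.node (.node (.leaf 0) (.leaf 0)) (.node (.leaf 0) (.leaf 0))) (.node (.node (.leaf 0) (.leaf 0)) (.node (.leaf 0) (.leaf 0)))))))

/-- How a representative arises, part 452. -/
def tInfoPart452 : Janko1.Tree ℕ := (.node (.node (.node (.node (.node (.node (.leaf 0) (.leaf 0)) (.node (.leaf 0) (.leaf 0))) (.node (.node (.leaf 0) (.leaf 0)) (.node (.leaf 0) (.leaf 0)))) (.node (.node (.node (.leaf 0) (.leaf 0)) (.node (.leaf 0) (.leaf 0))) (.node (.node (.leaf 0) (.leaf 0)) (.node (.leaf 0) (.leaf 0))))) (.node (.node (.node (.node (.leaf 0) (.leaf 0)) (.node (.leaf 0) (.leaf 0))) (.node (.node (.leaf 0) (.leaf 0)) (.node (.leaf 0) (.leaf 0)))) (.node (.node (.node (.leaf 0) (.leaf 0)) (.node (.leaf 0) (.leaf 0))) (.node (.node (.leaf 0) (.leaf 0)) (.node (.leaf 0) (.leaf 0)))))) (.node (.node (.node (.node (.node (.leaf 0) (.leaf 0)) (.node (.leaf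 0) (.leaf 0))) (.node (.node (.leaf 0) (.leaf 0)) (.node (.leaf 0) (.leaf 0)))) (.node (.node (.node (.leaf 0) (.leaf 0)) (.node (.leaf 0) (.leaf 0))) (.node (.node (.leaf 0) (.leaf 0)) (.node (.leaf 0) (.leaf 0))))) (.node (.node (.node (.node (.leaf 0) (.leaf 0)) (.node (.leaf 0) (.leaf 0))) (.node (.node (.leaf 0) (.leaf 0)) (.node (.leaf 0) (.leaf 0)))) (.node (.node (.node (.leaf 0) (.leaf 0)) (.node (.leaf 0) (.leaf 0))) (.node (.node (.leaf 0) (.leaf 0)) (.node (.leaf 0) (.leaf 0)))))))

/-- How a representative arises, part 453. -/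
def tInfoPart453 : Janko1.Tree ℕ := (.node (.node (.node (.node (.node (.node (.leaf 0) (.leaf 0)) (.node (.leaf 0) (.leaf 0))) (.node (.node (.leaf 0) (.leaf 0)) (.node (.leaf 0) (.leaf 0)))) (.node (.node (.node (.leaf 0) (.leaf 0)) (.node (.leaf 0) (.leaf 0))) (.node (.node (.leaf 0) (.leaf 0)) (.node (.leaf 0) (.leaf 0))))) (.node (.node (.node (.node (.leaf 0) (.leaf 0)) (.node (.leaf 0) (.leaf 0))) (.node (.node (.leaf 0) (.leaf 0)) (.node (.leaf 0) (.leaf 0)))) (.node (.node (.node (.leaf 0) (.leaf 0)) (.node (.leaf 0) (.leaf 0))) (.node (.node (.leaf 0) (.leaf 0)) (.node (.leaf 0) (.leaf 0)))))) (.node (.node (.node (.node (.node (.leaf 0) (.leaf 0)) (.node (.leaf 0) (.leaf 0))) (.node (.node (.leaf 0) (.leaf 0)) (.node (.leaf 0) (.leaf 0)))) (.node (.node (.node (.leaf 0) (.leaf 0)) (.node (.leaf 0) (.leaf 0))) (.node (.node (.leaf 0) (.leaf 0)) (.node (.leaf 0) (.leaf 0))))) (.node (.node (.node (.node (.leaf 0) (.leaf 0)) (.node (.leaf 0) (.leaf 0))) (.node (.node (.leaf 0) (.leaf 0)) (.node (.leaf 0) (.leaf 0)))) (.node (.node (.node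 (.leaf 0) (.leaf 0)) (.node (.leaf 0) (.leaf 0))) (.node (.node (.leaf 0) (.leaf 0)) (.node (.leaf 0) (.leaf 0)))))))

/-- How a representative arises, part 454. -/
def tInfoPart454 : Janko1.Tree ℕ := (.node (.node (.node (.node (.node (.node (.leaf 0) (.leaf 0)) (.node (.leaf 0) (.leaf 0))) (.node (.node (.leaf 0) (.leaf 0)) (.node (.leaf 0) (.leaf 0)))) (.node (.node (.node (.leaf 0) (.leaf 0)) (.node (.leaf 0) (.leaf 0))) (.node (.node (.leaf 0) (.leaf 0)) (.node (.leaf 0) (.leaf 0))))) (.node (.node (.node (.node (.leaf 0) (.leaf 0)) (.node (.leaf 0) (.leaf 0))) (.node (.node (.leaf 0) (.leaf 0)) (.node (.leaf 0) (.leaf 0)))) (.node (.node (.node (.leaf 0) (.leaf 0)) (.node (.leaf 0) (.leaf 0))) (.node (.node (.leaf 0) (.leaf 0)) (.node (.leaf 0) (.leaf 0)))))) (.node (.node (.node (.node (.node (.leaf 0) (.leaf 0)) (.node (.leaf 0) (.leaf 0))) (.node (.node (.leaf 0) (.leaf 0)) (.node (.leaf 0) (.leaf 0)))) (.node (.node (.node (.leaf 0) (.leaf 0)) (.node (.leaf 0) (.leaf 0))) (.node (.node (.leaf 0) (.leaf 0)) (.node (.leaf 0) (.leaf 0)))))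 (.node (.node (.node (.node (.leaf 0) (.leaf 0)) (.node (.leaf 0) (.leaf 0))) (.node (.node (.leaf 0) (.leaf 0)) (.node (.leaf 0) (.leaf 0)))) (.node (.node (.node (.leaf 0) (.leaf 0)) (.node (.leaf 0) (.leaf 0))) (.node (.node (.leaf 0) (.leaf 0)) (.node (.leaf 0) (.leaf 0)))))))

/-- How a representative arises, part 455. -/
def tInfoPart455 : Janko1.Tree ℕ := (.node (.node (.node (.node (.node (.node (.leaf 0) (.leaf 0)) (.node (.leaf 0) (.leaf 0))) (.node (.node (.leaf 0) (.leaf 0)) (.node (.leaf 0) (.leaf 0)))) (.node (.node (.node (.leaf 0) (.leaf 0)) (.node (.leaf 0) (.leaf 0))) (.node (.node (.leaf 0) (.leaf 0)) (.node (.leaf 0) (.leaf 0))))) (.node (.node (.node (.node (.leaf 0) (.leaf 0)) (.node (.leaf 0) (.leaf 0))) (.node (.node (.leaf 0) (.leaf 0)) (.node (.leaf 0) (.leaf 0)))) (.node (.node (.node (.leaf 0) (.leaf 0)) (.node (.leaf 0) (.leaf 0))) (.node (.node (.leaf 0) (.leaf 0)) (.node (.leaf 0) (.leaf 0)))))) (.node (.node (.node (.node (.node (.leaf 0) (.leaf 0)) (.node (.leaf 0) (.leaf 0))) (.node (.node (.leaf 0) (.leaf 0))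 (.node (.leaf 0) (.leaf 0)))) (.node (.node (.node (.leaf 0) (.leaf 0)) (.node (.leaf 0) (.leaf 0))) (.node (.node (.leaf 0) (.leaf 0)) (.node (.leaf 0) (.leaf 0))))) (.node (.node (.node (.node (.leaf 0) (.leaf 0)) (.node (.leaf 0) (.leaf 0))) (.node (.node (.leaf 0) (.leaf 0)) (.node (.leaf 0) (.leaf 0)))) (.node (.node (.node (.leaf 0) (.leaf 0)) (.node (.leaf 0) (.leaf 0))) (.node (.node (.leaf 0) (.leaf 0)) (.node (.leaf 0) (.leaf 0)))))))

/-- How a representative arises, part 456. -/
def tInfoPart456 : Janko1.Tree ℕ := (.node (.node (.node (.node (.node (.node (.leaf 0) (.leaf 0)) (.node (.leaf 0) (.leaf 0))) (.node (.node (.leaf 0) (.leaf 0)) (.node (.leaf 0) (.leaf 0)))) (.node (.node (.node (.leaf 0) (.leaf 0)) (.node (.leaf 0) (.leaf 0))) (.node (.node (.leaf 0) (.leaf 0)) (.node (.leaf 0) (.leaf 0))))) (.node (.node (.node (.node (.leaf 0) (.leaf 0)) (.node (.leaf 0) (.leaf 0))) (.node (.node (.leaf 0) (.leaf 0)) (.node (.leaf 0) (.leaf 0)))) (.node (.node (.node (.leaf 0) (.leaf 0)) (.node (.leaf 0) (.leaf 0))) (.node (.node (.leaf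 0) (.leaf 0)) (.node (.leaf 0) (.leaf 0)))))) (.node (.node (.node (.node (.node (.leaf 0) (.leaf 0)) (.node (.leaf 0) (.leaf 0))) (.node (.node (.leaf 0) (.leaf 0)) (.node (.leaf 0) (.leaf 0)))) (.node (.node (.node (.leaf 0) (.leaf 0)) (.node (.leaf 0) (.leaf 0))) (.node (.node (.leaf 0) (.leaf 0)) (.node (.leaf 0) (.leaf 0))))) (.node (.node (.node (.node (.leaf 0) (.leaf 0)) (.node (.leaf 0) (.leaf 0))) (.node (.node (.leaf 0) (.leaf 0)) (.node (.leaf 0) (.leaf 0)))) (.node (.node (.node (.leaf 0) (.leaf 0)) (.node (.leaf 0) (.leaf 0))) (.node (.node (.leaf 0) (.leaf 0)) (.node (.leaf 0) (.leaf 0)))))))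

/-- How a representative arises, part 457. -/
def tInfoPart457 : Janko1.Tree ℕ := (.node (.node (.node (.node (.node (.node (.leaf 0) (.leaf 0)) (.node (.leaf 0) (.leaf 0))) (.node (.node (.leaf 0) (.leaf 0)) (.node (.leaf 0) (.leaf 0)))) (.node (.node (.node (.leaf 0) (.leaf 0)) (.node (.leaf 0) (.leaf 0))) (.node (.node (.leaf 0) (.leaf 0)) (.node (.leaf 0) (.leaf 0))))) (.node (.node (.node (.node (.leaf 0) (.leaf 0)) (.node (.leaf 0) (.leaf 0))) (.node (.node (.leaf 0) (.leaf 0)) (.node (.leaf 0) (.leaf 0)))) (.node (.node (.node (.leaf 0) (.leaf 0)) (.node (.leaf 0) (.leaf 0))) (.node (.node (.leaf 0) (.leaf 0)) (.node (.leaf 0) (.leaf 0)))))) (.node (.node (.node (.node (.node (.leaf 0) (.leaf 0)) (.node (.leaf 0) (.leaf 0))) (.node (.node (.leaf 0) (.leaf 0)) (.node (.leaf 0) (.leaf 0)))) (.node (.node (.node (.leaf 0) (.leaf 0)) (.node (.leaf 0) (.leaf 0))) (.node (.node (.leaf 0) (.leaf 0)) (.node (.leaf 0) (.leaf 0))))) (.node (.node (.node (.node (.leaf 0) (.leaf 0)) (.node (.leaf 0) (.leaf 0))) (.node (.node (.leaf 0) (.leaf 0))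 (.node (.leaf 0) (.leaf 0)))) (.node (.node (.node (.leaf 0) (.leaf 0)) (.node (.leaf 0) (.leaf 0))) (.node (.node (.leaf 0) (.leaf 0)) (.node (.leaf 0) (.leaf 0)))))))

/-- How a representative arises, part 458. -/
def tInfoPart458 : Janko1.Tree ℕ := (.node (.node (.node (.node (.node (.node (.leaf 0) (.leaf 0)) (.node (.leaf 0) (.leaf 0))) (.node (.node (.leaf 0) (.leaf 0)) (.node (.leaf 0) (.leaf 0)))) (.node (.node (.node (.leaf 0) (.leaf 0)) (.node (.leaf 0) (.leaf 0))) (.node (.node (.leaf 0) (.leaf 0)) (.node (.leaf 0) (.leaf 0))))) (.node (.node (.node (.node (.leaf 0) (.leaf 0)) (.node (.leaf 0) (.leaf 0))) (.node (.node (.leaf 0) (.leaf 0)) (.node (.leaf 0) (.leaf 0)))) (.node (.node (.node (.leaf 0) (.leaf 0)) (.node (.leaf 0) (.leaf 0))) (.node (.node (.leaf 0) (.leaf 0)) (.node (.leaf 0) (.leaf 0)))))) (.node (.node (.node (.node (.node (.leaf 0) (.leaf 0)) (.node (.leaf 0) (.leaf 0))) (.node (.node (.leaf 0) (.leaf 0)) (.node (.leaf 0) (.leaf 0)))) (.node (.node (.node (.leaf 0) (.leaf 0)) (.node (.leaf 0) (.leaf 0))) (.node (.node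 (.leaf 0) (.leaf 0)) (.node (.leaf 0) (.leaf 0))))) (.node (.node (.node (.node (.leaf 0) (.leaf 0)) (.node (.leaf 0) (.leaf 0))) (.node (.node (.leaf 0) (.leaf 0)) (.node (.leaf 0) (.leaf 0)))) (.node (.node (.node (.leaf 0) (.leaf 0)) (.node (.leaf 0) (.leaf 0))) (.node (.node (.leaf 0) (.leaf 0)) (.node (.leaf 0) (.leaf 0)))))))

/-- How a representative arises, part 459. -/
def tInfoPart459 : Janko1.Tree ℕ := (.node (.node (.node (.node (.node (.node (.leaf 0) (.leaf 0)) (.node (.leaf 0) (.leaf 0))) (.node (.node (.leaf 0) (.leaf 0)) (.node (.leaf 0) (.leaf 0)))) (.node (.node (.node (.leaf 0) (.leaf 0)) (.node (.leaf 0) (.leaf 0))) (.node (.node (.leaf 0) (.leaf 0)) (.node (.leaf 0) (.leaf 0))))) (.node (.node (.node (.node (.leaf 0) (.leaf 0)) (.node (.leaf 0) (.leaf 0))) (.node (.node (.leaf 0) (.leaf 0)) (.node (.leaf 0) (.leaf 0)))) (.node (.node (.node (.leaf 0) (.leaf 0)) (.node (.leaf 0) (.leaf 0))) (.node (.node (.leaf 0) (.leaf 0)) (.node (.leaf 0) (.leaf 0)))))) (.node (.node (.node (.node (.node (.leaf 0) (.leaf 0)) (.node (.leaf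 0) (.leaf 0))) (.node (.node (.leaf 0) (.leaf 0)) (.node (.leaf 0) (.leaf 0)))) (.node (.node (.node (.leaf 0) (.leaf 0)) (.node (.leaf 0) (.leaf 0))) (.node (.node (.leaf 0) (.leaf 0)) (.node (.leaf 0) (.leaf 0))))) (.node (.node (.node (.node (.leaf 0) (.leaf 0)) (.node (.leaf 0) (.leaf 0))) (.node (.node (.leaf 0) (.leaf 0)) (.node (.leaf 0) (.leaf 0)))) (.node (.node (.node (.leaf 0) (.leaf 0)) (.node (.leaf 0) (.leaf 0))) (.node (.node (.leaf 0) (.leaf 0)) (.node (.leaf 0) (.leaf 0)))))))

/-- How a representative arises, part 460. -/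
def tInfoPart460 : Janko1.Tree ℕ := (.node (.node (.node (.node (.node (.node (.leaf 0) (.leaf 0)) (.node (.leaf 0) (.leaf 0))) (.node (.node (.leaf 0) (.leaf 0)) (.node (.leaf 0) (.leaf 0)))) (.node (.node (.node (.leaf 0) (.leaf 0)) (.node (.leaf 0) (.leaf 0))) (.node (.node (.leaf 0) (.leaf 0)) (.node (.leaf 0) (.leaf 0))))) (.node (.node (.node (.node (.leaf 0) (.leaf 0)) (.node (.leaf 0) (.leaf 0))) (.node (.node (.leaf 0) (.leaf 0)) (.node (.leaf 0) (.leaf 0)))) (.node (.node (.node (.leaf 0) (.leaf 0)) (.node (.leaf 0) (.leaf 0))) (.node (.node (.leaf 0) (.leaf 0)) (.node (.leaf 0) (.leaf 0)))))) (.node (.node (.node (.node (.node (.leaf 0) (.leaf 0)) (.node (.leaf 0) (.leaf 0))) (.node (.node (.leaf 0) (.leaf 0)) (.node (.leaf 0) (.leaf 0)))) (.node (.node (.node (.leaf 0) (.leaf 0)) (.node (.leaf 0) (.leaf 0))) (.node (.node (.leaf 0) (.leaf 0)) (.node (.leaf 0) (.leaf 0))))) (.node (.node (.node (.node (.leaf 0) (.leaf 0)) (.node (.leaf 0) (.leaf 0))) (.node (.node (.leaf 0) (.leaf 0)) (.node (.leaf 0) (.leaf 0)))) (.node (.node (.node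 (.leaf 0) (.leaf 0)) (.node (.leaf 0) (.leaf 0))) (.node (.node (.leaf 0) (.leaf 0)) (.node (.leaf 0) (.leaf 0)))))))

/-- How a representative arises, part 461. -/
def tInfoPart461 : Janko1.Tree ℕ := (.node (.node (.node (.node (.node (.node (.leaf 0) (.leaf 0)) (.node (.leaf 0) (.leaf 0))) (.node (.node (.leaf 0) (.leaf 0)) (.node (.leaf 0) (.leaf 0)))) (.node (.node (.node (.leaf 0) (.leaf 0)) (.node (.leaf 0) (.leaf 0))) (.node (.node (.leaf 0) (.leaf 0)) (.node (.leaf 0) (.leaf 0))))) (.node (.node (.node (.node (.leaf 0) (.leaf 0)) (.node (.leaf 0) (.leaf 0))) (.node (.node (.leaf 0) (.leaf 0)) (.node (.leaf 0) (.leaf 0)))) (.node (.node (.node (.leaf 0) (.leaf 0)) (.node (.leaf 0) (.leaf 0))) (.node (.node (.leaf 0) (.leaf 0)) (.node (.leaf 0) (.leaf 0)))))) (.node (.node (.node (.node (.node (.leaf 0) (.leaf 0)) (.node (.leaf 0) (.leaf 0))) (.node (.node (.leaf 0) (.leaf 0)) (.node (.leaf 0) (.leaf 0)))) (.node (.node (.node (.leaf 0) (.leaf 0)) (.node (.leaf 0) (.leaf 0))) (.node (.node (.leaf 0) (.leaf 0)) (.node (.leaf 0) (.leaf 0)))))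 (.node (.node (.node (.node (.leaf 0) (.leaf 0)) (.node (.leaf 0) (.leaf 0))) (.node (.node (.leaf 0) (.leaf 0)) (.node (.leaf 0) (.leaf 0)))) (.node (.node (.node (.leaf 0) (.leaf 0)) (.node (.leaf 0) (.leaf 0))) (.node (.node (.leaf 0) (.leaf 0)) (.node (.leaf 0) (.leaf 0)))))))

/-- How a representative arises, part 462. -/
def tInfoPart462 : Janko1.Tree ℕ := (.node (.node (.node (.node (.node (.node (.leaf 0) (.leaf 0)) (.node (.leaf 0) (.leaf 0))) (.node (.node (.leaf 0) (.leaf 0)) (.node (.leaf 0) (.leaf 0)))) (.node (.node (.node (.leaf 0) (.leaf 0)) (.node (.leaf 0) (.leaf 0))) (.node (.node (.leaf 0) (.leaf 0)) (.node (.leaf 0) (.leaf 0))))) (.node (.node (.node (.node (.leaf 0) (.leaf 0)) (.node (.leaf 0) (.leaf 0))) (.node (.node (.leaf 0) (.leaf 0)) (.node (.leaf 0) (.leaf 0)))) (.node (.node (.node (.leaf 0) (.leaf 0)) (.node (.leaf 0) (.leaf 0))) (.node (.node (.leaf 0) (.leaf 0)) (.node (.leaf 0) (.leaf 0)))))) (.node (.node (.node (.node (.node (.leaf 0) (.leaf 0)) (.node (.leaf 0) (.leaf 0))) (.node (.node (.leaf 0) (.leaf 0))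 (.node (.leaf 0) (.leaf 0)))) (.node (.node (.node (.leaf 0) (.leaf 0)) (.node (.leaf 0) (.leaf 0))) (.node (.node (.leaf 0) (.leaf 0)) (.node (.leaf 0) (.leaf 0))))) (.node (.node (.node (.node (.leaf 0) (.leaf 0)) (.node (.leaf 0) (.leaf 0))) (.node (.node (.leaf 0) (.leaf 0)) (.node (.leaf 0) (.leaf 0)))) (.node (.node (.node (.leaf 0) (.leaf 0)) (.node (.leaf 0) (.leaf 0))) (.node (.node (.leaf 0) (.leaf 0)) (.node (.leaf 0) (.leaf 0)))))))

/-- How a representative arises, part 463. -/
def tInfoPart463 : Janko1.Tree ℕ := (.node (.node (.node (.node (.node (.node (.leaf 0) (.leaf 0)) (.node (.leaf 0) (.leaf 0))) (.node (.node (.leaf 0) (.leaf 0)) (.node (.leaf 0) (.leaf 0)))) (.node (.node (.node (.leaf 0) (.leaf 0)) (.node (.leaf 0) (.leaf 0))) (.node (.node (.leaf 0) (.leaf 0)) (.node (.leaf 0) (.leaf 0))))) (.node (.node (.node (.node (.leaf 0) (.leaf 0)) (.node (.leaf 0) (.leaf 0))) (.node (.node (.leaf 0) (.leaf 0)) (.node (.leaf 0) (.leaf 0)))) (.node (.node (.node (.leaf 0) (.leaf 0)) (.node (.leaf 0) (.leaf 0))) (.node (.node (.leaf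 0) (.leaf 0)) (.node (.leaf 0) (.leaf 0)))))) (.node (.node (.node (.node (.node (.leaf 0) (.leaf 0)) (.node (.leaf 0) (.leaf 0))) (.node (.node (.leaf 0) (.leaf 0)) (.node (.leaf 0) (.leaf 0)))) (.node (.node (.node (.leaf 0) (.leaf 0)) (.node (.leaf 0) (.leaf 0))) (.node (.node (.leaf 0) (.leaf 0)) (.node (.leaf 0) (.leaf 0))))) (.node (.node (.node (.node (.leaf 0) (.leaf 0)) (.node (.leaf 0) (.leaf 0))) (.node (.node (.leaf 0) (.leaf 0)) (.node (.leaf 0) (.leaf 0)))) (.node (.node (.node (.leaf 0) (.leaf 0)) (.node (.leaf 0) (.leaf 0))) (.node (.node (.leaf 0) (.leaf 0)) (.node (.leaf 0) (.leaf 0)))))))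

/-- How a representative arises, part 464. -/
def tInfoPart464 : Janko1.Tree ℕ := (.node (.node (.node (.node (.node (.node (.leaf 0) (.leaf 0)) (.node (.leaf 0) (.leaf 0))) (.node (.node (.leaf 0) (.leaf 0)) (.node (.leaf 0) (.leaf 0)))) (.node (.node (.node (.leaf 0) (.leaf 0)) (.node (.leaf 0) (.leaf 0))) (.node (.node (.leaf 0) (.leaf 0)) (.node (.leaf 0) (.leaf 0))))) (.node (.node (.node (.node (.leaf 0) (.leaf 0)) (.node (.leaf 0) (.leaf 0))) (.node (.node (.leaf 0) (.leaf 0)) (.node (.leaf 0) (.leaf 0)))) (.node (.node (.node (.leaf 0) (.leaf 0)) (.node (.leaf 0) (.leaf 0))) (.node (.node (.leaf 0) (.leaf 0)) (.node (.leaf 0) (.leaf 0)))))) (.node (.node (.node (.node (.node (.leaf 0) (.leaf 0)) (.node (.leaf 0) (.leaf 0))) (.node (.node (.leaf 0) (.leaf 0)) (.node (.leaf 0) (.leaf 0)))) (.node (.node (.node (.leaf 0) (.leaf 0)) (.node (.leaf 0) (.leaf 0))) (.node (.node (.leaf 0) (.leaf 0)) (.node (.leaf 0) (.leaf 0))))) (.node (.node (.node (.node (.leaf 0) (.leaf 0)) (.node (.leaf 0) (.leaf 0))) (.node (.node (.leaf 0) (.leaf 0))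 (.node (.leaf 0) (.leaf 0)))) (.node (.node (.node (.leaf 0) (.leaf 0)) (.node (.leaf 0) (.leaf 0))) (.node (.node (.leaf 0) (.leaf 0)) (.node (.leaf 0) (.leaf 0)))))))

/-- How a representative arises, part 465. -/
def tInfoPart465 : Janko1.Tree ℕ := (.node (.node (.node (.node (.node (.node (.leaf 0) (.leaf 0)) (.node (.leaf 0) (.leaf 0))) (.node (.node (.leaf 0) (.leaf 0)) (.node (.leaf 0) (.leaf 0)))) (.node (.node (.node (.leaf 0) (.leaf 0)) (.node (.leaf 0) (.leaf 0))) (.node (.node (.leaf 0) (.leaf 0)) (.node (.leaf 0) (.leaf 0))))) (.node (.node (.node (.node (.leaf 0) (.leaf 0)) (.node (.leaf 0) (.leaf 0))) (.node (.node (.leaf 0) (.leaf 0)) (.node (.leaf 0) (.leaf 0)))) (.node (.node (.node (.leaf 0) (.leaf 0)) (.node (.leaf 0) (.leaf 0))) (.node (.node (.leaf 0) (.leaf 0)) (.node (.leaf 0) (.leaf 0)))))) (.node (.node (.node (.node (.node (.leaf 0) (.leaf 0)) (.node (.leaf 0) (.leaf 0))) (.node (.node (.leaf 0) (.leaf 0)) (.node (.leaf 0) (.leaf 0)))) (.node (.node (.node (.leaf 0) (.leaf 0)) (.node (.leaf 0) (.leaf 0))) (.node (.node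 (.leaf 0) (.leaf 0)) (.node (.leaf 0) (.leaf 0))))) (.node (.node (.node (.node (.leaf 0) (.leaf 0)) (.node (.leaf 0) (.leaf 0))) (.node (.node (.leaf 0) (.leaf 0)) (.node (.leaf 0) (.leaf 0)))) (.node (.node (.node (.leaf 0) (.leaf 0)) (.node (.leaf 0) (.leaf 0))) (.node (.node (.leaf 0) (.leaf 0)) (.node (.leaf 0) (.leaf 0)))))))

/-- How a representative arises, part 466. -/
def tInfoPart466 : Janko1.Tree ℕ := (.node (.node (.node (.node (.node (.node (.leaf 0) (.leaf 0)) (.node (.leaf 0) (.leaf 0))) (.node (.node (.leaf 0) (.leaf 0)) (.node (.leaf 0) (.leaf 0)))) (.node (.node (.node (.leaf 0) (.leaf 0)) (.node (.leaf 0) (.leaf 0))) (.node (.node (.leaf 0) (.leaf 0)) (.node (.leaf 0) (.leaf 0))))) (.node (.node (.node (.node (.leaf 0) (.leaf 0)) (.node (.leaf 0) (.leaf 0))) (.node (.node (.leaf 0) (.leaf 0)) (.node (.leaf 0) (.leaf 0)))) (.node (.node (.node (.leaf 0) (.leaf 0)) (.node (.leaf 0) (.leaf 0))) (.node (.node (.leaf 0) (.leaf 0)) (.node (.leaf 0) (.leaf 0)))))) (.node (.node (.node (.node (.node (.leaf 0) (.leaf 0)) (.node (.leaf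 0) (.leaf 0))) (.node (.node (.leaf 0) (.leaf 0)) (.node (.leaf 0) (.leaf 0)))) (.node (.node (.node (.leaf 0) (.leaf 0)) (.node (.leaf 0) (.leaf 0))) (.node (.node (.leaf 0) (.leaf 0)) (.node (.leaf 0) (.leaf 0))))) (.node (.node (.node (.node (.leaf 0) (.leaf 0)) (.node (.leaf 0) (.leaf 0))) (.node (.node (.leaf 0) (.leaf 0)) (.node (.leaf 0) (.leaf 0)))) (.node (.node (.node (.leaf 0) (.leaf 0)) (.node (.leaf 0) (.leaf 0))) (.node (.node (.leaf 0) (.leaf 0)) (.node (.leaf 0) (.leaf 0)))))))

/-- How a representative arises, part 467. -/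
def tInfoPart467 : Janko1.Tree ℕ := (.node (.node (.node (.node (.node (.node (.leaf 0) (.leaf 0)) (.node (.leaf 0) (.leaf 0))) (.node (.node (.leaf 0) (.leaf 0)) (.node (.leaf 0) (.leaf 0)))) (.node (.node (.node (.leaf 0) (.leaf 0)) (.node (.leaf 0) (.leaf 0))) (.node (.node (.leaf 0) (.leaf 0)) (.node (.leaf 0) (.leaf 0))))) (.node (.node (.node (.node (.leaf 0) (.leaf 0)) (.node (.leaf 0) (.leaf 0))) (.node (.node (.leaf 0) (.leaf 0)) (.node (.leaf 0) (.leaf 0)))) (.node (.node (.node (.leaf 0) (.leaf 0)) (.node (.leaf 0) (.leaf 0))) (.node (.node (.leaf 0) (.leaf 0)) (.node (.leaf 0) (.leaf 0)))))) (.node (.node (.node (.node (.node (.leaf 0) (.leaf 0)) (.node (.leaf 0) (.leaf 0))) (.node (.node (.leaf 0) (.leaf 0)) (.node (.leaf 0) (.leaf 0)))) (.node (.node (.node (.leaf 0) (.leaf 0)) (.node (.leaf 0) (.leaf 0))) (.node (.node (.leaf 0) (.leaf 0)) (.node (.leaf 0) (.leaf 0))))) (.node (.node (.node (.node (.leaf 0) (.leaf 0)) (.node (.leaf 0) (.leaf 0))) (.node (.node (.leaf 0) (.leaf 0)) (.node (.leaf 0) (.leaf 0)))) (.node (.node (.node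 (.leaf 0) (.leaf 0)) (.node (.leaf 0) (.leaf 0))) (.node (.node (.leaf 0) (.leaf 0)) (.node (.leaf 0) (.leaf 0)))))))

/-- How a representative arises, part 468. -/
def tInfoPart468 : Janko1.Tree ℕ := (.node (.node (.node (.node (.node (.node (.leaf 0) (.leaf 0)) (.node (.leaf 0) (.leaf 0))) (.node (.node (.leaf 0) (.leaf 0)) (.node (.leaf 0) (.leaf 0)))) (.node (.node (.node (.leaf 0) (.leaf 0)) (.node (.leaf 0) (.leaf 0))) (.node (.node (.leaf 0) (.leaf 0)) (.node (.leaf 0) (.leaf 0))))) (.node (.node (.node (.node (.leaf 0) (.leaf 0)) (.node (.leaf 0) (.leaf 0))) (.node (.node (.leaf 0) (.leaf 0)) (.node (.leaf 0) (.leaf 0)))) (.node (.node (.node (.leaf 0) (.leaf 0)) (.node (.leaf 0) (.leaf 0))) (.node (.node (.leaf 0) (.leaf 0)) (.node (.leaf 0) (.leaf 0)))))) (.node (.node (.node (.node (.node (.leaf 0) (.leaf 0)) (.node (.leaf 0) (.leaf 0))) (.node (.node (.leaf 0) (.leaf 0)) (.node (.leaf 0) (.leaf 0)))) (.node (.node (.node (.leaf 0) (.leaf 0)) (.node (.leaf 0) (.leaf 0))) (.node (.node (.leaf 0) (.leaf 0)) (.node (.leaf 0) (.leaf 0)))))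 (.node (.node (.node (.node (.leaf 0) (.leaf 0)) (.node (.leaf 0) (.leaf 0))) (.node (.node (.leaf 0) (.leaf 0)) (.node (.leaf 0) (.leaf 0)))) (.node (.node (.node (.leaf 0) (.leaf 0)) (.node (.leaf 0) (.leaf 0))) (.node (.node (.leaf 0) (.leaf 0)) (.node (.leaf 0) (.leaf 0)))))))

/-- How a representative arises, part 469. -/
def tInfoPart469 : Janko1.Tree ℕ := (.node (.node (.node (.node (.node (.node (.leaf 0) (.leaf 0)) (.node (.leaf 0) (.leaf 0))) (.node (.node (.leaf 0) (.leaf 0)) (.node (.leaf 0) (.leaf 0)))) (.node (.node (.node (.leaf 0) (.leaf 0)) (.node (.leaf 0) (.leaf 0))) (.node (.node (.leaf 0) (.leaf 0)) (.node (.leaf 0) (.leaf 0))))) (.node (.node (.node (.node (.leaf 0) (.leaf 0)) (.node (.leaf 0) (.leaf 0))) (.node (.node (.leaf 0) (.leaf 0)) (.node (.leaf 0) (.leaf 0)))) (.node (.node (.node (.leaf 0) (.leaf 0)) (.node (.leaf 0) (.leaf 0))) (.node (.node (.leaf 0) (.leaf 0)) (.node (.leaf 0) (.leaf 0)))))) (.node (.node (.node (.node (.node (.leaf 0) (.leaf 0)) (.node (.leaf 0) (.leaf 0))) (.node (.node (.leaf 0) (.leaf 0))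 (.node (.leaf 0) (.leaf 0)))) (.node (.node (.node (.leaf 0) (.leaf 0)) (.node (.leaf 0) (.leaf 0))) (.node (.node (.leaf 0) (.leaf 0)) (.node (.leaf 0) (.leaf 0))))) (.node (.node (.node (.node (.leaf 0) (.leaf 0)) (.node (.leaf 0) (.leaf 0))) (.node (.node (.leaf 0) (.leaf 0)) (.node (.leaf 0) (.leaf 0)))) (.node (.node (.node (.leaf 0) (.leaf 0)) (.node (.leaf 0) (.leaf 0))) (.node (.node (.leaf 0) (.leaf 0)) (.node (.leaf 0) (.leaf 0)))))))

/-- How a representative arises, part 470. -/
def tInfoPart470 : Janko1.Tree ℕ := (.node (.node (.node (.node (.node (.node (.leaf 0) (.leaf 0)) (.node (.leaf 0) (.leaf 0))) (.node (.node (.leaf 0) (.leaf 0)) (.node (.leaf 0) (.leaf 0)))) (.node (.node (.node (.leaf 0) (.leaf 0)) (.node (.leaf 0) (.leaf 0))) (.node (.node (.leaf 0) (.leaf 0)) (.node (.leaf 0) (.leaf 0))))) (.node (.node (.node (.node (.leaf 0) (.leaf 0)) (.node (.leaf 0) (.leaf 0))) (.node (.node (.leaf 0) (.leaf 0)) (.node (.leaf 0) (.leaf 0)))) (.node (.node (.node (.leaf 0) (.leaf 0)) (.node (.leaf 0) (.leaf 0))) (.node (.node (.leaf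 0) (.leaf 0)) (.node (.leaf 0) (.leaf 0)))))) (.node (.node (.node (.node (.node (.leaf 0) (.leaf 0)) (.node (.leaf 0) (.leaf 0))) (.node (.node (.leaf 0) (.leaf 0)) (.node (.leaf 0) (.leaf 0)))) (.node (.node (.node (.leaf 0) (.leaf 0)) (.node (.leaf 0) (.leaf 0))) (.node (.node (.leaf 0) (.leaf 0)) (.node (.leaf 0) (.leaf 0))))) (.node (.node (.node (.node (.leaf 0) (.leaf 0)) (.node (.leaf 0) (.leaf 0))) (.node (.node (.leaf 0) (.leaf 0)) (.node (.leaf 0) (.leaf 0)))) (.node (.node (.node (.leaf 0) (.leaf 0)) (.node (.leaf 0) (.leaf 0))) (.node (.node (.leaf 0) (.leaf 0)) (.node (.leaf 0) (.leaf 0)))))))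

/-- How a representative arises, part 471. -/
def tInfoPart471 : Janko1.Tree ℕ := (.node (.node (.node (.node (.node (.node (.leaf 0) (.leaf 0)) (.node (.leaf 0) (.leaf 0))) (.node (.node (.leaf 0) (.leaf 0)) (.node (.leaf 0) (.leaf 0)))) (.node (.node (.node (.leaf 0) (.leaf 0)) (.node (.leaf 0) (.leaf 0))) (.node (.node (.leaf 0) (.leaf 0)) (.node (.leaf 0) (.leaf 0))))) (.node (.node (.node (.node (.leaf 0) (.leaf 0)) (.node (.leaf 0) (.leaf 0))) (.node (.node (.leaf 0) (.leaf 0)) (.node (.leaf 0) (.leaf 0)))) (.node (.node (.node (.leaf 0) (.leaf 0)) (.node (.leaf 0) (.leaf 0))) (.node (.node (.leaf 0) (.leaf 0)) (.node (.leaf 0) (.leaf 0)))))) (.node (.node (.node (.node (.node (.leaf 0) (.leaf 0)) (.node (.leaf 0) (.leaf 0))) (.node (.node (.leaf 0) (.leaf 0)) (.node (.leaf 0) (.leaf 0)))) (.node (.node (.node (.leaf 0) (.leaf 0)) (.node (.leaf 0) (.leaf 0))) (.node (.node (.leaf 0) (.leaf 0)) (.node (.leaf 0) (.leaf 0))))) (.node (.node (.node (.node (.leaf 0) (.leaf 0)) (.node (.leaf 0) (.leaf 0))) (.node (.node (.leaf 0) (.leaf 0))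 (.node (.leaf 0) (.leaf 0)))) (.node (.node (.node (.leaf 0) (.leaf 0)) (.node (.leaf 0) (.leaf 0))) (.node (.node (.leaf 0) (.leaf 0)) (.node (.leaf 0) (.leaf 0)))))))

/-- How a representative arises, part 472. -/
def tInfoPart472 : Janko1.Tree ℕ := (.node (.node (.node (.node (.node (.node (.leaf 0) (.leaf 0)) (.node (.leaf 0) (.leaf 0))) (.node (.node (.leaf 0) (.leaf 0)) (.node (.leaf 0) (.leaf 0)))) (.node (.node (.node (.leaf 0) (.leaf 0)) (.node (.leaf 0) (.leaf 0))) (.node (.node (.leaf 0) (.leaf 0)) (.node (.leaf 0) (.leaf 0))))) (.node (.node (.node (.node (.leaf 0) (.leaf 0)) (.node (.leaf 0) (.leaf 0))) (.node (.node (.leaf 0) (.leaf 0)) (.node (.leaf 0) (.leaf 0)))) (.node (.node (.node (.leaf 0) (.leaf 0)) (.node (.leaf 0) (.leaf 0))) (.node (.node (.leaf 0) (.leaf 0)) (.node (.leaf 0) (.leaf 0)))))) (.node (.node (.node (.node (.node (.leaf 0) (.leaf 0)) (.node (.leaf 0) (.leaf 0))) (.node (.node (.leaf 0) (.leaf 0)) (.node (.leaf 0) (.leaf 0)))) (.node (.node (.node (.leaf 0) (.leaf 0)) (.node (.leaf 0) (.leaf 0))) (.node (.node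 (.leaf 0) (.leaf 0)) (.node (.leaf 0) (.leaf 0))))) (.node (.node (.node (.node (.leaf 0) (.leaf 0)) (.node (.leaf 0) (.leaf 0))) (.node (.node (.leaf 0) (.leaf 0)) (.node (.leaf 0) (.leaf 0)))) (.node (.node (.node (.leaf 0) (.leaf 0)) (.node (.leaf 0) (.leaf 0))) (.node (.node (.leaf 0) (.leaf 0)) (.node (.leaf 0) (.leaf 0)))))))

/-- How a representative arises, part 473. -/
def tInfoPart473 : Janko1.Tree ℕ := (.node (.node (.node (.node (.node (.node (.leaf 0) (.leaf 0)) (.node (.leaf 0) (.leaf 0))) (.node (.node (.leaf 0) (.leaf 0)) (.node (.leaf 0) (.leaf 0)))) (.node (.node (.node (.leaf 0) (.leaf 0)) (.node (.leaf 0) (.leaf 0))) (.node (.node (.leaf 0) (.leaf 0)) (.node (.leaf 0) (.leaf 0))))) (.node (.node (.node (.node (.leaf 0) (.leaf 0)) (.node (.leaf 0) (.leaf 0))) (.node (.node (.leaf 0) (.leaf 0)) (.node (.leaf 0) (.leaf 0)))) (.node (.node (.node (.leaf 0) (.leaf 0)) (.node (.leaf 0) (.leaf 0))) (.node (.node (.leaf 0) (.leaf 0)) (.node (.leaf 0) (.leaf 0)))))) (.node (.node (.node (.node (.node (.leaf 0) (.leaf 0)) (.node (.leaf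 0) (.leaf 0))) (.node (.node (.leaf 0) (.leaf 0)) (.node (.leaf 0) (.leaf 0)))) (.node (.node (.node (.leaf 0) (.leaf 0)) (.node (.leaf 0) (.leaf 0))) (.node (.node (.leaf 0) (.leaf 0)) (.node (.leaf 0) (.leaf 0))))) (.node (.node (.node (.node (.leaf 0) (.leaf 0)) (.node (.leaf 0) (.leaf 0))) (.node (.node (.leaf 0) (.leaf 0)) (.node (.leaf 0) (.leaf 0)))) (.node (.node (.node (.leaf 0) (.leaf 0)) (.node (.leaf 0) (.leaf 0))) (.node (.node (.leaf 0) (.leaf 0)) (.node (.leaf 0) (.leaf 0)))))))

/-- How a representative arises, part 474. -/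
def tInfoPart474 : Janko1.Tree ℕ := (.node (.node (.node (.node (.node (.node (.leaf 0) (.leaf 0)) (.node (.leaf 0) (.leaf 0))) (.node (.node (.leaf 0) (.leaf 0)) (.node (.leaf 0) (.leaf 0)))) (.node (.node (.node (.leaf 0) (.leaf 0)) (.node (.leaf 0) (.leaf 0))) (.node (.node (.leaf 0) (.leaf 0)) (.node (.leaf 0) (.leaf 0))))) (.node (.node (.node (.node (.leaf 0) (.leaf 0)) (.node (.leaf 0) (.leaf 0))) (.node (.node (.leaf 0) (.leaf 0)) (.node (.leaf 0) (.leaf 0)))) (.node (.node (.node (.leaf 0) (.leaf 0)) (.node (.leaf 0) (.leaf 0))) (.node (.node (.leaf 0) (.leaf 0)) (.node (.leaf 0) (.leaf 0)))))) (.node (.node (.node (.node (.node (.leaf 0) (.leaf 0)) (.node (.leaf 0) (.leaf 0))) (.node (.node (.leaf 0) (.leaf 0)) (.node (.leaf 0) (.leaf 0)))) (.node (.node (.node (.leaf 0) (.leaf 0)) (.node (.leaf 0) (.leaf 0))) (.node (.node (.leaf 0) (.leaf 0)) (.node (.leaf 0) (.leaf 0))))) (.node (.node (.node (.node (.leaf 0) (.leaf 0)) (.node (.leaf 0) (.leaf 0))) (.node (.node (.leaf 0) (.leaf 0)) (.node (.leaf 0) (.leaf 0)))) (.node (.node (.node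 (.leaf 0) (.leaf 0)) (.node (.leaf 0) (.leaf 0))) (.node (.node (.leaf 0) (.leaf 0)) (.node (.leaf 0) (.leaf 0)))))))

/-- How a representative arises, part 475. -/
def tInfoPart475 : Janko1.Tree ℕ := (.node (.node (.node (.node (.node (.node (.leaf 0) (.leaf 0)) (.node (.leaf 0) (.leaf 0))) (.node (.node (.leaf 0) (.leaf 0)) (.node (.leaf 0) (.leaf 0)))) (.node (.node (.node (.leaf 0) (.leaf 0)) (.node (.leaf 0) (.leaf 0))) (.node (.node (.leaf 0) (.leaf 0)) (.node (.leaf 0) (.leaf 0))))) (.node (.node (.node (.node (.leaf 0) (.leaf 0)) (.node (.leaf 0) (.leaf 0))) (.node (.node (.leaf 0) (.leaf 0)) (.node (.leaf 0) (.leaf 0)))) (.node (.node (.node (.leaf 0) (.leaf 0)) (.node (.leaf 0) (.leaf 0))) (.node (.node (.leaf 0) (.leaf 0)) (.node (.leaf 0) (.leaf 0)))))) (.node (.node (.node (.node (.node (.leaf 0) (.leaf 0)) (.node (.leaf 0) (.leaf 0))) (.node (.node (.leaf 0) (.leaf 0)) (.node (.leaf 0) (.leaf 0)))) (.node (.node (.node (.leaf 0) (.leaf 0)) (.node (.leaf 0) (.leaf 0))) (.node (.node (.leaf 0) (.leaf 0)) (.node (.leaf 0) (.leaf 0)))))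 (.node (.node (.node (.node (.leaf 0) (.leaf 0)) (.node (.leaf 0) (.leaf 0))) (.node (.node (.leaf 0) (.leaf 0)) (.node (.leaf 0) (.leaf 0)))) (.node (.node (.node (.leaf 0) (.leaf 0)) (.node (.leaf 0) (.leaf 0))) (.node (.node (.leaf 0) (.leaf 0)) (.node (.leaf 0) (.leaf 0)))))))

/-- How a representative arises, part 476. -/
def tInfoPart476 : Janko1.Tree ℕ := (.node (.node (.node (.node (.node (.node (.leaf 0) (.leaf 0)) (.node (.leaf 0) (.leaf 0))) (.node (.node (.leaf 0) (.leaf 0)) (.node (.leaf 0) (.leaf 0)))) (.node (.node (.node (.leaf 0) (.leaf 0)) (.node (.leaf 0) (.leaf 0))) (.node (.node (.leaf 0) (.leaf 0)) (.node (.leaf 0) (.leaf 0))))) (.node (.node (.node (.node (.leaf 0) (.leaf 0)) (.node (.leaf 0) (.leaf 0))) (.node (.node (.leaf 0) (.leaf 0)) (.node (.leaf 0) (.leaf 0)))) (.node (.node (.node (.leaf 0) (.leaf 0)) (.node (.leaf 0) (.leaf 0))) (.node (.node (.leaf 0) (.leaf 0)) (.node (.leaf 0) (.leaf 0)))))) (.node (.node (.node (.node (.node (.leaf 0) (.leaf 0)) (.node (.leaf 0) (.leaf 0))) (.node (.node (.leaf 0) (.leaf 0))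 (.node (.leaf 0) (.leaf 0)))) (.node (.node (.node (.leaf 0) (.leaf 0)) (.node (.leaf 0) (.leaf 0))) (.node (.node (.leaf 0) (.leaf 0)) (.node (.leaf 0) (.leaf 0))))) (.node (.node (.node (.node (.leaf 0) (.leaf 0)) (.node (.leaf 0) (.leaf 0))) (.node (.node (.leaf 0) (.leaf 0)) (.node (.leaf 0) (.leaf 0)))) (.node (.node (.node (.leaf 0) (.leaf 0)) (.node (.leaf 0) (.leaf 0))) (.node (.node (.leaf 0) (.leaf 0)) (.node (.leaf 0) (.leaf 0)))))))

/-- How a representative arises, part 477. -/
def tInfoPart477 : Janko1.Tree ℕ := (.node (.node (.node (.node (.node (.node (.leaf 0) (.leaf 0)) (.node (.leaf 0) (.leaf 0))) (.node (.node (.leaf 0) (.leaf 0)) (.node (.leaf 0) (.leaf 0)))) (.node (.node (.node (.leaf 0) (.leaf 0)) (.node (.leaf 0) (.leaf 0))) (.node (.node (.leaf 0) (.leaf 0)) (.node (.leaf 0) (.leaf 0))))) (.node (.node (.node (.node (.leaf 0) (.leaf 0)) (.node (.leaf 0) (.leaf 0))) (.node (.node (.leaf 0) (.leaf 0)) (.node (.leaf 0) (.leaf 0)))) (.node (.node (.node (.leaf 0) (.leaf 0)) (.node (.leaf 0) (.leaf 0))) (.node (.node (.leaf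 0) (.leaf 0)) (.node (.leaf 0) (.leaf 0)))))) (.node (.node (.node (.node (.node (.leaf 0) (.leaf 0)) (.node (.leaf 0) (.leaf 0))) (.node (.node (.leaf 0) (.leaf 0)) (.node (.leaf 0) (.leaf 0)))) (.node (.node (.node (.leaf 0) (.leaf 0)) (.node (.leaf 0) (.leaf 0))) (.node (.node (.leaf 0) (.leaf 0)) (.node (.leaf 0) (.leaf 0))))) (.node (.node (.node (.node (.leaf 0) (.leaf 0)) (.node (.leaf 0) (.leaf 0))) (.node (.node (.leaf 0) (.leaf 0)) (.node (.leaf 0) (.leaf 0)))) (.node (.node (.node (.leaf 0) (.leaf 0)) (.node (.leaf 0) (.leaf 0))) (.node (.node (.leaf 0) (.leaf 0)) (.node (.leaf 0) (.leaf 0)))))))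

/-- How a representative arises, part 478. -/
def tInfoPart478 : Janko1.Tree ℕ := (.node (.node (.node (.node (.node (.node (.leaf 0) (.leaf 0)) (.node (.leaf 0) (.leaf 0))) (.node (.node (.leaf 0) (.leaf 0)) (.node (.leaf 0) (.leaf 0)))) (.node (.node (.node (.leaf 0) (.leaf 0)) (.node (.leaf 0) (.leaf 0))) (.node (.node (.leaf 0) (.leaf 0)) (.node (.leaf 0) (.leaf 0))))) (.node (.node (.node (.node (.leaf 0) (.leaf 0)) (.node (.leaf 0) (.leaf 0))) (.node (.node (.leaf 0) (.leaf 0)) (.node (.leaf 0) (.leaf 0)))) (.node (.node (.node (.leaf 0) (.leaf 0)) (.node (.leaf 0) (.leaf 0))) (.node (.node (.leaf 0) (.leaf 0)) (.node (.leaf 0) (.leaf 0)))))) (.node (.node (.node (.node (.node (.leaf 0) (.leaf 0)) (.node (.leaf 0) (.leaf 0))) (.node (.node (.leaf 0) (.leaf 0)) (.node (.leaf 0) (.leaf 0)))) (.node (.node (.node (.leaf 0) (.leaf 0)) (.node (.leaf 0) (.leaf 0))) (.node (.node (.leaf 0) (.leaf 0)) (.node (.leaf 0) (.leaf 0))))) (.node (.node (.node (.node (.leaf 0) (.leaf 0)) (.node (.leaf 0) (.leaf 0))) (.node (.node (.leaf 0) (.leaf 0))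 (.node (.leaf 0) (.leaf 0)))) (.node (.node (.node (.leaf 0) (.leaf 0)) (.node (.leaf 0) (.leaf 0))) (.node (.node (.leaf 0) (.leaf 0)) (.node (.leaf 0) (.leaf 0)))))))

/-- How a representative arises, part 479. -/
def tInfoPart479 : Janko1.Tree ℕ := (.node (.node (.node (.node (.node (.node (.leaf 0) (.leaf 0)) (.node (.leaf 0) (.leaf 0))) (.node (.node (.leaf 0) (.leaf 0)) (.node (.leaf 0) (.leaf 0)))) (.node (.node (.node (.leaf 0) (.leaf 0)) (.node (.leaf 0) (.leaf 0))) (.node (.node (.leaf 0) (.leaf 0)) (.node (.leaf 0) (.leaf 0))))) (.node (.node (.node (.node (.leaf 0) (.leaf 0)) (.node (.leaf 0) (.leaf 0))) (.node (.node (.leaf 0) (.leaf 0)) (.node (.leaf 0) (.leaf 0)))) (.node (.node (.node (.leaf 0) (.leaf 0)) (.node (.leaf 0) (.leaf 0))) (.node (.node (.leaf 0) (.leaf 0)) (.node (.leaf 0) (.leaf 0)))))) (.node (.node (.node (.node (.node (.leaf 0) (.leaf 0)) (.node (.leaf 0) (.leaf 0))) (.node (.node (.leaf 0) (.leaf 0)) (.node (.leaf 0) (.leaf 0)))) (.node (.node (.node (.leaf 0) (.leaf 0)) (.node (.leaf 0) (.leaf 0))) (.node (.node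 (.leaf 0) (.leaf 0)) (.node (.leaf 0) (.leaf 0))))) (.node (.node (.node (.node (.leaf 0) (.leaf 0)) (.node (.leaf 0) (.leaf 0))) (.node (.node (.leaf 0) (.leaf 0)) (.node (.leaf 0) (.leaf 0)))) (.node (.node (.node (.leaf 0) (.leaf 0)) (.node (.leaf 0) (.leaf 0))) (.node (.node (.leaf 0) (.leaf 0)) (.node (.leaf 0) (.leaf 0)))))))

/-- How a representative arises, part 480. -/
def tInfoPart480 : Janko1.Tree ℕ := (.node (.node (.node (.node (.node (.node (.leaf 0) (.leaf 0)) (.node (.leaf 0) (.leaf 0))) (.node (.node (.leaf 0) (.leaf 0)) (.node (.leaf 0) (.leaf 0)))) (.node (.node (.node (.leaf 0) (.leaf 0)) (.node (.leaf 0) (.leaf 0))) (.node (.node (.leaf 0) (.leaf 0)) (.node (.leaf 0) (.leaf 0))))) (.node (.node (.node (.node (.leaf 0) (.leaf 0)) (.node (.leaf 0) (.leaf 0))) (.node (.node (.leaf 0) (.leaf 0)) (.node (.leaf 0) (.leaf 0)))) (.node (.node (.node (.leaf 0) (.leaf 0)) (.node (.leaf 0) (.leaf 0))) (.node (.node (.leaf 0) (.leaf 0)) (.node (.leaf 0) (.leaf 0)))))) (.node (.node (.node (.node (.node (.leaf 0) (.leaf 0)) (.node (.leaf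 0) (.leaf 0))) (.node (.node (.leaf 0) (.leaf 0)) (.node (.leaf 0) (.leaf 0)))) (.node (.node (.node (.leaf 0) (.leaf 0)) (.node (.leaf 0) (.leaf 0))) (.node (.node (.leaf 0) (.leaf 0)) (.node (.leaf 0) (.leaf 0))))) (.node (.node (.node (.node (.leaf 0) (.leaf 0)) (.node (.leaf 0) (.leaf 0))) (.node (.node (.leaf 0) (.leaf 0)) (.node (.leaf 0) (.leaf 0)))) (.node (.node (.node (.leaf 0) (.leaf 0)) (.node (.leaf 0) (.leaf 0))) (.node (.node (.leaf 0) (.leaf 0)) (.node (.leaf 0) (.leaf 0)))))))

/-- How a representative arises, part 481. -/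
def tInfoPart481 : Janko1.Tree ℕ := (.node (.node (.node (.node (.node (.node (.leaf 0) (.leaf 0)) (.node (.leaf 0) (.leaf 0))) (.node (.node (.leaf 0) (.leaf 0)) (.node (.leaf 0) (.leaf 0)))) (.node (.node (.node (.leaf 0) (.leaf 0)) (.node (.leaf 0) (.leaf 0))) (.node (.node (.leaf 0) (.leaf 0)) (.node (.leaf 0) (.leaf 0))))) (.node (.node (.node (.node (.leaf 0) (.leaf 0)) (.node (.leaf 0) (.leaf 0))) (.node (.node (.leaf 0) (.leaf 0)) (.node (.leaf 0) (.leaf 0)))) (.node (.node (.node (.leaf 0) (.leaf 0)) (.node (.leaf 0) (.leaf 0))) (.node (.node (.leaf 0) (.leaf 0)) (.node (.leaf 0) (.leaf 0)))))) (.node (.node (.node (.node (.node (.leaf 0) (.leaf 0)) (.node (.leaf 0) (.leaf 0))) (.node (.node (.leaf 0) (.leaf 0)) (.node (.leaf 0) (.leaf 0)))) (.node (.node (.node (.leaf 0) (.leaf 0)) (.node (.leaf 0) (.leaf 0))) (.node (.node (.leaf 0) (.leaf 0)) (.node (.leaf 0) (.leaf 0))))) (.node (.node (.node (.node (.leaf 0) (.leaf 0)) (.node (.leaf 0) (.leaf 0))) (.node (.node (.leaf 0) (.leaf 0)) (.node (.leaf 0) (.leaf 0)))) (.node (.node (.node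 (.leaf 0) (.leaf 0)) (.node (.leaf 0) (.leaf 0))) (.node (.node (.leaf 0) (.leaf 0)) (.node (.leaf 0) (.leaf 0)))))))

/-- How a representative arises, part 482. -/
def tInfoPart482 : Janko1.Tree ℕ := (.node (.node (.node (.node (.node (.node (.leaf 0) (.leaf 0)) (.node (.leaf 0) (.leaf 0))) (.node (.node (.leaf 0) (.leaf 0)) (.node (.leaf 0) (.leaf 0)))) (.node (.node (.node (.leaf 0) (.leaf 0)) (.node (.leaf 0) (.leaf 0))) (.node (.node (.leaf 0) (.leaf 0)) (.node (.leaf 0) (.leaf 0))))) (.node (.node (.node (.node (.leaf 0) (.leaf 0)) (.node (.leaf 0) (.leaf 0))) (.node (.node (.leaf 0) (.leaf 0)) (.node (.leaf 0) (.leaf 0)))) (.node (.node (.node (.leaf 0) (.leaf 0)) (.node (.leaf 0) (.leaf 0))) (.node (.node (.leaf 0) (.leaf 0)) (.node (.leaf 0) (.leaf 0)))))) (.node (.node (.node (.node (.node (.leaf 0) (.leaf 0)) (.node (.leaf 0) (.leaf 0))) (.node (.node (.leaf 0) (.leaf 0)) (.node (.leaf 0) (.leaf 0)))) (.node (.node (.node (.leaf 0) (.leaf 0)) (.node (.leaf 0) (.leaf 0))) (.node (.node (.leaf 0) (.leaf 0)) (.node (.leaf 0) (.leaf 0)))))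 (.node (.node (.node (.node (.leaf 0) (.leaf 0)) (.node (.leaf 0) (.leaf 0))) (.node (.node (.leaf 0) (.leaf 0)) (.node (.leaf 0) (.leaf 0)))) (.node (.node (.node (.leaf 0) (.leaf 0)) (.node (.leaf 0) (.leaf 0))) (.node (.node (.leaf 0) (.leaf 0)) (.node (.leaf 0) (.leaf 0)))))))

/-- How a representative arises, part 483. -/
def tInfoPart483 : Janko1.Tree ℕ := (.node (.node (.node (.node (.node (.node (.leaf 0) (.leaf 0)) (.node (.leaf 0) (.leaf 0))) (.node (.node (.leaf 0) (.leaf 0)) (.node (.leaf 0) (.leaf 0)))) (.node (.node (.node (.leaf 0) (.leaf 0)) (.node (.leaf 0) (.leaf 0))) (.node (.node (.leaf 0) (.leaf 0)) (.node (.leaf 0) (.leaf 0))))) (.node (.node (.node (.node (.leaf 0) (.leaf 0)) (.node (.leaf 0) (.leaf 0))) (.node (.node (.leaf 0) (.leaf 0)) (.node (.leaf 0) (.leaf 0)))) (.node (.node (.node (.leaf 0) (.leaf 0)) (.node (.leaf 0) (.leaf 0))) (.node (.node (.leaf 0) (.leaf 0)) (.node (.leaf 0) (.leaf 0)))))) (.node (.node (.node (.node (.node (.leaf 0) (.leaf 0)) (.node (.leaf 0) (.leaf 0))) (.node (.node (.leaf 0) (.leaf 0))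 (.node (.leaf 0) (.leaf 0)))) (.node (.node (.node (.leaf 0) (.leaf 0)) (.node (.leaf 0) (.leaf 0))) (.node (.node (.leaf 0) (.leaf 0)) (.node (.leaf 0) (.leaf 0))))) (.node (.node (.node (.node (.leaf 0) (.leaf 0)) (.node (.leaf 0) (.leaf 0))) (.node (.node (.leaf 0) (.leaf 0)) (.node (.leaf 0) (.leaf 0)))) (.node (.node (.node (.leaf 0) (.leaf 0)) (.node (.leaf 0) (.leaf 0))) (.node (.node (.leaf 0) (.leaf 0)) (.node (.leaf 0) (.leaf 0)))))))

/-- How a representative arises, part 484. -/
def tInfoPart484 : Janko1.Tree ℕ := (.node (.node (.node (.node (.node (.node (.leaf 0) (.leaf 0)) (.node (.leaf 0) (.leaf 0))) (.node (.node (.leaf 0) (.leaf 0)) (.node (.leaf 0) (.leaf 0)))) (.node (.node (.node (.leaf 0) (.leaf 0)) (.node (.leaf 0) (.leaf 0))) (.node (.node (.leaf 0) (.leaf 0)) (.node (.leaf 0) (.leaf 0))))) (.node (.node (.node (.node (.leaf 0) (.leaf 0)) (.node (.leaf 0) (.leaf 0))) (.node (.node (.leaf 0) (.leaf 0)) (.node (.leaf 0) (.leaf 0)))) (.node (.node (.node (.leaf 0) (.leaf 0)) (.node (.leaf 0) (.leaf 0))) (.node (.node (.leaf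 0) (.leaf 0)) (.node (.leaf 0) (.leaf 0)))))) (.node (.node (.node (.node (.node (.leaf 0) (.leaf 0)) (.node (.leaf 0) (.leaf 0))) (.node (.node (.leaf 0) (.leaf 0)) (.node (.leaf 0) (.leaf 0)))) (.node (.node (.node (.leaf 0) (.leaf 0)) (.node (.leaf 0) (.leaf 0))) (.node (.node (.leaf 0) (.leaf 0)) (.node (.leaf 0) (.leaf 0))))) (.node (.node (.node (.node (.leaf 0) (.leaf 0)) (.node (.leaf 0) (.leaf 0))) (.node (.node (.leaf 0) (.leaf 0)) (.node (.leaf 0) (.leaf 0)))) (.node (.node (.node (.leaf 0) (.leaf 0)) (.node (.leaf 0) (.leaf 0))) (.node (.node (.leaf 0) (.leaf 0)) (.node (.leaf 0) (.leaf 0)))))))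

/-- How a representative arises, part 485. -/
def tInfoPart485 : Janko1.Tree ℕ := (.node (.node (.node (.node (.node (.node (.leaf 0) (.leaf 0)) (.node (.leaf 0) (.leaf 0))) (.node (.node (.leaf 0) (.leaf 0)) (.node (.leaf 0) (.leaf 0)))) (.node (.node (.node (.leaf 0) (.leaf 0)) (.node (.leaf 0) (.leaf 0))) (.node (.node (.leaf 0) (.leaf 0)) (.node (.leaf 0) (.leaf 0))))) (.node (.node (.node (.node (.leaf 0) (.leaf 0)) (.node (.leaf 0) (.leaf 0))) (.node (.node (.leaf 0) (.leaf 0)) (.node (.leaf 0) (.leaf 0)))) (.node (.node (.node (.leaf 0) (.leaf 0)) (.node (.leaf 0) (.leaf 0))) (.node (.node (.leaf 0) (.leaf 0)) (.node (.leaf 0) (.leaf 0)))))) (.node (.node (.node (.node (.node (.leaf 0) (.leaf 0)) (.node (.leaf 0) (.leaf 0))) (.node (.node (.leaf 0) (.leaf 0)) (.node (.leaf 0) (.leaf 0)))) (.node (.node (.node (.leaf 0) (.leaf 0)) (.node (.leaf 0) (.leaf 0))) (.node (.node (.leaf 0) (.leaf 0)) (.node (.leaf 0) (.leaf 0))))) (.node (.node (.node (.node (.leaf 0) (.leaf 0)) (.node (.leaf 0) (.leaf 0))) (.node (.node (.leaf 0) (.leaf 0))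 (.node (.leaf 0) (.leaf 0)))) (.node (.node (.node (.leaf 0) (.leaf 0)) (.node (.leaf 0) (.leaf 0))) (.node (.node (.leaf 0) (.leaf 0)) (.node (.leaf 0) (.leaf 0)))))))

/-- How a representative arises, part 486. -/
def tInfoPart486 : Janko1.Tree ℕ := (.node (.node (.node (.node (.node (.node (.leaf 0) (.leaf 0)) (.node (.leaf 0) (.leaf 0))) (.node (.node (.leaf 0) (.leaf 0)) (.node (.leaf 0) (.leaf 0)))) (.node (.node (.node (.leaf 0) (.leaf 0)) (.node (.leaf 0) (.leaf 0))) (.node (.node (.leaf 0) (.leaf 0)) (.node (.leaf 0) (.leaf 0))))) (.node (.node (.node (.node (.leaf 0) (.leaf 0)) (.node (.leaf 0) (.leaf 0))) (.node (.node (.leaf 0) (.leaf 0)) (.node (.leaf 0) (.leaf 0)))) (.node (.node (.node (.leaf 0) (.leaf 0)) (.node (.leaf 0) (.leaf 0))) (.node (.node (.leaf 0) (.leaf 0)) (.node (.leaf 0) (.leaf 0)))))) (.node (.node (.node (.node (.node (.leaf 0) (.leaf 0)) (.node (.leaf 0) (.leaf 0))) (.node (.node (.leaf 0) (.leaf 0)) (.node (.leaf 0) (.leaf 0)))) (.node (.node (.node (.leaf 0) (.leaf 0)) (.node (.leaf 0) (.leaf 0))) (.node (.node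 (.leaf 0) (.leaf 0)) (.node (.leaf 0) (.leaf 0))))) (.node (.node (.node (.node (.leaf 0) (.leaf 0)) (.node (.leaf 0) (.leaf 0))) (.node (.node (.leaf 0) (.leaf 0)) (.node (.leaf 0) (.leaf 0)))) (.node (.node (.node (.leaf 0) (.leaf 0)) (.node (.leaf 0) (.leaf 0))) (.node (.node (.leaf 0) (.leaf 0)) (.node (.leaf 0) (.leaf 0)))))))

/-- How a representative arises, part 487. -/
def tInfoPart487 : Janko1.Tree ℕ := (.node (.node (.node (.node (.node (.node (.leaf 0) (.leaf 0)) (.node (.leaf 0) (.leaf 0))) (.node (.node (.leaf 0) (.leaf 0)) (.node (.leaf 0) (.leaf 0)))) (.node (.node (.node (.leaf 0) (.leaf 0)) (.node (.leaf 0) (.leaf 0))) (.node (.node (.leaf 0) (.leaf 0)) (.node (.leaf 0) (.leaf 0))))) (.node (.node (.node (.node (.leaf 0) (.leaf 0)) (.node (.leaf 0) (.leaf 0))) (.node (.node (.leaf 0) (.leaf 0)) (.node (.leaf 0) (.leaf 0)))) (.node (.node (.node (.leaf 0) (.leaf 0)) (.node (.leaf 0) (.leaf 0))) (.node (.node (.leaf 0) (.leaf 0)) (.node (.leaf 0) (.leaf 0)))))) (.node (.node (.node (.node (.node (.leaf 0) (.leaf 0)) (.node (.leaf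 0) (.leaf 0))) (.node (.node (.leaf 0) (.leaf 0)) (.node (.leaf 0) (.leaf 0)))) (.node (.node (.node (.leaf 0) (.leaf 0)) (.node (.leaf 0) (.leaf 0))) (.node (.node (.leaf 0) (.leaf 0)) (.node (.leaf 0) (.leaf 0))))) (.node (.node (.node (.node (.leaf 0) (.leaf 0)) (.node (.leaf 0) (.leaf 0))) (.node (.node (.leaf 0) (.leaf 0)) (.node (.leaf 0) (.leaf 0)))) (.node (.node (.node (.leaf 0) (.leaf 0)) (.node (.leaf 0) (.leaf 0))) (.node (.node (.leaf 0) (.leaf 0)) (.node (.leaf 0) (.leaf 0)))))))

/-- How a representative arises, part 488. -/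
def tInfoPart488 : Janko1.Tree ℕ := (.node (.node (.node (.node (.node (.node (.leaf 0) (.leaf 0)) (.node (.leaf 0) (.leaf 0))) (.node (.node (.leaf 0) (.leaf 0)) (.node (.leaf 0) (.leaf 0)))) (.node (.node (.node (.leaf 0) (.leaf 0)) (.node (.leaf 0) (.leaf 0))) (.node (.node (.leaf 0) (.leaf 0)) (.node (.leaf 0) (.leaf 0))))) (.node (.node (.node (.node (.leaf 0) (.leaf 0)) (.node (.leaf 0) (.leaf 0))) (.node (.node (.leaf 0) (.leaf 0)) (.node (.leaf 0) (.leaf 0)))) (.node (.node (.node (.leaf 0) (.leaf 0)) (.node (.leaf 0) (.leaf 0))) (.node (.node (.leaf 0) (.leaf 0)) (.node (.leaf 0) (.leaf 0)))))) (.node (.node (.node (.node (.node (.leaf 0) (.leaf 0)) (.node (.leaf 0) (.leaf 0))) (.node (.node (.leaf 0) (.leaf 0)) (.node (.leaf 0) (.leaf 0)))) (.node (.node (.node (.leaf 0) (.leaf 0)) (.node (.leaf 0) (.leaf 0))) (.node (.node (.leaf 0) (.leaf 0)) (.node (.leaf 0) (.leaf 0))))) (.node (.node (.node (.node (.leaf 0) (.leaf 0)) (.node (.leaf 0) (.leaf 0))) (.node (.node (.leaf 0) (.leaf 0)) (.node (.leaf 0) (.leaf 0)))) (.node (.node (.node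 (.leaf 0) (.leaf 0)) (.node (.leaf 0) (.leaf 0))) (.node (.node (.leaf 0) (.leaf 0)) (.node (.leaf 0) (.leaf 0)))))))

/-- How a representative arises, part 489. -/
def tInfoPart489 : Janko1.Tree ℕ := (.node (.node (.node (.node (.node (.node (.leaf 0) (.leaf 0)) (.node (.leaf 0) (.leaf 0))) (.node (.node (.leaf 0) (.leaf 0)) (.node (.leaf 0) (.leaf 0)))) (.node (.node (.node (.leaf 0) (.leaf 0)) (.node (.leaf 0) (.leaf 0))) (.node (.node (.leaf 0) (.leaf 0)) (.node (.leaf 0) (.leaf 0))))) (.node (.node (.node (.node (.leaf 0) (.leaf 0)) (.node (.leaf 0) (.leaf 0))) (.node (.node (.leaf 0) (.leaf 0)) (.node (.leaf 0) (.leaf 0)))) (.node (.node (.node (.leaf 0) (.leaf 0)) (.node (.leaf 0) (.leaf 0))) (.node (.node (.leaf 0) (.leaf 0)) (.node (.leaf 0) (.leaf 0)))))) (.node (.node (.node (.node (.node (.leaf 0) (.leaf 0)) (.node (.leaf 0) (.leaf 0))) (.node (.node (.leaf 0) (.leaf 0)) (.node (.leaf 0) (.leaf 0)))) (.node (.node (.node (.leaf 0) (.leaf 0)) (.node (.leaf 0) (.leaf 0))) (.node (.node (.leaf 0) (.leaf 0)) (.node (.leaf 0) (.leaf 0)))))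 (.node (.node (.node (.node (.leaf 0) (.leaf 0)) (.node (.leaf 0) (.leaf 0))) (.node (.node (.leaf 0) (.leaf 0)) (.node (.leaf 0) (.leaf 0)))) (.node (.node (.node (.leaf 0) (.leaf 0)) (.node (.leaf 0) (.leaf 0))) (.node (.node (.leaf 0) (.leaf 0)) (.node (.leaf 0) (.leaf 0)))))))

/-- How a representative arises, part 490. -/
def tInfoPart490 : Janko1.Tree ℕ := (.node (.node (.node (.node (.node (.node (.leaf 0) (.leaf 0)) (.node (.leaf 0) (.leaf 0))) (.node (.node (.leaf 0) (.leaf 0)) (.node (.leaf 0) (.leaf 0)))) (.node (.node (.node (.leaf 0) (.leaf 0)) (.node (.leaf 0) (.leaf 0))) (.node (.node (.leaf 0) (.leaf 0)) (.node (.leaf 0) (.leaf 0))))) (.node (.node (.node (.node (.leaf 0) (.leaf 0)) (.node (.leaf 0) (.leaf 0))) (.node (.node (.leaf 0) (.leaf 0)) (.node (.leaf 0) (.leaf 0)))) (.node (.node (.node (.leaf 0) (.leaf 0)) (.node (.leaf 0) (.leaf 0))) (.node (.node (.leaf 0) (.leaf 0)) (.node (.leaf 0) (.leaf 0)))))) (.node (.node (.node (.node (.node (.leaf 0) (.leaf 0)) (.node (.leaf 0) (.leaf 0))) (.node (.node (.leaf 0) (.leaf 0))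 (.node (.leaf 0) (.leaf 0)))) (.node (.node (.node (.leaf 0) (.leaf 0)) (.node (.leaf 0) (.leaf 0))) (.node (.node (.leaf 0) (.leaf 0)) (.node (.leaf 0) (.leaf 0))))) (.node (.node (.node (.node (.leaf 0) (.leaf 0)) (.node (.leaf 0) (.leaf 0))) (.node (.node (.leaf 0) (.leaf 0)) (.node (.leaf 0) (.leaf 0)))) (.node (.node (.node (.leaf 0) (.leaf 0)) (.node (.leaf 0) (.leaf 0))) (.node (.node (.leaf 0) (.leaf 0)) (.node (.leaf 0) (.leaf 0)))))))

/-- How a representative arises, part 491. -/
def tInfoPart491 : Janko1.Tree ℕ := (.node (.node (.node (.node (.node (.node (.leaf 0) (.leaf 0)) (.node (.leaf 0) (.leaf 0))) (.node (.node (.leaf 0) (.leaf 0)) (.node (.leaf 0) (.leaf 0)))) (.node (.node (.node (.leaf 0) (.leaf 0)) (.node (.leaf 0) (.leaf 0))) (.node (.node (.leaf 0) (.leaf 0)) (.node (.leaf 0) (.leaf 0))))) (.node (.node (.node (.node (.leaf 0) (.leaf 0)) (.node (.leaf 0) (.leaf 0))) (.node (.node (.leaf 0) (.leaf 0)) (.node (.leaf 0) (.leaf 0)))) (.node (.node (.node (.leaf 0) (.leaf 0)) (.node (.leaf 0) (.leaf 0))) (.node (.node (.leaf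 0) (.leaf 0)) (.node (.leaf 0) (.leaf 0)))))) (.node (.node (.node (.node (.node (.leaf 0) (.leaf 0)) (.node (.leaf 0) (.leaf 0))) (.node (.node (.leaf 0) (.leaf 0)) (.node (.leaf 0) (.leaf 0)))) (.node (.node (.node (.leaf 0) (.leaf 0)) (.node (.leaf 0) (.leaf 0))) (.node (.node (.leaf 0) (.leaf 0)) (.node (.leaf 0) (.leaf 0))))) (.node (.node (.node (.node (.leaf 0) (.leaf 0)) (.node (.leaf 0) (.leaf 0))) (.node (.node (.leaf 0) (.leaf 0)) (.node (.leaf 0) (.leaf 0)))) (.node (.node (.node (.leaf 0) (.leaf 0)) (.node (.leaf 0) (.leaf 0))) (.node (.node (.leaf 0) (.leaf 0)) (.node (.leaf 0) (.leaf 0)))))))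

/-- How a representative arises, part 492. -/
def tInfoPart492 : Janko1.Tree ℕ := (.node (.node (.node (.node (.node (.node (.leaf 0) (.leaf 0)) (.node (.leaf 0) (.leaf 0))) (.node (.node (.leaf 0) (.leaf 0)) (.node (.leaf 0) (.leaf 0)))) (.node (.node (.node (.leaf 0) (.leaf 0)) (.node (.leaf 0) (.leaf 0))) (.node (.node (.leaf 0) (.leaf 0)) (.node (.leaf 0) (.leaf 0))))) (.node (.node (.node (.node (.leaf 0) (.leaf 0)) (.node (.leaf 0) (.leaf 0))) (.node (.node (.leaf 0) (.leaf 0)) (.node (.leaf 0) (.leaf 0)))) (.node (.node (.node (.leaf 0) (.leaf 0)) (.node (.leaf 0) (.leaf 0))) (.node (.node (.leaf 0) (.leaf 0)) (.node (.leaf 0) (.leaf 0)))))) (.node (.node (.node (.node (.node (.leaf 0) (.leaf 0)) (.node (.leaf 0) (.leaf 0))) (.node (.node (.leaf 0) (.leaf 0)) (.node (.leaf 0) (.leaf 0)))) (.node (.node (.node (.leaf 0) (.leaf 0)) (.node (.leaf 0) (.leaf 0))) (.node (.node (.leaf 0) (.leaf 0)) (.node (.leaf 0) (.leaf 0))))) (.node (.node (.node (.node (.leaf 0) (.leaf 0)) (.node (.leaf 0) (.leaf 0))) (.node (.node (.leaf 0) (.leaf 0))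 (.node (.leaf 0) (.leaf 0)))) (.node (.node (.node (.leaf 0) (.leaf 0)) (.node (.leaf 0) (.leaf 0))) (.node (.node (.leaf 0) (.leaf 0)) (.node (.leaf 0) (.leaf 0)))))))

/-- How a representative arises, part 493. -/
def tInfoPart493 : Janko1.Tree ℕ := (.node (.node (.node (.node (.node (.node (.leaf 0) (.leaf 0)) (.node (.leaf 0) (.leaf 0))) (.node (.node (.leaf 0) (.leaf 0)) (.node (.leaf 0) (.leaf 0)))) (.node (.node (.node (.leaf 0) (.leaf 0)) (.node (.leaf 0) (.leaf 0))) (.node (.node (.leaf 0) (.leaf 0)) (.node (.leaf 0) (.leaf 0))))) (.node (.node (.node (.node (.leaf 0) (.leaf 0)) (.node (.leaf 0) (.leaf 0))) (.node (.node (.leaf 0) (.leaf 0)) (.node (.leaf 0) (.leaf 0)))) (.node (.node (.node (.leaf 0) (.leaf 0)) (.node (.leaf 0) (.leaf 0))) (.node (.node (.leaf 0) (.leaf 0)) (.node (.leaf 0) (.leaf 0)))))) (.node (.node (.node (.node (.node (.leaf 0) (.leaf 0)) (.node (.leaf 0) (.leaf 0))) (.node (.node (.leaf 0) (.leaf 0)) (.node (.leaf 0) (.leaf 0)))) (.node (.node (.node (.leaf 0) (.leaf 0)) (.node (.leaf 0) (.leaf 0))) (.node (.node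 (.leaf 0) (.leaf 0)) (.node (.leaf 0) (.leaf 0))))) (.node (.node (.node (.node (.leaf 0) (.leaf 0)) (.node (.leaf 0) (.leaf 0))) (.node (.node (.leaf 0) (.leaf 0)) (.node (.leaf 0) (.leaf 0)))) (.node (.node (.node (.leaf 0) (.leaf 0)) (.node (.leaf 0) (.leaf 0))) (.node (.node (.leaf 0) (.leaf 0)) (.node (.leaf 0) (.leaf 0)))))))

/-- How a representative arises, part 494. -/
def tInfoPart494 : Janko1.Tree ℕ := (.node (.node (.node (.node (.node (.node (.leaf 0) (.leaf 0)) (.node (.leaf 0) (.leaf 0))) (.node (.node (.leaf 0) (.leaf 0)) (.node (.leaf 0) (.leaf 0)))) (.node (.node (.node (.leaf 0) (.leaf 0)) (.node (.leaf 0) (.leaf 0))) (.node (.node (.leaf 0) (.leaf 0)) (.node (.leaf 0) (.leaf 0))))) (.node (.node (.node (.node (.leaf 0) (.leaf 0)) (.node (.leaf 0) (.leaf 0))) (.node (.node (.leaf 0) (.leaf 0)) (.node (.leaf 0) (.leaf 0)))) (.node (.node (.node (.leaf 0) (.leaf 0)) (.node (.leaf 0) (.leaf 0))) (.node (.node (.leaf 0) (.leaf 0)) (.node (.leaf 0) (.leaf 0)))))) (.node (.node (.node (.node (.node (.leaf 0) (.leaf 0)) (.node (.leaf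 0) (.leaf 0))) (.node (.node (.leaf 0) (.leaf 0)) (.node (.leaf 0) (.leaf 0)))) (.node (.node (.node (.leaf 0) (.leaf 0)) (.node (.leaf 0) (.leaf 0))) (.node (.node (.leaf 0) (.leaf 0)) (.node (.leaf 0) (.leaf 0))))) (.node (.node (.node (.node (.leaf 0) (.leaf 0)) (.node (.leaf 0) (.leaf 0))) (.node (.node (.leaf 0) (.leaf 0)) (.node (.leaf 0) (.leaf 0)))) (.node (.node (.node (.leaf 0) (.leaf 0)) (.node (.leaf 0) (.leaf 0))) (.node (.node (.leaf 0) (.leaf 0)) (.node (.leaf 0) (.leaf 0)))))))

/-- How a representative arises, part 495. -/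
def tInfoPart495 : Janko1.Tree ℕ := (.node (.node (.node (.node (.node (.node (.leaf 0) (.leaf 0)) (.node (.leaf 0) (.leaf 0))) (.node (.node (.leaf 0) (.leaf 0)) (.node (.leaf 0) (.leaf 0)))) (.node (.node (.node (.leaf 0) (.leaf 0)) (.node (.leaf 0) (.leaf 0))) (.node (.node (.leaf 0) (.leaf 0)) (.node (.leaf 0) (.leaf 0))))) (.node (.node (.node (.node (.leaf 0) (.leaf 0)) (.node (.leaf 0) (.leaf 0))) (.node (.node (.leaf 0) (.leaf 0)) (.node (.leaf 0) (.leaf 0)))) (.node (.node (.node (.leaf 0) (.leaf 0)) (.node (.leaf 0) (.leaf 0))) (.node (.node (.leaf 0) (.leaf 0)) (.node (.leaf 0) (.leaf 0)))))) (.node (.node (.node (.node (.node (.leaf 0) (.leaf 0)) (.node (.leaf 0) (.leaf 0))) (.node (.node (.leaf 0) (.leaf 0)) (.node (.leaf 0) (.leaf 0)))) (.node (.node (.node (.leaf 0) (.leaf 0)) (.node (.leaf 0) (.leaf 0))) (.node (.node (.leaf 0) (.leaf 0)) (.node (.leaf 0) (.leaf 0))))) (.node (.node (.node (.node (.leaf 0) (.leaf 0)) (.node (.leaf 0) (.leaf 0))) (.node (.node (.leaf 0) (.leaf 0)) (.node (.leaf 0) (.leaf 0)))) (.node (.node (.node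 (.leaf 0) (.leaf 0)) (.node (.leaf 0) (.leaf 0))) (.node (.node (.leaf 0) (.leaf 0)) (.node (.leaf 0) (.leaf 0)))))))

/-- How a representative arises, part 496. -/
def tInfoPart496 : Janko1.Tree ℕ := (.node (.node (.node (.node (.node (.node (.leaf 0) (.leaf 0)) (.node (.leaf 0) (.leaf 0))) (.node (.node (.leaf 0) (.leaf 0)) (.node (.leaf 0) (.leaf 0)))) (.node (.node (.node (.leaf 0) (.leaf 0)) (.node (.leaf 0) (.leaf 0))) (.node (.node (.leaf 0) (.leaf 0)) (.node (.leaf 0) (.leaf 0))))) (.node (.node (.node (.node (.leaf 0) (.leaf 0)) (.node (.leaf 0) (.leaf 0))) (.node (.node (.leaf 0) (.leaf 0)) (.node (.leaf 0) (.leaf 0)))) (.node (.node (.node (.leaf 0) (.leaf 0)) (.node (.leaf 0) (.leaf 0))) (.node (.node (.leaf 0) (.leaf 0)) (.node (.leaf 0) (.leaf 0)))))) (.node (.node (.node (.node (.node (.leaf 0) (.leaf 0)) (.node (.leaf 0) (.leaf 0))) (.node (.node (.leaf 0) (.leaf 0)) (.node (.leaf 0) (.leaf 0)))) (.node (.node (.node (.leaf 0) (.leaf 0)) (.node (.leaf 0) (.leaf 0))) (.node (.node (.leaf 0) (.leaf 0)) (.node (.leaf 0) (.leaf 0)))))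 (.node (.node (.node (.node (.leaf 0) (.leaf 0)) (.node (.leaf 0) (.leaf 0))) (.node (.node (.leaf 0) (.leaf 0)) (.node (.leaf 0) (.leaf 0)))) (.node (.node (.node (.leaf 0) (.leaf 0)) (.node (.leaf 0) (.leaf 0))) (.node (.node (.leaf 0) (.leaf 0)) (.node (.leaf 0) (.leaf 0)))))))

/-- How a representative arises, part 497. -/
def tInfoPart497 : Janko1.Tree ℕ := (.node (.node (.node (.node (.node (.node (.leaf 0) (.leaf 0)) (.node (.leaf 0) (.leaf 0))) (.node (.node (.leaf 0) (.leaf 0)) (.node (.leaf 0) (.leaf 0)))) (.node (.node (.node (.leaf 0) (.leaf 0)) (.node (.leaf 0) (.leaf 0))) (.node (.node (.leaf 0) (.leaf 0)) (.node (.leaf 0) (.leaf 0))))) (.node (.node (.node (.node (.leaf 0) (.leaf 0)) (.node (.leaf 0) (.leaf 0))) (.node (.node (.leaf 0) (.leaf 0)) (.node (.leaf 0) (.leaf 0)))) (.node (.node (.node (.leaf 0) (.leaf 0)) (.node (.leaf 0) (.leaf 0))) (.node (.node (.leaf 0) (.leaf 0)) (.node (.leaf 0) (.leaf 0)))))) (.node (.node (.node (.node (.node (.leaf 0) (.leaf 0)) (.node (.leaf 0) (.leaf 0))) (.node (.node (.leaf 0) (.leaf 0))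 (.node (.leaf 0) (.leaf 0)))) (.node (.node (.node (.leaf 0) (.leaf 0)) (.node (.leaf 0) (.leaf 0))) (.node (.node (.leaf 0) (.leaf 0)) (.node (.leaf 0) (.leaf 0))))) (.node (.node (.node (.node (.leaf 0) (.leaf 0)) (.node (.leaf 0) (.leaf 0))) (.node (.node (.leaf 0) (.leaf 0)) (.node (.leaf 0) (.leaf 0)))) (.node (.node (.node (.leaf 0) (.leaf 0)) (.node (.leaf 0) (.leaf 0))) (.node (.node (.leaf 0) (.leaf 0)) (.node (.leaf 0) (.leaf 0)))))))

/-- How a representative arises, part 498. -/
def tInfoPart498 : Janko1.Tree ℕ := (.node (.node (.node (.node (.node (.node (.leaf 0) (.leaf 0)) (.node (.leaf 0) (.leaf 0))) (.node (.node (.leaf 0) (.leaf 0)) (.node (.leaf 0) (.leaf 0)))) (.node (.node (.node (.leaf 0) (.leaf 0)) (.node (.leaf 0) (.leaf 0))) (.node (.node (.leaf 0) (.leaf 0)) (.node (.leaf 0) (.leaf 0))))) (.node (.node (.node (.node (.leaf 0) (.leaf 0)) (.node (.leaf 0) (.leaf 0))) (.node (.node (.leaf 0) (.leaf 0)) (.node (.leaf 0) (.leaf 0)))) (.node (.node (.node (.leaf 0) (.leaf 0)) (.node (.leaf 0) (.leaf 0))) (.node (.node (.leaf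 0) (.leaf 0)) (.node (.leaf 0) (.leaf 0)))))) (.node (.node (.node (.node (.node (.leaf 0) (.leaf 0)) (.node (.leaf 0) (.leaf 0))) (.node (.node (.leaf 0) (.leaf 0)) (.node (.leaf 0) (.leaf 0)))) (.node (.node (.node (.leaf 0) (.leaf 0)) (.node (.leaf 0) (.leaf 0))) (.node (.node (.leaf 0) (.leaf 0)) (.node (.leaf 0) (.leaf 0))))) (.node (.node (.node (.node (.leaf 0) (.leaf 0)) (.node (.leaf 0) (.leaf 0))) (.node (.node (.leaf 0) (.leaf 0)) (.node (.leaf 0) (.leaf 0)))) (.node (.node (.node (.leaf 0) (.leaf 0)) (.node (.leaf 0) (.leaf 0))) (.node (.node (.leaf 0) (.leaf 0)) (.node (.leaf 0) (.leaf 0)))))))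

/-- How a representative arises, part 499. -/
def tInfoPart499 : Janko1.Tree ℕ := (.node (.node (.node (.node (.node (.node (.leaf 0) (.leaf 0)) (.node (.leaf 0) (.leaf 0))) (.node (.node (.leaf 0) (.leaf 0)) (.node (.leaf 0) (.leaf 0)))) (.node (.node (.node (.leaf 0) (.leaf 0)) (.node (.leaf 0) (.leaf 0))) (.node (.node (.leaf 0) (.leaf 0)) (.node (.leaf 0) (.leaf 0))))) (.node (.node (.node (.node (.leaf 0) (.leaf 0)) (.node (.leaf 0) (.leaf 0))) (.node (.node (.leaf 0) (.leaf 0)) (.node (.leaf 0) (.leaf 0)))) (.node (.node (.node (.leaf 0) (.leaf 0)) (.node (.leaf 0) (.leaf 0))) (.node (.node (.leaf 0) (.leaf 0)) (.node (.leaf 0) (.leaf 0)))))) (.node (.node (.node (.node (.node (.leaf 0) (.leaf 0)) (.node (.leaf 0) (.leaf 0))) (.node (.node (.leaf 0) (.leaf 0)) (.node (.leaf 0) (.leaf 0)))) (.node (.node (.node (.leaf 0) (.leaf 0)) (.node (.leaf 0) (.leaf 0))) (.node (.node (.leaf 0) (.leaf 0)) (.node (.leaf 0) (.leaf 0))))) (.node (.node (.node (.node (.leaf 0) (.leaf 0)) (.node (.leaf 0) (.leaf 0))) (.node (.node (.leaf 0) (.leaf 0))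 (.node (.leaf 0) (.leaf 0)))) (.node (.node (.node (.leaf 0) (.leaf 0)) (.node (.leaf 0) (.leaf 0))) (.node (.node (.leaf 0) (.leaf 0)) (.node (.leaf 0) (.leaf 0)))))))

/-- How a representative arises, part 500. -/
def tInfoPart500 : Janko1.Tree ℕ := (.node (.node (.node (.node (.node (.node (.leaf 0) (.leaf 0)) (.node (.leaf 0) (.leaf 0))) (.node (.node (.leaf 0) (.leaf 0)) (.node (.leaf 0) (.leaf 0)))) (.node (.node (.node (.leaf 0) (.leaf 0)) (.node (.leaf 0) (.leaf 0))) (.node (.node (.leaf 0) (.leaf 0)) (.node (.leaf 0) (.leaf 0))))) (.node (.node (.node (.node (.leaf 0) (.leaf 0)) (.node (.leaf 0) (.leaf 0))) (.node (.node (.leaf 0) (.leaf 0)) (.node (.leaf 0) (.leaf 0)))) (.node (.node (.node (.leaf 0) (.leaf 0)) (.node (.leaf 0) (.leaf 0))) (.node (.node (.leaf 0) (.leaf 0)) (.node (.leaf 0) (.leaf 0)))))) (.node (.node (.node (.node (.node (.leaf 0) (.leaf 0)) (.node (.leaf 0) (.leaf 0))) (.node (.node (.leaf 0) (.leaf 0)) (.node (.leaf 0) (.leaf 0)))) (.node (.node (.node (.leaf 0) (.leaf 0)) (.node (.leaf 0) (.leaf 0))) (.node (.node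 (.leaf 0) (.leaf 0)) (.node (.leaf 0) (.leaf 0))))) (.node (.node (.node (.node (.leaf 0) (.leaf 0)) (.node (.leaf 0) (.leaf 0))) (.node (.node (.leaf 0) (.leaf 0)) (.node (.leaf 0) (.leaf 0)))) (.node (.node (.node (.leaf 0) (.leaf 0)) (.node (.leaf 0) (.leaf 0))) (.node (.node (.leaf 0) (.leaf 0)) (.node (.leaf 0) (.leaf 0)))))))

/-- How a representative arises, part 501. -/
def tInfoPart501 : Janko1.Tree ℕ := (.node (.node (.node (.node (.node (.node (.leaf 0) (.leaf 0)) (.node (.leaf 0) (.leaf 0))) (.node (.node (.leaf 0) (.leaf 0)) (.node (.leaf 0) (.leaf 0)))) (.node (.node (.node (.leaf 0) (.leaf 0)) (.node (.leaf 0) (.leaf 0))) (.node (.node (.leaf 0) (.leaf 0)) (.node (.leaf 0) (.leaf 0))))) (.node (.node (.node (.node (.leaf 0) (.leaf 0)) (.node (.leaf 0) (.leaf 0))) (.node (.node (.leaf 0) (.leaf 0)) (.node (.leaf 0) (.leaf 0)))) (.node (.node (.node (.leaf 0) (.leaf 0)) (.node (.leaf 0) (.leaf 0))) (.node (.node (.leaf 0) (.leaf 0)) (.node (.leaf 0) (.leaf 0)))))) (.node (.node (.node (.node (.node (.leaf 0) (.leaf 0)) (.node (.leaf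 0) (.leaf 0))) (.node (.node (.leaf 0) (.leaf 0)) (.node (.leaf 0) (.leaf 0)))) (.node (.node (.node (.leaf 0) (.leaf 0)) (.node (.leaf 0) (.leaf 0))) (.node (.node (.leaf 0) (.leaf 0)) (.node (.leaf 0) (.leaf 0))))) (.node (.node (.node (.node (.leaf 0) (.leaf 0)) (.node (.leaf 0) (.leaf 0))) (.node (.node (.leaf 0) (.leaf 0)) (.node (.leaf 0) (.leaf 0)))) (.node (.node (.node (.leaf 0) (.leaf 0)) (.node (.leaf 0) (.leaf 0))) (.node (.node (.leaf 0) (.leaf 0)) (.node (.leaf 0) (.leaf 0)))))))

/-- How a representative arises, part 502. -/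
def tInfoPart502 : Janko1.Tree ℕ := (.node (.node (.node (.node (.node (.node (.leaf 0) (.leaf 0)) (.node (.leaf 0) (.leaf 0))) (.node (.node (.leaf 0) (.leaf 0)) (.node (.leaf 0) (.leaf 0)))) (.node (.node (.node (.leaf 0) (.leaf 0)) (.node (.leaf 0) (.leaf 0))) (.node (.node (.leaf 0) (.leaf 0)) (.node (.leaf 0) (.leaf 0))))) (.node (.node (.node (.node (.leaf 0) (.leaf 0)) (.node (.leaf 0) (.leaf 0))) (.node (.node (.leaf 0) (.leaf 0)) (.node (.leaf 0) (.leaf 0)))) (.node (.node (.node (.leaf 0) (.leaf 0)) (.node (.leaf 0) (.leaf 0))) (.node (.node (.leaf 0) (.leaf 0)) (.node (.leaf 0) (.leaf 0)))))) (.node (.node (.node (.node (.node (.leaf 0) (.leaf 0)) (.node (.leaf 0) (.leaf 0))) (.node (.node (.leaf 0) (.leaf 0)) (.node (.leaf 0) (.leaf 0)))) (.node (.node (.node (.leaf 0) (.leaf 0)) (.node (.leaf 0) (.leaf 0))) (.node (.node (.leaf 0) (.leaf 0)) (.node (.leaf 0) (.leaf 0))))) (.node (.node (.node (.node (.leaf 0) (.leaf 0)) (.node (.leaf 0) (.leaf 0))) (.node (.node (.leaf 0) (.leaf 0)) (.node (.leaf 0) (.leaf 0)))) (.node (.node (.node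 (.leaf 0) (.leaf 0)) (.node (.leaf 0) (.leaf 0))) (.node (.node (.leaf 0) (.leaf 0)) (.node (.leaf 0) (.leaf 0)))))))

/-- How a representative arises, part 503. -/
def tInfoPart503 : Janko1.Tree ℕ := (.node (.node (.node (.node (.node (.node (.leaf 0) (.leaf 0)) (.node (.leaf 0) (.leaf 0))) (.node (.node (.leaf 0) (.leaf 0)) (.node (.leaf 0) (.leaf 0)))) (.node (.node (.node (.leaf 0) (.leaf 0)) (.node (.leaf 0) (.leaf 0))) (.node (.node (.leaf 0) (.leaf 0)) (.node (.leaf 0) (.leaf 0))))) (.node (.node (.node (.node (.leaf 0) (.leaf 0)) (.node (.leaf 0) (.leaf 0))) (.node (.node (.leaf 0) (.leaf 0)) (.node (.leaf 0) (.leaf 0)))) (.node (.node (.node (.leaf 0) (.leaf 0)) (.node (.leaf 0) (.leaf 0))) (.node (.node (.leaf 0) (.leaf 0)) (.node (.leaf 0) (.leaf 0)))))) (.node (.node (.node (.node (.node (.leaf 0) (.leaf 0)) (.node (.leaf 0) (.leaf 0))) (.node (.node (.leaf 0) (.leaf 0)) (.node (.leaf 0) (.leaf 0)))) (.node (.node (.node (.leaf 0) (.leaf 0)) (.node (.leaf 0) (.leaf 0))) (.node (.node (.leaf 0) (.leaf 0)) (.node (.leaf 0) (.leaf 0)))))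 (.node (.node (.node (.node (.leaf 0) (.leaf 0)) (.node (.leaf 0) (.leaf 0))) (.node (.node (.leaf 0) (.leaf 0)) (.node (.leaf 0) (.leaf 0)))) (.node (.node (.node (.leaf 0) (.leaf 0)) (.node (.leaf 0) (.leaf 0))) (.node (.node (.leaf 0) (.leaf 0)) (.node (.leaf 0) (.leaf 0)))))))

/-- How a representative arises, part 504. -/
def tInfoPart504 : Janko1.Tree ℕ := (.node (.node (.node (.node (.node (.node (.leaf 0) (.leaf 0)) (.node (.leaf 0) (.leaf 0))) (.node (.node (.leaf 0) (.leaf 0)) (.node (.leaf 0) (.leaf 0)))) (.node (.node (.node (.leaf 0) (.leaf 0)) (.node (.leaf 0) (.leaf 0))) (.node (.node (.leaf 0) (.leaf 0)) (.node (.leaf 0) (.leaf 0))))) (.node (.node (.node (.node (.leaf 0) (.leaf 0)) (.node (.leaf 0) (.leaf 0))) (.node (.node (.leaf 0) (.leaf 0)) (.node (.leaf 0) (.leaf 0)))) (.node (.node (.node (.leaf 0) (.leaf 0)) (.node (.leaf 0) (.leaf 0))) (.node (.node (.leaf 0) (.leaf 0)) (.node (.leaf 0) (.leaf 0)))))) (.node (.node (.node (.node (.node (.leaf 0) (.leaf 0)) (.node (.leaf 0) (.leaf 0))) (.node (.node (.leaf 0) (.leaf 0))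 (.node (.leaf 0) (.leaf 0)))) (.node (.node (.node (.leaf 0) (.leaf 0)) (.node (.leaf 0) (.leaf 0))) (.node (.node (.leaf 0) (.leaf 0)) (.node (.leaf 0) (.leaf 0))))) (.node (.node (.node (.node (.leaf 0) (.leaf 0)) (.node (.leaf 0) (.leaf 0))) (.node (.node (.leaf 0) (.leaf 0)) (.node (.leaf 0) (.leaf 0)))) (.node (.node (.node (.leaf 0) (.leaf 0)) (.node (.leaf 0) (.leaf 0))) (.node (.node (.leaf 0) (.leaf 0)) (.node (.leaf 0) (.leaf 0)))))))

/-- How a representative arises, part 505. -/
def tInfoPart505 : Janko1.Tree ℕ := (.node (.node (.node (.node (.node (.node (.leaf 0) (.leaf 0)) (.node (.leaf 0) (.leaf 0))) (.node (.node (.leaf 0) (.leaf 0)) (.node (.leaf 0) (.leaf 0)))) (.node (.node (.node (.leaf 0) (.leaf 0)) (.node (.leaf 0) (.leaf 0))) (.node (.node (.leaf 0) (.leaf 0)) (.node (.leaf 0) (.leaf 0))))) (.node (.node (.node (.node (.leaf 0) (.leaf 0)) (.node (.leaf 0) (.leaf 0))) (.node (.node (.leaf 0) (.leaf 0)) (.node (.leaf 0) (.leaf 0)))) (.node (.node (.node (.leaf 0) (.leaf 0)) (.node (.leaf 0) (.leaf 0))) (.node (.node (.leaf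 0) (.leaf 0)) (.node (.leaf 0) (.leaf 0)))))) (.node (.node (.node (.node (.node (.leaf 0) (.leaf 0)) (.node (.leaf 0) (.leaf 0))) (.node (.node (.leaf 0) (.leaf 0)) (.node (.leaf 0) (.leaf 0)))) (.node (.node (.node (.leaf 0) (.leaf 0)) (.node (.leaf 0) (.leaf 0))) (.node (.node (.leaf 0) (.leaf 0)) (.node (.leaf 0) (.leaf 0))))) (.node (.node (.node (.node (.leaf 0) (.leaf 0)) (.node (.leaf 0) (.leaf 0))) (.node (.node (.leaf 0) (.leaf 0)) (.node (.leaf 0) (.leaf 0)))) (.node (.node (.node (.leaf 0) (.leaf 0)) (.node (.leaf 0) (.leaf 0))) (.node (.node (.leaf 0) (.leaf 0)) (.node (.leaf 0) (.leaf 0)))))))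

/-- How a representative arises, part 506. -/
def tInfoPart506 : Janko1.Tree ℕ := (.node (.node (.node (.node (.node (.node (.leaf 0) (.leaf 0)) (.node (.leaf 0) (.leaf 0))) (.node (.node (.leaf 0) (.leaf 0)) (.node (.leaf 0) (.leaf 0)))) (.node (.node (.node (.leaf 0) (.leaf 0)) (.node (.leaf 0) (.leaf 0))) (.node (.node (.leaf 0) (.leaf 0)) (.node (.leaf 0) (.leaf 0))))) (.node (.node (.node (.node (.leaf 0) (.leaf 0)) (.node (.leaf 0) (.leaf 0))) (.node (.node (.leaf 0) (.leaf 0)) (.node (.leaf 0) (.leaf 0)))) (.node (.node (.node (.leaf 0) (.leaf 0)) (.node (.leaf 0) (.leaf 0))) (.node (.node (.leaf 0) (.leaf 0)) (.node (.leaf 0) (.leaf 0)))))) (.node (.node (.node (.node (.node (.leaf 0) (.leaf 0)) (.node (.leaf 0) (.leaf 0))) (.node (.node (.leaf 0) (.leaf 0)) (.node (.leaf 0) (.leaf 0)))) (.node (.node (.node (.leaf 0) (.leaf 0)) (.node (.leaf 0) (.leaf 0))) (.node (.node (.leaf 0) (.leaf 0)) (.node (.leaf 0) (.leaf 0))))) (.node (.node (.node (.node (.leaf 0) (.leaf 0)) (.node (.leaf 0) (.leaf 0))) (.node (.node (.leaf 0) (.leaf 0))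 (.node (.leaf 0) (.leaf 0)))) (.node (.node (.node (.leaf 0) (.leaf 0)) (.node (.leaf 0) (.leaf 0))) (.node (.node (.leaf 0) (.leaf 0)) (.node (.leaf 0) (.leaf 0)))))))

/-- How a representative arises, part 507. -/
def tInfoPart507 : Janko1.Tree ℕ := (.node (.node (.node (.node (.node (.node (.leaf 0) (.leaf 0)) (.node (.leaf 0) (.leaf 0))) (.node (.node (.leaf 0) (.leaf 0)) (.node (.leaf 0) (.leaf 0)))) (.node (.node (.node (.leaf 0) (.leaf 0)) (.node (.leaf 0) (.leaf 0))) (.node (.node (.leaf 0) (.leaf 0)) (.node (.leaf 0) (.leaf 0))))) (.node (.node (.node (.node (.leaf 0) (.leaf 0)) (.node (.leaf 0) (.leaf 0))) (.node (.node (.leaf 0) (.leaf 0)) (.node (.leaf 0) (.leaf 0)))) (.node (.node (.node (.leaf 0) (.leaf 0)) (.node (.leaf 0) (.leaf 0))) (.node (.node (.leaf 0) (.leaf 0)) (.node (.leaf 0) (.leaf 0)))))) (.node (.node (.node (.node (.node (.leaf 0) (.leaf 0)) (.node (.leaf 0) (.leaf 0))) (.node (.node (.leaf 0) (.leaf 0)) (.node (.leaf 0) (.leaf 0)))) (.node (.node (.node (.leaf 0) (.leaf 0)) (.node (.leaf 0) (.leaf 0))) (.node (.node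 (.leaf 0) (.leaf 0)) (.node (.leaf 0) (.leaf 0))))) (.node (.node (.node (.node (.leaf 0) (.leaf 0)) (.node (.leaf 0) (.leaf 0))) (.node (.node (.leaf 0) (.leaf 0)) (.node (.leaf 0) (.leaf 0)))) (.node (.node (.node (.leaf 0) (.leaf 0)) (.node (.leaf 0) (.leaf 0))) (.node (.node (.leaf 0) (.leaf 0)) (.node (.leaf 0) (.leaf 0)))))))

/-- How a representative arises, part 508. -/
def tInfoPart508 : Janko1.Tree ℕ := (.node (.node (.node (.node (.node (.node (.leaf 0) (.leaf 0)) (.node (.leaf 0) (.leaf 0))) (.node (.node (.leaf 0) (.leaf 0)) (.node (.leaf 0) (.leaf 0)))) (.node (.node (.node (.leaf 0) (.leaf 0)) (.node (.leaf 0) (.leaf 0))) (.node (.node (.leaf 0) (.leaf 0)) (.node (.leaf 0) (.leaf 0))))) (.node (.node (.node (.node (.leaf 0) (.leaf 0)) (.node (.leaf 0) (.leaf 0))) (.node (.node (.leaf 0) (.leaf 0)) (.node (.leaf 0) (.leaf 0)))) (.node (.node (.node (.leaf 0) (.leaf 0)) (.node (.leaf 0) (.leaf 0))) (.node (.node (.leaf 0) (.leaf 0)) (.node (.leaf 0) (.leaf 0)))))) (.node (.node (.node (.node (.node (.leaf 0) (.leaf 0)) (.node (.leaf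 0) (.leaf 0))) (.node (.node (.leaf 0) (.leaf 0)) (.node (.leaf 0) (.leaf 0)))) (.node (.node (.node (.leaf 0) (.leaf 0)) (.node (.leaf 0) (.leaf 0))) (.node (.node (.leaf 0) (.leaf 0)) (.node (.leaf 0) (.leaf 0))))) (.node (.node (.node (.node (.leaf 0) (.leaf 0)) (.node (.leaf 0) (.leaf 0))) (.node (.node (.leaf 0) (.leaf 0)) (.node (.leaf 0) (.leaf 0)))) (.node (.node (.node (.leaf 0) (.leaf 0)) (.node (.leaf 0) (.leaf 0))) (.node (.node (.leaf 0) (.leaf 0)) (.node (.leaf 0) (.leaf 0)))))))

/-- How a representative arises, part 509. -/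
def tInfoPart509 : Janko1.Tree ℕ := (.node (.node (.node (.node (.node (.node (.leaf 0) (.leaf 0)) (.node (.leaf 0) (.leaf 0))) (.node (.node (.leaf 0) (.leaf 0)) (.node (.leaf 0) (.leaf 0)))) (.node (.node (.node (.leaf 0) (.leaf 0)) (.node (.leaf 0) (.leaf 0))) (.node (.node (.leaf 0) (.leaf 0)) (.node (.leaf 0) (.leaf 0))))) (.node (.node (.node (.node (.leaf 0) (.leaf 0)) (.node (.leaf 0) (.leaf 0))) (.node (.node (.leaf 0) (.leaf 0)) (.node (.leaf 0) (.leaf 0)))) (.node (.node (.node (.leaf 0) (.leaf 0)) (.node (.leaf 0) (.leaf 0))) (.node (.node (.leaf 0) (.leaf 0)) (.node (.leaf 0) (.leaf 0)))))) (.node (.node (.node (.node (.node (.leaf 0) (.leaf 0)) (.node (.leaf 0) (.leaf 0))) (.node (.node (.leaf 0) (.leaf 0)) (.node (.leaf 0) (.leaf 0)))) (.node (.node (.node (.leaf 0) (.leaf 0)) (.node (.leaf 0) (.leaf 0))) (.node (.node (.leaf 0) (.leaf 0)) (.node (.leaf 0) (.leaf 0))))) (.node (.node (.node (.node (.leaf 0) (.leaf 0)) (.node (.leaf 0) (.leaf 0))) (.node (.node (.leaf 0) (.leaf 0)) (.node (.leaf 0) (.leaf 0)))) (.node (.node (.node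 (.leaf 0) (.leaf 0)) (.node (.leaf 0) (.leaf 0))) (.node (.node (.leaf 0) (.leaf 0)) (.node (.leaf 0) (.leaf 0)))))))

/-- How a representative arises, part 510. -/
def tInfoPart510 : Janko1.Tree ℕ := (.node (.node (.node (.node (.node (.node (.leaf 0) (.leaf 0)) (.node (.leaf 0) (.leaf 0))) (.node (.node (.leaf 0) (.leaf 0)) (.node (.leaf 0) (.leaf 0)))) (.node (.node (.node (.leaf 0) (.leaf 0)) (.node (.leaf 0) (.leaf 0))) (.node (.node (.leaf 0) (.leaf 0)) (.node (.leaf 0) (.leaf 0))))) (.node (.node (.node (.node (.leaf 0) (.leaf 0)) (.node (.leaf 0) (.leaf 0))) (.node (.node (.leaf 0) (.leaf 0)) (.node (.leaf 0) (.leaf 0)))) (.node (.node (.node (.leaf 0) (.leaf 0)) (.node (.leaf 0) (.leaf 0))) (.node (.node (.leaf 0) (.leaf 0)) (.node (.leaf 0) (.leaf 0)))))) (.node (.node (.node (.node (.node (.leaf 0) (.leaf 0)) (.node (.leaf 0) (.leaf 0))) (.node (.node (.leaf 0) (.leaf 0)) (.node (.leaf 0) (.leaf 0)))) (.node (.node (.node (.leaf 0) (.leaf 0)) (.node (.leaf 0) (.leaf 0))) (.node (.node (.leaf 0) (.leaf 0)) (.node (.leaf 0) (.leaf 0)))))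 (.node (.node (.node (.node (.leaf 0) (.leaf 0)) (.node (.leaf 0) (.leaf 0))) (.node (.node (.leaf 0) (.leaf 0)) (.node (.leaf 0) (.leaf 0)))) (.node (.node (.node (.leaf 0) (.leaf 0)) (.node (.leaf 0) (.leaf 0))) (.node (.node (.leaf 0) (.leaf 0)) (.node (.leaf 0) (.leaf 0)))))))

/-- How a representative arises, part 511. -/
def tInfoPart511 : Janko1.Tree ℕ := (.node (.node (.node (.node (.node (.node (.leaf 0) (.leaf 0)) (.node (.leaf 0) (.leaf 0))) (.node (.node (.leaf 0) (.leaf 0)) (.node (.leaf 0) (.leaf 0)))) (.node (.node (.node (.leaf 0) (.leaf 0)) (.node (.leaf 0) (.leaf 0))) (.node (.node (.leaf 0) (.leaf 0)) (.node (.leaf 0) (.leaf 0))))) (.node (.node (.node (.node (.leaf 0) (.leaf 0)) (.node (.leaf 0) (.leaf 0))) (.node (.node (.leaf 0) (.leaf 0)) (.node (.leaf 0) (.leaf 0)))) (.node (.node (.node (.leaf 0) (.leaf 0)) (.node (.leaf 0) (.leaf 0))) (.node (.node (.leaf 0) (.leaf 0)) (.node (.leaf 0) (.leaf 0)))))) (.node (.node (.node (.node (.node (.leaf 0) (.leaf 0)) (.node (.leaf 0) (.leaf 0))) (.node (.node (.leaf 0) (.leaf 0))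 (.node (.leaf 0) (.leaf 0)))) (.node (.node (.node (.leaf 0) (.leaf 0)) (.node (.leaf 0) (.leaf 0))) (.node (.node (.leaf 0) (.leaf 0)) (.node (.leaf 0) (.leaf 0))))) (.node (.node (.node (.node (.leaf 0) (.leaf 0)) (.node (.leaf 0) (.leaf 0))) (.node (.node (.leaf 0) (.leaf 0)) (.node (.leaf 0) (.leaf 0)))) (.node (.node (.node (.leaf 0) (.leaf 0)) (.node (.leaf 0) (.leaf 0))) (.node (.node (.leaf 0) (.leaf 0)) (.node (.leaf 0) (.leaf 0)))))))

/-- How a representative arises, block 0. -/
def tInfoBlock0 : Janko1.Tree ℕ := (.node (.node (.node (.node (.node tInfoPart0 tInfoPart1) (.node tInfoPart2 tInfoPart3)) (.node (.node tInfoPart4 tInfoPart5) (.node tInfoPart6 tInfoPart7))) (.node (.node (.node tInfoPart8 tInfoPart9) (.node tInfoPart10 tInfoPart11)) (.node (.node tInfoPart12 tInfoPart13) (.node tInfoPart14 tInfoPart15)))) (.node (.node (.node (.node tInfoPart16 tInfoPart17) (.node tInfoPart18 tInfoPart19)) (.node (.node tInfoPart20 tInfoPart21) (.node tInfoPart22 tInfoPart23))) (.node (.node (.node tInfoPart24 tInfoPart25) (.node tInfoPart26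 tInfoPart27)) (.node (.node tInfoPart28 tInfoPart29) (.node tInfoPart30 tInfoPart31)))))

/-- How a representative arises, block 1. -/
def tInfoBlock1 : Janko1.Tree ℕ := (.node (.node (.node (.node (.node tInfoPart32 tInfoPart33) (.node tInfoPart34 tInfoPart35)) (.node (.node tInfoPart36 tInfoPart37) (.node tInfoPart38 tInfoPart39))) (.node (.node (.node tInfoPart40 tInfoPart41) (.node tInfoPart42 tInfoPart43)) (.node (.node tInfoPart44 tInfoPart45) (.node tInfoPart46 tInfoPart47)))) (.node (.node (.node (.node tInfoPart48 tInfoPart49) (.node tInfoPart50 tInfoPart51)) (.node (.node tInfoPart52 tInfoPart53) (.node tInfoPart54 tInfoPart55))) (.node (.node (.node tInfoPart56 tInfoPart57) (.node tInfoPart58 tInfoPart59)) (.node (.node tInfoPart60 tInfoPart61) (.node tInfoPart62 tInfoPart63)))))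

/-- How a representative arises, block 2. -/
def tInfoBlock2 : Janko1.Tree ℕ := (.node (.node (.node (.node (.node tInfoPart64 tInfoPart65) (.node tInfoPart66 tInfoPart67)) (.node (.node tInfoPart68 tInfoPart69) (.node tInfoPart70 tInfoPart71))) (.node (.node (.node tInfoPart72 tInfoPart73) (.node tInfoPart74 tInfoPart75)) (.node (.node tInfoPart76 tInfoPart77) (.node tInfoPart78 tInfoPart79)))) (.node (.node (.node (.node tInfoPart80 tInfoPart81) (.node tInfoPart82 tInfoPart83)) (.node (.node tInfoPart84 tInfoPart85) (.node tInfoPart86 tInfoPart87))) (.node (.node (.node tInfoPart88 tInfoPart89) (.node tInfoPart90 tInfoPart91)) (.node (.node tInfoPart92 tInfoPart93) (.node tInfoPart94 tInfoPart95)))))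

/-- How a representative arises, block 3. -/
def tInfoBlock3 : Janko1.Tree ℕ := (.node (.node (.node (.node (.node tInfoPart96 tInfoPart97) (.node tInfoPart98 tInfoPart99)) (.node (.node tInfoPart100 tInfoPart101) (.node tInfoPart102 tInfoPart103))) (.node (.node (.node tInfoPart104 tInfoPart105) (.node tInfoPart106 tInfoPart107)) (.node (.node tInfoPart108 tInfoPart109) (.node tInfoPart110 tInfoPart111)))) (.node (.node (.node (.node tInfoPart112 tInfoPart113) (.node tInfoPart114 tInfoPart115)) (.node (.node tInfoPart116 tInfoPart117) (.node tInfoPart118 tInfoPart119))) (.node (.node (.node tInfoPart120 tInfoPart121) (.node tInfoPart122 tInfoPart123)) (.node (.node tInfoPart124 tInfoPart125) (.node tInfoPart126 tInfoPart127)))))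

/-- How a representative arises, block 4. -/
def tInfoBlock4 : Janko1.Tree ℕ := (.node (.node (.node (.node (.node tInfoPart128 tInfoPart129) (.node tInfoPart130 tInfoPart131)) (.node (.node tInfoPart132 tInfoPart133) (.node tInfoPart134 tInfoPart135))) (.node (.node (.node tInfoPart136 tInfoPart137) (.node tInfoPart138 tInfoPart139)) (.node (.node tInfoPart140 tInfoPart141) (.node tInfoPart142 tInfoPart143)))) (.node (.node (.node (.node tInfoPart144 tInfoPart145) (.node tInfoPart146 tInfoPart147)) (.node (.node tInfoPart148 tInfoPart149) (.node tInfoPart150 tInfoPart151))) (.node (.node (.node tInfoPart152 tInfoPart153) (.node tInfoPart154 tInfoPart155)) (.node (.node tInfoPart156 tInfoPart157) (.node tInfoPart158 tInfoPart159)))))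

/-- How a representative arises, block 5. -/
def tInfoBlock5 : Janko1.Tree ℕ := (.node (.node (.node (.node (.node tInfoPart160 tInfoPart161) (.node tInfoPart162 tInfoPart163)) (.node (.node tInfoPart164 tInfoPart165) (.node tInfoPart166 tInfoPart167))) (.node (.node (.node tInfoPart168 tInfoPart169) (.node tInfoPart170 tInfoPart171)) (.node (.node tInfoPart172 tInfoPart173) (.node tInfoPart174 tInfoPart175)))) (.node (.node (.node (.node tInfoPart176 tInfoPart177) (.node tInfoPart178 tInfoPart179)) (.node (.node tInfoPart180 tInfoPart181) (.node tInfoPart182 tInfoPart183))) (.node (.node (.node tInfoPart184 tInfoPart185) (.node tInfoPart186 tInfoPart187)) (.node (.node tInfoPart188 tInfoPart189) (.node tInfoPart190 tInfoPart191)))))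

/-- How a representative arises, block 6. -/
def tInfoBlock6 : Janko1.Tree ℕ := (.node (.node (.node (.node (.node tInfoPart192 tInfoPart193) (.node tInfoPart194 tInfoPart195)) (.node (.node tInfoPart196 tInfoPart197) (.node tInfoPart198 tInfoPart199))) (.node (.node (.node tInfoPart200 tInfoPart201) (.node tInfoPart202 tInfoPart203)) (.node (.node tInfoPart204 tInfoPart205) (.node tInfoPart206 tInfoPart207)))) (.node (.node (.node (.node tInfoPart208 tInfoPart209) (.node tInfoPart210 tInfoPart211)) (.node (.node tInfoPart212 tInfoPart213) (.node tInfoPart214 tInfoPart215))) (.node (.node (.node tInfoPart216 tInfoPart217) (.node tInfoPart218 tInfoPart219)) (.node (.node tInfoPart220 tInfoPart221) (.node tInfoPart222 tInfoPart223)))))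

/-- How a representative arises, block 7. -/
def tInfoBlock7 : Janko1.Tree ℕ := (.node (.node (.node (.node (.node tInfoPart224 tInfoPart225) (.node tInfoPart226 tInfoPart227)) (.node (.node tInfoPart228 tInfoPart229) (.node tInfoPart230 tInfoPart231))) (.node (.node (.node tInfoPart232 tInfoPart233) (.node tInfoPart234 tInfoPart235)) (.node (.node tInfoPart236 tInfoPart237) (.node tInfoPart238 tInfoPart239)))) (.node (.node (.node (.node tInfoPart240 tInfoPart241) (.node tInfoPart242 tInfoPart243)) (.node (.node tInfoPart244 tInfoPart245) (.node tInfoPart246 tInfoPart247))) (.node (.node (.node tInfoPart248 tInfoPart249) (.node tInfoPart250 tInfoPart251)) (.node (.node tInfoPart252 tInfoPart253) (.node tInfoPart254 tInfoPart255)))))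

/-- How a representative arises, block 8. -/
def tInfoBlock8 : Janko1.Tree ℕ := (.node (.node (.node (.node (.node tInfoPart256 tInfoPart257) (.node tInfoPart258 tInfoPart259)) (.node (.node tInfoPart260 tInfoPart261) (.node tInfoPart262 tInfoPart263))) (.node (.node (.node tInfoPart264 tInfoPart265) (.node tInfoPart266 tInfoPart267)) (.node (.node tInfoPart268 tInfoPart269) (.node tInfoPart270 tInfoPart271)))) (.node (.node (.node (.node tInfoPart272 tInfoPart273) (.node tInfoPart274 tInfoPart275)) (.node (.node tInfoPart276 tInfoPart277) (.node tInfoPart278 tInfoPart279))) (.node (.node (.node tInfoPart280 tInfoPart281) (.node tInfoPart282 tInfoPart283)) (.node (.node tInfoPart284 tInfoPart285) (.node tInfoPart286 tInfoPart287)))))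

/-- How a representative arises, block 9. -/
def tInfoBlock9 : Janko1.Tree ℕ := (.node (.node (.node (.node (.node tInfoPart288 tInfoPart289) (.node tInfoPart290 tInfoPart291)) (.node (.node tInfoPart292 tInfoPart293) (.node tInfoPart294 tInfoPart295))) (.node (.node (.node tInfoPart296 tInfoPart297) (.node tInfoPart298 tInfoPart299)) (.node (.node tInfoPart300 tInfoPart301) (.node tInfoPart302 tInfoPart303)))) (.node (.node (.node (.node tInfoPart304 tInfoPart305) (.node tInfoPart306 tInfoPart307)) (.node (.node tInfoPart308 tInfoPart309) (.node tInfoPart310 tInfoPart311))) (.node (.node (.node tInfoPart312 tInfoPart313) (.node tInfoPart314 tInfoPart315)) (.node (.node tInfoPart316 tInfoPart317) (.node tInfoPart318 tInfoPart319)))))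

/-- How a representative arises, block 10. -/
def tInfoBlock10 : Janko1.Tree ℕ := (.node (.node (.node (.node (.node tInfoPart320 tInfoPart321) (.node tInfoPart322 tInfoPart323)) (.node (.node tInfoPart324 tInfoPart325) (.node tInfoPart326 tInfoPart327))) (.node (.node (.node tInfoPart328 tInfoPart329) (.node tInfoPart330 tInfoPart331)) (.node (.node tInfoPart332 tInfoPart333) (.node tInfoPart334 tInfoPart335)))) (.node (.node (.node (.node tInfoPart336 tInfoPart337) (.node tInfoPart338 tInfoPart339)) (.node (.node tInfoPart340 tInfoPart341) (.node tInfoPart342 tInfoPart343))) (.node (.node (.node tInfoPart344 tInfoPart345) (.node tInfoPart346 tInfoPart347)) (.node (.node tInfoPart348 tInfoPart349) (.node tInfoPart350 tInfoPart351)))))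

/-- How a representative arises, block 11. -/
def tInfoBlock11 : Janko1.Tree ℕ := (.node (.node (.node (.node (.node tInfoPart352 tInfoPart353) (.node tInfoPart354 tInfoPart355)) (.node (.node tInfoPart356 tInfoPart357) (.node tInfoPart358 tInfoPart359))) (.node (.node (.node tInfoPart360 tInfoPart361) (.node tInfoPart362 tInfoPart363)) (.node (.node tInfoPart364 tInfoPart365) (.node tInfoPart366 tInfoPart367)))) (.node (.node (.node (.node tInfoPart368 tInfoPart369) (.node tInfoPart370 tInfoPart371)) (.node (.node tInfoPart372 tInfoPart373) (.node tInfoPart374 tInfoPart375))) (.node (.node (.node tInfoPart376 tInfoPart377) (.node tInfoPart378 tInfoPart379)) (.node (.node tInfoPart380 tInfoPart381) (.node tInfoPart382 tInfoPart383)))))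

/-- How a representative arises, block 12. -/
def tInfoBlock12 : Janko1.Tree ℕ := (.node (.node (.node (.node (.node tInfoPart384 tInfoPart385) (.node tInfoPart386 tInfoPart387)) (.node (.node tInfoPart388 tInfoPart389) (.node tInfoPart390 tInfoPart391))) (.node (.node (.node tInfoPart392 tInfoPart393) (.node tInfoPart394 tInfoPart395)) (.node (.node tInfoPart396 tInfoPart397) (.node tInfoPart398 tInfoPart399)))) (.node (.node (.node (.node tInfoPart400 tInfoPart401) (.node tInfoPart402 tInfoPart403)) (.node (.node tInfoPart404 tInfoPart405) (.node tInfoPart406 tInfoPart407))) (.node (.node (.node tInfoPart408 tInfoPart409) (.node tInfoPart410 tInfoPart411)) (.node (.node tInfoPart412 tInfoPart413) (.node tInfoPart414 tInfoPart415)))))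

/-- How a representative arises, block 13. -/
def tInfoBlock13 : Janko1.Tree ℕ := (.node (.node (.node (.node (.node tInfoPart416 tInfoPart417) (.node tInfoPart418 tInfoPart419)) (.node (.node tInfoPart420 tInfoPart421) (.node tInfoPart422 tInfoPart423))) (.node (.node (.node tInfoPart424 tInfoPart425) (.node tInfoPart426 tInfoPart427)) (.node (.node tInfoPart428 tInfoPart429) (.node tInfoPart430 tInfoPart431)))) (.node (.node (.node (.node tInfoPart432 tInfoPart433) (.node tInfoPart434 tInfoPart435)) (.node (.node tInfoPart436 tInfoPart437) (.node tInfoPart438 tInfoPart439))) (.node (.node (.node tInfoPart440 tInfoPart441) (.node tInfoPart442 tInfoPart443)) (.node (.node tInfoPart444 tInfoPart445) (.node tInfoPart446 tInfoPart447)))))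

/-- How a representative arises, block 14. -/
def tInfoBlock14 : Janko1.Tree ℕ := (.node (.node (.node (.node (.node tInfoPart448 tInfoPart449) (.node tInfoPart450 tInfoPart451)) (.node (.node tInfoPart452 tInfoPart453) (.node tInfoPart454 tInfoPart455))) (.node (.node (.node tInfoPart456 tInfoPart457) (.node tInfoPart458 tInfoPart459)) (.node (.node tInfoPart460 tInfoPart461) (.node tInfoPart462 tInfoPart463)))) (.node (.node (.node (.node tInfoPart464 tInfoPart465) (.node tInfoPart466 tInfoPart467)) (.node (.node tInfoPart468 tInfoPart469) (.node tInfoPart470 tInfoPart471))) (.node (.node (.node tInfoPart472 tInfoPart473) (.node tInfoPart474 tInfoPart475)) (.node (.node tInfoPart476 tInfoPart477) (.node tInfoPart478 tInfoPart479)))))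

/-- How a representative arises, block 15. -/
def tInfoBlock15 : Janko1.Tree ℕ := (.node (.node (.node (.node (.node tInfoPart480 tInfoPart481) (.node tInfoPart482 tInfoPart483)) (.node (.node tInfoPart484 tInfoPart485) (.node tInfoPart486 tInfoPart487))) (.node (.node (.node tInfoPart488 tInfoPart489) (.node tInfoPart490 tInfoPart491)) (.node (.node tInfoPart492 tInfoPart493) (.node tInfoPart494 tInfoPart495)))) (.node (.node (.node (.node tInfoPart496 tInfoPart497) (.node tInfoPart498 tInfoPart499)) (.node (.node tInfoPart500 tInfoPart501) (.node tInfoPart502 tInfoPart503))) (.node (.node (.node tInfoPart504 tInfoPart505) (.node tInfoPart506 tInfoPart507)) (.node (.node tInfoPart508 tInfoPart509) (.node tInfoPart510 tInfoPart511)))))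

/-- How a representative arises. -/
def tInfoTree : Janko1.Tree ℕ := (.node (.node (.node (.node tInfoBlock0 tInfoBlock1) (.node tInfoBlock2 tInfoBlock3)) (.node (.node tInfoBlock4 tInfoBlock5) (.node tInfoBlock6 tInfoBlock7))) (.node (.node (.node tInfoBlock8 tInfoBlock9) (.node tInfoBlock10 tInfoBlock11)) (.node (.node tInfoBlock12 tInfoBlock13) (.node tInfoBlock14 tInfoBlock15))))

/-- How a representative arises, by index. -/
def tInfo (i : ℕ) : ℕ := tInfoTree.get 15 i

/-- A Schreier factor, part 0. -/
def facCodePart0 : Janko1.Tree ℕ := (.node (.node (.node (.node (.node (.node (.leaf 238403634) (.leaf 114737)) (.node (.leaf 273863978) (.leaf 6185394))) (.node (.node (.leaf 5379165) (.leaf 24154793)) (.node (.leaf 100992328) (.leaf 23724082)))) (.node (.node (.node (.leaf 69566513) (.leaf 53149746)) (.node (.leaf 42147100) (.leaf 36785948))) (.node (.node (.leaf 105617714) (.leaf 16433)) (.node (.leaf 70172720) (.leaf 1736752))))) (.node (.node (.node (.node (.leaf 37224496) (.leaf 294720638)) (.node (.leaf 289734705) (.leaf 258825218)))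 (.node (.node (.leaf 307789873) (.leaf 70352944)) (.node (.leaf 255987033) (.leaf 105447472)))) (.node (.node (.node (.leaf 238469169) (.leaf 239108144)) (.node (.leaf 251510832) (.leaf 274666330))) (.node (.node (.leaf 10436656) (.leaf 1774114)) (.node (.leaf 108302794) (.leaf 294731824)))))) (.node (.node (.node (.node (.node (.leaf 309185488) (.leaf 258850864)) (.node (.leaf 345196554) (.leaf 70387864))) (.node (.node (.leaf 163512370) (.leaf 105463856)) (.node (.leaf 216489042) (.leaf 239140912)))) (.node (.node (.node (.leaf 225706033) (.leaf 274684276)) (.node (.leaf 352747569) (.leaf 12501041))) (.node (.node (.leaf 370581749) (.leaf 17632245)) (.node (.leaf 86152164) (.leaf 34324530))))) (.node (.node (.node (.node (.leaf 27875786) (.leaf 19906610)) (.node (.leaf 124444964) (.leaf 19256589))) (.node (.node (.leaf 311279666) (.leaf 40435762)) (.node (.leaf 347373618) (.leaf 720946)))) (.node (.node (.node (.leaf 213286962) (.leaf 229426)) (.node (.leaf 215728177) (.leaf 49200))) (.node (.node (.leaf 359497777) (.leaf 292470832)) (.node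 (.leaf 376855682) (.leaf 6996016)))))))

/-- A Schreier factor, part 1. -/
def facCodePart1 : Janko1.Tree ℕ := (.node (.node (.node (.node (.node (.node (.leaf 37460229) (.leaf 256671944)) (.node (.leaf 251838512) (.leaf 241467440))) (.node (.node (.leaf 329711665) (.leaf 37355568)) (.node (.leaf 240631858) (.leaf 292507796)))) (.node (.node (.node (.leaf 32818) (.leaf 74334256)) (.node (.leaf 44408624) (.leaf 256712260))) (.node (.node (.leaf 120619057) (.leaf 241483824)) (.node (.leaf 89096241) (.leaf 101974064))))) (.node (.node (.node (.node (.leaf 85852208) (.leaf 30113842)) (.node (.leaf 296730673) (.leaf 13025330))) (.node (.node (.leaf 249315377) (.leaf 12551444)) (.node (.leaf 242794544) (.leaf 81968)))) (.node (.node (.node (.leaf 19480625) (.leaf 426032)) (.node (.leaf 52953137) (.leaf 170934322))) (.node (.node (.leaf 318324933) (.leaf 184172594)) (.node (.leaf 354521130) (.leaf 69246477)))))) (.node (.node (.node (.node (.node (.leaf 177215952) (.leaf 104351930)) (.node (.leaf 230179842) (.leaf 153960498))) (.node (.node (.leaf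 81531537) (.leaf 40484912)) (.node (.leaf 283444830) (.leaf 37060656)))) (.node (.node (.node (.leaf 209682480) (.leaf 241205296)) (.node (.leaf 311246896) (.leaf 74139220))) (.node (.node (.leaf 245465137) (.leaf 6635568)) (.node (.leaf 283033650) (.leaf 276561968))))) (.node (.node (.node (.node (.leaf 23920690) (.leaf 241172528)) (.node (.leaf 235520049) (.leaf 74127901))) (.node (.node (.leaf 122000686) (.leaf 6602800)) (.node (.leaf 196567117) (.leaf 399552)))) (.node (.node (.node (.leaf 169967664) (.leaf 162415369)) (.node (.leaf 363714012) (.leaf 69213064))) (.node (.node (.leaf 342759114) (.leaf 104317750)) (.node (.leaf 325222858) (.leaf 145295441)))))))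

/-- A Schreier factor, part 2. -/
def facCodePart2 : Janko1.Tree ℕ := (.node (.node (.node (.node (.node (.node (.leaf 320523132) (.leaf 132895965)) (.node (.leaf 374098948) (.leaf 40459669))) (.node (.node (.leaf 249593906) (.leaf 180869408)) (.node (.leaf 285050301) (.leaf 5799960)))) (.node (.node (.node (.leaf 19431474) (.leaf 73170992)) (.node (.leaf 218890289) (.leaf 143654962))) (.node (.node (.leaf 54689842) (.leaf 36290608)) (.node (.leaf 209928240) (.leaf 274418433))))) (.node (.node (.node (.node (.leaf 374588505) (.leaf 238867646)) (.node (.leaf 311577858) (.leaf 1463689))) (.node (.node (.leaf 5775624) (.leaf 274406418)) (.node (.leaf 356827186) (.leaf 238829616)))) (.node (.node (.node (.leaf 226836530) (.leaf 70090800)) (.node (.leaf 124944433) (.leaf 1441840))) (.node (.node (.leaf 93552689) (.leaf 294502448)) (.node (.leaf 294836082) (.leaf 5767216)))))) (.node (.node (.node (.node (.node (.leaf 169672752) (.leaf 159060036)) (.node (.leaf 320241712) (.leaf 136003634))) (.node (.node (.leaf 373850160) (.leaf 100712496)) (.node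 (.leaf 269598769) (.leaf 36257840)))) (.node (.node (.node (.leaf 48) (.leaf 1409072)) (.node (.leaf 38247193) (.leaf 294474793))) (.node (.node (.leaf 241827890) (.leaf 258539568)) (.node (.leaf 277040798) (.leaf 70161230))))) (.node (.node (.node (.node (.leaf 39911474) (.leaf 105201712)) (.node (.leaf 131137585) (.leaf 274383190))) (.node (.node (.leaf 99011862) (.leaf 41418800)) (.node (.leaf 293355786) (.leaf 142101954)))) (.node (.node (.node (.leaf 93898542) (.leaf 155716225)) (.node (.leaf 238295341) (.leaf 73226429))) (.node (.node (.leaf 255069920) (.leaf 5741389)) (.node (.leaf 312498121) (.leaf 36229924)))))))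

/-- A Schreier factor, part 3. -/
def facCodePart3 : Janko1.Tree ℕ := (.node (.node (.node (.node (.node (.node (.leaf 348557188) (.leaf 137662674)) (.node (.leaf 224411697) (.leaf 73203760))) (.node (.node (.leaf 214892594) (.leaf 5702849)) (.node (.leaf 78266416) (.leaf 1376304)))) (.node (.node (.node (.leaf 356139057) (.leaf 258523184)) (.node (.leaf 373725573) (.leaf 70139952))) (.node (.node (.leaf 335446065) (.leaf 105185826)) (.node (.leaf 317294802) (.leaf 238880658))))) (.node (.node (.node (.node (.leaf 247414832) (.leaf 274366512)) (.node (.leaf 300833984) (.leaf 41389810))) (.node (.node (.leaf 310345778) (.leaf 292192304)) (.node (.leaf 346226738) (.leaf 6668336)))) (.node (.node (.node (.leaf 409648) (.leaf 74104880)) (.node (.leaf 234094641) (.leaf 241156144))) (.node (.node (.leaf 207700017) (.leaf 101633310)) (.node (.leaf 94158896) (.leaf 152260802)))))) (.node (.node (.node (.node (.node (.leaf 367214641) (.leaf 138969138)) (.node (.leaf 324255793) (.leaf 69189914))) (.node (.node (.leaf 238616624) (.leaf 475184)) (.node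 (.leaf 291771974) (.leaf 182468858)))) (.node (.node (.node (.leaf 7703005) (.leaf 146997298)) (.node (.leaf 275007992) (.leaf 134384566))) (.node (.node (.leaf 107593778) (.leaf 69173296)) (.node (.leaf 77922352) (.leaf 74072112))))) (.node (.node (.node (.node (.leaf 45547568) (.leaf 256458800)) (.node (.leaf 247119920) (.leaf 241123376))) (.node (.node (.leaf 300515376) (.leaf 101597232)) (.node (.leaf 261341233) (.leaf 37093424)))) (.node (.node (.node (.leaf 321854144) (.leaf 37328198)) (.node (.leaf 357961038) (.leaf 276758576))) (.node (.node (.leaf 17154097) (.leaf 241506086)) (.node (.leaf 118901484) (.leaf 74371057)))))))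

/-- A Schreier factor, part 4. -/
def facCodePart4 : Janko1.Tree ℕ := (.node (.node (.node (.node (.node (.node (.leaf 228540466) (.leaf 6968137)) (.node (.leaf 189530160) (.leaf 48))) (.node (.node (.leaf 162922544) (.leaf 42995068)) (.node (.leaf 300372769) (.leaf 21517378)))) (.node (.node (.node (.leaf 248535730) (.leaf 21962354)) (.node (.leaf 378028080) (.leaf 2670641))) (.node (.node (.leaf 21630877) (.leaf 36961)) (.node (.leaf 250806322) (.leaf 65557034))))) (.node (.node (.node (.node (.leaf 286146610) (.leaf 27656242)) (.node (.leaf 213893169) (.leaf 10879026))) (.node (.node (.leaf 187483402) (.leaf 10141745)) (.node (.leaf 176559457) (.leaf 101993813)))) (.node (.node (.node (.leaf 124117340) (.leaf 70327594)) (.node (.leaf 230528129) (.leaf 1789037))) (.node (.node (.leaf 351372005) (.leaf 55263282)) (.node (.leaf 369360945) (.leaf 5341232)))))) (.node (.node (.node (.node (.node (.leaf 189808688) (.leaf 7880754)) (.node (.leaf 163184688) (.leaf 38715442))) (.node (.node (.leaf 325287984) (.leaf 8372274)) (.node (.leaf 378275757)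 (.leaf 38295461)))) (.node (.node (.node (.leaf 339528798) (.leaf 21479473)) (.node (.leaf 319356978) (.leaf 61440050))) (.node (.node (.leaf 355729458) (.leaf 5374000)) (.node (.leaf 29803730) (.leaf 14893106))))) (.node (.node (.node (.node (.leaf 63324209) (.leaf 44943914)) (.node (.leaf 106857194) (.leaf 15356014))) (.node (.node (.leaf 75759665) (.leaf 44489996)) (.node (.leaf 178815026) (.leaf 27639857)))) (.node (.node (.node (.leaf 259329565) (.leaf 258785805)) (.node (.leaf 369696953) (.leaf 294772088))) (.node (.node (.leaf 274374276) (.leaf 19848886)) (.node (.leaf 37290032) (.leaf 53084210)))))))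

/-- A Schreier factor, part 5. -/
def facCodePart5 : Janko1.Tree ℕ := (.node (.node (.node (.node (.node (.node (.leaf 93803742) (.leaf 973384)) (.node (.leaf 307583682) (.leaf 36716594))) (.node (.node (.leaf 70438161) (.leaf 294797360)) (.node (.leaf 101077360) (.leaf 276827126)))) (.node (.node (.node (.leaf 96932645) (.leaf 258900016)) (.node (.leaf 7389234) (.leaf 241565744))) (.node (.node (.leaf 114736) (.leaf 105529392)) (.node (.leaf 256065586) (.leaf 74448944))))) (.node (.node (.node (.node (.leaf 31557648) (.leaf 7033352)) (.node (.leaf 334532454) (.leaf 294820970))) (.node (.node (.leaf 296256993) (.leaf 276856880)) (.node (.leaf 247496889) (.leaf 258918262)))) (.node (.node (.node (.leaf 318267780) (.leaf 241584858)) (.node (.leaf 78168112) (.leaf 105551338))) (.node (.node (.leaf 370393137) (.leaf 74481712)) (.node (.leaf 355008561) (.leaf 41720150)))))) (.node (.node (.node (.node (.node (.leaf 195756081) (.leaf 12451890)) (.node (.leaf 137201150) (.leaf 149646))) (.node (.node (.leaf 108239182) (.leaf 63461257)) (.node (.leaf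 19582477) (.leaf 13256088)))) (.node (.node (.node (.leaf 341164081) (.leaf 23642162)) (.node (.leaf 305205681) (.leaf 5472304))) (.node (.node (.leaf 238671720) (.leaf 5636146)) (.node (.leaf 311623729) (.leaf 40353842))))) (.node (.node (.node (.node (.leaf 205963313) (.leaf 292552752)) (.node (.leaf 134094858) (.leaf 274783681))) (.node (.node (.leaf 215810089) (.leaf 239174438)) (.node (.leaf 363154010) (.leaf 102012018)))) (.node (.node (.node (.leaf 511569) (.leaf 37404720)) (.node (.leaf 247185456) (.leaf 292585520))) (.node (.node (.leaf 249239645) (.leaf 274813517)) (.node (.leaf 260374577) (.leaf 256737328)))))))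

/-- A Schreier factor, part 6. -/
def facCodePart6 : Janko1.Tree ℕ := (.node (.node (.node (.node (.node (.node (.leaf 54022204) (.leaf 70410430)) (.node (.leaf 296517681) (.leaf 1867824))) (.node (.node (.leaf 120684593) (.leaf 5505072)) (.node (.leaf 77208717) (.leaf 17105366)))) (.node (.node (.node (.leaf 19251248) (.leaf 17563698)) (.node (.leaf 258083504) (.leaf 50857988))) (.node (.node (.leaf 291542132) (.leaf 34521138)) (.node (.leaf 10305585) (.leaf 67387442))))) (.node (.node (.node (.node (.leaf 265112324) (.leaf 143807804)) (.node (.leaf 365199408) (.leaf 170852402))) (.node (.node (.leaf 325124144) (.leaf 156909618)) (.node (.leaf 245366833) (.leaf 183992370)))) (.node (.node (.node (.leaf 189431856) (.leaf 104454781)) (.node (.leaf 301336582) (.leaf 73285680))) (.node (.node (.leaf 281320034) (.leaf 40567204)) (.node (.leaf 85444233) (.leaf 37149805)))))) (.node (.node (.node (.node (.node (.leaf 150309032) (.leaf 1507376)) (.node (.leaf 200261752) (.leaf 101777456))) (.node (.node (.leaf 112925897) (.leaf 70229545)) (.node (.leaf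 374197062) (.leaf 256560856)))) (.node (.node (.node (.leaf 48667092) (.leaf 292258273)) (.node (.leaf 327240969) (.leaf 101746776))) (.node (.node (.leaf 374050564) (.leaf 70205488)) (.node (.leaf 203294744) (.leaf 292225072))))) (.node (.node (.node (.node (.leaf 363516596) (.leaf 274451957)) (.node (.leaf 235601969) (.leaf 162349106))) (.node (.node (.leaf 25657394) (.leaf 175751218)) (.node (.leaf 52762176) (.leaf 104435505)))) (.node (.node (.node (.leaf 303142813) (.leaf 40534878)) (.node (.leaf 120489605) (.leaf 5832752))) (.node (.node (.leaf 325326829) (.leaf 154211253)) (.node (.leaf 313638961) (.leaf 180764722)))))))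

/-- A Schreier factor, part 7. -/
def facCodePart7 : Janko1.Tree ℕ := (.node (.node (.node (.node (.node (.node (.leaf 338697802) (.leaf 140592948)) (.node (.leaf 183353392) (.leaf 69271600))) (.node (.node (.leaf 374427348) (.leaf 564466)) (.node (.leaf 218955825) (.leaf 6783024)))) (.node (.node (.node (.leaf 21315882) (.leaf 74170416)) (.node (.leaf 300875856) (.leaf 294567984))) (.node (.node (.leaf 116310066) (.leaf 276651530)) (.node (.leaf 258458701) (.leaf 41504342))))) (.node (.node (.node (.node (.leaf 373788325) (.leaf 6750256)) (.node (.leaf 203065636) (.leaf 258555952))) (.node (.node (.leaf 294619530) (.leaf 241238064)) (.node (.leaf 73662513) (.leaf 145489970)))) (.node (.node (.node (.leaf 203735090) (.leaf 132792370)) (.node (.leaf 125009969) (.leaf 158990972))) (.node (.node (.leaf 371987176) (.leaf 100752485)) (.node (.leaf 5981784) (.leaf 69261082)))))) (.node (.node (.node (.node (.node (.leaf 61063217) (.leaf 36356144)) (.node (.leaf 338837554) (.leaf 540720))) (.node (.node (.leaf 257179697) (.leaf 294551600)) (.node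 (.leaf 291381390) (.leaf 276611120)))) (.node (.node (.node (.leaf 251576368) (.leaf 258621488)) (.node (.leaf 254902321) (.leaf 241303600))) (.node (.node (.leaf 70091292) (.leaf 105236562)) (.node (.leaf 293158961) (.leaf 74219568))))) (.node (.node (.node (.node (.leaf 62102358) (.leaf 6717488)) (.node (.leaf 76333106) (.leaf 100827184))) (.node (.node (.leaf 131268657) (.leaf 69320752)) (.node (.leaf 292767818) (.leaf 152191380)))) (.node (.node (.node (.leaf 2905424) (.leaf 178880562)) (.node (.leaf 243122224) (.leaf 36312050))) (.node (.node (.leaf 317219249) (.leaf 494588)) (.node (.leaf 337920632) (.leaf 100794416)))))))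

/-- A Schreier factor, part 8. -/
def facCodePart8 : Janko1.Tree ℕ := (.node (.node (.node (.node (.node (.node (.leaf 300744752) (.leaf 69287984)) (.node (.leaf 45979081) (.leaf 173989088))) (.node (.node (.leaf 373522481) (.leaf 160743474)) (.node (.leaf 191578162) (.leaf 294524284)))) (.node (.node (.node (.leaf 200818737) (.leaf 258588720)) (.node (.leaf 330694706) (.leaf 74186800))) (.node (.node (.leaf 364134450) (.leaf 41451568)) (.node (.leaf 116113456) (.leaf 6687682))))) (.node (.node (.node (.node (.leaf 251910036) (.leaf 292291476)) (.node (.leaf 324190257) (.leaf 274515058))) (.node (.node (.leaf 291704256) (.leaf 238928014)) (.node (.leaf 360649898) (.leaf 101717940)))) (.node (.node (.node (.leaf 70336560) (.leaf 37208112)) (.node (.leaf 190698954) (.leaf 104415280))) (.node (.node (.leaf 138712761) (.leaf 73236528)) (.node (.leaf 27942213) (.leaf 142016562)))))) (.node (.node (.node (.node (.node (.leaf 328369550) (.leaf 168924573)) (.node (.leaf 268369969) (.leaf 40585353))) (.node (.node (.leaf 242860080) (.leaf 104382512))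 (.node (.leaf 279825972) (.leaf 150656104)))) (.node (.node (.node (.leaf 45686796) (.leaf 177378577)) (.node (.leaf 9765513) (.leaf 274481200))) (.node (.node (.leaf 72400946) (.leaf 256524336)) (.node (.leaf 110530728) (.leaf 238919722))))) (.node (.node (.node (.node (.leaf 294961202) (.leaf 101679152)) (.node (.leaf 25788465) (.leaf 70172720))) (.node (.node (.leaf 10126761) (.leaf 37182476)) (.node (.leaf 257048626) (.leaf 1530648)))) (.node (.node (.node (.leaf 311336034) (.leaf 37391072)) (.node (.leaf 248447025) (.leaf 1818672))) (.node (.node (.leaf 284540977) (.leaf 256770096)) (.node (.leaf 300171313) (.leaf 274726960)))))))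

/-- A Schreier factor, part 9. -/
def facCodePart9 : Janko1.Tree ℕ := (.node (.node (.node (.node (.node (.node (.leaf 205422642) (.leaf 8640312)) (.node (.leaf 83247153) (.leaf 26154637))) (.node (.node (.leaf 339869746) (.leaf 58933646)) (.node (.leaf 373115601) (.leaf 7803902)))) (.node (.node (.node (.leaf 17383473) (.leaf 5408606)) (.node (.leaf 369901616) (.leaf 48972684))) (.node (.node (.leaf 310329393) (.leaf 65437746)) (.node (.leaf 196460592) (.leaf 31555634))))) (.node (.node (.node (.node (.leaf 346865713) (.leaf 14794802)) (.node (.leaf 176668720) (.leaf 5439536))) (.node (.node (.leaf 302079000) (.leaf 256809864)) (.node (.leaf 118374450) (.leaf 239210404)))) (.node (.node (.node (.leaf 59031602) (.leaf 292536368)) (.node (.leaf 268566578) (.leaf 274759728))) (.node (.node (.leaf 333138681) (.leaf 41730488)) (.node (.leaf 321552433) (.leaf 74399792)))))) (.node (.node (.node (.node (.node (.leaf 209879088) (.leaf 258867248)) (.node (.leaf 369115185) (.leaf 241532976))) (.node (.node (.leaf 358252593) (.leaf 294830128)) (.node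 (.leaf 163233840) (.leaf 276896682)))) (.node (.node (.node (.leaf 27543757) (.leaf 55185741)) (.node (.leaf 88382437) (.leaf 3394268))) (.node (.node (.leaf 230604849) (.leaf 38649906)) (.node (.leaf 304317293) (.leaf 2888766))))) (.node (.node (.node (.node (.leaf 122487986) (.leaf 38223922)) (.node (.leaf 54855357) (.leaf 21433456))) (.node (.node (.leaf 266141746) (.leaf 180272)) (.node (.leaf 320347658) (.leaf 28229682)))) (.node (.node (.node (.leaf 270851126) (.leaf 10780722)) (.node (.leaf 369623088) (.leaf 44843058))) (.node (.node (.leaf 277987377) (.leaf 10310041)) (.node (.leaf 176390192) (.leaf 44400690)))))))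

/-- A Schreier factor, part 10. -/
def facCodePart10 : Janko1.Tree ℕ := (.node (.node (.node (.node (.node (.node (.leaf 196116528) (.leaf 27557938)) (.node (.leaf 306757681) (.leaf 213040))) (.node (.node (.leaf 202014770) (.leaf 41746645)) (.node (.leaf 106941712) (.leaf 7051178)))) (.node (.node (.node (.leaf 95371313) (.leaf 105496624)) (.node (.leaf 152084533) (.leaf 74422440))) (.node (.node (.leaf 238911537) (.leaf 100949680)) (.node (.leaf 101452368) (.leaf 89115685))))) (.node (.node (.node (.node (.leaf 28688432) (.leaf 6160433)) (.node (.leaf 272334897) (.leaf 901168))) (.node (.node (.leaf 37671049) (.leaf 42319920)) (.node (.leaf 966705) (.leaf 291700784)))) (.node (.node (.node (.leaf 65552433) (.leaf 238731312)) (.node (.leaf 105777442) (.leaf 74732101))) (.node (.node (.leaf 233429) (.leaf 70778928)) (.node (.leaf 273685380) (.leaf 241046056)))))) (.node (.node (.node (.node (.node (.leaf 240833790) (.leaf 294003105)) (.node (.leaf 369842065) (.leaf 42337865))) (.node (.node (.leaf 260687541) (.leaf 291737477)) (.node (.leaf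 283050032) (.leaf 238747696)))) (.node (.node (.node (.leaf 354457741) (.leaf 74765028)) (.node (.leaf 11714608) (.leaf 70795312))) (.node (.node (.leaf 335118385) (.leaf 241075189)) (.node (.leaf 169361457) (.leaf 6216914))))) (.node (.node (.node (.node (.leaf 216682225) (.leaf 17696556)) (.node (.leaf 160255652) (.leaf 99098552))) (.node (.node (.leaf 311509042) (.leaf 100974640)) (.node (.leaf 84985362) (.leaf 17678385)))) (.node (.node (.node (.leaf 376094769) (.leaf 24397610)) (.node (.leaf 269836344) (.leaf 36774073))) (.node (.node (.leaf 274137136) (.leaf 69358006)) (.node (.leaf 347652145) (.leaf 73449521)))))))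

/-- A Schreier factor, part 11. -/
def facCodePart11 : Janko1.Tree ℕ := (.node (.node (.node (.node (.node (.node (.leaf 28920290) (.leaf 73469549)) (.node (.leaf 341737521) (.leaf 73341850))) (.node (.node (.leaf 312180785) (.leaf 40960048)) (.node (.leaf 101816018) (.leaf 24412209)))) (.node (.node (.node (.leaf 179241009) (.leaf 276289893)) (.node (.leaf 213450802) (.leaf 2523184))) (.node (.node (.leaf 136380465) (.leaf 258396849)) (.node (.leaf 61230754) (.leaf 105858428))))) (.node (.node (.node (.node (.leaf 347213520) (.leaf 274022448)) (.node (.leaf 260391341) (.leaf 258408496))) (.node (.node (.leaf 117088596) (.leaf 105873456)) (.node (.leaf 11436080) (.leaf 7602224)))) (.node (.node (.node (.leaf 44941361) (.leaf 69386288)) (.node (.leaf 5589760) (.leaf 83118392))) (.node (.node (.leaf 44501458) (.leaf 34673096)) (.node (.leaf 300761137) (.leaf 41222192)))))) (.node (.node (.node (.node (.node (.leaf 329662512) (.leaf 144121778)) (.node (.leaf 360909298) (.leaf 211141201))) (.node (.node (.leaf 280806518) (.leaf 73685816)) (.node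 (.leaf 136577072) (.leaf 69664816)))) (.node (.node (.node (.leaf 265770409) (.leaf 211109090)) (.node (.leaf 245842026) (.leaf 144085645))) (.node (.node (.leaf 116263789) (.leaf 258134664)) (.node (.leaf 354336818) (.leaf 2228272))))) (.node (.node (.node (.node (.leaf 352239664) (.leaf 7307312)) (.node (.leaf 360923185) (.leaf 273701968))) (.node (.node (.leaf 363020337) (.leaf 256147504)) (.node (.leaf 338935856) (.leaf 105600409)))) (.node (.node (.node (.leaf 223150128) (.leaf 258117089)) (.node (.leaf 155899145) (.leaf 136382553))) (.node (.node (.leaf 282886194) (.leaf 202752049)) (.node (.leaf 249729108) (.leaf 136364081)))))))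

/-- A Schreier factor, part 12. -/
def facCodePart12 : Janko1.Tree ℕ := (.node (.node (.node (.node (.node (.node (.leaf 88735794) (.leaf 36978736)) (.node (.leaf 361152560) (.leaf 157515825))) (.node (.node (.leaf 349782065) (.leaf 1285840)) (.node (.leaf 329973808) (.leaf 197689393)))) (.node (.node (.node (.leaf 314294321) (.leaf 197722161)) (.node (.leaf 136855600) (.leaf 6520880))) (.node (.node (.leaf 58802226) (.leaf 293765168)) (.node (.leaf 175834961) (.leaf 70489852))))) (.node (.node (.node (.node (.leaf 247611442) (.leaf 42093640)) (.node (.leaf 84852786) (.leaf 291438640))) (.node (.node (.leaf 294033738) (.leaf 293748784)) (.node (.leaf 338673712) (.leaf 37814320)))) (.node (.node (.node (.leaf 352012222) (.leaf 70452672)) (.node (.leaf 287195185) (.leaf 240697392))) (.node (.node (.leaf 222844518) (.leaf 291430762)) (.node (.leaf 227016754) (.leaf 1245232)))))) (.node (.node (.node (.node (.node (.leaf 28527894) (.leaf 189221372)) (.node (.leaf 104316977) (.leaf 104775728))) (.node (.node (.leaf 356663346) (.leaf 148983405))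 (.node (.leaf 292642000) (.leaf 42045442)))) (.node (.node (.node (.leaf 256184358) (.leaf 291389488)) (.node (.leaf 286922720) (.leaf 238501936))) (.node (.node (.leaf 290455601) (.leaf 74514480)) (.node (.leaf 255442993) (.leaf 293723874))))) (.node (.node (.node (.node (.leaf 38733897) (.leaf 6509550)) (.node (.leaf 103794692) (.leaf 142347968))) (.node (.node (.leaf 44028138) (.leaf 209437036)) (.node (.leaf 34537521) (.leaf 104808558)))) (.node (.node (.node (.leaf 239616050) (.leaf 101236784)) (.node (.leaf 36126768) (.leaf 209420337))) (.node (.node (.leaf 7917674) (.leaf 142327857)) (.node (.leaf 276971798) (.leaf 1231714)))))))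

/-- A Schreier factor, part 13. -/
def facCodePart13 : Janko1.Tree ℕ := (.node (.node (.node (.node (.node (.node (.leaf 278429744) (.leaf 6471728)) (.node (.leaf 353386545) (.leaf 137943169))) (.node (.node (.leaf 372916273) (.leaf 204537905)) (.node (.leaf 265093168) (.leaf 104792112)))) (.node (.node (.node (.leaf 109330480) (.leaf 204505137)) (.node (.leaf 20725808) (.leaf 137920561))) (.node (.node (.leaf 165088673) (.leaf 42025008)) (.node (.leaf 77070384) (.leaf 70500400))))) (.node (.node (.node (.node (.leaf 53040504) (.leaf 37781552)) (.node (.leaf 287211568) (.leaf 276042014))) (.node (.node (.leaf 360120369) (.leaf 2264868)) (.node (.leaf 324787428) (.leaf 256131925)))) (.node (.node (.node (.leaf 331743680) (.leaf 273727536)) (.node (.leaf 161782549) (.leaf 156125921))) (.node (.node (.leaf 312672630) (.leaf 41254960)) (.node (.leaf 303892177) (.leaf 150929457)))))) (.node (.node (.node (.node (.node (.leaf 279283798) (.leaf 190858106)) (.node (.leaf 20463664) (.leaf 190873649))) (.node (.node (.leaf 268976593) (.leaf 73647309))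 (.node (.leaf 244535153) (.leaf 41238576)))) (.node (.node (.node (.leaf 109022388) (.leaf 150963433)) (.node (.leaf 59298540) (.leaf 276028396))) (.node (.node (.leaf 2805841) (.leaf 7328404)) (.node (.leaf 347414362) (.leaf 7569942))))) (.node (.node (.node (.node (.leaf 283967537) (.leaf 273989680)) (.node (.leaf 342969385) (.leaf 105908442))) (.node (.node (.leaf 264556349) (.leaf 2462084)) (.node (.leaf 178669846) (.leaf 40933162)))) (.node (.node (.node (.leaf 86802481) (.leaf 69422253)) (.node (.leaf 319526398) (.leaf 8622024))) (.node (.node (.leaf 334577712) (.leaf 15620694)) (.node (.leaf 344653873) (.leaf 97042481)))))))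

/-- A Schreier factor, part 14. -/
def facCodePart14 : Janko1.Tree ℕ := (.node (.node (.node (.node (.node (.node (.leaf 60805072) (.leaf 256393264)) (.node (.leaf 134643761) (.leaf 105947130))) (.node (.node (.leaf 248598785) (.leaf 102207665)) (.node (.leaf 25985074) (.leaf 276267056)))) (.node (.node (.node (.leaf 286031922) (.leaf 2490416)) (.node (.leaf 343301396) (.leaf 38094797))) (.node (.node (.leaf 357649834) (.leaf 240992304)) (.node (.leaf 333799196) (.leaf 74699321))))) (.node (.node (.node (.node (.leaf 322149678) (.leaf 42360357)) (.node (.leaf 167297073) (.leaf 26214449))) (.node (.node (.leaf 56544836) (.leaf 100877510)) (.node (.leaf 150667313) (.leaf 75464753)))) (.node (.node (.node (.leaf 250953778) (.leaf 75497521)) (.node (.leaf 21758002) (.leaf 6225968))) (.node (.node (.leaf 277316588) (.leaf 958178)) (.node (.leaf 306153701) (.leaf 100912132)))))) (.node (.node (.node (.node (.node (.leaf 271485798) (.leaf 32063537)) (.node (.leaf 8929329) (.leaf 38131033))) (.node (.node (.leaf 63832113) (.leaf 70765334)) (.node (.leaf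 231964722) (.leaf 241008688)))) (.node (.node (.node (.leaf 321962034) (.leaf 42385456)) (.node (.leaf 126518456) (.leaf 291751013))) (.node (.node (.leaf 724230) (.leaf 101040596)) (.node (.leaf 2113586) (.leaf 69468208))))) (.node (.node (.node (.node (.leaf 70615090) (.leaf 120717361)) (.node (.leaf 36721450) (.leaf 120767716))) (.node (.node (.leaf 1378825) (.leaf 42418224)) (.node (.leaf 256460660) (.leaf 7626726)))) (.node (.node (.node (.leaf 238960689) (.leaf 291766320)) (.node (.leaf 101519793) (.leaf 274055462))) (.node (.node (.leaf 307234236) (.leaf 38161598)) (.node (.leaf 77159880) (.leaf 42438069)))))))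

/-- A Schreier factor, part 15. -/
def facCodePart15 : Janko1.Tree ℕ := (.node (.node (.node (.node (.node (.node (.leaf 329650160) (.leaf 7659826)) (.node (.leaf 365166642) (.leaf 291782704))) (.node (.node (.leaf 44684933) (.leaf 274093820)) (.node (.leaf 145555505) (.leaf 294061614)))) (.node (.node (.node (.leaf 186845436) (.leaf 38198588)) (.node (.leaf 20660272) (.leaf 131366961))) (.node (.node (.leaf 337135366) (.leaf 131536762)) (.node (.leaf 370049164) (.leaf 131339588))))) (.node (.node (.node (.node (.leaf 92903417) (.leaf 57245820)) (.node (.leaf 327254066) (.leaf 57345234))) (.node (.node (.leaf 363036722) (.leaf 36814896)) (.node (.leaf 61147478) (.leaf 1036120)))) (.node (.node (.node (.leaf 136216625) (.leaf 41030536)) (.node (.leaf 137052210) (.leaf 6258736))) (.node (.node (.leaf 189923378) (.leaf 57262129)) (.node (.leaf 162644017) (.leaf 57360433)))))) (.node (.node (.node (.node (.node (.leaf 1753136) (.leaf 102219824)) (.node (.leaf 330285105) (.leaf 70828080))) (.node (.node (.leaf 312262705) (.leaf 258447565)) (.node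 (.leaf 358973489) (.leaf 238784540)))) (.node (.node (.node (.leaf 36111610) (.leaf 102255829)) (.node (.leaf 256214338) (.leaf 70860848))) (.node (.node (.leaf 44434706) (.leaf 241114588)) (.node (.leaf 24150065) (.leaf 256416122))))) (.node (.node (.node (.node (.leaf 7274546) (.leaf 238796848)) (.node (.leaf 74604177) (.leaf 105979660))) (.node (.node (.leaf 267534385) (.leaf 67600433)) (.node (.leaf 117185146) (.leaf 1065008)))) (.node (.node (.node (.leaf 278118449) (.leaf 6291504)) (.node (.leaf 116195377) (.leaf 41320496))) (.node (.node (.leaf 338955594) (.leaf 6553648)) (.node (.leaf 374063154) (.leaf 171229233)))))))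

/-- A Schreier factor, part 16. -/
def facCodePart16 : Janko1.Tree ℕ := (.node (.node (.node (.node (.node (.node (.leaf 85065777) (.leaf 171344890)) (.node (.leaf 146818105) (.leaf 171313053))) (.node (.node (.leaf 200392754) (.leaf 37027888)) (.node (.leaf 49250353) (.leaf 1319004)))) (.node (.node (.node (.leaf 156139568) (.leaf 256229424)) (.node (.leaf 263241777) (.leaf 238600240))) (.node (.node (.leaf 245916085) (.leaf 105712730)) (.node (.leaf 236142640) (.leaf 74565864))))) (.node (.node (.node (.node (.leaf 282986801) (.leaf 70600328)) (.node (.leaf 267485234) (.leaf 238568209))) (.node (.node (.leaf 302956594) (.leaf 105693232)) (.node (.leaf 86622258) (.leaf 258195504)))) (.node (.node (.node (.leaf 182435889) (.leaf 240812080)) (.node (.leaf 142835760) (.leaf 41287728))) (.node (.node (.leaf 343408689) (.leaf 6537264)) (.node (.leaf 325771574) (.leaf 162644058)))))) (.node (.node (.node (.node (.node (.leaf 345114560) (.leaf 162715084)) (.node (.leaf 338908245) (.leaf 1300166))) (.node (.node (.leaf 265064633) (.leaf 69698553))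 (.node (.leaf 90570802) (.leaf 104857648)))) (.node (.node (.node (.leaf 314344105) (.leaf 37916584)) (.node (.leaf 347783216) (.leaf 42163162))) (.node (.node (.leaf 356499505) (.leaf 7410717)) (.node (.leaf 374014001) (.leaf 291495273))))) (.node (.node (.node (.node (.leaf 329924656) (.leaf 273846230)) (.node (.leaf 336855090) (.leaf 276086832))) (.node (.node (.leaf 371818546) (.leaf 37896240)) (.node (.leaf 203882546) (.leaf 291471408)))) (.node (.node (.node (.leaf 61767729) (.leaf 273809456)) (.node (.leaf 142544453) (.leaf 101259710))) (.node (.node (.leaf 270106673) (.leaf 69684965)) (.node (.leaf 252531900) (.leaf 215797737)))))))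

/-- A Schreier factor, part 17. -/
def facCodePart17 : Janko1.Tree ℕ := (.node (.node (.node (.node (.node (.node (.leaf 356581424) (.leaf 215810097)) (.node (.leaf 276299825) (.leaf 215875633))) (.node (.node (.leaf 294256689) (.leaf 104824880)) (.node (.leaf 38227465) (.leaf 42131752)))) (.node (.node (.node (.leaf 257169973) (.leaf 7357454)) (.node (.leaf 292618290) (.leaf 291455024))) (.node (.node (.leaf 36077616) (.leaf 273793072)) (.node (.leaf 34340913) (.leaf 293797936))))) (.node (.node (.node (.node (.leaf 76498472) (.leaf 37869809)) (.node (.leaf 67404646) (.leaf 2277424))) (.node (.node (.leaf 273137713) (.leaf 236011569)) (.node (.leaf 255590449) (.leaf 104874032)))) (.node (.node (.node (.leaf 274890801) (.leaf 69748070)) (.node (.leaf 292847665) (.leaf 235929649))) (.node (.node (.leaf 85049392) (.leaf 230917485)) (.node (.leaf 52936752) (.leaf 73745385)))))) (.node (.node (.node (.node (.node (.leaf 143867953) (.leaf 101274029)) (.node (.leaf 109412400) (.leaf 273760304))) (.node (.node (.leaf 355631153) (.leaf 276078509))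 (.node (.leaf 330858546) (.leaf 70549552)))) (.node (.node (.node (.leaf 36394830) (.leaf 240782584)) (.node (.leaf 135496424) (.leaf 238542005))) (.node (.node (.leaf 188434018) (.leaf 105667114)) (.node (.leaf 181062300) (.leaf 74530864))))) (.node (.node (.node (.node (.leaf 28868656) (.leaf 182739141)) (.node (.leaf 342458417) (.leaf 182796337))) (.node (.node (.leaf 274169904) (.leaf 41369648)) (.node (.leaf 348754157) (.leaf 6589494)))) (.node (.node (.node (.leaf 52658224) (.leaf 1343536)) (.node (.leaf 13041713) (.leaf 41336880))) (.node (.node (.leaf 4737862) (.leaf 6577144)) (.node (.leaf 72582998) (.leaf 177674953)))))))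

/-- A Schreier factor, part 18. -/
def facCodePart18 : Janko1.Tree ℕ := (.node (.node (.node (.node (.node (.node (.leaf 46994380) (.leaf 177768068)) (.node (.leaf 11321392) (.leaf 102072368))) (.node (.node (.leaf 244580401) (.leaf 258162736)) (.node (.leaf 282822944) (.leaf 256202218)))) (.node (.node (.node (.leaf 304159937) (.leaf 105651485)) (.node (.leaf 372932658) (.leaf 105992498))) (.node (.node (.leaf 82859881) (.leaf 74793008)) (.node (.leaf 22319313) (.leaf 102274080))))) (.node (.node (.node (.node (.leaf 205574802) (.leaf 258474032)) (.node (.leaf 266698801) (.leaf 6242352))) (.node (.node (.leaf 249053233) (.leaf 42926129)) (.node (.leaf 215990320) (.leaf 43008049)))) (.node (.node (.node (.leaf 281725282) (.leaf 42975281)) (.node (.leaf 299910005) (.leaf 36798512))) (.node (.node (.leaf 342884400) (.leaf 983088)) (.node (.leaf 55008036) (.leaf 41009200)))))) (.node (.node (.node (.node (.node (.leaf 27401302) (.leaf 49012654)) (.node (.leaf 160794512) (.leaf 1006192))) (.node (.node (.leaf 329039921) (.leaf 238813232)) (.node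 (.leaf 310809612) (.leaf 106020912)))) (.node (.node (.node (.leaf 352338322) (.leaf 102301744)) (.node (.leaf 361922609) (.leaf 70877232))) (.node (.node (.leaf 268714034) (.leaf 276318758)) (.node (.leaf 88473650) (.leaf 291815472))))) (.node (.node (.node (.node (.leaf 136812808) (.leaf 101007408)) (.node (.leaf 322213438) (.leaf 106645093))) (.node (.node (.leaf 350835742) (.leaf 106747658)) (.node (.leaf 368708740) (.leaf 104497200)))) (.node (.node (.node (.leaf 343216049) (.leaf 73400368)) (.node (.leaf 375161206) (.leaf 112680213))) (.node (.node (.leaf 148389938) (.leaf 112714129)) (.node (.leaf 43204657) (.leaf 73420521)))))))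

/-- A Schreier factor, part 19. -/
def facCodePart19 : Janko1.Tree ℕ := (.node (.node (.node (.node (.node (.node (.leaf 242729009) (.leaf 38207536)) (.node (.leaf 229398724) (.leaf 2572336))) (.node (.node (.leaf 288394437) (.leaf 7686432)) (.node (.leaf 306386101) (.leaf 291850541)))) (.node (.node (.node (.leaf 66764850) (.leaf 116621360)) (.node (.leaf 130023474) (.leaf 24140050))) (.node (.node (.leaf 62668936) (.leaf 73440197)) (.node (.leaf 125812786) (.leaf 19775536))))) (.node (.node (.node (.node (.leaf 287442474) (.leaf 58678222)) (.node (.leaf 305632352) (.leaf 283018442))) (.node (.node (.leaf 276548765) (.leaf 264880176)) (.node (.leaf 294572177) (.leaf 90538032)))) (.node (.node (.node (.leaf 240591140) (.leaf 86658993)) (.node (.leaf 253706288) (.leaf 285000605))) (.node (.node (.leaf 322668426) (.leaf 58712342)) (.node (.leaf 358768982) (.leaf 283034666)))))) (.node (.node (.node (.node (.node (.leaf 325143277) (.leaf 264913442)) (.node (.leaf 360939570) (.leaf 90577928))) (.node (.node (.leaf 229212209) (.leaf 86671408)) (.node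 (.leaf 219185201) (.leaf 285035393)))) (.node (.node (.node (.leaf 192598838) (.leaf 54500732)) (.node (.leaf 82051120) (.leaf 24166448))) (.node (.node (.leaf 89938224) (.leaf 34375242)) (.node (.leaf 58168962) (.leaf 120741366))))) (.node (.node (.node (.node (.leaf 332120113) (.leaf 83017777)) (.node (.leaf 314040556) (.leaf 19793872))) (.node (.node (.leaf 325163905) (.leaf 88969021)) (.node (.leaf 360955954) (.leaf 19826976)))) (.node (.node (.node (.leaf 322633778) (.leaf 116574377)) (.node (.leaf 358752418) (.leaf 6085882))) (.node (.node (.leaf 212486729) (.leaf 6094897)) (.node (.leaf 186041665) (.leaf 120691577)))))))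

/-- A Schreier factor, part 20. -/
def facCodePart20 : Janko1.Tree ℕ := (.node (.node (.node (.node (.node (.node (.leaf 235851384) (.leaf 24199216)) (.node (.leaf 209424018) (.leaf 88988221))) (.node (.node (.leaf 66426878) (.leaf 54512749)) (.node (.leaf 327325854) (.leaf 264831024)))) (.node (.node (.node (.leaf 325435441) (.leaf 283071282)) (.node (.leaf 14745649) (.leaf 285048880))) (.node (.node (.leaf 48480305) (.leaf 54526000)) (.node (.leaf 14712880) (.leaf 86626037))))) (.node (.node (.node (.node (.leaf 62652817) (.leaf 264863792)) (.node (.leaf 125780018) (.leaf 90505264))) (.node (.node (.leaf 301252657) (.leaf 17517408)) (.node (.leaf 302809136) (.leaf 120700976)))) (.node (.node (.node (.leaf 244976669) (.leaf 24231984)) (.node (.leaf 313872298) (.leaf 57409584))) (.node (.node (.leaf 350013678) (.leaf 197498377)) (.node (.leaf 316276786) (.leaf 157237297)))))) (.node (.node (.node (.node (.node (.leaf 352231514) (.leaf 89331670)) (.node (.leaf 89382981) (.leaf 53430893))) (.node (.node (.leaf 186318896) (.leaf 25154177)) (.node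 (.leaf 159730626) (.leaf 300572849)))) (.node (.node (.node (.leaf 206297274) (.leaf 247136304)) (.node (.leaf 179634224) (.leaf 121864240))) (.node (.node (.leaf 260461501) (.leaf 117867169)) (.node (.leaf 249645349) (.leaf 20946522))))) (.node (.node (.node (.node (.leaf 15040562) (.leaf 25133104)) (.node (.leaf 80970812) (.leaf 300548144))) (.node (.node (.leaf 10453042) (.leaf 247122045)) (.node (.leaf 77168690) (.leaf 121847856)))) (.node (.node (.node (.leaf 50364466) (.leaf 117833776)) (.node (.leaf 113819698) (.leaf 249200688))) (.node (.node (.leaf 46472593) (.leaf 302865410)) (.node (.leaf 109875929) (.leaf 20926672)))))))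

/-- A Schreier factor, part 21. -/
def facCodePart21 : Janko1.Tree ℕ := (.node (.node (.node (.node (.node (.node (.leaf 359305686) (.leaf 148914225)) (.node (.leaf 367641573) (.leaf 148897841))) (.node (.node (.leaf 318231088) (.leaf 189055774)) (.node (.leaf 10485810) (.leaf 210897162)))) (.node (.node (.node (.leaf 15011582) (.leaf 85524528)) (.node (.leaf 109887538) (.leaf 89277037))) (.node (.node (.leaf 50331698) (.leaf 57425968)) (.node (.leaf 372310065) (.leaf 20987952))))) (.node (.node (.node (.node (.leaf 352486649) (.leaf 117801008)) (.node (.leaf 322977840) (.leaf 247087152))) (.node (.node (.leaf 376193416) (.leaf 121817626)) (.node (.leaf 309386472) (.leaf 25165872)))) (.node (.node (.node (.leaf 363299856) (.leaf 300615417)) (.node (.leaf 313901106) (.leaf 117768240))) (.node (.node (.leaf 69846262) (.leaf 300586557)) (.node (.leaf 192827853) (.leaf 85508144)))))) (.node (.node (.node (.node (.node (.leaf 238702514) (.leaf 202574214)) (.node (.leaf 254890890) (.leaf 58343472))) (.node (.node (.leaf 290444676) (.leaf 282738736))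 (.node (.leaf 252706866) (.leaf 264667184)))) (.node (.node (.node (.leaf 288145458) (.leaf 90259889)) (.node (.leaf 126779441) (.leaf 86409264))) (.node (.node (.leaf 106577969) (.leaf 284753968)) (.node (.leaf 75513905) (.leaf 54236477))))) (.node (.node (.node (.node (.leaf 74226254) (.leaf 24446969)) (.node (.leaf 41573006) (.leaf 195854385))) (.node (.node (.leaf 97672534) (.leaf 155910193)) (.node (.leaf 66145393) (.leaf 120995888)))) (.node (.node (.node (.leaf 270401585) (.leaf 116932656)) (.node (.leaf 181993522) (.leaf 116904844))) (.node (.node (.leaf 234881074) (.leaf 150700081)) (.node (.leaf 358416934) (.leaf 58314664)))))))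

/-- A Schreier factor, part 22. -/
def facCodePart22 : Janko1.Tree ℕ := (.node (.node (.node (.node (.node (.node (.leaf 245289612) (.leaf 86383794)) (.node (.leaf 298696752) (.leaf 267026480))) (.node (.node (.leaf 302989360) (.leaf 54198320)) (.node (.leaf 31595356) (.leaf 284788912)))) (.node (.node (.node (.leaf 128503625) (.leaf 54280240)) (.node (.leaf 5821064) (.leaf 86363832))) (.node (.node (.leaf 181977138) (.leaf 58392624)) (.node (.leaf 234848705) (.leaf 282778106))))) (.node (.node (.node (.node (.leaf 347062321) (.leaf 209240113)) (.node (.leaf 365152186) (.leaf 20111405))) (.node (.node (.leaf 362776036) (.leaf 116883504)) (.node (.leaf 380980334) (.leaf 142266824)))) (.node (.node (.node (.leaf 307398842) (.leaf 120987482)) (.node (.leaf 254958308) (.leaf 116872556))) (.node (.node (.leaf 290506821) (.leaf 137842148)) (.node (.leaf 83198001) (.leaf 120952900)))))) (.node (.node (.node (.node (.node (.leaf 87261233) (.leaf 204374834)) (.node (.leaf 89669680) (.leaf 284770352))) (.node (.node (.leaf 57859985) (.leaf 54271381))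 (.node (.leaf 263536812) (.leaf 264634416)))) (.node (.node (.node (.leaf 246136881) (.leaf 90243120)) (.node (.leaf 12730417) (.leaf 25444400))) (.node (.node (.leaf 46743601) (.leaf 300875824)) (.node (.leaf 25837617) (.leaf 247431216))))) (.node (.node (.node (.node (.leaf 221904946) (.leaf 249462832)) (.node (.leaf 280091881) (.leaf 57068061))) (.node (.node (.leaf 309067824) (.leaf 85327920)) (.node (.leaf 244255438) (.leaf 31948849)))) (.node (.node (.node (.leaf 233783345) (.leaf 81068081)) (.node (.leaf 207444958) (.leaf 53102042))) (.node (.node (.leaf 166478625) (.leaf 300908592)) (.node (.leaf 173381229) (.leaf 122182750)))))))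

/-- A Schreier factor, part 23. -/
def facCodePart23 : Janko1.Tree ℕ := (.node (.node (.node (.node (.node (.node (.leaf 312624684) (.leaf 249500000)) (.node (.leaf 341852209) (.leaf 303120432))) (.node (.node (.leaf 323977265) (.leaf 21174629)) (.node (.leaf 244285490) (.leaf 303136816)))) (.node (.node (.node (.leaf 279593010) (.leaf 21200944)) (.node (.leaf 227229745) (.leaf 247382064))) (.node (.node (.leaf 197483186) (.leaf 300941360)) (.node (.leaf 206624268) (.leaf 91029553))))) (.node (.node (.node (.node (.leaf 160039049) (.leaf 8524810)) (.node (.leaf 319193137) (.leaf 89064346))) (.node (.node (.leaf 67158065) (.leaf 53133360)) (.node (.leaf 2998321) (.leaf 85295152)))) (.node (.node (.node (.leaf 38551601) (.leaf 15550000)) (.node (.leaf 168869938) (.leaf 57114672))) (.node (.node (.leaf 221937714) (.leaf 96945090)) (.node (.leaf 291147134) (.leaf 303171565)))))) (.node (.node (.node (.node (.node (.leaf 308990404) (.leaf 21220874)) (.node (.leaf 293634097) (.leaf 249446448))) (.node (.node (.leaf 371640509) (.leaf 122162440)) (.node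 (.leaf 367398134) (.leaf 300974128)))) (.node (.node (.node (.leaf 74137648) (.leaf 116708261)) (.node (.leaf 305430577) (.leaf 85377072))) (.node (.node (.leaf 97550384) (.leaf 104480817)) (.node (.leaf 294374072) (.leaf 104530365))))) (.node (.node (.node (.node (.leaf 92995633) (.leaf 58741756)) (.node (.leaf 33264398) (.leaf 25493552))) (.node (.node (.leaf 73367601) (.leaf 264962096)) (.node (.leaf 29343794) (.leaf 247513136)))) (.node (.node (.node (.leaf 27772269) (.leaf 249561238)) (.node (.leaf 5685297) (.leaf 21238297))) (.node (.node (.leaf 245383216) (.leaf 58753990)) (.node (.leaf 320672294) (.leaf 25509936)))))))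

/-- A Schreier factor, part 24. -/
def facCodePart24 : Janko1.Tree ℕ := (.node (.node (.node (.node (.node (.node (.leaf 249532692) (.leaf 264978480)) (.node (.leaf 313950257) (.leaf 247545904))) (.node (.node (.leaf 49872944) (.leaf 249597856)) (.node (.leaf 210042930) (.leaf 120782896)))) (.node (.node (.node (.leaf 219267121) (.leaf 89145392)) (.node (.leaf 340690070) (.leaf 85409840))) (.node (.node (.leaf 254058653) (.leaf 120528098)) (.node (.leaf 309531233) (.leaf 120608322))))) (.node (.node (.node (.node (.leaf 240966841) (.leaf 116655562)) (.node (.leaf 325369905) (.leaf 85352522))) (.node (.node (.leaf 346032060) (.leaf 120756985)) (.node (.leaf 66488893) (.leaf 89100344)))) (.node (.node (.node (.leaf 361830434) (.leaf 120537137)) (.node (.leaf 41880337) (.leaf 120626422))) (.node (.node (.leaf 210075698) (.leaf 54575152)) (.node (.leaf 206667826) (.leaf 267305008)))))) (.node (.node (.node (.node (.node (.leaf 235937074) (.leaf 249511984)) (.node (.leaf 342851634) (.leaf 247464256))) (.node (.node (.leaf 5898288) (.leaf 58785840))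 (.node (.leaf 340656178) (.leaf 25526320)))) (.node (.node (.node (.leaf 302743600) (.leaf 21250096)) (.node (.leaf 264814641) (.leaf 267321392))) (.node (.node (.leaf 298270768) (.leaf 249544752)) (.node (.leaf 81723440) (.leaf 58808969))))) (.node (.node (.node (.node (.leaf 81068081) (.leaf 130982209)) (.node (.leaf 85131313) (.leaf 116686896))) (.node (.node (.leaf 307152588) (.leaf 131011888)) (.node (.leaf 309166128) (.leaf 57475120)))) (.node (.node (.node (.leaf 243105841) (.leaf 24498560)) (.node (.leaf 322699312) (.leaf 184271882))) (.node (.node (.leaf 249553304) (.leaf 184440622)) (.node (.leaf 278986801) (.leaf 184258753)))))))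

/-- A Schreier factor, part 25. -/
def facCodePart25 : Janko1.Tree ℕ := (.node (.node (.node (.node (.node (.node (.leaf 159825968) (.leaf 184408874)) (.node (.leaf 179732528) (.leaf 20119600))) (.node (.node (.leaf 193534824) (.leaf 300669082)) (.node (.leaf 120979505) (.leaf 90325040)))) (.node (.node (.node (.leaf 334464676) (.leaf 284805989)) (.node (.leaf 367591472) (.leaf 282787888))) (.node (.node (.leaf 340871748) (.leaf 121952673)) (.node (.leaf 365674545) (.leaf 86442032))))) (.node (.node (.node (.node (.leaf 199924444) (.leaf 302874672)) (.node (.leaf 188814154) (.leaf 57458736))) (.node (.node (.leaf 296353842) (.leaf 53465176)) (.node (.leaf 336609329) (.leaf 53517568)))) (.node (.node (.node (.leaf 334364721) (.leaf 171081777)) (.node (.leaf 206505318) (.leaf 171114545))) (.node (.node (.leaf 372097073) (.leaf 171163697)) (.node (.leaf 186597424) (.leaf 57507888)))))) (.node (.node (.node (.node (.node (.leaf 198967345) (.leaf 302910957)) (.node (.leaf 296370226) (.leaf 121913392))) (.node (.node (.leaf 108453909) (.leaf 90292533))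 (.node (.leaf 298729522) (.leaf 300728368)))) (.node (.node (.node (.leaf 112432874) (.leaf 282837804)) (.node (.leaf 313606192) (.leaf 117886805))) (.node (.node (.leaf 238683044) (.leaf 86425648)) (.node (.leaf 274677809) (.leaf 300695600))))) (.node (.node (.node (.node (.leaf 166314032) (.leaf 282820656)) (.node (.leaf 129288588) (.leaf 20152368))) (.node (.node (.leaf 101326749) (.leaf 162611249)) (.node (.leaf 334446642) (.leaf 162627633)))) (.node (.node (.node (.leaf 332143702) (.leaf 24534916)) (.node (.leaf 240664624) (.leaf 58425392))) (.node (.node (.leaf 252723249) (.leaf 25231408)) (.node (.leaf 253788208) (.leaf 264699952)))))))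

/-- A Schreier factor, part 26. -/
def facCodePart26 : Janko1.Tree ℕ := (.node (.node (.node (.node (.node (.node (.leaf 241844273) (.leaf 247218224)) (.node (.leaf 288735281) (.leaf 267141168))) (.node (.node (.leaf 41656589) (.leaf 249300912)) (.node (.leaf 277610545) (.leaf 54314326)))) (.node (.node (.node (.leaf 126861361) (.leaf 222615016)) (.node (.leaf 96206898) (.leaf 121094192))) (.node (.node (.leaf 5511056) (.leaf 117014576)) (.node (.leaf 272685065) (.leaf 85557296))))) (.node (.node (.node (.node (.leaf 340000817) (.leaf 217354329)) (.node (.leaf 298619309) (.leaf 217404020))) (.node (.node (.leaf 333512753) (.leaf 121061526)) (.node (.leaf 302924096) (.leaf 89394810)))) (.node (.node (.node (.leaf 89833520) (.leaf 217317425)) (.node (.leaf 155389518) (.leaf 25199042))) (.node (.node (.leaf 194117681) (.leaf 264683568)) (.node (.leaf 158503912) (.leaf 247188490)))))) (.node (.node (.node (.node (.node (.leaf 377050661) (.leaf 267124784)) (.node (.leaf 379338949) (.leaf 54297658))) (.node (.node (.leaf 344408113) (.leaf 267108400))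 (.node (.leaf 364855345) (.leaf 247169072)))) (.node (.node (.node (.leaf 158572560) (.leaf 235798577)) (.node (.leaf 210967080) (.leaf 116970901))) (.node (.node (.leaf 379406600) (.leaf 121028656)) (.node (.leaf 128419630) (.leaf 89374768))))) (.node (.node (.node (.node (.leaf 246054961) (.leaf 230768689)) (.node (.leaf 282148913) (.leaf 121012272))) (.node (.node (.leaf 57933872) (.leaf 89342000)) (.node (.leaf 284299448) (.leaf 230703153)))) (.node (.node (.node (.leaf 49561648) (.leaf 230803905)) (.node (.leaf 114589745) (.leaf 21020720))) (.node (.node (.leaf 100024370) (.leaf 267082841)) (.node (.leaf 118652977) (.leaf 249233456)))))))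

/-- A Schreier factor, part 27. -/
def facCodePart27 : Janko1.Tree ℕ := (.node (.node (.node (.node (.node (.node (.leaf 270455301) (.leaf 247152688)) (.node (.leaf 14843952) (.leaf 58458160))) (.node (.node (.leaf 272711730) (.leaf 25256100)) (.node (.leaf 261832753) (.leaf 300990512)))) (.node (.node (.node (.leaf 362974008) (.leaf 283119026)) (.node (.leaf 297975857) (.leaf 86736944))) (.node (.node (.leaf 304663718) (.leaf 285065264)) (.node (.leaf 145244210) (.leaf 59293745))))) (.node (.node (.node (.node (.leaf 368905896) (.leaf 59246062)) (.node (.leaf 371032114) (.leaf 53169332))) (.node (.node (.leaf 313893213) (.leaf 57131056)) (.node (.leaf 312545658) (.leaf 24284886)))) (.node (.node (.node (.leaf 318308400) (.leaf 65470513)) (.node (.leaf 349110321) (.leaf 65454129))) (.node (.node (.leaf 166551021) (.leaf 65573328)) (.node (.leaf 360415281) (.leaf 53198896)))))) (.node (.node (.node (.node (.node (.leaf 217128546) (.leaf 283135676)) (.node (.leaf 80560178) (.leaf 122208304))) (.node (.node (.leaf 46599393) (.leaf 303207658))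 (.node (.leaf 261689532) (.leaf 285103789)))) (.node (.node (.node (.leaf 309500402) (.leaf 118063152)) (.node (.leaf 180013880) (.leaf 90610086))) (.node (.node (.leaf 227311665) (.leaf 19879689)) (.node (.leaf 46628914) (.leaf 42844209))))) (.node (.node (.node (.node (.leaf 50530181) (.leaf 57150134)) (.node (.leaf 371589168) (.leaf 19890224))) (.node (.node (.leaf 367296560) (.leaf 48939057)) (.node (.leaf 199688942) (.leaf 48873521)))) (.node (.node (.node (.leaf 308559921) (.leaf 48955441)) (.node (.leaf 192762697) (.leaf 57181605))) (.node (.node (.leaf 99188785) (.leaf 303242845)) (.node (.leaf 145234208) (.leaf 285114416)))))))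

/-- A Schreier factor, part 28. -/
def facCodePart28 : Janko1.Tree ℕ := (.node (.node (.node (.node (.node (.node (.leaf 34209841) (.leaf 90644786)) (.node (.leaf 368934962) (.leaf 301028424))) (.node (.node (.leaf 6786654) (.leaf 19300401)) (.node (.leaf 270041137) (.leaf 69402674)))) (.node (.node (.node (.leaf 32522288) (.leaf 85316520)) (.node (.leaf 258755128) (.leaf 23712800))) (.node (.node (.leaf 61361054) (.leaf 20779545)) (.node (.leaf 130089010) (.leaf 285392944))))) (.node (.node (.node (.node (.leaf 40899577) (.leaf 250240146)) (.node (.leaf 125976626) (.leaf 85934128))) (.node (.node (.leaf 253902898) (.leaf 121476964)) (.node (.leaf 251779273) (.leaf 301269040)))) (.node (.node (.node (.leaf 280829413) (.leaf 20810338)) (.node (.leaf 356843569) (.leaf 285431948))) (.node (.node (.leaf 285018410) (.leaf 250268762)) (.node (.leaf 350100713) (.leaf 85969737)))))) (.node (.node (.node (.node (.node (.leaf 314622001) (.leaf 301307550)) (.node (.leaf 121439725) (.leaf 58163248))) (.node (.node (.leaf 149045297) (.leaf 131482781)) (.node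 (.leaf 358580274) (.leaf 79184461)))) (.node (.node (.node (.leaf 289475324) (.leaf 69533746)) (.node (.leaf 345538609) (.leaf 23740464))) (.node (.node (.leaf 276398128) (.leaf 311345)) (.node (.leaf 361185329) (.leaf 85098546))))) (.node (.node (.node (.node (.leaf 310069708) (.leaf 120635442)) (.node (.leaf 105317248) (.leaf 104710194))) (.node (.node (.leaf 183566386) (.leaf 301318192)) (.node (.leaf 180125965) (.leaf 121406176)))) (.node (.node (.node (.leaf 156123185) (.leaf 265633840)) (.node (.leaf 96797633) (.leaf 250207133))) (.node (.node (.leaf 298309822) (.leaf 301354885)) (.node (.leaf 300482609) (.leaf 121438256)))))))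

/-- A Schreier factor, part 29. -/
def facCodePart29 : Janko1.Tree ℕ := (.node (.node (.node (.node (.node (.node (.leaf 262592400) (.leaf 265670418)) (.node (.leaf 265470001) (.leaf 285474864))) (.node (.node (.leaf 48939057) (.leaf 79353440)) (.node (.leaf 125962834) (.leaf 23778296)))) (.node (.node (.node (.leaf 130127890) (.leaf 95060018)) (.node (.leaf 251744988) (.leaf 131205241))) (.node (.node (.leaf 253935666) (.leaf 52674608)) (.node (.leaf 48529456) (.leaf 114638898))))) (.node (.node (.node (.node (.leaf 345181248) (.leaf 19628254)) (.node (.leaf 278413361) (.leaf 210812978))) (.node (.node (.leaf 358776880) (.leaf 197197874)) (.node (.leaf 285032497) (.leaf 84803632)))) (.node (.node (.node (.leaf 243652376) (.leaf 120274992)) (.node (.leaf 212664368) (.leaf 220479538))) (.node (.node (.leaf 232669232) (.leaf 56922152)) (.node (.leaf 167040954) (.leaf 53890581)))))) (.node (.node (.node (.node (.node (.leaf 11255857) (.leaf 303267888)) (.node (.leaf 170491954) (.leaf 267747376))) (.node (.node (.leaf 24595480) (.leaf 117096496))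 (.node (.leaf 76890161) (.leaf 89456688)))) (.node (.node (.node (.leaf 349847602) (.leaf 247800066)) (.node (.leaf 88653873) (.leaf 283148336))) (.node (.node (.leaf 365183025) (.leaf 53859942)) (.node (.leaf 336879717) (.leaf 117063728))))) (.node (.node (.node (.node (.leaf 162283569) (.leaf 19611696)) (.node (.leaf 110035646) (.leaf 84770864))) (.node (.node (.leaf 245530674) (.leaf 120242224)) (.node (.leaf 80822322) (.leaf 212189234)))) (.node (.node (.node (.leaf 76975669) (.leaf 56885296)) (.node (.leaf 341235800) (.leaf 56967792))) (.node (.node (.leaf 327565360) (.leaf 233799730)) (.node (.leaf 334823473) (.leaf 197361714)))))))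

/-- A Schreier factor, part 30. -/
def facCodePart30 : Janko1.Tree ℕ := (.node (.node (.node (.node (.node (.node (.leaf 110051378) (.leaf 24772656)) (.node (.leaf 169040753) (.leaf 89429256))) (.node (.node (.leaf 113968397) (.leaf 247766842)) (.node (.leaf 243243508) (.leaf 267721425)))) (.node (.node (.node (.leaf 77011277) (.leaf 117055661)) (.node (.leaf 245503472) (.leaf 53919792))) (.node (.node (.leaf 80812736) (.leaf 303317502)) (.node (.leaf 254613886) (.leaf 267683546))))) (.node (.node (.node (.node (.leaf 219316272) (.leaf 303284272)) (.node (.leaf 170459186) (.leaf 212325320))) (.node (.node (.leaf 32358449) (.leaf 56952289)) (.node (.leaf 352108594) (.leaf 84738096)))) (.node (.node (.node (.leaf 69065754) (.leaf 19649194)) (.node (.leaf 349887704) (.leaf 188957981))) (.node (.node (.leaf 276135984) (.leaf 20512816)) (.node (.leaf 288169385) (.leaf 285153732)))))) (.node (.node (.node (.node (.node (.leaf 289309650) (.leaf 249937968)) (.node (.leaf 277053489) (.leaf 85639216))) (.node (.node (.leaf 253283869) (.leaf 121166070))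 (.node (.leaf 105087024) (.leaf 265388080)))) (.node (.node (.node (.leaf 129392949) (.leaf 57836992)) (.node (.leaf 68634888) (.leaf 52925854))) (.node (.node (.leaf 8650801) (.leaf 116131246)) (.node (.leaf 375210033) (.leaf 52905624))))) (.node (.node (.node (.node (.leaf 262866008) (.leaf 230670386)) (.node (.leaf 368824864) (.leaf 217088050))) (.node (.node (.leaf 267453422) (.leaf 116116168)) (.node (.leaf 340607025) (.leaf 187236402)))) (.node (.node (.node (.leaf 24956457) (.leaf 200704014)) (.node (.leaf 334088014) (.leaf 23994764))) (.node (.node (.leaf 177588601) (.leaf 20501884)) (.node (.leaf 237587696) (.leaf 85607228)))))))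

/-- A Schreier factor, part 31. -/
def facCodePart31 : Janko1.Tree ℕ := (.node (.node (.node (.node (.node (.node (.leaf 324026418) (.leaf 121143344)) (.node (.leaf 48793872) (.leaf 265358294))) (.node (.node (.leaf 56999984) (.leaf 57819184)) (.node (.leaf 364265521) (.leaf 301058032)))) (.node (.node (.node (.leaf 272105520) (.leaf 57901104)) (.node (.leaf 32768048) (.leaf 249891074))) (.node (.node (.leaf 326287410) (.leaf 235536749)) (.node (.leaf 40768337) (.leaf 222501161))))) (.node (.node (.node (.node (.leaf 284756148) (.leaf 187400242)) (.node (.leaf 281566405) (.leaf 24039769))) (.node (.node (.leaf 280428592) (.leaf 88637488)) (.node (.leaf 246628401) (.leaf 230539314)))) (.node (.node (.node (.leaf 121126960) (.leaf 116066510)) (.node (.leaf 248716000) (.leaf 52942858))) (.node (.node (.leaf 113049648) (.leaf 217221801)) (.node (.leaf 17727537) (.leaf 57868336)))))) (.node (.node (.node (.node (.node (.leaf 22267944) (.leaf 265309062)) (.node (.leaf 29671474) (.leaf 249872518))) (.node (.node (.leaf 287981618) (.leaf 85573680))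 (.node (.leaf 33868734) (.leaf 20545584)))) (.node (.node (.node (.leaf 304218161) (.leaf 267993136)) (.node (.leaf 133414960) (.leaf 89751600))) (.node (.node (.leaf 152928304) (.leaf 283361328)) (.node (.leaf 269254705) (.leaf 24993337))))) (.node (.node (.node (.node (.leaf 47185969) (.leaf 19284016)) (.node (.leaf 225363670) (.leaf 21530750))) (.node (.node (.leaf 317358130) (.leaf 118718514)) (.node (.leaf 122404913) (.leaf 56721456)))) (.node (.node (.node (.leaf 350027824) (.leaf 19316784)) (.node (.leaf 359827872) (.leaf 27695826))) (.node (.node (.leaf 313081905) (.leaf 27754545)) (.node (.leaf 324470348) (.leaf 124886281)))))))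

/-- A Schreier factor, part 32. -/
def facCodePart32 : Janko1.Tree ℕ := (.node (.node (.node (.node (.node (.node (.leaf 345508128) (.leaf 89704338)) (.node (.leaf 319674221) (.leaf 267949330))) (.node (.node (.leaf 232964144) (.leaf 117380417)) (.node (.leaf 212959280) (.leaf 303579184)))) (.node (.node (.node (.leaf 48369972) (.leaf 102945500)) (.node (.leaf 52430520) (.leaf 2923993))) (.node (.node (.leaf 143841961) (.leaf 118587442)) (.node (.leaf 12959904) (.leaf 91045938))))) (.node (.node (.node (.node (.leaf 279445554) (.leaf 2856502)) (.node (.leaf 17289018) (.leaf 19333168))) (.node (.node (.leaf 308156878) (.leaf 108648542)) (.node (.leaf 292929585) (.leaf 10371121)))) (.node (.node (.node (.leaf 332005424) (.leaf 124699617)) (.node (.leaf 273635042) (.leaf 10274805))) (.node (.node (.leaf 139533182) (.leaf 19369769)) (.node (.leaf 257939210) (.leaf 81203785)))))) (.node (.node (.node (.node (.node (.leaf 305106764) (.leaf 265755169)) (.node (.leaf 293945393) (.leaf 58196016))) (.node (.node (.leaf 153452616) (.leaf 89801521)) (.node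 (.leaf 176200664) (.leaf 248074062)))) (.node (.node (.node (.leaf 321331352) (.leaf 99060734)) (.node (.leaf 113360944) (.leaf 131304181))) (.node (.node (.leaf 133154185) (.leaf 89033594)) (.node (.leaf 156700456) (.leaf 120553522))))) (.node (.node (.node (.node (.leaf 206766130) (.leaf 73580594)) (.node (.leaf 182730801) (.leaf 104611890))) (.node (.node (.leaf 327958577) (.leaf 283432834)) (.node (.leaf 310149169) (.leaf 58245168)))) (.node (.node (.node (.leaf 129744944) (.leaf 25067568)) (.node (.leaf 7012400) (.leaf 121503792))) (.node (.node (.leaf 105414704) (.leaf 248042145)) (.node (.leaf 60954072) (.leaf 301401828)))))))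

/-- A Schreier factor, part 33. -/
def facCodePart33 : Janko1.Tree ℕ := (.node (.node (.node (.node (.node (.node (.leaf 304906290) (.leaf 58280384)) (.node (.leaf 56737840) (.leaf 25100336))) (.node (.node (.leaf 271810610) (.leaf 89784368)) (.node (.leaf 306987058) (.leaf 265715760)))) (.node (.node (.node (.leaf 284803120) (.leaf 98933601)) (.node (.leaf 280379441) (.leaf 131056509))) (.node (.node (.leaf 280514922) (.leaf 52713309)) (.node (.leaf 282705969) (.leaf 19415088))))) (.node (.node (.node (.node (.leaf 300729322) (.leaf 83165234)) (.node (.leaf 262520880) (.leaf 114560997))) (.node (.node (.leaf 11075633) (.leaf 120357422)) (.node (.leaf 45292164) (.leaf 220398918)))) (.node (.node (.node (.leaf 24444977) (.leaf 207457170)) (.node (.leaf 143474738) (.leaf 233881650))) (.node (.node (.leaf 197066802) (.leaf 57000293)) (.node (.leaf 133321350) (.leaf 53975854)))))) (.node (.node (.node (.node (.node (.leaf 243761201) (.leaf 303366192)) (.node (.leaf 267845681) (.leaf 250019888))) (.node (.node (.leaf 232774000) (.leaf 85721136))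 (.node (.leaf 48693298) (.leaf 53936176)))) (.node (.node (.node (.leaf 298571533) (.leaf 303334836)) (.node (.leaf 112312370) (.leaf 285196336))) (.node (.node (.leaf 44698481) (.leaf 267813389)) (.node (.leaf 260705870) (.leaf 250003504))))) (.node (.node (.node (.node (.leaf 108314674) (.leaf 85704752)) (.node (.leaf 350113782) (.leaf 120343856))) (.node (.node (.leaf 358649417) (.leaf 225542548)) (.node (.leaf 376085132) (.leaf 56985273)))) (.node (.node (.node (.leaf 260725584) (.leaf 220548836)) (.node (.leaf 262836869) (.leaf 88710734))) (.node (.node (.leaf 359104560) (.leaf 267796528)) (.node (.leaf 354140209) (.leaf 249987120)))))))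

/-- A Schreier factor, part 34. -/
def facCodePart34 : Janko1.Tree ℕ := (.node (.node (.node (.node (.node (.node (.leaf 371753009) (.leaf 117154000)) (.node (.leaf 351944753) (.leaf 20599421))) (.node (.node (.leaf 369789772) (.leaf 303420737)) (.node (.leaf 327483440) (.leaf 285229104)))) (.node (.node (.node (.leaf 143458354) (.leaf 249954352)) (.node (.leaf 197034034) (.leaf 117137112))) (.node (.node (.leaf 65962033) (.leaf 85671984)) (.node (.leaf 1114161) (.leaf 54001712))))) (.node (.node (.node (.node (.leaf 140332948) (.leaf 20568310)) (.node (.leaf 193675314) (.leaf 303399524))) (.node (.node (.leaf 226134658) (.leaf 24085821)) (.node (.leaf 139484725) (.leaf 120307760)))) (.node (.node (.node (.leaf 256704561) (.leaf 88686640)) (.node (.leaf 219381808) (.leaf 225460274))) (.node (.node (.leaf 35553330) (.leaf 89538608)) (.node (.leaf 100122674) (.leaf 265456704)))))) (.node (.node (.node (.node (.node (.leaf 8405293) (.leaf 301109973)) (.node (.leaf 31080498) (.leaf 283197488))) (.node (.node (.leaf 42942513) (.leaf 24840045)) (.node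 (.leaf 6674920) (.leaf 53004844)))) (.node (.node (.node (.leaf 253378609) (.leaf 209127066)) (.node (.leaf 105152560) (.leaf 235622560))) (.node (.node (.leaf 32428082) (.leaf 195510757)) (.node (.leaf 259653681) (.leaf 222281778))))) (.node (.node (.node (.node (.leaf 129466416) (.leaf 84918320)) (.node (.leaf 80989169) (.leaf 52976738))) (.node (.node (.leaf 48716621) (.leaf 230621234)) (.node (.leaf 88866864) (.leaf 190516304)))) (.node (.node (.node (.leaf 56918064) (.leaf 84885552)) (.node (.leaf 357908529) (.leaf 89505840))) (.node (.node (.leaf 285084806) (.leaf 301072432)) (.node (.leaf 267370544) (.leaf 24807097)))))))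

/-- A Schreier factor, part 35. -/
def facCodePart35 : Janko1.Tree ℕ := (.node (.node (.node (.node (.node (.node (.leaf 73302408) (.leaf 121209138)) (.node (.leaf 376946738) (.leaf 265420848))) (.node (.node (.leaf 346507145) (.leaf 235454514)) (.node (.leaf 364483113) (.leaf 116163166)))) (.node (.node (.node (.leaf 272008894) (.leaf 84869505)) (.node (.leaf 276447280) (.leaf 53073601))) (.node (.node (.leaf 362238272) (.leaf 19726384)) (.node (.leaf 380013910) (.leaf 195708586))))) (.node (.node (.node (.node (.leaf 17514545) (.leaf 204128306)) (.node (.leaf 31052744) (.leaf 230465445))) (.node (.node (.leaf 51068977) (.leaf 84836400)) (.node (.leaf 22052913) (.leaf 53035056)))) (.node (.node (.node (.leaf 100171826) (.leaf 190644274)) (.node (.leaf 55246897) (.leaf 217153586))) (.node (.node (.leaf 24659992) (.leaf 301126858)) (.node (.leaf 246712397) (.leaf 57954533)))))) (.node (.node (.node (.node (.node (.leaf 16023600) (.leaf 121176576)) (.node (.leaf 266410830) (.leaf 89473072))) (.node (.node (.leaf 122313776) (.leaf 268066505))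 (.node (.leaf 335659550) (.leaf 250354944)))) (.node (.node (.node (.leaf 345276464) (.leaf 54778832)) (.node (.leaf 297600653) (.leaf 71437372))) (.node (.node (.leaf 327122960) (.leaf 102711346)) (.node (.leaf 358875184) (.leaf 87244850))))) (.node (.node (.node (.node (.leaf 84627537) (.leaf 77303681)) (.node (.leaf 164122173) (.leaf 108467894))) (.node (.node (.leaf 14535096) (.leaf 124802449)) (.node (.leaf 180803054) (.leaf 23811068)))) (.node (.node (.node (.leaf 331251761) (.leaf 20840496)) (.node (.leaf 313163825) (.leaf 303628336))) (.node (.node (.leaf 219709777) (.leaf 285507632)) (.node (.leaf 146161712) (.leaf 268075056)))))))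

/-- A Schreier factor, part 36. -/
def facCodePart36 : Janko1.Tree ℕ := (.node (.node (.node (.node (.node (.node (.leaf 342254005) (.leaf 250388337)) (.node (.leaf 324574740) (.leaf 117512820))) (.node (.node (.leaf 146898993) (.leaf 268025904)) (.node (.leaf 14549042) (.leaf 250303300)))) (.node (.node (.node (.leaf 80674866) (.leaf 117456944)) (.node (.leaf 174112817) (.leaf 85988137))) (.node (.node (.leaf 84574258) (.leaf 303652445)) (.node (.leaf 170901553) (.leaf 285525278))))) (.node (.node (.node (.node (.leaf 338018353) (.leaf 102842418)) (.node (.leaf 319750193) (.leaf 56786992))) (.node (.node (.leaf 213031108) (.leaf 118489465)) (.node (.leaf 130600380) (.leaf 77447218)))) (.node (.node (.node (.leaf 98752161) (.leaf 23841860)) (.node (.leaf 368754738) (.leaf 93048365))) (.node (.node (.leaf 308431992) (.leaf 117476026)) (.node (.leaf 336563141) (.leaf 86022340)))))) (.node (.node (.node (.node (.node (.leaf 349821306) (.leaf 54165552)) (.node (.leaf 275185713) (.leaf 20873264))) (.node (.node (.leaf 2195505) (.leaf 58146864))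 (.node (.leaf 37626232) (.leaf 283381436)))) (.node (.node (.node (.leaf 305514685) (.leaf 248012605)) (.node (.leaf 252100656) (.leaf 121487408))) (.node (.node (.leaf 101681368) (.leaf 117429786)) (.node (.leaf 70025265) (.leaf 250249264))))) (.node (.node (.node (.node (.leaf 62559466) (.leaf 285411028)) (.node (.leaf 365665504) (.leaf 58179632))) (.node (.node (.leaf 330222170) (.leaf 283399296)) (.node (.leaf 212190502) (.leaf 248021040)))) (.node (.node (.node (.leaf 189421878) (.leaf 117440560)) (.node (.leaf 136560690) (.leaf 250284542))) (.node (.node (.leaf 116822492) (.leaf 285446184)) (.node (.leaf 20086832) (.leaf 54141136)))))))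

/-- A Schreier factor, part 37. -/
def facCodePart37 : Janko1.Tree ℕ := (.node (.node (.node (.node (.node (.node (.leaf 243548208) (.leaf 131450018)) (.node (.leaf 226426929) (.leaf 126896949))) (.node (.node (.leaf 327893042) (.leaf 19349552)) (.node (.leaf 215435232) (.leaf 5603620)))) (.node (.node (.node (.leaf 162332722) (.leaf 116523058)) (.node (.leaf 133447730) (.leaf 5586993))) (.node (.node (.leaf 101253168) (.leaf 23756848)) (.node (.leaf 1103706) (.leaf 104693810))))) (.node (.node (.node (.node (.leaf 305741872) (.leaf 285458480)) (.node (.leaf 137363505) (.leaf 117391408))) (.node (.node (.leaf 163594289) (.leaf 250216496)) (.node (.leaf 62902628) (.leaf 247978728)))) (.node (.node (.node (.leaf 94765104) (.leaf 121421872)) (.node (.leaf 104529970) (.leaf 285491248))) (.node (.node (.leaf 292044850) (.leaf 117411436)) (.node (.leaf 116525049) (.leaf 247988272)))))) (.node (.node (.node (.node (.node (.leaf 19824688) (.leaf 121454640)) (.node (.leaf 1512810) (.leaf 283411429))) (.node (.node (.leaf 58310705) (.leaf 19389285))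 (.node (.leaf 243272262) (.leaf 126754464)))) (.node (.node (.node (.leaf 46111248) (.leaf 23792272)) (.node (.leaf 78533545) (.leaf 114630809))) (.node (.node (.leaf 374660494) (.leaf 56934529)) (.node (.leaf 339427378) (.leaf 210780210))))) (.node (.node (.node (.node (.leaf 172809364) (.leaf 120291724)) (.node (.leaf 203309106) (.leaf 116146224))) (.node (.node (.leaf 149528673) (.leaf 193855538)) (.node (.leaf 365780740) (.leaf 24741594)))) (.node (.node (.node (.leaf 163430448) (.leaf 85655600)) (.node (.leaf 190045876) (.leaf 267767434))) (.node (.node (.leaf 81890492) (.leaf 20530334)) (.node (.leaf 116805364) (.leaf 24723504)))))))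

/-- A Schreier factor, part 38. -/
def facCodePart38 : Janko1.Tree ℕ := (.node (.node (.node (.node (.node (.node (.leaf 53566912) (.leaf 301043814)) (.node (.leaf 303595570) (.leaf 265371696))) (.node (.node (.leaf 222609456) (.leaf 85622832)) (.node (.leaf 89884781) (.leaf 303257049)))) (.node (.node (.node (.leaf 156713009) (.leaf 56901680)) (.node (.leaf 183490021) (.leaf 202480142))) (.node (.node (.leaf 374718512) (.leaf 188825650)) (.node (.leaf 321110064) (.leaf 120258608))))) (.node (.node (.node (.node (.leaf 120934152) (.leaf 193993777)) (.node (.leaf 301290798) (.leaf 116098234))) (.node (.node (.leaf 235806910) (.leaf 210621066)) (.node (.leaf 20713914) (.leaf 197347308)))) (.node (.node (.node (.leaf 312131632) (.leaf 267730992)) (.node (.leaf 219562033) (.leaf 265338928))) (.node (.node (.leaf 192710912) (.leaf 89441917)) (.node (.leaf 163840048) (.leaf 24796921)))))) (.node (.node (.node (.node (.node (.leaf 372441138) (.leaf 303300656)) (.node (.leaf 229179442) (.leaf 85590064))) (.node (.node (.leaf 176177202) (.leaf 267700837))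 (.node (.leaf 199901234) (.leaf 265322544)))) (.node (.node (.node (.leaf 222331501) (.leaf 24756272)) (.node (.leaf 320790614) (.leaf 52958649))) (.node (.node (.leaf 29531413) (.leaf 116082425)) (.node (.leaf 62753254) (.leaf 199002656))))) (.node (.node (.node (.node (.leaf 203653168) (.leaf 120225840)) (.node (.leaf 293142578) (.leaf 57851952))) (.node (.node (.leaf 106564585) (.leaf 247808252)) (.node (.leaf 72007730) (.leaf 117113944)))) (.node (.node (.node (.leaf 124732049) (.leaf 285163568)) (.node (.leaf 28099832) (.leaf 53903441))) (.node (.node (.leaf 292085985) (.leaf 24018992)) (.node (.leaf 238832901) (.leaf 235700274)))))))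

/-- A Schreier factor, part 39. -/
def facCodePart39 : Janko1.Tree ℕ := (.node (.node (.node (.node (.node (.node (.leaf 37765168) (.leaf 84820016)) (.node (.leaf 70664240) (.leaf 218898480))) (.node (.node (.leaf 132028564) (.leaf 232357938)) (.node (.leaf 217007672) (.leaf 24008982)))) (.node (.node (.node (.leaf 364545124) (.leaf 217062364)) (.node (.leaf 329187378) (.leaf 88670256))) (.node (.node (.leaf 108813921) (.leaf 84787248)) (.node (.leaf 225034418) (.leaf 117080112))))) (.node (.node (.node (.node (.leaf 198269197) (.leaf 249921884)) (.node (.leaf 54640688) (.leaf 285131574))) (.node (.node (.leaf 86720560) (.leaf 53870640)) (.node (.leaf 213916496) (.leaf 285179952)))) (.node (.node (.node (.leaf 331499988) (.leaf 249911782)) (.node (.leaf 124963510) (.leaf 247776792))) (.node (.node (.leaf 28362246) (.leaf 121127006)) (.node (.leaf 155590805) (.leaf 219004978)))))) (.node (.node (.node (.node (.node (.leaf 182059057) (.leaf 19677232)) (.node (.leaf 234799153) (.leaf 235523853))) (.node (.node (.leaf 208158769) (.leaf 88654792))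 (.node (.leaf 70959152) (.leaf 222478386)))) (.node (.node (.node (.leaf 295375146) (.leaf 214030086)) (.node (.leaf 259904540) (.leaf 19660848))) (.node (.node (.leaf 102760498) (.leaf 84754480)) (.node (.leaf 10738533) (.leaf 217207126))))) (.node (.node (.node (.node (.leaf 14336049) (.leaf 117030960)) (.node (.leaf 86446676) (.leaf 121117517))) (.node (.node (.leaf 111231025) (.leaf 57884720)) (.node (.leaf 79806513) (.leaf 283164720)))) (.node (.node (.node (.leaf 230785074) (.leaf 25002032)) (.node (.leaf 177635378) (.leaf 301285424))) (.node (.node (.leaf 338452122) (.leaf 89773793)) (.node (.leaf 215485986) (.leaf 85950512)))))))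

/-- A Schreier factor, part 40. -/
def facCodePart40 : Janko1.Tree ℕ := (.node (.node (.node (.node (.node (.node (.leaf 201576549) (.leaf 303568781)) (.node (.leaf 147850170) (.leaf 20794269))) (.node (.node (.leaf 119641306) (.leaf 25788765)) (.node (.leaf 87965745) (.leaf 71337328)))) (.node (.node (.node (.leaf 183599152) (.leaf 87136357)) (.node (.leaf 302481458) (.leaf 56739549))) (.node (.node (.leaf 266911794) (.leaf 97026098)) (.node (.leaf 122929202) (.leaf 81056802))))) (.node (.node (.node (.node (.leaf 135561265) (.leaf 265707710)) (.node (.leaf 197187629) (.leaf 268015973))) (.node (.node (.leaf 304699253) (.leaf 303597625)) (.node (.leaf 118849586) (.leaf 85901360)))) (.node (.node (.node (.leaf 55459890) (.leaf 267960368)) (.node (.leaf 92068044) (.leaf 265653545))) (.node (.node (.leaf 26918962) (.leaf 89718832)) (.node (.leaf 136233008) (.leaf 301334576)))))) (.node (.node (.node (.node (.node (.leaf 325877808) (.leaf 52658212)) (.node (.leaf 204701745) (.leaf 75436030))) (.node (.node (.leaf 340576953) (.leaf 92979250)) (.node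 (.leaf 205034470) (.leaf 56761610)))) (.node (.node (.node (.leaf 9928753) (.leaf 303611952)) (.node (.leaf 44204081) (.leaf 20827153))) (.node (.node (.leaf 370245680) (.leaf 85917744)) (.node (.leaf 316457008) (.leaf 267977413))))) (.node (.node (.node (.node (.leaf 107512862) (.leaf 265684177)) (.node (.leaf 76169370) (.leaf 89737701))) (.node (.node (.leaf 170262576) (.leaf 25021704)) (.node (.leaf 196853808) (.leaf 301367344)))) (.node (.node (.node (.leaf 100864022) (.leaf 58218261)) (.node (.leaf 101597544) (.leaf 25034800))) (.node (.node (.leaf 69457957) (.leaf 117497049)) (.node (.leaf 274254064) (.leaf 86032432)))))))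

/-- A Schreier factor, part 41. -/
def facCodePart41 : Janko1.Tree ℕ := (.node (.node (.node (.node (.node (.node (.leaf 241453574) (.leaf 54155686)) (.node (.leaf 46457178) (.leaf 58236909))) (.node (.node (.leaf 196398694) (.leaf 25051184)) (.node (.leaf 86646680) (.leaf 89823473)))) (.node (.node (.node (.leaf 296828976) (.leaf 117528446)) (.node (.leaf 170590257) (.leaf 86055210))) (.node (.node (.leaf 212828210) (.leaf 114425906)) (.node (.leaf 312049714) (.leaf 79253377))))) (.node (.node (.node (.node (.leaf 216223361) (.leaf 85213253)) (.node (.leaf 70896581) (.leaf 116431541))) (.node (.node (.leaf 137301254) (.leaf 73569750)) (.node (.leaf 239190064) (.leaf 104595506)))) (.node (.node (.node (.leaf 28410740) (.leaf 20859588)) (.node (.leaf 216062042) (.leaf 86002192))) (.node (.node (.leaf 188842034) (.leaf 58261552)) (.node (.leaf 347833097) (.leaf 25086098)))))) (.node (.node (.node (.node (.node (.leaf 121110577) (.leaf 54181936)) (.node (.leaf 86376496) (.leaf 20889648))) (.node (.node (.leaf 25198641) (.leaf 121520176)) (.node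 (.leaf 296536406) (.leaf 58300233)))) (.node (.node (.node (.leaf 116424752) (.leaf 79413298)) (.node (.leaf 105185330) (.leaf 110566641))) (.node (.node (.leaf 37142578) (.leaf 95145996)) (.node (.leaf 10813488) (.leaf 126669121))))) (.node (.node (.node (.node (.leaf 73433138) (.leaf 98893874)) (.node (.leaf 276486134) (.leaf 131023081))) (.node (.node (.leaf 239078564) (.leaf 83140789)) (.node (.leaf 923196) (.leaf 114549100)))) (.node (.node (.node (.leaf 163547097) (.leaf 57018998)) (.node (.leaf 86065201) (.leaf 24071113))) (.node (.node (.leaf 210180264) (.leaf 88755380)) (.node (.leaf 365695301) (.leaf 116215337)))))))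

/-- A Schreier factor, part 42. -/
def facCodePart42 : Janko1.Tree ℕ := (.node (.node (.node (.node (.node (.node (.leaf 54743149) (.leaf 84934704)) (.node (.leaf 16898573) (.leaf 53025353))) (.node (.node (.leaf 325670774) (.leaf 19710000)) (.node (.leaf 136069168) (.leaf 283213872)))) (.node (.node (.node (.leaf 235443254) (.leaf 265470962)) (.node (.leaf 199327794) (.leaf 303382576))) (.node (.node (.leaf 236064252) (.leaf 301093280)) (.node (.leaf 197083184) (.leaf 283181104))))) (.node (.node (.node (.node (.leaf 186269745) (.leaf 247840816)) (.node (.leaf 374636592) (.leaf 303354256))) (.node (.node (.leaf 117571634) (.leaf 24051760)) (.node (.leaf 148901944) (.leaf 88735944)))) (.node (.node (.node (.leaf 85483724) (.leaf 116196777)) (.node (.leaf 283394098) (.leaf 84901936))) (.node (.node (.leaf 250363954) (.leaf 52985904)) (.node (.leaf 24559666) (.leaf 19695166)))))) (.node (.node (.node (.node (.node (.leaf 210373884) (.leaf 19745393)) (.node (.leaf 163905584) (.leaf 116178992))) (.node (.node (.leaf 325959728) (.leaf 88719408))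 (.node (.leaf 365974733) (.leaf 57057505)))) (.node (.node (.node (.leaf 176968101) (.leaf 24117296)) (.node (.leaf 89260082) (.leaf 265439056))) (.node (.node (.leaf 285498874) (.leaf 247830976)) (.node (.leaf 248053810) (.leaf 301137968))))) (.node (.node (.node (.node (.leaf 74367025) (.leaf 285212720)) (.node (.leaf 125501489) (.leaf 267780144))) (.node (.node (.leaf 196812457) (.leaf 249970736)) (.node (.leaf 374374448) (.leaf 265405757)))) (.node (.node (.node (.leaf 173330184) (.leaf 53054242)) (.node (.leaf 229760448) (.leaf 84855944))) (.node (.node (.leaf 318985990) (.leaf 120326416)) (.node (.leaf 202653746) (.leaf 57032752)))))))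

/-- A Schreier factor, part 43. -/
def facCodePart43 : Janko1.Tree ℕ := (.node (.node (.node (.node (.node (.node (.leaf 357270569) (.leaf 24105649)) (.node (.leaf 37847281) (.leaf 57940777))) (.node (.node (.leaf 72024113) (.leaf 24856056)) (.node (.leaf 131579953) (.leaf 121241872)))) (.node (.node (.node (.leaf 94426044) (.leaf 89559113)) (.node (.leaf 292012669) (.leaf 117194800))) (.node (.node (.leaf 39934936) (.leaf 85739282)) (.node (.leaf 35569713) (.leaf 53985328))))) (.node (.node (.node (.node (.leaf 840138) (.leaf 235605313)) (.node (.leaf 240173106) (.leaf 192217138))) (.node (.node (.leaf 75340789) (.leaf 205914162)) (.node (.leaf 277482660) (.leaf 232279902)))) (.node (.node (.node (.leaf 78733042) (.leaf 230588466)) (.node (.leaf 243667413) (.leaf 213832757))) (.node (.node (.leaf 301318192) (.leaf 200769586)) (.node (.leaf 108724272) (.leaf 57917488)))))) (.node (.node (.node (.node (.node (.leaf 217759794) (.leaf 24826646)) (.node (.leaf 161185842) (.leaf 121225264))) (.node (.node (.leaf 20135984) (.leaf 89522224)) (.node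 (.leaf 190464050) (.leaf 117178416)))) (.node (.node (.node (.leaf 310886450) (.leaf 53952560)) (.node (.leaf 234586161) (.leaf 54034480))) (.node (.node (.leaf 94699568) (.leaf 20611120)) (.node (.leaf 38158384) (.leaf 117168704))))) (.node (.node (.node (.node (.leaf 252465165) (.leaf 89493948)) (.node (.leaf 292306992) (.leaf 57966640))) (.node (.node (.leaf 214482994) (.leaf 218961352)) (.node (.leaf 187351090) (.leaf 208965753)))) (.node (.node (.node (.leaf 313229464) (.leaf 195690546)) (.node (.leaf 137646408) (.leaf 222413466))) (.node (.node (.leaf 54445530) (.leaf 187473993)) (.node (.leaf 91724637) (.leaf 213975090)))))))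

/-- A Schreier factor, part 44. -/
def facCodePart44 : Janko1.Tree ℕ := (.node (.node (.node (.node (.node (.node (.leaf 78430804) (.leaf 227131442)) (.node (.leaf 43452992) (.leaf 54018096))) (.node (.node (.leaf 19873840) (.leaf 20585570)) (.node (.leaf 103350322) (.leaf 85694988)))) (.node (.node (.node (.leaf 242483250) (.leaf 121192496)) (.node (.leaf 275415090) (.leaf 24870960))) (.node (.node (.leaf 183705686) (.leaf 265764912)) (.node (.leaf 311935024) (.leaf 250368669))))) (.node (.node (.node (.node (.leaf 215384112) (.leaf 56773878)) (.node (.leaf 155811888) (.leaf 58986205))) (.node (.node (.leaf 147406898) (.leaf 19398704)) (.node (.leaf 214351921) (.leaf 65110065)))) (.node (.node (.node (.leaf 185238078) (.leaf 65159217)) (.node (.leaf 135479345) (.leaf 52690992))) (.node (.node (.leaf 229081136) (.leaf 265781296)) (.node (.leaf 123617330) (.leaf 248090404)))))) (.node (.node (.node (.node (.node (.leaf 249120657) (.leaf 268091569)) (.node (.leaf 22432977) (.leaf 250404380))) (.node (.node (.leaf 183959600) (.leaf 303661104))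 (.node (.leaf 231054336) (.leaf 268042288)))) (.node (.node (.node (.leaf 190300208) (.leaf 250314800)) (.node (.leaf 168582854) (.leaf 248059097))) (.node (.node (.leaf 151691034) (.leaf 301386820)) (.node (.leaf 312252513) (.leaf 283443248))))) (.node (.node (.node (.node (.leaf 119528596) (.leaf 42516529)) (.node (.leaf 251466196) (.leaf 42483761))) (.node (.node (.leaf 284360773) (.leaf 23822384)) (.node (.leaf 107268068) (.leaf 52723712)))) (.node (.node (.node (.leaf 96029726) (.leaf 48548353)) (.node (.leaf 9867234) (.leaf 48487965))) (.node (.node (.leaf 228032562) (.leaf 285546170)) (.node (.leaf 142065712) (.leaf 250331184)))))))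

/-- A Schreier factor, part 45. -/
def facCodePart45 : Janko1.Tree ℕ := (.node (.node (.node (.node (.node (.node (.leaf 200933426) (.leaf 265732144)) (.node (.leaf 322509633) (.leaf 301420188))) (.node (.node (.leaf 36782128) (.leaf 21135408)) (.node (.leaf 1622066) (.leaf 284983344)))) (.node (.node (.node (.leaf 101158964) (.leaf 90528202)) (.node (.leaf 256532076) (.leaf 247415036))) (.node (.node (.leaf 40818662) (.leaf 58654768)) (.node (.leaf 109854768) (.leaf 21156169))))) (.node (.node (.node (.node (.leaf 142852145) (.leaf 285016112)) (.node (.leaf 261308464) (.leaf 90556144))) (.node (.node (.leaf 223698710) (.leaf 247455886)) (.node (.leaf 200334990) (.leaf 300897650)))) (.node (.node (.node (.leaf 283492400) (.leaf 58687536)) (.node (.leaf 53657648) (.leaf 30032897))) (.node (.node (.leaf 162234418) (.leaf 30084489)) (.node (.leaf 212320306) (.leaf 79216689)))))) (.node (.node (.node (.node (.node (.leaf 126096837) (.leaf 85089462)) (.node (.leaf 153082528) (.leaf 24183261))) (.node (.node (.leaf 2346210) (.leaf 868401)) (.node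 (.leaf 270303280) (.leaf 810914)))) (.node (.node (.node (.leaf 233472049) (.leaf 85262384)) (.node (.leaf 190254826) (.leaf 53118804))) (.node (.node (.leaf 186123960) (.leaf 300924976)) (.node (.leaf 215550633) (.leaf 21184560))))) (.node (.node (.node (.node (.leaf 57922414) (.leaf 300965389)) (.node (.leaf 21024600) (.leaf 58721600))) (.node (.node (.leaf 11410353) (.leaf 247406932)) (.node (.leaf 90246105) (.leaf 267278577)))) (.node (.node (.node (.leaf 6934593) (.leaf 24217358)) (.node (.leaf 77365296) (.leaf 13172785))) (.node (.node (.leaf 104693810) (.leaf 13123633)) (.node (.leaf 258589317) (.leaf 85279870)))))))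

/-- A Schreier factor, part 46. -/
def facCodePart46 : Janko1.Tree ℕ := (.node (.node (.node (.node (.node (.node (.leaf 36555328) (.leaf 95131922)) (.node (.leaf 216514608) (.leaf 20074445))) (.node (.node (.leaf 20744946) (.leaf 194124125)) (.node (.leaf 156681596) (.leaf 116916272)))) (.node (.node (.node (.leaf 330243354) (.leaf 89309232)) (.node (.leaf 117935214) (.leaf 154328482))) (.node (.node (.leaf 82561468) (.leaf 194222164)) (.node (.leaf 361452089) (.leaf 57396757))))) (.node (.node (.node (.node (.leaf 203178034) (.leaf 54214704)) (.node (.leaf 182485040) (.leaf 249217072))) (.node (.node (.leaf 146325554) (.leaf 86392880)) (.node (.leaf 225953696) (.leaf 282722757)))) (.node (.node (.node (.leaf 230162480) (.leaf 249184304)) (.node (.leaf 210198425) (.leaf 121831472))) (.node (.node (.leaf 213271670) (.leaf 25118452)) (.node (.leaf 169541680) (.leaf 20054064)))))) (.node (.node (.node (.node (.node (.leaf 89767986) (.leaf 145621041)) (.node (.leaf 116965426) (.leaf 89296194))) (.node (.node (.leaf 265570924) (.leaf 145562953))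 (.node (.leaf 166346801) (.leaf 207552561)))) (.node (.node (.node (.leaf 149183016) (.leaf 140771377)) (.node (.leaf 193396785) (.leaf 140836913))) (.node (.node (.leaf 85908396) (.leaf 121798704)) (.node (.leaf 189189632) (.leaf 264658296))))) (.node (.node (.node (.node (.leaf 121098621) (.leaf 249172194)) (.node (.leaf 267927602) (.leaf 86343728))) (.node (.node (.leaf 229900336) (.leaf 282755120)) (.node (.leaf 105895692) (.leaf 86330658)))) (.node (.node (.node (.leaf 94683185) (.leaf 54247472)) (.node (.leaf 149684274) (.leaf 133120049))) (.node (.node (.leaf 172687410) (.leaf 116850736)) (.node (.leaf 229334589) (.leaf 20087490)))))))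

/-- A Schreier factor, part 47. -/
def facCodePart47 : Janko1.Tree ℕ := (.node (.node (.node (.node (.node (.node (.leaf 68097893) (.leaf 267042864)) (.node (.leaf 29169077) (.leaf 117850160))) (.node (.node (.leaf 287555632) (.leaf 58331072)) (.node (.leaf 71862078) (.leaf 53415118)))) (.node (.node (.node (.leaf 38656464) (.leaf 152537738)) (.node (.leaf 12197449) (.leaf 187631345))) (.node (.node (.leaf 147783729) (.leaf 85546101)) (.node (.leaf 279003184) (.leaf 147278218))))) (.node (.node (.node (.node (.leaf 265748528) (.leaf 187580465)) (.node (.leaf 228491313) (.leaf 24428592))) (.node (.node (.leaf 45389812) (.leaf 20906032)) (.node (.leaf 138253204) (.leaf 284739494)))) (.node (.node (.node (.leaf 187809925) (.leaf 267010096)) (.node (.leaf 85540912) (.leaf 117817392))) (.node (.node (.leaf 331325369) (.leaf 247103536)) (.node (.leaf 181702374) (.leaf 300597296)))))) (.node (.node (.node (.node (.node (.leaf 29458480) (.leaf 58376240)) (.node (.leaf 287866928) (.leaf 117784624))) (.node (.node (.leaf 256922938) (.leaf 20971568))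 (.node (.leaf 191037490) (.leaf 120963120)))) (.node (.node (.node (.leaf 163946912) (.leaf 206028849)) (.node (.leaf 117694390) (.leaf 200820156))) (.node (.node (.leaf 26598941) (.leaf 24461360)) (.node (.leaf 278659120) (.leaf 200900657))))) (.node (.node (.node (.node (.leaf 85329254) (.leaf 58363986)) (.node (.leaf 4259890) (.leaf 247070768))) (.node (.node (.leaf 295551026) (.leaf 266993712)) (.node (.leaf 42827826) (.leaf 117759333)))) (.node (.node (.node (.leaf 102924338) (.leaf 20955184)) (.node (.leaf 56197169) (.leaf 54467073))) (.node (.node (.leaf 137091777) (.leaf 303087664)) (.node (.leaf 18382897) (.leaf 86638640)))))))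

/-- A Schreier factor, part 48. -/
def facCodePart48 : Janko1.Tree ℕ := (.node (.node (.node (.node (.node (.node (.leaf 115869973) (.leaf 25428214)) (.node (.leaf 162467525) (.leaf 19759104))) (.node (.node (.leaf 151494822) (.leaf 71352369)) (.node (.leaf 201426633) (.leaf 22077564)))) (.node (.node (.node (.leaf 209027120) (.leaf 116608558)) (.node (.leaf 340446558) (.leaf 21974209))) (.node (.node (.leaf 373669938) (.leaf 71452432)) (.node (.leaf 161333297) (.leaf 28147761))))) (.node (.node (.node (.node (.leaf 335183920) (.leaf 89079856)) (.node (.leaf 188424242) (.leaf 77316554))) (.node (.node (.leaf 357420518) (.leaf 57081904)) (.node (.leaf 87834674) (.leaf 54483349)))) (.node (.node (.node (.leaf 195887152) (.leaf 303104048)) (.node (.leaf 176209968) (.leaf 249487022))) (.node (.node (.leaf 55329114) (.leaf 264896560)) (.node (.leaf 269162172) (.leaf 25463142)))))) (.node (.node (.node (.node (.node (.leaf 236978224) (.leaf 283055468)) (.node (.leaf 141099057) (.leaf 25483152))) (.node (.node (.leaf 178028593) (.leaf 122127277))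 (.node (.leaf 343867440) (.leaf 249430064)))) (.node (.node (.node (.leaf 209306797) (.leaf 57106289)) (.node (.leaf 23085106) (.leaf 3358769))) (.node (.node (.leaf 59560770) (.leaf 116556394)) (.node (.leaf 119013426) (.leaf 19808304))))) (.node (.node (.node (.node (.leaf 43897212) (.leaf 93032962)) (.node (.leaf 76791857) (.leaf 10865790))) (.node (.node (.leaf 357077061) (.leaf 116588592)) (.node (.leaf 176014318) (.leaf 283083533)))) (.node (.node (.node (.leaf 204870542) (.leaf 122142768)) (.node (.leaf 195612854) (.leaf 264850481))) (.node (.node (.leaf 338335674) (.leaf 86612706)) (.node (.leaf 177473373) (.leaf 303158213)))))))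

/-- A Schreier factor, part 49. -/
def facCodePart49 : Janko1.Tree ℕ := (.node (.node (.node (.node (.node (.node (.leaf 270008368) (.leaf 267337776)) (.node (.leaf 287637552) (.leaf 86725730))) (.node (.node (.leaf 32589314) (.leaf 283099942)) (.node (.leaf 345787870) (.leaf 249577826)))) (.node (.node (.node (.leaf 132759602) (.leaf 86753484)) (.node (.leaf 261275696) (.leaf 53183560))) (.node (.node (.leaf 279068720) (.leaf 110510129)) (.node (.leaf 142938744) (.leaf 89137452))))) (.node (.node (.node (.node (.leaf 311888962) (.leaf 36585521)) (.node (.leaf 135987250) (.leaf 36671958))) (.node (.node (.leaf 36983489) (.leaf 53220589)) (.node (.leaf 215941170) (.leaf 19857456)))) (.node (.node (.node (.leaf 206979121) (.leaf 58777377)) (.node (.leaf 126173232) (.leaf 267296252))) (.node (.node (.leaf 29396938) (.leaf 86694972)) (.node (.leaf 73564210) (.leaf 301006896)))))) (.node (.node (.node (.node (.node (.leaf 6078514) (.leaf 25542704)) (.node (.leaf 105054258) (.leaf 249528368))) (.node (.node (.leaf 41617257) (.leaf 118082421)) (.node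 (.leaf 85382126) (.leaf 86704176)))) (.node (.node (.node (.leaf 109646273) (.leaf 53231628)) (.node (.leaf 45400113) (.leaf 126648369))) (.node (.node (.leaf 11919568) (.leaf 126730289)) (.node (.leaf 199495280) (.leaf 180935576))))) (.node (.node (.node (.node (.leaf 355112540) (.leaf 181001677)) (.node (.leaf 318816306) (.leaf 116998192))) (.node (.node (.leaf 182419504) (.leaf 220791870)) (.node (.leaf 209109040) (.leaf 24483564)))) (.node (.node (.node (.leaf 86556721) (.leaf 302891056)) (.node (.leaf 216596528) (.leaf 121963376))) (.node (.node (.leaf 137008701) (.leaf 247203828)) (.node (.leaf 169492528) (.leaf 121929776)))))))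

/-- A Schreier factor, part 50. -/
def facCodePart50 : Janko1.Tree ℕ := (.node (.node (.node (.node (.node (.node (.leaf 117407794) (.leaf 90314316)) (.node (.leaf 186782230) (.leaf 116986692))) (.node (.node (.leaf 230230521) (.leaf 212369928)) (.node (.leaf 159646941) (.leaf 57442352)))) (.node (.node (.node (.leaf 250192310) (.leaf 57492588)) (.node (.leaf 58294322) (.leaf 116949040))) (.node (.node (.leaf 330554325) (.leaf 121897008)) (.node (.leaf 230097416) (.leaf 90284406))))) (.node (.node (.node (.node (.leaf 149291057) (.leaf 21037104)) (.node (.leaf 202801202) (.leaf 121880776))) (.node (.node (.leaf 169187834) (.leaf 54336585)) (.node (.leaf 229628308) (.leaf 21006788)))) (.node (.node (.node (.leaf 195723312) (.leaf 284819504)) (.node (.leaf 106168369) (.leaf 225708276))) (.node (.node (.leaf 357207844) (.leaf 24517128)) (.node (.leaf 7102392) (.leaf 159402657)))))) (.node (.node (.node (.node (.node (.leaf 277598033) (.leaf 249282608)) (.node (.leaf 242376310) (.leaf 117915696))) (.node (.node (.leaf 61428901) (.leaf 300646448))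 (.node (.leaf 107020338) (.leaf 282804321)))) (.node (.node (.node (.leaf 93241372) (.leaf 25221165)) (.node (.leaf 256589872) (.leaf 53482930))) (.node (.node (.leaf 72466481) (.leaf 219108752)) (.node (.leaf 274448432) (.leaf 219189848))))) (.node (.node (.node (.node (.leaf 102062674) (.leaf 121085444)) (.node (.leaf 4167720) (.leaf 89407536))) (.node (.node (.leaf 2037533) (.leaf 179274576)) (.node (.leaf 190616614) (.leaf 53444656)))) (.node (.node (.node (.leaf 45305629) (.leaf 121046520)) (.node (.leaf 228695705) (.leaf 249270094))) (.node (.node (.leaf 118014000) (.leaf 300630064)) (.node (.leaf 174841345) (.leaf 58409008)))))))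

/-- A Schreier factor, part 51. -/
def facCodePart51 : Janko1.Tree ℕ := (.node (.node (.node (.node (.node (.node (.leaf 21191814) (.leaf 25187977)) (.node (.leaf 187501945) (.leaf 300715137))) (.node (.node (.leaf 134430770) (.leaf 25264176)) (.node (.leaf 61784112) (.leaf 267097402)))) (.node (.node (.node (.leaf 214371773) (.leaf 249253141)) (.node (.leaf 161350734) (.leaf 117902108))) (.node (.node (.leaf 218759217) (.leaf 89358384)) (.node (.leaf 191994089) (.leaf 165896589))))) (.node (.node (.node (.node (.leaf 274750300) (.leaf 165986353)) (.node (.leaf 102227429) (.leaf 53493808))) (.node (.node (.leaf 138395697) (.leaf 20168752)) (.node (.leaf 164757553) (.leaf 232439857)))) (.node (.node (.node (.leaf 3312970) (.leaf 160972849)) (.node (.leaf 103209725) (.leaf 20137252))) (.node (.node (.leaf 39370802) (.leaf 227409969)) (.node (.leaf 77419744) (.leaf 227459121)))))) (.node (.node (.node (.node (.node (.leaf 265374341) (.leaf 300679216)) (.node (.leaf 92192829) (.leaf 58448044))) (.node (.node (.leaf 117742153) (.leaf 267059248))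 (.node (.leaf 231292978) (.leaf 90652720)))) (.node (.node (.node (.leaf 189005872) (.leaf 247496752)) (.node (.leaf 361529392) (.leaf 85360688))) (.node (.node (.leaf 18503352) (.leaf 102785328)) (.node (.leaf 156581936) (.leaf 24248368))))) (.node (.node (.node (.node (.leaf 286670898) (.leaf 61325361)) (.node (.leaf 251379762) (.leaf 116719664))) (.node (.node (.leaf 26296370) (.leaf 85400685)) (.node (.leaf 123469874) (.leaf 108544049)))) (.node (.node (.node (.leaf 202784816) (.leaf 24264752)) (.node (.leaf 335085616) (.leaf 54550305))) (.node (.node (.leaf 211754898) (.leaf 303186842)) (.node (.leaf 352949853) (.leaf 285081648)))))))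

/-- A Schreier factor, part 52. -/
def facCodePart52 : Janko1.Tree ℕ := (.node (.node (.node (.node (.node (.node (.leaf 143409200) (.leaf 247530942)) (.node (.leaf 87523378) (.leaf 122191920))) (.node (.node (.leaf 284524594) (.leaf 90587184)) (.node (.leaf 248929196) (.leaf 264929328)))) (.node (.node (.node (.leaf 162676784) (.leaf 54558768)) (.node (.leaf 343819018) (.leaf 118456369))) (.node (.node (.leaf 221877108) (.leaf 118571057)) (.node (.leaf 141186290) (.leaf 38764593))))) (.node (.node (.node (.node (.leaf 167790406) (.leaf 116637744)) (.node (.leaf 201113650) (.leaf 124633137))) (.node (.node (.leaf 320031688) (.leaf 57169040)) (.node (.leaf 147226674) (.leaf 24297820)))) (.node (.node (.node (.leaf 175898672) (.leaf 44924977)) (.node (.leaf 175063090) (.leaf 116670512))) (.node (.node (.leaf 128389452) (.leaf 90627528)) (.node (.leaf 96553628) (.leaf 264945712)))))) (.node (.node (.node (.node (.node (.leaf 352651142) (.leaf 247487342)) (.node (.leaf 64323633) (.leaf 303225509))) (.node (.node (.leaf 294436912) (.leaf 2441264))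 (.node (.leaf 241208396) (.leaf 293982457)))) (.node (.node (.node (.leaf 307642416) (.leaf 241030418)) (.node (.leaf 254221490) (.leaf 102189858))) (.node (.node (.leaf 42080133) (.leaf 74717126)) (.node (.leaf 66699312) (.leaf 273973296))))) (.node (.node (.node (.node (.leaf 232218470) (.leaf 2480126)) (.node (.leaf 179061164) (.leaf 294015834))) (.node (.node (.leaf 235536434) (.leaf 241057840)) (.node (.leaf 112843972) (.leaf 74746084)))) (.node (.node (.node (.leaf 120897584) (.leaf 274006064)) (.node (.leaf 150282437) (.leaf 36732976))) (.node (.node (.leaf 167024169) (.leaf 69435440)) (.node (.leaf 193037696) (.leaf 6195854)))))))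

/-- A Schreier factor, part 53. -/
def facCodePart53 : Janko1.Tree ℕ := (.node (.node (.node (.node (.node (.node (.leaf 235552818) (.leaf 19955761)) (.node (.leaf 232201333) (.leaf 73319557))) (.node (.node (.leaf 179030622) (.leaf 69574016)) (.node (.leaf 129173085) (.leaf 69484917)))) (.node (.node (.node (.leaf 32145456) (.leaf 100859952)) (.node (.leaf 104877248) (.leaf 941154))) (.node (.node (.leaf 156876849) (.leaf 105845149)) (.node (.leaf 213209044) (.leaf 258383605))))) (.node (.node (.node (.node (.leaf 186531889) (.leaf 70751618)) (.node (.leaf 236623874) (.leaf 38076464))) (.node (.node (.leaf 272351282) (.leaf 238698544)) (.node (.leaf 97587989) (.leaf 38114892)))) (.node (.node (.node (.leaf 303384614) (.leaf 30202921)) (.node (.leaf 249774128) (.leaf 40976432))) (.node (.node (.leaf 298942512) (.leaf 73354281)) (.node (.leaf 58490928) (.leaf 79331377)))))) (.node (.node (.node (.node (.node (.leaf 90292272) (.leaf 100900486)) (.node (.leaf 166002738) (.leaf 140951601))) (.node (.node (.leaf 132743216) (.leaf 207749169)) (.node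 (.leaf 152178262) (.leaf 41207878)))) (.node (.node (.node (.leaf 12241682) (.leaf 37797936)) (.node (.leaf 46205648) (.leaf 276010910))) (.node (.node (.leaf 58703921) (.leaf 70516825)) (.node (.leaf 109527089) (.leaf 105611312))))) (.node (.node (.node (.node (.leaf 78059489) (.leaf 238487869)) (.node (.leaf 299106765) (.leaf 37773100))) (.node (.node (.leaf 78184498) (.leaf 291373104)) (.node (.leaf 368236361) (.leaf 1217680)))) (.node (.node (.node (.leaf 167067696) (.leaf 73668576)) (.node (.leaf 193740848) (.leaf 199446958))) (.node (.node (.leaf 173948976) (.leaf 133201969)) (.node (.leaf 200491056) (.leaf 41189424)))))))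

/-- A Schreier factor, part 54. -/
def facCodePart54 : Janko1.Tree ℕ := (.node (.node (.node (.node (.node (.node (.leaf 296849562) (.leaf 154536146)) (.node (.leaf 263422002) (.leaf 194248753))) (.node (.node (.leaf 78224317) (.leaf 194318224)) (.node (.leaf 81936434) (.leaf 36995120)))) (.node (.node (.node (.leaf 323542552) (.leaf 42074160)) (.node (.leaf 180502576) (.leaf 240713776))) (.node (.node (.leaf 160548016) (.leaf 2246168)) (.node (.leaf 169459762) (.leaf 42065058))))) (.node (.node (.node (.node (.leaf 138970017) (.leaf 293739421)) (.node (.leaf 33572913) (.leaf 145772384))) (.node (.node (.leaf 2474033) (.leaf 104759344)) (.node (.leaf 37949098) (.leaf 185909297)))) (.node (.node (.node (.leaf 129960442) (.leaf 185997281)) (.node (.leaf 97845297) (.leaf 69633393))) (.node (.node (.leaf 131121202) (.leaf 2216080)) (.node (.leaf 67389272) (.leaf 293702994)))))) (.node (.node (.node (.node (.node (.leaf 126763058) (.leaf 240751337)) (.node (.leaf 63619122) (.leaf 102039600))) (.node (.node (.leaf 104551112) (.leaf 74498096)) (.node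 (.leaf 6111280) (.leaf 256166862)))) (.node (.node (.node (.leaf 128827440) (.leaf 273711152)) (.node (.leaf 64634929) (.leaf 139345969))) (.node (.node (.leaf 9702782) (.leaf 206143618)) (.node (.leaf 75907121) (.leaf 6488112))))) (.node (.node (.node (.node (.leaf 344672513) (.leaf 69650430)) (.node (.leaf 154585190) (.leaf 201037300))) (.node (.node (.leaf 211403198) (.leaf 134808465)) (.node (.leaf 157663282) (.leaf 6455344)))) (.node (.node (.node (.leaf 299207680) (.leaf 2198268)) (.node (.leaf 303636157) (.leaf 240730160))) (.node (.node (.leaf 58851376) (.leaf 273678384)) (.node (.leaf 90619952) (.leaf 42008624)))))))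

/-- A Schreier factor, part 55. -/
def facCodePart55 : Janko1.Tree ℕ := (.node (.node (.node (.node (.node (.node (.leaf 377438258) (.leaf 105578888)) (.node (.leaf 157696050) (.leaf 70467632))) (.node (.node (.leaf 207979224) (.leaf 37834492)) (.node (.leaf 307888513) (.leaf 152706878)))) (.node (.node (.node (.leaf 241516592) (.leaf 192528433)) (.node (.leaf 42385865) (.leaf 1268453))) (.node (.node (.leaf 126746674) (.leaf 147390513)) (.node (.leaf 131170354) (.leaf 73634725))))) (.node (.node (.node (.node (.leaf 24174858) (.leaf 101220400)) (.node (.leaf 15401008) (.leaf 147439665))) (.node (.node (.leaf 18780644) (.leaf 291405872)) (.node (.leaf 56252860) (.leaf 238475206)))) (.node (.node (.node (.leaf 83673137) (.leaf 70434864)) (.node (.leaf 334004274) (.leaf 276234288))) (.node (.node (.leaf 194723890) (.leaf 105889840)) (.node (.leaf 141295666) (.leaf 238714928)))))) (.node (.node (.node (.node (.node (.leaf 198348133) (.leaf 291687925)) (.node (.leaf 309761276) (.leaf 3562014))) (.node (.node (.leaf 376438832) (.leaf 87146545))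 (.node (.leaf 323326564) (.leaf 100925488)))) (.node (.node (.node (.leaf 206887284) (.leaf 40911469)) (.node (.leaf 114835506) (.leaf 917552))) (.node (.node (.leaf 47235122) (.leaf 100958256)) (.node (.leaf 219119664) (.leaf 73371529))))) (.node (.node (.node (.node (.leaf 139198512) (.leaf 93225009)) (.node (.leaf 225793189) (.leaf 10919241))) (.node (.node (.leaf 145592537) (.leaf 40943664)) (.node (.leaf 138674225) (.leaf 38060080)))) (.node (.node (.node (.leaf 165036081) (.leaf 276250672)) (.node (.leaf 217808945) (.leaf 105922608))) (.node (.node (.leaf 234538318) (.leaf 291718630)) (.node (.leaf 207896625) (.leaf 7593150)))))))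

/-- A Schreier factor, part 56. -/
def facCodePart56 : Janko1.Tree ℕ := (.node (.node (.node (.node (.node (.node (.leaf 114786354) (.leaf 74678430)) (.node (.leaf 232505392) (.leaf 240975920))) (.node (.node (.leaf 212434992) (.leaf 2506800)) (.node (.leaf 133103664) (.leaf 294027312)))) (.node (.node (.node (.leaf 148176945) (.leaf 22233137)) (.node (.leaf 144869361) (.leaf 104464432))) (.node (.node (.leaf 224788529) (.leaf 36749360)) (.node (.leaf 371327026) (.leaf 28278833))))) (.node (.node (.node (.node (.leaf 334040522) (.leaf 77366118)) (.node (.leaf 198316544) (.leaf 77430833))) (.node (.node (.leaf 144441394) (.leaf 69369904)) (.node (.leaf 372180170) (.leaf 274045316)))) (.node (.node (.node (.leaf 318479816) (.leaf 42370952)) (.node (.leaf 200212649) (.leaf 102174152))) (.node (.node (.leaf 166791482) (.leaf 2539568)) (.node (.leaf 193429552) (.leaf 294043696)))))) (.node (.node (.node (.node (.node (.leaf 254451573) (.leaf 256430146)) (.node (.leaf 252297266) (.leaf 42401840))) (.node (.node (.leaf 219696057) (.leaf 102290257))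 (.node (.leaf 150180673) (.leaf 256449366)))) (.node (.node (.node (.leaf 250134576) (.leaf 7641162)) (.node (.leaf 120832981) (.leaf 126868844))) (.node (.node (.leaf 205717554) (.leaf 104546352)) (.node (.leaf 361353690) (.leaf 47057888))))) (.node (.node (.node (.node (.leaf 236388401) (.leaf 101072945)) (.node (.leaf 74874928) (.leaf 101154865))) (.node (.node (.leaf 134266929) (.leaf 100991024)) (.node (.leaf 254580689) (.leaf 69451824)))) (.node (.node (.node (.leaf 129056816) (.leaf 291804873)) (.node (.leaf 236257330) (.leaf 274105808))) (.node (.node (.leaf 104808496) (.leaf 105955376)) (.node (.leaf 208996378) (.leaf 258424880)))))))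

/-- A Schreier factor, part 57. -/
def facCodePart57 : Janko1.Tree ℕ := (.node (.node (.node (.node (.node (.node (.leaf 359174006) (.leaf 2562029)) (.node (.leaf 58572848) (.leaf 291831856))) (.node (.node (.leaf 85803057) (.leaf 74776624)) (.node (.leaf 50155381) (.leaf 241094245)))) (.node (.node (.node (.leaf 61923444) (.leaf 41043104)) (.node (.leaf 24281136) (.leaf 6279994))) (.node (.node (.leaf 15518926) (.leaf 110592049)) (.node (.leaf 109314097) (.leaf 167591985))))) (.node (.node (.node (.node (.leaf 121455250) (.leaf 101286062)) (.node (.leaf 206782512) (.leaf 69730352))) (.node (.node (.leaf 309821488) (.leaf 234263241)) (.node (.leaf 25512645) (.leaf 41310060)))) (.node (.node (.node (.leaf 223264818) (.leaf 240828464)) (.node (.leaf 352720458) (.leaf 273776688))) (.node (.node (.leaf 167133232) (.leaf 37847088)) (.node (.leaf 173965360) (.leaf 258179120)))))) (.node (.node (.node (.node (.node (.leaf 206258225) (.leaf 240800732)) (.node (.leaf 368132144) (.leaf 105676848))) (.node (.node (.leaf 163532000) (.leaf 74547913)) (.node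 (.leaf 180258418) (.leaf 273747292)))) (.node (.node (.node (.leaf 49692722) (.leaf 159465521)) (.node (.leaf 139264324) (.leaf 159517377))) (.node (.node (.leaf 145653808) (.leaf 69715996)) (.node (.leaf 243895572) (.leaf 41271344))))) (.node (.node (.node (.node (.leaf 199655473) (.leaf 181207089)) (.node (.leaf 160628784) (.leaf 104841264))) (.node (.node (.leaf 196067377) (.leaf 73714466)) (.node (.leaf 376668208) (.leaf 220889137)))) (.node (.node (.node (.leaf 170311729) (.leaf 1359920)) (.node (.leaf 45842482) (.leaf 42139696))) (.node (.node (.leaf 152572029) (.leaf 7394509)) (.node (.leaf 49676338) (.leaf 256213040)))))))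

/-- A Schreier factor, part 58. -/
def facCodePart58 : Janko1.Tree ℕ := (.node (.node (.node (.node (.node (.node (.leaf 243933449) (.leaf 102093745)) (.node (.leaf 200122445) (.leaf 7372848))) (.node (.node (.leaf 101826609) (.leaf 256180272)) (.node (.leaf 193319476) (.leaf 238520041)))) (.node (.node (.node (.leaf 33472561) (.leaf 102055984)) (.node (.leaf 318539436) (.leaf 70533168))) (.node (.node (.leaf 2366750) (.leaf 293817713)) (.node (.leaf 219795602) (.leaf 73699664))))) (.node (.node (.node (.node (.leaf 352703546) (.leaf 212590581)) (.node (.leaf 350486578) (.leaf 1327152))) (.node (.node (.leaf 127340040) (.leaf 293785336)) (.node (.leaf 98222128) (.leaf 70583858)))) (.node (.node (.node (.leaf 241304002) (.leaf 238583856)) (.node (.leaf 9633841) (.leaf 42106928))) (.node (.node (.leaf 254303378) (.leaf 7340080)) (.node (.leaf 128761904) (.leaf 232589964)))))) (.node (.node (.node (.node (.node (.leaf 127467570) (.leaf 232627958)) (.node (.leaf 50397232) (.leaf 37011504))) (.node (.node (.leaf 194789425) (.leaf 227590193)) (.node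 (.leaf 178850166) (.leaf 73728048)))) (.node (.node (.node (.leaf 15794941) (.leaf 276060421)) (.node (.leaf 24477744) (.leaf 70565936))) (.node (.node (.leaf 154175621) (.leaf 238559165)) (.node (.leaf 188111940) (.leaf 273825840))))) (.node (.node (.node (.node (.leaf 162218033) (.leaf 240762928)) (.node (.leaf 184802912) (.leaf 41353264))) (.node (.node (.leaf 181256242) (.leaf 219201585)) (.node (.leaf 6440718) (.leaf 219283505)))) (.node (.node (.node (.leaf 154141133) (.leaf 179489292)) (.node (.leaf 119160881) (.leaf 214171697))) (.node (.node (.leaf 23238113) (.leaf 174391345)) (.node (.leaf 245653936) (.leaf 174477382)))))))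

/-- A Schreier factor, part 59. -/
def facCodePart59 : Janko1.Tree ℕ := (.node (.node (.node (.node (.node (.node (.leaf 112565657) (.leaf 105627696)) (.node (.leaf 95141938) (.leaf 258146352))) (.node (.node (.leaf 98882381) (.leaf 37886157)) (.node (.leaf 160366640) (.leaf 38142000)))) (.node (.node (.node (.leaf 180307468) (.leaf 258457648)) (.node (.leaf 168206780) (.leaf 38801408))) (.node (.node (.leaf 171737138) (.leaf 101023792)) (.node (.leaf 315822074) (.leaf 118640840))))) (.node (.node (.node (.node (.leaf 140853298) (.leaf 118734897)) (.node (.leaf 317947954) (.leaf 40994613))) (.node (.node (.leaf 217628721) (.leaf 45006897)) (.node (.leaf 234291249) (.leaf 101056560)))) (.node (.node (.node (.leaf 138608689) (.leaf 124832532)) (.node (.leaf 219037744) (.leaf 38183040))) (.node (.node (.leaf 83312690) (.leaf 106004528)) (.node (.leaf 282329138) (.leaf 74809392)))))) (.node (.node (.node (.node (.node (.leaf 280018994) (.leaf 274071600)) (.node (.leaf 187138096) (.leaf 238768817))) (.node (.node (.leaf 323600432) (.leaf 70811696))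 (.node (.leaf 144769073) (.leaf 294076464)))) (.node (.node (.node (.leaf 310024360) (.leaf 276302082)) (.node (.leaf 111445272) (.leaf 55288174))) (.node (.node (.leaf 115458098) (.leaf 73383984)) (.node (.leaf 79593522) (.leaf 102826033))))) (.node (.node (.node (.node (.leaf 280042165) (.leaf 102907953)) (.node (.leaf 282302144) (.leaf 1016774))) (.node (.node (.leaf 99846729) (.leaf 61521969)) (.node (.leaf 166878921) (.leaf 104516669)))) (.node (.node (.node (.leaf 367790226) (.leaf 36833801)) (.node (.leaf 40306594) (.leaf 1048624))) (.node (.node (.leaf 145440816) (.leaf 7667760)) (.node (.leaf 317915573) (.leaf 102240473)))))))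

/-- A Schreier factor, part 60. -/
def facCodePart60 : Janko1.Tree ℕ := (.node (.node (.node (.node (.node (.node (.leaf 143999461) (.leaf 70849950)) (.node (.leaf 315850802) (.leaf 294092848))) (.node (.node (.leaf 65439684) (.leaf 258841480)) (.node (.leaf 61313904) (.leaf 37341358)))) (.node (.node (.node (.leaf 176701489) (.leaf 41670694)) (.node (.leaf 16910094) (.leaf 292454448))) (.node (.node (.leaf 153030850) (.leaf 17614892)) (.node (.leaf 341344306) (.leaf 29999154))))) (.node (.node (.node (.node (.leaf 160094254) (.leaf 53346354)) (.node (.leaf 33423408) (.leaf 23674929))) (.node (.node (.leaf 183402545) (.leaf 40419378)) (.node (.leaf 290095152) (.leaf 36148994)))) (.node (.node (.node (.leaf 210419761) (.leaf 23658545)) (.node (.leaf 276807728) (.leaf 57294898))) (.node (.node (.leaf 156352562) (.leaf 1806900)) (.node (.leaf 41372501) (.leaf 70344912)))))) (.node (.node (.node (.node (.node (.leaf 341329513) (.leaf 274710576)) (.node (.leaf 121651922) (.leaf 276813741))) (.node (.node (.leaf 113573937) (.leaf 74352601)) (.node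 (.leaf 263176240) (.leaf 7015625)))) (.node (.node (.node (.leaf 93634610) (.leaf 63635506)) (.node (.leaf 97419314) (.leaf 50462770))) (.node (.node (.leaf 307740722) (.leaf 33833009)) (.node (.leaf 65472040) (.leaf 67487642))))) (.node (.node (.node (.node (.leaf 45957169) (.leaf 40502560)) (.node (.leaf 58228785) (.leaf 184139826))) (.node (.node (.leaf 153468976) (.leaf 104366128)) (.node (.leaf 345767984) (.leaf 180682802)))) (.node (.node (.node (.leaf 90507430) (.leaf 167395378)) (.node (.leaf 159170608) (.leaf 6657645))) (.node (.node (.leaf 143086116) (.leaf 74154032)) (.node (.leaf 332611634) (.leaf 241221680)))))))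

/-- A Schreier factor, part 61. -/
def facCodePart61 : Janko1.Tree ℕ := (.node (.node (.node (.node (.node (.node (.leaf 222775678) (.leaf 276586588)) (.node (.leaf 335005526) (.leaf 1428081))) (.node (.node (.leaf 220107482) (.leaf 6619184)) (.node (.leaf 226855220) (.leaf 238895152)))) (.node (.node (.node (.leaf 216499194) (.leaf 241194536)) (.node (.leaf 233226289) (.leaf 1392688))) (.node (.node (.leaf 81805362) (.leaf 40468528)) (.node (.leaf 199401864) (.leaf 104333360))))) (.node (.node (.node (.node (.leaf 296927282) (.leaf 159154226)) (.node (.leaf 45193177) (.leaf 36241456))) (.node (.node (.leaf 233537584) (.leaf 154140722)) (.node (.leaf 226508849) (.leaf 73192305)))) (.node (.node (.node (.leaf 328171568) (.leaf 5816368)) (.node (.leaf 185942064) (.leaf 258506800))) (.node (.node (.leaf 45203506) (.leaf 105168944)) (.node (.leaf 49055672) (.leaf 292216532)))))) (.node (.node (.node (.node (.node (.leaf 146509017) (.leaf 37111054)) (.node (.leaf 37535793) (.leaf 101613616))) (.node (.node (.leaf 140002929) (.leaf 258494197)) (.node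 (.leaf 98500657) (.leaf 256480165)))) (.node (.node (.node (.leaf 70914576) (.leaf 41435908)) (.node (.leaf 350313146) (.leaf 292175920))) (.node (.node (.leaf 143051169) (.leaf 464718)) (.node (.leaf 139907414) (.leaf 132726834))))) (.node (.node (.node (.node (.leaf 222756914) (.leaf 135994852)) (.node (.leaf 219288821) (.leaf 5790628))) (.node (.node (.leaf 332645322) (.leaf 148635698)) (.node (.leaf 7290928) (.leaf 292164201)))) (.node (.node (.node (.leaf 43588100) (.leaf 256516278)) (.node (.leaf 96354353) (.leaf 101662768))) (.node (.node (.leaf 76516493) (.leaf 294486064)) (.node (.leaf 289783856) (.leaf 37083222)))))))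

/-- A Schreier factor, part 62. -/
def facCodePart62 : Janko1.Tree ℕ := (.node (.node (.node (.node (.node (.node (.leaf 41041968) (.leaf 5753324)) (.node (.leaf 35132350) (.leaf 142083382))) (.node (.node (.leaf 126910514) (.leaf 139116594)) (.node (.leaf 271040562) (.leaf 442416)))) (.node (.node (.node (.leaf 113858065) (.leaf 5718064)) (.node (.leaf 151342094) (.leaf 137642034))) (.node (.node (.leaf 121987350) (.leaf 150397053)) (.node (.leaf 263478648) (.leaf 69227621))))) (.node (.node (.node (.node (.leaf 222009210) (.leaf 412110)) (.node (.leaf 207782874) (.leaf 41410048))) (.node (.node (.leaf 211255346) (.leaf 256491568)) (.node (.leaf 377556413) (.leaf 101646384)))) (.node (.node (.node (.leaf 184060934) (.leaf 37044272)) (.node (.leaf 135205605) (.leaf 1479606))) (.node (.node (.leaf 105938992) (.leaf 70125030)) (.node (.leaf 237869620) (.leaf 274432546)))))) (.node (.node (.node (.node (.node (.leaf 211304498) (.leaf 179109938)) (.node (.leaf 207765554) (.leaf 100728880))) (.node (.node (.leaf 73834597) (.leaf 165625906)) (.node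 (.leaf 380441102) (.leaf 169017394)))) (.node (.node (.node (.leaf 184113474) (.leaf 104300592)) (.node (.leaf 377523054) (.leaf 40518338))) (.node (.node (.leaf 51713434) (.leaf 174178354)) (.node (.leaf 25235153) (.leaf 36276566))))) (.node (.node (.node (.node (.leaf 84350704) (.leaf 164027093)) (.node (.leaf 57333024) (.leaf 276601140))) (.node (.node (.leaf 49021162) (.leaf 70109768)) (.node (.leaf 35160114) (.leaf 241143112)))) (.node (.node (.node (.leaf 126894130) (.leaf 238846000)) (.node (.leaf 271007794) (.leaf 74088646))) (.node (.node (.leaf 213237808) (.leaf 6979632)) (.node (.leaf 233242672) (.leaf 239124528)))))))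

/-- A Schreier factor, part 63. -/
def facCodePart63 : Janko1.Tree ℕ := (.node (.node (.node (.node (.node (.node (.leaf 26876849) (.leaf 74383408)) (.node (.leaf 327866604) (.leaf 70372773))) (.node (.node (.leaf 341524528) (.leaf 276774960)) (.node (.leaf 124064200) (.leaf 1761690)))) (.node (.node (.node (.leaf 194576434) (.leaf 7782449)) (.node (.leaf 198169470) (.leaf 59285469))) (.node (.node (.leaf 205799472) (.leaf 54804530)) (.node (.leaf 371463438) (.leaf 38846565))))) (.node (.node (.node (.node (.leaf 171065394) (.leaf 7815217)) (.node (.leaf 164677129) (.leaf 14815902))) (.node (.node (.leaf 181469233) (.leaf 65536050)) (.node (.leaf 191742001) (.leaf 65142834)))) (.node (.node (.node (.leaf 208486449) (.leaf 45105202)) (.node (.leaf 355090480) (.leaf 14827569))) (.node (.node (.leaf 18616930) (.leaf 274695384)) (.node (.leaf 172867632) (.leaf 239157296)))))) (.node (.node (.node (.node (.node (.leaf 264437810) (.leaf 241520128)) (.node (.leaf 110936114) (.leaf 276791344))) (.node (.node (.leaf 174790074) (.leaf 294748208)) (.node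 (.leaf 171589681) (.leaf 101957680)))) (.node (.node (.node (.leaf 134217776) (.leaf 258768944)) (.node (.leaf 201840896) (.leaf 256688176))) (.node (.node (.leaf 198656049) (.leaf 41680944)) (.node (.leaf 346014029) (.leaf 292487216))))) (.node (.node (.node (.node (.leaf 179437616) (.leaf 22118450)) (.node (.leaf 14172210) (.leaf 65584))) (.node (.node (.leaf 159536720) (.leaf 7853660)) (.node (.leaf 18581336) (.leaf 3276850)))) (.node (.node (.node (.leaf 110952498) (.leaf 8339506)) (.node (.leaf 262247021) (.leaf 2774353))) (.node (.node (.leaf 114956262) (.leaf 5357616)) (.node (.leaf 35341018) (.leaf 98340)))))))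

/-- A Schreier factor, part 64. -/
def facCodePart64 : Janko1.Tree ℕ := (.node (.node (.node (.node (.node (.node (.leaf 219910037) (.leaf 14884714)) (.node (.leaf 4423729) (.leaf 10715186))) (.node (.node (.leaf 337119832) (.leaf 15335474)) (.node (.leaf 132189449) (.leaf 10207282)))) (.node (.node (.node (.leaf 332513328) (.leaf 5390384)) (.node (.leaf 103957600) (.leaf 32014386))) (.node (.node (.leaf 198098994) (.leaf 294783553)) (.node (.leaf 199135568) (.leaf 37373261))))) (.node (.node (.node (.node (.leaf 192257266) (.leaf 258801712)) (.node (.leaf 371425330) (.leaf 256723669))) (.node (.node (.leaf 170999858) (.leaf 105431134)) (.node (.leaf 167477298) (.leaf 292525553)))) (.node (.node (.node (.leaf 258703408) (.leaf 41697328)) (.node (.leaf 276643888) (.leaf 274743344))) (.node (.node (.leaf 272261550) (.leaf 256793670)) (.node (.leaf 289851810) (.leaf 74466806)))))) (.node (.node (.node (.node (.node (.leaf 28761345) (.leaf 70425378)) (.node (.leaf 6897713) (.leaf 276840496))) (.node (.node (.leaf 209125426) (.leaf 256819248)) (.node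 (.leaf 325681202) (.leaf 105562160)))) (.node (.node (.node (.leaf 49266736) (.leaf 102023216)) (.node (.leaf 179716146) (.leaf 258932784))) (.node (.node (.leaf 236077106) (.leaf 276873264)) (.node (.leaf 89366893) (.leaf 1835056))))) (.node (.node (.node (.node (.leaf 209147089) (.leaf 20005894)) (.node (.leaf 361480242) (.leaf 53250164))) (.node (.node (.leaf 325697586) (.leaf 23625778)) (.node (.leaf 155746354) (.leaf 196656)))) (.node (.node (.node (.leaf 205868678) (.leaf 5619762)) (.node (.leaf 359350322) (.leaf 40338440))) (.node (.node (.leaf 183091250) (.leaf 368834)) (.node (.leaf 97337392) (.leaf 36094002)))))))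

/-- A Schreier factor, part 65. -/
def facCodePart65 : Janko1.Tree ℕ := (.node (.node (.node (.node (.node (.node (.leaf 41255153) (.leaf 19185714)) (.node (.leaf 232643310) (.leaf 5493026))) (.node (.node (.leaf 179683378) (.leaf 24363058)) (.node (.leaf 73928213) (.leaf 57196594)))) (.node (.node (.node (.leaf 267734045) (.leaf 30214993)) (.node (.leaf 113786929) (.leaf 63553586))) (.node (.node (.leaf 82247729) (.leaf 33751090)) (.node (.leaf 86310961) (.leaf 13140018))))) (.node (.node (.node (.node (.leaf 281116782) (.leaf 46843566)) (.node (.leaf 121734402) (.leaf 17547314))) (.node (.node (.leaf 16193636) (.leaf 50823218)) (.node (.leaf 25149488) (.leaf 46497842)))) (.node (.node (.node (.leaf 53772337) (.leaf 34492004)) (.node (.leaf 16597040) (.leaf 67371058))) (.node (.node (.leaf 350590489) (.leaf 5872862)) (.node (.leaf 314560404) (.leaf 143769650)))))) (.node (.node (.node (.node (.node (.leaf 139186613) (.leaf 170836261)) (.node (.leaf 195919922) (.leaf 156893234))) (.node (.node (.leaf 142262322) (.leaf 73302064)) (.node (.leaf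 159121456) (.leaf 100843568)))) (.node (.node (.node (.leaf 219615953) (.leaf 69338974)) (.node (.leaf 166527026) (.leaf 154058802))) (.node (.node (.leaf 223133746) (.leaf 167346226)) (.node (.leaf 170024834) (.leaf 36339760))))) (.node (.node (.node (.node (.leaf 205915909) (.leaf 524336)) (.node (.leaf 332693552) (.leaf 40550448))) (.node (.node (.leaf 216733976) (.leaf 5851181)) (.node (.leaf 189874377) (.leaf 136140605)))) (.node (.node (.node (.leaf 350654341) (.leaf 162333217)) (.node (.leaf 233406513) (.leaf 175734834))) (.node (.node (.leaf 355172400) (.leaf 73269296)) (.node (.leaf 220168732) (.leaf 100817036)))))))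

/-- A Schreier factor, part 66. -/
def facCodePart66 : Janko1.Tree ℕ := (.node (.node (.node (.node (.node (.node (.leaf 136650638) (.leaf 69310550)) (.node (.leaf 140247088) (.leaf 172441650))) (.node (.node (.leaf 226967900) (.leaf 133005362)) (.node (.leaf 179503153) (.leaf 36329084)))) (.node (.node (.node (.leaf 146702384) (.leaf 507952)) (.node (.leaf 226721841) (.leaf 276660272))) (.node (.node (.leaf 359649544) (.leaf 1540144)) (.node (.leaf 328091773) (.leaf 101730937))))) (.node (.node (.node (.node (.leaf 196689969) (.leaf 258572336)) (.node (.leaf 346062896) (.leaf 241270832))) (.node (.node (.leaf 142656846) (.leaf 6800748)) (.node (.leaf 316784690) (.leaf 37195054)))) (.node (.node (.node (.leaf 192528869) (.leaf 101695536)) (.node (.leaf 350604500) (.leaf 70193348))) (.node (.node (.leaf 139217293) (.leaf 241254448)) (.node (.leaf 172589104) (.leaf 256540720)))))) (.node (.node (.node (.node (.node (.leaf 219630598) (.leaf 6774282)) (.node (.leaf 166565932) (.leaf 292279596))) (.node (.node (.leaf 192299056) (.leaf 274497584))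 (.node (.leaf 98992690) (.leaf 41488610)))) (.node (.node (.node (.leaf 290948130) (.leaf 6740113)) (.node (.leaf 34331460) (.leaf 274464816))) (.node (.node (.leaf 95322162) (.leaf 256580577)) (.node (.leaf 253267224) (.leaf 105252560))))) (.node (.node (.node (.node (.leaf 30070634) (.leaf 74237652)) (.node (.leaf 40982682) (.leaf 101799017))) (.node (.node (.leaf 68080058) (.leaf 258638686)) (.node (.leaf 73596976) (.leaf 241319984)))) (.node (.node (.node (.leaf 127321932) (.leaf 276635385)) (.node (.leaf 64259788) (.leaf 37158960))) (.node (.node (.leaf 263389232) (.leaf 41468669)) (.node (.leaf 232051457) (.leaf 6701104)))))))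

/-- A Schreier factor, part 67. -/
def facCodePart67 : Janko1.Tree ℕ := (.node (.node (.node (.node (.node (.node (.leaf 205523338) (.leaf 292248877)) (.node (.leaf 222216241) (.leaf 238944613))) (.node (.node (.leaf 195270524) (.leaf 105224570)) (.node (.leaf 285622320) (.leaf 74205113)))) (.node (.node (.node (.leaf 113941544) (.leaf 101764122)) (.node (.leaf 178117377) (.leaf 258612829))) (.node (.node (.leaf 16810032) (.leaf 241291240)) (.node (.leaf 122063617) (.leaf 294543477))))) (.node (.node (.node (.node (.leaf 168189030) (.leaf 37126405)) (.node (.leaf 25460784) (.leaf 1490992))) (.node (.node (.leaf 272515120) (.leaf 152354866)) (.node (.leaf 215334961) (.leaf 179028018)))) (.node (.node (.node (.leaf 259003597) (.leaf 100780154)) (.node (.leaf 276922416) (.leaf 165576754))) (.node (.node (.leaf 130269232) (.leaf 142006688)) (.node (.leaf 33325104) (.leaf 73255333)))))) (.node (.node (.node (.node (.node (.leaf 106025218) (.leaf 40606437)) (.node (.leaf 158173381) (.leaf 5898334))) (.node (.node (.leaf 99041530) (.leaf 100761648))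 (.node (.leaf 57229560) (.leaf 137596857)))) (.node (.node (.node (.leaf 127291885) (.leaf 163938354)) (.node (.leaf 64225330) (.leaf 104398896))) (.node (.node (.leaf 131612722) (.leaf 5881904)) (.node (.leaf 68132438) (.leaf 150621133))))) (.node (.node (.node (.node (.leaf 327831449) (.leaf 2654258)) (.node (.leaf 112117252) (.leaf 5423152))) (.node (.node (.leaf 80609329) (.leaf 8601650)) (.node (.leaf 345866288) (.leaf 42909746)))) (.node (.node (.node (.leaf 213336112) (.leaf 25775770)) (.node (.leaf 133857766) (.leaf 55100945))) (.node (.node (.leaf 26943129) (.leaf 38787152)) (.node (.leaf 60145713) (.leaf 7768584)))))))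

/-- A Schreier factor, part 68. -/
def facCodePart68 : Janko1.Tree ℕ := (.node (.node (.node (.node (.node (.node (.leaf 153403440) (.leaf 131120)) (.node (.leaf 83483093) (.leaf 10114534))) (.node (.node (.leaf 282499888) (.leaf 5460829)) (.node (.leaf 246874162) (.leaf 15597618)))) (.node (.node (.node (.leaf 79691826) (.leaf 31936480)) (.node (.leaf 13320242) (.leaf 60936293))) (.node (.node (.leaf 52003265) (.leaf 28131378)) (.node (.leaf 192517774) (.leaf 61259826))))) (.node (.node (.node (.node (.leaf 47841330) (.leaf 14778418)) (.node (.leaf 199475248) (.leaf 164297))) (.node (.node (.leaf 79724594) (.leaf 294846512)) (.node (.leaf 280207640) (.leaf 276906032)))) (.node (.node (.node (.leaf 13355672) (.leaf 1851440)) (.node (.leaf 246812016) (.leaf 258888068))) (.node (.node (.leaf 111317602) (.leaf 239191305)) (.node (.leaf 47859070) (.leaf 105480240)))))) (.node (.node (.node (.node (.node (.leaf 51970098) (.leaf 292569136)) (.node (.leaf 186007600) (.leaf 274792496))) (.node (.node (.leaf 132647441) (.leaf 276924989)) (.node (.leaf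 100307361) (.leaf 37424466)))) (.node (.node (.node (.leaf 354895234) (.leaf 1884208)) (.node (.leaf 350371888) (.leaf 241549360))) (.node (.node (.leaf 226607152) (.leaf 256753712)) (.node (.leaf 68206641) (.leaf 105513008))))) (.node (.node (.node (.node (.leaf 146446557) (.leaf 74434665)) (.node (.leaf 39501873) (.leaf 292601904))) (.node (.node (.leaf 12343213) (.leaf 47694369)) (.node (.leaf 110018608) (.leaf 19071026)))) (.node (.node (.node (.leaf 199934001) (.leaf 35848242)) (.node (.leaf 77504106) (.leaf 13981865))) (.node (.node (.leaf 45237562) (.leaf 279431076)) (.node (.leaf 186342998) (.leaf 252985641)))))))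

/-- A Schreier factor, part 69. -/
def facCodePart69 : Janko1.Tree ℕ := (.node (.node (.node (.node (.node (.node (.leaf 133349426) (.leaf 95951032)) (.node (.leaf 330121266) (.leaf 253058996))) (.node (.node (.leaf 159207356) (.leaf 13926449)) (.node (.leaf 29589552) (.leaf 282968113)))) (.node (.node (.node (.leaf 126246674) (.leaf 20681638)) (.node (.leaf 180469809) (.leaf 238623952))) (.node (.node (.leaf 153681969) (.leaf 70287409)) (.node (.leaf 274537052) (.leaf 20725914))))) (.node (.node (.node (.node (.leaf 93306928) (.leaf 54673458)) (.node (.leaf 61685808) (.leaf 24908344))) (.node (.node (.leaf 136468265) (.leaf 37994546)) (.node (.leaf 363610162) (.leaf 7422002)))) (.node (.node (.node (.leaf 89636913) (.leaf 31360844)) (.node (.leaf 121198000) (.leaf 68344606))) (.node (.node (.leaf 283168824) (.leaf 52478002)) (.node (.leaf 265291681) (.leaf 14032700)))))) (.node (.node (.node (.node (.node (.leaf 46088241) (.leaf 30793589)) (.node (.leaf 11886184) (.leaf 68966480))) (.node (.node (.leaf 74192618) (.leaf 288325681)) (.node (.leaf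 77240298) (.leaf 80085041)))) (.node (.node (.node (.leaf 44981898) (.leaf 244138033)) (.node (.leaf 104483745) (.leaf 244219953))) (.node (.node (.leaf 137219502) (.leaf 141066289)) (.node (.leaf 82034737) (.leaf 323846193))))) (.node (.node (.node (.node (.leaf 113352952) (.leaf 207946820)) (.node (.leaf 54663390) (.leaf 207851808))) (.node (.node (.leaf 21200945) (.leaf 323929866)) (.node (.leaf 188832904) (.leaf 168215177)))) (.node (.node (.node (.leaf 199966770) (.leaf 158646322)) (.node (.leaf 146178098) (.leaf 181698610))) (.node (.node (.leaf 374734898) (.leaf 158023730)) (.node (.leaf 225692268) (.leaf 168860614)))))))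

/-- A Schreier factor, part 70. -/
def facCodePart70 : Janko1.Tree ℕ := (.node (.node (.node (.node (.node (.node (.leaf 172888704) (.leaf 144425972)) (.node (.leaf 209704214) (.leaf 133513266))) (.node (.node (.leaf 150290480) (.leaf 177061938)) (.node (.leaf 352739616) (.leaf 176687818)))) (.node (.node (.node (.leaf 335023913) (.leaf 146625797)) (.node (.leaf 86134921) (.leaf 133289513))) (.node (.node (.leaf 20647482) (.leaf 345071042)) (.node (.leaf 53641266) (.leaf 318013489))))) (.node (.node (.node (.node (.leaf 303667313) (.leaf 344981553)) (.node (.leaf 192863037) (.leaf 359745150))) (.node (.node (.leaf 137494576) (.leaf 194379825)) (.node (.leaf 361594928) (.leaf 314884145)))) (.node (.node (.node (.leaf 343719984) (.leaf 194347057)) (.node (.leaf 176903192) (.leaf 154568616))) (.node (.node (.leaf 90013746) (.leaf 155582514)) (.node (.leaf 162627784) (.leaf 141743662)))))) (.node (.node (.node (.node (.node (.leaf 265650226) (.leaf 185417778)) (.node (.leaf 229982256) (.leaf 149471282))) (.node (.node (.leaf 352452656) (.leaf 173277234))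 (.node (.leaf 202281516) (.leaf 354172977)))) (.node (.node (.node (.leaf 149487666) (.leaf 309149745)) (.node (.leaf 102105136) (.leaf 143492225))) (.node (.node (.leaf 99553685) (.leaf 156746021)) (.node (.leaf 131727409) (.leaf 179961906))))) (.node (.node (.node (.node (.leaf 39863074) (.leaf 156456285)) (.node (.leaf 4669489) (.leaf 180420658))) (.node (.node (.leaf 36622021) (.leaf 349623502)) (.node (.leaf 76054578) (.leaf 322603588)))) (.node (.node (.node (.leaf 9031188) (.leaf 206230797)) (.node (.leaf 293208114) (.leaf 206192689))) (.node (.node (.leaf 257605682) (.leaf 322715697)) (.node (.leaf 106485249) (.leaf 349657450)))))))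

/-- A Schreier factor, part 71. -/
def facCodePart71 : Janko1.Tree ℕ := (.node (.node (.node (.node (.node (.node (.leaf 198397454) (.leaf 134859136)) (.node (.leaf 21369157) (.leaf 319118070))) (.node (.node (.leaf 278855728) (.leaf 201211953)) (.node (.leaf 261177392) (.leaf 319081949)))) (.node (.node (.node (.leaf 191217714) (.leaf 135053362)) (.node (.leaf 364615025) (.leaf 135823410))) (.node (.node (.leaf 208263621) (.leaf 153829426)) (.node (.leaf 234642228) (.leaf 183173936))))) (.node (.node (.node (.node (.leaf 287719472) (.leaf 170442802)) (.node (.leaf 138762693) (.leaf 183943218))) (.node (.node (.leaf 187973682) (.leaf 358613041)) (.node (.leaf 213860402) (.leaf 313627581)))) (.node (.node (.node (.leaf 331431986) (.leaf 358711345)) (.node (.leaf 21119024) (.leaf 355336241))) (.node (.node (.leaf 117835389) (.leaf 147491506)) (.node (.leaf 111001649) (.leaf 310280241)))))) (.node (.node (.node (.node (.node (.leaf 60538929) (.leaf 310231089)) (.node (.leaf 278577200) (.leaf 147571850))) (.node (.node (.leaf 260838345) (.leaf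 355238050)) (.node (.leaf 72079693) (.leaf 138403744)))) (.node (.node (.node (.leaf 3997746) (.leaf 161988658)) (.node (.leaf 295485805) (.leaf 138756146))) (.node (.node (.leaf 259801138) (.leaf 161562674)) (.node (.leaf 38866625) (.leaf 151994418))))) (.node (.node (.node (.node (.leaf 88080433) (.leaf 4341810)) (.node (.leaf 236765232) (.leaf 23052338))) (.node (.node (.leaf 18923569) (.leaf 43688281)) (.node (.leaf 205098549) (.leaf 4325564)))) (.node (.node (.node (.leaf 151264118) (.leaf 275136561)) (.node (.leaf 208853610) (.leaf 248430641))) (.node (.node (.leaf 182386736) (.leaf 87869393)) (.node (.leaf 177717298) (.leaf 248381489)))))))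

/-- A Schreier factor, part 72. -/
def facCodePart72 : Janko1.Tree ℕ := (.node (.node (.node (.node (.node (.node (.leaf 373604402) (.leaf 275087409)) (.node (.leaf 143638576) (.leaf 11703429))) (.node (.node (.leaf 223936560) (.leaf 278287957)) (.node (.leaf 187964774) (.leaf 251857345)))) (.node (.node (.node (.leaf 158302257) (.leaf 251904049)) (.node (.leaf 357236784) (.leaf 278347825))) (.node (.node (.leaf 195796062) (.leaf 45793330)) (.node (.leaf 26820658) (.leaf 62314329))))) (.node (.node (.node (.node (.leaf 302532662) (.leaf 32882738)) (.node (.leaf 266846258) (.leaf 62767154))) (.node (.node (.leaf 59775013) (.leaf 16319850)) (.node (.leaf 237145820) (.leaf 26778822)))) (.node (.node (.node (.leaf 204800049) (.leaf 9374157)) (.node (.leaf 348179104) (.leaf 56017040))) (.node (.node (.leaf 330416176) (.leaf 27451621)) (.node (.leaf 209174576) (.leaf 283885617)))))) (.node (.node (.node (.node (.node (.leaf 22888498) (.leaf 239747121)) (.node (.leaf 118784050) (.leaf 22986801))) (.node (.node (.leaf 55541810) (.leaf 283803697)) (.node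 (.leaf 143343664) (.leaf 78069809)))) (.node (.node (.node (.leaf 356932138) (.leaf 243124526)) (.node (.leaf 339122944) (.leaf 78011754))) (.node (.node (.leaf 64995377) (.leaf 28870332)) (.node (.leaf 31227953) (.leaf 287146033))))) (.node (.node (.node (.node (.leaf 201644969) (.leaf 29478901)) (.node (.leaf 147757645) (.leaf 66357725))) (.node (.node (.leaf 195466093) (.leaf 49823794)) (.node (.leaf 169082928) (.leaf 12111528)))) (.node (.node (.node (.leaf 340525493) (.leaf 67026994)) (.node (.leaf 347897906) (.leaf 13961501))) (.node (.node (.leaf 188792882) (.leaf 47611954)) (.node (.leaf 45176877) (.leaf 31285021)))))))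

/-- A Schreier factor, part 73. -/
def facCodePart73 : Janko1.Tree ℕ := (.node (.node (.node (.node (.node (.node (.leaf 212914436) (.leaf 14664346)) (.node (.leaf 143573041) (.leaf 47630730))) (.node (.node (.leaf 278929016) (.leaf 47710824)) (.node (.leaf 265509925) (.leaf 127598786)))) (.node (.node (.node (.leaf 173817905) (.leaf 127680561)) (.node (.leaf 226378053) (.leaf 297386033))) (.node (.node (.leaf 345703632) (.leaf 300747906)) (.node (.leaf 185598002) (.leaf 300826673))))) (.node (.node (.node (.node (.leaf 136134706) (.leaf 256253078)) (.node (.leaf 311973290) (.leaf 256332972))) (.node (.node (.leaf 69681200) (.leaf 54117181)) (.node (.leaf 153894957) (.leaf 21299250)))) (.node (.node (.node (.leaf 287785404) (.leaf 54599978)) (.node (.leaf 256695865) (.leaf 2327862))) (.node (.node (.leaf 206311706) (.leaf 37444024)) (.node (.leaf 216321232) (.leaf 20695704)))))) (.node (.node (.node (.node (.node (.leaf 2457648) (.leaf 54050866)) (.node (.leaf 69372618) (.leaf 51907201))) (.node (.node (.leaf 85213232) (.leaf 52363314)) (.node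 (.leaf 44859440) (.leaf 35979610)))) (.node (.node (.node (.leaf 37061840) (.leaf 68781585)) (.node (.leaf 265207856) (.leaf 64340017))) (.node (.node (.leaf 121274417) (.leaf 261588765)) (.node (.leaf 357318706) (.leaf 167756326))))) (.node (.node (.node (.node (.leaf 202571826) (.leaf 167862312)) (.node (.leaf 318886592) (.leaf 234409940))) (.node (.node (.leaf 208952642) (.leaf 368495762)) (.node (.leaf 21381169) (.leaf 141320409)))) (.node (.node (.node (.leaf 347914288) (.leaf 168132658)) (.node (.leaf 343392304) (.leaf 155058226))) (.node (.node (.leaf 85955098) (.leaf 182065616)) (.node (.leaf 20299826) (.leaf 137466577)))))))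

/-- A Schreier factor, part 74. -/
def facCodePart74 : Janko1.Tree ℕ := (.node (.node (.node (.node (.node (.node (.leaf 247990597) (.leaf 163793694)) (.node (.leaf 195858718) (.leaf 176570418))) (.node (.node (.leaf 58032178) (.leaf 163020850)) (.node (.leaf 334923256) (.leaf 362961812)))) (.node (.node (.node (.leaf 134070305) (.leaf 336379953)) (.node (.leaf 236224561) (.leaf 226017329))) (.node (.node (.leaf 143556656) (.leaf 226099249)) (.node (.leaf 186105905) (.leaf 159685085))))) (.node (.node (.node (.node (.leaf 250282034) (.leaf 181325981)) (.node (.leaf 121618482) (.leaf 332863473))) (.node (.node (.leaf 209241936) (.leaf 332941068)) (.node (.leaf 166744862) (.leaf 184828016)))) (.node (.node (.node (.leaf 149995569) (.leaf 144542832)) (.node (.leaf 216926529) (.leaf 158833985))) (.node (.node (.leaf 202866737) (.leaf 185286706)) (.node (.leaf 199245874) (.leaf 173867018)))))) (.node (.node (.node (.node (.node (.leaf 149014354) (.leaf 134172266)) (.node (.leaf 321306674) (.leaf 160419274))) (.node (.node (.leaf 175757844) (.leaf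 133793025)) (.node (.leaf 195533104) (.leaf 173212762)))) (.node (.node (.node (.leaf 334659632) (.leaf 327032821)) (.node (.leaf 230048434) (.leaf 212647985))) (.node (.node (.leaf 125616177) (.leaf 172933169)) (.node (.leaf 143261744) (.leaf 173031473))))) (.node (.node (.node (.node (.leaf 242434098) (.leaf 179879986)) (.node (.leaf 36536368) (.leaf 153719156))) (.node (.node (.leaf 269897390) (.leaf 232685617)) (.node (.leaf 71876657) (.leaf 340738097)))) (.node (.node (.node (.leaf 131898205) (.leaf 367312945)) (.node (.leaf 29261872) (.leaf 367427633))) (.node (.node (.leaf 137740338) (.leaf 363970609)) (.node (.leaf 187244081) (.leaf 337531994)))))))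

/-- A Schreier factor, part 75. -/
def facCodePart75 : Janko1.Tree ℕ := (.node (.node (.node (.node (.node (.node (.leaf 217792562) (.leaf 227693942)) (.node (.leaf 161128514) (.leaf 161142102))) (.node (.node (.leaf 261083297) (.leaf 138908970)) (.node (.leaf 148504625) (.leaf 151898889)))) (.node (.node (.node (.leaf 283426864) (.leaf 178585650)) (.node (.leaf 224970841) (.leaf 151509622))) (.node (.node (.leaf 12255280) (.leaf 178263453)) (.node (.leaf 201408561) (.leaf 164766117))))) (.node (.node (.node (.node (.leaf 134660146) (.leaf 156422729)) (.node (.leaf 310827008) (.leaf 183107634))) (.node (.node (.leaf 349032324) (.leaf 143020686)) (.node (.leaf 190398514) (.leaf 169885746)))) (.node (.node (.node (.leaf 93438366) (.leaf 170365074)) (.node (.leaf 164462642) (.leaf 183910450))) (.node (.node (.leaf 138903601) (.leaf 219349041)) (.node (.leaf 274595888) (.leaf 219431004)))))) (.node (.node (.node (.node (.node (.leaf 234706933) (.leaf 331815448)) (.node (.leaf 102385488) (.leaf 375915930))) (.node (.node (.leaf 240145254) (.leaf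 328308186)) (.node (.leaf 43354332) (.leaf 214384689)))) (.node (.node (.node (.leaf 77283376) (.leaf 174637105)) (.node (.leaf 27247308) (.leaf 148505873))) (.node (.node (.leaf 47972401) (.leaf 161890354)) (.node (.leaf 111118964) (.leaf 147787249))))) (.node (.node (.node (.node (.leaf 11979682) (.leaf 174833714)) (.node (.leaf 150881753) (.leaf 9981274))) (.node (.node (.leaf 322423268) (.leaf 44318770)) (.node (.leaf 200867890) (.leaf 60702770)))) (.node (.node (.node (.leaf 188907568) (.leaf 60244018)) (.node (.leaf 56595941) (.leaf 292970156))) (.node (.node (.leaf 137137589) (.leaf 119488561)) (.node (.leaf 236863536) (.leaf 39455858)))))))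

/-- A Schreier factor, part 76. -/
def facCodePart76 : Janko1.Tree ℕ := (.node (.node (.node (.node (.node (.node (.leaf 284482394) (.leaf 45733188)) (.node (.leaf 87294002) (.leaf 45815088))) (.node (.node (.leaf 169345072) (.leaf 269615153)) (.node (.leaf 55902258) (.leaf 269700512)))) (.node (.node (.node (.leaf 158490200) (.leaf 11673468)) (.node (.leaf 352796720) (.leaf 45711410))) (.node (.node (.leaf 339247152) (.leaf 29003185)) (.node (.leaf 161759281) (.leaf 62226482))))) (.node (.node (.node (.node (.leaf 223985712) (.leaf 29425714)) (.node (.leaf 211242422) (.leaf 62685994))) (.node (.node (.leaf 214466609) (.leaf 12304434)) (.node (.leaf 286607094) (.leaf 23561578)))) (.node (.node (.node (.leaf 91329933) (.leaf 56643858)) (.node (.leaf 22482694) (.leaf 5046322))) (.node (.node (.leaf 249007034) (.leaf 40045286)) (.node (.leaf 182566960) (.leaf 4538418)))))) (.node (.node (.node (.node (.node (.leaf 119603250) (.leaf 22970418)) (.node (.leaf 141692134) (.leaf 301946882))) (.node (.node (.leaf 330334256) (.leaf 257261617)) (.node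 (.leaf 237210556) (.leaf 103465009)))) (.node (.node (.node (.leaf 231170130) (.leaf 55937392)) (.node (.leaf 320113937) (.leaf 62211217))) (.node (.node (.leaf 358391942) (.leaf 109336580)) (.node (.leaf 204293493) (.leaf 109420185))))) (.node (.node (.node (.node (.leaf 228147250) (.leaf 260472881)) (.node (.leaf 202360689) (.leaf 260561766))) (.node (.node (.leaf 178101669) (.leaf 305250353)) (.node (.leaf 31457329) (.leaf 16499096)))) (.node (.node (.node (.leaf 352501808) (.leaf 49744353)) (.node (.leaf 223658032) (.leaf 33672086))) (.node (.node (.leaf 365874468) (.leaf 279417380)) (.node (.leaf 162267186) (.leaf 282460210)))))))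

/-- A Schreier factor, part 77. -/
def facCodePart77 : Janko1.Tree ℕ := (.node (.node (.node (.node (.node (.node (.leaf 327647282) (.leaf 306348082)) (.node (.leaf 136626226) (.leaf 306790450))) (.node (.node (.leaf 116981808) (.leaf 281662330)) (.node (.leaf 223858465) (.leaf 282492977)))) (.node (.node (.node (.leaf 296992816) (.leaf 19087409)) (.node (.leaf 363724989) (.leaf 25580138))) (.node (.node (.leaf 159088690) (.leaf 285573169)) (.node (.leaf 215523129) (.leaf 241654324))))) (.node (.node (.node (.node (.leaf 330022962) (.leaf 74891313)) (.node (.leaf 101353305) (.leaf 25596612))) (.node (.node (.leaf 233619505) (.leaf 283459634)) (.node (.leaf 305872944) (.leaf 284835890)))) (.node (.node (.node (.leaf 239243725) (.leaf 294215134)) (.node (.leaf 94640282) (.leaf 294651914))) (.node (.node (.leaf 37930088) (.leaf 285556786)) (.node (.leaf 104598537) (.leaf 306906942)))))) (.node (.node (.node (.node (.node (.leaf 258530930) (.leaf 308223874)) (.node (.leaf 292257842) (.leaf 281837618))) (.node (.node (.leaf 36634674) (.leaf 279986570))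 (.node (.leaf 116703280) (.leaf 279543858)))) (.node (.node (.node (.leaf 10911792) (.leaf 306191664)) (.node (.leaf 296749190) (.leaf 84623409))) (.node (.node (.leaf 24821809) (.leaf 84639793)) (.node (.leaf 54263856) (.leaf 246956081))))) (.node (.node (.node (.node (.leaf 45482033) (.leaf 36061233)) (.node (.leaf 225871590) (.leaf 211943473))) (.node (.node (.leaf 337199154) (.leaf 326762545)) (.node (.leaf 199835698) (.leaf 144834609)))) (.node (.node (.node (.leaf 235683888) (.leaf 353649300)) (.node (.leaf 325746736) (.leaf 380698674))) (.node (.node (.leaf 82412900) (.leaf 377391530)) (.node (.leaf 189890608) (.leaf 379895858)))))))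

/-- A Schreier factor, part 78. -/
def facCodePart78 : Janko1.Tree ℕ := (.node (.node (.node (.node (.node (.node (.leaf 16531505) (.leaf 351715378)) (.node (.leaf 116890772) (.leaf 363266293))) (.node (.node (.leaf 265492140) (.leaf 366100530)) (.node (.leaf 303815050) (.leaf 357240969)))) (.node (.node (.node (.leaf 222789680) (.leaf 354910513)) (.node (.leaf 148947581) (.leaf 363925718))) (.node (.node (.leaf 316850224) (.leaf 348045361)) (.node (.leaf 374865968) (.leaf 320978993))))) (.node (.node (.node (.node (.leaf 170426416) (.leaf 203587633)) (.node (.leaf 203784240) (.leaf 137188025))) (.node (.node (.leaf 121000228) (.leaf 158534054)) (.node (.leaf 301522828) (.leaf 317587505)))) (.node (.node (.node (.leaf 53461042) (.leaf 198626868)) (.node (.leaf 89817138) (.leaf 198648248))) (.node (.node (.leaf 235962416) (.leaf 317554737)) (.node (.leaf 20791346) (.leaf 158564401)))))) (.node (.node (.node (.node (.node (.leaf 325992496) (.leaf 377864242)) (.node (.leaf 366166622) (.leaf 351585904))) (.node (.node (.leaf 372670514) (.leaf 355024946))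 (.node (.leaf 229277746) (.leaf 365559858)))) (.node (.node (.node (.leaf 339296306) (.leaf 363823154)) (.node (.leaf 146249101) (.leaf 363448429))) (.node (.node (.leaf 222511152) (.leaf 357417010)) (.node (.leaf 106086449) (.leaf 149897265))))) (.node (.node (.node (.node (.leaf 374554672) (.leaf 357143485)) (.node (.leaf 316653616) (.leaf 312033329))) (.node (.node (.leaf 94585184) (.leaf 190011820)) (.node (.leaf 41730097) (.leaf 312019584)))) (.node (.node (.node (.leaf 29040054) (.leaf 357130329)) (.node (.leaf 170098774) (.leaf 149913649))) (.node (.node (.leaf 293345626) (.leaf 349863986)) (.node (.leaf 38716325) (.leaf 352820486)))))))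

/-- A Schreier factor, part 79. -/
def facCodePart79 : Janko1.Tree ℕ := (.node (.node (.node (.node (.node (.node (.leaf 106679630) (.leaf 378784906)) (.node (.leaf 4145202) (.leaf 376750130))) (.node (.node (.leaf 103815437) (.leaf 352551986)) (.node (.leaf 292230985) (.leaf 143249632)))) (.node (.node (.node (.leaf 99999729) (.leaf 325848856)) (.node (.leaf 70537357) (.leaf 325865773))) (.node (.node (.leaf 217106002) (.leaf 349166884)) (.node (.leaf 364741225) (.leaf 205330340))))) (.node (.node (.node (.node (.leaf 108937264) (.leaf 205307953)) (.node (.leaf 20234288) (.leaf 138706993))) (.node (.node (.leaf 243782305) (.leaf 364286370)) (.node (.leaf 301533094) (.leaf 355700309)))) (.node (.node (.node (.leaf 144539697) (.leaf 357941298)) (.node (.leaf 46219312) (.leaf 356057138))) (.node (.node (.leaf 86542226) (.leaf 365101106)) (.node (.leaf 164020274) (.leaf 350470194)))))) (.node (.node (.node (.node (.node (.leaf 125113772) (.leaf 350031669)) (.node (.leaf 208620937) (.leaf 361562161))) (.node (.node (.leaf 218677297) (.leaf 316604465))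 (.node (.leaf 155065630) (.leaf 196761741)))) (.node (.node (.node (.leaf 70835104) (.leaf 361545777)) (.node (.leaf 257515324) (.leaf 191807537))) (.node (.node (.leaf 9175090) (.leaf 313229361)) (.node (.leaf 301219888) (.leaf 357777458))))) (.node (.node (.node (.node (.leaf 80253714) (.leaf 364891778)) (.node (.leaf 86294576) (.leaf 367067186))) (.node (.node (.leaf 59922665) (.leaf 364450521)) (.node (.leaf 13847298) (.leaf 355554598)))) (.node (.node (.node (.leaf 46022704) (.leaf 358465586)) (.node (.leaf 230857362) (.leaf 292983241))) (.node (.node (.leaf 340377650) (.leaf 295935038)) (.node (.leaf 204952425) (.leaf 286103509)))))))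

/-- A Schreier factor, part 80. -/
def facCodePart80 : Janko1.Tree ℕ := (.node (.node (.node (.node (.node (.node (.leaf 215604342) (.leaf 284379930)) (.node (.leaf 147902465) (.leaf 295179804))) (.node (.node (.leaf 88411673) (.leaf 9969909)) (.node (.leaf 163299376) (.leaf 92553265)))) (.node (.node (.node (.leaf 302666772) (.leaf 281280561)) (.node (.leaf 55417209) (.leaf 16975641))) (.node (.node (.leaf 269090866) (.leaf 254820401)) (.node (.leaf 142393392) (.leaf 254837612))))) (.node (.node (.node (.node (.leaf 91966744) (.leaf 16958973)) (.node (.leaf 229294128) (.leaf 281296945))) (.node (.node (.leaf 321257520) (.leaf 307888178)) (.node (.leaf 188271434) (.leaf 305350601)))) (.node (.node (.node (.leaf 135026724) (.leaf 278974866)) (.node (.leaf 177013825) (.leaf 280543282))) (.node (.node (.leaf 59621426) (.leaf 285982770)) (.node (.leaf 118931506) (.leaf 295272498)))))) (.node (.node (.node (.node (.node (.leaf 156029160) (.leaf 295748993)) (.node (.leaf 26973378) (.leaf 293114696))) (.node (.node (.leaf 87917029) (.leaf 283761658))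 (.node (.leaf 221790257) (.leaf 27459684)))) (.node (.node (.node (.leaf 378935120) (.leaf 286673896)) (.node (.leaf 167903281) (.leaf 242761777))) (.node (.node (.leaf 163659824) (.leaf 27483168)) (.node (.leaf 338264114) (.leaf 290258993))))) (.node (.node (.node (.node (.leaf 177542506) (.leaf 82544576)) (.node (.leaf 228999216) (.leaf 245891121))) (.node (.node (.leaf 142131248) (.leaf 290242609)) (.node (.leaf 151408878) (.leaf 33734705)))) (.node (.node (.node (.leaf 320949910) (.leaf 305808392)) (.node (.leaf 76693698) (.leaf 307396658))) (.node (.node (.leaf 370368189) (.leaf 278839346)) (.node (.leaf 54561026) (.leaf 288510818)))))))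

/-- A Schreier factor, part 81. -/
def facCodePart81 : Janko1.Tree ℕ := (.node (.node (.node (.node (.node (.node (.leaf 146080048) (.leaf 306268064)) (.node (.leaf 243877040) (.leaf 308330546))) (.node (.node (.leaf 348061746) (.leaf 273563697)) (.node (.leaf 311840321) (.leaf 132701504)))) (.node (.node (.node (.leaf 163119153) (.leaf 258949169)) (.node (.leaf 136773681) (.leaf 106135601))) (.node (.node (.leaf 207126577) (.leaf 106037297)) (.node (.leaf 233586737) (.leaf 259019345))))) (.node (.node (.node (.node (.leaf 1294384) (.leaf 294109234)) (.node (.leaf 101307820) (.leaf 274603416))) (.node (.node (.leaf 162893342) (.leaf 292314604)) (.node (.leaf 132874880) (.leaf 274171102)))) (.node (.node (.node (.leaf 78503257) (.leaf 288358621)) (.node (.leaf 243482672) (.leaf 306121544))) (.node (.node (.leaf 109609009) (.leaf 308763756)) (.node (.leaf 105136178) (.leaf 68878385)))))) (.node (.node (.node (.node (.node (.leaf 116629840) (.leaf 308889120)) (.node (.leaf 69500978) (.leaf 309051441))) (.node (.node (.leaf 856632) (.leaf 68911153))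 (.node (.leaf 238862386) (.leaf 69031961)))) (.node (.node (.node (.leaf 210026544) (.leaf 237748273)) (.node (.leaf 16334897) (.leaf 344686641))) (.node (.node (.leaf 86740030) (.leaf 344539185)) (.node (.leaf 118030385) (.leaf 237731889))))) (.node (.node (.node (.node (.leaf 226361394) (.leaf 362628325)) (.node (.leaf 235587888) (.leaf 360203233))) (.node (.node (.leaf 148917558) (.leaf 360601166)) (.node (.leaf 183000402) (.leaf 345394630)))) (.node (.node (.node (.leaf 156155953) (.leaf 366034994)) (.node (.leaf 321355824) (.leaf 363860672))) (.node (.node (.leaf 213368881) (.leaf 365417733)) (.node (.leaf 142508080) (.leaf 365838385)))))))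

/-- A Schreier factor, part 82. -/
def facCodePart82 : Janko1.Tree ℕ := (.node (.node (.node (.node (.node (.node (.leaf 222728018) (.leaf 163397681)) (.node (.leaf 54132786) (.leaf 163495985))) (.node (.node (.leaf 24526898) (.leaf 365805617)) (.node (.leaf 250092160) (.leaf 365862624)))) (.node (.node (.node (.leaf 183828528) (.leaf 380436529)) (.node (.leaf 312417292) (.leaf 380526085))) (.node (.node (.leaf 235886182) (.leaf 362119218)) (.node (.leaf 85508762) (.leaf 377184102))))) (.node (.node (.node (.node (.leaf 247874977) (.leaf 380815521)) (.node (.leaf 62279922) (.leaf 347735176))) (.node (.node (.leaf 196608048) (.leaf 365514709)) (.node (.leaf 28858926) (.leaf 363743722)))) (.node (.node (.node (.leaf 74924081) (.leaf 348209202)) (.node (.leaf 321034142) (.leaf 365921941))) (.node (.node (.leaf 142213168) (.leaf 330203185)) (.node (.leaf 222437080) (.leaf 216645681)))))) (.node (.node (.node (.node (.node (.leaf 176606029) (.leaf 216716010)) (.node (.leaf 355156018) (.leaf 216662065))) (.node (.node (.leaf 318767154) (.leaf 330194050))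 (.node (.leaf 67968477) (.leaf 361676850)))) (.node (.node (.node (.leaf 62488624) (.leaf 359088550)) (.node (.leaf 34947121) (.leaf 376242226))) (.node (.node (.leaf 72646705) (.leaf 361201714)) (.node (.leaf 239042608) (.leaf 378306610))))) (.node (.node (.node (.node (.leaf 103748732) (.leaf 376620876)) (.node (.leaf 107069490) (.leaf 236814385))) (.node (.node (.leaf 28302414) (.leaf 236935046)) (.node (.leaf 43518389) (.leaf 343639556)))) (.node (.node (.node (.leaf 275602589) (.leaf 343560246)) (.node (.leaf 3391538) (.leaf 236798001))) (.node (.node (.leaf 239995604) (.leaf 236915574)) (.node (.leaf 144425009) (.leaf 165285024)))))))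

/-- A Schreier factor, part 83. -/
def facCodePart83 : Janko1.Tree ℕ := (.node (.node (.node (.node (.node (.node (.leaf 202197597) (.leaf 165184994)) (.node (.leaf 301465648) (.leaf 366886961))) (.node (.node (.leaf 228573233) (.leaf 366936113)) (.node (.leaf 164593714) (.leaf 367136885)))) (.node (.node (.node (.leaf 187407942) (.leaf 364971828)) (.node (.leaf 134483418) (.leaf 348718033))) (.node (.node (.leaf 310657074) (.leaf 366510130)) (.node (.leaf 192106396) (.leaf 358992513))))) (.node (.node (.node (.node (.leaf 239307401) (.leaf 376111154)) (.node (.leaf 125026352) (.leaf 378617905))) (.node (.node (.leaf 161284146) (.leaf 378699825)) (.node (.leaf 349159474) (.leaf 378601521)))) (.node (.node (.node (.leaf 190534041) (.leaf 378684597)) (.node (.leaf 137592882) (.leaf 183648572))) (.node (.node (.leaf 312999986) (.leaf 183713841)) (.node (.leaf 47480881) (.leaf 331449400)))))) (.node (.node (.node (.node (.node (.leaf 13598769) (.leaf 218415153)) (.node (.leaf 247847364) (.leaf 218448973))) (.node (.node (.leaf 301160122) (.leaf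 331435450)) (.node (.leaf 123846705) (.leaf 331497521)))) (.node (.node (.node (.leaf 103286164) (.leaf 348881410)) (.node (.leaf 11013630) (.leaf 366657586))) (.node (.node (.leaf 277715478) (.leaf 349347644)) (.node (.leaf 75431986) (.leaf 366985266))))) (.node (.node (.node (.node (.leaf 56138018) (.leaf 275161446)) (.node (.leaf 22937649) (.leaf 295819884))) (.node (.node (.leaf 84672561) (.leaf 275939378)) (.node (.leaf 378573313) (.leaf 277221165)))) (.node (.node (.node (.leaf 231364661) (.leaf 295797220)) (.node (.leaf 136169225) (.leaf 295912344))) (.node (.node (.leaf 215531568) (.leaf 44302385)) (.node (.leaf 356319282) (.leaf 44286001)))))))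

/-- A Schreier factor, part 84. -/
def facCodePart84 : Janko1.Tree ℕ := (.node (.node (.node (.node (.node (.node (.leaf 201053536) (.leaf 44335153)) (.node (.leaf 147292210) (.leaf 295829553))) (.node (.node (.leaf 134889521) (.leaf 272564273)) (.node (.leaf 237474777) (.leaf 130372197)))) (.node (.node (.node (.leaf 123573812) (.leaf 289999566)) (.node (.leaf 229253293) (.leaf 287244338))) (.node (.node (.leaf 60276786) (.leaf 305288154)) (.node (.leaf 87441458) (.leaf 307465218))))) (.node (.node (.node (.node (.leaf 248873010) (.leaf 305659954)) (.node (.leaf 163741744) (.leaf 275797640))) (.node (.node (.leaf 326059808) (.leaf 295636305)) (.node (.leaf 119446532) (.leaf 260128817)))) (.node (.node (.node (.leaf 215842864) (.leaf 108085297)) (.node (.leaf 286739236) (.leaf 108102529))) (.node (.node (.leaf 251304012) (.leaf 260161585)) (.node (.leaf 43794481) (.leaf 67010609)))))) (.node (.node (.node (.node (.node (.leaf 176823346) (.leaf 308036748)) (.node (.leaf 9262345) (.leaf 308086085))) (.node (.node (.leaf 227959089) (.leaf 287899698))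 (.node (.leaf 148753634) (.leaf 305758258)))) (.node (.node (.node (.leaf 204424908) (.leaf 305138852)) (.node (.leaf 322289714) (.leaf 307960937))) (.node (.node (.leaf 203425284) (.leaf 252970994)) (.node (.leaf 229694118) (.leaf 273645618))))) (.node (.node (.node (.node (.leaf 193157310) (.leaf 246766384)) (.node (.leaf 263307312) (.leaf 244750134))) (.node (.node (.leaf 285425712) (.leaf 271482930)) (.node (.leaf 206274610) (.leaf 246775857)))) (.node (.node (.node (.leaf 209722682) (.leaf 35864666)) (.node (.leaf 235457718) (.leaf 84528701))) (.node (.node (.leaf 213090353) (.leaf 250118193)) (.node (.leaf 236470969) (.leaf 7541024)))))))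

/-- A Schreier factor, part 85. -/
def facCodePart85 : Janko1.Tree ℕ := (.node (.node (.node (.node (.node (.node (.leaf 276709424) (.leaf 250101809)) (.node (.leaf 258932784) (.leaf 90345108))) (.node (.node (.leaf 152846386) (.leaf 265584690)) (.node (.leaf 235487282) (.leaf 267911218)))) (.node (.node (.node (.leaf 232112178) (.leaf 256376882)) (.node (.leaf 179118101) (.leaf 241631282))) (.node (.node (.leaf 121815088) (.leaf 246284338)) (.node (.leaf 113676737) (.leaf 253515493))))) (.node (.node (.node (.node (.leaf 50055112) (.leaf 255825950)) (.node (.leaf 16614574) (.leaf 270843954))) (.node (.node (.leaf 20996192) (.leaf 264552498)) (.node (.leaf 88933621) (.leaf 100286513)))) (.node (.node (.node (.leaf 57134700) (.leaf 255775088)) (.node (.leaf 81051696) (.leaf 282427441))) (.node (.node (.leaf 305501989) (.leaf 18979480)) (.node (.leaf 269991986) (.leaf 282394673)))))) (.node (.node (.node (.node (.node (.leaf 307660210) (.leaf 255737905)) (.node (.leaf 78254885) (.leaf 317423665))) (.node (.node (.leaf 89952748) (.leaf 158258480))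 (.node (.leaf 121523381) (.leaf 362433318)))) (.node (.node (.node (.leaf 327729200) (.leaf 158241296)) (.node (.leaf 359226269) (.leaf 198581641))) (.node (.node (.leaf 341377072) (.leaf 317456433)) (.node (.leaf 193085490) (.leaf 324124722))))) (.node (.node (.node (.node (.leaf 139739186) (.leaf 344917642)) (.node (.leaf 196542514) (.leaf 317718578))) (.node (.node (.leaf 166068274) (.leaf 315670578)) (.node (.leaf 227037240) (.leaf 309608498)))) (.node (.node (.node (.leaf 163414065) (.leaf 311722034)) (.node (.leaf 136990250) (.leaf 328025670))) (.node (.node (.leaf 180207665) (.leaf 318852229)) (.node (.leaf 153354289) (.leaf 338853938)))))))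

/-- A Schreier factor, part 86. -/
def facCodePart86 : Janko1.Tree ℕ := (.node (.node (.node (.node (.node (.node (.leaf 192383458) (.leaf 311937420)) (.node (.leaf 165937200) (.leaf 189841457))) (.node (.node (.leaf 299160980) (.leaf 356925489)) (.node (.leaf 263372928) (.leaf 149789914)))) (.node (.node (.node (.leaf 233652272) (.leaf 326647857)) (.node (.leaf 213652232) (.leaf 144640574))) (.node (.node (.leaf 173609128) (.leaf 144657344)) (.node (.leaf 170213570) (.leaf 326620246))))) (.node (.node (.node (.node (.leaf 205996080) (.leaf 334073522)) (.node (.leaf 159367216) (.leaf 324732029))) (.node (.node (.leaf 263344722) (.leaf 336235177)) (.node (.leaf 129783228) (.leaf 329809970)))) (.node (.node (.node (.leaf 70402097) (.leaf 320716850)) (.node (.leaf 101911801) (.leaf 337250834))) (.node (.node (.leaf 354648112) (.leaf 339378226)) (.node (.leaf 350176101) (.leaf 327417906)))))) (.node (.node (.node (.node (.node (.leaf 332365872) (.leaf 312311858)) (.node (.leaf 193103010) (.leaf 347881521))) (.node (.node (.leaf 139755570) (.leaf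 137084977)) (.node (.leaf 95817192) (.leaf 322994226)))) (.node (.node (.node (.leaf 127402033) (.leaf 343903934)) (.node (.leaf 76075830) (.leaf 316736906))) (.node (.node (.leaf 258622768) (.leaf 314542724)) (.node (.leaf 289643142) (.leaf 341786674))))) (.node (.node (.node (.node (.leaf 99532850) (.leaf 316461954)) (.node (.leaf 95797298) (.leaf 156589818))) (.node (.node (.leaf 30622454) (.leaf 361381937)) (.node (.leaf 63684658) (.leaf 316473393)))) (.node (.node (.node (.leaf 25624624) (.leaf 151650353)) (.node (.leaf 122148704) (.leaf 358072369))) (.node (.node (.leaf 178765873) (.leaf 358090474)) (.node (.leaf 151853668) (.leaf 151624944)))))))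

/-- A Schreier factor, part 87. -/
def facCodePart87 : Janko1.Tree ℕ := (.node (.node (.node (.node (.node (.node (.leaf 168838289) (.leaf 191610929)) (.node (.leaf 141787185) (.leaf 313098289))) (.node (.node (.leaf 81313840) (.leaf 337805362)) (.node (.leaf 49152048) (.leaf 322445126)))) (.node (.node (.node (.leaf 89179024) (.leaf 331685062)) (.node (.leaf 380208877) (.leaf 320127026))) (.node (.node (.leaf 33655397) (.leaf 332811676)) (.node (.leaf 7684144) (.leaf 343326770))))) (.node (.node (.node (.node (.leaf 162119729) (.leaf 325894194)) (.node (.leaf 135725105) (.leaf 341253948))) (.node (.node (.leaf 158752210) (.leaf 335134770)) (.node (.leaf 97142440) (.leaf 210096264)))) (.node (.node (.node (.leaf 73678896) (.leaf 352521268)) (.node (.leaf 344540636) (.leaf 352505670))) (.node (.node (.leaf 377478409) (.leaf 325582897)) (.node (.leaf 83869745) (.leaf 205176881)))))) (.node (.node (.node (.node (.node (.leaf 87818289) (.leaf 349012017)) (.node (.leaf 285171681) (.leaf 138625806))) (.node (.node (.leaf 267616304) (.leaf 348995633))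 (.node (.leaf 280903728) (.leaf 322093105)))) (.node (.node (.node (.leaf 262979632) (.leaf 205209649)) (.node (.leaf 99565618) (.leaf 321912882))) (.node (.node (.leaf 34979890) (.leaf 338346034)) (.node (.leaf 126664754) (.leaf 340459570))))) (.node (.node (.node (.node (.leaf 130990373) (.leaf 328716632)) (.node (.leaf 153638858) (.leaf 260063282))) (.node (.node (.leaf 60833841) (.leaf 249058037)) (.node (.leaf 333963384) (.leaf 27344945)))) (.node (.node (.node (.leaf 336183594) (.leaf 242630705)) (.node (.leaf 191250481) (.leaf 245809201))) (.node (.node (.leaf 208044081) (.leaf 33357873)) (.node (.leaf 350471977) (.leaf 290015550)))))))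

/-- A Schreier factor, part 88. -/
def facCodePart88 : Janko1.Tree ℕ := (.node (.node (.node (.node (.node (.node (.leaf 332628016) (.leaf 33346273)) (.node (.leaf 18351906) (.leaf 272550338))) (.node (.node (.leaf 51380274) (.leaf 243564594)) (.node (.leaf 110675738) (.leaf 270294882)))) (.node (.node (.node (.leaf 198082609) (.leaf 250871858)) (.node (.leaf 224690225) (.leaf 266797106))) (.node (.node (.leaf 341639216) (.leaf 248528946)) (.node (.leaf 328013542) (.leaf 242729997))))) (.node (.node (.node (.node (.leaf 80216114) (.leaf 92373041)) (.node (.leaf 84087836) (.leaf 277826858))) (.node (.node (.leaf 110690354) (.leaf 9879601)) (.node (.leaf 47300658) (.leaf 277790769)))) (.node (.node (.node (.leaf 114706162) (.leaf 251330609)) (.node (.leaf 51331122) (.leaf 92389425))) (.node (.node (.leaf 226672688) (.leaf 254509105)) (.node (.leaf 140155526) (.leaf 281247793)))))) (.node (.node (.node (.node (.node (.leaf 68814986) (.leaf 16828576)) (.node (.leaf 40227205) (.leaf 254494892))) (.node (.node (.leaf 4968962) (.leaf 98435881)) (.node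 (.leaf 165609934) (.leaf 252401281)))) (.node (.node (.node (.leaf 371359794) (.leaf 254525490)) (.node (.leaf 333987890) (.leaf 263462496))) (.node (.node (.leaf 152371830) (.leaf 255941665)) (.node (.leaf 323403826) (.leaf 273514546))))) (.node (.node (.node (.node (.leaf 81419625) (.leaf 263897138)) (.node (.leaf 16991752) (.leaf 308648446))) (.node (.node (.leaf 325799157) (.leaf 267885965)) (.node (.leaf 152355493) (.leaf 42205233)))) (.node (.node (.node (.leaf 236328118) (.leaf 42221617)) (.node (.leaf 97222704) (.leaf 42292709))) (.node (.node (.leaf 232849458) (.leaf 267829297)) (.node (.leaf 272400432) (.leaf 240926770)))))))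

/-- A Schreier factor, part 89. -/
def facCodePart89 : Janko1.Tree ℕ := (.node (.node (.node (.node (.node (.node (.leaf 160530481) (.leaf 258248488)) (.node (.leaf 183878868) (.leaf 265526330))) (.node (.node (.leaf 213139505) (.leaf 250156173)) (.node (.leaf 7604176) (.leaf 256294962)))) (.node (.node (.node (.leaf 92985061) (.leaf 262307890)) (.node (.leaf 96944178) (.leaf 272908338))) (.node (.node (.leaf 48865586) (.leaf 247005234)) (.node (.leaf 66093106) (.leaf 264486962))))) (.node (.node (.node (.node (.leaf 121914656) (.leaf 300192798)) (.node (.leaf 81629640) (.leaf 300253233))) (.node (.node (.leaf 85656221) (.leaf 132337001)) (.node (.leaf 139397941) (.leaf 225134174)))) (.node (.node (.node (.leaf 314638386) (.leaf 225181745)) (.node (.leaf 142493322) (.leaf 380100286))) (.node (.node (.leaf 219824178) (.leaf 380108849)) (.node (.leaf 46291622) (.leaf 344773757)))))) (.node (.node (.node (.node (.node (.leaf 341296045) (.leaf 315315597)) (.node (.leaf 58753073) (.leaf 333414450))) (.node (.node (.leaf 133958548) (.leaf 335609906))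 (.node (.leaf 121569329) (.leaf 324993074)))) (.node (.node (.node (.leaf 81264690) (.leaf 336691250)) (.node (.leaf 278937650) (.leaf 312229938))) (.node (.node (.leaf 172705914) (.leaf 320635322)) (.node (.leaf 45744178) (.leaf 338772018))))) (.node (.node (.node (.node (.leaf 354993197) (.leaf 176816177)) (.node (.leaf 220315696) (.leaf 176724109))) (.node (.node (.leaf 189302132) (.leaf 176800458)) (.node (.leaf 227065904) (.leaf 330046525)))) (.node (.node (.node (.leaf 77516176) (.leaf 237424909)) (.node (.leaf 281215026) (.leaf 371168933))) (.node (.node (.leaf 179198161) (.leaf 371152024)) (.node (.leaf 159303504) (.leaf 237314117)))))))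

/-- A Schreier factor, part 90. -/
def facCodePart90 : Janko1.Tree ℕ := (.node (.node (.node (.node (.node (.node (.leaf 345980976) (.leaf 344227890)) (.node (.leaf 233723225) (.leaf 324337714))) (.node (.node (.leaf 142458930) (.leaf 311675384)) (.node (.leaf 223352988) (.leaf 321208370)))) (.node (.node (.node (.leaf 66913533) (.leaf 339116081)) (.node (.leaf 332267568) (.leaf 163302656))) (.node (.node (.leaf 146609036) (.leaf 163355186)) (.node (.leaf 101977677) (.leaf 339017777))))) (.node (.node (.node (.node (.leaf 140099632) (.leaf 339099673)) (.node (.leaf 34528120) (.leaf 326074418))) (.node (.node (.leaf 30261298) (.leaf 314130482)) (.node (.leaf 253365992) (.leaf 332218418)))) (.node (.node (.node (.leaf 127533165) (.leaf 323765317)) (.node (.leaf 96976944) (.leaf 341710764))) (.node (.node (.leaf 258545093) (.leaf 223412273)) (.node (.leaf 64670104) (.leaf 223485218)))))) (.node (.node (.node (.node (.node (.leaf 44048486) (.leaf 378503217)) (.node (.leaf 360349746) (.leaf 331270760))) (.node (.node (.leaf 207215738) (.leaf 331387873))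 (.node (.leaf 362471785) (.leaf 178359232)))) (.node (.node (.node (.leaf 57393200) (.leaf 331300913)) (.node (.leaf 152113796) (.leaf 319381450))) (.node (.node (.leaf 285511588) (.leaf 331634030)) (.node (.leaf 114049072) (.leaf 311050290))))) (.node (.node (.node (.node (.leaf 204903642) (.leaf 329269298)) (.node (.leaf 194648626) (.leaf 339807020))) (.node (.node (.leaf 210672778) (.leaf 332726322)) (.node (.leaf 360333362) (.leaf 325500978)))) (.node (.node (.node (.leaf 65765424) (.leaf 323272754)) (.node (.leaf 184647730) (.leaf 341147698))) (.node (.node (.leaf 41147661) (.leaf 316899378)) (.node (.leaf 289996848) (.leaf 236716081)))))))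

/-- A Schreier factor, part 91. -/
def facCodePart91 : Janko1.Tree ℕ := (.node (.node (.node (.node (.node (.node (.leaf 158960424) (.leaf 370150822)) (.node (.leaf 188039217) (.leaf 370249230))) (.node (.node (.leaf 253336317) (.leaf 340122038)) (.node (.leaf 255606834) (.leaf 165118001)))) (.node (.node (.node (.leaf 127516722) (.leaf 165073424)) (.node (.leaf 89016706) (.leaf 165153952))) (.node (.node (.leaf 132043742) (.leaf 340036877)) (.node (.leaf 52150321) (.leaf 331011185))))) (.node (.node (.node (.node (.leaf 115202153) (.leaf 322388018)) (.node (.leaf 119276853) (.leaf 310513090))) (.node (.node (.leaf 16752072) (.leaf 328651516)) (.node (.leaf 351650602) (.leaf 248449122)))) (.node (.node (.node (.leaf 159023722) (.leaf 240369714)) (.node (.leaf 168116274) (.leaf 257753138))) (.node (.node (.leaf 178938225) (.leaf 250791181)) (.node (.leaf 171647370) (.leaf 268484658)))))) (.node (.node (.node (.node (.node (.leaf 345678057) (.leaf 260051254)) (.node (.leaf 27525996) (.leaf 60688606))) (.node (.node (.leaf 213467184) (.leaf 60670001))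 (.node (.leaf 91881521) (.leaf 260082524)))) (.node (.node (.node (.leaf 18006066) (.leaf 113885233)) (.node (.leaf 246961582) (.leaf 113950769))) (.node (.node (.leaf 115580368) (.leaf 307839025)) (.node (.leaf 192434469) (.leaf 307923636))))) (.node (.node (.node (.node (.leaf 111509554) (.leaf 113868849)) (.node (.leaf 332548741) (.leaf 254787634))) (.node (.node (.leaf 165101617) (.leaf 272531506)) (.node (.leaf 337182768) (.leaf 243220530)))) (.node (.node (.node (.leaf 181862449) (.leaf 260653106)) (.node (.leaf 217776177) (.leaf 245555001))) (.node (.node (.leaf 234471473) (.leaf 252594616)) (.node (.leaf 146888832) (.leaf 270221362)))))))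

/-- A Schreier factor, part 92. -/
def facCodePart92 : Janko1.Tree ℕ := (.node (.node (.node (.node (.node (.node (.leaf 244850661) (.leaf 259326002)) (.node (.leaf 246906930) (.leaf 266699385))) (.node (.node (.leaf 111532166) (.leaf 251363378)) (.node (.leaf 206051860) (.leaf 269074482)))) (.node (.node (.node (.leaf 115527054) (.leaf 239796274)) (.node (.leaf 341557296) (.leaf 269041713))) (.node (.node (.leaf 175243313) (.leaf 269140017)) (.node (.leaf 172017594) (.leaf 44253233))))) (.node (.node (.node (.node (.leaf 224711246) (.leaf 269025974)) (.node (.leaf 353828914) (.leaf 130236465))) (.node (.node (.leaf 172490800) (.leaf 299122737)) (.node (.leaf 36003869) (.leaf 243912048)))) (.node (.node (.node (.leaf 5324849) (.leaf 254197810)) (.node (.leaf 226775914) (.leaf 252010626))) (.node (.node (.leaf 235618354) (.leaf 115949618)) (.node (.leaf 209574521) (.leaf 96622188)))))) (.node (.node (.node (.node (.node (.leaf 245930321) (.leaf 80219424)) (.node (.leaf 193582277) (.leaf 30933041))) (.node (.node (.leaf 149717041) (.leaf 30883889))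 (.node (.leaf 58691241) (.leaf 80150636)))) (.node (.node (.node (.leaf 343441458) (.leaf 86097969)) (.node (.leaf 232243250) (.leaf 2006588))) (.node (.node (.leaf 209584178) (.leaf 274153521)) (.node (.leaf 254679778) (.leaf 102402869))))) (.node (.node (.node (.node (.leaf 187011086) (.leaf 105383418)) (.node (.leaf 210255921) (.leaf 118020772))) (.node (.node (.leaf 133840945) (.leaf 90396729)) (.node (.leaf 61347609) (.leaf 83918898)))) (.node (.node (.node (.leaf 307806258) (.leaf 99893298)) (.node (.leaf 28721202) (.leaf 127828018))) (.node (.node (.leaf 113691524) (.leaf 253088168)) (.node (.leaf 117866545) (.leaf 14081550)))))))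

/-- A Schreier factor, part 93. -/
def facCodePart93 : Janko1.Tree ℕ := (.node (.node (.node (.node (.node (.node (.leaf 299057200) (.leaf 279601320)) (.node (.leaf 90161200) (.leaf 279625777))) (.node (.node (.leaf 49479729) (.leaf 14179337)) (.node (.leaf 82214960) (.leaf 96059441)))) (.node (.node (.node (.leaf 222707762) (.leaf 359907377)) (.node (.leaf 334905394) (.leaf 154746929))) (.node (.node (.leaf 192954418) (.leaf 154648625)) (.node (.leaf 232358800) (.leaf 194461745))))) (.node (.node (.node (.node (.leaf 309887024) (.leaf 234668082)) (.node (.leaf 78613234) (.leaf 238241896))) (.node (.node (.leaf 160137264) (.leaf 195133490)) (.node (.leaf 25051185) (.leaf 208781362)))) (.node (.node (.node (.leaf 180092976) (.leaf 211484722)) (.node (.leaf 49137405) (.leaf 203919662))) (.node (.node (.leaf 16416818) (.leaf 213565490)) (.node (.leaf 233396986) (.leaf 354207270)))))) (.node (.node (.node (.node (.node (.leaf 193609776) (.leaf 146004504)) (.node (.leaf 162840625) (.leaf 354238513))) (.node (.node (.leaf 297009202) (.leaf 323966518))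 (.node (.leaf 49111212) (.leaf 350896874)))) (.node (.node (.node (.leaf 16391074) (.leaf 324032278)) (.node (.leaf 226656305) (.leaf 195346482))) (.node (.node (.leaf 376881200) (.leaf 198148146)) (.node (.leaf 223543345) (.leaf 211664946))))) (.node (.node (.node (.node (.leaf 173003788) (.leaf 234833469)) (.node (.leaf 187056880) (.leaf 221486914))) (.node (.node (.leaf 169607217) (.leaf 225419040)) (.node (.leaf 222691378) (.leaf 213712946)))) (.node (.node (.node (.leaf 219202666) (.leaf 229867570)) (.node (.leaf 332569273) (.leaf 226951218))) (.node (.node (.leaf 196352142) (.leaf 203751873)) (.node (.leaf 225630918) (.leaf 199884850)))))))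

/-- A Schreier factor, part 94. -/
def facCodePart94 : Janko1.Tree ℕ := (.node (.node (.node (.node (.node (.node (.leaf 218991954) (.leaf 190304077)) (.node (.leaf 32948806) (.leaf 345219356))) (.node (.node (.leaf 1951290) (.leaf 199622705)) (.node (.leaf 166626493) (.leaf 318096580)))) (.node (.node (.node (.leaf 273121330) (.leaf 237229505)) (.node (.leaf 126852317) (.leaf 223821874))) (.node (.node (.leaf 270945378) (.leaf 219856946)) (.node (.leaf 99401778) (.leaf 196444210))))) (.node (.node (.node (.node (.leaf 104726576) (.leaf 193547841)) (.node (.leaf 241375829) (.leaf 192873473))) (.node (.node (.leaf 96223281) (.leaf 313807492)) (.node (.leaf 254394416) (.leaf 358858801)))) (.node (.node (.node (.leaf 9207857) (.leaf 313720881)) (.node (.leaf 66551856) (.leaf 192807653))) (.node (.node (.leaf 180699186) (.leaf 310411313)) (.node (.leaf 154649353) (.leaf 355434545)))))) (.node (.node (.node (.node (.node (.leaf 222134804) (.leaf 191954994)) (.node (.leaf 82509872) (.leaf 218185778))) (.node (.node (.leaf 178215261) (.leaf 215194497))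 (.node (.leaf 90423344) (.leaf 228743209)))) (.node (.node (.node (.leaf 184188978) (.leaf 196263986)) (.node (.leaf 180685432) (.leaf 206930053))) (.node (.node (.leaf 6526176) (.leaf 219763286)) (.node (.leaf 154615858) (.leaf 223969330))))) (.node (.node (.node (.node (.leaf 215273354) (.leaf 322764849)) (.node (.leaf 238141489) (.leaf 139624497))) (.node (.node (.leaf 161480753) (.leaf 139706417)) (.node (.leaf 185090097) (.leaf 322835288)))) (.node (.node (.node (.leaf 270926256) (.leaf 201315286)) (.node (.leaf 273192556) (.leaf 346310782))) (.node (.node (.leaf 99442237) (.leaf 201245441)) (.node (.leaf 112721968) (.leaf 319144036)))))))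

/-- A Schreier factor, part 95. -/
def facCodePart95 : Janko1.Tree ℕ := (.node (.node (.node (.node (.node (.node (.leaf 249905200) (.leaf 215324732)) (.node (.leaf 84181041) (.leaf 218054706))) (.node (.node (.leaf 245713737) (.leaf 231526421)) (.node (.leaf 88181314) (.leaf 228611630)))) (.node (.node (.node (.leaf 58349636) (.leaf 201557089)) (.node (.leaf 49938480) (.leaf 192069682))) (.node (.node (.leaf 369497985) (.leaf 87883826)) (.node (.leaf 171147314) (.leaf 72310482))))) (.node (.node (.node (.node (.leaf 132928037) (.leaf 107528749)) (.node (.leaf 141394797) (.leaf 104024290))) (.node (.node (.leaf 112025005) (.leaf 72287625)) (.node (.leaf 376569904) (.leaf 23036846)))) (.node (.node (.node (.leaf 186744880) (.leaf 23088572)) (.node (.leaf 60183134) (.leaf 72376465))) (.node (.node (.leaf 110838681) (.leaf 287277105)) (.node (.leaf 80104476) (.leaf 243171377)))))) (.node (.node (.node (.node (.node (.leaf 314654768) (.leaf 125557258)) (.node (.leaf 191596076) (.leaf 130353870))) (.node (.node (.leaf 318870596) (.leaf 113934386))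 (.node (.leaf 208322609) (.leaf 109543474)))) (.node (.node (.node (.leaf 166970044) (.leaf 78626866)) (.node (.leaf 154768730) (.leaf 94672648))) (.node (.node (.leaf 173801912) (.leaf 97798806)) (.node (.leaf 114888532) (.leaf 123755233))))) (.node (.node (.node (.node (.leaf 264355890) (.leaf 120094770)) (.node (.leaf 212598832) (.leaf 76824626))) (.node (.node (.leaf 323698736) (.leaf 248567966)) (.node (.leaf 310132857) (.leaf 4588368)))) (.node (.node (.node (.leaf 198508593) (.leaf 275349553)) (.node (.leaf 160432176) (.leaf 248464329))) (.node (.node (.leaf 371490866) (.leaf 251944105)) (.node (.leaf 369508402) (.leaf 11796529)))))))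

/-- A Schreier factor, part 96. -/
def facCodePart96 : Janko1.Tree ℕ := (.node (.node (.node (.node (.node (.node (.leaf 132481218) (.leaf 78745038)) (.node (.leaf 372364302) (.leaf 81858872))) (.node (.node (.leaf 104090517) (.leaf 97943602)) (.node (.leaf 368017456) (.leaf 94568498)))) (.node (.node (.node (.leaf 68377318) (.leaf 125681714)) (.node (.leaf 39567409) (.leaf 114056849))) (.node (.node (.leaf 166510641) (.leaf 84508722)) (.node (.leaf 90364812) (.leaf 115891338))))) (.node (.node (.node (.node (.leaf 232740438) (.leaf 111444017)) (.node (.leaf 15908912) (.leaf 111525937))) (.node (.node (.leaf 120967397) (.leaf 64454705)) (.node (.leaf 183013290) (.leaf 64504997)))) (.node (.node (.node (.leaf 160071729) (.leaf 265003169)) (.node (.leaf 98336816) (.leaf 265044017))) (.node (.node (.leaf 66879536) (.leaf 117546217)) (.node (.leaf 74760240) (.leaf 37588876)))))) (.node (.node (.node (.node (.node (.leaf 42307597) (.leaf 291899658)) (.node (.leaf 156401713) (.leaf 291962929))) (.node (.node (.leaf 236175410) (.leaf 70975538)) (.node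 (.leaf 183025714) (.leaf 105286361)))) (.node (.node (.node (.leaf 232710188) (.leaf 89987353)) (.node (.leaf 6586416) (.leaf 121585714))) (.node (.node (.leaf 104939568) (.leaf 86540338)) (.node (.leaf 82350766) (.leaf 100343424))))) (.node (.node (.node (.node (.leaf 113606705) (.leaf 127737240)) (.node (.leaf 299025578) (.leaf 84712949))) (.node (.node (.leaf 28180530) (.leaf 47808561)) (.node (.leaf 252084274) (.leaf 47857713)))) (.node (.node (.node (.leaf 289883205) (.leaf 127713329)) (.node (.leaf 31955841) (.leaf 270748298))) (.node (.node (.leaf 45881016) (.leaf 221200433)) (.node (.leaf 186664909) (.leaf 221319342)))))))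

/-- A Schreier factor, part 97. -/
def facCodePart97 : Janko1.Tree ℕ := (.node (.node (.node (.node (.node (.node (.leaf 160224252) (.leaf 333077520)) (.node (.leaf 11616305) (.leaf 333158350))) (.node (.node (.leaf 58183212) (.leaf 377045041)) (.node (.leaf 180165184) (.leaf 181387313)))) (.node (.node (.node (.leaf 133030240) (.leaf 234602546)) (.node (.leaf 166461490) (.leaf 238132825))) (.node (.node (.leaf 223206241) (.leaf 198787122)) (.node (.leaf 152394812) (.leaf 225267045))))) (.node (.node (.node (.node (.leaf 232276016) (.leaf 194838744)) (.node (.leaf 169951780) (.leaf 221560976))) (.node (.node (.leaf 190021681) (.leaf 189809977)) (.node (.leaf 216580145) (.leaf 213516338)))) (.node (.node (.node (.leaf 206837810) (.leaf 200458290)) (.node (.leaf 318996528) (.leaf 227000370))) (.node (.node (.leaf 372561137) (.leaf 203259954)) (.node (.leaf 233298684) (.leaf 229654578)))))) (.node (.node (.node (.node (.node (.leaf 281383022) (.leaf 173084892)) (.node (.leaf 15745074) (.leaf 371655557))) (.node (.node (.leaf 279085106) (.leaf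 327155761)) (.node (.leaf 77660722) (.leaf 327223573)))) (.node (.node (.node (.leaf 11159401) (.leaf 212844978)) (.node (.leaf 323747888) (.leaf 368721969))) (.node (.node (.leaf 279108190) (.leaf 211984488)) (.node (.leaf 11194152) (.leaf 208289842))))) (.node (.node (.node (.node (.leaf 243580978) (.leaf 234750002)) (.node (.leaf 281362482) (.leaf 194697993))) (.node (.node (.leaf 81428530) (.leaf 221398417)) (.node (.leaf 173555760) (.leaf 189733537)))) (.node (.node (.node (.leaf 1769521) (.leaf 226826016)) (.node (.leaf 223182898) (.leaf 336485573))) (.node (.node (.leaf 145544696) (.leaf 336583248)) (.node (.leaf 225575612) (.leaf 226152512)))))))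

/-- A Schreier factor, part 98. -/
def facCodePart98 : Janko1.Tree ℕ := (.node (.node (.node (.node (.node (.node (.leaf 219728885) (.leaf 159764689)) (.node (.leaf 218923056) (.leaf 363118641))) (.node (.node (.leaf 64176177) (.leaf 206422066)) (.node (.leaf 74505670) (.leaf 232970240)))) (.node (.node (.node (.leaf 30646368) (.leaf 237181868)) (.node (.leaf 98041904) (.leaf 223739954))) (.node (.node (.leaf 66634450) (.leaf 193118258)) (.node (.leaf 6275120) (.leaf 219578417))))) (.node (.node (.node (.node (.leaf 104628272) (.leaf 331989041)) (.node (.leaf 127385650) (.leaf 375996429))) (.node (.node (.leaf 128915942) (.leaf 179617841)) (.node (.leaf 64168173) (.leaf 179699761)))) (.node (.node (.node (.leaf 205659364) (.leaf 174669873)) (.node (.leaf 299276250) (.leaf 372785201))) (.node (.node (.leaf 231899185) (.leaf 372834353)) (.node (.leaf 195453096) (.leaf 328470197)))))) (.node (.node (.node (.node (.node (.leaf 303715912) (.leaf 214454017)) (.node (.leaf 222085169) (.leaf 214537552))) (.node (.node (.leaf 207360714) (.leaf 218158477))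 (.node (.leaf 362561586) (.leaf 202260482)))) (.node (.node (.node (.leaf 210820570) (.leaf 228656006)) (.node (.leaf 157026794) (.leaf 204981600))) (.node (.node (.leaf 307953712) (.leaf 206618674)) (.node (.leaf 241735638) (.leaf 219660338))))) (.node (.node (.node (.node (.leaf 294780976) (.leaf 197148722)) (.node (.leaf 238002497) (.leaf 223920178))) (.node (.node (.leaf 157089842) (.leaf 166288538)) (.node (.leaf 207323186) (.leaf 232869548)))) (.node (.node (.node (.leaf 154066149) (.leaf 340787693)) (.node (.leaf 324370482) (.leaf 340889341))) (.node (.node (.leaf 90070465) (.leaf 337608753)) (.node (.leaf 58428897) (.leaf 227790534)))))))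

/-- A Schreier factor, part 99. -/
def facCodePart99 : Janko1.Tree ℕ := (.node (.node (.node (.node (.node (.node (.leaf 18112721) (.leaf 227819878)) (.node (.leaf 55820337) (.leaf 161267761))) (.node (.node (.leaf 82116656) (.leaf 161316913)) (.node (.leaf 50004016) (.leaf 364139216)))) (.node (.node (.node (.leaf 127369476) (.leaf 188768636)) (.node (.leaf 120708149) (.leaf 191430706))) (.node (.node (.leaf 131766060) (.leaf 205160510)) (.node (.leaf 15632340) (.leaf 231507414))))) (.node (.node (.node (.node (.leaf 80731149) (.leaf 76284985)) (.node (.leaf 309903408) (.leaf 107468253))) (.node (.node (.leaf 111935537) (.leaf 103972914)) (.node (.leaf 92640949) (.leaf 88604722)))) (.node (.node (.node (.leaf 376504368) (.leaf 91979826)) (.node (.leaf 140789786) (.leaf 302043785))) (.node (.node (.leaf 354009138) (.leaf 257392689)) (.node (.leaf 197608717) (.leaf 257464034)))))) (.node (.node (.node (.node (.node (.leaf 143973592) (.leaf 103580984)) (.node (.leaf 317751346) (.leaf 103634450))) (.node (.node (.leaf 181406020) (.leaf 305306062))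 (.node (.leaf 115392562) (.leaf 94044210)))) (.node (.node (.node (.leaf 139411504) (.leaf 125485106)) (.node (.leaf 51920946) (.leaf 130318386))) (.node (.node (.leaf 111363260) (.leaf 82513017)) (.node (.leaf 145801264) (.leaf 113852466))))) (.node (.node (.node (.node (.leaf 225853488) (.leaf 78282802)) (.node (.leaf 47783994) (.leaf 109461554))) (.node (.node (.leaf 174702641) (.leaf 72974386)) (.node (.leaf 206929968) (.leaf 104120370)))) (.node (.node (.node (.leaf 147474230) (.leaf 107284346)) (.node (.leaf 186957872) (.leaf 123636496))) (.node (.node (.leaf 160501706) (.leaf 88464766)) (.node (.leaf 144179249) (.leaf 119996466)))))))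

/-- A Schreier factor, part 100. -/
def facCodePart100 : Janko1.Tree ℕ := (.node (.node (.node (.node (.node (.node (.leaf 111379746) (.leaf 266230276)) (.node (.leaf 152783813) (.leaf 266272817))) (.node (.node (.leaf 232538160) (.leaf 119521329)) (.node (.leaf 47809893) (.leaf 119604812)))) (.node (.node (.node (.leaf 212506657) (.leaf 293077041)) (.node (.leaf 100450353) (.leaf 296391649))) (.node (.node (.leaf 372260912) (.leaf 45924401)) (.node (.leaf 132357133) (.leaf 46013633))))) (.node (.node (.node (.node (.leaf 367972948) (.leaf 269778993)) (.node (.leaf 353982734) (.leaf 98457986))) (.node (.node (.leaf 143925318) (.leaf 94143429)) (.node (.leaf 317708017) (.leaf 125599794)))) (.node (.node (.node (.leaf 351797298) (.leaf 78086194)) (.node (.leaf 194232370) (.leaf 109346866))) (.node (.node (.leaf 352878641) (.leaf 111968306)) (.node (.leaf 117594125) (.leaf 128385074)))))) (.node (.node (.node (.node (.node (.leaf 225886257) (.leaf 35422257)) (.node (.leaf 52878498) (.leaf 246535920))) (.node (.node (.leaf 84773312) (.leaf 84068657))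 (.node (.leaf 322919597) (.leaf 249612465)))) (.node (.node (.node (.leaf 273994309) (.leaf 276366748)) (.node (.leaf 376733745) (.leaf 276382966))) (.node (.node (.leaf 101959042) (.leaf 89917617)) (.node (.leaf 160320220) (.leaf 70926374))))) (.node (.node (.node (.node (.leaf 213391934) (.leaf 105374018)) (.node (.leaf 189087793) (.leaf 121602157))) (.node (.node (.leaf 215884146) (.leaf 86495989)) (.node (.leaf 309136194) (.leaf 90378646)))) (.node (.node (.node (.leaf 36323376) (.leaf 101930450)) (.node (.leaf 264689697) (.leaf 112152109))) (.node (.node (.leaf 242778161) (.leaf 99860530)) (.node (.leaf 117260732) (.leaf 132383657)))))))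

/-- A Schreier factor, part 101. -/
def facCodePart101 : Janko1.Tree ℕ := (.node (.node (.node (.node (.node (.node (.leaf 20578352) (.leaf 96026674)) (.node (.leaf 88981553) (.leaf 255328677))) (.node (.node (.leaf 120750129) (.leaf 99831068)) (.node (.leaf 37801346) (.leaf 18550884)))) (.node (.node (.node (.leaf 102088754) (.leaf 281919537)) (.node (.leaf 5477197) (.leaf 281952305))) (.node (.node (.leaf 23728016) (.leaf 18535893)) (.node (.leaf 238329870) (.leaf 99818129))))) (.node (.node (.node (.node (.leaf 247436898) (.leaf 197967921)) (.node (.leaf 360759344) (.leaf 157777969))) (.node (.node (.leaf 301383729) (.leaf 157814784)) (.node (.leaf 156336176) (.leaf 198000689)))) (.node (.node (.node (.leaf 177127474) (.leaf 208126002)) (.node (.leaf 230249282) (.leaf 238214252))) (.node (.node (.leaf 81395761) (.leaf 225296434)) (.node (.leaf 113003869) (.leaf 194756658)))))) (.node (.node (.node (.node (.node (.leaf 320536626) (.leaf 198328370)) (.node (.leaf 48601278) (.leaf 235391624))) (.node (.node (.leaf 352141360) (.leaf 203898930))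 (.node (.leaf 309116977) (.leaf 190125197)))) (.node (.node (.node (.leaf 327172145) (.leaf 213188658)) (.node (.leaf 223281200) (.leaf 216432690))) (.node (.node (.leaf 363593777) (.leaf 200382109)) (.node (.leaf 208961585) (.leaf 189532376))))) (.node (.node (.node (.node (.leaf 235702612) (.leaf 311427730)) (.node (.leaf 122117668) (.leaf 149356974))) (.node (.node (.leaf 19569014) (.leaf 149372977)) (.node (.leaf 249469425) (.leaf 311419066)))) (.node (.node (.node (.leaf 320297746) (.leaf 144310321)) (.node (.leaf 338624561) (.leaf 353173553))) (.node (.node (.leaf 192217474) (.leaf 222200773)) (.node (.leaf 219009816) (.leaf 198115378)))))))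

/-- A Schreier factor, part 102. -/
def facCodePart102 : Janko1.Tree ℕ := (.node (.node (.node (.node (.node (.node (.leaf 54607922) (.leaf 211648562)) (.node (.leaf 247390610) (.leaf 194628766))) (.node (.node (.leaf 283115570) (.leaf 225384422)) (.node (.leaf 240851056) (.leaf 187157246)))) (.node (.node (.node (.leaf 334270672) (.leaf 229855601)) (.node (.leaf 351920318) (.leaf 200245298))) (.node (.node (.leaf 276889649) (.leaf 226476082)) (.node (.leaf 223019056) (.leaf 213057586))))) (.node (.node (.node (.node (.leaf 142770224) (.leaf 190283826)) (.node (.leaf 93421617) (.leaf 136740913))) (.node (.node (.leaf 125091889) (.leaf 347406385)) (.node (.leaf 318211454) (.leaf 347425632)))) (.node (.node (.node (.leaf 354566716) (.leaf 136726282)) (.node (.leaf 61030449) (.leaf 203112497))) (.node (.node (.leaf 239425134) (.leaf 206363860)) (.node (.leaf 269425164) (.leaf 223812586)))))) (.node (.node (.node (.node (.node (.leaf 293224497) (.leaf 196432262)) (.node (.leaf 275612761) (.leaf 220201234))) (.node (.node (.leaf 28819504) (.leaf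 209754046)) (.node (.leaf 39848620) (.leaf 196124025)))) (.node (.node (.node (.leaf 103732625) (.leaf 316163628)) (.node (.leaf 131407800) (.leaf 156272978))) (.node (.node (.leaf 239403058) (.leaf 156291388)) (.node (.leaf 260554800) (.leaf 191266865))))) (.node (.node (.node (.node (.leaf 278282288) (.leaf 312655921)) (.node (.leaf 319299130) (.leaf 357619516))) (.node (.node (.leaf 337838129) (.leaf 151177528)) (.node (.leaf 373589301) (.leaf 312639537)))) (.node (.node (.node (.leaf 197525553) (.leaf 227967026)) (.node (.leaf 224493617) (.leaf 205586482))) (.node (.node (.leaf 161841358) (.leaf 191942686)) (.node (.leaf 214960658) (.leaf 214811250)))))))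

/-- A Schreier factor, part 103. -/
def facCodePart103 : Janko1.Tree ℕ := (.node (.node (.node (.node (.node (.node (.leaf 44597296) (.leaf 218169394)) (.node (.leaf 76913913) (.leaf 188588354))) (.node (.node (.leaf 346308658) (.leaf 231408858)) (.node (.leaf 269697072) (.leaf 220348466)))) (.node (.node (.node (.leaf 367083569) (.leaf 192921650)) (.node (.leaf 349536305) (.leaf 223952946))) (.node (.node (.leaf 165183538) (.leaf 142677513)) (.node (.leaf 61079600) (.leaf 352092209))))) (.node (.node (.node (.node (.leaf 278040758) (.leaf 348608066)) (.node (.leaf 107683496) (.leaf 218044633))) (.node (.node (.leaf 2692541) (.leaf 214667844)) (.node (.leaf 12572160) (.leaf 192054434)))) (.node (.node (.node (.leaf 347258928) (.leaf 92572973)) (.node (.leaf 246286024) (.leaf 76693554))) (.node (.node (.leaf 263902689) (.leaf 103653052)) (.node (.leaf 216088624) (.leaf 107511858)))))) (.node (.node (.node (.node (.node (.leaf 136724528) (.leaf 72728626)) (.node (.leaf 282544854) (.leaf 123559817))) (.node (.node (.leaf 119046193) (.leaf 242207665))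 (.node (.leaf 228624904) (.leaf 27008345)))) (.node (.node (.node (.leaf 54902833) (.leaf 27017332)) (.node (.leaf 338812085) (.leaf 289572826))) (.node (.node (.leaf 229720112) (.leaf 245571402)) (.node (.leaf 56658074) (.leaf 93968569))))) (.node (.node (.node (.node (.leaf 187342230) (.leaf 113926542)) (.node (.leaf 214046181) (.leaf 78200882))) (.node (.node (.leaf 248369720) (.leaf 81975226)) (.node (.leaf 284019188) (.leaf 109955005)))) (.node (.node (.node (.leaf 314818609) (.leaf 72876082)) (.node (.leaf 329827760) (.leaf 123732018))) (.node (.node (.leaf 347544173) (.leaf 88408114)) (.node (.leaf 351567921) (.leaf 119636018)))))))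

/-- A Schreier factor, part 104. -/
def facCodePart104 : Janko1.Tree ℕ := (.node (.node (.node (.node (.node (.node (.leaf 136957186) (.leaf 76795334)) (.node (.leaf 204115026) (.leaf 9502769))) (.node (.node (.leaf 250708018) (.leaf 277332017)) (.node (.leaf 286213045) (.leaf 9486385)))) (.node (.node (.node (.leaf 338576188) (.leaf 254187112)) (.node (.leaf 356368432) (.leaf 97913328))) (.node (.node (.leaf 252969009) (.leaf 16482353)) (.node (.leaf 229463220) (.leaf 280873549))))) (.node (.node (.node (.node (.leaf 149377974) (.leaf 16469561)) (.node (.leaf 75613306) (.leaf 110153072))) (.node (.node (.leaf 106987569) (.leaf 81838388)) (.node (.leaf 178733106) (.leaf 97928105)))) (.node (.node (.node (.leaf 231869145) (.leaf 126156850)) (.node (.leaf 8257585) (.leaf 94076978))) (.node (.node (.leaf 358039602) (.leaf 114032690)) (.node (.leaf 365381493) (.leaf 132518177)))))) (.node (.node (.node (.node (.node (.leaf 52772912) (.leaf 115867698)) (.node (.leaf 11763760) (.leaf 263946289))) (.node (.node (.leaf 117637710) (.leaf 308419750))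 (.node (.leaf 316348004) (.leaf 308403200)))) (.node (.node (.node (.leaf 92751789) (.leaf 121559336)) (.node (.leaf 329451584) (.leaf 41787774))) (.node (.node (.leaf 36244798) (.leaf 41848977)) (.node (.leaf 186798350) (.leaf 41834078))))) (.node (.node (.node (.node (.leaf 137118492) (.leaf 121541269)) (.node (.leaf 348127281) (.leaf 89966557))) (.node (.node (.leaf 287129648) (.leaf 86168945)) (.node (.leaf 256262192) (.leaf 101859378)))) (.node (.node (.node (.leaf 23642161) (.leaf 112039252)) (.node (.leaf 44482609) (.leaf 96550962))) (.node (.node (.leaf 120544904) (.leaf 132218930)) (.node (.leaf 77349928) (.leaf 84673517)))))))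

/-- A Schreier factor, part 105. -/
def facCodePart105 : Janko1.Tree ℕ := (.node (.node (.node (.node (.node (.node (.leaf 285130801) (.leaf 272842801)) (.node (.leaf 267075633) (.leaf 299893568))) (.node (.node (.leaf 278140481) (.leaf 272881620)) (.node (.leaf 53051441) (.leaf 335331377)))) (.node (.node (.node (.leaf 15156652) (.leaf 379487100)) (.node (.leaf 203800626) (.leaf 379453489))) (.node (.node (.leaf 112809098) (.leaf 335401261)) (.node (.leaf 347342184) (.leaf 195238770))))) (.node (.node (.node (.node (.leaf 264867649) (.leaf 199822069)) (.node (.leaf 52854834) (.leaf 226328709))) (.node (.node (.leaf 120422450) (.leaf 186630301)) (.node (.leaf 21266482) (.leaf 189792669)))) (.node (.node (.node (.leaf 90480765) (.leaf 229643865)) (.node (.leaf 361341057) (.leaf 216095437))) (.node (.node (.leaf 334419562) (.leaf 176394618)) (.node (.leaf 356712496) (.leaf 216105009)))))) (.node (.node (.node (.node (.node (.leaf 309346353) (.leaf 216170545)) (.node (.leaf 116228146) (.leaf 370835505))) (.node (.node (.leaf 300995244) (.leaf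 370890610)) (.node (.leaf 202473521) (.leaf 343982817)))) (.node (.node (.node (.leaf 350224433) (.leaf 195413370)) (.node (.leaf 236585008) (.leaf 222108496))) (.node (.node (.leaf 136921136) (.leaf 208699442)) (.node (.leaf 347602992) (.leaf 198918194))))) (.node (.node (.node (.node (.leaf 320478749) (.leaf 225345586)) (.node (.leaf 40730673) (.leaf 189710386))) (.node (.node (.leaf 372038868) (.leaf 216236426)) (.node (.leaf 338755634) (.leaf 203413144)))) (.node (.node (.node (.leaf 27922016) (.leaf 229772522)) (.node (.leaf 150227546) (.leaf 186499122))) (.node (.node (.leaf 149241904) (.leaf 229457969)) (.node (.leaf 287703245) (.leaf 162938929)))))))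

/-- A Schreier factor, part 106. -/
def facCodePart106 : Janko1.Tree ℕ := (.node (.node (.node (.node (.node (.node (.leaf 356458816) (.leaf 162925178)) (.node (.leaf 269682192) (.leaf 229441585))) (.node (.node (.leaf 334184496) (.leaf 229525186)) (.node (.leaf 38305841) (.leaf 210501682)))) (.node (.node (.node (.leaf 292831282) (.leaf 237164682)) (.node (.leaf 259096626) (.leaf 196984882))) (.node (.node (.leaf 33767473) (.leaf 223723570)) (.node (.leaf 72450098) (.leaf 220135474))))) (.node (.node (.node (.node (.leaf 1561128) (.leaf 334336414)) (.node (.leaf 273743920) (.leaf 378077233))) (.node (.node (.leaf 239632433) (.leaf 378162720)) (.node (.leaf 44552157) (.leaf 217825329)))) (.node (.node (.node (.leaf 84893014) (.leaf 177897521)) (.node (.leaf 138641458) (.leaf 177913905))) (.node (.node (.leaf 224336617) (.leaf 177986837)) (.node (.leaf 188334130) (.leaf 217841930)))))) (.node (.node (.node (.node (.node (.leaf 353766473) (.leaf 201482236)) (.node (.leaf 260474854) (.leaf 218127973))) (.node (.node (.leaf 282976240) (.leaf 204970032))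 (.node (.leaf 328269874) (.leaf 193773618)))) (.node (.node (.node (.leaf 69124230) (.leaf 207028274)) (.node (.leaf 366417281) (.leaf 233553970))) (.node (.node (.leaf 135577650) (.leaf 210307280)) (.node (.leaf 234014168) (.leaf 237010994))))) (.node (.node (.node (.node (.leaf 190880754) (.leaf 197135065)) (.node (.leaf 191663481) (.leaf 223903794))) (.node (.node (.leaf 360531413) (.leaf 342871429)) (.node (.leaf 125700394) (.leaf 342956248)))) (.node (.node (.node (.leaf 269620004) (.leaf 369804516)) (.node (.leaf 274055216) (.leaf 342892605))) (.node (.node (.leaf 312967217) (.leaf 342966321)) (.node (.leaf 295075890) (.leaf 231214758)))))))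

/-- A Schreier factor, part 107. -/
def facCodePart107 : Janko1.Tree ℕ := (.node (.node (.node (.node (.node (.node (.leaf 12470384) (.leaf 164713194)) (.node (.leaf 91177444) (.leaf 164632325))) (.node (.node (.leaf 76432046) (.leaf 164699576)) (.node (.leaf 110428209) (.leaf 231194673)))) (.node (.node (.node (.leaf 304517848) (.leaf 217964128)) (.node (.leaf 109270968) (.leaf 231493733))) (.node (.node (.leaf 250584778) (.leaf 228050830)) (.node (.leaf 339771442) (.leaf 87967964))))) (.node (.node (.node (.node (.leaf 83379145) (.leaf 91952378)) (.node (.leaf 202080882) (.leaf 123453490))) (.node (.node (.leaf 284434270) (.leaf 107429937)) (.node (.leaf 156287024) (.leaf 60211249)))) (.node (.node (.node (.leaf 300318769) (.leaf 60309553)) (.node (.leaf 360846968) (.leaf 107446321))) (.node (.node (.leaf 118292624) (.leaf 262816202)) (.node (.leaf 210796593) (.leaf 307498208)))))) (.node (.node (.node (.node (.node (.leaf 27476018) (.leaf 262799409)) (.node (.leaf 213844017) (.leaf 262888502))) (.node (.node (.leaf 143004166) (.leaf 98549810))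 (.node (.leaf 346655777) (.leaf 82497712)))) (.node (.node (.node (.leaf 229802032) (.leaf 113839056)) (.node (.leaf 338724117) (.leaf 126228980))) (.node (.node (.leaf 122428654) (.leaf 76169266)) (.node (.leaf 304357074) (.leaf 107266098))))) (.node (.node (.node (.node (.leaf 194002993) (.leaf 88087405)) (.node (.leaf 23511090) (.leaf 72239930))) (.node (.node (.leaf 230441009) (.leaf 103481394)) (.node (.leaf 156467248) (.leaf 123586698)))) (.node (.node (.node (.leaf 369262641) (.leaf 123691422)) (.node (.leaf 358121521) (.leaf 43810865))) (.node (.node (.leaf 315084942) (.leaf 43884626)) (.node (.leaf 329760816) (.leaf 123650097)))))))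

/-- A Schreier factor, part 108. -/
def facCodePart108 : Janko1.Tree ℕ := (.node (.node (.node (.node (.node (.node (.leaf 337723442) (.leaf 272039985)) (.node (.leaf 8179360) (.leaf 272121905))) (.node (.node (.leaf 63406129) (.leaf 298778673)) (.node (.leaf 106807525) (.leaf 298844209)))) (.node (.node (.node (.leaf 95460368) (.leaf 272056369)) (.node (.leaf 277807153) (.leaf 78840948))) (.node (.node (.leaf 108432192) (.leaf 270696498)) (.node (.leaf 19644464) (.leaf 244367410))))) (.node (.node (.node (.node (.leaf 172821054) (.leaf 255262770)) (.node (.leaf 316866609) (.leaf 80642097))) (.node (.node (.leaf 296452144) (.leaf 288937040)) (.node (.leaf 345137017) (.leaf 247939121)))) (.node (.node (.node (.leaf 152505485) (.leaf 2409250)) (.node (.leaf 163282994) (.leaf 247857201))) (.node (.node (.leaf 376230370) (.leaf 265101232)) (.node (.leaf 347488305) (.leaf 238649394)))))) (.node (.node (.node (.node (.node (.leaf 240734740) (.leaf 244834254)) (.node (.leaf 19357622) (.leaf 246300722))) (.node (.node (.leaf 376882) (.leaf 273043502))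 (.node (.leaf 273780837) (.leaf 271358388)))) (.node (.node (.node (.leaf 41926789) (.leaf 255843241)) (.node (.leaf 10787349) (.leaf 261706492))) (.node (.node (.leaf 267583537) (.leaf 96473540)) (.node (.leaf 45432880) (.leaf 280133681))))) (.node (.node (.node (.node (.leaf 243466289) (.leaf 14555838)) (.node (.leaf 247257274) (.leaf 280035377))) (.node (.node (.leaf 296108081) (.leaf 96534577)) (.node (.leaf 356728882) (.leaf 194969649)))) (.node (.node (.node (.leaf 318390322) (.leaf 155140145)) (.node (.leaf 20155210) (.leaf 360352089))) (.node (.node (.leaf 49307366) (.leaf 315379968)) (.node (.leaf 209551408) (.leaf 315277362)))))))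

/-- A Schreier factor, part 109. -/
def facCodePart109 : Janko1.Tree ℕ := (.node (.node (.node (.node (.node (.node (.leaf 300944720) (.leaf 333923418)) (.node (.leaf 280613910) (.leaf 324894770))) (.node (.node (.leaf 325210234) (.leaf 326442298)) (.node (.leaf 247567581) (.leaf 318193714)))) (.node (.node (.node (.leaf 24100914) (.leaf 330417985)) (.node (.leaf 284950578) (.leaf 327581746))) (.node (.node (.leaf 54493234) (.leaf 311742506)) (.node (.leaf 182506636) (.leaf 309952562))))) (.node (.node (.node (.node (.leaf 132857905) (.leaf 337379378)) (.node (.leaf 343490609) (.leaf 309772337))) (.node (.node (.leaf 176443273) (.leaf 146473009)) (.node (.leaf 309941190) (.leaf 354664497)))) (.node (.node (.node (.leaf 360775729) (.leaf 354582577)) (.node (.leaf 316325936) (.leaf 146341937))) (.node (.node (.leaf 363135805) (.leaf 309840010)) (.node (.leaf 19693618) (.leaf 351388204)))))) (.node (.node (.node (.node (.node (.leaf 282922754) (.leaf 141574193)) (.node (.leaf 118064422) (.leaf 208410076))) (.node (.node (.leaf 332415025) (.leaf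 315785266)) (.node (.leaf 209805537) (.leaf 317131582)))) (.node (.node (.node (.leaf 321060913) (.leaf 342591270)) (.node (.leaf 365630382) (.leaf 333316146))) (.node (.node (.leaf 373948465) (.leaf 336272846)) (.node (.leaf 104218673) (.leaf 328187954))))) (.node (.node (.node (.node (.leaf 354402354) (.leaf 329826354)) (.node (.leaf 227053937) (.leaf 336840806))) (.node (.node (.leaf 177030666) (.leaf 309398566)) (.node (.leaf 241698717) (.leaf 318488738)))) (.node (.node (.node (.leaf 374003834) (.leaf 133906481)) (.node (.leaf 294158385) (.leaf 345693454))) (.node (.node (.leaf 287064113) (.leaf 318406705)) (.node (.leaf 2883634) (.leaf 341049394)))))))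

/-- A Schreier factor, part 110. -/
def facCodePart110 : Janko1.Tree ℕ := (.node (.node (.node (.node (.node (.node (.leaf 274874418) (.leaf 343916594)) (.node (.leaf 3407921) (.leaf 334569142))) (.node (.node (.leaf 43945602) (.leaf 323700613)) (.node (.leaf 67502129) (.leaf 325304370)))) (.node (.node (.node (.leaf 240189846) (.leaf 193303185)) (.node (.leaf 273285169) (.leaf 153370673))) (.node (.node (.leaf 93732912) (.leaf 359186481)) (.node (.leaf 291602480) (.leaf 359317805))))) (.node (.node (.node (.node (.leaf 292787124) (.leaf 153442409)) (.node (.leaf 312606770) (.leaf 310659190))) (.node (.node (.leaf 116350408) (.leaf 148095025)) (.node (.leaf 346144818) (.leaf 355876913)))) (.node (.node (.node (.leaf 164988138) (.leaf 355813465)) (.node (.leaf 171278385) (.leaf 148013105))) (.node (.node (.leaf 147275825) (.leaf 188334202)) (.node (.leaf 78078053) (.leaf 322456938)))))) (.node (.node (.node (.node (.node (.leaf 320159793) (.leaf 328941618)) (.node (.leaf 353255473) (.leaf 312918937))) (.node (.node (.leaf 373063729) (.leaf 339902514))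 (.node (.leaf 27967536) (.leaf 316211250)))) (.node (.node (.node (.leaf 100764412) (.leaf 343346088)) (.node (.leaf 348454962) (.leaf 341643818))) (.node (.node (.leaf 181149780) (.leaf 323158872)) (.node (.leaf 218415430) (.leaf 335153416))))) (.node (.node (.node (.node (.leaf 342526700) (.leaf 206684209)) (.node (.leaf 37339184) (.leaf 350295300))) (.node (.node (.leaf 313507889) (.leaf 140074900)) (.node (.leaf 359989297) (.leaf 139988020)))) (.node (.node (.node (.leaf 366673969) (.leaf 206733361)) (.node (.leaf 277006188) (.leaf 319635722))) (.node (.node (.leaf 239555550) (.leaf 346643257)) (.node (.leaf 10223664) (.leaf 135348273)))))))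

/-- A Schreier factor, part 111. -/
def facCodePart111 : Janko1.Tree ℕ := (.node (.node (.node (.node (.node (.node (.leaf 53755952) (.leaf 329433138)) (.node (.leaf 251219976) (.leaf 331095089))) (.node (.node (.leaf 77792344) (.leaf 319982377)) (.node (.leaf 300701118) (.leaf 340494445)))) (.node (.node (.node (.leaf 304070705) (.leaf 337952818)) (.node (.leaf 279151201) (.leaf 310476850))) (.node (.node (.leaf 242950410) (.leaf 313462320)) (.node (.leaf 86921610) (.leaf 251420909))))) (.node (.node (.node (.node (.leaf 114114609) (.leaf 260096050)) (.node (.leaf 355663922) (.leaf 257474610))) (.node (.node (.leaf 178569266) (.leaf 242229553)) (.node (.leaf 17809457) (.leaf 266944562)))) (.node (.node (.node (.leaf 228753806) (.leaf 268582962)) (.node (.leaf 266800605) (.leaf 240291817))) (.node (.node (.leaf 247006824) (.leaf 284459076)) (.node (.leaf 283828450) (.leaf 284360753)))))) (.node (.node (.node (.node (.node (.leaf 311410736) (.leaf 23363633)) (.node (.leaf 21856306) (.leaf 243712049))) (.node (.node (.leaf 90751026) (.leaf 287670321))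 (.node (.leaf 157012873) (.leaf 287740388)))) (.node (.node (.node (.leaf 120176690) (.leaf 29442097)) (.node (.leaf 160865106) (.leaf 243597361))) (.node (.node (.leaf 169836592) (.leaf 269664306)) (.node (.leaf 203210800) (.leaf 243154994))))) (.node (.node (.node (.node (.leaf 370114608) (.leaf 262864946)) (.node (.leaf 379322417) (.leaf 261193778))) (.node (.node (.leaf 346117389) (.leaf 252517481)) (.node (.leaf 320684080) (.leaf 254017586)))) (.node (.node (.node (.leaf 26035833) (.leaf 257949746)) (.node (.leaf 286081074) (.leaf 259440690))) (.node (.node (.leaf 248463410) (.leaf 250889445)) (.node (.leaf 86774282) (.leaf 248905778)))))))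

/-- A Schreier factor, part 112. -/
def facCodePart112 : Janko1.Tree ℕ := (.node (.node (.node (.node (.node (.node (.leaf 56459314) (.leaf 239732500)) (.node (.leaf 315588657) (.leaf 248922161))) (.node (.node (.leaf 189726768) (.leaf 4980785)) (.node (.leaf 378355760) (.leaf 5099656)))) (.node (.node (.node (.leaf 368624636) (.leaf 275808305)) (.node (.leaf 311738416) (.leaf 88375345))) (.node (.node (.leaf 319443621) (.leaf 94556568)) (.node (.leaf 75140944) (.leaf 252366616))))) (.node (.node (.node (.node (.leaf 126374922) (.leaf 278954033)) (.node (.leaf 175462437) (.leaf 12162901))) (.node (.node (.leaf 260071553) (.leaf 243798100)) (.node (.leaf 202948656) (.leaf 245284914)))) (.node (.node (.node (.leaf 306284238) (.leaf 263471154)) (.node (.leaf 243209516) (.leaf 255967282))) (.node (.node (.leaf 316719153) (.leaf 246513714)) (.node (.leaf 335036465) (.leaf 262166354)))))) (.node (.node (.node (.node (.node (.leaf 169279537) (.leaf 262242353)) (.node (.leaf 10657880) (.leaf 64815762))) (.node (.node (.leaf 305332272) (.leaf 117964849))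 (.node (.leaf 93978672) (.leaf 292323377)))) (.node (.node (.node (.leaf 133873714) (.leaf 239337522)) (.node (.leaf 186897222) (.leaf 258261042))) (.node (.node (.leaf 124502064) (.leaf 267862066)) (.node (.leaf 296124464) (.leaf 272941106))))) (.node (.node (.node (.node (.leaf 243253362) (.leaf 244271049)) (.node (.leaf 45500409) (.leaf 261619762))) (.node (.node (.leaf 2070533) (.leaf 298012349)) (.node (.leaf 44851345) (.leaf 298106929)))) (.node (.node (.node (.leaf 10883388) (.leaf 48300081)) (.node (.leaf 70697397) (.leaf 48365617))) (.node (.node (.leaf 36161101) (.leaf 271322881)) (.node (.leaf 10328748) (.leaf 128139313)))))))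

/-- A Schreier factor, part 113. -/
def facCodePart113 : Janko1.Tree ℕ := (.node (.node (.node (.node (.node (.node (.leaf 365335133) (.leaf 333660209)) (.node (.leaf 189317168) (.leaf 181803054))) (.node (.node (.leaf 150036341) (.leaf 324226753)) (.node (.leaf 203933786) (.leaf 344791381)))) (.node (.node (.node (.leaf 84908968) (.leaf 335649177)) (.node (.leaf 363053105) (.leaf 312246322))) (.node (.node (.leaf 374177840) (.leaf 330342436)) (.node (.leaf 320733232) (.leaf 309676073))))) (.node (.node (.node (.node (.leaf 309790733) (.leaf 318963762)) (.node (.leaf 203161648) (.leaf 320651314))) (.node (.node (.leaf 132959146) (.leaf 372084481)) (.node (.leaf 267409882) (.leaf 213262374)))) (.node (.node (.node (.leaf 57033225) (.leaf 213353456)) (.node (.leaf 120266468) (.leaf 327663665))) (.node (.node (.leaf 303043466) (.leaf 327745585)) (.node (.leaf 365528269) (.leaf 369204096)))))) (.node (.node (.node (.node (.node (.leaf 311820336) (.leaf 168411185)) (.node (.leaf 356630577) (.leaf 168460337))) (.node (.node (.leaf 320815153) (.leaf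 342229041)) (.node (.leaf 189635624) (.leaf 234889340)))) (.node (.node (.node (.leaf 339165233) (.leaf 234995761)) (.node (.leaf 265012193) (.leaf 315179058))) (.node (.node (.leaf 52990996) (.leaf 333221594)) (.node (.leaf 116080690) (.leaf 317935697))))) (.node (.node (.node (.node (.leaf 294079442) (.leaf 310181938)) (.node (.leaf 373937912) (.leaf 328107622))) (.node (.node (.leaf 276437017) (.leaf 329761686)) (.node (.leaf 241500209) (.leaf 321224754)))) (.node (.node (.node (.leaf 176278621) (.leaf 339312690)) (.node (.leaf 41111549) (.leaf 226531106))) (.node (.node (.leaf 200480260) (.leaf 336920625)) (.node (.leaf 73130009) (.leaf 160272668)))))))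

/-- A Schreier factor, part 114. -/
def facCodePart114 : Janko1.Tree ℕ := (.node (.node (.node (.node (.node (.node (.leaf 104431665) (.leaf 363495473)) (.node (.leaf 371900466) (.leaf 363580000))) (.node (.node (.leaf 291508358) (.leaf 340967474)) (.node (.leaf 238518320) (.leaf 326090802)))) (.node (.node (.node (.leaf 240016612) (.leaf 316394766)) (.node (.leaf 69931521) (.leaf 314574222))) (.node (.node (.leaf 257628338) (.leaf 332586182)) (.node (.leaf 4653780) (.leaf 332341220))))) (.node (.node (.node (.node (.leaf 38666289) (.leaf 332431409)) (.node (.leaf 72638584) (.leaf 220028520))) (.node (.node (.leaf 38289458) (.leaf 376422449)) (.node (.leaf 351197) (.leaf 180084368)))) (.node (.node (.node (.leaf 300926632) (.leaf 175214337)) (.node (.leaf 319918698) (.leaf 214899378))) (.node (.node (.leaf 54116400) (.leaf 214958129)) (.node (.leaf 85938088) (.leaf 329024677)))))) (.node (.node (.node (.node (.node (.leaf 135352813) (.leaf 313401708)) (.node (.leaf 147341361) (.leaf 310640690))) (.node (.node (.leaf 188497970) (.leaf 328810546))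 (.node (.leaf 328466482) (.leaf 320225330)))) (.node (.node (.node (.leaf 364036146) (.leaf 339838661)) (.node (.leaf 366614858) (.leaf 325517362))) (.node (.node (.leaf 238780464) (.leaf 323604694)) (.node (.leaf 348913713) (.leaf 341557786))))) (.node (.node (.node (.node (.leaf 137936945) (.leaf 166674481)) (.node (.leaf 191809528) (.leaf 166761725))) (.node (.node (.leaf 366287692) (.leaf 233313106)) (.node (.leaf 304005169) (.leaf 228196401)))) (.node (.node (.node (.leaf 300580912) (.leaf 228294705)) (.node (.leaf 285923905) (.leaf 338074201))) (.node (.node (.leaf 251002929) (.leaf 161716586)) (.node (.leaf 85630464) (.leaf 364544049)))))))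

/-- A Schreier factor, part 115. -/
def facCodePart115 : Janko1.Tree ℕ := (.node (.node (.node (.node (.node (.node (.leaf 268927025) (.leaf 364609585)) (.node (.leaf 9551922) (.leaf 311204345))) (.node (.node (.leaf 42502021) (.leaf 340410418)) (.node (.leaf 294928434) (.leaf 337878446)))) (.node (.node (.node (.leaf 299802369) (.leaf 242647090)) (.node (.leaf 246759473) (.leaf 249151538))) (.node (.node (.leaf 264486996) (.leaf 268502554)) (.node (.leaf 148340786) (.leaf 56462944))))) (.node (.node (.node (.node (.leaf 51201466) (.leaf 56541233)) (.node (.leaf 17896165) (.leaf 302456009))) (.node (.node (.leaf 82690097) (.leaf 104005681)) (.node (.leaf 114349148) (.leaf 257736753)))) (.node (.node (.node (.leaf 373021732) (.leaf 257822553)) (.node (.leaf 379191345) (.leaf 261128241))) (.node (.node (.leaf 370016304) (.leaf 261210161)) (.node (.leaf 362037297) (.leaf 109969457)))))) (.node (.node (.node (.node (.node (.leaf 196303121) (.leaf 62723292)) (.node (.leaf 344522801) (.leaf 62791377))) (.node (.node (.leaf 23382388) (.leaf 251887861))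 (.node (.leaf 184043628) (.leaf 269584557)))) (.node (.node (.node (.leaf 157177337) (.leaf 254804018)) (.node (.leaf 118117017) (.leaf 243686361))) (.node (.node (.leaf 301977114) (.leaf 261095474)) (.node (.leaf 368545176) (.leaf 240518368))))) (.node (.node (.node (.node (.leaf 325491030) (.leaf 242143608)) (.node (.leaf 350961713) (.leaf 259358770))) (.node (.node (.leaf 183192934) (.leaf 269108288)) (.node (.leaf 333725745) (.leaf 266256434)))) (.node (.node (.node (.leaf 167254761) (.leaf 120046133)) (.node (.leaf 268649372) (.leaf 40093242))) (.node (.node (.leaf 59236768) (.leaf 40157372)) (.node (.leaf 122241074) (.leaf 293421105)))))))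

/-- A Schreier factor, part 116. -/
def facCodePart116 : Janko1.Tree ℕ := (.node (.node (.node (.node (.node (.node (.leaf 306217009) (.leaf 296861745)) (.node (.leaf 288540856) (.leaf 46335704))) (.node (.node (.leaf 253509681) (.leaf 270073905)) (.node (.leaf 30493312) (.leaf 252451534)))) (.node (.node (.node (.leaf 94896177) (.leaf 260489266)) (.node (.leaf 375267230) (.leaf 263391876))) (.node (.node (.leaf 262737389) (.leaf 297458118)) (.node (.leaf 280632552) (.leaf 282478069))))) (.node (.node (.node (.node (.leaf 16548709) (.leaf 288866354)) (.node (.leaf 202702897) (.leaf 280231985))) (.node (.node (.leaf 271933538) (.leaf 21364785)) (.node (.leaf 258359344) (.leaf 239304753)))) (.node (.node (.node (.leaf 129849077) (.leaf 70967062)) (.node (.leaf 32915504) (.leaf 239222833))) (.node (.node (.leaf 185892913) (.leaf 301498580)) (.node (.leaf 96705548) (.leaf 274120710)))))) (.node (.node (.node (.node (.node (.leaf 40599600) (.leaf 300799016)) (.node (.leaf 247144581) (.leaf 281854002))) (.node (.node (.leaf 264749285) (.leaf 298058693))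 (.node (.leaf 298982905) (.leaf 282314013)))) (.node (.node (.node (.leaf 301144665) (.leaf 288276530)) (.node (.leaf 283344945) (.leaf 308942285))) (.node (.node (.leaf 62542782) (.leaf 31399100)) (.node (.leaf 125894706) (.leaf 289112113))))) (.node (.node (.node (.node (.leaf 286967700) (.leaf 244891697)) (.node (.leaf 253722674) (.leaf 289046577))) (.node (.node (.leaf 289347434) (.leaf 31473713)) (.node (.leaf 344997936) (.leaf 141596328)))) (.node (.node (.node (.leaf 340726564) (.leaf 208601137)) (.node (.leaf 232802648) (.leaf 141660194))) (.node (.node (.leaf 153045708) (.leaf 351453233)) (.node (.leaf 121032485) (.leaf 360124933)))))))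

/-- A Schreier factor, part 117. -/
def facCodePart117 : Janko1.Tree ℕ := (.node (.node (.node (.node (.node (.node (.leaf 10603634) (.leaf 360529970)) (.node (.leaf 24025689) (.leaf 353259741))) (.node (.node (.leaf 322551857) (.leaf 357259801)) (.node (.leaf 365756465) (.leaf 356794418)))) (.node (.node (.node (.leaf 348082394) (.leaf 372473906)) (.node (.leaf 359399473) (.leaf 365483033))) (.node (.node (.leaf 50315314) (.leaf 345735217)) (.node (.leaf 113903737) (.leaf 134037553))))) (.node (.node (.node (.node (.leaf 46399538) (.leaf 200081938)) (.node (.leaf 109942401) (.leaf 318652621))) (.node (.node (.leaf 280838784) (.leaf 200168978)) (.node (.leaf 243056690) (.leaf 133922865)))) (.node (.node (.node (.leaf 317997105) (.leaf 155343809)) (.node (.leaf 315899953) (.leaf 315494796))) (.node (.node (.leaf 334307225) (.leaf 195051569)) (.node (.leaf 354844721) (.leaf 315557736)))))) (.node (.node (.node (.node (.node (.leaf 352632881) (.leaf 155435057)) (.node (.leaf 46422790) (.leaf 360644658))) (.node (.node (.leaf 50304261) (.leaf 353389980))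 (.node (.leaf 243073074) (.leaf 353763378)))) (.node (.node (.node (.leaf 278528050) (.leaf 369023560)) (.node (.leaf 245252146) (.leaf 359992405))) (.node (.node (.leaf 336461872) (.leaf 372588594)) (.node (.leaf 354107470) (.leaf 356646962))))) (.node (.node (.node (.node (.leaf 331857968) (.leaf 365576242)) (.node (.leaf 349601840) (.leaf 345899058))) (.node (.node (.leaf 146063408) (.leaf 345473074)) (.node (.leaf 219469916) (.leaf 371839648)))) (.node (.node (.node (.leaf 139640880) (.leaf 357433394)) (.node (.leaf 129373120) (.leaf 354780998))) (.node (.node (.leaf 101369721) (.leaf 186810417)) (.node (.leaf 598232) (.leaf 146578705)))))))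

/-- A Schreier factor, part 118. -/
def facCodePart118 : Janko1.Tree ℕ := (.node (.node (.node (.node (.node (.node (.leaf 289145898) (.leaf 359058849)) (.node (.leaf 105210142) (.leaf 378344652))) (.node (.node (.leaf 95174705) (.leaf 350409470)) (.node (.leaf 29687857) (.leaf 206798897)))) (.node (.node (.node (.leaf 29638733) (.leaf 140182374)) (.node (.leaf 339935281) (.leaf 135594033))) (.node (.node (.leaf 315129932) (.leaf 201858133)) (.node (.leaf 333454908) (.leaf 319848497))))) (.node (.node (.node (.node (.leaf 375750705) (.leaf 319766577)) (.node (.leaf 181933628) (.leaf 346381942))) (.node (.node (.leaf 234996168) (.leaf 367215917)) (.node (.leaf 323801668) (.leaf 357975904)))) (.node (.node (.node (.leaf 359907537) (.leaf 373588018)) (.node (.leaf 326156338) (.leaf 347095090))) (.node (.node (.leaf 362053682) (.leaf 366608434)) (.node (.leaf 328844586) (.leaf 378264574)))))) (.node (.node (.node (.node (.node (.leaf 326456353) (.leaf 352191454)) (.node (.leaf 344250437) (.leaf 368216304))) (.node (.node (.leaf 347201334) (.leaf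 367738930)) (.node (.leaf 234962994) (.leaf 193462321)))) (.node (.node (.node (.leaf 326212137) (.leaf 193365838)) (.node (.leaf 359876702) (.leaf 153666809))) (.node (.node (.leaf 267109390) (.leaf 148226097)) (.node (.leaf 280288525) (.leaf 188383958))))) (.node (.node (.node (.node (.leaf 121290800) (.leaf 188465201)) (.node (.leaf 24854576) (.leaf 310738993))) (.node (.node (.leaf 16252976) (.leaf 148193329)) (.node (.leaf 83025136) (.leaf 373719090)))) (.node (.node (.node (.leaf 114655281) (.leaf 357793842)) (.node (.leaf 118767665) (.leaf 346931250))) (.node (.node (.leaf 29627253) (.leaf 367086162)) (.node (.leaf 261773476) (.leaf 295944242)))))))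

/-- A Schreier factor, part 119. -/
def facCodePart119 : Janko1.Tree ℕ := (.node (.node (.node (.node (.node (.node (.leaf 298074161) (.leaf 286113842)) (.node (.leaf 168755250) (.leaf 275873841))) (.node (.node (.leaf 222019634) (.leaf 5278950)) (.node (.leaf 225312818) (.leaf 249135153)))) (.node (.node (.node (.leaf 351195376) (.leaf 88594210)) (.node (.leaf 317151950) (.leaf 5162746))) (.node (.node (.leaf 353476218) (.leaf 275930562)) (.node (.leaf 349865922) (.leaf 12256584))))) (.node (.node (.node (.node (.leaf 336740400) (.leaf 94786809)) (.node (.leaf 139895045) (.leaf 94703932))) (.node (.node (.leaf 146310130) (.leaf 279007986)) (.node (.leaf 190496817) (.leaf 296275750)))) (.node (.node (.node (.leaf 217187106) (.leaf 281264178)) (.node (.leaf 207291789) (.leaf 307907326))) (.node (.node (.leaf 233951257) (.leaf 287163770)) (.node (.leaf 17252402) (.leaf 307527730)))))) (.node (.node (.node (.node (.node (.leaf 82804786) (.leaf 287653938)) (.node (.leaf 79053930) (.leaf 280559666))) (.node (.node (.leaf 341052645) (.leaf 302645298))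 (.node (.leaf 358957104) (.leaf 285999154)))) (.node (.node (.node (.leaf 327385136) (.leaf 295288882)) (.node (.leaf 345325958) (.leaf 275731645))) (.node (.node (.leaf 153264428) (.leaf 275221744)) (.node (.leaf 200640714) (.leaf 23596180))))) (.node (.node (.node (.node (.leaf 197328945) (.leaf 240468017)) (.node (.leaf 224264241) (.leaf 72814326))) (.node (.node (.leaf 12885233) (.leaf 72908849)) (.node (.leaf 82762973) (.leaf 23543857)))) (.node (.node (.node (.leaf 239714353) (.leaf 243777585)) (.node (.leaf 308658225) (.leaf 78725169))) (.node (.node (.leaf 291307569) (.leaf 243860890)) (.node (.leaf 293487581) (.leaf 287867044)))))))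

/-- A Schreier factor, part 120. -/
def facCodePart120 : Janko1.Tree ℕ := (.node (.node (.node (.node (.node (.node (.leaf 275972145) (.leaf 29610217)) (.node (.leaf 172326962) (.leaf 287817778))) (.node (.node (.leaf 168772050) (.leaf 280776672)) (.node (.leaf 222052402) (.leaf 296878130)))) (.node (.node (.node (.leaf 353435698) (.leaf 296402994)) (.node (.leaf 351223858) (.leaf 308052002))) (.node (.node (.leaf 342777685) (.leaf 291127346)) (.node (.leaf 153554232) (.leaf 290701362))))) (.node (.node (.node (.node (.leaf 219103281) (.leaf 298139698)) (.node (.leaf 350543794) (.leaf 128277885))) (.node (.node (.leaf 338877226) (.leaf 271385036)) (.node (.leaf 267272240) (.leaf 48435832)))) (.node (.node (.node (.leaf 342786098) (.leaf 54642664)) (.node (.leaf 40517680) (.leaf 256917553))) (.node (.node (.leaf 212405750) (.leaf 102383665)) (.node (.leaf 153518130) (.leaf 301469997)))))) (.node (.node (.node (.node (.node (.leaf 235749425) (.leaf 301531185)) (.node (.leaf 129913492) (.leaf 301433606))) (.node (.node (.leaf 361663057) (.leaf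 276414514)) (.node (.leaf 105569134) (.leaf 294125828)))) (.node (.node (.node (.leaf 327434289) (.leaf 276725810)) (.node (.leaf 271859760) (.leaf 294584574))) (.node (.node (.leaf 343162929) (.leaf 282902578)) (.node (.leaf 52723761) (.leaf 280060085))))) (.node (.node (.node (.node (.leaf 307265586) (.leaf 297966870)) (.node (.leaf 94310638) (.leaf 297517106))) (.node (.node (.leaf 98160238) (.leaf 308789298)) (.node (.leaf 24739888) (.leaf 306855985)))) (.node (.node (.node (.leaf 301171112) (.leaf 112105821)) (.node (.leaf 284704816) (.leaf 262275121))) (.node (.node (.leaf 245219377) (.leaf 262340657)) (.node (.leaf 280363056) (.leaf 65011761)))))))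

/-- A Schreier factor, part 121. -/
def facCodePart121 : Janko1.Tree ℕ := (.node (.node (.node (.node (.node (.node (.leaf 247373496) (.leaf 65077297)) (.node (.leaf 332073838) (.leaf 369230449))) (.node (.node (.leaf 140394546) (.leaf 342409265)) (.node (.leaf 212893744) (.leaf 368738354)))) (.node (.node (.node (.leaf 285442097) (.leaf 362662782)) (.node (.leaf 327064881) (.leaf 379787798))) (.node (.node (.leaf 267328769) (.leaf 351784729)) (.node (.leaf 112385321) (.leaf 348340274))))) (.node (.node (.node (.node (.leaf 108364040) (.leaf 354534134)) (.node (.leaf 296470728) (.leaf 371937622))) (.node (.node (.leaf 82466926) (.leaf 372378504)) (.node (.leaf 205783089) (.leaf 347570226)))) (.node (.node (.node (.leaf 139845429) (.leaf 160301105)) (.node (.leaf 376471601) (.leaf 337068081))) (.node (.node (.leaf 311525425) (.leaf 226761320)) (.node (.leaf 354418984) (.leaf 363648758)))))) (.node (.node (.node (.node (.node (.leaf 108396594) (.leaf 377604638)) (.node (.leaf 296504765) (.leaf 377634865))) (.node (.node (.leaf 112368846) (.leaf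 221747453)) (.node (.leaf 298797296) (.leaf 221823661)))) (.node (.node (.node (.leaf 195559473) (.leaf 181960753)) (.node (.leaf 82429510) (.leaf 182034869))) (.node (.node (.leaf 133726256) (.leaf 351673641)) (.node (.leaf 359022640) (.leaf 351207474))))) (.node (.node (.node (.node (.leaf 318135362) (.leaf 368923373)) (.node (.leaf 345410014) (.leaf 362827888))) (.node (.node (.leaf 316150565) (.leaf 380830589)) (.node (.leaf 143524598) (.leaf 348228848)))) (.node (.node (.node (.leaf 140410930) (.leaf 354353202)) (.node (.leaf 289964081) (.leaf 173642700))) (.node (.node (.leaf 226283390) (.leaf 173694222)) (.node (.leaf 274546737) (.leaf 327814928)))))))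

/-- A Schreier factor, part 122. -/
def facCodePart122 : Janko1.Tree ℕ := (.node (.node (.node (.node (.node (.node (.leaf 271960454) (.leaf 213421682)) (.node (.leaf 256344113) (.leaf 372214004))) (.node (.node (.leaf 35700786) (.leaf 361218098)) (.node (.leaf 126681137) (.leaf 378322994)))) (.node (.node (.node (.leaf 288636977) (.leaf 367984689)) (.node (.leaf 105234480) (.leaf 368035958))) (.node (.node (.leaf 259162161) (.leaf 166821937)) (.node (.leaf 271532080) (.leaf 166903857))))) (.node (.node (.node (.node (.leaf 80855713) (.leaf 161797726)) (.node (.leaf 88703024) (.leaf 338133041))) (.node (.node (.leaf 379521588) (.leaf 338199717)) (.node (.leaf 208404530) (.leaf 228458545)))) (.node (.node (.node (.leaf 194281521) (.leaf 364664137)) (.node (.leaf 211763250) (.leaf 364714770))) (.node (.node (.leaf 16449584) (.leaf 349536462)) (.node (.leaf 369476197) (.leaf 373071005)))))) (.node (.node (.node (.node (.node (.leaf 280723504) (.leaf 356147437)) (.node (.leaf 321981422) (.leaf 373523392))) (.node (.node (.leaf 284901424) (.leaf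 348749874)) (.node (.leaf 96750257) (.leaf 361095014)))) (.node (.node (.node (.leaf 73154806) (.leaf 350552114)) (.node (.leaf 377098766) (.leaf 368115762))) (.node (.node (.leaf 211812813) (.leaf 367674105)) (.node (.leaf 211107889) (.leaf 361840690))))) (.node (.node (.node (.node (.leaf 208392458) (.leaf 378863666)) (.node (.leaf 32872261) (.leaf 376525738))) (.node (.node (.leaf 365072256) (.leaf 376602673)) (.node (.leaf 7144396) (.leaf 220059093)))) (.node (.node (.node (.leaf 326549553) (.leaf 180343460)) (.node (.leaf 270385202) (.leaf 175341617))) (.node (.node (.leaf 272613426) (.leaf 329105457)) (.node (.leaf 31134813) (.leaf 215007281)))))))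

/-- A Schreier factor, part 123. -/
def facCodePart123 : Janko1.Tree ℕ := (.node (.node (.node (.node (.node (.node (.leaf 118546654) (.leaf 373447233)) (.node (.leaf 284183924) (.leaf 348922128))) (.node (.node (.leaf 113197302) (.leaf 366679796)) (.node (.leaf 265928753) (.leaf 355632494)))) (.node (.node (.node (.leaf 262396694) (.leaf 372922873)) (.node (.leaf 369000498) (.leaf 295852741))) (.node (.node (.leaf 59195441) (.leaf 284000306)) (.node (.leaf 371100085) (.leaf 302055474))))) (.node (.node (.node (.node (.leaf 195182642) (.leaf 302465074)) (.node (.leaf 198803506) (.leaf 295125042))) (.node (.node (.leaf 244432945) (.leaf 120209457)) (.node (.leaf 250921009) (.leaf 293605462)))) (.node (.node (.node (.leaf 50659378) (.leaf 296979740)) (.node (.leaf 261603378) (.leaf 126255153))) (.node (.node (.leaf 46701146) (.leaf 126304752)) (.node (.leaf 216997850) (.leaf 270319665)))))) (.node (.node (.node (.node (.node (.leaf 14598194) (.leaf 46390916)) (.node (.leaf 330727473) (.leaf 289560566))) (.node (.node (.leaf 332087344) (.leaf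 307479108)) (.node (.leaf 336712484) (.leaf 296911032)))) (.node (.node (.node (.leaf 263767469) (.leaf 277372269)) (.node (.leaf 50631516) (.leaf 295223346))) (.node (.node (.leaf 14636925) (.leaf 277878572)) (.node (.leaf 227115057) (.leaf 295667126))))) (.node (.node (.node (.node (.leaf 19063001) (.leaf 283875850)) (.node (.leaf 213179281) (.leaf 257884209))) (.node (.node (.leaf 337511673) (.leaf 104072546)) (.node (.leaf 340974189) (.leaf 104136753)))) (.node (.node (.node (.leaf 327308501) (.leaf 302681437)) (.node (.leaf 369033266) (.leaf 110116913))) (.node (.node (.leaf 99352625) (.leaf 261266825)) (.node (.leaf 198771606) (.leaf 261299473)))))))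

/-- A Schreier factor, part 124. -/
def facCodePart124 : Janko1.Tree ℕ := (.node (.node (.node (.node (.node (.node (.leaf 71761969) (.leaf 62914609)) (.node (.leaf 195215410) (.leaf 62996529))) (.node (.node (.leaf 139558960) (.leaf 278888498)) (.node (.leaf 293552177) (.leaf 296812594)))) (.node (.node (.node (.leaf 349634608) (.leaf 290194512)) (.node (.leaf 239960938) (.leaf 307976566))) (.node (.node (.leaf 325238834) (.leaf 35837690)) (.node (.leaf 183504021) (.leaf 14565426))))) (.node (.node (.node (.node (.leaf 339394609) (.leaf 18350129)) (.node (.leaf 89786366) (.leaf 99770450))) (.node (.node (.leaf 356679729) (.leaf 99784482)) (.node (.leaf 249626672) (.leaf 18366513)))) (.node (.node (.node (.leaf 31735856) (.leaf 24925468)) (.node (.leaf 322751850) (.leaf 74252337))) (.node (.node (.leaf 182802694) (.leaf 284852273)) (.node (.leaf 97812528) (.leaf 24890442)))))) (.node (.node (.node (.node (.node (.leaf 343775012) (.leaf 7067069)) (.node (.leaf 241074224) (.leaf 25559090))) (.node (.node (.leaf 286802472) (.leaf 68321330)) (.node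 (.leaf 289259570) (.leaf 48334840)))) (.node (.node (.node (.leaf 15548465) (.leaf 52445856)) (.node (.leaf 126058546) (.leaf 47824946))) (.node (.node (.leaf 19897181) (.leaf 64396034)) (.node (.leaf 49397808) (.leaf 84033585))))) (.node (.node (.node (.node (.leaf 298518952) (.leaf 35392005)) (.node (.leaf 300613681) (.leaf 290684977))) (.node (.node (.leaf 77062182) (.leaf 353013520)) (.node (.leaf 316314304) (.leaf 326205489)))) (.node (.node (.node (.leaf 88784945) (.leaf 211272642)) (.node (.leaf 166959385) (.leaf 211310116))) (.node (.node (.leaf 45367345) (.leaf 326172721)) (.node (.leaf 170410034) (.leaf 352993329)))))))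

/-- A Schreier factor, part 125. -/
def facCodePart125 : Janko1.Tree ℕ := (.node (.node (.node (.node (.node (.node (.leaf 261161009) (.leaf 141246514)) (.node (.leaf 186155056) (.leaf 145145906))) (.node (.node (.leaf 267897489) (.leaf 158615450)) (.node (.leaf 278266694) (.leaf 157999234)))) (.node (.node (.node (.leaf 322786613) (.leaf 144412557)) (.node (.leaf 278372302) (.leaf 173391922))) (.node (.node (.leaf 136052785) (.leaf 176670502)) (.node (.leaf 114021780) (.leaf 173840116))))) (.node (.node (.node (.node (.leaf 152223793) (.leaf 160612402)) (.node (.leaf 110133298) (.leaf 163071324))) (.node (.node (.leaf 173264421) (.leaf 320356401)) (.node (.leaf 323469361) (.leaf 202997828)))) (.node (.node (.node (.leaf 372047920) (.leaf 347324465)) (.node (.leaf 375986976) (.leaf 136549369))) (.node (.node (.leaf 10689817) (.leaf 361974302)) (.node (.leaf 278386180) (.leaf 157701730)))))) (.node (.node (.node (.node (.node (.leaf 15237802) (.leaf 197891230)) (.node (.leaf 280662005) (.leaf 316981297))) (.node (.node (.leaf 145410873) (.leaf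 317001864)) (.node (.leaf 110171300) (.leaf 197853233)))) (.node (.node (.node (.leaf 318636081) (.leaf 184991794)) (.node (.leaf 376327181) (.leaf 172261485))) (.node (.node (.leaf 371691744) (.leaf 168331942)) (.node (.leaf 363466505) (.leaf 181605777))))) (.node (.node (.node (.node (.leaf 369742610) (.leaf 185391068)) (.node (.leaf 313970772) (.leaf 136871986))) (.node (.node (.leaf 69189681) (.leaf 134119474)) (.node (.leaf 166991565) (.leaf 146104136)))) (.node (.node (.node (.leaf 199614005) (.leaf 149110833)) (.node (.leaf 256737620) (.leaf 189284401))) (.node (.node (.leaf 289409194) (.leaf 311235532)) (.node (.leaf 274007252) (.leaf 149102770)))))))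

/-- A Schreier factor, part 126. -/
def facCodePart126 : Janko1.Tree ℕ := (.node (.node (.node (.node (.node (.node (.leaf 313656473) (.leaf 356401201)) (.node (.leaf 252809353) (.leaf 156729394))) (.node (.node (.leaf 31540938) (.leaf 153176061)) (.node (.leaf 287998001) (.leaf 209522397)))) (.node (.node (.node (.leaf 240746544) (.leaf 325097321)) (.node (.leaf 359763422) (.leaf 348487729))) (.node (.node (.leaf 361942856) (.leaf 204685361)) (.node (.leaf 150788660) (.leaf 204725129))))) (.node (.node (.node (.node (.leaf 140844780) (.leaf 348457840)) (.node (.leaf 237720928) (.leaf 138105906))) (.node (.node (.leaf 57999408) (.leaf 178659109)) (.node (.leaf 375373873) (.leaf 175511905)))) (.node (.node (.node (.leaf 303185968) (.leaf 162157638)) (.node (.leaf 368984113) (.leaf 164830677))) (.node (.node (.leaf 128666126) (.leaf 180535781)) (.node (.leaf 237755013) (.leaf 166543410)))))) (.node (.node (.node (.node (.node (.leaf 157338001) (.leaf 179821632)) (.node (.leaf 66297408) (.leaf 360865020))) (.node (.node (.leaf 311214129) (.leaf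 156221489)) (.node (.leaf 364412977) (.leaf 195985457)))) (.node (.node (.node (.leaf 294311981) (.leaf 156205105)) (.node (.leaf 379879473) (.leaf 360880021))) (.node (.node (.leaf 252791481) (.leaf 357498929)) (.node (.leaf 51172481) (.leaf 191044881))))) (.node (.node (.node (.node (.leaf 68522713) (.leaf 151032600)) (.node (.leaf 55319785) (.leaf 357515313))) (.node (.node (.leaf 264126513) (.leaf 148439090)) (.node (.leaf 89489456) (.leaf 151240754)))) (.node (.node (.node (.leaf 283577714) (.leaf 147741488)) (.node (.leaf 245057712) (.leaf 151982950))) (.node (.node (.leaf 351101188) (.leaf 44353638)) (.node (.leaf 122228556) (.leaf 60755453)))))))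

/-- A Schreier factor, part 127. -/
def facCodePart127 : Janko1.Tree ℕ := (.node (.node (.node (.node (.node (.node (.leaf 353325670) (.leaf 56164402)) (.node (.leaf 222153385) (.leaf 56557618))) (.node (.node (.leaf 159601981) (.leaf 9306161)) (.node (.leaf 244908081) (.leaf 277233713)))) (.node (.node (.node (.leaf 179537904) (.leaf 250813342)) (.node (.leaf 363184176) (.leaf 91963441))) (.node (.node (.leaf 297549873) (.leaf 250773553)) (.node (.leaf 82640946) (.leaf 280599734))))) (.node (.node (.node (.node (.leaf 244354997) (.leaf 254040037)) (.node (.leaf 48267314) (.leaf 280578524))) (.node (.node (.leaf 331373106) (.leaf 11601885)) (.node (.leaf 192977117) (.leaf 16941106)))) (.node (.node (.node (.leaf 342318568) (.leaf 33332881)) (.node (.leaf 348430501) (.leaf 32866354))) (.node (.node (.leaf 359694385) (.leaf 12223732)) (.node (.leaf 318373936) (.leaf 16305444)))))) (.node (.node (.node (.node (.node (.leaf 48303076) (.leaf 9797682)) (.node (.leaf 52330546) (.leaf 22904882))) (.node (.node (.leaf 338108568) (.leaf 286018790)) (.node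 (.leaf 206428648) (.leaf 26825638)))) (.node (.node (.node (.leaf 186466352) (.leaf 242008113)) (.node (.leaf 323158064) (.leaf 76087345))) (.node (.node (.leaf 353026097) (.leaf 26787889)) (.node (.leaf 309592528) (.leaf 286040121))))) (.node (.node (.node (.node (.leaf 351109170) (.leaf 245334065)) (.node (.leaf 34750513) (.leaf 245350449))) (.node (.node (.leaf 3738517) (.leaf 32849969)) (.node (.leaf 255910097) (.leaf 66344340)))) (.node (.node (.node (.leaf 166123434) (.leaf 49810129)) (.node (.leaf 371775670) (.leaf 50240213))) (.node (.node (.leaf 298370916) (.leaf 31425970)) (.node (.leaf 249364528) (.leaf 35307570)))))))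

/-- A Schreier factor, part 128. -/
def facCodePart128 : Janko1.Tree ℕ := (.node (.node (.node (.node (.node (.node (.leaf 280526897) (.leaf 68196668)) (.node (.leaf 298419186) (.leaf 51871794))) (.node (.node (.leaf 245186832) (.leaf 14520729)) (.node (.leaf 282837041) (.leaf 48240202)))) (.node (.node (.node (.leaf 245612593) (.leaf 19008392)) (.node (.leaf 57770032) (.leaf 52346930))) (.node (.node (.leaf 89440304) (.leaf 14112892)) (.node (.leaf 263113320) (.leaf 47743384))))) (.node (.node (.node (.node (.leaf 81595720) (.leaf 35946546)) (.node (.leaf 29089752) (.leaf 308185196))) (.node (.node (.leaf 94491601) (.leaf 68472825)) (.node (.leaf 33031464) (.leaf 115333828)))) (.node (.node (.node (.leaf 53135492) (.leaf 115427417)) (.node (.leaf 304971826) (.leaf 115395458))) (.node (.node (.leaf 271736520) (.leaf 68295576)) (.node (.leaf 65163608) (.leaf 68442481)))))) (.node (.node (.node (.node (.node (.leaf 365288234) (.leaf 133611570)) (.node (.leaf 314064944) (.leaf 137445426))) (.node (.node (.leaf 347459361) (.leaf 163780056)) (.node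 (.leaf 371998768) (.leaf 177012786)))) (.node (.node (.node (.leaf 166400962) (.leaf 176554034)) (.node (.leaf 192892060) (.leaf 146737050))) (.node (.node (.leaf 330141373) (.leaf 173744281)) (.node (.leaf 16777266) (.leaf 162797501))))) (.node (.node (.node (.node (.leaf 82575410) (.leaf 365264945)) (.node (.leaf 12140594) (.leaf 338509873))) (.node (.node (.leaf 178896945) (.leaf 338608177)) (.node (.leaf 78823474) (.leaf 229413550)))) (.node (.node (.node (.leaf 48742450) (.leaf 229431778)) (.node (.leaf 298663986) (.leaf 338591793))) (.node (.node (.leaf 44793906) (.leaf 365248561)) (.node (.leaf 371621937) (.leaf 379060273)))))))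

/-- A Schreier factor, part 129. -/
def facCodePart129 : Janko1.Tree ℕ := (.node (.node (.node (.node (.node (.node (.leaf 376276342) (.leaf 379227262)) (.node (.leaf 323256368) (.leaf 184652997))) (.node (.node (.leaf 354255574) (.leaf 184795185)) (.node (.leaf 369660728) (.leaf 224608305)))) (.node (.node (.node (.leaf 363351230) (.leaf 224677426)) (.node (.leaf 309657648) (.leaf 335216689))) (.node (.node (.leaf 318423089) (.leaf 335240488)) (.node (.leaf 179838661) (.leaf 335302856))))) (.node (.node (.node (.node (.leaf 159960216) (.leaf 184781582)) (.node (.leaf 334776613) (.leaf 379244064))) (.node (.node (.leaf 172458033) (.leaf 182222898)) (.node (.leaf 168953610) (.leaf 171786290)))) (.node (.node (.node (.leaf 44826674) (.leaf 172179506)) (.node (.leaf 108252381) (.leaf 141448276))) (.node (.node (.leaf 296308693) (.leaf 168265997)) (.node (.leaf 262766642) (.leaf 154910770)))))) (.node (.node (.node (.node (.node (.leaf 48728050) (.leaf 181541386)) (.node (.leaf 112203222) (.leaf 158793778))) (.node (.node (.leaf 298650802) (.leaf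 185261198)) (.node (.leaf 375308820) (.leaf 164467965)))) (.node (.node (.node (.leaf 358057386) (.leaf 366315730)) (.node (.leaf 303111368) (.leaf 339578570))) (.node (.node (.leaf 49709104) (.leaf 231112753)) (.node (.leaf 81854512) (.leaf 339509297))))) (.node (.node (.node (.node (.leaf 340557873) (.leaf 339558449)) (.node (.leaf 58081328) (.leaf 366280753))) (.node (.node (.leaf 155145325) (.leaf 135141936)) (.node (.leaf 150853994) (.leaf 138892449)))) (.node (.node (.node (.leaf 208551986) (.leaf 165494834)) (.node (.leaf 158318642) (.leaf 151886930))) (.node (.node (.leaf 140918833) (.leaf 147951028)) (.node (.leaf 211910706) (.leaf 174956634)))))))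

/-- A Schreier factor, part 130. -/
def facCodePart130 : Janko1.Tree ℕ := (.node (.node (.node (.node (.node (.node (.leaf 112410672) (.leaf 178241586)) (.node (.leaf 120389873) (.leaf 162054194))) (.node (.node (.leaf 307462192) (.leaf 180494065)) (.node (.leaf 362381361) (.leaf 166969394)))) (.node (.node (.node (.leaf 310976618) (.leaf 143425586)) (.node (.leaf 66338864) (.leaf 170348810))) (.node (.node (.leaf 97730608) (.leaf 139886642)) (.node (.leaf 329383985) (.leaf 166477874))))) (.node (.node (.node (.node (.leaf 326866420) (.leaf 153092353)) (.node (.leaf 158356414) (.leaf 377946161))) (.node (.node (.leaf 160912120) (.leaf 378069044)) (.node (.leaf 211949452) (.leaf 182951986)))) (.node (.node (.node (.leaf 157518162) (.leaf 334137804)) (.node (.leaf 208535602) (.leaf 334234542))) (.node (.node (.leaf 344031606) (.leaf 334153514)) (.node (.leaf 31785008) (.leaf 222806065)))))) (.node (.node (.node (.node (.node (.leaf 379240498) (.leaf 222911881)) (.node (.leaf 341967252) (.leaf 182886654))) (.node (.node (.leaf 104371860) (.leaf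 182927409)) (.node (.leaf 5996592) (.leaf 377964129)))) (.node (.node (.node (.leaf 363092193) (.leaf 39469560)) (.node (.leaf 304237461) (.leaf 27363318))) (.node (.node (.leaf 322863152) (.leaf 23106996)) (.node (.leaf 286195761) (.leaf 56085729))))) (.node (.node (.node (.node (.leaf 159694896) (.leaf 60228108)) (.node (.leaf 262299686) (.leaf 56484182))) (.node (.node (.leaf 251269746) (.leaf 5294057)) (.node (.leaf 179607414) (.leaf 40196256)))) (.node (.node (.node (.leaf 206180470) (.leaf 9326317)) (.node (.leaf 13467697) (.leaf 295114949))) (.node (.node (.leaf 59523121) (.leaf 268568258)) (.node (.leaf 198935714) (.leaf 123535409)))))))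

/-- A Schreier factor, part 131. -/
def facCodePart131 : Janko1.Tree ℕ := (.node (.node (.node (.node (.node (.node (.leaf 333365298) (.leaf 123474454)) (.node (.leaf 78954545) (.leaf 123568177))) (.node (.node (.leaf 110379057) (.leaf 268468273)) (.node (.leaf 90816561) (.leaf 295157809)))) (.node (.node (.node (.leaf 370971812) (.leaf 43663409)) (.node (.leaf 308265009) (.leaf 307363889))) (.node (.node (.leaf 290723149) (.leaf 66412120)) (.node (.leaf 293011505) (.leaf 113295409))))) (.node (.node (.node (.node (.leaf 275336244) (.leaf 262708050)) (.node (.leaf 255787057) (.leaf 262635569))) (.node (.node (.leaf 173047856) (.leaf 262724404)) (.node (.leaf 199531701) (.leaf 113279025)))) (.node (.node (.node (.leaf 240279522) (.leaf 66322481)) (.node (.leaf 166199344) (.leaf 66393392))) (.node (.node (.leaf 192610352) (.leaf 307380273)) (.node (.leaf 144954532) (.leaf 29556786)))))) (.node (.node (.node (.node (.node (.leaf 34838637) (.leaf 32768708)) (.node (.leaf 198907062) (.leaf 66289714))) (.node (.node (.leaf 335593522) (.leaf 16842802))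 (.node (.leaf 130859057) (.leaf 11829298)))) (.node (.node (.node (.leaf 71142420) (.leaf 62111794)) (.node (.leaf 102645809) (.leaf 33652786))) (.node (.node (.leaf 245405273) (.leaf 283001958)) (.node (.leaf 10403890) (.leaf 70254641))))) (.node (.node (.node (.node (.leaf 77119538) (.leaf 238682161)) (.node (.leaf 225517676) (.leaf 238637076))) (.node (.node (.leaf 209961008) (.leaf 31377345)) (.node (.leaf 183295930) (.leaf 68356050)))) (.node (.node (.node (.leaf 370346541) (.leaf 14488336)) (.node (.leaf 336363569) (.leaf 52494386))) (.node (.node (.leaf 313934016) (.leaf 54706226)) (.node (.leaf 443288) (.leaf 7081848)))))))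

/-- A Schreier factor, part 132. -/
def facCodePart132 : Janko1.Tree ℕ := (.node (.node (.node (.node (.node (.node (.leaf 129208529) (.leaf 7444460)) (.node (.leaf 97370161) (.leaf 37536145))) (.node (.node (.leaf 170623026) (.leaf 54100018)) (.node (.leaf 203145834) (.leaf 288310449)))) (.node (.node (.node (.leaf 274613789) (.leaf 80069246)) (.node (.leaf 271879430) (.leaf 244205749))) (.node (.node (.leaf 254132273) (.leaf 80003741)) (.node (.leaf 315883568) (.leaf 30801969))))) (.node (.node (.node (.node (.leaf 369639881) (.leaf 288391217)) (.node (.leaf 286834738) (.leaf 350715953))) (.node (.node (.leaf 5397032) (.leaf 323829809)) (.node (.leaf 40402993) (.leaf 207929393)))) (.node (.node (.node (.leaf 124715057) (.leaf 207832382)) (.node (.leaf 93229742) (.leaf 323915609))) (.node (.node (.leaf 66815421) (.leaf 350814257)) (.node (.leaf 70221872) (.leaf 133551444)))))) (.node (.node (.node (.node (.node (.leaf 251674673) (.leaf 146653234)) (.node (.leaf 360894932) (.leaf 145195058))) (.node (.node (.leaf 19447856) (.leaf 158662706))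 (.node (.leaf 116162608) (.leaf 181714994)))) (.node (.node (.node (.leaf 229232170) (.leaf 158072882)) (.node (.leaf 180289586) (.leaf 168877020))) (.node (.node (.leaf 78305926) (.leaf 133316657)) (.node (.leaf 45908016) (.leaf 345079857))))) (.node (.node (.node (.node (.leaf 338789804) (.leaf 199606321)) (.node (.leaf 247398448) (.leaf 345003326))) (.node (.node (.leaf 27789885) (.leaf 359734364)) (.node (.leaf 180328542) (.leaf 314870410)))) (.node (.node (.node (.leaf 209436721) (.leaf 359792689)) (.node (.leaf 363960296) (.leaf 149490046))) (.node (.node (.leaf 37519408) (.leaf 160481330)) (.node (.leaf 251795057) (.leaf 137256696)))))))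

/-- A Schreier factor, part 133. -/
def facCodePart133 : Janko1.Tree ℕ := (.node (.node (.node (.node (.node (.node (.leaf 343083250) (.leaf 173310456)) (.node (.leaf 325451825) (.leaf 150224946))) (.node (.node (.leaf 14762106) (.leaf 155607352)) (.node (.leaf 251547886) (.leaf 171884594)))) (.node (.node (.node (.leaf 66803050) (.leaf 172295546)) (.node (.leaf 85393457) (.leaf 185450546))) (.node (.node (.leaf 281020378) (.leaf 354193094)) (.node (.leaf 77955120) (.leaf 186073137))))) (.node (.node (.node (.node (.leaf 45580741) (.leaf 309171654)) (.node (.leaf 247087566) (.leaf 309087676))) (.node (.node (.leaf 300503700) (.leaf 186159644)) (.node (.leaf 247274388) (.leaf 354107441)))) (.node (.node (.node (.leaf 317200320) (.leaf 161433982)) (.node (.leaf 353370162) (.leaf 138821682))) (.node (.node (.leaf 59097137) (.leaf 175046706)) (.node (.leaf 110739505) (.leaf 151404594)))))) (.node (.node (.node (.node (.node (.leaf 79676842) (.leaf 175530114)) (.node (.leaf 221986866) (.leaf 138335936))) (.node (.node (.leaf 189513776) (.leaf 139477041))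 (.node (.leaf 286597486) (.leaf 322705834)))) (.node (.node (.node (.leaf 244341352) (.leaf 322572765)) (.node (.leaf 325074992) (.leaf 349608152))) (.node (.node (.leaf 244224588) (.leaf 134922289)) (.node (.leaf 279564685) (.leaf 346095665))))) (.node (.node (.node (.node (.leaf 82870322) (.leaf 201228337)) (.node (.leaf 217028486) (.leaf 201180006))) (.node (.node (.leaf 52592690) (.leaf 346128433)) (.node (.leaf 196476976) (.leaf 139755570)))) (.node (.node (.node (.leaf 169892793) (.leaf 170623781)) (.node (.leaf 330631965) (.leaf 183369778))) (.node (.node (.leaf 320607549) (.leaf 140417308)) (.node (.leaf 17170482) (.leaf 148455474)))))))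

/-- A Schreier factor, part 134. -/
def facCodePart134 : Janko1.Tree ℕ := (.node (.node (.node (.node (.node (.node (.leaf 279527474) (.leaf 135666224)) (.node (.leaf 197443633) (.leaf 178821333))) (.node (.node (.leaf 355915986) (.leaf 358683772)) (.node (.leaf 163151920) (.leaf 313606193)))) (.node (.node (.node (.leaf 34029617) (.leaf 355257076)) (.node (.leaf 67125297) (.leaf 147619889))) (.node (.node (.leaf 168908832) (.leaf 310313009)) (.node (.leaf 221974697) (.leaf 187793457))))) (.node (.node (.node (.node (.leaf 103058180) (.leaf 147521676)) (.node (.leaf 196134014) (.leaf 142973088))) (.node (.node (.leaf 373900225) (.leaf 166559794)) (.node (.leaf 87865) (.leaf 11618754)))) (.node (.node (.node (.leaf 63045681) (.leaf 50380850)) (.node (.leaf 255000626) (.leaf 66912306))) (.node (.node (.leaf 290586674) (.leaf 28950578)) (.node (.leaf 127860786) (.leaf 29360178)))))) (.node (.node (.node (.node (.node (.leaf 106610737) (.leaf 12238898)) (.node (.leaf 288720381) (.leaf 4426066))) (.node (.node (.leaf 61947952) (.leaf 87982129))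 (.node (.leaf 238370864) (.leaf 87900209)))) (.node (.node (.node (.leaf 259120213) (.leaf 275193025)) (.node (.leaf 241910634) (.leaf 4361204))) (.node (.node (.leaf 10472869) (.leaf 11590506)) (.node (.leaf 359846978) (.leaf 93945905))))) (.node (.node (.node (.node (.leaf 194332336) (.leaf 11688901)) (.node (.leaf 358432817) (.leaf 39557876))) (.node (.node (.leaf 375865393) (.leaf 9914550)) (.node (.leaf 86114352) (.leaf 27312178)))) (.node (.node (.node (.leaf 296288304) (.leaf 56578208)) (.node (.leaf 333250609) (.leaf 40288306))) (.node (.node (.leaf 323928114) (.leaf 62947378)) (.node (.leaf 100696112) (.leaf 46284850)))))))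

/-- A Schreier factor, part 135. -/
def facCodePart135 : Janko1.Tree ℕ := (.node (.node (.node (.node (.node (.node (.leaf 187760689) (.leaf 45959925)) (.node (.leaf 237243966) (.leaf 33570866))) (.node (.node (.leaf 94109744) (.leaf 283836465)) (.node (.leaf 62233876) (.leaf 23019569)))) (.node (.node (.node (.leaf 362790961) (.leaf 72211986)) (.node (.leaf 381012894) (.leaf 239719224))) (.node (.node (.leaf 291848240) (.leaf 283923269)) (.node (.leaf 290537522) (.leaf 28852273))))) (.node (.node (.node (.node (.leaf 10027374) (.leaf 77987889)) (.node (.leaf 83214385) (.leaf 78024416))) (.node (.node (.leaf 127896654) (.leaf 287070066)) (.node (.leaf 53903408) (.leaf 60167708)))) (.node (.node (.node (.leaf 263553073) (.leaf 44236850)) (.node (.leaf 246153265) (.leaf 4489266))) (.node (.node (.leaf 242818564) (.leaf 22921266)) (.node (.leaf 296066314) (.leaf 60872846)))))) (.node (.node (.node (.node (.node (.leaf 325357854) (.leaf 300778048)) (.node (.leaf 318046257) (.leaf 300843882))) (.node (.node (.leaf 365445168) (.leaf 256344113)) (.node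 (.leaf 354764270) (.leaf 101827261)))) (.node (.node (.node (.leaf 183386160) (.leaf 101908529)) (.node (.leaf 189743152) (.leaf 54067249))) (.node (.node (.leaf 12320818) (.leaf 51953714)) (.node (.leaf 262752814) (.leaf 52399393))))) (.node (.node (.node (.node (.leaf 320389168) (.leaf 21332018)) (.node (.leaf 254066737) (.leaf 54624306))) (.node (.node (.leaf 256409649) (.leaf 2359346)) (.node (.leaf 369557552) (.leaf 37945394)))) (.node (.node (.node (.leaf 290127921) (.leaf 1949746)) (.node (.leaf 193562076) (.leaf 64331124))) (.node (.node (.leaf 65281316) (.leaf 261571192)) (.node (.leaf 369999922) (.leaf 306151473)))))))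

/-- A Schreier factor, part 136. -/
def facCodePart136 : Janko1.Tree ℕ := (.node (.node (.node (.node (.node (.node (.leaf 671793) (.leaf 306224141)) (.node (.leaf 304840752) (.leaf 234394489))) (.node (.node (.leaf 287539249) (.leaf 341868593)) (.node (.leaf 37310829) (.leaf 341952444)))) (.node (.node (.node (.leaf 93752904) (.leaf 368467977)) (.node (.leaf 94175282) (.leaf 137478194))) (.node (.node (.leaf 124829745) (.leaf 163807282)) (.node (.leaf 33316324) (.leaf 177029170))))) (.node (.node (.node (.node (.leaf 219841) (.leaf 149689145)) (.node (.leaf 269372316) (.leaf 176603186))) (.node (.node (.leaf 307186977) (.leaf 136846542)) (.node (.leaf 332251185) (.leaf 155074610)))) (.node (.node (.node (.leaf 368197681) (.leaf 168771634)) (.node (.leaf 210012641) (.leaf 362992350))) (.node (.node (.leaf 153618742) (.leaf 336468033)) (.node (.leaf 342818866) (.leaf 226132017)))))) (.node (.node (.node (.node (.node (.leaf 376012850) (.leaf 159612977)) (.node (.leaf 327614513) (.leaf 181239857))) (.node (.node (.leaf 305119280) (.leaf 181307125))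 (.node (.leaf 363790385) (.leaf 332922929)))) (.node (.node (.node (.leaf 37609136) (.leaf 377031882)) (.node (.leaf 153649202) (.leaf 173901706))) (.node (.node (.leaf 209977394) (.leaf 134204154)) (.node (.leaf 376029234) (.leaf 133832172))))) (.node (.node (.node (.node (.leaf 124321840) (.leaf 160026148)) (.node (.leaf 262604573) (.leaf 157909042))) (.node (.node (.leaf 300441530) (.leaf 184863572)) (.node (.leaf 242894689) (.leaf 144578546)))) (.node (.node (.node (.leaf 247201841) (.leaf 171819685)) (.node (.leaf 85774502) (.leaf 145098361))) (.node (.node (.leaf 283263025) (.leaf 158875698)) (.node (.leaf 94191666) (.leaf 327057457)))))))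

/-- A Schreier factor, part 137. -/
def facCodePart137 : Janko1.Tree ℕ := (.node (.node (.node (.node (.node (.node (.leaf 307175628) (.leaf 212669513)) (.node (.leaf 10158128) (.leaf 172966676))) (.node (.node (.leaf 311312432) (.leaf 135151666)) (.node (.leaf 244236337) (.leaf 161372368)))) (.node (.node (.node (.leaf 377936901) (.leaf 174964786)) (.node (.leaf 209600560) (.leaf 135921714))) (.node (.node (.leaf 110821425) (.leaf 367411249)) (.node (.leaf 141934642) (.leaf 340721713))))) (.node (.node (.node (.node (.leaf 46682542) (.leaf 232672752)) (.node (.leaf 335511602) (.leaf 232767537))) (.node (.node (.leaf 368967730) (.leaf 166133809)) (.node (.leaf 316244016) (.leaf 161106000)))) (.node (.node (.node (.leaf 312509661) (.leaf 161169457)) (.node (.leaf 342005736) (.leaf 227742210))) (.node (.node (.leaf 349099540) (.leaf 337467902)) (.node (.leaf 207224881) (.leaf 156811314)))))) (.node (.node (.node (.node (.node (.leaf 19103794) (.leaf 183730745)) (.node (.leaf 46586874) (.leaf 156556666))) (.node (.node (.leaf 299843634) (.leaf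 142874336)) (.node (.leaf 378208304) (.leaf 178094130)))) (.node (.node (.node (.leaf 311656862) (.leaf 138464756)) (.node (.leaf 353632305) (.leaf 152076338))) (.node (.node (.leaf 163222873) (.leaf 178740293)) (.node (.leaf 224170873) (.leaf 331860384))))) (.node (.node (.node (.node (.leaf 299892786) (.leaf 219323969)) (.node (.leaf 114399273) (.leaf 219387032))) (.node (.node (.leaf 261655126) (.leaf 179585073)) (.node (.leaf 315949104) (.leaf 214341557)))) (.node (.node (.node (.leaf 203101230) (.leaf 328238257)) (.node (.leaf 308546813) (.leaf 328335409))) (.node (.node (.leaf 99176593) (.leaf 153916865)) (.node (.leaf 198757293) (.leaf 140329010)))))))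

/-- A Schreier factor, part 138. -/
def facCodePart138 : Janko1.Tree ℕ := (.node (.node (.node (.node (.node (.node (.leaf 103104561) (.leaf 166985778)) (.node (.leaf 368959929) (.leaf 139903026))) (.node (.node (.leaf 335560754) (.leaf 179765298)) (.node (.leaf 251529034) (.leaf 33477241)))) (.node (.node (.node (.leaf 70156336) (.leaf 32948274)) (.node (.leaf 62038426) (.leaf 49631622))) (.node (.node (.leaf 95096537) (.leaf 39502110)) (.node (.leaf 31151406) (.leaf 39570701))))) (.node (.node (.node (.node (.leaf 100096886) (.leaf 119423068)) (.node (.leaf 106714284) (.leaf 119504945))) (.node (.node (.leaf 29737009) (.leaf 266207281)) (.node (.leaf 27577880) (.leaf 292933666)))) (.node (.node (.node (.leaf 272777266) (.leaf 293019992)) (.node (.leaf 340017201) (.leaf 296239153))) (.node (.node (.leaf 247480368) (.leaf 269601212)) (.node (.leaf 315211825) (.leaf 269680689)))))) (.node (.node (.node (.node (.node (.leaf 78209282) (.leaf 125507496)) (.node (.leaf 204348134) (.leaf 4407346))) (.node (.node (.leaf 158433330) (.leaf 39485490))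 (.node (.leaf 19546160) (.leaf 5308466)))) (.node (.node (.node (.leaf 341934130) (.leaf 40212186)) (.node (.leaf 310528661) (.leaf 62855238))) (.node (.node (.leaf 291749936) (.leaf 46202930)) (.node (.leaf 62308400) (.leaf 45875250))))) (.node (.node (.node (.node (.leaf 380666238) (.leaf 62136648)) (.node (.leaf 208355378) (.leaf 55987726))) (.node (.node (.leaf 214241354) (.leaf 56069164)) (.node (.leaf 100630576) (.leaf 302022705)))) (.node (.node (.node (.leaf 247175073) (.leaf 305170616)) (.node (.leaf 246087729) (.leaf 305217585))) (.node (.node (.leaf 266076209) (.leaf 260440113)) (.node (.leaf 296032748) (.leaf 260542881)))))))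

/-- A Schreier factor, part 139. -/
def facCodePart139 : Janko1.Tree ℕ := (.node (.node (.node (.node (.node (.node (.leaf 53989617) (.leaf 109379633)) (.node (.leaf 302236132) (.leaf 62193713))) (.node (.node (.leaf 100058550) (.leaf 26861922)) (.node (.leaf 114606129) (.leaf 60132732)))) (.node (.node (.node (.leaf 87048241) (.leaf 9476114)) (.node (.leaf 19225778) (.leaf 9846834))) (.node (.node (.leaf 272728114) (.leaf 44187698)) (.node (.leaf 305987634) (.leaf 27508786))))) (.node (.node (.node (.node (.leaf 369590321) (.leaf 241680433)) (.node (.leaf 318510993) (.leaf 74913752))) (.node (.node (.leaf 236362853) (.leaf 241671606)) (.node (.leaf 136839216) (.leaf 285589553)))) (.node (.node (.node (.leaf 50282546) (.leaf 306928181)) (.node (.leaf 145522737) (.leaf 308233548))) (.node (.node (.leaf 110009578) (.leaf 280002610)) (.node (.leaf 15222145) (.leaf 282329506)))))) (.node (.node (.node (.node (.node (.leaf 280641586) (.leaf 279560242)) (.node (.leaf 76955698) (.leaf 308953138))) (.node (.node (.leaf 291733553) (.leaf 294224280))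 (.node (.leaf 334349816) (.leaf 292407814)))) (.node (.node (.node (.leaf 254591025) (.leaf 294666290)) (.node (.leaf 142557232) (.leaf 282886194))) (.node (.node (.leaf 36954201) (.leaf 246948110)) (.node (.leaf 223887410) (.leaf 84590641))))) (.node (.node (.node (.node (.leaf 349913138) (.leaf 246923313)) (.node (.leaf 316380656) (.leaf 291345189))) (.node (.node (.leaf 100735796) (.leaf 36044849)) (.node (.leaf 273916285) (.leaf 353615921)))) (.node (.node (.node (.leaf 286905026) (.leaf 144818689)) (.node (.leaf 293767924) (.leaf 211934113))) (.node (.node (.leaf 28655664) (.leaf 144801841)) (.node (.leaf 62411466) (.leaf 363298866)))))))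

/-- A Schreier factor, part 140. -/
def facCodePart140 : Janko1.Tree ℕ := (.node (.node (.node (.node (.node (.node (.leaf 28283792) (.leaf 366116914)) (.node (.leaf 130172758) (.leaf 354484274))) (.node (.node (.leaf 27658418) (.leaf 356815410)) (.node (.leaf 278462512) (.leaf 350994482)))) (.node (.node (.node (.leaf 356866777) (.leaf 353930112)) (.node (.leaf 265076784) (.leaf 377413768))) (.node (.node (.leaf 321242446) (.leaf 379931078)) (.node (.leaf 332824625) (.leaf 353273950))))) (.node (.node (.node (.node (.leaf 183554154) (.leaf 348068336)) (.node (.leaf 165986740) (.leaf 203627245))) (.node (.node (.leaf 77086768) (.leaf 320999296)) (.node (.leaf 360751162) (.leaf 203605490)))) (.node (.node (.node (.leaf 322846770) (.leaf 137199665)) (.node (.leaf 53002288) (.leaf 348078129))) (.node (.node (.leaf 363249713) (.leaf 158482481)) (.node (.leaf 269819666) (.leaf 362586194)))))) (.node (.node (.node (.node (.node (.leaf 28885040) (.leaf 198610950)) (.node (.leaf 101895178) (.leaf 158521936))) (.node (.node (.leaf 159416369) (.leaf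 355061772)) (.node (.leaf 183533618) (.leaf 365597497)))) (.node (.node (.node (.leaf 322882229) (.leaf 365986901)) (.node (.leaf 61177904) (.leaf 363462706))) (.node (.node (.leaf 298327398) (.leaf 377883860)) (.node (.leaf 264798256) (.leaf 379666482))))) (.node (.node (.node (.node (.leaf 263192625) (.leaf 351174706)) (.node (.leaf 247742513) (.leaf 377258034))) (.node (.node (.leaf 109037818) (.leaf 380933482)) (.node (.leaf 48959536) (.leaf 149938021)))) (.node (.node (.node (.leaf 130138162) (.leaf 357171249)) (.node (.leaf 253959553) (.leaf 190027642))) (.node (.node (.leaf 52693198) (.leaf 312053716)) (.node (.leaf 27689010) (.leaf 357154865)))))))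

/-- A Schreier factor, part 141. -/
def facCodePart141 : Janko1.Tree ℕ := (.node (.node (.node (.node (.node (.node (.leaf 286752818) (.leaf 149946417)) (.node (.leaf 347396357) (.leaf 346390578))) (.node (.node (.leaf 279579524) (.leaf 349407629)) (.node (.leaf 342987930) (.leaf 373129266)))) (.node (.node (.node (.leaf 269221921) (.leaf 348688126)) (.node (.leaf 13535661) (.leaf 143296976))) (.node (.node (.leaf 222117938) (.leaf 325763121)) (.node (.leaf 353239090) (.leaf 210190385))))) (.node (.node (.node (.node (.leaf 122372145) (.leaf 352600113)) (.node (.leaf 352190512) (.leaf 349093937))) (.node (.node (.leaf 348569649) (.leaf 138680260)) (.node (.leaf 376968996) (.leaf 205393340)))) (.node (.node (.node (.leaf 313065521) (.leaf 322273329)) (.node (.leaf 149569584) (.leaf 138657841))) (.node (.node (.leaf 342430104) (.leaf 349111689)) (.node (.leaf 180724088) (.leaf 361597581)))))) (.node (.node (.node (.node (.node (.leaf 12929108) (.leaf 361155121)) (.node (.leaf 279429170) (.leaf 359432242))) (.node (.node (.leaf 246497330) (.leaf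 368410674)) (.node (.leaf 82711896) (.leaf 369922258)))) (.node (.node (.node (.leaf 343327398) (.leaf 375246264)) (.node (.leaf 347690073) (.leaf 348804918))) (.node (.node (.leaf 317505585) (.leaf 372965426)) (.node (.leaf 174050618) (.leaf 156720880))))) (.node (.node (.node (.node (.leaf 48318548) (.leaf 316670001)) (.node (.leaf 351977520) (.leaf 313170950))) (.node (.node (.leaf 275255412) (.leaf 191725617)) (.node (.leaf 149214010) (.leaf 191744396)))) (.node (.node (.node (.leaf 273596465) (.leaf 313131057)) (.node (.leaf 67815282) (.leaf 359581650))) (.node (.node (.leaf 172294194) (.leaf 370071845)) (.node (.leaf 3885457) (.leaf 368271333)))))))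

/-- A Schreier factor, part 142. -/
def facCodePart142 : Janko1.Tree ℕ := (.node (.node (.node (.node (.node (.node (.leaf 315299032) (.leaf 370475320)) (.node (.leaf 130727985) (.leaf 367755314))) (.node (.node (.leaf 71077384) (.leaf 358947898)) (.node (.leaf 242401329) (.leaf 296997841)))) (.node (.node (.node (.leaf 125141040) (.leaf 298670986)) (.node (.leaf 8673918) (.leaf 251453533))) (.node (.node (.leaf 252822337) (.leaf 251480445)) (.node (.leaf 290390066) (.leaf 277954609))))) (.node (.node (.node (.node (.leaf 375227553) (.leaf 281364881)) (.node (.leaf 11739482) (.leaf 254722097))) (.node (.node (.leaf 177606014) (.leaf 275103794)) (.node (.leaf 237553913) (.leaf 277930306)))) (.node (.node (.node (.leaf 44810288) (.leaf 302530610)) (.node (.leaf 359718482) (.leaf 277158524))) (.node (.node (.leaf 287162416) (.leaf 287850546)) (.node (.leaf 346570801) (.leaf 289390642)))))) (.node (.node (.node (.node (.node (.leaf 311083057) (.leaf 299155506)) (.node (.leaf 125423754) (.leaf 296457829))) (.node (.node (.leaf 1887733) (.leaf 287033069))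 (.node (.leaf 344970032) (.leaf 290130870)))) (.node (.node (.node (.leaf 184500934) (.leaf 242696241)) (.node (.leaf 359743538) (.leaf 242679857))) (.node (.node (.leaf 326221874) (.leaf 286720049)) (.node (.leaf 282745096) (.leaf 33593776))))) (.node (.node (.node (.node (.leaf 301645873) (.leaf 245940273)) (.node (.leaf 11473533) (.leaf 290144305))) (.node (.node (.leaf 266653520) (.leaf 33610566)) (.node (.leaf 68681778) (.leaf 302661682)))) (.node (.node (.node (.leaf 128008242) (.leaf 275747965)) (.node (.leaf 33882162) (.leaf 277741618))) (.node (.node (.leaf 290340914) (.leaf 275239365)) (.node (.leaf 252854437) (.leaf 301973554)))))))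

/-- A Schreier factor, part 143. -/
def facCodePart143 : Janko1.Tree ℕ := (.node (.node (.node (.node (.node (.node (.leaf 44662834) (.leaf 258965553)) (.node (.leaf 296243902) (.leaf 106053681))) (.node (.node (.leaf 108281906) (.leaf 106151985)) (.node (.leaf 145342513) (.leaf 106070065)))) (.node (.node (.node (.leaf 172556337) (.leaf 259033564)) (.node (.leaf 347757062) (.leaf 288375486))) (.node (.node (.leaf 369774326) (.leaf 291274802)) (.node (.leaf 329891942) (.leaf 308805682))))) (.node (.node (.node (.node (.leaf 334544946) (.leaf 294142002)) (.node (.leaf 369860953) (.leaf 274612274))) (.node (.node (.leaf 140364316) (.leaf 294607042)) (.node (.leaf 193698657) (.leaf 274204866)))) (.node (.node (.node (.leaf 65945649) (.leaf 291881010)) (.node (.leaf 149129462) (.leaf 68847601))) (.node (.node (.leaf 254705842) (.leaf 308878554)) (.node (.leaf 352043056) (.leaf 308854833)))))) (.node (.node (.node (.node (.node (.leaf 274087985) (.leaf 309018673)) (.node (.leaf 65126450) (.leaf 237600817))) (.node (.node (.leaf 307042558) (.leaf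 344527480)) (.node (.leaf 60932144) (.leaf 344661533)))) (.node (.node (.node (.leaf 1458224) (.leaf 345407538)) (.node (.leaf 101580848) (.leaf 366051378))) (.node (.node (.leaf 286936456) (.leaf 346069545)) (.node (.leaf 293961777) (.leaf 347586610))))) (.node (.node (.node (.node (.leaf 269455362) (.leaf 365436826)) (.node (.leaf 85033008) (.leaf 362676274))) (.node (.node (.leaf 340906686) (.leaf 380567602)) (.node (.leaf 52920368) (.leaf 377339954)))) (.node (.node (.node (.leaf 148881457) (.leaf 362266674)) (.node (.leaf 156666937) (.leaf 379797554))) (.node (.node (.leaf 339329073) (.leaf 365871153)) (.node (.leaf 321339441) (.leaf 163416441)))))))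

/-- A Schreier factor, part 144. -/
def facCodePart144 : Janko1.Tree ℕ := (.node (.node (.node (.node (.node (.node (.leaf 109428784) (.leaf 163528753)) (.node (.leaf 349978700) (.leaf 163517750))) (.node (.node (.leaf 340918322) (.leaf 185237553)) (.node (.leaf 375902250) (.leaf 380411676)))) (.node (.node (.node (.leaf 210141234) (.leaf 185189210)) (.node (.leaf 326049254) (.leaf 345982588))) (.node (.node (.leaf 287227952) (.leaf 348241970)) (.node (.leaf 345458385) (.leaf 365937649))))) (.node (.node (.node (.node (.leaf 269729840) (.leaf 363348018)) (.node (.leaf 271826994) (.leaf 377788128))) (.node (.node (.leaf 307005984) (.leaf 362158457)) (.node (.leaf 29135469) (.leaf 377197124)))) (.node (.node (.node (.leaf 94358369) (.leaf 362843080)) (.node (.leaf 53313966) (.leaf 380848441))) (.node (.node (.leaf 11355134) (.leaf 330137649)) (.node (.leaf 247791665) (.leaf 216678449)))))) (.node (.node (.node (.node (.node (.leaf 280399090) (.leaf 216727601)) (.node (.leaf 298538573) (.leaf 330126174))) (.node (.node (.leaf 264716336) (.leaf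 330219569)) (.node (.leaf 122297614) (.leaf 358350898)))) (.node (.node (.node (.leaf 333498620) (.leaf 375707265)) (.node (.leaf 368803890) (.leaf 355767162))) (.node (.node (.leaf 145051824) (.leaf 375360818)) (.node (.leaf 198856844) (.leaf 356156670))))) (.node (.node (.node (.node (.leaf 136495152) (.leaf 370262065)) (.node (.leaf 286048305) (.leaf 170295785))) (.node (.node (.leaf 304340968) (.leaf 370280333)) (.node (.leaf 342907508) (.leaf 370327904)))) (.node (.node (.node (.leaf 263980912) (.leaf 231817265)) (.node (.leaf 299714834) (.leaf 340221277))) (.node (.node (.leaf 114196656) (.leaf 340314305)) (.node (.leaf 164102193) (.leaf 231787373)))))))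

/-- A Schreier factor, part 145. -/
def facCodePart145 : Janko1.Tree ℕ := (.node (.node (.node (.node (.node (.node (.leaf 331218993) (.leaf 367624242)) (.node (.leaf 313133333) (.leaf 352899793))) (.node (.node (.leaf 356910256) (.leaf 350683186)) (.node (.leaf 359776305) (.leaf 368345138)))) (.node (.node (.node (.leaf 50741298) (.leaf 356255621)) (.node (.leaf 170885169) (.leaf 375788610))) (.node (.node (.leaf 335724593) (.leaf 334810098)) (.node (.leaf 317574449) (.leaf 223501849))))) (.node (.node (.node (.node (.leaf 361251304) (.leaf 223510577)) (.node (.leaf 355323952) (.leaf 223615352))) (.node (.node (.leaf 372867121) (.leaf 334748933)) (.node (.leaf 333479986) (.leaf 178536497)))) (.node (.node (.node (.leaf 368789402) (.leaf 375625938)) (.node (.leaf 145096754) (.leaf 375692362))) (.node (.node (.leaf 39084072) (.leaf 178552881)) (.node (.leaf 222871600) (.leaf 368148530)))))) (.node (.node (.node (.node (.node (.leaf 338661780) (.leaf 367692086)) (.node (.leaf 270581810) (.leaf 296255538))) (.node (.node (.leaf 305894362) (.leaf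 281378866)) (.node (.leaf 8437809) (.leaf 279069468)))) (.node (.node (.node (.leaf 42961796) (.leaf 298565682)) (.node (.leaf 28562848) (.leaf 124224306))) (.node (.node (.leaf 259670065) (.leaf 124311714)) (.node (.leaf 242450849) (.leaf 269178076))))) (.node (.node (.node (.node (.leaf 125207973) (.leaf 269287473)) (.node (.leaf 273946332) (.leaf 269189169))) (.node (.node (.leaf 288097764) (.leaf 269306693)) (.node (.leaf 256163888) (.leaf 124289073)))) (.node (.node (.node (.leaf 44712832) (.leaf 50353142)) (.node (.leaf 140772908) (.leaf 50298929))) (.node (.node (.leaf 155222066) (.leaf 50339886)) (.node (.leaf 208504550) (.leaf 299222632)))))))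

/-- A Schreier factor, part 146. -/
def facCodePart146 : Janko1.Tree ℕ := (.node (.node (.node (.node (.node (.node (.leaf 167641137) (.leaf 299307349)) (.node (.leaf 315801649) (.leaf 284016690))) (.node (.node (.leaf 117473328) (.leaf 302071858)) (.node (.leaf 357926242) (.leaf 304283698)))) (.node (.node (.node (.leaf 375423025) (.leaf 284475442)) (.node (.leaf 260656965) (.leaf 302486877))) (.node (.node (.leaf 69337136) (.leaf 280838194)) (.node (.leaf 378961970) (.leaf 278921266))))) (.node (.node (.node (.node (.leaf 36456176) (.leaf 296829554)) (.node (.leaf 155238450) (.leaf 299106354))) (.node (.node (.leaf 329285681) (.leaf 60882993)) (.node (.leaf 125517872) (.leaf 304824369)))) (.node (.node (.node (.leaf 256395061) (.leaf 60903761)) (.node (.leaf 63019754) (.leaf 263356465))) (.node (.node (.leaf 305905714) (.leaf 113967153)) (.node (.leaf 35588432) (.leaf 114003188)))))) (.node (.node (.node (.node (.node (.leaf 100188210) (.leaf 263340081)) (.node (.leaf 51104066) (.leaf 263422304))) (.node (.node (.leaf 117162032) (.leaf 304201778))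 (.node (.leaf 260349384) (.leaf 304766074)))) (.node (.node (.node (.leaf 19497010) (.leaf 90357809)) (.node (.leaf 23862854) (.leaf 276715993))) (.node (.node (.leaf 88834098) (.leaf 7553073)) (.node (.leaf 117948466) (.leaf 276693041))))) (.node (.node (.node (.node (.leaf 58884146) (.leaf 250135713)) (.node (.leaf 368066609) (.leaf 246317106))) (.node (.node (.leaf 322949482) (.leaf 255860937)) (.node (.leaf 376160304) (.leaf 270860338)))) (.node (.node (.node (.leaf 309419548) (.leaf 244172014)) (.node (.leaf 5783601) (.leaf 239288370))) (.node (.node (.leaf 40681521) (.leaf 258342962)) (.node (.leaf 27839753) (.leaf 249663154)))))))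

/-- A Schreier factor, part 147. -/
def facCodePart147 : Janko1.Tree ℕ := (.node (.node (.node (.node (.node (.node (.leaf 61128753) (.leaf 265617458)) (.node (.leaf 230195250) (.leaf 247601337))) (.node (.node (.leaf 276742193) (.leaf 100253745)) (.node (.leaf 294852488) (.leaf 255727134)))) (.node (.node (.node (.leaf 287752241) (.leaf 282378289)) (.node (.leaf 305858129) (.leaf 18931430))) (.node (.node (.leaf 317985108) (.leaf 18956337)) (.node (.leaf 367466001) (.leaf 100270129))))) (.node (.node (.node (.node (.leaf 19124) (.leaf 317408872)) (.node (.leaf 36100889) (.leaf 198562317))) (.node (.node (.leaf 98354) (.leaf 158223448)) (.node (.leaf 37912626) (.leaf 198526714)))) (.node (.node (.node (.leaf 292241457) (.leaf 321323058)) (.node (.leaf 289718321) (.leaf 330432562))) (.node (.node (.leaf 240555372) (.leaf 311756177)) (.node (.leaf 253771824) (.leaf 318881842)))))) (.node (.node (.node (.node (.node (.leaf 307123517) (.leaf 338870322)) (.node (.leaf 15057985) (.leaf 324142365))) (.node (.node (.leaf 23907734) (.leaf 317755293))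 (.node (.leaf 120340528) (.leaf 333496370)))) (.node (.node (.node (.leaf 160383026) (.leaf 335659058)) (.node (.leaf 354948061) (.leaf 149800872))) (.node (.node (.leaf 372611942) (.leaf 356948992)) (.node (.leaf 245276945) (.leaf 356958257))))) (.node (.node (.node (.node (.leaf 303024486) (.leaf 311954846)) (.node (.leaf 311361586) (.leaf 211697713))) (.node (.node (.leaf 345161778) (.leaf 144621617)) (.node (.leaf 215711793) (.leaf 326606297)))) (.node (.node (.node (.leaf 189218865) (.leaf 211714097)) (.node (.leaf 98025520) (.leaf 310154918))) (.node (.node (.leaf 66453552) (.leaf 329842738)) (.node (.leaf 340956782) (.leaf 339403020)))))))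

/-- A Schreier factor, part 148. -/
def facCodePart148 : Janko1.Tree ℕ := (.node (.node (.node (.node (.node (.node (.leaf 323113334) (.leaf 318393301)) (.node (.leaf 329700045) (.leaf 327441642))) (.node (.node (.leaf 311689858) (.leaf 312328242)) (.node (.leaf 273898814) (.leaf 317145138)))) (.node (.node (.node (.leaf 120602673) (.leaf 326850266)) (.node (.leaf 57885941) (.leaf 320848066))) (.node (.node (.leaf 267001352) (.leaf 137106177)) (.node (.leaf 55017521) (.leaf 340590642))))) (.node (.node (.node (.node (.leaf 50724913) (.leaf 328958002)) (.node (.leaf 178831410) (.leaf 338444338))) (.node (.node (.leaf 231833650) (.leaf 321782812)) (.node (.leaf 302694449) (.leaf 196591665)))) (.node (.node (.node (.leaf 282380498) (.leaf 156647932)) (.node (.leaf 309105514) (.leaf 361321796))) (.node (.node (.leaf 375947312) (.leaf 316555313)) (.node (.leaf 90947634) (.leaf 191709233)))))) (.node (.node (.node (.node (.node (.leaf 86988133) (.leaf 358171453)) (.node (.leaf 124026930) (.leaf 151568433))) (.node (.node (.leaf 119987500) (.leaf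 313049137)) (.node (.leaf 362479665) (.leaf 341084586)))) (.node (.node (.node (.leaf 346751025) (.leaf 335003698)) (.node (.leaf 364759968) (.leaf 314032178))) (.node (.node (.leaf 313851952) (.leaf 316309554)) (.node (.leaf 371834928) (.leaf 343163182))))) (.node (.node (.node (.node (.leaf 283992316) (.leaf 312760518)) (.node (.leaf 250740786) (.leaf 339985793))) (.node (.node (.leaf 206592225) (.leaf 209985177)) (.node (.leaf 179912752) (.leaf 325632049)))) (.node (.node (.node (.leaf 186630192) (.leaf 352436273)) (.node (.leaf 160055344) (.leaf 143179825))) (.node (.node (.leaf 332890161) (.leaf 143196209)) (.node (.leaf 314998833) (.leaf 352428041)))))))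

/-- A Schreier factor, part 149. -/
def facCodePart149 : Janko1.Tree ℕ := (.node (.node (.node (.node (.node (.node (.leaf 321634353) (.leaf 209993777)) (.node (.leaf 357990450) (.leaf 322034654))) (.node (.node (.leaf 319340594) (.leaf 349077553)) (.node (.leaf 355717993) (.leaf 138562256)))) (.node (.node (.node (.leaf 106872881) (.leaf 138575921)) (.node (.leaf 75795122) (.leaf 349061169))) (.node (.node (.leaf 127090737) (.leaf 322019502)) (.node (.leaf 173080624) (.leaf 334463026))))) (.node (.node (.node (.node (.leaf 192872496) (.leaf 325436074)) (.node (.leaf 166281264) (.leaf 341655602))) (.node (.node (.leaf 259364969) (.leaf 343769138)) (.node (.leaf 242221105) (.leaf 323207218)))) (.node (.node (.node (.leaf 241819346) (.leaf 269716340)) (.node (.leaf 102752028) (.leaf 245487058))) (.node (.node (.leaf 41517104) (.leaf 76742705)) (.node (.leaf 66209333) (.leaf 286588977)))))) (.node (.node (.node (.node (.node (.leaf 239534129) (.leaf 27297640)) (.node (.leaf 255051168) (.leaf 242584686))) (.node (.node (.leaf 310296626) (.leaf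 245841969)) (.node (.leaf 312590386) (.leaf 33447330)))) (.node (.node (.node (.leaf 224378929) (.leaf 289947802)) (.node (.leaf 197675808) (.leaf 33426278))) (.node (.node (.leaf 227463542) (.leaf 82411569)) (.node (.leaf 82022548) (.leaf 248404552))))) (.node (.node (.node (.node (.leaf 49758256) (.leaf 269277857)) (.node (.leaf 89964592) (.leaf 242548786))) (.node (.node (.leaf 317283808) (.leaf 240311316)) (.node (.leaf 337693761) (.leaf 266965734)))) (.node (.node (.node (.leaf 319406129) (.leaf 250675250)) (.node (.leaf 31653936) (.leaf 243843122))) (.node (.node (.leaf 5718628) (.leaf 254156309)) (.node (.leaf 165352069) (.leaf 272482354)))))))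

/-- A Schreier factor, part 150. -/
def facCodePart150 : Janko1.Tree ℕ := (.node (.node (.node (.node (.node (.node (.leaf 218259522) (.leaf 251953890)) (.node (.leaf 360595505) (.leaf 92454961))) (.node (.node (.leaf 377866932) (.leaf 251265073)) (.node (.leaf 349339697) (.leaf 277905457)))) (.node (.node (.node (.leaf 2591452) (.leaf 98339041)) (.node (.leaf 46514225) (.leaf 16891953))) (.node (.node (.leaf 39977010) (.leaf 16908337)) (.node (.leaf 44122162) (.leaf 254574641))))) (.node (.node (.node (.node (.leaf 107561010) (.leaf 98353201)) (.node (.leaf 286294065) (.leaf 257973174))) (.node (.node (.leaf 304578609) (.leaf 242040882)) (.node (.leaf 249206826) (.leaf 251287077)))) (.node (.node (.node (.leaf 302825520) (.leaf 266338354)) (.node (.leaf 298352688) (.leaf 260177970))) (.node (.node (.leaf 332038628) (.leaf 267852029)) (.node (.leaf 376127536) (.leaf 267894833)))))) (.node (.node (.node (.node (.node (.leaf 338709026) (.leaf 42245904)) (.node (.leaf 367845708) (.leaf 42303537))) (.node (.node (.leaf 21401706) (.leaf 262327049))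 (.node (.leaf 25608242) (.leaf 272963281)))) (.node (.node (.node (.leaf 300957746) (.leaf 253151400)) (.node (.leaf 116359218) (.leaf 270767926))) (.node (.node (.leaf 303090888) (.leaf 247028272)) (.node (.leaf 258479585) (.leaf 240943868))))) (.node (.node (.node (.node (.leaf 367362096) (.leaf 265551922)) (.node (.leaf 199646804) (.leaf 250167346))) (.node (.node (.leaf 305694102) (.leaf 256311346)) (.node (.leaf 374231212) (.leaf 300172482)))) (.node (.node (.node (.leaf 371949618) (.leaf 132153393)) (.node (.leaf 28037320) (.leaf 132306994))) (.node (.node (.leaf 256196657) (.leaf 225116209)) (.node (.leaf 271784953) (.leaf 380051054)))))))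

/-- A Schreier factor, part 151. -/
def facCodePart151 : Janko1.Tree ℕ := (.node (.node (.node (.node (.node (.node (.leaf 307052592) (.leaf 380158001)) (.node (.leaf 74074876) (.leaf 380079166))) (.node (.node (.leaf 292031278) (.leaf 380174385)) (.node (.leaf 307560932) (.leaf 225148977)))) (.node (.node (.node (.leaf 69353521) (.leaf 318324786)) (.node (.leaf 293847090) (.leaf 310067250))) (.node (.node (.leaf 360497) (.leaf 327965476)) (.node (.leaf 291586098) (.leaf 320667698))))) (.node (.node (.node (.node (.leaf 334512177) (.leaf 326975538)) (.node (.leaf 298582064) (.leaf 344801330))) (.node (.node (.leaf 302946880) (.leaf 333430834)) (.node (.leaf 81955097) (.leaf 317366392)))) (.node (.node (.node (.leaf 89874533) (.leaf 325015646)) (.node (.leaf 372398444) (.leaf 342638642))) (.node (.node (.leaf 195745800) (.leaf 330058084)) (.node (.leaf 363102258) (.leaf 176734257)))))) (.node (.node (.node (.node (.node (.leaf 112230448) (.leaf 176835397)) (.node (.leaf 120248664) (.leaf 330108342))) (.node (.node (.leaf 254102912) (.leaf 237256753))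 (.node (.leaf 323043817) (.leaf 237387825)))) (.node (.node (.node (.leaf 359546929) (.leaf 371114033)) (.node (.leaf 66519088) (.leaf 371196190))) (.node (.node (.leaf 348274737) (.leaf 237289521)) (.node (.leaf 41795632) (.leaf 237404209))))) (.node (.node (.node (.node (.leaf 186647900) (.leaf 318820417)) (.node (.leaf 215793713) (.leaf 337201360))) (.node (.node (.leaf 5849136) (.leaf 309526578)) (.node (.leaf 327078461) (.leaf 327319602)))) (.node (.node (.node (.leaf 278642737) (.leaf 317950013)) (.node (.leaf 49545264) (.leaf 336183346))) (.node (.node (.leaf 70506058) (.leaf 339050545)) (.node (.leaf 108576817) (.leaf 163364913)))))))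

/-- A Schreier factor, part 152. -/
def facCodePart152 : Janko1.Tree ℕ := (.node (.node (.node (.node (.node (.node (.leaf 23677478) (.leaf 163323436)) (.node (.leaf 256099309) (.leaf 163382878))) (.node (.node (.leaf 14811184) (.leaf 339034161)) (.node (.leaf 363011253) (.leaf 340541490)))) (.node (.node (.node (.leaf 375881776) (.leaf 328826930)) (.node (.leaf 302514225) (.leaf 331126516))) (.node (.node (.leaf 87347362) (.leaf 334649669)) (.node (.leaf 148488242) (.leaf 334725169))))) (.node (.node (.node (.node (.leaf 83263537) (.leaf 183451697)) (.node (.leaf 373047346) (.leaf 183439580))) (.node (.node (.leaf 21908409) (.leaf 183540081)) (.node (.leaf 344096817) (.leaf 218267697)))) (.node (.node (.node (.leaf 328548401) (.leaf 375455793)) (.node (.leaf 193069104) (.leaf 375497097))) (.node (.node (.leaf 364561316) (.leaf 218354010)) (.node (.leaf 210640164) (.leaf 323092530)))))) (.node (.node (.node (.node (.node (.leaf 23593010) (.leaf 334908241)) (.node (.leaf 304292261) (.leaf 314624794))) (.node (.node (.leaf 302108478) (.leaf 325373704))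 (.node (.leaf 314900529) (.leaf 329367792)))) (.node (.node (.node (.leaf 351502385) (.leaf 319520818)) (.node (.leaf 358268977) (.leaf 313530724))) (.node (.node (.leaf 88432450) (.leaf 343364652)) (.node (.leaf 220569598) (.leaf 343478921))))) (.node (.node (.node (.node (.leaf 92373157) (.leaf 170069436)) (.node (.leaf 54919218) (.leaf 170089362))) (.node (.node (.leaf 268517426) (.leaf 343462008)) (.node (.leaf 242139185) (.leaf 231626274)))) (.node (.node (.node (.leaf 289030193) (.leaf 231555121)) (.node (.leaf 205439026) (.leaf 316281117))) (.node (.node (.leaf 201998386) (.leaf 323633202)) (.node (.leaf 127190997) (.leaf 341606450)))))))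

/-- A Schreier factor, part 153. -/
def facCodePart153 : Janko1.Tree ℕ := (.node (.node (.node (.node (.node (.node (.leaf 63261148) (.leaf 313952138)) (.node (.leaf 337796634) (.leaf 332120420))) (.node (.node (.leaf 239490268) (.leaf 269633008)) (.node (.leaf 253827249) (.leaf 245858354)))) (.node (.node (.node (.leaf 254869553) (.leaf 263264812)) (.node (.leaf 41582640) (.leaf 261144626))) (.node (.node (.leaf 290930737) (.leaf 254099506)) (.node (.leaf 66273328) (.leaf 271908914))))) (.node (.node (.node (.node (.leaf 76316722) (.leaf 107986993)) (.node (.leaf 102832738) (.leaf 108073860))) (.node (.node (.leaf 131257990) (.leaf 304709681)) (.node (.leaf 5406768) (.leaf 304660529)))) (.node (.node (.node (.leaf 31506480) (.leaf 107954917)) (.node (.leaf 245354614) (.leaf 263244336))) (.node (.node (.leaf 319327890) (.leaf 66903944)) (.node (.leaf 49860109) (.leaf 66882625)))))) (.node (.node (.node (.node (.node (.leaf 58248093) (.leaf 263310176)) (.node (.leaf 188235826) (.leaf 251428914))) (.node (.node (.leaf 15147418) (.leaf 242278777))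 (.node (.leaf 307369548) (.leaf 262653044)))) (.node (.node (.node (.leaf 293994544) (.leaf 270123058)) (.node (.leaf 97959984) (.leaf 254640178))) (.node (.node (.leaf 366991506) (.leaf 260522034)) (.node (.leaf 190682926) (.leaf 295723169))))) (.node (.node (.node (.node (.leaf 135597536) (.leaf 295780401)) (.node (.leaf 366395442) (.leaf 295698481))) (.node (.node (.leaf 364068914) (.leaf 124059697)) (.node (.leaf 302764176) (.leaf 272449585)))) (.node (.node (.node (.leaf 81707056) (.leaf 272404234)) (.node (.leaf 91035112) (.leaf 240539464))) (.node (.node (.leaf 4890918) (.leaf 257856474)) (.node (.leaf 9748530) (.leaf 268615730)))))))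

/-- A Schreier factor, part 154. -/
def facCodePart154 : Janko1.Tree ℕ := (.node (.node (.node (.node (.node (.node (.leaf 367345713) (.leaf 247634766)) (.node (.leaf 341205080) (.leaf 86130737))) (.node (.node (.leaf 327598128) (.leaf 274235441)) (.node (.leaf 339198001) (.leaf 247562289)))) (.node (.node (.node (.leaf 165664628) (.leaf 80678009)) (.node (.leaf 175854274) (.leaf 99942450))) (.node (.node (.leaf 122126386) (.leaf 96501810)) (.node (.leaf 84918752) (.leaf 127848560))))) (.node (.node (.node (.node (.leaf 249677569) (.leaf 111378482)) (.node (.leaf 88687372) (.leaf 116055948))) (.node (.node (.leaf 336592944) (.leaf 105417766)) (.node (.leaf 305168433) (.leaf 121625978)))) (.node (.node (.node (.leaf 270277156) (.leaf 74877680)) (.node (.leaf 230327597) (.leaf 95985522))) (.node (.node (.leaf 61653041) (.leaf 14057521)) (.node (.leaf 104336504) (.leaf 14155825)))))) (.node (.node (.node (.node (.node (.leaf 258147720) (.leaf 315080753)) (.node (.leaf 306970673) (.leaf 359890993))) (.node (.node (.leaf 271844957) (.leaf 154732725))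 (.node (.leaf 6684720) (.leaf 154632241)))) (.node (.node (.node (.leaf 32555056) (.leaf 314998833)) (.node (.leaf 65543761) (.leaf 190152754))) (.node (.node (.leaf 40420372) (.leaf 213598384)) (.node (.leaf 238603270) (.leaf 227066645))))) (.node (.node (.node (.node (.leaf 65191984) (.leaf 229703730)) (.node (.leaf 369819697) (.leaf 234684466))) (.node (.node (.leaf 262848560) (.leaf 238258340)) (.node (.leaf 371785777) (.leaf 225329202)))) (.node (.node (.node (.leaf 335105006) (.leaf 195150945)) (.node (.leaf 337330225) (.leaf 211501106))) (.node (.node (.leaf 213436934) (.leaf 309304108)) (.node (.leaf 48767149) (.leaf 354254897)))))))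

/-- A Schreier factor, part 155. -/
def facCodePart155 : Janko1.Tree ℕ := (.node (.node (.node (.node (.node (.node (.leaf 276332592) (.leaf 141180977)) (.node (.leaf 347635761) (.leaf 350879793))) (.node (.node (.leaf 323572309) (.leaf 350963400)) (.node (.leaf 129731544) (.leaf 141230129)))) (.node (.node (.node (.leaf 163381298) (.leaf 213747010)) (.node (.leaf 152735424) (.leaf 216301618))) (.node (.node (.leaf 160206436) (.leaf 229883954)) (.node (.leaf 136367245) (.leaf 226967602))))) (.node (.node (.node (.node (.leaf 96829488) (.leaf 203767858)) (.node (.leaf 347308082) (.leaf 199917618))) (.node (.node (.leaf 284776042) (.leaf 195369754)) (.node (.leaf 284737585) (.leaf 198197298)))) (.node (.node (.node (.leaf 249823281) (.leaf 238018296)) (.node (.leaf 243335217) (.leaf 221495346))) (.node (.node (.leaf 37734640) (.leaf 318128177)) (.node (.leaf 24367518) (.leaf 199726568)))))) (.node (.node (.node (.node (.node (.leaf 319430) (.leaf 345245828)) (.node (.leaf 5570610) (.leaf 199661104))) (.node (.node (.leaf 327221296) (.leaf 232063026))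 (.node (.leaf 340885552) (.leaf 214827058)))) (.node (.node (.node (.leaf 133436476) (.leaf 191496242)) (.node (.leaf 266945526) (.leaf 188603981))) (.node (.node (.leaf 152911920) (.leaf 202162226)) (.node (.leaf 51249201) (.leaf 358744113))))) (.node (.node (.node (.node (.leaf 118325297) (.leaf 358833429)) (.node (.leaf 114262065) (.leaf 192856113))) (.node (.node (.leaf 379050324) (.leaf 187996490)) (.node (.leaf 364003377) (.leaf 355467313)))) (.node (.node (.node (.leaf 139823642) (.leaf 147652657)) (.node (.leaf 329211590) (.leaf 187931212))) (.node (.node (.leaf 124174386) (.leaf 210436146)) (.node (.leaf 90767845) (.leaf 220218664)))))))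

/-- A Schreier factor, part 156. -/
def facCodePart156 : Janko1.Tree ℕ := (.node (.node (.node (.node (.node (.node (.leaf 350885302) (.leaf 191371049)) (.node (.leaf 345522224) (.leaf 205062194))) (.node (.node (.leaf 357679153) (.leaf 202031154)) (.node (.leaf 315424817) (.leaf 231915570)))) (.node (.node (.node (.leaf 232947760) (.leaf 228165696)) (.node (.leaf 322166824) (.leaf 214684945))) (.node (.node (.leaf 21807154) (.leaf 349785504)) (.node (.leaf 25935922) (.leaf 206246848))))) (.node (.node (.node (.node (.leaf 285968641) (.leaf 322748465)) (.node (.leaf 354205744) (.leaf 319193137))) (.node (.node (.leaf 288456753) (.leaf 346243121)) (.node (.leaf 242654626) (.leaf 346343849)))) (.node (.node (.node (.leaf 178691590) (.leaf 220369908)) (.node (.leaf 175521842) (.leaf 236634162))) (.node (.node (.leaf 30548008) (.leaf 233610464)) (.node (.leaf 75044257) (.leaf 210277045)))))) (.node (.node (.node (.node (.node (.leaf 357810226) (.leaf 206520370)) (.node (.leaf 355573210) (.leaf 197089134))) (.node (.node (.leaf 276103216) (.leaf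 93985498)) (.node (.leaf 290422833) (.leaf 78217266)))) (.node (.node (.node (.leaf 240061712) (.leaf 113499950)) (.node (.leaf 129435597) (.leaf 129826866))) (.node (.node (.leaf 44010182) (.leaf 72387106)) (.node (.leaf 3555377) (.leaf 239982882))))) (.node (.node (.node (.node (.leaf 39833845) (.leaf 284036378)) (.node (.leaf 34504713) (.leaf 23125453))) (.node (.node (.leaf 7887625) (.leaf 23068721)) (.node (.leaf 276955186) (.leaf 283934769)))) (.node (.node (.node (.leaf 2874064) (.leaf 239911141)) (.node (.leaf 280789040) (.leaf 78190798))) (.node (.node (.leaf 355696689) (.leaf 28935984)) (.node (.leaf 113300617) (.leaf 287230458)))))))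

/-- A Schreier factor, part 157. -/
def facCodePart157 : Janko1.Tree ℕ := (.node (.node (.node (.node (.node (.node (.leaf 121471024) (.leaf 78299185)) (.node (.leaf 165150770) (.leaf 108052530))) (.node (.node (.leaf 88801328) (.leaf 88524498)) (.node (.leaf 377176113) (.leaf 110166066)))) (.node (.node (.node (.leaf 366510372) (.leaf 130007090)) (.node (.leaf 258441264) (.leaf 126178385))) (.node (.node (.leaf 32851390) (.leaf 98422894)) (.node (.leaf 180969434) (.leaf 248498057))))) (.node (.node (.node (.node (.leaf 218401354) (.leaf 88002144)) (.node (.leaf 164306024) (.leaf 4526121))) (.node (.node (.leaf 215012042) (.leaf 275289941)) (.node (.leaf 312725433) (.leaf 275401602)))) (.node (.node (.node (.leaf 65404976) (.leaf 4638778)) (.node (.leaf 303878665) (.leaf 251970044))) (.node (.node (.leaf 297025585) (.leaf 11862065)) (.node (.leaf 24714265) (.leaf 278470986)))))) (.node (.node (.node (.node (.node (.leaf 46907441) (.leaf 92061746)) (.node (.leaf 107724850) (.leaf 88424498))) (.node (.node (.leaf 265125938) (.leaf 265079532))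 (.node (.leaf 300777522) (.leaf 117579872)))) (.node (.node (.node (.leaf 56887286) (.leaf 37522173)) (.node (.leaf 267419698) (.leaf 37601329))) (.node (.node (.leaf 120313214) (.leaf 291995697)) (.node (.leaf 349687126) (.leaf 132268082))))) (.node (.node (.node (.node (.leaf 367558705) (.leaf 96115532)) (.node (.leaf 341123453) (.leaf 127752661))) (.node (.node (.leaf 356515889) (.leaf 111312946)) (.node (.leaf 104274976) (.leaf 71012664)))) (.node (.node (.node (.leaf 339001394) (.leaf 102367282)) (.node (.leaf 73269297) (.leaf 105316402))) (.node (.node (.leaf 124420145) (.leaf 90017480)) (.node (.leaf 371802162) (.leaf 86580984)))))))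

/-- A Schreier factor, part 158. -/
def facCodePart158 : Janko1.Tree ℕ := (.node (.node (.node (.node (.node (.node (.leaf 92864561) (.leaf 117956533)) (.node (.leaf 276316209) (.leaf 297631793))) (.node (.node (.leaf 294273073) (.leaf 47792177)) (.node (.leaf 331972656) (.leaf 270811185)))) (.node (.node (.node (.leaf 40353842) (.leaf 221184049)) (.node (.leaf 258163449) (.leaf 221298913))) (.node (.node (.leaf 40337456) (.leaf 333135921)) (.node (.leaf 256230104) (.leaf 377117041))))) (.node (.node (.node (.node (.leaf 291439808) (.leaf 181378262)) (.node (.leaf 273762508) (.leaf 216373978))) (.node (.node (.leaf 289374256) (.leaf 200498629)) (.node (.leaf 289243185) (.leaf 227033138)))) (.node (.node (.node (.leaf 307216433) (.leaf 203276338)) (.node (.leaf 327204914) (.leaf 234618930))) (.node (.node (.leaf 362987570) (.leaf 212041778)) (.node (.leaf 88888081) (.leaf 198821618)))))) (.node (.node (.node (.node (.node (.leaf 365215794) (.leaf 194854962)) (.node (.leaf 56950832) (.leaf 221581800))) (.node (.node (.leaf 280858286) (.leaf 173115640))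 (.node (.leaf 352157745) (.leaf 173180009)))) (.node (.node (.node (.leaf 370032689) (.leaf 371687473)) (.node (.leaf 262790486) (.leaf 371758786))) (.node (.node (.leaf 354369585) (.leaf 327254090)) (.node (.leaf 267393505) (.leaf 212948596))))) (.node (.node (.node (.node (.leaf 152436785) (.leaf 368623665)) (.node (.leaf 137101362) (.leaf 368705585))) (.node (.node (.leaf 179340372) (.leaf 168088441)) (.node (.leaf 136200241) (.leaf 234455089)))) (.node (.node (.node (.leaf 129815206) (.leaf 216254684)) (.node (.leaf 6984376) (.leaf 203444797))) (.node (.node (.leaf 330275990) (.leaf 229785650)) (.node (.leaf 105332784) (.leaf 226852914)))))))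

/-- A Schreier factor, part 159. -/
def facCodePart159 : Janko1.Tree ℕ := (.node (.node (.node (.node (.node (.node (.leaf 24133681) (.leaf 212000724)) (.node (.leaf 2164613) (.leaf 237882068))) (.node (.node (.leaf 57197614) (.leaf 234772316)) (.node (.leaf 10722937) (.leaf 194714370)))) (.node (.node (.node (.leaf 267522414) (.leaf 336612372)) (.node (.leaf 249872433) (.leaf 226181169))) (.node (.node (.leaf 121227022) (.leaf 226254412)) (.node (.leaf 15990832) (.leaf 159776817))))) (.node (.node (.node (.node (.leaf 260752745) (.leaf 159859290)) (.node (.leaf 243417137) (.leaf 363151409))) (.node (.node (.leaf 118250405) (.leaf 201490850)) (.node (.leaf 337906208) (.leaf 227905232)))) (.node (.node (.node (.leaf 372900438) (.leaf 205668972)) (.node (.leaf 114218156) (.leaf 192005544))) (.node (.node (.leaf 339984434) (.leaf 218581409)) (.node (.leaf 375193650) (.leaf 188188232)))))) (.node (.node (.node (.node (.node (.leaf 283902001) (.leaf 179688286)) (.node (.leaf 327160274) (.leaf 376045617))) (.node (.node (.leaf 358865137) (.leaf 331946980))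 (.node (.leaf 281762132) (.leaf 332038193)))) (.node (.node (.node (.leaf 340787248) (.leaf 219568612)) (.node (.leaf 268682869) (.leaf 214548925))) (.node (.node (.leaf 304205530) (.leaf 328501801)) (.node (.leaf 122277900) (.leaf 328582638))))) (.node (.node (.node (.node (.leaf 266321970) (.leaf 372867121)) (.node (.leaf 301940786) (.leaf 174702633))) (.node (.node (.leaf 118232952) (.leaf 174784561)) (.node (.leaf 350162038) (.leaf 196558898)))) (.node (.node (.node (.leaf 361962617) (.leaf 223282354)) (.node (.leaf 379539001) (.leaf 193642546))) (.node (.node (.leaf 354533424) (.leaf 207175730)) (.node (.leaf 346161201) (.leaf 233668658)))))))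

/-- A Schreier factor, part 160. -/
def facCodePart160 : Janko1.Tree ℕ := (.node (.node (.node (.node (.node (.node (.leaf 336756784) (.leaf 236404786)) (.node (.leaf 88522802) (.leaf 201654322))) (.node (.node (.leaf 167378993) (.leaf 228071625)) (.node (.leaf 150445576) (.leaf 188076317)))) (.node (.node (.node (.leaf 27346521) (.leaf 214603932)) (.node (.leaf 177430401) (.leaf 218710066))) (.node (.node (.leaf 333594673) (.leaf 340844174)) (.node (.leaf 233018318) (.leaf 232852600))))) (.node (.node (.node (.node (.leaf 340083722) (.leaf 166347101)) (.node (.leaf 322224177) (.leaf 367476785))) (.node (.node (.leaf 213057560) (.leaf 367563361)) (.node (.leaf 202136057) (.leaf 337561994)))) (.node (.node (.node (.leaf 145836080) (.leaf 193790002)) (.node (.leaf 226050096) (.leaf 223150168))) (.node (.node (.leaf 3296540) (.leaf 82069836)) (.node (.leaf 9601074) (.leaf 113442866)))))) (.node (.node (.node (.node (.node (.leaf 38797361) (.leaf 109892538)) (.node (.leaf 34316222) (.leaf 94766288))) (.node (.node (.leaf 4767794) (.leaf 126238770))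 (.node (.leaf 6608129) (.leaf 103600926)))) (.node (.node (.node (.leaf 257498352) (.leaf 103667072)) (.node (.leaf 240131309) (.leaf 257415716))) (.node (.node (.leaf 32490440) (.leaf 302095766)) (.node (.leaf 273104945) (.leaf 302137393))))) (.node (.node (.node (.node (.leaf 255574065) (.leaf 56098865)) (.node (.leaf 129516589) (.leaf 56186752))) (.node (.node (.leaf 135446578) (.leaf 62324785)) (.node (.leaf 188399666) (.leaf 305266737)))) (.node (.node (.node (.leaf 138625074) (.leaf 260702257)) (.node (.leaf 191774770) (.leaf 109480449))) (.node (.node (.leaf 174358577) (.leaf 109559857)) (.node (.leaf 338231345) (.leaf 107970610)))))))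

/-- A Schreier factor, part 161. -/
def facCodePart161 : Janko1.Tree ℕ := (.node (.node (.node (.node (.node (.node (.leaf 330940466) (.leaf 110055669)) (.node (.leaf 366247986) (.leaf 81920461))) (.node (.node (.leaf 65372208) (.leaf 113315340)) (.node (.leaf 363975434) (.leaf 94634034)))) (.node (.node (.node (.leaf 40635464) (.leaf 126091314)) (.node (.leaf 377389105) (.leaf 39652784))) (.node (.node (.leaf 272072752) (.leaf 39715113)) (.node (.leaf 276416810) (.leaf 119538308))))) (.node (.node (.node (.node (.leaf 348717105) (.leaf 119619633)) (.node (.leaf 258392112) (.leaf 266305585))) (.node (.node (.leaf 38256690) (.leaf 269732594)) (.node (.leaf 257228850) (.leaf 269811761)))) (.node (.node (.node (.leaf 292683826) (.leaf 125583409)) (.node (.leaf 42450994) (.leaf 45909198))) (.node (.node (.leaf 294900124) (.leaf 296357012)) (.node (.leaf 48463920) (.leaf 296468529)))))) (.node (.node (.node (.node (.node (.leaf 285769777) (.leaf 124108850)) (.node (.leaf 304124621) (.leaf 88096818))) (.node (.node (.leaf 267194702) (.leaf 119570482))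 (.node (.leaf 262488084) (.leaf 108167596)))) (.node (.node (.node (.leaf 112853042) (.leaf 249629882)) (.node (.leaf 49283122) (.leaf 89948209))) (.node (.node (.leaf 235821002) (.leaf 276400236)) (.node (.leaf 155933085) (.leaf 7176241))))) (.node (.node (.node (.node (.leaf 78135346) (.leaf 89931825)) (.node (.leaf 11681842) (.leaf 249643057))) (.node (.node (.leaf 146554929) (.leaf 112164914)) (.node (.leaf 173458581) (.leaf 83935282)))) (.node (.node (.node (.leaf 366002224) (.leaf 99909682)) (.node (.leaf 226246705) (.leaf 132415538))) (.node (.node (.leaf 199557186) (.leaf 96050925)) (.node (.leaf 163814421) (.leaf 80041874)))))))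

/-- A Schreier factor, part 162. -/
def facCodePart162 : Janko1.Tree ℕ := (.node (.node (.node (.node (.node (.node (.leaf 190349360) (.leaf 116031538)) (.node (.leaf 219156074) (.leaf 70945769))) (.node (.node (.leaf 166035506) (.leaf 105398322)) (.node (.leaf 228900912) (.leaf 90406962)))) (.node (.node (.node (.leaf 142868530) (.leaf 74858546)) (.node (.leaf 33554481) (.leaf 255297818))) (.node (.node (.leaf 370163760) (.leaf 18517498)) (.node (.leaf 129942506) (.leaf 281906438))))) (.node (.node (.node (.node (.leaf 97834558) (.leaf 18497585)) (.node (.leaf 124667934) (.leaf 197924693))) (.node (.node (.leaf 101063434) (.leaf 157762772)) (.node (.leaf 97640269) (.leaf 317046833)))) (.node (.node (.node (.leaf 32538674) (.leaf 197951537)) (.node (.leaf 29249330) (.leaf 226362474))) (.node (.node (.leaf 305446960) (.leaf 190136370)) (.node (.leaf 252039686) (.leaf 213205042)))))) (.node (.node (.node (.node (.node (.leaf 125403928) (.leaf 216449074)) (.node (.leaf 93716529) (.leaf 187007026))) (.node (.node (.leaf 62509532) (.leaf 200393628))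 (.node (.leaf 94453808) (.leaf 229687346)))) (.node (.node (.node (.leaf 235510268) (.leaf 208144016)) (.node (.leaf 376379458) (.leaf 225320940))) (.node (.node (.leaf 341508146) (.leaf 194773042)) (.node (.leaf 108838960) (.leaf 198344754))))) (.node (.node (.node (.node (.leaf 11092546) (.leaf 222068786)) (.node (.leaf 177045553) (.leaf 311459889))) (.node (.node (.leaf 229892341) (.leaf 149396148)) (.node (.leaf 203283805) (.leaf 356548657)))) (.node (.node (.node (.leaf 54630358) (.leaf 311443505)) (.node (.leaf 86704374) (.leaf 189548070))) (.node (.node (.leaf 376396749) (.leaf 326246409)) (.node (.leaf 152944690) (.leaf 144261169)))))))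

/-- A Schreier factor, part 163. -/
def facCodePart163 : Janko1.Tree ℕ := (.node (.node (.node (.node (.node (.node (.leaf 252313648) (.leaf 216287114)) (.node (.leaf 183779377) (.leaf 200261682))) (.node (.node (.leaf 236636856) (.leaf 213097620)) (.node (.leaf 272375265) (.leaf 198164530)))) (.node (.node (.node (.leaf 61378160) (.leaf 235257906)) (.node (.leaf 97606858) (.leaf 237985928))) (.node (.node (.leaf 85724328) (.leaf 320412845)) (.node (.leaf 224395314) (.leaf 201424946))))) (.node (.node (.node (.node (.leaf 171198320) (.leaf 232030258)) (.node (.leaf 215449648) (.leaf 191487920))) (.node (.node (.leaf 136028342) (.leaf 215203890)) (.node (.leaf 194779330) (.leaf 228753458)))) (.node (.node (.node (.leaf 141381930) (.leaf 204881970)) (.node (.leaf 14581809) (.leaf 196182065))) (.node (.node (.leaf 48250929) (.leaf 316103105)) (.node (.leaf 111493169) (.leaf 156303409)))))) (.node (.node (.node (.node (.node (.leaf 183631920) (.leaf 316080177)) (.node (.leaf 210223152) (.leaf 196204397))) (.node (.node (.leaf 110725798) (.leaf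 191168561)) (.node (.leaf 264568882) (.leaf 151142522)))) (.node (.node (.node (.leaf 222560304) (.leaf 151158833)) (.node (.leaf 18399282) (.leaf 191208718))) (.node (.node (.leaf 138659012) (.leaf 233052430)) (.node (.leaf 165006189) (.leaf 210421542))))) (.node (.node (.node (.node (.leaf 191053873) (.leaf 193577010)) (.node (.leaf 177197970) (.leaf 207110610))) (.node (.node (.leaf 203989424) (.leaf 236470322)) (.node (.leaf 264601650) (.leaf 191332402)))) (.node (.node (.node (.leaf 47218738) (.leaf 228622386)) (.node (.leaf 84066354) (.leaf 231882802))) (.node (.node (.leaf 18464818) (.leaf 201572402)) (.node (.leaf 215764677) (.leaf 188022834)))))))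

/-- A Schreier factor, part 164. -/
def facCodePart164 : Janko1.Tree ℕ := (.node (.node (.node (.node (.node (.node (.leaf 378814512) (.leaf 325173297)) (.node (.leaf 325897829) (.leaf 209651204))) (.node (.node (.leaf 144859154) (.leaf 142756733)) (.node (.leaf 210509781) (.leaf 142737633)))) (.node (.node (.node (.leaf 197869617) (.leaf 325189681)) (.node (.leaf 141344818) (.leaf 138223738))) (.node (.node (.leaf 141951024) (.leaf 321683505)) (.node (.leaf 320831536) (.leaf 223199282))))) (.node (.node (.node (.node (.leaf 5193777) (.leaf 236617778)) (.node (.leaf 40075313) (.leaf 206968885))) (.node (.node (.leaf 176930864) (.leaf 210261821)) (.node (.leaf 203687342) (.leaf 233195985)))) (.node (.node (.node (.leaf 72204337) (.leaf 197072870)) (.node (.leaf 306413618) (.leaf 125567026))) (.node (.node (.leaf 124682288) (.leaf 94715954)) (.node (.leaf 28065840) (.leaf 129810482)))))) (.node (.node (.node (.node (.node (.leaf 292126768) (.leaf 76240488)) (.node (.leaf 9724126) (.leaf 286201432))) (.node (.node (.leaf 37830704) (.leaf 26935345))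 (.node (.leaf 70734332) (.leaf 286162993)))) (.node (.node (.node (.leaf 75939889) (.leaf 76259562)) (.node (.leaf 380092466) (.leaf 82035002))) (.node (.node (.leaf 233801554) (.leaf 289488945)) (.node (.leaf 180820117) (.leaf 32916141))))) (.node (.node (.node (.node (.leaf 157602718) (.leaf 289472561)) (.node (.leaf 116786480) (.leaf 245472005))) (.node (.node (.leaf 20070448) (.leaf 82056089)) (.node (.leaf 243568322) (.leaf 124275533)))) (.node (.node (.node (.leaf 78839856) (.leaf 104038450)) (.node (.leaf 233832498) (.leaf 78776765))) (.node (.node (.leaf 380027056) (.leaf 129992153)) (.node (.leaf 28312274) (.leaf 125720517)))))))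

/-- A Schreier factor, part 165. -/
def facCodePart165 : Janko1.Tree ℕ := (.node (.node (.node (.node (.node (.node (.leaf 292438064) (.leaf 9444949)) (.node (.leaf 239164489) (.leaf 277405972))) (.node (.node (.leaf 214843441) (.leaf 277430321)) (.node (.leaf 188091718) (.leaf 9404465)))) (.node (.node (.node (.leaf 38125616) (.leaf 92018221)) (.node (.leaf 71025261) (.leaf 250921309))) (.node (.node (.leaf 306430002) (.leaf 16547889)) (.node (.leaf 271138866) (.leaf 280805425))))) (.node (.node (.node (.node (.leaf 116490288) (.leaf 280821809)) (.node (.leaf 19791920) (.leaf 16535398))) (.node (.node (.leaf 30654514) (.leaf 254115889)) (.node (.leaf 18794265) (.leaf 104187444)))) (.node (.node (.node (.leaf 296648752) (.leaf 92028978)) (.node (.leaf 115277873) (.leaf 124158002))) (.node (.node (.leaf 83689521) (.leaf 88017012)) (.node (.leaf 46122761) (.leaf 72178833)))))) (.node (.node (.node (.node (.node (.leaf 225987856) (.leaf 121574876)) (.node (.leaf 196050993) (.leaf 41877553))) (.node (.node (.leaf 325976484) (.leaf 41869017)) (.node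 (.leaf 113442838) (.leaf 112050613)))) (.node (.node (.node (.leaf 136282160) (.leaf 128172082)) (.node (.leaf 281203837) (.leaf 132239600))) (.node (.node (.leaf 203620400) (.leaf 105303848)) (.node (.leaf 170295344) (.leaf 89997362))))) (.node (.node (.node (.node (.leaf 33460466) (.leaf 86182360)) (.node (.leaf 320913456) (.leaf 117620786))) (.node (.node (.leaf 38191153) (.leaf 101892146)) (.node (.leaf 228840502) (.leaf 272810394)))) (.node (.node (.node (.leaf 142000176) (.leaf 299909169)) (.node (.leaf 192453890) (.leaf 299864738))) (.node (.node (.leaf 142344242) (.leaf 273023025)) (.node (.leaf 62593802) (.leaf 379278122)))))))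

/-- A Schreier factor, part 166. -/
def facCodePart166 : Janko1.Tree ℕ := (.node (.node (.node (.node (.node (.node (.leaf 74160904) (.leaf 379437172)) (.node (.leaf 42156081) (.leaf 335368522))) (.node (.node (.leaf 100959756) (.leaf 199838574)) (.node (.leaf 28139117) (.leaf 213142553)))) (.node (.node (.node (.leaf 287313800) (.leaf 216356085)) (.node (.leaf 54713397) (.leaf 198811477))) (.node (.node (.leaf 150197196) (.leaf 195249232)) (.node (.leaf 243702148) (.leaf 221986854))))) (.node (.node (.node (.node (.leaf 301301808) (.leaf 208814130)) (.node (.leaf 167187149) (.leaf 235297138))) (.node (.node (.leaf 108740656) (.leaf 216121393)) (.node (.leaf 236208942) (.leaf 216186929)))) (.node (.node (.node (.leaf 179586092) (.leaf 176324657)) (.node (.leaf 208928818) (.leaf 176346361))) (.node (.node (.leaf 152305714) (.leaf 216203313)) (.node (.leaf 62930992) (.leaf 343949361)))))) (.node (.node (.node (.node (.node (.leaf 236412694) (.leaf 370802737)) (.node (.leaf 70942768) (.leaf 370856950))) (.node (.node (.leaf 305644825) (.leaf 370825309))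 (.node (.leaf 160667806) (.leaf 370868273)))) (.node (.node (.node (.leaf 101236873) (.leaf 203423794)) (.node (.leaf 323485746) (.leaf 199972593))) (.node (.node (.leaf 208913086) (.leaf 186534874)) (.node (.leaf 54419593) (.leaf 195428496))))) (.node (.node (.node (.node (.leaf 81739801) (.leaf 222121132)) (.node (.leaf 117103288) (.leaf 208718654))) (.node (.node (.leaf 78446640) (.leaf 235192370)) (.node (.leaf 50167857) (.leaf 237846734)))) (.node (.node (.node (.leaf 21041052) (.leaf 198934578)) (.node (.leaf 243360025) (.leaf 225361970))) (.node (.node (.leaf 66117813) (.leaf 229490737)) (.node (.leaf 108462128) (.leaf 162971697)))))))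

/-- A Schreier factor, part 167. -/
def facCodePart167 : Janko1.Tree ℕ := (.node (.node (.node (.node (.node (.node (.leaf 125294925) (.leaf 163004465)) (.node (.leaf 254466822) (.leaf 162959686))) (.node (.node (.leaf 93028402) (.leaf 229474353)) (.node (.leaf 92012593) (.leaf 218562610)))) (.node (.node (.node (.leaf 215375628) (.leaf 223009250)) (.node (.leaf 168251590) (.leaf 182961810))) (.node (.node (.leaf 155833689) (.leaf 183047457)) (.node (.leaf 353746994) (.leaf 183062048))))) (.node (.node (.node (.node (.leaf 217619649) (.leaf 330847812)) (.node (.leaf 177229260) (.leaf 375067513))) (.node (.node (.leaf 138600834) (.leaf 375029809)) (.node (.leaf 182014945) (.leaf 330929185)))) (.node (.node (.node (.leaf 111411250) (.leaf 232980530)) (.node (.leaf 51806258) (.leaf 193151026))) (.node (.node (.leaf 79560754) (.leaf 196549348)) (.node (.leaf 280009922) (.leaf 223266108)))))) (.node (.node (.node (.node (.node (.leaf 17912684) (.leaf 236389682)) (.node (.leaf 224594162) (.leaf 202080306))) (.node (.node (.leaf 190273441) (.leaf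 228546826)) (.node (.leaf 378716208) (.leaf 205504562)))) (.node (.node (.node (.leaf 175411444) (.leaf 231834825)) (.node (.leaf 312213552) (.leaf 218693682))) (.node (.node (.leaf 51839026) (.leaf 236191844)) (.node (.leaf 155950898) (.leaf 236297242))))) (.node (.node (.node (.node (.leaf 111394866) (.leaf 169738289)) (.node (.leaf 17973298) (.leaf 169721905))) (.node (.node (.leaf 279975980) (.leaf 236273713)) (.node (.leaf 196724016) (.leaf 366477742)))) (.node (.node (.node (.leaf 5079089) (.leaf 339623985)) (.node (.leaf 316489776) (.leaf 339729476))) (.node (.node (.leaf 148619312) (.leaf 223135964)) (.node (.leaf 315874737) (.leaf 206656713)))))))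

/-- A Schreier factor, part 168. -/
def facCodePart168 : Janko1.Tree ℕ := (.node (.node (.node (.node (.node (.node (.leaf 140888681) (.leaf 233127986)) (.node (.leaf 197558322) (.leaf 193036338))) (.node (.node (.leaf 353796146) (.leaf 219693106)) (.node (.leaf 94339120) (.leaf 109500277)))) (.node (.node (.node (.leaf 64800026) (.leaf 113426482)) (.node (.leaf 9669488) (.leaf 97878066))) (.node (.node (.leaf 252117040) (.leaf 129728562)) (.node (.leaf 64029514) (.leaf 259523846))))) (.node (.node (.node (.node (.leaf 253395996) (.leaf 304307382)) (.node (.leaf 30122322) (.leaf 304332849))) (.node (.node (.leaf 290866157) (.leaf 259574240)) (.node (.leaf 221413425) (.leaf 66420785)))) (.node (.node (.node (.leaf 86605872) (.leaf 66486321)) (.node (.leaf 178864177) (.leaf 66502705))) (.node (.node (.leaf 184729650) (.leaf 92651570)) (.node (.leaf 11174732) (.leaf 124209982)))))) (.node (.node (.node (.node (.node (.leaf 234487858) (.leaf 107943877)) (.node (.leaf 360288577) (.leaf 120133726))) (.node (.node (.leaf 214616098) (.leaf 81908737))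 (.node (.leaf 38215344) (.leaf 98028110)))) (.node (.node (.node (.leaf 252417854) (.leaf 125638382)) (.node (.leaf 292374872) (.leaf 78118962))) (.node (.node (.leaf 185518909) (.leaf 109366552)) (.node (.leaf 360300594) (.leaf 295321649))))) (.node (.node (.node (.node (.leaf 115084293) (.leaf 129859633)) (.node (.leaf 86360112) (.leaf 129925169))) (.node (.node (.leaf 87740372) (.leaf 49874732)) (.node (.leaf 296566832) (.leaf 129843249)))) (.node (.node (.node (.leaf 56442929) (.leaf 129908785)) (.node (.leaf 116408368) (.leaf 72990770))) (.node (.node (.leaf 10850938) (.leaf 120016948)) (.node (.leaf 98896470) (.leaf 92474641)))))))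

/-- A Schreier factor, part 169. -/
def facCodePart169 : Janko1.Tree ℕ := (.node (.node (.node (.node (.node (.node (.leaf 290834249) (.leaf 124083088)) (.node (.leaf 30133288) (.leaf 108139316))) (.node (.node (.leaf 173178929) (.leaf 86511098)) (.node (.leaf 142579922) (.leaf 2310193)))) (.node (.node (.node (.leaf 361793108) (.leaf 274645041)) (.node (.leaf 182785042) (.leaf 244842546))) (.node (.node (.leaf 77991017) (.leaf 273073293)) (.node (.leaf 189169712) (.leaf 271369382))))) (.node (.node (.node (.node (.leaf 263323698) (.leaf 253116466)) (.node (.leaf 45154981) (.leaf 264606377))) (.node (.node (.leaf 149837436) (.leaf 258364686)) (.node (.leaf 1838957) (.leaf 247893912)))) (.node (.node (.node (.leaf 98484273) (.leaf 267931852)) (.node (.leaf 357179828) (.leaf 265126272))) (.node (.node (.leaf 176078896) (.leaf 96452657)) (.node (.leaf 139921498) (.leaf 253481320)))))) (.node (.node (.node (.node (.node (.leaf 196253054) (.leaf 280121836)) (.node (.leaf 219299890) (.leaf 14507664))) (.node (.node (.leaf 370556978) (.leaf 253548488))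 (.node (.leaf 62082313) (.leaf 315427956)))) (.node (.node (.node (.leaf 6799409) (.leaf 360267825)) (.node (.leaf 274415664) (.leaf 155205681))) (.node (.node (.leaf 36831280) (.leaf 318226482)) (.node (.leaf 28776877) (.leaf 321343277))))) (.node (.node (.node (.node (.leaf 97454941) (.leaf 330454904)) (.node (.leaf 93080630) (.leaf 327621704))) (.node (.node (.leaf 269910066) (.leaf 309968946)) (.node (.leaf 65519666) (.leaf 338886706)))) (.node (.node (.node (.leaf 12206128) (.leaf 344948786)) (.node (.leaf 265719830) (.leaf 324911154))) (.node (.node (.leaf 156319794) (.leaf 186715445)) (.node (.leaf 235670454) (.leaf 354617516)))))))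

/-- A Schreier factor, part 170. -/
def facCodePart170 : Janko1.Tree ℕ := (.node (.node (.node (.node (.node (.node (.leaf 376487986) (.leaf 186794033)) (.node (.leaf 178915033) (.leaf 309872488))) (.node (.node (.leaf 133660721) (.leaf 324386865)) (.node (.leaf 183418929) (.leaf 351371313)))) (.node (.node (.node (.leaf 210441324) (.leaf 324459202)) (.node (.leaf 93462410) (.leaf 329865120))) (.node (.node (.leaf 178946098) (.leaf 336871474)) (.node (.leaf 235634966) (.leaf 309428274))))) (.node (.node (.node (.node (.leaf 343457842) (.leaf 312344626)) (.node (.leaf 11964642) (.leaf 342612089))) (.node (.node (.leaf 265437232) (.leaf 326877234)) (.node (.leaf 86400425) (.leaf 333336757)))) (.node (.node (.node (.leaf 278675894) (.leaf 336298344)) (.node (.leaf 85302302) (.leaf 318505009))) (.node (.node (.leaf 45129752) (.leaf 345645484)) (.node (.leaf 28790056) (.leaf 133876141)))))) (.node (.node (.node (.node (.node (.leaf 65486898) (.leaf 345702449)) (.node (.leaf 124846130) (.leaf 318427849))) (.node (.node (.leaf 236673385) (.leaf 313297892))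 (.node (.leaf 26840521) (.leaf 310578376)))) (.node (.node (.node (.leaf 343625766) (.leaf 320146837)) (.node (.leaf 162435412) (.leaf 314179953))) (.node (.node (.leaf 209059888) (.leaf 359272562)) (.node (.leaf 224480016) (.leaf 359170097))))) (.node (.node (.node (.node (.leaf 336117810) (.leaf 153321521)) (.node (.leaf 369464802) (.leaf 193265713))) (.node (.node (.leaf 167533318) (.leaf 314299128)) (.node (.leaf 164642865) (.leaf 310722609)))) (.node (.node (.node (.leaf 230216764) (.leaf 148045873)) (.node (.leaf 191727638) (.leaf 355909681))) (.node (.node (.leaf 234906005) (.leaf 310678221)) (.node (.leaf 14123058) (.leaf 326041650)))))))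

/-- A Schreier factor, part 171. -/
def facCodePart171 : Janko1.Tree ℕ := (.node (.node (.node (.node (.node (.node (.leaf 83903536) (.leaf 335020082)) (.node (.leaf 202772049) (.leaf 332257696))) (.node (.node (.leaf 110919730) (.leaf 316325938)) (.node (.leaf 237011885) (.leaf 311156537)))) (.node (.node (.node (.leaf 147554353) (.leaf 312786994)) (.node (.leaf 137317180) (.leaf 338362432))) (.node (.node (.leaf 343900208) (.leaf 322329582)) (.node (.leaf 228245553) (.leaf 319455282))))) (.node (.node (.node (.node (.leaf 162731537) (.leaf 350227872)) (.node (.leaf 110886962) (.leaf 323295746))) (.node (.node (.leaf 262193202) (.leaf 206670504)) (.node (.leaf 39682097) (.leaf 346783793)))) (.node (.node (.node (.leaf 143147056) (.leaf 135517540)) (.node (.leaf 339232717) (.leaf 135403556))) (.node (.node (.leaf 132172481) (.leaf 346669105)) (.node (.leaf 72859697) (.leaf 319668273)))))) (.node (.node (.node (.node (.node (.leaf 194615340) (.leaf 332830576)) (.node (.leaf 169197616) (.leaf 325453868))) (.node (.node (.leaf 144572466) (.leaf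 323556730)) (.node (.leaf 369426482) (.leaf 343785522)))) (.node (.node (.node (.leaf 167493682) (.leaf 341262386)) (.node (.leaf 224526386) (.leaf 313835570))) (.node (.node (.leaf 336152360) (.leaf 316852172)) (.node (.leaf 102039580) (.leaf 251845152))))) (.node (.node (.node (.node (.leaf 43614866) (.leaf 263330418)) (.node (.leaf 29118841) (.leaf 260718642))) (.node (.node (.leaf 127926321) (.leaf 243589428)) (.node (.leaf 76547990) (.leaf 270311404)))) (.node (.node (.node (.leaf 287473712) (.leaf 271990834)) (.node (.leaf 69550128) (.leaf 72802201))) (.node (.node (.leaf 61456432) (.leaf 23396401)) (.node (.leaf 35242034) (.leaf 284409905)))))))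

/-- A Schreier factor, part 172. -/
def facCodePart172 : Janko1.Tree ℕ := (.node (.node (.node (.node (.node (.node (.leaf 306561074) (.leaf 284493200)) (.node (.leaf 63455282) (.leaf 23469216))) (.node (.node (.leaf 131498034) (.leaf 72746102)) (.node (.leaf 273383474) (.leaf 240320561)))) (.node (.node (.node (.leaf 151378057) (.leaf 78651072)) (.node (.leaf 283476016) (.leaf 243695665))) (.node (.node (.leaf 53624880) (.leaf 242565170)) (.node (.leaf 154781864) (.leaf 239895122))))) (.node (.node (.node (.node (.leaf 380343054) (.leaf 259589626)) (.node (.leaf 342327346) (.leaf 250708149))) (.node (.node (.leaf 29427888) (.leaf 262750258)) (.node (.leaf 102203440) (.leaf 254165042)))) (.node (.node (.node (.leaf 188683776) (.leaf 272498738)) (.node (.leaf 287826074) (.leaf 269828146))) (.node (.node (.leaf 256950320) (.leaf 243074813)) (.node (.leaf 211157042) (.leaf 275862148)))))) (.node (.node (.node (.node (.node (.leaf 69812272) (.leaf 5144625)) (.node (.leaf 233979954) (.leaf 5029937))) (.node (.node (.leaf 342343730) (.leaf 275775537))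 (.node (.leaf 380272690) (.leaf 248954929)))) (.node (.node (.node (.leaf 22724657) (.leaf 12144150)) (.node (.leaf 84377649) (.leaf 12206129))) (.node (.node (.leaf 283253785) (.leaf 278942345)) (.node (.leaf 261004544) (.leaf 252316988))))) (.node (.node (.node (.node (.leaf 119717937) (.leaf 94535729)) (.node (.leaf 53362736) (.leaf 240458829))) (.node (.node (.leaf 35199806) (.leaf 242081806)) (.node (.leaf 95592216) (.leaf 268719880)))) (.node (.node (.node (.leaf 77406010) (.leaf 266813490)) (.node (.leaf 131448882) (.leaf 251297842))) (.node (.node (.leaf 281346098) (.leaf 117981233)) (.node (.leaf 245874738) (.leaf 265486385)))))))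

/-- A Schreier factor, part 173. -/
def facCodePart173 : Janko1.Tree ℕ := (.node (.node (.node (.node (.node (.node (.leaf 15712306) (.leaf 265568305)) (.node (.leaf 182705938) (.leaf 37978161))) (.node (.node (.leaf 113311794) (.leaf 38043697)) (.node (.leaf 49895622) (.leaf 292356145)))) (.node (.node (.node (.leaf 330520937) (.leaf 255418288)) (.node (.leaf 223625245) (.leaf 272990258))) (.node (.node (.leaf 196676200) (.leaf 253579468)) (.node (.leaf 348356656) (.leaf 271269938))))) (.node (.node (.node (.node (.leaf 216801501) (.leaf 244293316)) (.node (.leaf 137248816) (.leaf 264543706))) (.node (.node (.leaf 192561202) (.leaf 239370290)) (.node (.leaf 350634034) (.leaf 256884786)))) (.node (.node (.node (.leaf 314589234) (.leaf 240959538)) (.node (.leaf 175981322) (.leaf 250183730))) (.node (.node (.leaf 202555440) (.leaf 265032469)) (.node (.leaf 334741552) (.leaf 297992241)))))) (.node (.node (.node (.node (.node (.leaf 70864762) (.leaf 48291774)) (.node (.leaf 223434273) (.leaf 271221637))) (.node (.node (.leaf 1919524) (.leaf 271303501))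 (.node (.leaf 93164224) (.leaf 333601882)))) (.node (.node (.node (.leaf 287457330) (.leaf 333644450)) (.node (.leaf 62013490) (.leaf 181780529))) (.node (.node (.leaf 69617740) (.leaf 181846065)) (.node (.leaf 105824305) (.leaf 330350642))))) (.node (.node (.node (.node (.leaf 74563633) (.leaf 309706802)) (.node (.leaf 287588400) (.leaf 327499826))) (.node (.node (.leaf 125853201) (.leaf 319004698)) (.node (.leaf 29048880) (.leaf 338788402)))) (.node (.node (.node (.leaf 325648434) (.leaf 326991922)) (.node (.leaf 155732309) (.leaf 344826220))) (.node (.node (.leaf 265666608) (.leaf 173457457)) (.node (.leaf 220364849) (.leaf 173539377)))))))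

/-- A Schreier factor, part 174. -/
def facCodePart174 : Janko1.Tree ℕ := (.node (.node (.node (.node (.node (.node (.leaf 193648090) (.leaf 372098932)) (.node (.leaf 117988634) (.leaf 213293330))) (.node (.node (.leaf 139870257) (.leaf 213385265)) (.node (.leaf 21151792) (.leaf 327778353)))) (.node (.node (.node (.leaf 209080234) (.leaf 369116109)) (.node (.leaf 236032188) (.leaf 342297161))) (.node (.node (.leaf 183042098) (.leaf 234869068)) (.node (.leaf 69910576) (.leaf 234979377))))) (.node (.node (.node (.node (.leaf 270178792) (.leaf 310218784)) (.node (.leaf 213745713) (.leaf 328138802))) (.node (.node (.leaf 126108282) (.leaf 321241138)) (.node (.leaf 133778774) (.leaf 339334742)))) (.node (.node (.node (.leaf 93175858) (.leaf 326565938)) (.node (.leaf 287496162) (.leaf 344260658))) (.node (.node (.leaf 252139740) (.leaf 324853860)) (.node (.leaf 45026076) (.leaf 315197129)))))) (.node (.node (.node (.node (.node (.leaf 125160305) (.leaf 333237028)) (.node (.leaf 77447350) (.leaf 336199730))) (.node (.node (.leaf 265345288) (.leaf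 226510117)) (.node (.leaf 283312176) (.leaf 336953393)))) (.node (.node (.node (.leaf 16203825) (.leaf 160284721)) (.node (.leaf 20938800) (.leaf 363611796))) (.node (.node (.leaf 353913381) (.leaf 337740838)) (.node (.leaf 317808282) (.leaf 322519090))))) (.node (.node (.node (.node (.leaf 224838409) (.leaf 331156144)) (.node (.leaf 171851826) (.leaf 311073013))) (.node (.node (.leaf 124256305) (.leaf 180125745)) (.node (.leaf 92459794) (.leaf 376360633)))) (.node (.node (.node (.leaf 236733053) (.leaf 219955249)) (.node (.leaf 156617214) (.leaf 332419262))) (.node (.node (.leaf 13304850) (.leaf 214997508)) (.node (.leaf 195907474) (.leaf 175249836)))))))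

/-- A Schreier factor, part 175. -/
def facCodePart175 : Janko1.Tree ℕ := (.node (.node (.node (.node (.node (.node (.leaf 235095293) (.leaf 334921778)) (.node (.leaf 208425308) (.leaf 314152256))) (.node (.node (.leaf 230293552) (.leaf 323780658)) (.node (.leaf 154669628) (.leaf 341721138)))) (.node (.node (.node (.leaf 150093872) (.leaf 343081010)) (.node (.leaf 79659058) (.leaf 321994802))) (.node (.node (.leaf 280166450) (.leaf 339952488)) (.node (.leaf 244760626) (.leaf 320045106))))) (.node (.node (.node (.node (.leaf 13287474) (.leaf 338280640)) (.node (.leaf 111296562) (.leaf 328663090))) (.node (.node (.leaf 228445877) (.leaf 233265368)) (.node (.leaf 361873456) (.leaf 341327921)))) (.node (.node (.node (.leaf 147655666) (.leaf 166740017)) (.node (.leaf 174539633) (.leaf 367837233))) (.node (.node (.leaf 156778544) (.leaf 367942857)) (.node (.leaf 197705778) (.leaf 364576817)))))) (.node (.node (.node (.node (.node (.leaf 353959986) (.leaf 364642353)) (.node (.leaf 169099505) (.leaf 338018632))) (.node (.node (.leaf 224871574) (.leaf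 338100273)) (.node (.leaf 171887316) (.leaf 228245660)))) (.node (.node (.node (.leaf 195641653) (.leaf 228315570)) (.node (.leaf 132612628) (.leaf 332751146))) (.node (.node (.leaf 357220400) (.leaf 334413874)) (.node (.leaf 99074098) (.leaf 245875340))))) (.node (.node (.node (.node (.leaf 255532420) (.leaf 243236914)) (.node (.leaf 256622640) (.leaf 257769521))) (.node (.node (.leaf 96305201) (.leaf 103989297)) (.node (.leaf 274513968) (.leaf 104054833)))) (.node (.node (.node (.leaf 207454258) (.leaf 62707414)) (.node (.leaf 324485170) (.leaf 305643569))) (.node (.node (.leaf 53548349) (.leaf 109871153)) (.node (.leaf 234307634) (.leaf 109936689)))))))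

/-- A Schreier factor, part 176. -/
def facCodePart176 : Janko1.Tree ℕ := (.node (.node (.node (.node (.node (.node (.leaf 181489414) (.leaf 261118674)) (.node (.leaf 232079409) (.leaf 266125362))) (.node (.node (.leaf 205544810) (.leaf 251461682)) (.node (.leaf 109953072) (.leaf 242290725)))) (.node (.node (.node (.leaf 151453745) (.leaf 259513260)) (.node (.leaf 178150457) (.leaf 240386098))) (.node (.node (.leaf 207478222) (.leaf 243925042)) (.node (.leaf 324501554) (.leaf 245399602))))) (.node (.node (.node (.node (.leaf 154026034) (.leaf 262668338)) (.node (.leaf 61706760) (.leaf 254656562))) (.node (.node (.leaf 256901168) (.leaf 293453873)) (.node (.leaf 238278092) (.leaf 293524298)))) (.node (.node (.node (.leaf 102307192) (.leaf 266689650)) (.node (.leaf 158195870) (.leaf 266780802))) (.node (.node (.leaf 290996274) (.leaf 126107697)) (.node (.leaf 255492146) (.leaf 270057521)))))) (.node (.node (.node (.node (.node (.leaf 34390242) (.leaf 270146586)) (.node (.leaf 53280816) (.leaf 46235697))) (.node (.node (.leaf 131645490) (.leaf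 46325580)) (.node (.leaf 260898864) (.leaf 250957456)))) (.node (.node (.node (.leaf 119947313) (.leaf 268648498)) (.node (.leaf 88246005) (.leaf 248992462))) (.node (.node (.leaf 278757424) (.leaf 266717320)) (.node (.leaf 109658160) (.leaf 239812658))))) (.node (.node (.node (.node (.leaf 301350962) (.leaf 21397553)) (.node (.leaf 268034386) (.leaf 70910001))) (.node (.node (.leaf 376767186) (.leaf 288981042)) (.node (.leaf 323518512) (.leaf 308252328)))) (.node (.node (.node (.leaf 207160280) (.leaf 297583082)) (.node (.leaf 160580772) (.leaf 288293193))) (.node (.node (.leaf 187187248) (.leaf 308969522)) (.node (.leaf 372408370) (.leaf 294240306)))))))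

/-- A Schreier factor, part 177. -/
def facCodePart177 : Janko1.Tree ℕ := (.node (.node (.node (.node (.node (.node (.leaf 337353805) (.leaf 274547792)) (.node (.leaf 203360068) (.leaf 294688768))) (.node (.node (.leaf 367951920) (.leaf 244814733)) (.node (.leaf 314214869) (.leaf 80714110)))) (.node (.node (.node (.leaf 173588528) (.leaf 80664804)) (.node (.leaf 200146992) (.leaf 244875313))) (.node (.node (.leaf 166842580) (.leaf 289032832)) (.node (.leaf 193497550) (.leaf 31465290))))) (.node (.node (.node (.node (.leaf 294338610) (.leaf 351551537)) (.node (.leaf 292063974) (.leaf 208586282))) (.node (.node (.leaf 74088498) (.leaf 324632625)) (.node (.leaf 6709009) (.leaf 208523694)))) (.node (.node (.node (.leaf 1542112) (.leaf 351437038)) (.node (.leaf 241124181) (.leaf 366135256))) (.node (.node (.leaf 307707952) (.leaf 357269554)) (.node (.leaf 42014929) (.leaf 356833085)))))) (.node (.node (.node (.node (.node (.leaf 74613176) (.leaf 372510662)) (.node (.leaf 327876862) (.leaf 353962840))) (.node (.node (.leaf 365707314) (.leaf 380722218))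 (.node (.leaf 330255649) (.leaf 360136754)))) (.node (.node (.node (.leaf 186256029) (.leaf 379966426)) (.node (.leaf 189448242) (.leaf 369513728))) (.node (.node (.leaf 299173282) (.leaf 345772456)) (.node (.leaf 303644720) (.leaf 200114225))))) (.node (.node (.node (.node (.leaf 250069040) (.leaf 318693100)) (.node (.leaf 82594384) (.leaf 200196145))) (.node (.node (.leaf 58867760) (.leaf 133955633)) (.node (.leaf 90656744) (.leaf 345890862)))) (.node (.node (.node (.leaf 162398258) (.leaf 360480817)) (.node (.leaf 212157681) (.leaf 315473969))) (.node (.node (.leaf 32181673) (.leaf 315539505)) (.node (.leaf 104832780) (.leaf 360431665)))))))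

/-- A Schreier factor, part 178. -/
def facCodePart178 : Janko1.Tree ℕ := (.node (.node (.node (.node (.node (.node (.leaf 6324272) (.leaf 155418673)) (.node (.leaf 153845866) (.leaf 372621521))) (.node (.node (.leaf 180355121) (.leaf 356667829)) (.node (.leaf 137353394) (.leaf 365612149)))) (.node (.node (.node (.leaf 163577905) (.leaf 345915442)) (.node (.leaf 233146065) (.leaf 366002440))) (.node (.node (.leaf 206378438) (.leaf 345489458)) (.node (.leaf 216385625) (.leaf 371874465))))) (.node (.node (.node (.node (.leaf 101040178) (.leaf 360661042)) (.node (.leaf 36765746) (.leaf 379689120))) (.node (.node (.leaf 120636173) (.leaf 353803588)) (.node (.leaf 24205717) (.leaf 369038842)))) (.node (.node (.node (.leaf 15368240) (.leaf 380944434)) (.node (.leaf 121362372) (.leaf 186859569))) (.node (.node (.leaf 89475173) (.leaf 309888597)) (.node (.leaf 77776472) (.leaf 146604081)))))) (.node (.node (.node (.node (.node (.leaf 373509570) (.leaf 364301642)) (.node (.leaf 338411570) (.leaf 349421618))) (.node (.node (.leaf 340596365) (.leaf 355713074))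 (.node (.leaf 147767346) (.leaf 356073522)))) (.node (.node (.node (.leaf 363577392) (.leaf 350306353)) (.node (.leaf 309775832) (.leaf 140167836))) (.node (.node (.leaf 376425533) (.leaf 206788857)) (.node (.leaf 186875952) (.leaf 206867269))))) (.node (.node (.node (.node (.leaf 180224048) (.leaf 140101909)) (.node (.leaf 206848048) (.leaf 350389049))) (.node (.node (.leaf 269205661) (.leaf 135550784)) (.node (.leaf 302497842) (.leaf 201951020)))) (.node (.node (.node (.leaf 92001090) (.leaf 319897649)) (.node (.leaf 22987485) (.leaf 346837108))) (.node (.node (.leaf 368312368) (.leaf 349880370)) (.node (.leaf 372473958) (.leaf 361612401)))))))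

/-- A Schreier factor, part 179. -/
def facCodePart179 : Janko1.Tree ℕ := (.node (.node (.node (.node (.node (.node (.leaf 318707569) (.leaf 376309718)) (.node (.leaf 193806384) (.leaf 376766514))) (.node (.node (.leaf 173867056) (.leaf 350601266)) (.node (.leaf 200409136) (.leaf 369938125)))) (.node (.node (.node (.leaf 55528000) (.leaf 375259186)) (.node (.leaf 59637810) (.leaf 364904498))) (.node (.node (.leaf 232489008) (.leaf 349241394)) (.node (.leaf 152458070) (.leaf 364469281))))) (.node (.node (.node (.node (.leaf 212451376) (.leaf 355565618)) (.node (.leaf 141614046) (.leaf 153616433))) (.node (.node (.leaf 151765041) (.leaf 314393693)) (.node (.leaf 178405425) (.leaf 193314865)))) (.node (.node (.node (.leaf 221298737) (.leaf 193445937)) (.node (.leaf 177652670) (.leaf 356040753))) (.node (.node (.leaf 145315805) (.leaf 310873804)) (.node (.leaf 139018288) (.leaf 148275249)))))) (.node (.node (.node (.node (.node (.leaf 9948604) (.leaf 376864818)) (.node (.leaf 64865238) (.leaf 350493461))) (.node (.node (.leaf 107528241) (.leaf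 370491442)) (.node (.leaf 127831113) (.leaf 376161869)))) (.node (.node (.node (.leaf 106550473) (.leaf 278265906)) (.node (.leaf 102797264) (.leaf 289968029))) (.node (.node (.leaf 6012976) (.leaf 305709106)) (.node (.leaf 128877932) (.leaf 278995365))))) (.node (.node (.node (.node (.leaf 4807049) (.leaf 275978482)) (.node (.leaf 39747633) (.leaf 5195486))) (.node (.node (.leaf 35684865) (.leaf 88621105)) (.node (.leaf 68485676) (.leaf 249069617)))) (.node (.node (.node (.leaf 71932754) (.leaf 88545125)) (.node (.leaf 132011330) (.leaf 5325710))) (.node (.node (.leaf 160759858) (.leaf 12329380)) (.node (.leaf 217088093) (.leaf 94690532)))))))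

/-- A Schreier factor, part 180. -/
def facCodePart180 : Janko1.Tree ℕ := (.node (.node (.node (.node (.node (.node (.leaf 164155902) (.leaf 252578802)) (.node (.leaf 112820272) (.leaf 252526641))) (.node (.node (.leaf 15700308) (.leaf 94748721)) (.node (.leaf 24466808) (.leaf 279052337)))) (.node (.node (.node (.leaf 145148364) (.leaf 292995122)) (.node (.leaf 172183796) (.leaf 277938226))) (.node (.node (.leaf 148444048) (.leaf 304726066)) (.node (.leaf 198230065) (.leaf 284393522))))) (.node (.node (.node (.node (.leaf 228098097) (.leaf 293619024)) (.node (.leaf 366821426) (.leaf 305823794))) (.node (.node (.leaf 331579442) (.leaf 289407026)) (.node (.leaf 364494898) (.leaf 298827826)))) (.node (.node (.node (.leaf 191184946) (.leaf 299171890)) (.node (.leaf 138149938) (.leaf 278418954))) (.node (.node (.leaf 254546220) (.leaf 284606513)) (.node (.leaf 67017622) (.leaf 72863274)))))) (.node (.node (.node (.node (.node (.leaf 42320264) (.leaf 284573745)) (.node (.leaf 259889553) (.leaf 78708785))) (.node (.node (.leaf 72056882) (.leaf 78807089))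 (.node (.leaf 4114541) (.leaf 243733292)))) (.node (.node (.node (.leaf 75972658) (.leaf 287916081)) (.node (.leaf 9093170) (.leaf 29524017))) (.node (.node (.leaf 298909744) (.leaf 277299250)) (.node (.leaf 58532030) (.leaf 277759521))))) (.node (.node (.node (.node (.leaf 50037270) (.leaf 283770930)) (.node (.leaf 82329648) (.leaf 304807986))) (.node (.node (.leaf 160652032) (.leaf 256874962)) (.node (.leaf 376635440) (.leaf 102334513)))) (.node (.node (.node (.leaf 176985582) (.leaf 301547569)) (.node (.leaf 152535088) (.leaf 308135485))) (.node (.node (.leaf 58066814) (.leaf 280073833)) (.node (.leaf 248070194) (.leaf 279609394)))))))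

/-- A Schreier factor, part 181. -/
def facCodePart181 : Janko1.Tree ℕ := (.node (.node (.node (.node (.node (.node (.leaf 20250674) (.leaf 297533490)) (.node (.leaf 250298418) (.leaf 291291186))) (.node (.node (.leaf 24549833) (.leaf 308822066)) (.node (.leaf 74384486) (.leaf 301449376)))) (.node (.node (.node (.leaf 367870000) (.leaf 282942552)) (.node (.leaf 173310002) (.leaf 112001073))) (.node (.node (.leaf 139101089) (.leaf 112082993)) (.node (.leaf 318931405) (.leaf 64998249))))) (.node (.node (.node (.node (.leaf 70107185) (.leaf 369334884)) (.node (.leaf 66835377) (.leaf 235068537))) (.node (.node (.leaf 294323214) (.leaf 342393573)) (.node (.leaf 307615012) (.leaf 168511756)))) (.node (.node (.node (.leaf 66749956) (.leaf 168543377)) (.node (.leaf 41467954) (.leaf 348364384))) (.node (.node (.leaf 31998000) (.leaf 371957134)) (.node (.leaf 241405768) (.leaf 354959410)))))) (.node (.node (.node (.node (.node (.leaf 6176818) (.leaf 372412744)) (.node (.leaf 950322) (.leaf 365445170))) (.node (.node (.leaf 50384681) (.leaf 351117250))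 (.node (.leaf 196386072) (.leaf 368757197)))) (.node (.node (.node (.leaf 199852081) (.leaf 380600370)) (.node (.leaf 170573873) (.leaf 379830322))) (.node (.node (.leaf 303586776) (.leaf 351802572)) (.node (.leaf 15761456) (.leaf 160389362))))) (.node (.node (.node (.node (.leaf 162857010) (.leaf 337041314)) (.node (.leaf 24510512) (.leaf 337100849))) (.node (.node (.leaf 312066098) (.leaf 363659313)) (.node (.leaf 232939298) (.leaf 377585713)))) (.node (.node (.node (.leaf 153735096) (.leaf 333680882)) (.node (.leaf 254644132) (.leaf 333766469))) (.node (.node (.leaf 129138736) (.leaf 355123250)) (.node (.leaf 104778353) (.leaf 347750450)))))))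

/-- A Schreier factor, part 182. -/
def facCodePart182 : Janko1.Tree ℕ := (.node (.node (.node (.node (.node (.node (.leaf 345610833) (.leaf 371805222)) (.node (.leaf 25182257) (.leaf 351224500))) (.node (.node (.leaf 249856048) (.leaf 368939282)) (.node (.leaf 245628976) (.leaf 380862514)))) (.node (.node (.node (.leaf 120561945) (.leaf 173670449)) (.node (.leaf 101652960) (.leaf 173719601))) (.node (.node (.leaf 105169126) (.leaf 327876657)) (.node (.leaf 69468210) (.leaf 213434417))))) (.node (.node (.node (.node (.leaf 73416754) (.leaf 372244529)) (.node (.leaf 276466846) (.leaf 372344502))) (.node (.node (.leaf 180273200) (.leaf 358383666)) (.node (.leaf 363499693) (.leaf 358045212)))) (.node (.node (.node (.leaf 52609073) (.leaf 364994333)) (.node (.leaf 174882866) (.leaf 166805553))) (.node (.node (.leaf 132845720) (.leaf 166895641)) (.node (.leaf 178196200) (.leaf 341460721)))))) (.node (.node (.node (.node (.node (.leaf 152240176) (.leaf 341514072)) (.node (.leaf 147330361) (.leaf 233439281))) (.node (.node (.leaf 211419185) (.leaf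 364724273)) (.node (.leaf 372375600) (.leaf 161824817)))) (.node (.node (.node (.leaf 139315362) (.leaf 370559154)) (.node (.leaf 145612754) (.leaf 376258610))) (.node (.node (.leaf 26364656) (.leaf 376636757)) (.node (.leaf 249139833) (.leaf 352179156))))) (.node (.node (.node (.node (.leaf 22462514) (.leaf 369852466)) (.node (.leaf 207061040) (.leaf 375160882))) (.node (.node (.leaf 231065530) (.leaf 347013170)) (.node (.leaf 187154480) (.leaf 364789810)))) (.node (.node (.node (.leaf 232423472) (.leaf 180240433)) (.node (.leaf 119570840) (.leaf 180293812))) (.node (.node (.leaf 212385840) (.leaf 332464177)) (.node (.leaf 87397192) (.leaf 220045540)))))))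

/-- A Schreier factor, part 183. -/
def facCodePart183 : Janko1.Tree ℕ := (.node (.node (.node (.node (.node (.node (.leaf 91364873) (.leaf 376490480)) (.node (.leaf 107282481) (.leaf 373377710))) (.node (.node (.leaf 200048688) (.leaf 373492805)) (.node (.leaf 193413168) (.leaf 215089201)))) (.node (.node (.node (.leaf 9902985) (.leaf 329157885)) (.node (.leaf 318488624) (.leaf 329177624))) (.node (.node (.leaf 31326257) (.leaf 175395640)) (.node (.leaf 218841136) (.leaf 352272434))))) (.node (.node (.node (.node (.leaf 228016178) (.leaf 370004858)) (.node (.leaf 204390450) (.leaf 352765078))) (.node (.node (.leaf 200917042) (.leaf 359006258)) (.node (.leaf 356075636) (.leaf 376132938)))) (.node (.node (.node (.leaf 103186481) (.leaf 281395250)) (.node (.leaf 74585578) (.leaf 299244526))) (.node (.node (.leaf 131563569) (.leaf 287260722)) (.node (.leaf 241246334) (.leaf 305683342)))))) (.node (.node (.node (.node (.node (.leaf 35541773) (.leaf 280690738)) (.node (.leaf 254367445) (.leaf 298584024))) (.node (.node (.leaf 104468366) (.leaf 293558721))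 (.node (.leaf 107118642) (.leaf 293639233)))) (.node (.node (.node (.leaf 277469790) (.leaf 266977329)) (.node (.leaf 71467058) (.leaf 40222769))) (.node (.node (.leaf 275451560) (.leaf 40304689)) (.node (.leaf 224821297) (.leaf 46370634))))) (.node (.node (.node (.node (.leaf 90521648) (.leaf 270270513)) (.node (.leaf 250150960) (.leaf 296960049))) (.node (.node (.leaf 112787545) (.leaf 275169330)) (.node (.leaf 214433928) (.leaf 292918880)))) (.node (.node (.node (.leaf 187303473) (.leaf 286187865)) (.node (.leaf 190513202) (.leaf 275959332))) (.node (.node (.leaf 349016492) (.leaf 293542338)) (.node (.leaf 208191537) (.leaf 305774642)))))))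

/-- A Schreier factor, part 184. -/
def facCodePart184 : Janko1.Tree ℕ := (.node (.node (.node (.node (.node (.node (.leaf 42420960) (.leaf 280854578)) (.node (.leaf 191447089) (.leaf 298745906))) (.node (.node (.leaf 294584368) (.leaf 287113266)) (.node (.leaf 164560946) (.leaf 302628913)))) (.node (.node (.node (.leaf 161136690) (.leaf 104087601)) (.node (.leaf 137711648) (.leaf 257933361))) (.node (.node (.leaf 58605616) (.leaf 62865457)) (.node (.leaf 50102320) (.leaf 261242929))))) (.node (.node (.node (.node (.leaf 303300628) (.leaf 110002225)) (.node (.leaf 60604465) (.leaf 110100529))) (.node (.node (.leaf 48141544) (.leaf 305856561)) (.node (.leaf 15482928) (.leaf 293404722)))) (.node (.node (.node (.leaf 240213226) (.leaf 275318982)) (.node (.leaf 8553297) (.leaf 304775218))) (.node (.node (.leaf 233512541) (.leaf 284868657)) (.node (.leaf 219962377) (.leaf 74270289)))))) (.node (.node (.node (.node (.node (.leaf 328204336) (.leaf 24936497)) (.node (.leaf 85966898) (.leaf 65044530))) (.node (.node (.leaf 89702450) (.leaf 52002866))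 (.node (.leaf 303680090) (.leaf 64409976)))) (.node (.node (.node (.leaf 226492464) (.leaf 21272932)) (.node (.leaf 105906225) (.leaf 1916978))) (.node (.node (.leaf 332532092) (.leaf 20643890)) (.node (.leaf 199098416) (.leaf 35373105))))) (.node (.node (.node (.node (.leaf 199792620) (.leaf 84004366)) (.node (.leaf 192282672) (.leaf 246349873))) (.node (.node (.leaf 374800456) (.leaf 246382641)) (.node (.leaf 176095282) (.leaf 83984433)))) (.node (.node (.node (.leaf 1498058) (.leaf 352985086)) (.node (.leaf 32511494) (.leaf 211238961))) (.node (.node (.leaf 73960620) (.leaf 159957042)) (.node (.leaf 73452653) (.leaf 163879532)))))))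

/-- A Schreier factor, part 185. -/
def facCodePart185 : Janko1.Tree ℕ := (.node (.node (.node (.node (.node (.node (.leaf 70008882) (.leaf 177083613)) (.node (.leaf 292208690) (.leaf 160631513))) (.node (.node (.leaf 263438384) (.leaf 158040114)) (.node (.leaf 268058672) (.leaf 141885490)))) (.node (.node (.node (.leaf 186076976) (.leaf 136568114)) (.node (.leaf 189334392) (.leaf 320392606))) (.node (.node (.leaf 89292848) (.leaf 203014193)) (.node (.leaf 363665678) (.leaf 203032124))))) (.node (.node (.node (.node (.leaf 159044802) (.leaf 320372785)) (.node (.leaf 179978997) (.leaf 361926593))) (.node (.node (.leaf 33521960) (.leaf 157688129)) (.node (.leaf 163201073) (.leaf 197836849)))) (.node (.node (.node (.leaf 290164224) (.leaf 197807341)) (.node (.leaf 276779882) (.leaf 361955377))) (.node (.node (.leaf 66045117) (.leaf 146836925)) (.node (.leaf 41294470) (.leaf 136889701)))))) (.node (.node (.node (.node (.node (.leaf 330104882) (.leaf 133729840)) (.node (.leaf 327713798) (.leaf 150211961))) (.node (.node (.leaf 25247792) (.leaf 185024562))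 (.node (.leaf 45667586) (.leaf 171868210)))) (.node (.node (.node (.leaf 281039548) (.leaf 185434162)) (.node (.leaf 57366217) (.leaf 356417585))) (.node (.node (.leaf 1687602) (.leaf 149127217)) (.node (.leaf 49004592) (.leaf 189300785))))) (.node (.node (.node (.node (.leaf 258578505) (.leaf 356434846)) (.node (.leaf 213254192) (.leaf 135069746))) (.node (.node (.leaf 18415665) (.leaf 147865650)) (.node (.leaf 120001218) (.leaf 148308018)))) (.node (.node (.node (.leaf 341491760) (.leaf 135839794)) (.node (.leaf 115884081) (.leaf 138313778))) (.node (.node (.leaf 201392178) (.leaf 142561646)) (.node (.leaf 204883057) (.leaf 325140529)))))))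

/-- A Schreier factor, part 186. -/
def facCodePart186 : Janko1.Tree ℕ := (.node (.node (.node (.node (.node (.node (.leaf 373621520) (.leaf 209567793)) (.node (.leaf 375806128) (.leaf 351936464))) (.node (.node (.leaf 157679665) (.leaf 348422193)) (.node (.leaf 226787376) (.leaf 321504257)))) (.node (.node (.node (.leaf 134944384) (.leaf 204604374)) (.node (.leaf 332843384) (.leaf 204642413))) (.node (.node (.leaf 237341345) (.leaf 321486897)) (.node (.leaf 337313840) (.leaf 348389425))))) (.node (.node (.node (.node (.leaf 91832370) (.leaf 166435610)) (.node (.leaf 192498274) (.leaf 170611516))) (.node (.node (.leaf 87867442) (.leaf 183833008)) (.node (.leaf 199344176) (.leaf 179996309)))) (.node (.node (.node (.leaf 304758834) (.leaf 183354746)) (.node (.leaf 168083505) (.leaf 175685682))) (.node (.node (.leaf 153747504) (.leaf 178163550)) (.node (.leaf 178048958) (.leaf 164921394)))))) (.node (.node (.node (.node (.node (.leaf 134238484) (.leaf 162013242)) (.node (.leaf 359563312) (.leaf 161586476))) (.node (.node (.leaf 179407933) (.leaf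 360782301)) (.node (.leaf 159555174) (.leaf 195957629)))) (.node (.node (.node (.leaf 27000882) (.leaf 315885474)) (.node (.leaf 266817520) (.leaf 195936305))) (.node (.node (.leaf 123028570) (.leaf 156161196)) (.node (.leaf 146480097) (.leaf 151109685))))) (.node (.node (.node (.node (.leaf 140066864) (.leaf 312508465)) (.node (.leaf 76826144) (.leaf 312541233))) (.node (.node (.leaf 354736432) (.leaf 191060097)) (.node (.leaf 96616497) (.leaf 151093297)))) (.node (.node (.node (.leaf 350355504) (.leaf 357580849)) (.node (.leaf 165822512) (.leaf 142950450))) (.node (.node (.leaf 230971234) (.leaf 143384673)) (.node (.leaf 227565322) (.leaf 153067788)))))))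

/-- A Schreier factor, part 187. -/
def facCodePart187 : Janko1.Tree ℕ := (.node (.node (.node (.node (.node (.node (.leaf 7258160) (.leaf 50364652)) (.node (.leaf 33161264) (.leaf 62341126))) (.node (.node (.leaf 276570269) (.leaf 62799922)) (.node (.leaf 100106289) (.leaf 46448690)))) (.node (.node (.node (.leaf 289836530) (.leaf 49699962)) (.node (.leaf 40992816) (.leaf 9224241))) (.node (.node (.leaf 65749040) (.leaf 250724401)) (.node (.leaf 4299873) (.leaf 91901686))))) (.node (.node (.node (.node (.leaf 259702834) (.leaf 250691633)) (.node (.leaf 102957106) (.leaf 277168177))) (.node (.node (.leaf 257593624) (.leaf 9240625)) (.node (.leaf 16881846) (.leaf 280678938)))) (.node (.node (.node (.leaf 198844004) (.leaf 97861936)) (.node (.leaf 281301468) (.leaf 254083121))) (.node (.node (.leaf 202113073) (.leaf 280657969)) (.node (.leaf 57606192) (.leaf 27279410)))))) (.node (.node (.node (.node (.node (.leaf 329072690) (.leaf 23380018)) (.node (.leaf 217219122) (.leaf 5177394))) (.node (.node (.leaf 130260794) (.leaf 29491250)) (.node (.leaf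 154917858) (.leaf 32741873)))) (.node (.node (.node (.leaf 105857072) (.leaf 16425314)) (.node (.leaf 272567688) (.leaf 16780430))) (.node (.node (.leaf 235132464) (.leaf 11767054)) (.node (.leaf 218546225) (.leaf 33557877))))) (.node (.node (.node (.node (.leaf 73777200) (.leaf 242106417)) (.node (.leaf 164003890) (.leaf 76120113))) (.node (.node (.leaf 364658738) (.leaf 26902577)) (.node (.leaf 113541168) (.leaf 81788977)))) (.node (.node (.node (.leaf 13699525) (.leaf 245257784)) (.node (.leaf 75841586) (.leaf 43843634))) (.node (.node (.leaf 81189505) (.leaf 40147082)) (.node (.leaf 293290034) (.leaf 44220466)))))))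

/-- A Schreier factor, part 188. -/
def facCodePart188 : Janko1.Tree ℕ := (.node (.node (.node (.node (.node (.node (.leaf 193267382) (.leaf 35323954)) (.node (.leaf 328123190) (.leaf 18612274))) (.node (.node (.leaf 230114161) (.leaf 51929494)) (.node (.leaf 166171825) (.leaf 14129104)))) (.node (.node (.node (.leaf 213581872) (.leaf 30834738)) (.node (.leaf 149307441) (.leaf 64290866))) (.node (.node (.leaf 134137948) (.leaf 68803865)) (.node (.leaf 106184753) (.leaf 308281393))))) (.node (.node (.node (.node (.leaf 74799754) (.leaf 68276489)) (.node (.leaf 354828336) (.leaf 68419633))) (.node (.node (.leaf 94617649) (.leaf 263789356)) (.node (.leaf 350437420) (.leaf 263850480)))) (.node (.node (.node (.leaf 226541616) (.leaf 263815217)) (.node (.leaf 7110705) (.leaf 263865986))) (.node (.node (.leaf 41682009) (.leaf 115294324)) (.node (.leaf 146364808) (.leaf 115366162)))))) (.node (.node (.node (.node (.node (.leaf 220006329) (.leaf 68239409)) (.node (.leaf 139972156) (.leaf 308301373))) (.node (.node (.leaf 272318512) (.leaf 150126642))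 (.node (.leaf 98123825) (.leaf 146276402)))) (.node (.node (.node (.leaf 105634149) (.leaf 149675206)) (.node (.leaf 1577680) (.leaf 176592257))) (.node (.node (.leaf 37046697) (.leaf 146768512)) (.node (.leaf 7200964) (.leaf 173776470))))) (.node (.node (.node (.node (.leaf 32578397) (.leaf 160546866)) (.node (.leaf 33083266) (.leaf 163037234))) (.node (.node (.leaf 196954272) (.leaf 365191186)) (.node (.leaf 281395712) (.leaf 365281329)))) (.node (.node (.node (.leaf 267993882) (.leaf 338542641)) (.node (.leaf 200294449) (.leaf 229376049))) (.node (.node (.leaf 169757178) (.leaf 338526257)) (.node (.leaf 122096142) (.leaf 365175156)))))))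

/-- A Schreier factor, part 189. -/
def facCodePart189 : Janko1.Tree ℕ := (.node (.node (.node (.node (.node (.node (.leaf 25477168) (.leaf 162848366)) (.node (.leaf 348029336) (.leaf 379197802))) (.node (.node (.leaf 311951410) (.leaf 184614961)) (.node (.leaf 136036402) (.leaf 184762417)))) (.node (.node (.node (.leaf 185696306) (.leaf 224575537)) (.node (.leaf 345751602) (.leaf 224647410))) (.node (.node (.leaf 132735096) (.leaf 335249862)) (.node (.leaf 65984662) (.leaf 335200305))))) (.node (.node (.node (.node (.leaf 215963504) (.leaf 335286209)) (.node (.leaf 163006896) (.leaf 224547529))) (.node (.node (.leaf 159812938) (.leaf 379043889)) (.node (.leaf 73864762) (.leaf 379207729)))) (.node (.node (.node (.leaf 238944306) (.leaf 157876274)) (.node (.leaf 802866) (.leaf 184844338))) (.node (.node (.leaf 276578354) (.leaf 171809589)) (.node (.leaf 241273418) (.leaf 141824702)))))) (.node (.node (.node (.node (.node (.leaf 6068484) (.leaf 168613177)) (.node (.leaf 57269614) (.leaf 145068542))) (.node (.node (.leaf 41599026) (.leaf 158842930))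 (.node (.leaf 88457265) (.leaf 369573937)))) (.node (.node (.node (.leaf 341442608) (.leaf 342769713)) (.node (.leaf 84514102) (.leaf 236060721))) (.node (.node (.leaf 213352496) (.leaf 236078473)) (.node (.leaf 55951409) (.leaf 342753329))))) (.node (.node (.node (.node (.leaf 233308208) (.leaf 369561049)) (.node (.leaf 18513969) (.leaf 369639473))) (.node (.node (.leaf 153372610) (.leaf 169598244)) (.node (.leaf 211779633) (.leaf 143596300)))) (.node (.node (.node (.leaf 350704632) (.leaf 170514262)) (.node (.leaf 188350513) (.leaf 153239602))) (.node (.node (.leaf 184623378) (.leaf 153763890)) (.node (.leaf 140319498) (.leaf 180387890)))))))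

/-- A Schreier factor, part 190. -/
def facCodePart190 : Janko1.Tree ℕ := (.node (.node (.node (.node (.node (.node (.leaf 226885680) (.leaf 140478920)) (.node (.leaf 146620464) (.leaf 169771058))) (.node (.node (.leaf 87589073) (.leaf 148521010)) (.node (.leaf 284562924) (.leaf 175610890)))) (.node (.node (.node (.leaf 248987698) (.leaf 151322674)) (.node (.leaf 22331772) (.leaf 178063797))) (.node (.node (.leaf 91524926) (.leaf 138434402)) (.node (.leaf 286625913) (.leaf 164878358))))) (.node (.node (.node (.node (.leaf 251337161) (.leaf 135764953)) (.node (.leaf 159498288) (.leaf 147800114))) (.node (.node (.leaf 60310076) (.leaf 152049318)) (.node (.leaf 204488754) (.leaf 374947889)))) (.node (.node (.node (.leaf 201080882) (.leaf 217628949)) (.node (.leaf 320012338) (.leaf 330629169))) (.node (.node (.leaf 147193906) (.leaf 330711089)) (.node (.leaf 231313580) (.leaf 330731846)))))) (.node (.node (.node (.node (.node (.leaf 178330670) (.leaf 217612337)) (.node (.leaf 199163952) (.leaf 217694840))) (.node (.node (.leaf 165756976) (.leaf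 177848369)) (.node (.leaf 227885106) (.leaf 177881137)))) (.node (.node (.node (.leaf 175046706) (.leaf 374964273)) (.node (.leaf 192371484) (.leaf 375013425))) (.node (.node (.leaf 75487696) (.leaf 11715165)) (.node (.leaf 8380005) (.leaf 50323058))))) (.node (.node (.node (.node (.leaf 71572478) (.leaf 33456178)) (.node (.leaf 240094229) (.leaf 29024680))) (.node (.node (.leaf 3375154) (.leaf 62245221)) (.node (.leaf 40910896) (.leaf 32933770)))) (.node (.node (.node (.leaf 73531440) (.leaf 62734740)) (.node (.leaf 65683504) (.leaf 12337202))) (.node (.node (.leaf 346816562) (.leaf 49681293)) (.node (.leaf 310706226) (.leaf 298552928)))))))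

/-- A Schreier factor, part 191. -/
def facCodePart191 : Janko1.Tree ℕ := (.node (.node (.node (.node (.node (.node (.leaf 190650302) (.leaf 271900178)) (.node (.leaf 349143090) (.leaf 271975454))) (.node (.node (.leaf 313103732) (.leaf 129697597)) (.node (.leaf 49233968) (.leaf 129712177)))) (.node (.node (.node (.leaf 214319154) (.leaf 129801742)) (.node (.leaf 217662368) (.leaf 298647601))) (.node (.node (.leaf 164708402) (.leaf 49617525)) (.node (.leaf 235339825) (.leaf 304250929))))) (.node (.node (.node (.node (.leaf 290250789) (.leaf 60203390)) (.node (.leaf 258952305) (.leaf 107249713))) (.node (.node (.leaf 276846853) (.leaf 259398328)) (.node (.leaf 181534769) (.leaf 107217688)))) (.node (.node (.node (.leaf 33398941) (.leaf 107320221)) (.node (.leaf 7423929) (.leaf 304268514))) (.node (.node (.leaf 123961393) (.leaf 56655922)) (.node (.leaf 285348404) (.leaf 60121298)))))) (.node (.node (.node (.node (.node (.leaf 263067525) (.leaf 9458222)) (.node (.leaf 111788081) (.leaf 43762353))) (.node (.node (.leaf 80363821) (.leaf 5069045))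 (.node (.leaf 281105506) (.leaf 40066646)))) (.node (.node (.node (.leaf 121749552) (.leaf 9832385)) (.node (.leaf 59805652) (.leaf 4555896))) (.node (.node (.leaf 13778993) (.leaf 55910705)) (.node (.leaf 16587533) (.leaf 60823373))))) (.node (.node (.node (.node (.leaf 199721009) (.leaf 30150510)) (.node (.leaf 137485594) (.leaf 50519166))) (.node (.node (.leaf 216858672) (.leaf 13074482)) (.node (.leaf 361632786) (.leaf 51004989)))) (.node (.node (.node (.leaf 343752752) (.leaf 12599346)) (.node (.leaf 170197041) (.leaf 12386352))) (.node (.node (.leaf 143104776) (.leaf 67557394)) (.node (.leaf 82067506) (.leaf 280182832)))))))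

/-- A Schreier factor, part 192. -/
def facCodePart192 : Janko1.Tree ℕ := (.node (.node (.node (.node (.node (.node (.leaf 49332274) (.leaf 80136822)) (.node (.leaf 296897776) (.leaf 13949597))) (.node (.node (.leaf 261244266) (.leaf 300325444)) (.node (.leaf 97992753) (.leaf 280199216)))) (.node (.node (.node (.leaf 223494192) (.leaf 244711472)) (.node (.leaf 193134642) (.leaf 19944188))) (.node (.node (.leaf 139788338) (.leaf 29622321)) (.node (.leaf 169019725) (.leaf 753714))))) (.node (.node (.node (.node (.leaf 219091412) (.leaf 40862420)) (.node (.leaf 166102672) (.leaf 267976))) (.node (.node (.leaf 370492588) (.leaf 12435504)) (.node (.leaf 335076941) (.leaf 57327666)))) (.node (.node (.node (.leaf 93880826) (.leaf 12737213)) (.node (.leaf 125255729) (.leaf 162447410))) (.node (.node (.leaf 29302076) (.leaf 175816754)) (.node (.leaf 125934917) (.leaf 79075300)))))) (.node (.node (.node (.node (.node (.leaf 274300976) (.leaf 114302906)) (.node (.leaf 256557104) (.leaf 145326130))) (.node (.node (.leaf 42090545) (.leaf 132923442)) (.node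 (.leaf 7241946) (.leaf 50577456)))) (.node (.node (.node (.leaf 93814834) (.leaf 13615225)) (.node (.leaf 28540978) (.leaf 300105776))) (.node (.node (.leaf 124616754) (.leaf 115179568)) (.node (.leaf 61443088) (.leaf 244520612))))) (.node (.node (.node (.node (.leaf 307691570) (.leaf 279838768)) (.node (.leaf 203440177) (.leaf 13599914))) (.node (.node (.leaf 229710098) (.leaf 300073777)) (.node (.leaf 21335912) (.leaf 264052370)))) (.node (.node (.node (.leaf 167122978) (.leaf 279822384)) (.node (.leaf 140304290) (.leaf 51429742))) (.node (.node (.leaf 209670541) (.leaf 12686097)) (.node (.leaf 53477424) (.leaf 79052848)))))))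

/-- A Schreier factor, part 193. -/
def facCodePart193 : Janko1.Tree ℕ := (.node (.node (.node (.node (.node (.node (.leaf 235428825) (.leaf 114234989)) (.node (.leaf 341458994) (.leaf 50528304))) (.node (.node (.leaf 29540400) (.leaf 172605490)) (.node (.leaf 256819841) (.leaf 148668466)))) (.node (.node (.node (.leaf 61622452) (.leaf 18087984)) (.node (.leaf 341482222) (.leaf 111134681))) (.node (.node (.leaf 235407101) (.leaf 47382576)) (.node (.leaf 117808960) (.leaf 18056545))))) (.node (.node (.node (.node (.leaf 85868593) (.leaf 83705904)) (.node (.leaf 16629809) (.leaf 111116336))) (.node (.node (.leaf 53205405) (.leaf 17137712)) (.node (.leaf 93831218) (.leaf 82755632)))) (.node (.node (.node (.leaf 28579478) (.leaf 167280690)) (.node (.leaf 272290161) (.leaf 110297136))) (.node (.node (.leaf 124637817) (.leaf 46596144)) (.node (.leaf 61472818) (.leaf 157138994)))))) (.node (.node (.node (.node (.node (.leaf 80207672) (.leaf 13631729)) (.node (.leaf 236781616) (.leaf 79921200))) (.node (.node (.leaf 347854700) (.leaf 115195952)) (.node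 (.leaf 27295793) (.leaf 51462192)))) (.node (.node (.node (.leaf 198382944) (.leaf 12714032)) (.node (.leaf 208880237) (.leaf 177340466))) (.node (.node (.leaf 224315605) (.leaf 114279289)) (.node (.leaf 171262002) (.leaf 146905653))))) (.node (.node (.node (.node (.leaf 369393714) (.leaf 134561842)) (.node (.leaf 191234097) (.leaf 12697648))) (.node (.node (.leaf 217694257) (.leaf 169220866)) (.node (.leaf 150356016) (.leaf 182388740)))) (.node (.node (.node (.leaf 334962682) (.leaf 152148902)) (.node (.leaf 155156529) (.leaf 50544688))) (.node (.node (.leaf 80190386) (.leaf 13582384)) (.node (.leaf 13934172) (.leaf 300056624)))))))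

/-- A Schreier factor, part 194. -/
def facCodePart194 : Janko1.Tree ℕ := (.node (.node (.node (.node (.node (.node (.leaf 202604592) (.leaf 264033678)) (.node (.leaf 176166844) (.leaf 79904816))) (.node (.node (.leaf 110665670) (.leaf 115150665)) (.node (.leaf 47273176) (.leaf 244499537)))) (.node (.node (.node (.leaf 300240602) (.leaf 279806000)) (.node (.leaf 264503346) (.leaf 51413040))) (.node (.node (.leaf 237158448) (.leaf 18104368)) (.node (.leaf 198066225) (.leaf 83755056))))) (.node (.node (.node (.node (.leaf 224657457) (.leaf 261881904)) (.node (.leaf 148050356) (.leaf 111150972))) (.node (.node (.leaf 348160048) (.leaf 47398960)) (.node (.leaf 330399792) (.leaf 282149317)))) (.node (.node (.node (.leaf 80166962) (.leaf 82806018)) (.node (.leaf 264536114) (.leaf 110313520))) (.node (.node (.leaf 110646164) (.leaf 46633938)) (.node (.leaf 230031408) (.leaf 17155508)))))) (.node (.node (.node (.node (.node (.leaf 72355494) (.leaf 82774620)) (.node (.leaf 352354356) (.leaf 46612528))) (.node (.node (.leaf 202326064) (.leaf 297861168))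 (.node (.leaf 171327538) (.leaf 282119429)))) (.node (.node (.node (.leaf 287326256) (.leaf 298123312)) (.node (.leaf 69442510) (.leaf 2687025))) (.node (.node (.leaf 36683824) (.leaf 15584865)) (.node (.leaf 99614770) (.leaf 31891637))))) (.node (.node (.node (.node (.leaf 12357740) (.leaf 10098728)) (.node (.leaf 221511729) (.leaf 54820914))) (.node (.node (.leaf 178789508) (.leaf 25755698)) (.node (.leaf 344477314) (.leaf 262176816)))) (.node (.node (.node (.leaf 2573976) (.leaf 115458464)) (.node (.leaf 287654484) (.leaf 264364033))) (.node (.node (.leaf 158761009) (.leaf 300304929)) (.node (.leaf 154566706) (.leaf 21498449)))))))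

/-- A Schreier factor, part 195. -/
def facCodePart195 : Janko1.Tree ℕ := (.node (.node (.node (.node (.node (.node (.leaf 69668130) (.leaf 48513074)) (.node (.leaf 36966784) (.leaf 10731570))) (.node (.node (.leaf 180917224) (.leaf 10230681)) (.node (.leaf 380149804) (.leaf 12409193)))) (.node (.node (.node (.leaf 344427554) (.leaf 65716274)) (.node (.leaf 83887710) (.leaf 22151174))) (.node (.node (.leaf 109740080) (.leaf 3326002)) (.node (.leaf 265277929) (.leaf 2818098))))) (.node (.node (.node (.node (.leaf 56378430) (.leaf 12419120)) (.node (.leaf 35016496) (.leaf 51764009))) (.node (.node (.leaf 131022898) (.leaf 264395813)) (.node (.leaf 271073330) (.leaf 300351536)))) (.node (.node (.node (.leaf 15944876) (.leaf 33802509)) (.node (.leaf 113492018) (.leaf 17596466))) (.node (.node (.leaf 162529328) (.leaf 34577560)) (.node (.leaf 173540038) (.leaf 18386453)))))) (.node (.node (.node (.node (.node (.leaf 143310897) (.leaf 115541280)) (.node (.leaf 226185698) (.leaf 264407112))) (.node (.node (.leaf 156844080) (.leaf 246825008)) (.node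 (.leaf 216907824) (.leaf 300367920)))) (.node (.node (.node (.leaf 195969073) (.leaf 282542128)) (.node (.leaf 314687538) (.leaf 18432048))) (.node (.node (.leaf 352763954) (.leaf 115572784)) (.node (.leaf 219873330) (.leaf 264439376))))) (.node (.node (.node (.node (.leaf 202428750) (.leaf 246881276)) (.node (.leaf 352469040) (.leaf 40370226))) (.node (.node (.leaf 149951524) (.leaf 40798856)) (.node (.leaf 70259144) (.leaf 57229362)))) (.node (.node (.node (.leaf 28236964) (.leaf 136155416)) (.node (.leaf 125346137) (.leaf 114376752))) (.node (.node (.leaf 61263208) (.leaf 50682410)) (.node (.leaf 62474753) (.leaf 282234972)))))))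

/-- A Schreier factor, part 196. -/
def facCodePart196 : Janko1.Tree ℕ := (.node (.node (.node (.node (.node (.node (.leaf 7405617) (.leaf 264110128)) (.node (.leaf 2244656) (.leaf 83853360))) (.node (.node (.leaf 125993008) (.leaf 51527728)) (.node (.leaf 73995222) (.leaf 18191488)))) (.node (.node (.node (.leaf 325730354) (.leaf 282181680)) (.node (.leaf 236314021) (.leaf 115228720))) (.node (.node (.leaf 77595868) (.leaf 83824673)) (.node (.leaf 53411888) (.leaf 51496828))))) (.node (.node (.node (.node (.leaf 261111856) (.leaf 143835186)) (.node (.leaf 177112004) (.leaf 170908805))) (.node (.node (.leaf 140492849) (.leaf 156991538)) (.node (.leaf 229786922) (.leaf 114327600)))) (.node (.node (.node (.leaf 118079536) (.leaf 50626608)) (.node (.leaf 325713970) (.leaf 159023154))) (.node (.node (.leaf 61545717) (.leaf 110379832)) (.node (.leaf 236275177) (.leaf 46710832)))))) (.node (.node (.node (.node (.node (.leaf 69746736) (.leaf 12894256)) (.node (.leaf 134352025) (.leaf 297917574))) (.node (.node (.leaf 183894065) (.leaf 244547632))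 (.node (.leaf 126271536) (.leaf 111247408)))) (.node (.node (.node (.leaf 289751090) (.leaf 297900140)) (.node (.leaf 252166194) (.leaf 244531248))) (.node (.node (.leaf 53100592) (.leaf 111231204)) (.node (.leaf 77299760) (.leaf 13750477))))) (.node (.node (.node (.node (.leaf 283222170) (.leaf 180797490)) (.node (.leaf 117276721) (.leaf 46694448))) (.node (.node (.leaf 317866034) (.leaf 282247216)) (.node (.leaf 351683237) (.leaf 264132840)))) (.node (.node (.node (.leaf 194101298) (.leaf 246631880)) (.node (.leaf 188874800) (.leaf 83871430))) (.node (.node (.leaf 168165426) (.leaf 18207712)) (.node (.leaf 48349966) (.leaf 164118578)))))))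

/-- A Schreier factor, part 197. -/
def facCodePart197 : Janko1.Tree ℕ := (.node (.node (.node (.node (.node (.node (.leaf 27497930) (.leaf 150511646)) (.node (.leaf 111427633) (.leaf 114360368))) (.node (.node (.leaf 236899513) (.leaf 50662193)) (.node (.leaf 91848753) (.leaf 17259313)))) (.node (.node (.node (.leaf 282366825) (.leaf 155815112)) (.node (.leaf 111476786) (.leaf 114343984))) (.node (.node (.leaf 195821616) (.leaf 82853936)) (.node (.leaf 51740722) (.leaf 17203248))))) (.node (.node (.node (.node (.leaf 357384750) (.leaf 246618534)) (.node (.leaf 143491120) (.leaf 83804208))) (.node (.node (.leaf 207798321) (.leaf 18138177)) (.node (.leaf 282431208) (.leaf 297928522)))) (.node (.node (.node (.leaf 51778446) (.leaf 79958877)) (.node (.leaf 361693232) (.leaf 174119532))) (.node (.node (.leaf 330317872) (.leaf 134463538)) (.node (.leaf 137400809) (.leaf 12877872)))))) (.node (.node (.node (.node (.node (.leaf 194070993) (.leaf 179050058)) (.node (.leaf 144097330) (.leaf 139051058))) (.node (.node (.leaf 175807953) (.leaf 110366130))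 (.node (.leaf 195493936) (.leaf 12863630)))) (.node (.node (.node (.leaf 334601250) (.leaf 261931056)) (.node (.leaf 230152016) (.leaf 111214640))) (.node (.node (.leaf 99729457) (.leaf 79943652)) (.node (.leaf 143228976) (.leaf 13729840))))) (.node (.node (.node (.node (.leaf 34644402) (.leaf 111511805)) (.node (.leaf 132105661) (.leaf 298172464))) (.node (.node (.leaf 93016054) (.leaf 280222281)) (.node (.leaf 31195185) (.leaf 10125362)))) (.node (.node (.node (.leaf 274333744) (.leaf 12468272)) (.node (.leaf 95617073) (.leaf 61276210))) (.node (.node (.leaf 107151409) (.leaf 11010098)) (.node (.leaf 362430514) (.leaf 2704792)))))))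

/-- A Schreier factor, part 198. -/
def facCodePart198 : Janko1.Tree ℕ := (.node (.node (.node (.node (.node (.node (.leaf 210567218) (.leaf 12484656)) (.node (.leaf 154258242) (.leaf 21597541))) (.node (.node (.leaf 324583474) (.leaf 54795672)) (.node (.leaf 184567785) (.leaf 55115826)))) (.node (.node (.node (.leaf 234553394) (.leaf 3578596)) (.node (.leaf 168738865) (.leaf 80232496))) (.node (.node (.leaf 110149680) (.leaf 262258736)) (.node (.leaf 204914737) (.leaf 244794300))))) (.node (.node (.node (.node (.leaf 362414130) (.leaf 115523632)) (.node (.leaf 210536764) (.leaf 84082736))) (.node (.node (.leaf 93339696) (.leaf 246808624)) (.node (.leaf 184516658) (.leaf 282525744)))) (.node (.node (.node (.leaf 214745137) (.leaf 15503702)) (.node (.leaf 29474864) (.leaf 48840754))) (.node (.node (.leaf 102416432) (.leaf 32096306)) (.node (.leaf 211517489) (.leaf 65617970)))))) (.node (.node (.node (.node (.node (.leaf 34586674) (.leaf 25707589)) (.node (.leaf 95050102) (.leaf 42468265))) (.node (.node (.leaf 132071474) (.leaf 8503346)) (.node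 (.leaf 85180464) (.leaf 42811520)))) (.node (.node (.node (.leaf 265191472) (.leaf 51822640)) (.node (.leaf 52187934) (.leaf 18455502))) (.node (.node (.leaf 115219881) (.leaf 264455184)) (.node (.leaf 109810080) (.leaf 300389412))))) (.node (.node (.node (.node (.leaf 296967912) (.leaf 79141961)) (.node (.leaf 81920050) (.leaf 73482289))) (.node (.node (.leaf 223529913) (.leaf 80534306)) (.node (.leaf 366133296) (.leaf 246464560)))) (.node (.node (.node (.leaf 183752840) (.leaf 84449637)) (.node (.leaf 190220129) (.leaf 52549293))) (.node (.node (.leaf 169397098) (.leaf 246486264)) (.node (.leaf 193003570) (.leaf 244318256)))))))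

/-- A Schreier factor, part 199. -/
def facCodePart199 : Janko1.Tree ℕ := (.node (.node (.node (.node (.node (.node (.leaf 229064752) (.leaf 84459568)) (.node (.leaf 142082096) (.leaf 52560556))) (.node (.node (.leaf 142966834) (.leaf 297421525)) (.node (.leaf 320995376) (.leaf 34590586)))) (.node (.node (.node (.leaf 98373152) (.leaf 47044025)) (.node (.leaf 102342013) (.leaf 79167593))) (.node (.node (.leaf 32931889) (.leaf 83073250)) (.node (.leaf 196640816) (.leaf 51101744))))) (.node (.node (.node (.node (.leaf 124747826) (.leaf 51314881)) (.node (.leaf 93658960) (.leaf 79547137))) (.node (.node (.leaf 94224433) (.leaf 297044578)) (.node (.leaf 105791537) (.leaf 244027565)))) (.node (.node (.node (.leaf 28803622) (.leaf 80314368)) (.node (.leaf 94258248) (.leaf 299434032))) (.node (.node (.leaf 343380144) (.leaf 297028778)) (.node (.leaf 178999305) (.leaf 84153362)))))) (.node (.node (.node (.node (.node (.leaf 209535593) (.leaf 80298781)) (.node (.leaf 108972733) (.leaf 246120496))) (.node (.node (.leaf 20209894) (.leaf 299386376)) (.node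 (.leaf 152981673) (.leaf 48058674)))) (.node (.node (.node (.leaf 243810352) (.leaf 51298352)) (.node (.leaf 203774208) (.leaf 136414717))) (.node (.node (.leaf 149733425) (.leaf 79495216)) (.node (.leaf 46242540) (.leaf 202768433))))) (.node (.node (.node (.node (.leaf 86507568) (.leaf 136396849)) (.node (.leaf 166445105) (.leaf 47223166))) (.node (.node (.leaf 376586290) (.leaf 157436357)) (.node (.leaf 179011634) (.leaf 13500464)))) (.node (.node (.node (.leaf 152999686) (.leaf 114777208)) (.node (.leaf 101435202) (.leaf 157466673))) (.node (.node (.leaf 305791024) (.leaf 14401584)) (.node (.leaf 239296161) (.leaf 111558704)))))))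

/-- A Schreier factor, part 200. -/
def facCodePart200 : Janko1.Tree ℕ := (.node (.node (.node (.node (.node (.node (.leaf 210272305) (.leaf 263722576)) (.node (.leaf 37985004) (.leaf 279216176))) (.node (.node (.leaf 65587730) (.leaf 14385200)) (.node (.leaf 32627532) (.leaf 115605552)))) (.node (.node (.node (.leaf 93683762) (.leaf 18759728)) (.node (.leaf 108642352) (.leaf 279199792))) (.node (.node (.leaf 113705009) (.leaf 148996145)) (.node (.leaf 243433520) (.leaf 110641200))))) (.node (.node (.node (.node (.leaf 86220169) (.leaf 189237414)) (.node (.leaf 49501949) (.leaf 114720889))) (.node (.node (.leaf 20594737) (.leaf 17907760)) (.node (.leaf 336019506) (.leaf 297063297)))) (.node (.node (.node (.leaf 198246450) (.leaf 80330800)) (.node (.leaf 215586276) (.leaf 246155478))) (.node (.node (.leaf 155878776) (.leaf 299450416)) (.node (.leaf 80543793) (.leaf 142426161)))))) (.node (.node (.node (.node (.node (.leaf 124190769) (.leaf 209338417)) (.node (.leaf 14139441) (.leaf 79530066))) (.node (.node (.leaf 210108464) (.leaf 142409777))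 (.node (.leaf 51238245) (.leaf 83266364)))) (.node (.node (.node (.leaf 80090373) (.leaf 79519518)) (.node (.leaf 149004730) (.leaf 138004141))) (.node (.node (.leaf 170360880) (.leaf 246104112)) (.node (.leaf 203868524) (.leaf 299376058))))) (.node (.node (.node (.node (.leaf 181278917) (.leaf 48037936)) (.node (.leaf 110788658) (.leaf 111575088))) (.node (.node (.leaf 18546738) (.leaf 115638320)) (.node (.leaf 80052274) (.leaf 18792496)))) (.node (.node (.node (.leaf 215908400) (.leaf 279232560)) (.node (.leaf 378945584) (.leaf 13484080))) (.node (.node (.leaf 312302796) (.leaf 110657584)) (.node (.leaf 210305072) (.leaf 195903537)))))))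

/-- A Schreier factor, part 201. -/
def facCodePart201 : Janko1.Tree ℕ := (.node (.node (.node (.node (.node (.node (.leaf 174626418) (.leaf 114757285)) (.node (.leaf 144395680) (.leaf 17977770))) (.node (.node (.leaf 163629337) (.leaf 156043489)) (.node (.leaf 336068658) (.leaf 190939185)))) (.node (.node (.node (.leaf 148717616) (.leaf 190974642)) (.node (.leaf 198299426) (.leaf 17927277))) (.node (.node (.leaf 374625294) (.leaf 14371488)) (.node (.leaf 316578188) (.leaf 111544624))))) (.node (.node (.node (.node (.leaf 72712241) (.leaf 263684144)) (.node (.leaf 203554864) (.leaf 261472304))) (.node (.node (.leaf 4571185) (.leaf 18743344)) (.node (.leaf 170033200) (.leaf 279183408)))) (.node (.node (.node (.leaf 131321613) (.leaf 261787268)) (.node (.leaf 30687282) (.leaf 263913520))) (.node (.node (.leaf 99487369) (.leaf 281677754)) (.node (.leaf 128057393) (.leaf 17652054)))))) (.node (.node (.node (.node (.node (.leaf 292290608) (.leaf 8552497)) (.node (.leaf 76355794) (.leaf 114463634))) (.node (.node (.leaf 70582320) (.leaf 110460976))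 (.node (.leaf 64077873) (.leaf 91245464)))) (.node (.node (.node (.leaf 62379942) (.leaf 13196897)) (.node (.leaf 233885934) (.leaf 97124401))) (.node (.node (.leaf 342264428) (.leaf 114482053)) (.node (.leaf 157779850) (.leaf 97115692))))) (.node (.node (.node (.node (.leaf 207913806) (.leaf 15566073)) (.node (.leaf 116957294) (.leaf 13212556))) (.node (.node (.leaf 195173065) (.leaf 115916848)) (.node (.leaf 54476848) (.leaf 14585626)))) (.node (.node (.node (.leaf 233898034) (.leaf 299712560)) (.node (.leaf 342278194) (.leaf 48398384))) (.node (.node (.leaf 184139985) (.leaf 246449732)) (.node (.leaf 207945778) (.leaf 244304580)))))))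

/-- A Schreier factor, part 202. -/
def facCodePart202 : Janko1.Tree ℕ := (.node (.node (.node (.node (.node (.node (.leaf 125045134) (.leaf 84426800)) (.node (.leaf 1278000) (.leaf 52529118))) (.node (.node (.leaf 157729654) (.leaf 297405190)) (.node (.leaf 252477488) (.leaf 26247217)))) (.node (.node (.node (.leaf 292608248) (.leaf 75386364)) (.node (.leaf 62685232) (.leaf 82935856))) (.node (.node (.leaf 70880045) (.leaf 51036208)) (.node (.leaf 185127602) (.leaf 26268078))))) (.node (.node (.node (.node (.leaf 273203250) (.leaf 47022128)) (.node (.leaf 306659378) (.leaf 79159686))) (.node (.node (.leaf 63504434) (.leaf 81155864)) (.node (.leaf 99457125) (.leaf 81167406)))) (.node (.node (.node (.leaf 116691481) (.leaf 82976209)) (.node (.leaf 10952716) (.leaf 51085360))) (.node (.node (.leaf 247775280) (.leaf 299761712)) (.node (.leaf 119881777) (.leaf 80549366)))))) (.node (.node (.node (.node (.node (.leaf 18341637) (.leaf 244334640)) (.node (.leaf 54231088) (.leaf 84475952))) (.node (.node (.leaf 173113393) (.leaf 57278513)) (.node (.leaf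 183846900) (.leaf 47071824)))) (.node (.node (.node (.leaf 196821041) (.leaf 51139332)) (.node (.leaf 223453585) (.leaf 57382192))) (.node (.node (.leaf 156094589) (.leaf 281755696)) (.node (.leaf 49791470) (.leaf 14680760))))) (.node (.node (.node (.node (.leaf 279054922) (.leaf 52610972)) (.node (.leaf 77648408) (.leaf 19126970))) (.node (.node (.leaf 11131633) (.leaf 297489932)) (.node (.leaf 203492276) (.leaf 281807146)))) (.node (.node (.node (.leaf 32735281) (.leaf 14696496)) (.node (.leaf 370266152) (.leaf 297501941))) (.node (.node (.leaf 102252593) (.leaf 279511088)) (.node (.leaf 142297256) (.leaf 67452977)))))))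

/-- A Schreier factor, part 203. -/
def facCodePart203 : Janko1.Tree ℕ := (.node (.node (.node (.node (.node (.node (.leaf 70516784) (.leaf 18038832)) (.node (.leaf 37748784) (.leaf 171196465))) (.node (.node (.leaf 28642208) (.leaf 171263901)) (.node (.leaf 74661937) (.leaf 171181277)))) (.node (.node (.node (.leaf 105709617) (.leaf 13533232)) (.node (.leaf 125190194) (.leaf 52297776))) (.node (.node (.leaf 1049077) (.leaf 18899273)) (.node (.leaf 101122096) (.leaf 297156656))))) (.node (.node (.node (.node (.leaf 289933941) (.leaf 299520236)) (.node (.leaf 97045742) (.leaf 281493552))) (.node (.node (.leaf 31981618) (.leaf 48154681)) (.node (.leaf 254263346) (.leaf 14434352)))) (.node (.node (.node (.leaf 176652337) (.leaf 52248624)) (.node (.leaf 78643248) (.leaf 18844904))) (.node (.node (.leaf 46317616) (.leaf 297140272)) (.node (.leaf 193790862) (.leaf 299483184)))))) (.node (.node (.node (.node (.node (.leaf 301449264) (.leaf 48136240)) (.node (.leaf 220217393) (.leaf 14417968))) (.node (.node (.leaf 236134812) (.leaf 51363888)) (.node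 (.leaf 182976562) (.leaf 162725937)))) (.node (.node (.node (.leaf 183321493) (.leaf 110741110)) (.node (.leaf 70802002) (.leaf 79581413))) (.node (.node (.leaf 38043870) (.leaf 224447592)) (.node (.leaf 252546188) (.leaf 224477233))))) (.node (.node (.node (.node (.leaf 213598257) (.leaf 83353466)) (.node (.leaf 182960178) (.leaf 246251568))) (.node (.node (.leaf 205822388) (.leaf 244080946)) (.node (.leaf 323338290) (.leaf 84283805)))) (.node (.node (.node (.leaf 53926950) (.leaf 111624313)) (.node (.leaf 78333072) (.leaf 80363568))) (.node (.node (.leaf 20381745) (.leaf 246218800)) (.node (.leaf 247824432) (.leaf 244062906)))))))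

/-- A Schreier factor, part 204. -/
def facCodePart204 : Janko1.Tree ℕ := (.node (.node (.node (.node (.node (.node (.leaf 61971100) (.leaf 215899305)) (.node (.leaf 289898546) (.leaf 215828220))) (.node (.node (.leaf 97026377) (.leaf 215911718)) (.node (.leaf 47759409) (.leaf 52314160)))) (.node (.node (.node (.leaf 92609816) (.leaf 299532884)) (.node (.leaf 378587801) (.leaf 48174272))) (.node (.node (.leaf 224911532) (.leaf 51397625)) (.node (.leaf 351846450) (.leaf 169416438))))) (.node (.node (.node (.node (.leaf 140820530) (.leaf 47267888)) (.node (.leaf 196902960) (.leaf 17989680))) (.node (.node (.leaf 170449366) (.leaf 164352394)) (.node (.leaf 374836844) (.leaf 47256949)))) (.node (.node (.node (.leaf 235012145) (.leaf 13522733)) (.node (.leaf 142431489) (.leaf 18831037))) (.node (.node (.leaf 222643776) (.leaf 297126301)) (.node (.leaf 17825842) (.leaf 48119856)))))) (.node (.node (.node (.node (.node (.leaf 190103670) (.leaf 80386540)) (.node (.leaf 163725360) (.leaf 263749680))) (.node (.node (.leaf 144170861) (.leaf 246276436))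 (.node (.leaf 326077818) (.leaf 244089770)))) (.node (.node (.node (.leaf 228311089) (.leaf 84295728)) (.node (.leaf 111345714) (.leaf 110723120))) (.node (.node (.leaf 136413232) (.leaf 79567912)) (.node (.leaf 215826480) (.leaf 222632614))))) (.node (.node (.node (.node (.leaf 282558514) (.leaf 222642225)) (.node (.leaf 17858610) (.leaf 114871108))) (.node (.node (.leaf 39616561) (.leaf 110706736)) (.node (.leaf 170133776) (.leaf 217423342)))) (.node (.node (.node (.leaf 4358193) (.leaf 217546801)) (.node (.leaf 100422592) (.leaf 217448497))) (.node (.node (.leaf 374527086) (.leaf 114819120)) (.node (.leaf 132325156) (.leaf 83302297)))))))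

/-- A Schreier factor, part 205. -/
def facCodePart205 : Janko1.Tree ℕ := (.node (.node (.node (.node (.node (.node (.leaf 142164016) (.leaf 80347184)) (.node (.leaf 171819058) (.leaf 246211002))) (.node (.node (.leaf 194265138) (.leaf 244039728)) (.node (.leaf 315656913) (.leaf 84230192)))) (.node (.node (.node (.leaf 43548721) (.leaf 261849136)) (.node (.leaf 62428937) (.leaf 115933232))) (.node (.node (.leaf 9060401) (.leaf 84500772)) (.node (.leaf 96436273) (.leaf 111954126))))) (.node (.node (.node (.node (.leaf 239097124) (.leaf 80625712)) (.node (.leaf 292192304) (.leaf 263979056))) (.node (.node (.leaf 127997937) (.leaf 246501562)) (.node (.leaf 124764208) (.leaf 114507824)))) (.node (.node (.node (.leaf 288751666) (.leaf 110493744)) (.node (.leaf 95199174) (.leaf 79268020))) (.node (.node (.leaf 86476788) (.leaf 129040433)) (.node (.leaf 54542384) (.leaf 114524208)))))) (.node (.node (.node (.node (.node (.leaf 141279281) (.leaf 83034160)) (.node (.leaf 243908656) (.leaf 79287518))) (.node (.node (.leaf 296943664) (.leaf 128961152))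 (.node (.leaf 231931953) (.leaf 129030976)))) (.node (.node (.node (.leaf 234380670) (.leaf 261866617)) (.node (.leaf 20284749) (.leaf 244450952))) (.node (.node (.leaf 181420082) (.leaf 84564349)) (.node (.leaf 156943777) (.leaf 264011824))))) (.node (.node (.node (.node (.leaf 326615090) (.leaf 246571002)) (.node (.leaf 161549545) (.leaf 299817074))) (.node (.node (.leaf 94521658) (.leaf 281742649)) (.node (.leaf 62767804) (.leaf 48450368)))) (.node (.node (.node (.leaf 212059336) (.leaf 52600012)) (.node (.leaf 239388172) (.leaf 19111964))) (.node (.node (.leaf 292519984) (.leaf 297471177)) (.node (.leaf 238026801) (.leaf 279494704)))))))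

/-- A Schreier factor, part 206. -/
def facCodePart206 : Janko1.Tree ℕ := (.node (.node (.node (.node (.node (.node (.leaf 234405938) (.leaf 59376420)) (.node (.leaf 28459056) (.leaf 59432012))) (.node (.node (.leaf 124981333) (.leaf 47094701)) (.node (.leaf 156898776) (.leaf 59392049)))) (.node (.node (.node (.leaf 326582322) (.leaf 59458149)) (.node (.leaf 51658801) (.leaf 65634353))) (.node (.node (.leaf 54313008) (.leaf 47105852)) (.node (.leaf 18129096) (.leaf 13271460))))) (.node (.node (.node (.node (.leaf 88359342) (.leaf 51191430)) (.node (.leaf 243499369) (.leaf 17745200))) (.node (.node (.leaf 296697904) (.leaf 65650737)) (.node (.leaf 20040073) (.leaf 281821232)))) (.node (.node (.node (.leaf 153911344) (.leaf 88997937)) (.node (.leaf 134335416) (.leaf 126803705))) (.node (.node (.leaf 213668032) (.leaf 6114445)) (.node (.leaf 176919453) (.leaf 34426982)))))) (.node (.node (.node (.node (.node (.leaf 149766193) (.leaf 89014321)) (.node (.leaf 179273776) (.leaf 31228224))) (.node (.node (.leaf 159399984) (.leaf 255230000)) (.node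 (.leaf 301400114) (.leaf 252919856)))) (.node (.node (.node (.leaf 267943986) (.leaf 306282544)) (.node (.leaf 226639920) (.leaf 31244336))) (.node (.node (.leaf 42352689) (.leaf 252939093)) (.node (.leaf 7454769) (.leaf 132472293))))) (.node (.node (.node (.node (.leaf 62868326) (.leaf 35917921)) (.node (.leaf 29376561) (.leaf 306306210))) (.node (.node (.leaf 165691440) (.leaf 17470786)) (.node (.leaf 372506674) (.leaf 34472208)))) (.node (.node (.node (.leaf 37789876) (.leaf 95477364)) (.node (.leaf 2056337) (.leaf 157221137))) (.node (.node (.leaf 33002890) (.leaf 63750192)) (.node (.leaf 73318448) (.leaf 68517936)))))))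

/-- A Schreier factor, part 207. -/
def facCodePart207 : Janko1.Tree ℕ := (.node (.node (.node (.node (.node (.node (.leaf 65604528) (.leaf 100245482)) (.node (.leaf 292143154) (.leaf 290504752))) (.node (.node (.leaf 256647077) (.leaf 64587666)) (.node (.leaf 113983536) (.leaf 288112688)))) (.node (.node (.node (.leaf 173883441) (.leaf 290461196)) (.node (.leaf 146636849) (.leaf 64577932))) (.node (.node (.leaf 81283425) (.leaf 67649584)) (.node (.leaf 363568001) (.leaf 95437274))))) (.node (.node (.node (.node (.leaf 365797078) (.leaf 189071409)) (.node (.leaf 330154034) (.leaf 63705098))) (.node (.node (.leaf 206572909) (.leaf 210851654)) (.node (.leaf 232996913) (.leaf 63782960)))) (.node (.node (.node (.leaf 216268876) (.leaf 143917105)) (.node (.leaf 272486989) (.leaf 99354104))) (.node (.node (.leaf 276676656) (.leaf 67784606)) (.node (.leaf 258883632) (.leaf 210885196)))))) (.node (.node (.node (.node (.node (.leaf 189546546) (.leaf 290610804)) (.node (.leaf 133304284) (.leaf 272616557))) (.node (.node (.leaf 215416882) (.leaf 270357750))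 (.node (.leaf 162500638) (.leaf 100173596)))) (.node (.node (.node (.leaf 212074546) (.leaf 68620417)) (.node (.leaf 159158457) (.leaf 288153296))) (.node (.node (.leaf 121176113) (.leaf 64618544)) (.node (.leaf 280887344) (.leaf 68567088))))) (.node (.node (.node (.node (.leaf 262963248) (.leaf 288137428)) (.node (.leaf 6651954) (.leaf 136298545))) (.node (.node (.leaf 100941874) (.leaf 136314929)) (.node (.leaf 36819334) (.leaf 99287088)))) (.node (.node (.node (.leaf 41012548) (.leaf 202593029)) (.node (.leaf 134056061) (.leaf 68534320))) (.node (.node (.leaf 153606505) (.leaf 270409610)) (.node (.leaf 56679421) (.leaf 96362814)))))))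

/-- A Schreier factor, part 208. -/
def facCodePart208 : Janko1.Tree ℕ := (.node (.node (.node (.node (.node (.node (.leaf 23412785) (.leaf 272650337)) (.node (.leaf 52543537) (.leaf 290526449))) (.node (.node (.leaf 18962590) (.leaf 64608893)) (.node (.leaf 185581616) (.leaf 67719948)))) (.node (.node (.node (.leaf 178986745) (.leaf 99385396)) (.node (.leaf 375734322) (.leaf 195772465))) (.node (.node (.leaf 340549564) (.leaf 63741513)) (.node (.leaf 140513320) (.leaf 67670534))))) (.node (.node (.node (.node (.leaf 220285114) (.leaf 190746653)) (.node (.leaf 185188401) (.leaf 95453232))) (.node (.node (.leaf 158335025) (.leaf 150732849)) (.node (.leaf 161863682) (.leaf 190716277)))) (.node (.node (.node (.leaf 135366562) (.leaf 63720293)) (.node (.leaf 199196720) (.leaf 270386496))) (.node (.node (.leaf 302551676) (.leaf 290439216)) (.node (.leaf 221075801) (.leaf 64643485)))))) (.node (.node (.node (.node (.node (.leaf 204832817) (.leaf 96337968)) (.node (.leaf 231129137) (.leaf 272633564))) (.node (.node (.leaf 359415856) (.leaf 270368816))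 (.node (.leaf 328024112) (.leaf 288161840)))) (.node (.node (.node (.leaf 88100749) (.leaf 209163333)) (.node (.leaf 22954034) (.leaf 63766576))) (.node (.node (.leaf 26755122) (.leaf 142311878)) (.node (.leaf 55595168) (.leaf 99336240))))) (.node (.node (.node (.node (.leaf 76283953) (.leaf 204265878)) (.node (.leaf 354586006) (.leaf 137872092))) (.node (.node (.leaf 336928860) (.leaf 99309465)) (.node (.leaf 332431933) (.leaf 204292145)))) (.node (.node (.node (.leaf 205127730) (.leaf 290570288)) (.node (.leaf 201605170) (.leaf 96325793))) (.node (.node (.leaf 230719538) (.leaf 270336048)) (.node (.leaf 177750066) (.leaf 100122870)))))))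

/-- A Schreier factor, part 209. -/
def facCodePart209 : Janko1.Tree ℕ := (.node (.node (.node (.node (.node (.node (.leaf 103268401) (.leaf 306254969)) (.node (.leaf 258557970) (.leaf 255249721))) (.node (.node (.leaf 76044745) (.leaf 34344088)) (.node (.leaf 8994866) (.leaf 75355078)))) (.node (.node (.node (.leaf 72122418) (.leaf 26099761)) (.node (.leaf 106450590) (.leaf 126828592))) (.node (.node (.leaf 42991666) (.leaf 26067841)) (.node (.leaf 102727730) (.leaf 75333681))))) (.node (.node (.node (.node (.leaf 224886833) (.leaf 81105212)) (.node (.leaf 227917873) (.leaf 131350576))) (.node (.node (.leaf 281165872) (.leaf 126844976)) (.node (.leaf 263297332) (.leaf 31857342)))) (.node (.node (.node (.leaf 267911732) (.leaf 30017505)) (.node (.leaf 138084402) (.leaf 132546608))) (.node (.node (.leaf 213798373) (.leaf 128289720)) (.node (.leaf 164200498) (.leaf 31219210)))))) (.node (.node (.node (.node (.node (.leaf 7618608) (.leaf 128237616)) (.node (.leaf 106044406) (.leaf 255213616))) (.node (.node (.leaf 182230172) (.leaf 252903472))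 (.node (.leaf 165501553) (.leaf 35902677)))) (.node (.node (.node (.leaf 65920941) (.leaf 30048304)) (.node (.leaf 73646128) (.leaf 126819800))) (.node (.node (.leaf 366870578) (.leaf 8423913)) (.node (.leaf 331483318) (.leaf 131276996))))) (.node (.node (.node (.node (.leaf 329113332) (.leaf 91096634)) (.node (.leaf 25395248) (.leaf 96960561))) (.node (.node (.leaf 121851689) (.leaf 30064688)) (.node (.leaf 113643109) (.leaf 15406922)))) (.node (.node (.node (.leaf 60522545) (.leaf 15417393)) (.node (.leaf 48054321) (.leaf 34455600))) (.node (.node (.leaf 14221361) (.leaf 96983508)) (.node (.leaf 88957358) (.leaf 308363312)))))))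

/-- A Schreier factor, part 210. -/
def facCodePart210 : Janko1.Tree ℕ := (.node (.node (.node (.node (.node (.node (.leaf 57147440) (.leaf 31263374)) (.node (.leaf 81018928) (.leaf 128254000))) (.node (.node (.leaf 293257266) (.leaf 252959409)) (.node (.leaf 257671218) (.leaf 132481072)))) (.node (.node (.node (.leaf 295452722) (.leaf 35930160)) (.node (.leaf 259768370) (.leaf 306317553))) (.node (.node (.leaf 54075798) (.leaf 98992176)) (.node (.leaf 140197937) (.leaf 308461616))))) (.node (.node (.node (.node (.leaf 150011953) (.leaf 128322469)) (.node (.leaf 192643121) (.leaf 100384816))) (.node (.node (.leaf 213732804) (.leaf 306380848)) (.node (.leaf 202888677) (.leaf 288538672)))) (.node (.node (.node (.leaf 357356993) (.leaf 308494384)) (.node (.leaf 354961596) (.leaf 128335920))) (.node (.node (.leaf 172449436) (.leaf 132631948)) (.node (.leaf 176496988) (.leaf 100442240)))))) (.node (.node (.node (.node (.node (.leaf 354684849) (.leaf 131104817)) (.node (.leaf 350273584) (.leaf 95305776))) (.node (.node (.leaf 226708697) (.leaf 131432496))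 (.node (.leaf 93948197) (.leaf 131127021)))) (.node (.node (.node (.leaf 73334834) (.leaf 34758744)) (.node (.leaf 274350130) (.leaf 184209922))) (.node (.node (.leaf 41402418) (.leaf 184338741)) (.node (.leaf 289767737) (.leaf 252708580))))) (.node (.node (.node (.node (.leaf 69943345) (.leaf 255037532)) (.node (.leaf 97402929) (.leaf 31031344))) (.node (.node (.leaf 185566530) (.leaf 35571673)) (.node (.leaf 347930674) (.leaf 270467120)))) (.node (.node (.node (.leaf 49074264) (.leaf 272760880)) (.node (.leaf 159618928) (.leaf 254984845))) (.node (.node (.leaf 285524016) (.leaf 176149226)) (.node (.leaf 196231849) (.leaf 176128049)))))))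

/-- A Schreier factor, part 211. -/
def facCodePart211 : Janko1.Tree ℕ := (.node (.node (.node (.node (.node (.node (.leaf 199770161) (.leaf 30359556)) (.node (.leaf 136183858) (.leaf 63866985))) (.node (.node (.leaf 133008486) (.leaf 171006228)) (.node (.leaf 216210656) (.leaf 171039162)))) (.node (.node (.node (.leaf 212882510) (.leaf 67928112)) (.node (.leaf 180437041) (.leaf 31087281))) (.node (.node (.leaf 258773512) (.leaf 272716650)) (.node (.leaf 163692593) (.leaf 254951472))))) (.node (.node (.node (.node (.leaf 33625278) (.leaf 252690480)) (.node (.leaf 7569456) (.leaf 35636472))) (.node (.node (.leaf 1032242) (.leaf 64657060)) (.node (.leaf 239013613) (.leaf 31064112)))) (.node (.node (.node (.leaf 241357138) (.leaf 254907616)) (.node (.leaf 101761074) (.leaf 270434352))) (.node (.node (.leaf 89030704) (.leaf 252674096)) (.node (.leaf 81085078) (.leaf 35606714)))))) (.node (.node (.node (.node (.node (.leaf 267550768) (.leaf 63823313)) (.node (.leaf 58413984) (.leaf 30416758))) (.node (.node (.leaf 262897712) (.leaf 162545713)) (.node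 (.leaf 121258033) (.leaf 162562097)))) (.node (.node (.node (.leaf 109183025) (.leaf 67846192)) (.node (.leaf 356131005) (.leaf 68665392))) (.node (.node (.leaf 204326148) (.leaf 252729692)) (.node (.leaf 345686064) (.leaf 34734128))))) (.node (.node (.node (.node (.leaf 19120177) (.leaf 182550577)) (.node (.leaf 359317552) (.leaf 182601588))) (.node (.node (.leaf 213485610) (.leaf 182535886)) (.node (.leaf 87889592) (.leaf 182590473)))) (.node (.node (.node (.leaf 233422896) (.leaf 63799344)) (.node (.leaf 83924212) (.leaf 30399245))) (.node (.node (.leaf 91291698) (.leaf 34703998)) (.node (.leaf 284508210) (.leaf 177471537)))))))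

/-- A Schreier factor, part 212. -/
def facCodePart212 : Janko1.Tree ℕ := (.node (.node (.node (.node (.node (.node (.leaf 87326770) (.leaf 177537073)) (.node (.leaf 165904432) (.leaf 177456584))) (.node (.node (.leaf 60112946) (.leaf 177504305)) (.node (.leaf 55935026) (.leaf 30379321)))) (.node (.node (.node (.leaf 158515249) (.leaf 68632624)) (.node (.leaf 350568496) (.leaf 35560760))) (.node (.node (.leaf 135626801) (.leaf 270450736)) (.node (.leaf 220389637) (.leaf 272744781))))) (.node (.node (.node (.node (.leaf 187833265) (.leaf 31015952)) (.node (.leaf 22528050) (.leaf 64667696))) (.node (.node (.leaf 123655601) (.leaf 68747312)) (.node (.leaf 185879973) (.leaf 35653038)))) (.node (.node (.node (.leaf 341540912) (.leaf 63848496)) (.node (.leaf 221189170) (.leaf 169312305))) (.node (.node (.leaf 231178289) (.leaf 67911728)) (.node (.leaf 150914718) (.leaf 63839952)))))) (.node (.node (.node (.node (.node (.leaf 147423282) (.leaf 164249649)) (.node (.leaf 320079142) (.leaf 164316769))) (.node (.node (.leaf 228119002) (.leaf 67870596))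 (.node (.leaf 44269617) (.leaf 31047728)))) (.node (.node (.node (.leaf 332333104) (.leaf 272678960)) (.node (.leaf 64929841) (.leaf 254885936))) (.node (.node (.leaf 107462705) (.leaf 270417968)) (.node (.leaf 127729713) (.leaf 68714544))))) (.node (.node (.node (.node (.leaf 8634418) (.leaf 306331872)) (.node (.leaf 3604530) (.leaf 132682729))) (.node (.node (.leaf 240156722) (.leaf 100483120)) (.node (.leaf 107184142) (.leaf 128368688)))) (.node (.node (.node (.leaf 73391792) (.leaf 96668808)) (.node (.leaf 39796785) (.leaf 106597833))) (.node (.node (.leaf 131874865) (.leaf 106479665)) (.node (.leaf 33244506) (.leaf 106561585)))))))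

/-- A Schreier factor, part 213. -/
def facCodePart213 : Janko1.Tree ℕ := (.node (.node (.node (.node (.node (.node (.leaf 134634708) (.leaf 112578833)) (.node (.leaf 310771762) (.leaf 112640049))) (.node (.node (.leaf 137789490) (.leaf 131514416)) (.node (.leaf 214515762) (.leaf 126913248)))) (.node (.node (.node (.leaf 81385066) (.leaf 95329773)) (.node (.leaf 217841714) (.leaf 112558129))) (.node (.node (.leaf 263225392) (.leaf 306364464)) (.node (.leaf 172261425) (.leaf 288522793))))) (.node (.node (.node (.node (.leaf 175505457) (.leaf 100515888)) (.node (.leaf 224952369) (.leaf 128406073))) (.node (.node (.leaf 16973872) (.leaf 96682032)) (.node (.leaf 228004876) (.leaf 308428848)))) (.node (.node (.node (.leaf 25575472) (.leaf 290717744)) (.node (.leaf 346685490) (.leaf 128303152))) (.node (.node (.leaf 290064480) (.leaf 122585137)) (.node (.leaf 138887217) (.leaf 126877744)))))) (.node (.node (.node (.node (.node (.leaf 276726914) (.leaf 95273008)) (.node (.leaf 130367536) (.leaf 131399728))) (.node (.node (.leaf 208093233) (.leaf 99008560))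 (.node (.leaf 275497010) (.leaf 128745521)))) (.node (.node (.node (.leaf 71335986) (.leaf 128811057)) (.node (.leaf 75269858) (.leaf 95294756))) (.node (.node (.leaf 39206962) (.leaf 99041328)) (.node (.leaf 48827724) (.leaf 128769738))))) (.node (.node (.node (.node (.leaf 43324194) (.leaf 128832406)) (.node (.leaf 285220262) (.leaf 290783469))) (.node (.node (.leaf 14421577) (.leaf 128352304)) (.node (.leaf 280969264) (.leaf 96649264)))) (.node (.node (.node (.leaf 121946160) (.leaf 132644912)) (.node (.leaf 91591877) (.leaf 100450925))) (.node (.node (.leaf 113737776) (.leaf 306397232)) (.node (.leaf 79748434) (.leaf 288562442)))))))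

/-- A Schreier factor, part 214. -/
def facCodePart214 : Janko1.Tree ℕ := (.node (.node (.node (.node (.node (.node (.leaf 301552373) (.leaf 79380530)) (.node (.leaf 53495332) (.leaf 33882430))) (.node (.node (.leaf 57445854) (.leaf 95092786)) (.node (.leaf 152649776) (.leaf 131235890)))) (.node (.node (.node (.leaf 133251120) (.leaf 63032366)) (.node (.leaf 24985650) (.leaf 114688050))) (.node (.node (.leaf 376869982) (.leaf 35458808)) (.node (.leaf 230018662) (.leaf 99669974))))) (.node (.node (.node (.node (.leaf 207003100) (.leaf 273451184)) (.node (.leaf 176291889) (.leaf 308592688))) (.node (.node (.leaf 374883845) (.leaf 288900010)) (.node (.leaf 372621362) (.leaf 99718418)))) (.node (.node (.node (.leaf 172736562) (.leaf 253591600)) (.node (.leaf 149604082) (.leaf 127571485))) (.node (.node (.leaf 106107608) (.leaf 69552760)) (.node (.leaf 372293680) (.leaf 33914928)))))) (.node (.node (.node (.node (.node (.leaf 368088093) (.leaf 85116945)) (.node (.leaf 200038720) (.leaf 120668210))) (.node (.node (.leaf 193282096) (.leaf 63047600))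 (.node (.leaf 62196402) (.leaf 104750554)))) (.node (.node (.node (.leaf 294535218) (.leaf 29917232)) (.node (.leaf 36705781) (.leaf 94831449))) (.node (.node (.leaf 6166872) (.leaf 130482224)) (.node (.leaf 6840614) (.leaf 212222002))))) (.node (.node (.node (.node (.leaf 32071664) (.leaf 225615788)) (.node (.leaf 1605682) (.leaf 67131073))) (.node (.node (.leaf 294518832) (.leaf 290799664)) (.node (.leaf 37126193) (.leaf 271125068)))) (.node (.node (.node (.leaf 98205744) (.leaf 306438522)) (.node (.leaf 365888165) (.leaf 255640576))) (.node (.node (.leaf 223838257) (.leaf 29900848)) (.node (.leaf 303796069) (.leaf 94819212)))))))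

/-- A Schreier factor, part 215. -/
def facCodePart215 : Janko1.Tree ℕ := (.node (.node (.node (.node (.node (.node (.leaf 82480600) (.leaf 130454824)) (.node (.leaf 90456112) (.leaf 233996338))) (.node (.node (.leaf 173293617) (.leaf 67082097)) (.node (.leaf 212276568) (.leaf 130416688)))) (.node (.node (.node (.leaf 327630890) (.leaf 225533693)) (.node (.leaf 189399090) (.leaf 202328065))) (.node (.node (.leaf 190070833) (.leaf 271073462)) (.node (.leaf 66863152) (.leaf 95584304))))) (.node (.node (.node (.node (.leaf 42172464) (.leaf 290865200)) (.node (.leaf 256494904) (.leaf 67997144))) (.node (.node (.leaf 104579122) (.leaf 131571074)) (.node (.leaf 258514361) (.leaf 271065130)))) (.node (.node (.node (.leaf 70060866) (.leaf 255579253)) (.node (.leaf 74023145) (.leaf 30720048))) (.node (.node (.leaf 249921584) (.leaf 220708914)) (.node (.leaf 90030129) (.leaf 67179648)))))) (.node (.node (.node (.node (.node (.leaf 245694512) (.leaf 130387392)) (.node (.leaf 24805425) (.leaf 210681906))) (.node (.node (.leaf 373702706) (.leaf 30703664))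 (.node (.leaf 177573729) (.leaf 95623393)))) (.node (.node (.node (.leaf 132940238) (.leaf 131686514)) (.node (.leaf 152297649) (.leaf 306446384))) (.node (.node (.leaf 151427317) (.leaf 67977264)) (.node (.leaf 363699025) (.leaf 204202156))))) (.node (.node (.node (.node (.leaf 56038033) (.leaf 213929726)) (.node (.leaf 206740420) (.leaf 227393586))) (.node (.node (.leaf 302678066) (.leaf 195477554)) (.node (.leaf 237606037) (.leaf 30694070)))) (.node (.node (.node (.leaf 372595877) (.leaf 95608398)) (.node (.leaf 193658928) (.leaf 131652356))) (.node (.node (.leaf 184766278) (.leaf 271113156)) (.node (.leaf 200278064) (.leaf 306419820)))))))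

/-- A Schreier factor, part 216. -/
def facCodePart216 : Janko1.Tree ℕ := (.node (.node (.node (.node (.node (.node (.leaf 161203017) (.leaf 67950160)) (.node (.leaf 266715186) (.leaf 68042800))) (.node (.node (.leaf 122945586) (.leaf 131596336)) (.node (.leaf 269025330) (.leaf 271089712)))) (.node (.node (.node (.leaf 212615216) (.leaf 290881584)) (.node (.leaf 323667789) (.leaf 214058238))) (.node (.node (.leaf 141230234) (.leaf 204052622)) (.node (.leaf 180371504) (.leaf 94797872))))) (.node (.node (.node (.node (.leaf 230886100) (.leaf 219023890)) (.node (.leaf 340397594) (.leaf 67196048))) (.node (.node (.leaf 227494645) (.leaf 130406189)) (.node (.leaf 201441330) (.leaf 29933616)))) (.node (.node (.node (.leaf 219021360) (.leaf 195625010)) (.node (.leaf 318573937) (.leaf 306462768))) (.node (.node (.leaf 314359856) (.leaf 131547184)) (.node (.leaf 166678002) (.leaf 290832432)))))) (.node (.node (.node (.node (.node (.leaf 106659890) (.leaf 64438320)) (.node (.leaf 259637298) (.leaf 308512124))) (.node (.node (.leaf 102876973) (.leaf 273503506))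 (.node (.leaf 104661040) (.leaf 253607984)))) (.node (.node (.node (.leaf 71996050) (.leaf 288855585)) (.node (.leaf 41895286) (.leaf 77252460))) (.node (.node (.leaf 35110961) (.leaf 93143090)) (.node (.leaf 213942322) (.leaf 63012912))))) (.node (.node (.node (.node (.leaf 217154892) (.leaf 106612466)) (.node (.leaf 331304025) (.leaf 27743032))) (.node (.node (.leaf 187862812) (.leaf 27672625)) (.node (.leaf 191127920) (.leaf 87179314)))) (.node (.node (.node (.leaf 121045040) (.leaf 33849392)) (.node (.leaf 198729548) (.leaf 308543536))) (.node (.node (.leaf 250232880) (.leaf 273548189)) (.node (.leaf 201982001) (.leaf 127615024)))))))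

/-- A Schreier factor, part 217. -/
def facCodePart217 : Janko1.Tree ℕ := (.node (.node (.node (.node (.node (.node (.leaf 50204465) (.leaf 253624417)) (.node (.leaf 147947569) (.leaf 288882736))) (.node (.node (.leaf 164073853) (.leaf 35444844)) (.node (.leaf 364707890) (.leaf 99653233)))) (.node (.node (.node (.leaf 32309296) (.leaf 273432624)) (.node (.leaf 138238245) (.leaf 127549488))) (.node (.node (.leaf 6474870) (.leaf 64471088)) (.node (.leaf 134955058) (.leaf 308579096))))) (.node (.node (.node (.node (.leaf 218660913) (.leaf 2867249)) (.node (.leaf 98467888) (.leaf 128876594))) (.node (.node (.leaf 181600305) (.leaf 2932785)) (.node (.leaf 164823089) (.leaf 112754738)))) (.node (.node (.node (.leaf 293371954) (.leaf 71499826)) (.node (.leaf 42877209) (.leaf 87056425))) (.node (.node (.leaf 303534816) (.leaf 35492790)) (.node (.leaf 111690438) (.leaf 99736453)))))) (.node (.node (.node (.node (.node (.leaf 90196513) (.leaf 273486426)) (.node (.leaf 59899953) (.leaf 127582256))) (.node (.node (.leaf 82182192) (.leaf 64488912)) (.node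 (.leaf 47437584) (.leaf 308609072)))) (.node (.node (.node (.leaf 193478705) (.leaf 98975794)) (.node (.leaf 323715120) (.leaf 131092444))) (.node (.node (.leaf 203669553) (.leaf 63079998)) (.node (.leaf 310198320) (.leaf 29720624))))) (.node (.node (.node (.node (.leaf 363892009) (.leaf 83217429)) (.node (.leaf 229953977) (.leaf 114612137))) (.node (.node (.leaf 20173864) (.leaf 127635762)) (.node (.leaf 247889970) (.leaf 95895600)))) (.node (.node (.node (.leaf 74943965) (.leaf 273580080)) (.node (.leaf 372195376) (.leaf 127647792))) (.node (.node (.leaf 105988145) (.leaf 95913346)) (.node (.leaf 94753169) (.leaf 64540621)))))))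

/-- A Schreier factor, part 218. -/
def facCodePart218 : Janko1.Tree ℕ := (.node (.node (.node (.node (.node (.node (.leaf 314458160) (.leaf 30965808)) (.node (.leaf 126147890) (.leaf 291210753))) (.node (.node (.leaf 357457829) (.leaf 89050233)) (.node (.leaf 202752050) (.leaf 120594168)))) (.node (.node (.node (.leaf 355131682) (.leaf 63095457)) (.node (.leaf 199380168) (.leaf 29741620))) (.node (.node (.leaf 145637426) (.leaf 73613362)) (.node (.leaf 318735454) (.leaf 104645310))))) (.node (.node (.node (.node (.leaf 70680625) (.leaf 130681414)) (.node (.leaf 241385520) (.leaf 98648112))) (.node (.node (.leaf 102073593) (.leaf 212107314)) (.node (.leaf 307778722) (.leaf 67305520)))) (.node (.node (.node (.leaf 73465906) (.leaf 99483696)) (.node (.leaf 241139762) (.leaf 253444144))) (.node (.node (.leaf 891804) (.leaf 68108336)) (.node (.leaf 197099569) (.leaf 131785013)))))) (.node (.node (.node (.node (.node (.leaf 299237424) (.leaf 271188016)) (.node (.leaf 200425521) (.leaf 306481405))) (.node (.node (.leaf 250347568) (.leaf 288655038))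 (.node (.leaf 226902065) (.leaf 35111580)))) (.node (.node (.node (.leaf 345882674) (.leaf 130613296)) (.node (.leaf 132825138) (.leaf 193937458))) (.node (.node (.leaf 188956722) (.leaf 233914418)) (.node (.leaf 136085554) (.leaf 67256368))))) (.node (.node (.node (.node (.leaf 311853628) (.leaf 34144304)) (.node (.leaf 179896369) (.leaf 185733365))) (.node (.node (.leaf 66945774) (.leaf 67354672)) (.node (.leaf 74694704) (.leaf 98598960)))) (.node (.node (.node (.leaf 42273634) (.leaf 199065650)) (.node (.leaf 136757297) (.leaf 225493042))) (.node (.node (.leaf 216045924) (.leaf 306546301)) (.node (.leaf 32396216) (.leaf 288706481)))))))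

/-- A Schreier factor, part 219. -/
def facCodePart219 : Janko1.Tree ℕ := (.node (.node (.node (.node (.node (.node (.leaf 162979224) (.leaf 35247356)) (.node (.leaf 212729906) (.leaf 131743792))) (.node (.node (.leaf 6537529) (.leaf 99423160)) (.node (.leaf 104895249) (.leaf 271141806)))) (.node (.node (.node (.leaf 57820144) (.leaf 306534006)) (.node (.leaf 90079280) (.leaf 288686128))) (.node (.node (.leaf 58458406) (.leaf 68157488)) (.node (.leaf 11308316) (.leaf 253417981))))) (.node (.node (.node (.node (.leaf 101564466) (.leaf 194055292)) (.node (.leaf 24418608) (.leaf 220600937))) (.node (.node (.leaf 37276292) (.leaf 34226224)) (.node (.leaf 112672816) (.leaf 207306802)))) (.node (.node (.node (.leaf 88608556) (.leaf 131826670)) (.node (.leaf 309919792) (.leaf 99500080))) (.node (.node (.leaf 120101949) (.leaf 253460528)) (.node (.leaf 84705329) (.leaf 306495536)))))) (.node (.node (.node (.node (.node (.leaf 115956474) (.leaf 35143728)) (.node (.leaf 200982578) (.leaf 98632965))) (.node (.node (.leaf 147259442) (.leaf 187372484))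 (.node (.leaf 150773610) (.leaf 67289136)))) (.node (.node (.node (.leaf 211927089) (.leaf 130629680)) (.node (.leaf 237486129) (.leaf 218841821))) (.node (.node (.leaf 188520557) (.leaf 205938341)) (.node (.leaf 318898224) (.leaf 232292402))))) (.node (.node (.node (.node (.leaf 214981504) (.leaf 34168184)) (.node (.leaf 91423381) (.leaf 99450928))) (.node (.node (.leaf 26313218) (.leaf 271171632)) (.node (.leaf 22368181) (.leaf 68059184)))) (.node (.node (.node (.leaf 248897536) (.leaf 35094576)) (.node (.leaf 206897200) (.leaf 288718896))) (.node (.node (.leaf 180455373) (.leaf 68176554)) (.node (.leaf 160514096) (.leaf 271155248)))))))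

/-- A Schreier factor, part 220. -/
def facCodePart220 : Janko1.Tree ℕ := (.node (.node (.node (.node (.node (.node (.leaf 151044145) (.leaf 253427760)) (.node (.leaf 152748080) (.leaf 213991474))) (.node (.node (.leaf 232525372) (.leaf 67338288)) (.node (.leaf 123486258) (.leaf 130564144)))) (.node (.node (.node (.leaf 133267504) (.leaf 98582576)) (.node (.leaf 212538017) (.leaf 200675386))) (.node (.node (.leaf 60213196) (.leaf 227180594)) (.node (.leaf 43828297) (.leaf 192364594))))) (.node (.node (.node (.node (.leaf 9289777) (.leaf 34242608)) (.node (.leaf 166756400) (.leaf 205754749))) (.node (.node (.leaf 30807064) (.leaf 232162980)) (.node (.leaf 231391282) (.leaf 306514990)))) (.node (.node (.node (.leaf 145506352) (.leaf 288669744)) (.node (.leaf 178279161) (.leaf 35192880))) (.node (.node (.leaf 227934258) (.leaf 131711024)) (.node (.leaf 174966298) (.leaf 253394992)))))) (.node (.node (.node (.node (.node (.leaf 3982404) (.leaf 291100320)) (.node (.leaf 98107440) (.leaf 255919680))) (.node (.node (.leaf 34932066) (.leaf 95928368))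 (.node (.leaf 103317554) (.leaf 81133693)))) (.node (.node (.node (.leaf 32129072) (.leaf 112607421)) (.node (.leaf 171794789) (.leaf 63062064))) (.node (.node (.leaf 82395184) (.leaf 29705677)) (.node (.leaf 50266160) (.leaf 91275314))))) (.node (.node (.node (.node (.leaf 144408625) (.leaf 122699826)) (.node (.leaf 174948401) (.leaf 75366450))) (.node (.node (.leaf 90374192) (.leaf 106496050)) (.node (.leaf 58769456) (.leaf 60915761)))) (.node (.node (.node (.leaf 147734577) (.leaf 60964913)) (.node (.leaf 214405808) (.leaf 64520240))) (.node (.node (.leaf 112902192) (.leaf 308625456)) (.node (.leaf 217744340) (.leaf 273662000)))))))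

/-- A Schreier factor, part 221. -/
def facCodePart221 : Janko1.Tree ℕ := (.node (.node (.node (.node (.node (.node (.leaf 254821149) (.leaf 255885360)) (.node (.leaf 235232856) (.leaf 95881444))) (.node (.node (.leaf 241647664) (.leaf 30949424)) (.node (.leaf 218614789) (.leaf 291168177)))) (.node (.node (.node (.leaf 137633657) (.leaf 38273856)) (.node (.leaf 313032754) (.leaf 38354993))) (.node (.node (.leaf 92298249) (.leaf 91148798)) (.node (.leaf 111624241) (.leaf 106709042))))) (.node (.node (.node (.node (.leaf 275648093) (.leaf 273600993)) (.node (.leaf 3458086) (.leaf 127671984))) (.node (.node (.leaf 277679041) (.leaf 64553008)) (.node (.leaf 8488550) (.leaf 308690992)))) (.node (.node (.node (.leaf 343153538) (.leaf 110632873)) (.node (.leaf 361058429) (.leaf 29673441))) (.node (.node (.leaf 334290050) (.leaf 126781501)) (.node (.leaf 236525596) (.leaf 131225293)))))) (.node (.node (.node (.node (.node (.leaf 370203520) (.leaf 33898544)) (.node (.leaf 352616497) (.leaf 114660328))) (.node (.node (.leaf 46366770) (.leaf 95830064))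 (.node (.leaf 109908128) (.leaf 273468142)))) (.node (.node (.node (.leaf 80939752) (.leaf 99696688)) (.node (.leaf 278495282) (.leaf 306759108))) (.node (.node (.leaf 356433968) (.leaf 30908253)) (.node (.leaf 238633009) (.leaf 95846448))))) (.node (.node (.node (.node (.leaf 149461053) (.leaf 99745942)) (.node (.leaf 292405297) (.leaf 35504176))) (.node (.node (.leaf 97239089) (.leaf 101204018)) (.node (.leaf 129351729) (.leaf 29688933)))) (.node (.node (.node (.leaf 223789106) (.leaf 116539442)) (.node (.leaf 65228045) (.leaf 120651826))) (.node (.node (.leaf 316198148) (.leaf 33935972)) (.node (.leaf 352275865) (.leaf 104729053)))))))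

/-- A Schreier factor, part 222. -/
def facCodePart222 : Janko1.Tree ℕ := (.node (.node (.node (.node (.node (.node (.leaf 256118717) (.leaf 67166138)) (.node (.leaf 258129969) (.leaf 130514992))) (.node (.node (.leaf 1703984) (.leaf 185614386)) (.node (.leaf 294453297) (.leaf 199131186)))) (.node (.node (.node (.leaf 276661573) (.leaf 63310445)) (.node (.leaf 66732082) (.leaf 253362224))) (.node (.node (.leaf 130072626) (.leaf 131702976)) (.node (.leaf 27564680) (.leaf 127320112))))) (.node (.node (.node (.node (.leaf 27725069) (.leaf 255672368)) (.node (.leaf 289357874) (.leaf 64110640))) (.node (.node (.leaf 260578294) (.leaf 67960880)) (.node (.leaf 278315056) (.leaf 288589484)))) (.node (.node (.node (.leaf 313835569) (.leaf 253353884)) (.node (.leaf 109477936) (.leaf 127303728))) (.node (.node (.leaf 11864900) (.leaf 255655984)) (.node (.leaf 202719281) (.leaf 67100764)))))) (.node (.node (.node (.node (.node (.leaf 229351426) (.leaf 210829362)) (.node (.leaf 180247088) (.leaf 197250064))) (.node (.node (.leaf 233324594) (.leaf 130465840))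 (.node (.leaf 76922928) (.leaf 193871922)))) (.node (.node (.node (.leaf 322568242) (.leaf 207405106)) (.node (.leaf 309429732) (.leaf 185682036))) (.node (.node (.leaf 327504889) (.leaf 63347316)) (.node (.leaf 233340978) (.leaf 64159792))))) (.node (.node (.node (.node (.leaf 209272881) (.leaf 127270960)) (.node (.leaf 236013058) (.leaf 255614964))) (.node (.node (.leaf 322584626) (.leaf 253313072)) (.node (.leaf 358891570) (.leaf 131612841)))) (.node (.node (.node (.leaf 245006385) (.leaf 290848816)) (.node (.leaf 262537265) (.leaf 64143408))) (.node (.node (.leaf 278074274) (.leaf 255592201)) (.node (.leaf 281155014) (.leaf 131581088)))))))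

/-- A Schreier factor, part 223. -/
def facCodePart223 : Janko1.Tree ℕ := (.node (.node (.node (.node (.node (.node (.leaf 109199408) (.leaf 68026416)) (.node (.leaf 11534384) (.leaf 288621329))) (.node (.node (.leaf 85229860) (.leaf 126327302)) (.node (.leaf 116726957) (.leaf 207261994)))) (.node (.node (.node (.leaf 253745193) (.leaf 210655158)) (.node (.leaf 27591117) (.leaf 67207216))) (.node (.node (.leaf 19365937) (.leaf 197410866)) (.node (.leaf 347242544) (.leaf 288612585))))) (.node (.node (.node (.node (.leaf 250658865) (.leaf 253386304)) (.node (.leaf 216072240) (.leaf 127336496))) (.node (.node (.leaf 136698065) (.leaf 255688752)) (.node (.leaf 304713606) (.leaf 290820881)))) (.node (.node (.node (.leaf 286703665) (.leaf 64127024)) (.node (.leaf 79577137) (.leaf 67145866))) (.node (.node (.leaf 168820786) (.leaf 190447666)) (.node (.leaf 222074678) (.leaf 130504936)))))) (.node (.node (.node (.node (.node (.leaf 12943409) (.leaf 187269170)) (.node (.leaf 351264470) (.leaf 63298077))) (.node (.node (.leaf 334430256) (.leaf 67113256))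 (.node (.leaf 323813425) (.leaf 195461170)))) (.node (.node (.node (.leaf 223232048) (.leaf 126369840)) (.node (.leaf 143015984) (.leaf 192151602))) (.node (.node (.leaf 377487409) (.leaf 205839066)) (.node (.leaf 217170918) (.leaf 288571440))))) (.node (.node (.node (.node (.leaf 52527154) (.leaf 253329456)) (.node (.leaf 115936689) (.leaf 131668173))) (.node (.node (.leaf 12830234) (.leaf 127287344)) (.node (.leaf 281889692) (.leaf 64095768)))) (.node (.node (.node (.leaf 319062065) (.leaf 290902164)) (.node (.leaf 337559601) (.leaf 64176265))) (.node (.node (.leaf 347504688) (.leaf 255623216)) (.node (.leaf 356007985) (.leaf 131635534)))))))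

/-- A Schreier factor, part 224. -/
def facCodePart224 : Janko1.Tree ℕ := (.node (.node (.node (.node (.node (.node (.leaf 136937816) (.leaf 288644161)) (.node (.leaf 52559922) (.leaf 187433010))) (.node (.node (.leaf 197312561) (.leaf 126359741)) (.node (.leaf 281953493) (.leaf 130438361)))) (.node (.node (.node (.leaf 12812662) (.leaf 67242377)) (.node (.leaf 79020082) (.leaf 190603300))) (.node (.node (.leaf 272864056) (.leaf 63330081)) (.node (.leaf 334205041) (.leaf 126337285))))) (.node (.node (.node (.node (.leaf 351870838) (.leaf 205706762)) (.node (.leaf 308629285) (.leaf 208896101))) (.node (.node (.leaf 222937136) (.leaf 67227909)) (.node (.leaf 142688304) (.leaf 195608626)))) (.node (.node (.node (.leaf 315120804) (.leaf 253299457)) (.node (.leaf 38424637) (.leaf 68011109))) (.node (.node (.leaf 270565425) (.leaf 306724912)) (.node (.leaf 288833585) (.leaf 273530928)))))) (.node (.node (.node (.node (.node (.leaf 125272112) (.leaf 308527152)) (.node (.leaf 75371785) (.leaf 112664620))) (.node (.node (.leaf 288181740) (.leaf 108562684))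 (.node (.leaf 321798193) (.leaf 33865776)))) (.node (.node (.node (.leaf 339968049) (.leaf 122781746)) (.node (.leaf 264949777) (.leaf 106586533))) (.node (.node (.leaf 282872073) (.leaf 31526780)) (.node (.leaf 375767089) (.leaf 31539249))))) (.node (.node (.node (.node (.leaf 358566694) (.leaf 102811074)) (.node (.leaf 117559365) (.leaf 118772897))) (.node (.node (.leaf 20844370) (.leaf 29655088)) (.node (.leaf 237420594) (.leaf 306741296)))) (.node (.node (.node (.leaf 194215985) (.leaf 271408201)) (.node (.leaf 52845633) (.leaf 308565868))) (.node (.node (.leaf 28999728) (.leaf 99680304)) (.node (.leaf 380780593) (.leaf 35471408)))))))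

/-- A Schreier factor, part 225. -/
def facCodePart225 : Janko1.Tree ℕ := (.node (.node (.node (.node (.node (.node (.leaf 187662385) (.leaf 108675521)) (.node (.leaf 185139250) (.leaf 7929905))) (.node (.node (.leaf 237371442) (.leaf 124731442)) (.node (.leaf 61046832) (.leaf 128865081)))) (.node (.node (.node (.leaf 92667952) (.leaf 7913521)) (.node (.leaf 361988146) (.leaf 112743558))) (.node (.node (.leaf 114689224) (.leaf 30916656)) (.node (.leaf 64700466) (.leaf 95862832))))) (.node (.node (.node (.node (.leaf 262675450) (.leaf 79448166)) (.node (.leaf 108350349) (.leaf 95182473))) (.node (.node (.leaf 296420890) (.leaf 126685444)) (.node (.leaf 17023026) (.leaf 98959410)))) (.node (.node (.node (.leaf 195545849) (.leaf 83202942)) (.node (.leaf 78682965) (.leaf 114595288))) (.node (.node (.leaf 354615345) (.leaf 308683010)) (.node (.leaf 236601392) (.leaf 291193793)))))) (.node (.node (.node (.node (.node (.leaf 336419445) (.leaf 271433776)) (.node (.leaf 343054874) (.leaf 253659577))) (.node (.node (.leaf 332103730) (.leaf 308708505))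 (.node (.leaf 31703089) (.leaf 291233456)))) (.node (.node (.node (.leaf 36503601) (.leaf 273612848)) (.node (.leaf 140432484) (.leaf 271454001))) (.node (.node (.leaf 129089585) (.leaf 253673520)) (.node (.leaf 196968498) (.leaf 288964656))))) (.node (.node (.node (.node (.leaf 229594872) (.leaf 101144165)) (.node (.leaf 142640242) (.leaf 85247245))) (.node (.node (.leaf 292454629) (.leaf 116463608)) (.node (.leaf 338549985) (.leaf 120572622)))) (.node (.node (.node (.leaf 351928368) (.leaf 73599193)) (.node (.leaf 238799092) (.leaf 104631602))) (.node (.node (.leaf 27643312) (.leaf 34209958)) (.node (.leaf 307314738) (.leaf 98664496)))))))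

/-- A Schreier factor, part 226. -/
def facCodePart226 : Janko1.Tree ℕ := (.node (.node (.node (.node (.node (.node (.leaf 29179954) (.leaf 126451760)) (.node (.leaf 124649521) (.leaf 94936725))) (.node (.node (.leaf 73523302) (.leaf 63373360)) (.node (.leaf 98194810) (.leaf 29982768)))) (.node (.node (.node (.leaf 287379212) (.leaf 68124720)) (.node (.leaf 101777666) (.leaf 35165134))) (.node (.node (.leaf 269407533) (.leaf 127393112)) (.node (.leaf 342736946) (.leaf 68091952))))) (.node (.node (.node (.node (.leaf 84869168) (.leaf 131809328)) (.node (.leaf 229130289) (.leaf 95698992))) (.node (.node (.leaf 206750745) (.leaf 30736432)) (.node (.leaf 109567568) (.leaf 34182261)))) (.node (.node (.node (.leaf 20807728) (.leaf 130646064)) (.node (.leaf 368377905) (.leaf 98620342))) (.node (.node (.leaf 338890282) (.leaf 126418992)) (.node (.leaf 260505648) (.leaf 94884126)))))) (.node (.node (.node (.node (.node (.leaf 282935344) (.leaf 63356976)) (.node (.leaf 314146865) (.leaf 29950000))) (.node (.node (.leaf 92709142) (.leaf 63438896)) (.node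 (.leaf 342722938) (.leaf 126409528)))) (.node (.node (.node (.leaf 185978850) (.leaf 130596912)) (.node (.leaf 235765809) (.leaf 34291760))) (.node (.node (.leaf 28934192) (.leaf 64258096)) (.node (.leaf 102026681) (.leaf 95666224))))) (.node (.node (.node (.node (.leaf 287096880) (.leaf 131760176)) (.node (.leaf 309709857) (.leaf 99434544))) (.node (.node (.leaf 256319137) (.leaf 35265580)) (.node (.leaf 48545841) (.leaf 64241712)))) (.node (.node (.node (.leaf 307288265) (.leaf 30769200)) (.node (.leaf 19267633) (.leaf 95652777))) (.node (.node (.leaf 81217525) (.leaf 131732224)) (.node (.leaf 116441529) (.leaf 35226860)))))))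

/-- A Schreier factor, part 227. -/
def facCodePart227 : Janko1.Tree ℕ := (.node (.node (.node (.node (.node (.node (.leaf 20529200) (.leaf 63389744)) (.node (.leaf 282674608) (.leaf 130537364))) (.node (.node (.leaf 245244280) (.leaf 98566392)) (.node (.leaf 335429682) (.leaf 68141104)))) (.node (.node (.node (.leaf 12848800) (.leaf 35178477)) (.node (.leaf 59167532) (.leaf 131842633))) (.node (.node (.leaf 369066034) (.leaf 99516464)) (.node (.leaf 145168968) (.leaf 127406941))))) (.node (.node (.node (.node (.leaf 91443289) (.leaf 64214414)) (.node (.leaf 195248178) (.leaf 30752816))) (.node (.node (.leaf 216137776) (.leaf 34193456)) (.node (.leaf 261670672) (.leaf 126435792)))) (.node (.node (.node (.leaf 329465904) (.leaf 94912560)) (.node (.leaf 261586994) (.leaf 67272752))) (.node (.node (.leaf 114246448) (.leaf 130663428)) (.node (.leaf 216956977) (.leaf 94899972)))))) (.node (.node (.node (.node (.node (.leaf 84492338) (.leaf 29966384)) (.node (.leaf 348968622) (.leaf 68075568))) (.node (.node (.leaf 223313968) (.leaf 35127344)) (.node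 (.leaf 149638784) (.leaf 131792944)))) (.node (.node (.node (.leaf 377569329) (.leaf 99470946)) (.node (.leaf 330716886) (.leaf 127369264))) (.node (.node (.leaf 356778032) (.leaf 64192560)) (.node (.leaf 261554226) (.leaf 127352880))))) (.node (.node (.node (.node (.leaf 46645298) (.leaf 95683438)) (.node (.leaf 224035861) (.leaf 35275724))) (.node (.node (.leaf 156483632) (.leaf 63422512)) (.node (.leaf 353570106) (.leaf 126390262)))) (.node (.node (.node (.leaf 216418346) (.leaf 94863408)) (.node (.leaf 361127970) (.leaf 130586401))) (.node (.node (.leaf 329752857) (.leaf 34276712)) (.node (.leaf 67309969) (.leaf 63409966)))))))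

/-- A Schreier factor, part 228. -/
def facCodePart228 : Janko1.Tree ℕ := (.node (.node (.node (.node (.node (.node (.leaf 3052998) (.leaf 94853905)) (.node (.leaf 99326594) (.leaf 130551112))) (.node (.node (.leaf 145196564) (.leaf 67325628)) (.node (.leaf 102973489) (.leaf 34267492)))) (.node (.node (.node (.leaf 149340208) (.leaf 64233166)) (.node (.leaf 223051824) (.leaf 95633456))) (.node (.node (.leaf 255346230) (.leaf 99404174)) (.node (.leaf 334102576) (.leaf 35209264))))) (.node (.node (.node (.node (.leaf 63094833) (.leaf 306774064)) (.node (.leaf 306036786) (.leaf 288915504))) (.node (.node (.leaf 96239666) (.leaf 255950896)) (.node (.leaf 106498064) (.leaf 291110960)))) (.node (.node (.node (.leaf 306626609) (.leaf 128983165)) (.node (.leaf 277516329) (.leaf 81117234))) (.node (.node (.leaf 125355400) (.leaf 112590898)) (.node (.leaf 273833464) (.leaf 77339004)))))) (.node (.node (.node (.node (.node (.leaf 252887089) (.leaf 108496101)) (.node (.leaf 259178545) (.leaf 93241394))) (.node (.node (.leaf 76988464) (.leaf 91258930))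 (.node (.leaf 379460666) (.leaf 122683442)))) (.node (.node (.node (.leaf 155325922) (.leaf 87266793)) (.node (.leaf 220790833) (.leaf 118653341))) (.node (.node (.leaf 11780144) (.leaf 306806832)) (.node (.leaf 351633457) (.leaf 271501957))))) (.node (.node (.node (.node (.leaf 333352018) (.leaf 308664121)) (.node (.leaf 264847408) (.leaf 291143728))) (.node (.node (.leaf 60981296) (.leaf 291180241)) (.node (.leaf 155336754) (.leaf 271417806)))) (.node (.node (.node (.leaf 214122545) (.leaf 253640752)) (.node (.leaf 211140657) (.leaf 306827881))) (.node (.node (.leaf 211681330) (.leaf 288951405)) (.node (.leaf 346996785) (.leaf 77463602)))))))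

/-- A Schreier factor, part 229. -/
def facCodePart229 : Janko1.Tree ℕ := (.node (.node (.node (.node (.node (.node (.leaf 125648944) (.leaf 108609586)) (.node (.leaf 328736154) (.leaf 97013416))) (.node (.node (.leaf 269533232) (.leaf 128794674)) (.node (.leaf 306053170) (.leaf 118538290)))) (.node (.node (.node (.leaf 87179265) (.leaf 75517721)) (.node (.leaf 282037190) (.leaf 308728468))) (.node (.node (.leaf 117333437) (.leaf 291242032)) (.node (.leaf 11485232) (.leaf 273629232))))) (.node (.node (.node (.node (.leaf 302399537) (.leaf 255901744)) (.node (.leaf 263637301) (.leaf 271473286))) (.node (.node (.leaf 80789554) (.leaf 34390064)) (.node (.leaf 50222566) (.leaf 825449)))) (.node (.node (.node (.leaf 172625238) (.leaf 95191088)) (.node (.leaf 142032945) (.leaf 63471664))) (.node (.node (.leaf 110108738) (.leaf 85184853)) (.node (.leaf 336956417) (.leaf 288461298)))))) (.node (.node (.node (.node (.node (.leaf 209835317) (.leaf 35881008)) (.node (.leaf 354058289) (.leaf 255197232))) (.node (.node (.leaf 365609008) (.leaf 64864304))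 (.node (.leaf 314004614) (.leaf 288473136)))) (.node (.node (.node (.leaf 100571948) (.leaf 132448706)) (.node (.leaf 352174130) (.leaf 270630960))) (.node (.node (.leaf 66015006) (.leaf 96589409)) (.node (.leaf 1179697) (.leaf 64880688))))) (.node (.node (.node (.node (.leaf 203030576) (.leaf 34439216)) (.node (.leaf 289391934) (.leaf 13099130))) (.node (.node (.leaf 320438320) (.leaf 95223856)) (.node (.leaf 291885256) (.leaf 95111274)))) (.node (.node (.node (.leaf 251594306) (.leaf 30318616)) (.node (.leaf 327728) (.leaf 194068529))) (.node (.node (.leaf 61525346) (.leaf 154304561)) (.node (.leaf 6144049) (.leaf 194183217)))))))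

/-- A Schreier factor, part 230. -/
def facCodePart230 : Janko1.Tree ℕ := (.node (.node (.node (.node (.node (.node (.leaf 130203821) (.leaf 67705962)) (.node (.leaf 269943550) (.leaf 30999772))) (.node (.node (.leaf 70074416) (.leaf 290475509)) (.node (.leaf 238485552) (.leaf 252657712)))) (.node (.node (.node (.leaf 305056513) (.leaf 305993534)) (.node (.leaf 293880050) (.leaf 68504954))) (.node (.node (.leaf 10633264) (.leaf 290429808)) (.node (.leaf 358678578) (.leaf 128041008))))) (.node (.node (.node (.node (.leaf 183476630) (.leaf 100208405)) (.node (.leaf 233441082) (.leaf 68485168))) (.node (.node (.leaf 78105613) (.leaf 185819214)) (.node (.leaf 356700568) (.leaf 99369008)))) (.node (.node (.node (.leaf 367706161) (.leaf 67620712)) (.node (.leaf 124536366) (.leaf 207527961))) (.node (.node (.leaf 358694962) (.leaf 67764272)) (.node (.leaf 325179436) (.leaf 99319856)))))) (.node (.node (.node (.node (.node (.leaf 233455666) (.leaf 127179524)) (.node (.leaf 183435314) (.leaf 30343216))) (.node (.node (.leaf 310214705) (.leaf 68587356))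 (.node (.leaf 343792477) (.leaf 100139056)))) (.node (.node (.node (.leaf 363401896) (.leaf 128015714)) (.node (.leaf 238756017) (.leaf 290593041))) (.node (.node (.leaf 289283568) (.leaf 68550704)) (.node (.leaf 251625522) (.leaf 100109225))))) (.node (.node (.node (.node (.leaf 10261000) (.leaf 252608560)) (.node (.leaf 53395505) (.leaf 290559381))) (.node (.node (.leaf 245776433) (.leaf 67731504)) (.node (.leaf 77812161) (.leaf 133136433)))) (.node (.node (.node (.leaf 300662832) (.leaf 133185585)) (.node (.leaf 298434609) (.leaf 127144434))) (.node (.node (.leaf 282640433) (.leaf 30326832)) (.node (.leaf 242974768) (.leaf 199213105)))))))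

/-- A Schreier factor, part 231. -/
def facCodePart231 : Janko1.Tree ℕ := (.node (.node (.node (.node (.node (.node (.leaf 79044097) (.leaf 290494818)) (.node (.leaf 351162193) (.leaf 128057746))) (.node (.node (.leaf 172199246) (.leaf 100225424)) (.node (.leaf 26330684) (.leaf 306011545)))) (.node (.node (.node (.leaf 262225969) (.leaf 30294064)) (.node (.leaf 189383828) (.leaf 192420421))) (.node (.node (.leaf 182868534) (.leaf 152519553)) (.node (.leaf 311394352) (.leaf 152424580))))) (.node (.node (.node (.node (.leaf 304300081) (.leaf 67682352)) (.node (.leaf 244318333) (.leaf 30277680))) (.node (.node (.leaf 78906406) (.leaf 187600340)) (.node (.leaf 281739314) (.leaf 127189040)))) (.node (.node (.node (.leaf 164167729) (.leaf 147199485)) (.node (.leaf 154098117) (.leaf 187646417))) (.node (.node (.leaf 116015154) (.leaf 67633200)) (.node (.leaf 331333681) (.leaf 30982192)))))) (.node (.node (.node (.node (.node (.leaf 348391708) (.leaf 100191366)) (.node (.leaf 316294189) (.leaf 252641328))) (.node (.node (.leaf 17432626) (.leaf 306020400))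 (.node (.leaf 281804850) (.leaf 68605185)))) (.node (.node (.node (.leaf 244301874) (.leaf 100155440)) (.node (.leaf 78878937) (.leaf 252628090))) (.node (.node (.leaf 146948145) (.leaf 272597040)) (.node (.leaf 116047922) (.leaf 128024624))))) (.node (.node (.node (.node (.leaf 183140400) (.leaf 206019777)) (.node (.leaf 189694000) (.leaf 139249328))) (.node (.node (.leaf 130419028) (.leaf 200923844)) (.node (.leaf 351141938) (.leaf 67747888)))) (.node (.node (.node (.leaf 71221297) (.leaf 134725681)) (.node (.leaf 222183474) (.leaf 127156272))) (.node (.node (.leaf 374030384) (.leaf 272585162)) (.node (.leaf 316036542) (.leaf 290543830)))))))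

/-- A Schreier factor, part 232. -/
def facCodePart232 : Janko1.Tree ℕ := (.node (.node (.node (.node (.node (.node (.leaf 288014386) (.leaf 308314565)) (.node (.leaf 27679906) (.leaf 96603592))) (.node (.node (.leaf 30097746) (.leaf 132498297)) (.node (.leaf 68583474) (.leaf 288426894)))) (.node (.node (.node (.leaf 43040817) (.leaf 35818477)) (.node (.leaf 253464448) (.leaf 71469765))) (.node (.node (.leaf 93671272) (.leaf 95247816)) (.node (.leaf 306027930) (.leaf 22090610))))) (.node (.node (.node (.node (.leaf 276987953) (.leaf 71376389)) (.node (.leaf 251610764) (.leaf 34308144))) (.node (.node (.leaf 323993650) (.leaf 28065841)) (.node (.leaf 19628080) (.leaf 95256624)))) (.node (.node (.node (.leaf 150820866) (.leaf 131317808)) (.node (.leaf 237651292) (.leaf 28114993))) (.node (.node (.leaf 167723057) (.leaf 34357296)) (.node (.leaf 45765454) (.leaf 64838641)))))) (.node (.node (.node (.node (.node (.leaf 333939461) (.leaf 255279362)) (.node (.leaf 86016048) (.leaf 96632880))) (.node (.node (.leaf 296484912) (.leaf 132530224)) (.node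 (.leaf 375390257) (.leaf 270647344)))) (.node (.node (.node (.leaf 351076401) (.leaf 288442757)) (.node (.leaf 100847426) (.leaf 132431920))) (.node (.node (.leaf 161089384) (.leaf 96574025)) (.node (.leaf 157358926) (.leaf 64847920))))) (.node (.node (.node (.node (.leaf 329318449) (.leaf 87015473)) (.node (.leaf 94003592) (.leaf 34406448))) (.node (.node (.leaf 37371952) (.leaf 131252272)) (.node (.leaf 327008941) (.leaf 3473457)))) (.node (.node (.node (.leaf 346443178) (.leaf 3379008)) (.node (.leaf 251920569) (.leaf 95213465))) (.node (.node (.leaf 255115314) (.leaf 92930097)) (.node (.leaf 29704242) (.leaf 131287073)))))))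

/-- A Schreier factor, part 233. -/
def facCodePart233 : Janko1.Tree ℕ := (.node (.node (.node (.node (.node (.node (.leaf 288047154) (.leaf 10846257)) (.node (.leaf 128073778) (.leaf 93012017))) (.node (.node (.leaf 264159281) (.leaf 288489520)) (.node (.leaf 301827694) (.leaf 308346928)))) (.node (.node (.node (.leaf 352059441) (.leaf 36688397)) (.node (.leaf 189595696) (.leaf 116412930))) (.node (.node (.leaf 334762730) (.leaf 116496610)) (.node (.leaf 12124210) (.leaf 132585392))))) (.node (.node (.node (.node (.leaf 168935473) (.leaf 100368432)) (.node (.leaf 78813285) (.leaf 253022830))) (.node (.node (.leaf 260624676) (.leaf 64938234)) (.node (.leaf 44764172) (.leaf 31330677)))) (.node (.node (.node (.leaf 291787157) (.leaf 132595760)) (.node (.leaf 369705008) (.leaf 100401200))) (.node (.node (.leaf 316112944) (.leaf 270684076)) (.node (.leaf 274202673) (.leaf 253034544)))))) (.node (.node (.node (.node (.node (.leaf 195937413) (.leaf 308478000)) (.node (.leaf 256868401) (.leaf 290750512))) (.node (.node (.leaf 1228849) (.leaf 46891057))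 (.node (.leaf 69146986) (.leaf 30097456)))) (.node (.node (.node (.leaf 100778033) (.leaf 126615601)) (.node (.leaf 369934386) (.leaf 126697521))) (.node (.node (.leaf 305007897) (.leaf 180948410)) (.node (.leaf 276217905) (.leaf 95570094))))) (.node (.node (.node (.node (.leaf 241222846) (.leaf 220762725)) (.node (.leaf 93601840) (.leaf 67813424))) (.node (.node (.leaf 33071054) (.leaf 272780592)) (.node (.leaf 40828977) (.leaf 255003922)))) (.node (.node (.node (.leaf 98320434) (.leaf 96419888)) (.node (.leaf 271761458) (.leaf 306060557))) (.node (.node (.leaf 300892208) (.leaf 254968704)) (.node (.leaf 247627824) (.leaf 128106544)))))))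

/-- A Schreier factor, part 234. -/
def facCodePart234 : Janko1.Tree ℕ := (.node (.node (.node (.node (.node (.node (.leaf 54108438) (.leaf 288200298)) (.node (.leaf 332742705) (.leaf 35536944))) (.node (.node (.leaf 153388668) (.leaf 172661586)) (.node (.leaf 165888049) (.leaf 172755468)))) (.node (.node (.node (.leaf 139383966) (.leaf 127242369)) (.node (.leaf 206864434) (.leaf 95535152))) (.node (.node (.leaf 116244528) (.leaf 212467761)) (.node (.leaf 305269458) (.leaf 234079278))))) (.node (.node (.node (.node (.leaf 251969584) (.leaf 67895344)) (.node (.leaf 345578524) (.leaf 34768353))) (.node (.node (.leaf 309971541) (.leaf 167498640)) (.node (.leaf 328140313) (.leaf 95524922)))) (.node (.node (.node (.leaf 159318065) (.leaf 288251818)) (.node (.leaf 340803634) (.leaf 272695344))) (.node (.node (.leaf 124460190) (.leaf 254925477)) (.node (.leaf 27983920) (.leaf 128077912)))))) (.node (.node (.node (.node (.node (.leaf 298385457) (.leaf 306092608)) (.node (.leaf 300564528) (.leaf 288227376))) (.node (.node (.leaf 247316528) (.leaf 68698160))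 (.node (.leaf 53823906) (.leaf 254877252)))) (.node (.node (.node (.leaf 263132193) (.leaf 96387120)) (.node (.leaf 33046578) (.leaf 225640497))) (.node (.node (.leaf 48878806) (.leaf 225742285)) (.node (.leaf 271745074) (.leaf 159334449))))) (.node (.node (.node (.node (.leaf 65175602) (.leaf 159432753)) (.node (.leaf 307101746) (.leaf 95486746))) (.node (.node (.leaf 378113833) (.leaf 255018029)) (.node (.leaf 286170072) (.leaf 96442178)))) (.node (.node (.node (.leaf 209502256) (.leaf 68649008)) (.node (.leaf 141771712) (.leaf 179183813))) (.node (.node (.leaf 59490353) (.leaf 179257393)) (.node (.leaf 195428402) (.leaf 95551536)))))))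

/-- A Schreier factor, part 235. -/
def facCodePart235 : Janko1.Tree ℕ := (.node (.node (.node (.node (.node (.node (.leaf 333438612) (.leaf 219071482)) (.node (.leaf 90783793) (.leaf 219136049))) (.node (.node (.leaf 368889072) (.leaf 34717744)) (.node (.leaf 377001306) (.leaf 174260273)))) (.node (.node (.node (.leaf 374259760) (.leaf 174325809)) (.node (.leaf 320749616) (.leaf 127254576))) (.node (.node (.leaf 203194416) (.leaf 67799021)) (.node (.leaf 342376497) (.leaf 34684976))))) (.node (.node (.node (.node (.leaf 18941157) (.leaf 272730929)) (.node (.leaf 84688946) (.leaf 96403504))) (.node (.node (.leaf 263918094) (.leaf 306038704)) (.node (.leaf 50757682) (.leaf 288178224)))) (.node (.node (.node (.leaf 299810866) (.leaf 35524548)) (.node (.leaf 325502676) (.leaf 68734048))) (.node (.node (.leaf 355472317) (.leaf 35618864)) (.node (.leaf 183228253) (.leaf 254939098)))))) (.node (.node (.node (.node (.node (.leaf 209748016) (.leaf 128090160)) (.node (.leaf 18972722) (.leaf 232390705))) (.node (.node (.leaf 174016672) (.leaf 232473856))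 (.node (.leaf 147013681) (.leaf 67878960)))) (.node (.node (.node (.leaf 263950232) (.leaf 165876778)) (.node (.leaf 50807558) (.leaf 165973772))) (.node (.node (.leaf 114163762) (.leaf 127221808)) (.node (.leaf 320512309) (.leaf 67829808))))) (.node (.node (.node (.node (.leaf 255754289) (.leaf 160890929)) (.node (.leaf 202921773) (.leaf 127209797))) (.node (.node (.leaf 273481777) (.leaf 95507524)) (.node (.leaf 141754418) (.leaf 306069552)))) (.node (.node (.node (.leaf 67698737) (.leaf 288219246)) (.node (.leaf 34816266) (.leaf 68684346))) (.node (.node (.leaf 195395634) (.leaf 35586096)) (.node (.leaf 333398066) (.leaf 272662576)))))))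

/-- A Schreier factor, part 236. -/
def facCodePart236 : Janko1.Tree ℕ := (.node (.node (.node (.node (.node (.node (.leaf 98604365) (.leaf 254853168)) (.node (.leaf 368857212) (.leaf 96377350))) (.node (.node (.leaf 238591418) (.leaf 308385706)) (.node (.leaf 253198385) (.leaf 132663682)))) (.node (.node (.node (.leaf 37214186) (.leaf 100473466)) (.node (.leaf 30986708) (.leaf 63488857))) (.node (.node (.leaf 30195761) (.leaf 102729137)) (.node (.leaf 96370738) (.leaf 102793265))))) (.node (.node (.node (.node (.leaf 270485941) (.leaf 131465264)) (.node (.leaf 375345365) (.leaf 63508472))) (.node (.node (.leaf 243226705) (.leaf 108480512)) (.node (.leaf 322338865) (.leaf 131504182)))) (.node (.node (.node (.leaf 45829572) (.leaf 99079521)) (.node (.leaf 158236722) (.leaf 64897072))) (.node (.node (.leaf 177487921) (.leaf 31293488)) (.node (.leaf 108385625) (.leaf 100499504)))))) (.node (.node (.node (.node (.node (.leaf 10673388) (.leaf 270718006)) (.node (.leaf 379125810) (.leaf 253069417))) (.node (.node (.leaf 379764785) (.leaf 132570920))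 (.node (.leaf 238820436) (.leaf 270672212)))) (.node (.node (.node (.leaf 362402533) (.leaf 253001776)) (.node (.leaf 326900852) (.leaf 64920766))) (.node (.node (.leaf 37421104) (.leaf 31309872)) (.node (.leaf 70272549) (.leaf 308453722))))) (.node (.node (.node (.node (.leaf 344838694) (.leaf 290734128)) (.node (.leaf 158211872) (.leaf 131383845))) (.node (.node (.leaf 343932978) (.leaf 63520816)) (.node (.leaf 301747984) (.leaf 131416112)))) (.node (.node (.node (.leaf 296140848) (.leaf 99029453)) (.node (.leaf 248644197) (.leaf 63543862))) (.node (.node (.leaf 266535329) (.leaf 124684381)) (.node (.leaf 30998578) (.leaf 132612144)))))))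

/-- A Schreier factor, part 237. -/
def facCodePart237 : Janko1.Tree ℕ := (.node (.node (.node (.node (.node (.node (.leaf 55155888) (.leaf 100417584)) (.node (.leaf 270520158) (.leaf 64952578))) (.node (.node (.leaf 63063557) (.leaf 31342640)) (.node (.leaf 305941828) (.leaf 290774684)))) (.node (.node (.node (.leaf 313560288) (.leaf 19972145)) (.node (.leaf 331939889) (.leaf 51024690))) (.node (.node (.leaf 320307249) (.leaf 82903088)) (.node (.leaf 367935537) (.leaf 69517361))))) (.node (.node (.node (.node (.leaf 58824206) (.leaf 84415620)) (.node (.leaf 122028484) (.leaf 261734448))) (.node (.node (.leaf 247447602) (.leaf 246432033)) (.node (.leaf 249432904) (.leaf 14614576)))) (.node (.node (.node (.leaf 240861618) (.leaf 279453585)) (.node (.leaf 269795377) (.leaf 261750832))) (.node (.node (.leaf 276908829) (.leaf 111891021)) (.node (.leaf 305733381) (.leaf 14630960)))))) (.node (.node (.node (.node (.node (.leaf 287917885) (.leaf 299729281)) (.node (.leaf 177165096) (.leaf 30167896))) (.node (.node (.leaf 230260786) (.leaf 51074468))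 (.node (.leaf 173899826) (.leaf 82952240)))) (.node (.node (.node (.leaf 226918450) (.leaf 79396913)) (.node (.leaf 320585778) (.leaf 79298609))) (.node (.node (.leaf 238305329) (.leaf 13472668)) (.node (.leaf 253689905) (.leaf 207651497))))) (.node (.node (.node (.node (.leaf 307628316) (.leaf 140860461)) (.node (.leaf 42026385) (.leaf 14359774))) (.node (.node (.leaf 105644082) (.leaf 299401264)) (.node (.leaf 240574297) (.leaf 84172508)))) (.node (.node (.node (.leaf 238387250) (.leaf 279171164)) (.node (.leaf 273962118) (.leaf 52205936))) (.node (.node (.leaf 316185025) (.leaf 14341041)) (.node (.leaf 334479409) (.leaf 299352112)))))))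

/-- A Schreier factor, part 238. -/
def facCodePart238 : Janko1.Tree ℕ := (.node (.node (.node (.node (.node (.node (.leaf 336781644) (.leaf 111607856)) (.node (.leaf 370458673) (.leaf 84131888))) (.node (.node (.leaf 352862257) (.leaf 261491960)) (.node (.leaf 372490289) (.leaf 279150640)))) (.node (.node (.node (.leaf 163447958) (.leaf 199417270)) (.node (.leaf 216612914) (.leaf 110673968))) (.node (.node (.leaf 309084210) (.leaf 83230768)) (.node (.leaf 345294388) (.leaf 199478556))))) (.node (.node (.node (.node (.leaf 289423408) (.leaf 17956912)) (.node (.leaf 258296353) (.leaf 114739233))) (.node (.node (.leaf 96735064) (.leaf 80268536)) (.node (.leaf 40551201) (.leaf 48105758)))) (.node (.node (.node (.leaf 267128018) (.leaf 297091414)) (.node (.leaf 121307184) (.leaf 263672338))) (.node (.node (.leaf 24876641) (.leaf 80248880)) (.node (.leaf 113155618) (.leaf 48088125)))))) (.node (.node (.node (.node (.node (.leaf 88965169) (.leaf 145804902)) (.node (.leaf 77266993) (.leaf 114704432))) (.node (.node (.leaf 201620) (.leaf 186011152))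 (.node (.leaf 23707697) (.leaf 79462448)))) (.node (.node (.node (.leaf 5455922) (.leaf 47241308)) (.node (.leaf 10211866) (.leaf 145709688))) (.node (.node (.leaf 266264385) (.leaf 299417648)) (.node (.leaf 246300910) (.leaf 246145181))))) (.node (.node (.node (.node (.leaf 302569928) (.leaf 84181577)) (.node (.leaf 175587378) (.leaf 13451312))) (.node (.node (.leaf 228563297) (.leaf 139413685)) (.node (.leaf 231883146) (.leaf 110693489)))) (.node (.node (.node (.leaf 319282592) (.leaf 83285033)) (.node (.leaf 321781810) (.leaf 139329585))) (.node (.node (.leaf 343998513) (.leaf 134823985)) (.node (.leaf 310247473) (.leaf 201048113)))))))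

/-- A Schreier factor, part 239. -/
def facCodePart239 : Janko1.Tree ℕ := (.node (.node (.node (.node (.node (.node (.leaf 380223537) (.leaf 83251694)) (.node (.leaf 362577969) (.leaf 201130033))) (.node (.node (.leaf 60817458) (.leaf 14319664)) (.node (.leaf 124143576) (.leaf 299342888)))) (.node (.node (.node (.leaf 120078386) (.leaf 111591472)) (.node (.leaf 250648689) (.leaf 84116768))) (.node (.node (.leaf 248388892) (.leaf 279134256)) (.node (.leaf 341039296) (.leaf 297107504))))) (.node (.node (.node (.node (.leaf 358924336) (.leaf 18776112)) (.node (.leaf 327424802) (.leaf 115629892))) (.node (.node (.leaf 345362465) (.leaf 244009976)) (.node (.leaf 233081701) (.leaf 263703149)))) (.node (.node (.node (.leaf 153223216) (.leaf 80284689)) (.node (.leaf 193921073) (.leaf 152780849))) (.node (.node (.leaf 220676145) (.leaf 17943244)) (.node (.leaf 21725234) (.leaf 192512049)))))) (.node (.node (.node (.node (.node (.leaf 90868974) (.leaf 152686712)) (.node (.leaf 354025520) (.leaf 17891376))) (.node (.node (.leaf 226148400) (.leaf 187729856))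 (.node (.leaf 145997872) (.leaf 79478832)))) (.node (.node (.node (.leaf 139711388) (.leaf 147415302)) (.node (.leaf 75628593) (.leaf 297074736))) (.node (.node (.leaf 127260440) (.leaf 243994953)) (.node (.leaf 42586866) (.leaf 263657792))))) (.node (.node (.node (.node (.leaf 63144666) (.leaf 48079238)) (.node (.leaf 29942042) (.leaf 281449877))) (.node (.node (.leaf 258031664) (.leaf 48388080)) (.node (.leaf 271699914) (.leaf 263881082)))) (.node (.node (.node (.leaf 289234105) (.leaf 80566049)) (.node (.leaf 6914096) (.leaf 244351024))) (.node (.node (.leaf 129614388) (.leaf 297376968)) (.node (.leaf 32702512) (.leaf 19054640)))))))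

/-- A Schreier factor, part 240. -/
def facCodePart240 : Janko1.Tree ℕ := (.node (.node (.node (.node (.node (.node (.leaf 71401521) (.leaf 46989360)) (.node (.leaf 102912252) (.leaf 3498417))) (.node (.node (.leaf 131383345) (.leaf 79206130)) (.node (.leaf 7798834) (.leaf 114445893)))) (.node (.node (.node (.leaf 2790888) (.leaf 87169490)) (.node (.leaf 262717488) (.leaf 47005744))) (.node (.node (.leaf 280592432) (.leaf 10895409)) (.node (.leaf 267344297) (.leaf 93215984))))) (.node (.node (.node (.node (.leaf 16515120) (.leaf 93126705)) (.node (.leaf 25073358) (.leaf 17662110))) (.node (.node (.leaf 224467945) (.leaf 281690120)) (.node (.leaf 200908884) (.leaf 263929904)))) (.node (.node (.node (.leaf 227547161) (.leaf 80580464)) (.node (.leaf 48644144) (.leaf 115907025))) (.node (.node (.leaf 80776930) (.leaf 244387426)) (.node (.leaf 342147121) (.leaf 52515462)))))) (.node (.node (.node (.node (.node (.leaf 367069568) (.leaf 14604885)) (.node (.leaf 165232776) (.leaf 22167601))) (.node (.node (.leaf 161792050) (.leaf 82919472)) (.node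 (.leaf 312475698) (.leaf 71483441)))) (.node (.node (.node (.leaf 348671618) (.leaf 110436577)) (.node (.leaf 310237804) (.leaf 13221936))) (.node (.node (.leaf 346262602) (.leaf 22253296)) (.node (.leaf 268304433) (.leaf 51052953))))) (.node (.node (.node (.node (.leaf 286475392) (.leaf 110452737)) (.node (.leaf 297733113) (.leaf 13245117))) (.node (.node (.leaf 279923401) (.leaf 28262449)) (.node (.leaf 39878706) (.leaf 279461936)))) (.node (.node (.node (.leaf 107659314) (.leaf 261767216)) (.node (.leaf 277086258) (.leaf 299745328))) (.node (.node (.leaf 116285221) (.leaf 51118128)) (.node (.leaf 301009450) (.leaf 17719549)))))))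

/-- A Schreier factor, part 241. -/
def facCodePart241 : Janko1.Tree ℕ := (.node (.node (.node (.node (.node (.node (.leaf 120376478) (.leaf 101105713)) (.node (.leaf 86573106) (.leaf 79233072))) (.node (.node (.leaf 133766524) (.leaf 261816518)) (.node (.leaf 374505521) (.leaf 244416560)))) (.node (.node (.node (.leaf 359007889) (.leaf 111904212)) (.node (.leaf 345442057) (.leaf 299794480))) (.node (.node (.leaf 320487473) (.leaf 281722928)) (.node (.leaf 40747057) (.leaf 52625456))))) (.node (.node (.node (.node (.leaf 374311544) (.leaf 19136560)) (.node (.leaf 73793585) (.leaf 111919152))) (.node (.node (.leaf 203849778) (.leaf 80592944)) (.node (.leaf 93487153) (.leaf 299827248)))) (.node (.node (.node (.leaf 200312858) (.leaf 281772080)) (.node (.leaf 145901418) (.leaf 51167280))) (.node (.node (.leaf 294748825) (.leaf 17735505)) (.node (.leaf 354125425) (.leaf 110482934)))))) (.node (.node (.node (.node (.node (.leaf 36143153) (.leaf 167559217)) (.node (.leaf 65144208) (.leaf 110772272))) (.node (.node (.leaf 291675258) (.leaf 79612350))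 (.node (.leaf 69484593) (.leaf 234176561)))) (.node (.node (.node (.leaf 70598706) (.leaf 18028888)) (.node (.leaf 6815792) (.leaf 299499568))) (.node (.node (.leaf 32642942) (.leaf 111640882)) (.node (.leaf 307724337) (.leaf 80412720))))) (.node (.node (.node (.node (.leaf 276054064) (.leaf 261526372)) (.node (.leaf 289292336) (.leaf 52265008))) (.node (.node (.leaf 253886513) (.leaf 18865092)) (.node (.leaf 80838704) (.leaf 299466800)))) (.node (.node (.node (.leaf 363208565) (.leaf 281480760)) (.node (.leaf 186761266) (.leaf 244109082))) (.node (.node (.leaf 199360561) (.leaf 52232240)) (.node (.leaf 189912112) (.leaf 18816972)))))))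

/-- A Schreier factor, part 242. -/
def facCodePart242 : Janko1.Tree ℕ := (.node (.node (.node (.node (.node (.node (.leaf 370540593) (.leaf 159531057)) (.node (.leaf 280695546) (.leaf 225858902))) (.node (.node (.leaf 284934192) (.leaf 51333434)) (.node (.leaf 329515058) (.leaf 181108785)))) (.node (.node (.node (.leaf 327041074) (.leaf 114851888)) (.node (.leaf 40474746) (.leaf 83329072))) (.node (.node (.leaf 137173689) (.leaf 220872753)) (.node (.leaf 232409406) (.leaf 220912628))))) (.node (.node (.node (.node (.leaf 133946454) (.leaf 47317040)) (.node (.leaf 215650990) (.leaf 13572938))) (.node (.node (.leaf 129990704) (.leaf 279265328)) (.node (.leaf 348111542) (.leaf 115662856)))) (.node (.node (.node (.leaf 105485937) (.leaf 84246576)) (.node (.leaf 271910893) (.leaf 246239080))) (.node (.node (.leaf 329782205) (.leaf 48201776)) (.node (.leaf 258219356) (.leaf 14456249)))))) (.node (.node (.node (.node (.node (.leaf 256049202) (.leaf 297189424)) (.node (.leaf 23633104) (.leaf 279248944))) (.node (.node (.leaf 10108977) (.leaf 84216453))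 (.node (.leaf 120520753) (.leaf 246193056)))) (.node (.node (.node (.leaf 121391332) (.leaf 172871366)) (.node (.leaf 278565598) (.leaf 114794362))) (.node (.node (.leaf 267066162) (.leaf 212500529)) (.node (.leaf 267029372) (.leaf 212601665))))) (.node (.node (.node (.node (.leaf 50774065) (.leaf 111657008)) (.node (.leaf 87474225) (.leaf 261537840))) (.node (.node (.leaf 202063922) (.leaf 244129586)) (.node (.leaf 83394609) (.leaf 52289757)))) (.node (.node (.node (.leaf 205510077) (.leaf 18878798)) (.node (.leaf 300335153) (.leaf 79596284))) (.node (.node (.leaf 345097324) (.leaf 232538601)) (.node (.leaf 358670305) (.leaf 51383808)))))))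

/-- A Schreier factor, part 243. -/
def facCodePart243 : Janko1.Tree ℕ := (.node (.node (.node (.node (.node (.node (.leaf 246522084) (.leaf 18006866)) (.node (.leaf 122355762) (.leaf 160989233))) (.node (.node (.leaf 118308914) (.leaf 110759170)) (.node (.leaf 92438578) (.leaf 227606577)))) (.node (.node (.node (.leaf 187419361) (.leaf 51351282)) (.node (.leaf 380403761) (.leaf 281464824))) (.node (.node (.leaf 364678006) (.leaf 80402766)) (.node (.leaf 349995056) (.leaf 261505072))))) (.node (.node (.node (.node (.leaf 354357790) (.leaf 52221281)) (.node (.leaf 266132209) (.leaf 297205808))) (.node (.node (.leaf 268440245) (.leaf 115672654)) (.node (.leaf 59047986) (.leaf 84264438)))) (.node (.node (.node (.leaf 27415734) (.leaf 48218160)) (.node (.leaf 230473777) (.leaf 14470540))) (.node (.node (.leaf 233167932) (.leaf 179445446)) (.node (.leaf 358137905) (.leaf 114837284)))))) (.node (.node (.node (.node (.node (.leaf 213189718) (.leaf 83315309)) (.node (.leaf 339595956) (.leaf 47301416))) (.node (.node (.leaf 339791466) (.leaf 174410740))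 (.node (.leaf 337710386) (.leaf 114809909)))) (.node (.node (.node (.leaf 106823729) (.leaf 214253617)) (.node (.leaf 148459041) (.leaf 47284272))) (.node (.node (.leaf 126994797) (.leaf 13550941)) (.node (.leaf 277839921) (.leaf 297181574))))) (.node (.node (.node (.node (.leaf 219580753) (.leaf 84197424)) (.node (.leaf 259445121) (.leaf 263734065))) (.node (.node (.leaf 336350482) (.leaf 246176529)) (.node (.leaf 270699997) (.leaf 48185392)))) (.node (.node (.node (.leaf 259063858) (.leaf 48417560)) (.node (.leaf 2670941) (.leaf 14647344))) (.node (.node (.leaf 256983090) (.leaf 263965045)) (.node (.leaf 4849714) (.leaf 297435184)))))))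

/-- A Schreier factor, part 244. -/
def facCodePart244 : Janko1.Tree ℕ := (.node (.node (.node (.node (.node (.node (.leaf 130940977) (.leaf 279478320)) (.node (.leaf 129687062) (.leaf 118758093))) (.node (.node (.leaf 257033550) (.leaf 114494745)) (.node (.leaf 257987821) (.leaf 82990101)))) (.node (.node (.node (.leaf 271614000) (.leaf 38862897)) (.node (.leaf 330678322) (.leaf 124816868))) (.node (.node (.leaf 56819760) (.leaf 124896914)) (.node (.leaf 224297009) (.leaf 83001392))))) (.node (.node (.node (.node (.leaf 227413089) (.leaf 45096188)) (.node (.leaf 356063922) (.leaf 263995440))) (.node (.node (.leaf 121602096) (.leaf 246546480)) (.node (.leaf 262639170) (.leaf 84544413)))) (.node (.node (.node (.leaf 96784892) (.leaf 52578786)) (.node (.leaf 73089072) (.leaf 261806834))) (.node (.node (.leaf 364184394) (.leaf 244404940)) (.node (.leaf 190857265) (.leaf 299779777)))))) (.node (.node (.node (.node (.node (.leaf 188284978) (.leaf 281706544)) (.node (.leaf 367132721) (.leaf 102931973))) (.node (.node (.leaf 312941369) (.leaf 55296049))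 (.node (.leaf 58982449) (.leaf 51152324)))) (.node (.node (.node (.leaf 295043122) (.leaf 108625969)) (.node (.leaf 79314993) (.leaf 61407281))) (.node (.node (.leaf 76401898) (.leaf 61511094)) (.node (.leaf 24759874) (.leaf 52649485))))) (.node (.node (.node (.node (.leaf 304483684) (.leaf 19159060)) (.node (.leaf 16140474) (.leaf 261836730))) (.node (.node (.leaf 297819546) (.leaf 244433460)) (.node (.leaf 284725108) (.leaf 111941660)))) (.node (.node (.node (.leaf 250565236) (.leaf 80617354)) (.node (.leaf 244056113) (.leaf 281788464))) (.node (.node (.leaf 19733088) (.leaf 63658540)) (.node (.leaf 283000882) (.leaf 23695801)))))))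

/-- A Schreier factor, part 245. -/
def facCodePart245 : Janko1.Tree ℕ := (.node (.node (.node (.node (.node (.node (.leaf 284885042) (.leaf 46940210)) (.node (.leaf 139089860) (.leaf 50974844))) (.node (.node (.leaf 122192589) (.leaf 67535448)) (.node (.leaf 179768248) (.leaf 300342444)))) (.node (.node (.node (.leaf 314425393) (.leaf 47661104)) (.node (.leaf 321080276) (.leaf 264373340))) (.node (.node (.leaf 376307760) (.leaf 262148774)) (.node (.leaf 367484112) (.leaf 115474480))))) (.node (.node (.node (.node (.leaf 373968102) (.leaf 298163313)) (.node (.leaf 356761650) (.leaf 47677488))) (.node (.node (.leaf 124370993) (.leaf 111415892)) (.node (.leaf 230391858) (.leaf 115490864)))) (.node (.node (.node (.leaf 28393521) (.leaf 51773488)) (.node (.leaf 172905486) (.leaf 53363746))) (.node (.node (.leaf 252575793) (.leaf 36651058)) (.node (.leaf 371736624) (.leaf 40850506)))))) (.node (.node (.node (.node (.node (.leaf 294181806) (.leaf 36175922)) (.node (.leaf 305315889) (.leaf 57318778))) (.node (.node (.leaf 5639885) (.leaf 50618428))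 (.node (.leaf 276070450) (.leaf 162431026)))) (.node (.node (.node (.leaf 273842226) (.leaf 114311216)) (.node (.leaf 31932465) (.leaf 159186994))) (.node (.node (.leaf 41386032) (.leaf 51478576)) (.node (.leaf 239058993) (.leaf 297835421))))) (.node (.node (.node (.node (.leaf 291527358) (.leaf 264082133)) (.node (.leaf 307331120) (.leaf 300122160))) (.node (.node (.leaf 307134513) (.leaf 47349808)) (.node (.leaf 112461142) (.leaf 51448718)))) (.node (.node (.node (.leaf 345079981) (.leaf 297812016)) (.node (.leaf 120471600) (.leaf 261914672))) (.node (.node (.leaf 347357234) (.leaf 115163184)) (.node (.leaf 142278705) (.leaf 111181872)))))))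

/-- A Schreier factor, part 246. -/
def facCodePart246 : Janko1.Tree ℕ := (.node (.node (.node (.node (.node (.node (.leaf 145626377) (.leaf 300095412)) (.node (.leaf 49627184) (.leaf 50561072))) (.node (.node (.leaf 318914609) (.leaf 114245680)) (.node (.leaf 298828921) (.leaf 110329904)))) (.node (.node (.node (.leaf 369983537) (.leaf 180715570)) (.node (.leaf 311465497) (.leaf 145476633))) (.node (.node (.leaf 31770645) (.leaf 12799785)) (.node (.leaf 309248050) (.leaf 79036464))))) (.node (.node (.node (.node (.leaf 163315762) (.leaf 136020018)) (.node (.leaf 179388465) (.leaf 82837552))) (.node (.node (.leaf 160120882) (.leaf 17186864)) (.node (.leaf 162709553) (.leaf 148652082)))) (.node (.node (.node (.leaf 341629220) (.leaf 282166321)) (.node (.leaf 97880201) (.leaf 13680688))) (.node (.node (.leaf 330367025) (.leaf 79888432)) (.node (.leaf 358913360) (.leaf 244465712)))))) (.node (.node (.node (.node (.node (.leaf 254148656) (.leaf 83771440)) (.node (.leaf 240992514) (.leaf 279887920))) (.node (.node (.leaf 23761241) (.leaf 13664694))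 (.node (.leaf 14913244) (.leaf 246595632)))) (.node (.node (.node (.leaf 57302981) (.leaf 83745662)) (.node (.leaf 45109580) (.leaf 279871536))) (.node (.node (.leaf 89529048) (.leaf 12751297)) (.node (.leaf 260819904) (.leaf 79025770))))) (.node (.node (.node (.node (.leaf 81641520) (.leaf 140542002)) (.node (.leaf 355614770) (.leaf 297844784))) (.node (.node (.leaf 357892146) (.leaf 115212336)) (.node (.leaf 22380593) (.leaf 111201208)))) (.node (.node (.node (.leaf 232038342) (.leaf 47366192)) (.node (.leaf 159636150) (.leaf 50593840))) (.node (.node (.leaf 249152928) (.leaf 164171882)) (.node (.leaf 179527953) (.leaf 177307698)))))))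

/-- A Schreier factor, part 247. -/
def facCodePart247 : Janko1.Tree ℕ := (.node (.node (.node (.node (.node (.node (.leaf 302121009) (.leaf 174047282)) (.node (.leaf 299860017) (.leaf 46579760))) (.node (.node (.leaf 21895841) (.leaf 182375098)) (.node (.leaf 283893101) (.leaf 114262817)))) (.node (.node (.node (.leaf 157041829) (.leaf 110354617)) (.node (.leaf 124245096) (.leaf 178978866))) (.node (.node (.leaf 134504532) (.leaf 165790805)) (.node (.leaf 120215398) (.leaf 46567400))))) (.node (.node (.node (.node (.leaf 173211696) (.leaf 261898288)) (.node (.leaf 367771676) (.leaf 111165488))) (.node (.node (.leaf 379355185) (.leaf 264060976)) (.node (.leaf 364156076) (.leaf 47335200)))) (.node (.node (.node (.leaf 56509694) (.leaf 244487588)) (.node (.leaf 167444529) (.leaf 83787824))) (.node (.node (.leaf 60676133) (.leaf 18120752)) (.node (.leaf 333643825) (.leaf 147021062)))))) (.node (.node (.node (.node (.node (.leaf 206395441) (.leaf 12784629)) (.node (.leaf 186506421) (.leaf 134418796))) (.node (.node (.leaf 323125296) (.leaf 82821168))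 (.node (.leaf 357531697) (.leaf 17175092)))) (.node (.node (.node (.leaf 309612785) (.leaf 150536277)) (.node (.leaf 321896498) (.leaf 152289330))) (.node (.node (.leaf 75169841) (.leaf 12763184)) (.node (.leaf 178606558) (.leaf 141967410))))) (.node (.node (.node (.node (.leaf 43286577) (.leaf 82788400)) (.node (.leaf 260096841) (.leaf 282139806))) (.node (.node (.leaf 199540784) (.leaf 13656058)) (.node (.leaf 271351857) (.leaf 79872048)))) (.node (.node (.node (.leaf 192725040) (.leaf 246579248)) (.node (.leaf 318095408) (.leaf 83722288))) (.node (.node (.leaf 288309297) (.leaf 18077013)) (.node (.leaf 313726430) (.leaf 279855152)))))))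

/-- A Schreier factor, part 248. -/
def facCodePart248 : Janko1.Tree ℕ := (.node (.node (.node (.node (.node (.node (.leaf 5523078) (.leaf 280172464)) (.node (.leaf 239599752) (.leaf 244728200))) (.node (.node (.leaf 273273404) (.leaf 31866930)) (.node (.leaf 290300084) (.leaf 10931480)))) (.node (.node (.node (.leaf 15204400) (.leaf 8536114)) (.node (.leaf 312657109) (.leaf 26083378))) (.node (.node (.leaf 24035376) (.leaf 21548589)) (.node (.leaf 161677362) (.leaf 25739314))))) (.node (.node (.node (.node (.leaf 171250840) (.leaf 21987378)) (.node (.leaf 165068850) (.leaf 3506226))) (.node (.node (.leaf 245448752) (.leaf 246792240)) (.node (.leaf 355549233) (.leaf 282509360)))) (.node (.node (.node (.leaf 348540048) (.leaf 47644720)) (.node (.leaf 104402010) (.leaf 111396692))) (.node (.node (.leaf 137855025) (.leaf 51748209)) (.node (.leaf 66325990) (.leaf 61493349)))))) (.node (.node (.node (.node (.node (.leaf 366664425) (.leaf 65704710)) (.node (.leaf 274923570) (.leaf 31490097))) (.node (.node (.leaf 103907378) (.leaf 38338610)) (.node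 (.leaf 49365504) (.leaf 111431121)))) (.node (.node (.node (.leaf 304037937) (.leaf 115507248)) (.node (.leaf 298487209) (.leaf 51789950))) (.node (.node (.leaf 367444017) (.leaf 30244914)) (.node (.leaf 376261382) (.leaf 63588817))))) (.node (.node (.node (.node (.leaf 363380784) (.leaf 50453733)) (.node (.leaf 309690416) (.leaf 13164150))) (.node (.node (.leaf 314179633) (.leaf 17580082)) (.node (.leaf 206323760) (.leaf 12649088)))) (.node (.node (.node (.leaf 159991708) (.leaf 17039408)) (.node (.leaf 186403566) (.leaf 34562110))) (.node (.node (.leaf 339182622) (.leaf 67428553)) (.node (.leaf 139132977) (.leaf 47733264)))))))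

/-- A Schreier factor, part 249. -/
def facCodePart249 : Janko1.Tree ℕ := (.node (.node (.node (.node (.node (.node (.leaf 86753330) (.leaf 14008368)) (.node (.leaf 25428018) (.leaf 111460400))) (.node (.node (.leaf 148691536) (.leaf 264426856)) (.node (.leaf 90590442) (.leaf 246857776)))) (.node (.node (.node (.leaf 265027634) (.leaf 262209584)) (.node (.leaf 53067826) (.leaf 244777008))) (.node (.node (.leaf 116129842) (.leaf 115556400)) (.node (.leaf 300843058) (.leaf 84099120))))) (.node (.node (.node (.node (.leaf 56983602) (.leaf 18421292)) (.node (.leaf 371673934) (.leaf 282558609))) (.node (.node (.leaf 305219908) (.leaf 111482662)) (.node (.leaf 367509552) (.leaf 80183344)))) (.node (.node (.node (.leaf 252380472) (.leaf 51843573)) (.node (.leaf 166222400) (.leaf 18468421))) (.node (.node (.leaf 192666354) (.leaf 298206626)) (.node (.leaf 150061106) (.leaf 20037682)))))) (.node (.node (.node (.node (.node (.leaf 41128918) (.leaf 53287738)) (.node (.leaf 203948082) (.leaf 12533808))) (.node (.node (.leaf 146654862) (.leaf 5652534))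 (.node (.leaf 200441906) (.leaf 36569138)))) (.node (.node (.node (.leaf 73138225) (.leaf 40779826)) (.node (.leaf 336789554) (.leaf 19218482))) (.node (.node (.leaf 124607526) (.leaf 24383240)) (.node (.leaf 371867698) (.leaf 57212978))))) (.node (.node (.node (.node (.leaf 293835344) (.leaf 17270605)) (.node (.leaf 307077346) (.leaf 148589750))) (.node (.node (.leaf 307200477) (.leaf 175767761)) (.node (.leaf 253970253) (.leaf 114414690)))) (.node (.node (.node (.leaf 289325105) (.leaf 82886704)) (.node (.leaf 238846950) (.leaf 110411824))) (.node (.node (.leaf 41459965) (.leaf 79118384)) (.node (.leaf 73941040) (.leaf 145424434)))))))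

/-- A Schreier factor, part 250. -/
def facCodePart250 : Janko1.Tree ℕ := (.node (.node (.node (.node (.node (.node (.leaf 97472364) (.leaf 46678064)) (.node (.leaf 272236593) (.leaf 12845104))) (.node (.node (.leaf 7215464) (.leaf 51548238)) (.node (.leaf 901441) (.leaf 297883437)))) (.node (.node (.node (.leaf 74633154) (.leaf 279943126)) (.node (.leaf 2100109) (.leaf 261967957))) (.node (.node (.leaf 32018493) (.leaf 115263013)) (.node (.leaf 40441245) (.leaf 79987594))))) (.node (.node (.node (.node (.leaf 5623673) (.leaf 264147748)) (.node (.leaf 36212008) (.leaf 282268046))) (.node (.node (.leaf 291487794) (.leaf 13713456)) (.node (.leaf 298752781) (.leaf 18170844)))) (.node (.node (.node (.leaf 352256049) (.leaf 279920688)) (.node (.leaf 371851313) (.leaf 261947440))) (.node (.node (.leaf 81821744) (.leaf 264093744)) (.node (.leaf 318721641) (.leaf 300157304)))))) (.node (.node (.node (.node (.node (.leaf 58121196) (.leaf 282214448)) (.node (.leaf 89752576) (.leaf 47431728))) (.node (.node (.leaf 337264689) (.leaf 13697072)) (.node (.leaf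 169266190) (.leaf 17225481)))) (.node (.node (.node (.leaf 186859640) (.leaf 170885930)) (.node (.leaf 137019442) (.leaf 156958734))) (.node (.node (.leaf 190055904) (.leaf 82877184)) (.node (.leaf 327145994) (.leaf 110400489))))) (.node (.node (.node (.node (.leaf 112394288) (.leaf 79085616)) (.node (.leaf 15269936) (.leaf 154091570))) (.node (.node (.leaf 329588290) (.leaf 140674145)) (.node (.leaf 24084528) (.leaf 46645296)))) (.node (.node (.node (.leaf 365297714) (.leaf 12812336)) (.node (.leaf 301989937) (.leaf 51568414))) (.node (.node (.leaf 363123336) (.leaf 18226504)) (.node (.leaf 284049457) (.leaf 279957794)))))))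

/-- A Schreier factor, part 251. -/
def facCodePart251 : Janko1.Tree ℕ := (.node (.node (.node (.node (.node (.node (.leaf 375996464) (.leaf 244569789)) (.node (.leaf 322830384) (.leaf 115282457))) (.node (.node (.leaf 281903153) (.leaf 83886128)) (.node (.leaf 248911414) (.leaf 111280176)))) (.node (.node (.node (.leaf 186094805) (.leaf 264164820)) (.node (.leaf 179568688) (.leaf 282279984))) (.node (.node (.leaf 206165146) (.leaf 47448112)) (.node (.leaf 148291634) (.leaf 50696630))))) (.node (.node (.node (.node (.leaf 202179900) (.leaf 164108992)) (.node (.leaf 151835016) (.leaf 150470706))) (.node (.node (.leaf 17924145) (.leaf 114393136)) (.node (.leaf 86851633) (.leaf 79102000)))) (.node (.node (.node (.leaf 118412537) (.leaf 146948910)) (.node (.leaf 372949042) (.leaf 174014514))) (.node (.node (.leaf 82722865) (.leaf 160776242)) (.node (.leaf 375291954) (.leaf 12828720)))))) (.node (.node (.node (.node (.node (.leaf 379210378) (.leaf 50651528)) (.node (.leaf 367722544) (.leaf 17236016))) (.node (.node (.leaf 362078000) (.leaf 169140177))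 (.node (.leaf 364052529) (.leaf 155795506)))) (.node (.node (.node (.leaf 371933232) (.leaf 182288434)) (.node (.leaf 192938032) (.leaf 152247240))) (.node (.node (.leaf 173284837) (.leaf 165731140)) (.node (.leaf 199753776) (.leaf 46664654))))) (.node (.node (.node (.node (.leaf 27282032) (.leaf 51511344)) (.node (.leaf 184081385) (.leaf 18156714))) (.node (.node (.leaf 92586034) (.leaf 279904304)) (.node (.leaf 134578225) (.leaf 115250821)))) (.node (.node (.node (.leaf 88588338) (.leaf 83836976)) (.node (.leaf 268601405) (.leaf 111263792))) (.node (.node (.leaf 59148246) (.leaf 79970352)) (.node (.leaf 266241397) (.leaf 300138544)))))))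

/-- A Schreier factor, part 252. -/
def facCodePart252 : Janko1.Tree ℕ := (.node (.node (.node (.node (.node (.node (.leaf 55066674) (.leaf 282198064)) (.node (.leaf 118145074) (.leaf 47422573))) (.node (.node (.leaf 360202289) (.leaf 13995808)) (.node (.leaf 294125616) (.leaf 80174120)))) (.node (.node (.node (.leaf 348880945) (.leaf 246841392)) (.node (.leaf 324683557) (.leaf 262198020))) (.node (.node (.leaf 66388016) (.leaf 244766594)) (.node (.leaf 313282920) (.leaf 51813593))))) (.node (.node (.node (.node (.leaf 41700424) (.leaf 18406308)) (.node (.leaf 74254722) (.leaf 298188848))) (.node (.node (.leaf 331712662) (.leaf 280254765)) (.node (.leaf 191890866) (.leaf 12517424)))) (.node (.node (.node (.leaf 164233265) (.leaf 48464146)) (.node (.leaf 137921814) (.leaf 10837797))) (.node (.node (.leaf 188471046) (.leaf 44884038)) (.node (.leaf 330825778) (.leaf 15486470)))))) (.node (.node (.node (.node (.node (.leaf 128647216) (.leaf 48824370)) (.node (.leaf 31818106) (.leaf 10339690))) (.node (.node (.leaf 328404497) (.leaf 27607090)) (.node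 (.leaf 303979657) (.leaf 22208468)))) (.node (.node (.node (.leaf 297141886) (.leaf 7962674)) (.node (.leaf 245156014) (.leaf 3440690))) (.node (.node (.leaf 279355218) (.leaf 38682674)) (.node (.leaf 250986545) (.leaf 8470869))))) (.node (.node (.node (.node (.leaf 57807544) (.leaf 42802293)) (.node (.leaf 49463344) (.leaf 17055792))) (.node (.node (.leaf 261996593) (.leaf 59342898)) (.node (.leaf 4685874) (.leaf 300400688)))) (.node (.node (.node (.leaf 59244593) (.leaf 282579173)) (.node (.leaf 9524590) (.leaf 111493761))) (.node (.node (.leaf 46858289) (.leaf 80199728)) (.node (.leaf 13189169) (.leaf 264470576)))))))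

/-- A Schreier factor, part 253. -/
def facCodePart253 : Janko1.Tree ℕ := (.node (.node (.node (.node (.node (.node (.leaf 76562482) (.leaf 246890544)) (.node (.leaf 257097778) (.leaf 262233797))) (.node (.node (.leaf 23826996) (.leaf 115592714)) (.node (.leaf 259211314) (.leaf 51855408)))) (.node (.node (.node (.leaf 245023217) (.leaf 53542960)) (.node (.leaf 280413206) (.leaf 140920697))) (.node (.node (.leaf 10077601) (.leaf 207634481)) (.node (.leaf 108532701) (.leaf 89199625))))) (.node (.node (.node (.node (.leaf 77434614) (.leaf 207716401)) (.node (.leaf 74177186) (.leaf 21087552))) (.node (.node (.leaf 41533488) (.leaf 302727216)) (.node (.leaf 303513649) (.leaf 86212656)))) (.node (.node (.node (.leaf 260211353) (.leaf 121684016)) (.node (.leaf 242958385) (.leaf 247267376))) (.node (.node (.leaf 253762494) (.leaf 282610260)) (.node (.leaf 15030650) (.leaf 21053488)))))) (.node (.node (.node (.node (.node (.leaf 112301698) (.leaf 302714680)) (.node (.leaf 315998258) (.leaf 267173936))) (.node (.node (.leaf 166924657) (.leaf 121667632))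 (.node (.leaf 219940824) (.leaf 247236968)))) (.node (.node (.node (.leaf 206110769) (.leaf 58477128)) (.node (.leaf 348247985) (.leaf 53526813))) (.node (.node (.leaf 366125372) (.leaf 133257054)) (.node (.leaf 89997360) (.leaf 199368776))))) (.node (.node (.node (.node (.leaf 323141681) (.leaf 24543280)) (.node (.leaf 316014642) (.leaf 154501169))) (.node (.node (.leaf 352031177) (.leaf 24578950)) (.node (.leaf 5750832) (.leaf 89178160)))) (.node (.node (.node (.leaf 104251440) (.leaf 194330673)) (.node (.leaf 225762297) (.leaf 194281944))) (.node (.node (.leaf 166887474) (.leaf 53599674)) (.node (.leaf 219927508) (.leaf 154468401)))))))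

/-- A Schreier factor, part 254. -/
def facCodePart254 : Janko1.Tree ℕ := (.node (.node (.node (.node (.node (.node (.leaf 98009869) (.leaf 282643104)) (.node (.leaf 294060080) (.leaf 302776368))) (.node (.node (.leaf 10043442) (.leaf 282624048)) (.node (.leaf 65118470) (.leaf 58511153)))) (.node (.node (.node (.leaf 46170162) (.leaf 267157552)) (.node (.leaf 109592626) (.leaf 86202500))) (.node (.node (.leaf 302841904) (.leaf 116736048)) (.node (.leaf 324175633) (.leaf 54345776))))) (.node (.node (.node (.node (.leaf 360110025) (.leaf 284622896)) (.node (.leaf 8110129) (.leaf 249348144))) (.node (.node (.leaf 42696753) (.leaf 117710542)) (.node (.leaf 127123505) (.leaf 90096905)))) (.node (.node (.node (.leaf 95567921) (.leaf 264732720)) (.node (.leaf 237846578) (.leaf 25280560))) (.node (.node (.leaf 186351664) (.leaf 20201520)) (.node (.leaf 277907070) (.leaf 206110884)))))) (.node (.node (.node (.node (.node (.leaf 270648620) (.leaf 120870713)) (.node (.leaf 322535624) (.leaf 139378737))) (.node (.node (.leaf 34013234) (.leaf 20185136))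 (.node (.leaf 194052145) (.leaf 57524272)))) (.node (.node (.node (.leaf 332906545) (.leaf 300417193)) (.node (.leaf 253050930) (.leaf 300469729))) (.node (.node (.leaf 288476652) (.leaf 25321269)) (.node (.leaf 33951712) (.leaf 90052098))))) (.node (.node (.node (.node (.leaf 213925937) (.leaf 249335821)) (.node (.leaf 68927538) (.leaf 54362160))) (.node (.node (.leaf 206553136) (.leaf 152656912)) (.node (.leaf 179884574) (.leaf 57573424)))) (.node (.node (.node (.leaf 362496049) (.leaf 120832048)) (.node (.leaf 328289332) (.leaf 192593969))) (.node (.node (.leaf 309444656) (.leaf 20254306)) (.node (.leaf 363321692) (.leaf 152764465)))))))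

/-- A Schreier factor, part 255. -/
def facCodePart255 : Janko1.Tree ℕ := (.node (.node (.node (.node (.node (.node (.leaf 17191213) (.leaf 147343562)) (.node (.leaf 324210144) (.leaf 120799280))) (.node (.node (.leaf 360140170) (.leaf 187695746)) (.node (.leaf 185472586) (.leaf 187751152)))) (.node (.node (.node (.leaf 237832029) (.leaf 85426224)) (.node (.leaf 118916192) (.leaf 20237084))) (.node (.node (.leaf 282446225) (.leaf 300457648)) (.node (.leaf 300406313) (.leaf 25299794))))) (.node (.node (.node (.node (.leaf 192844980) (.leaf 90032864)) (.node (.leaf 248552860) (.leaf 284639280))) (.node (.node (.leaf 243974194) (.leaf 267386928)) (.node (.leaf 122609080) (.leaf 282860524)))) (.node (.node (.node (.leaf 91212300) (.leaf 58818608)) (.node (.leaf 293781552) (.leaf 87212081))) (.node (.node (.leaf 314890113) (.leaf 53264432)) (.node (.leaf 350851426) (.leaf 10993713)))))) (.node (.node (.node (.node (.node (.leaf 23943466) (.leaf 93114205)) (.node (.leaf 120356912) (.leaf 116441136))) (.node (.node (.leaf 190955569) (.leaf 93182485))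 (.node (.leaf 172118328) (.leaf 11042865)))) (.node (.node (.node (.leaf 225099826) (.leaf 24322354)) (.node (.leaf 49741872) (.leaf 302923824))) (.node (.node (.leaf 330973233) (.leaf 122012548)) (.node (.leaf 312885297) (.leaf 247582861))))) (.node (.node (.node (.node (.leaf 249479216) (.leaf 282869808)) (.node (.leaf 303057021) (.leaf 58855332))) (.node (.node (.leaf 128548912) (.leaf 58875080)) (.node (.leaf 225132594) (.leaf 86458416)))) (.node (.node (.node (.leaf 197697752) (.leaf 302940208)) (.node (.leaf 356171825) (.leaf 22183985))) (.node (.node (.leaf 373737569) (.leaf 24336261)) (.node (.leaf 74432560) (.leaf 88916016)))))))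

/-- A Schreier factor, part 256. -/
def facCodePart256 : Janko1.Tree ℕ := (.node (.node (.node (.node (.node (.node (.leaf 41765776) (.leaf 71556750)) (.node (.leaf 307429634) (.leaf 116398689))) (.node (.node (.leaf 335462449) (.leaf 53297200)) (.node (.leaf 317327084) (.leaf 22134833)))) (.node (.node (.node (.leaf 52306066) (.leaf 53313584)) (.node (.leaf 275480625) (.leaf 121978928))) (.node (.node (.leaf 272602785) (.leaf 267373198)) (.node (.leaf 255082545) (.leaf 86474800))))) (.node (.node (.node (.node (.leaf 244947610) (.leaf 21290009)) (.node (.leaf 298343105) (.leaf 302981264))) (.node (.node (.leaf 240619642) (.leaf 53627332)) (.node (.leaf 242876465) (.leaf 20283440)))) (.node (.node (.node (.leaf 307022293) (.leaf 85498764)) (.node (.leaf 97622205) (.leaf 167643994))) (.node (.node (.leaf 303273816) (.leaf 167730586)) (.node (.leaf 12091442) (.leaf 249397296)))))) (.node (.node (.node (.node (.node (.leaf 5440538) (.leaf 121765936)) (.node (.leaf 262440042) (.leaf 90210816))) (.node (.node (.leaf 23806001) (.leaf 25378864)) (.node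 (.leaf 298549296) (.leaf 284672048)))) (.node (.node (.node (.leaf 249577520) (.leaf 267239472)) (.node (.leaf 323061878) (.leaf 249380912))) (.node (.node (.leaf 365936689) (.leaf 90180005)) (.node (.leaf 359579697) (.leaf 58556464))))) (.node (.node (.node (.node (.leaf 58277936) (.leaf 25346096)) (.node (.leaf 196599644) (.leaf 116817968))) (.node (.node (.leaf 112214064) (.leaf 225891509)) (.node (.leaf 23969840) (.leaf 159481905)))) (.node (.node (.node (.leaf 254086872) (.leaf 181097801)) (.node (.leaf 318295005) (.leaf 181174321))) (.node (.node (.leaf 355057713) (.leaf 116785200)) (.node (.leaf 74350640) (.leaf 53690416)))))))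

/-- A Schreier factor, part 257. -/
def facCodePart257 : Janko1.Tree ℕ := (.node (.node (.node (.node (.node (.node (.leaf 196625858) (.leaf 58629500)) (.node (.leaf 140165170) (.leaf 90144816))) (.node (.node (.leaf 271794225) (.leaf 58589232)) (.node (.leaf 89620528) (.leaf 267230530)))) (.node (.node (.node (.leaf 12058674) (.leaf 172818481)) (.node (.leaf 82105766) (.leaf 212516913))) (.node (.node (.leaf 14782533) (.leaf 53659276)) (.node (.leaf 309215280) (.leaf 54394928))))) (.node (.node (.node (.node (.leaf 253067313) (.leaf 21102640)) (.node (.leaf 159842352) (.leaf 247349296))) (.node (.node (.leaf 295714865) (.leaf 282656816)) (.node (.leaf 158944801) (.leaf 232611952)))) (.node (.node (.node (.leaf 342097970) (.leaf 89243696)) (.node (.leaf 339761716) (.leaf 161026796))) (.node (.node (.leaf 314916913) (.leaf 227541041)) (.node (.leaf 204046385) (.leaf 54378544)))))) (.node (.node (.node (.node (.node (.leaf 220594225) (.leaf 86278192)) (.node (.leaf 130842674) (.leaf 247332912))) (.node (.node (.leaf 323030810) (.leaf 300536946))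 (.node (.leaf 310367565) (.leaf 282689584)))) (.node (.node (.node (.leaf 344129585) (.leaf 264781872)) (.node (.leaf 346887533) (.leaf 117719088))) (.node (.node (.leaf 179964190) (.leaf 86265325)) (.node (.leaf 96507188) (.leaf 57638960))))) (.node (.node (.node (.node (.leaf 213994088) (.leaf 24625200)) (.node (.leaf 210682190) (.leaf 120898024))) (.node (.node (.leaf 63166190) (.leaf 219272745)) (.node (.leaf 308314162) (.leaf 179355697)))) (.node (.node (.node (.leaf 130800884) (.leaf 179421233)) (.node (.leaf 264015220) (.leaf 57610800))) (.node (.node (.leaf 199678713) (.leaf 214209869)) (.node (.leaf 300220465) (.leaf 214286385)))))))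

/-- A Schreier factor, part 258. -/
def facCodePart258 : Janko1.Tree ℕ := (.node (.node (.node (.node (.node (.node (.leaf 284576017) (.leaf 174360760)) (.node (.leaf 119001570) (.leaf 247290698))) (.node (.node (.leaf 17449009) (.leaf 86247732)) (.node (.leaf 54975446) (.leaf 54427696)))) (.node (.node (.node (.leaf 293699632) (.leaf 284885814)) (.node (.leaf 74106288) (.leaf 122093616))) (.node (.node (.leaf 297664561) (.leaf 90461116)) (.node (.leaf 286383062) (.leaf 58884144))))) (.node (.node (.node (.node (.leaf 66249117) (.leaf 25612769)) (.node (.leaf 79167537) (.leaf 53329968))) (.node (.node (.leaf 18825266) (.leaf 19988528)) (.node (.leaf 80314418) (.leaf 116506672)))) (.node (.node (.node (.leaf 122658062) (.leaf 85199658)) (.node (.leaf 12648497) (.leaf 118669361))) (.node (.node (.leaf 31492692) (.leaf 38818237)) (.node (.leaf 261442030) (.leaf 38896578)))))) (.node (.node (.node (.node (.node (.leaf 312819761) (.leaf 20021296)) (.node (.leaf 302972976) (.leaf 85229616))) (.node (.node (.leaf 49830080) (.leaf 124846837)) (.node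 (.leaf 89903814) (.leaf 45062397)))) (.node (.node (.node (.leaf 194887730) (.leaf 302994124)) (.node (.leaf 217432113) (.leaf 284909468))) (.node (.node (.leaf 332939314) (.leaf 90490800)) (.node (.leaf 120278876) (.leaf 25626445))))) (.node (.node (.node (.node (.leaf 240910384) (.leaf 122028080)) (.node (.leaf 97927216) (.leaf 267426188))) (.node (.node (.leaf 373538865) (.leaf 249675824)) (.node (.leaf 353949665) (.leaf 303022128)))) (.node (.node (.node (.leaf 41812054) (.leaf 284940036)) (.node (.leaf 200837497) (.leaf 55197745))) (.node (.node (.leaf 194878298) (.leaf 102864802)) (.node (.leaf 128467110) (.leaf 85154264)))))))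

/-- A Schreier factor, part 259. -/
def facCodePart259 : Janko1.Tree ℕ := (.node (.node (.node (.node (.node (.node (.leaf 5865520) (.leaf 53379120)) (.node (.leaf 249298992) (.leaf 61374513))) (.node (.node (.leaf 254935089) (.leaf 61473509)) (.node (.leaf 257212465) (.leaf 108593201)))) (.node (.node (.node (.leaf 298221616) (.leaf 108667190)) (.node (.leaf 290979889) (.leaf 116481742))) (.node (.node (.leaf 57970592) (.leaf 85164080)) (.node (.leaf 81698317) (.leaf 53401084))))) (.node (.node (.node (.node (.leaf 71319601) (.leaf 122060848)) (.node (.leaf 18890802) (.leaf 90428104))) (.node (.node (.leaf 23691312) (.leaf 267452464)) (.node (.leaf 299565106) (.leaf 303054896)))) (.node (.node (.node (.leaf 276128050) (.leaf 23890452)) (.node (.leaf 278167601) (.leaf 157155378))) (.node (.node (.leaf 302734176) (.leaf 170704946)) (.node (.leaf 267802054) (.leaf 19466486)))))) (.node (.node (.node (.node (.node (.leaf 109772850) (.leaf 89625005)) (.node (.leaf 14899266) (.leaf 85806440))) (.node (.node (.leaf 280269761) (.leaf 249814226)) (.node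 (.leaf 365428785) (.leaf 57671728)))) (.node (.node (.node (.leaf 323584049) (.leaf 303449606)) (.node (.leaf 162594865) (.leaf 23872345))) (.node (.node (.leaf 152770986) (.leaf 120428826)) (.node (.leaf 313770034) (.leaf 116260912))))) (.node (.node (.node (.node (.leaf 351899457) (.leaf 19436604)) (.node (.leaf 289505328) (.leaf 140630521))) (.node (.node (.leaf 354488834) (.leaf 19514213)) (.node (.leaf 129695792) (.leaf 120406064)))) (.node (.node (.node (.leaf 145759594) (.leaf 53779656)) (.node (.leaf 169384036) (.leaf 85770288))) (.node (.node (.leaf 220037170) (.leaf 249778378)) (.node (.leaf 313737266) (.leaf 57720880)))))))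

/-- A Schreier factor, part 260. -/
def facCodePart260 : Janko1.Tree ℕ := (.node (.node (.node (.node (.node (.node (.leaf 40714836) (.leaf 301170736)) (.node (.leaf 267259986) (.leaf 53764093))) (.node (.node (.leaf 113018045) (.leaf 301154352)) (.node (.leaf 65568817) (.leaf 132956210)))) (.node (.node (.node (.leaf 109762604) (.leaf 19481877)) (.node (.leaf 49987634) (.leaf 116228953))) (.node (.node (.leaf 999473) (.leaf 172525346)) (.node (.leaf 243023922) (.leaf 175833138))))) (.node (.node (.node (.node (.leaf 14925874) (.leaf 23924596)) (.node (.leaf 345228016) (.leaf 24657968))) (.node (.node (.leaf 288495794) (.leaf 283246640)) (.node (.leaf 295141425) (.leaf 265228701)))) (.node (.node (.node (.leaf 340853138) (.leaf 121346645)) (.node (.leaf 212713520) (.leaf 267567152))) (.node (.node (.leaf 30556209) (.leaf 182501426)) (.node (.leaf 43126529) (.leaf 141991838)))))) (.node (.node (.node (.node (.node (.leaf 94830641) (.leaf 85005826)) (.node (.leaf 106398293) (.leaf 52756528))) (.node (.node (.leaf 374967152) (.leaf 56804816))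 (.node (.leaf 354475212) (.leaf 137560114)))) (.node (.node (.node (.leaf 350912561) (.leaf 88818553)) (.node (.leaf 315443433) (.leaf 174227506))) (.node (.node (.leaf 132448306) (.leaf 283230256)) (.node (.leaf 64913458) (.leaf 265215488))))) (.node (.node (.node (.node (.leaf 140729914) (.leaf 121310425)) (.node (.leaf 255328306) (.leaf 117260336))) (.node (.node (.leaf 98590734) (.leaf 267556342)) (.node (.leaf 359055408) (.leaf 285285737)))) (.node (.node (.node (.leaf 346243434) (.leaf 20398128)) (.node (.leaf 310729542) (.leaf 265195530))) (.node (.node (.leaf 232919252) (.leaf 121290945)) (.node (.leaf 133679786) (.leaf 24674352)))))))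

/-- A Schreier factor, part 261. -/
def facCodePart261 : Janko1.Tree ℕ := (.node (.node (.node (.node (.node (.node (.leaf 132440006) (.leaf 152174642)) (.node (.leaf 288331660) (.leaf 88785329))) (.node (.node (.leaf 299768377) (.leaf 160842786)) (.node (.leaf 349770546) (.leaf 84974172)))) (.node (.node (.node (.leaf 145883184) (.leaf 150424353)) (.node (.leaf 264618688) (.leaf 88774060))) (.node (.node (.leaf 22544433) (.leaf 267534745)) (.node (.leaf 114315526) (.leaf 121279328))))) (.node (.node (.node (.node (.leaf 297058353) (.leaf 57983024)) (.node (.leaf 285835313) (.leaf 89882672))) (.node (.node (.leaf 6723202) (.leaf 86070198)) (.node (.leaf 262081744) (.leaf 250085424)))) (.node (.node (.node (.leaf 251076150) (.leaf 303694430)) (.node (.leaf 46940209) (.leaf 7716913))) (.node (.node (.leaf 115720242) (.leaf 26198066)) (.node (.leaf 246202418) (.leaf 42500146)))))) (.node (.node (.node (.node (.node (.leaf 279221809) (.leaf 7754298)) (.node (.leaf 280772656) (.leaf 14753756))) (.node (.node (.leaf 313311281) (.leaf 48531358)) (.node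 (.leaf 113262640) (.leaf 44990514)))) (.node (.node (.node (.leaf 342687793) (.leaf 14762033)) (.node (.leaf 168427570) (.leaf 58022589))) (.node (.node (.leaf 180994097) (.leaf 247906352)) (.node (.leaf 80904240) (.leaf 86087882))))) (.node (.node (.node (.node (.leaf 317065018) (.leaf 303726640)) (.node (.leaf 353402929) (.leaf 250044685))) (.node (.node (.leaf 32817200) (.leaf 247873584)) (.node (.leaf 317835217) (.leaf 58037897)))) (.node (.node (.node (.leaf 225214514) (.leaf 7700530)) (.node (.leaf 144080945) (.leaf 55165682))) (.node (.node (.leaf 73187376) (.leaf 2588722)) (.node (.leaf 284786736) (.leaf 10969182)))))))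

/-- A Schreier factor, part 262. -/
def facCodePart262 : Janko1.Tree ℕ := (.node (.node (.node (.node (.node (.node (.leaf 290488369) (.leaf 14718116)) (.node (.leaf 292667441) (.leaf 65176738))) (.node (.node (.leaf 262553648) (.leaf 61341746)) (.node (.leaf 255462614) (.leaf 65585202)))) (.node (.node (.node (.leaf 16074020) (.leaf 10043954)) (.node (.leaf 48005170) (.leaf 303759408))) (.node (.node (.leaf 34553905) (.leaf 54083632)) (.node (.leaf 115785778) (.leaf 250058373))))) (.node (.node (.node (.node (.leaf 279184948) (.leaf 89849904)) (.node (.leaf 246259194) (.leaf 58048560))) (.node (.node (.leaf 48496688) (.leaf 301482032)) (.node (.leaf 296045566) (.leaf 120511044)))) (.node (.node (.node (.leaf 10747953) (.leaf 116375592)) (.node (.leaf 45013381) (.leaf 167233194))) (.node (.node (.leaf 6638628) (.leaf 57775802)) (.node (.leaf 105122145) (.leaf 283317060)))))) (.node (.node (.node (.node (.node (.leaf 302899349) (.leaf 53821488)) (.node (.leaf 80958770) (.leaf 57741825))) (.node (.node (.leaf 367331822) (.leaf 301187120)) (.node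 (.leaf 48676912) (.leaf 283298468)))) (.node (.node (.node (.leaf 143199176) (.leaf 285316893)) (.node (.leaf 196788766) (.leaf 53805104))) (.node (.node (.leaf 179362598) (.leaf 20437533)) (.node (.leaf 24944738) (.leaf 136070738))))) (.node (.node (.node (.node (.leaf 323682353) (.leaf 120487984)) (.node (.leaf 347589834) (.leaf 85069462))) (.node (.node (.leaf 365592625) (.leaf 132857906)) (.node (.leaf 73252912) (.leaf 116326448)))) (.node (.node (.node (.leaf 40670594) (.leaf 180620693)) (.node (.leaf 143212594) (.leaf 184025138))) (.node (.node (.leaf 337170970) (.leaf 285376560)) (.node (.leaf 370065457) (.leaf 301257484)))))))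

/-- A Schreier factor, part 263. -/
def facCodePart263 : Janko1.Tree ℕ := (.node (.node (.node (.node (.node (.node (.leaf 258410804) (.leaf 283346201)) (.node (.leaf 44449842) (.leaf 303530032))) (.node (.node (.leaf 260407346) (.leaf 285343792)) (.node (.leaf 56754224) (.leaf 20469468)))) (.node (.node (.node (.leaf 776524) (.leaf 57802800)) (.node (.leaf 16662578) (.leaf 24707120))) (.node (.node (.leaf 82285950) (.leaf 301220326)) (.node (.leaf 15958064) (.leaf 116314545))))) (.node (.node (.node (.node (.leaf 307253457) (.leaf 120455529)) (.node (.leaf 267206704) (.leaf 88855678))) (.node (.node (.leaf 30343966) (.leaf 117360722)) (.node (.leaf 155516978) (.leaf 85884976)))) (.node (.node (.node (.leaf 208732210) (.leaf 267673637)) (.node (.leaf 253624369) (.leaf 155893810))) (.node (.node (.leaf 212782338) (.leaf 182440244)) (.node (.leaf 358842602) (.leaf 152387634)))))) (.node (.node (.node (.node (.node (.leaf 295323277) (.leaf 52856260)) (.node (.leaf 340770864) (.leaf 19562544))) (.node (.node (.leaf 130572621) (.leaf 177390584))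 (.node (.leaf 140578074) (.leaf 147133434)))) (.node (.node (.node (.leaf 31312478) (.leaf 174129202)) (.node (.leaf 96600114) (.leaf 52822064))) (.node (.node (.leaf 146114350) (.leaf 265289776)) (.node (.leaf 315524173) (.leaf 121389104))))) (.node (.node (.node (.node (.leaf 357584276) (.leaf 85859262)) (.node (.leaf 332218845) (.leaf 249861917))) (.node (.node (.leaf 67076146) (.leaf 117325872)) (.node (.leaf 308104522) (.leaf 267623168)))) (.node (.node (.node (.leaf 134447153) (.leaf 265273392)) (.node (.leaf 160811914) (.leaf 89669938))) (.node (.node (.leaf 327516208) (.leaf 169148466)) (.node (.leaf 82889936) (.leaf 19595312)))))))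

/-- A Schreier factor, part 264. -/
def facCodePart264 : Janko1.Tree ℕ := (.node (.node (.node (.node (.node (.node (.leaf 22349721) (.leaf 56852528)) (.node (.leaf 139517173) (.leaf 117299745))) (.node (.node (.leaf 266734090) (.leaf 85835824)) (.node (.leaf 249076638) (.leaf 267587314)))) (.node (.node (.node (.leaf 354271280) (.leaf 265257008)) (.node (.leaf 281824914) (.leaf 247730482))) (.node (.node (.leaf 336503197) (.leaf 89640890)) (.node (.leaf 299368498) (.leaf 301514800))))) (.node (.node (.node (.node (.leaf 26090133) (.leaf 303779726)) (.node (.leaf 14303282) (.leaf 285605936))) (.node (.node (.leaf 59345008) (.leaf 20709424)) (.node (.leaf 268748382) (.leaf 42827944)))) (.node (.node (.node (.leaf 129503376) (.leaf 38263936)) (.node (.leaf 297304113) (.leaf 3457074))) (.node (.node (.leaf 88899632) (.leaf 15515698)) (.node (.leaf 335380530) (.leaf 48857138)))))) (.node (.node (.node (.node (.node (.leaf 56967216) (.leaf 44450513)) (.node (.leaf 164331569) (.leaf 44892210))) (.node (.node (.leaf 16318512) (.leaf 58097712)) (.node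 (.leaf 360038449) (.leaf 285638704)))) (.node (.node (.node (.leaf 96895754) (.leaf 303808560)) (.node (.leaf 65344774) (.leaf 20742192))) (.node (.node (.leaf 336052273) (.leaf 58949682)) (.node (.leaf 289587248) (.leaf 26165298))))) (.node (.node (.node (.node (.leaf 373146636) (.leaf 21610546)) (.node (.leaf 299438953) (.leaf 28181192))) (.node (.node (.leaf 14292369) (.leaf 65489258)) (.node (.leaf 67420209) (.leaf 60948530)))) (.node (.node (.node (.leaf 24681590) (.leaf 303841328)) (.node (.leaf 273170481) (.leaf 285658085))) (.node (.node (.leaf 121241648) (.leaf 20758576)) (.node (.leaf 280463417) (.leaf 58130480)))))))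

/-- A Schreier factor, part 265. -/
def facCodePart265 : Janko1.Tree ℕ := (.node (.node (.node (.node (.node (.node (.leaf 274913677) (.leaf 24973990)) (.node (.leaf 292883082) (.leaf 301563952))) (.node (.node (.leaf 51461) (.leaf 5921266)) (.node (.leaf 14729265) (.leaf 210534450)))) (.node (.node (.node (.leaf 54381789) (.leaf 100638038)) (.node (.leaf 58622002) (.leaf 220610610))) (.node (.node (.leaf 121691120) (.leaf 614528)) (.node (.leaf 281002390) (.leaf 256639024))))) (.node (.node (.node (.node (.leaf 299073660) (.leaf 73990192)) (.node (.leaf 238354480) (.leaf 70012902))) (.node (.node (.leaf 251495744) (.leaf 276463664)) (.node (.leaf 356550226) (.leaf 274268208)))) (.node (.node (.node (.leaf 235831345) (.leaf 69992496)) (.node (.leaf 45944294) (.leaf 215547954))) (.node (.node (.leaf 343064625) (.leaf 100597808)) (.node (.leaf 27807693) (.leaf 207325778)))))) (.node (.node (.node (.node (.node (.leaf 124387376) (.leaf 36454448)) (.node (.leaf 458800) (.leaf 69074992))) (.node (.node (.leaf 100671100) (.leaf 220430864)) (.node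 (.leaf 173727646) (.leaf 224051845)))) (.node (.node (.node (.leaf 368427076) (.leaf 1607346)) (.node (.leaf 357376133) (.leaf 101466160))) (.node (.node (.leaf 374901426) (.leaf 241352752)) (.node (.leaf 291816889) (.leaf 292061232))))) (.node (.node (.node (.node (.leaf 249266226) (.leaf 294354992)) (.node (.leaf 282722354) (.leaf 241336368))) (.node (.node (.leaf 73587888) (.leaf 105037872)) (.node (.leaf 124698673) (.leaf 6881641)))) (.node (.node (.node (.leaf 85839353) (.leaf 199099296)) (.node (.leaf 53871614) (.leaf 36421680))) (.node (.node (.leaf 45613104) (.leaf 212156466)) (.node (.leaf 258017888) (.leaf 215433266)))))))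

/-- A Schreier factor, part 266. -/
def facCodePart266 : Janko1.Tree ℕ := (.node (.node (.node (.node (.node (.node (.leaf 269340613) (.leaf 40681520)) (.node (.leaf 2973524) (.leaf 6864944))) (.node (.node (.leaf 33964081) (.leaf 239026224)) (.node (.leaf 165527602) (.leaf 101498928)))) (.node (.node (.node (.leaf 275791921) (.leaf 40665136)) (.node (.leaf 365253624) (.leaf 232194098))) (.node (.node (.leaf 239783289) (.leaf 40632368)) (.node (.leaf 275234866) (.leaf 190529586))))) (.node (.node (.node (.node (.leaf 277339961) (.leaf 73047636)) (.node (.leaf 197434706) (.leaf 227202281))) (.node (.node (.leaf 200753201) (.leaf 36388912)) (.node (.leaf 196509744) (.leaf 6832176)))) (.node (.node (.node (.leaf 169920898) (.leaf 292028464)) (.node (.leaf 203407408) (.leaf 239009840))) (.node (.node (.leaf 176621409) (.leaf 105070640)) (.node (.leaf 337430782) (.leaf 294343470)))))) (.node (.node (.node (.node (.node (.leaf 319160369) (.leaf 1572912)) (.node (.leaf 8097893) (.leaf 276496432))) (.node (.node (.leaf 2949170) (.leaf 69959728)) (.node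 (.leaf 71260596) (.leaf 258676838)))) (.node (.node (.node (.leaf 107971330) (.leaf 73973808)) (.node (.leaf 349044785) (.leaf 100565040))) (.node (.node (.leaf 365477936) (.leaf 235634738)) (.node (.leaf 346538034) (.leaf 639689))))) (.node (.node (.node (.node (.leaf 122883048) (.leaf 190402292)) (.node (.leaf 110712368) (.leaf 5931056))) (.node (.node (.leaf 176357424) (.leaf 37273648)) (.node (.leaf 196150321) (.leaf 69945337)))) (.node (.node (.node (.leaf 250830894) (.leaf 73957424)) (.node (.leaf 261570609) (.leaf 41558044))) (.node (.node (.leaf 283623474) (.leaf 274530352)) (.node (.leaf 114516074) (.leaf 276679328)))))))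

/-- A Schreier factor, part 267. -/
def facCodePart267 : Janko1.Tree ℕ := (.node (.node (.node (.node (.node (.node (.leaf 83181617) (.leaf 37453872)) (.node (.leaf 70209832) (.leaf 5537840))) (.node (.node (.leaf 37260088) (.leaf 106725426)) (.node (.leaf 93847600) (.leaf 91013853)))) (.node (.node (.node (.leaf 61985490) (.leaf 25810341)) (.node (.leaf 263520305) (.leaf 102897525))) (.node (.node (.leaf 246121417) (.leaf 248649)) (.node (.leaf 10502192) (.leaf 5573444))))) (.node (.node (.node (.node (.leaf 108331056) (.leaf 112689202)) (.node (.leaf 228267434) (.leaf 278576))) (.node (.node (.leaf 362763306) (.leaf 41762864)) (.node (.leaf 380960817) (.leaf 274563120)))) (.node (.node (.node (.leaf 347032941) (.leaf 256901209)) (.node (.leaf 243094514) (.leaf 70271024))) (.node (.node (.leaf 296326814) (.leaf 258998320)) (.node (.leaf 300793904) (.leaf 37470256)))))) (.node (.node (.node (.node (.node (.leaf 355418162) (.leaf 1933360)) (.node (.leaf 321519666) (.leaf 101810224))) (.node (.node (.leaf 220846429) (.leaf 239239216)) (.node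 (.leaf 230835741) (.leaf 7113005)))) (.node (.node (.node (.leaf 204540793) (.leaf 292341357)) (.node (.leaf 70418480) (.leaf 7897137))) (.node (.node (.leaf 333217841) (.leaf 106512434)) (.node (.leaf 315281816) (.leaf 7872952))))) (.node (.node (.node (.node (.leaf 339836977) (.leaf 40388532)) (.node (.leaf 7749681) (.leaf 93077554))) (.node (.node (.leaf 10065086) (.leaf 14931241)) (.node (.leaf 123785461) (.leaf 14909489)))) (.node (.node (.node (.leaf 56410162) (.leaf 40404310)) (.node (.leaf 288687265) (.leaf 101844902))) (.node (.node (.leaf 306697893) (.leaf 241616806)) (.node (.leaf 242833742) (.leaf 7143472)))))))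

/-- A Schreier factor, part 268. -/
def facCodePart268 : Janko1.Tree ℕ := (.node (.node (.node (.node (.node (.node (.leaf 296091696) (.leaf 292372528)) (.node (.leaf 291409780) (.leaf 224116786))) (.node (.node (.leaf 304873520) (.leaf 73154608)) (.node (.leaf 70145258) (.leaf 100699422)))) (.node (.node (.node (.leaf 298877036) (.leaf 220514009)) (.node (.leaf 85105634) (.leaf 41600176))) (.node (.node (.leaf 14991409) (.leaf 1654832)) (.node (.leaf 361807921) (.leaf 258742260))))) (.node (.node (.node (.node (.leaf 235921028) (.leaf 215515186)) (.node (.leaf 199983154) (.leaf 104267824))) (.node (.node (.leaf 212524442) (.leaf 73142350)) (.node (.leaf 10551344) (.leaf 100663344)))) (.node (.node (.node (.leaf 19534645) (.leaf 185701764)) (.node (.leaf 336436013) (.leaf 212271154))) (.node (.node (.leaf 368166222) (.leaf 224002098)) (.node (.leaf 70369328) (.leaf 40763440)))))) (.node (.node (.node (.node (.node (.leaf 374689810) (.leaf 5999328)) (.node (.leaf 192397361) (.leaf 294461489))) (.node (.node (.leaf 124354608) (.leaf 74022960))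 (.node (.leaf 373915698) (.leaf 292147048)))) (.node (.node (.node (.leaf 100604501) (.leaf 274356646)) (.node (.leaf 247155396) (.leaf 294424356))) (.node (.node (.leaf 240648241) (.leaf 276529200)) (.node (.leaf 276594737) (.leaf 105103408))))) (.node (.node (.node (.node (.leaf 53952764) (.leaf 74006576)) (.node (.leaf 45695464) (.leaf 274321666))) (.node (.node (.leaf 104618938) (.leaf 693920)) (.node (.leaf 124796977) (.leaf 212074546)))) (.node (.node (.node (.leaf 19192777) (.leaf 188848816)) (.node (.leaf 10174512) (.leaf 40750250))) (.node (.node (.leaf 257425457) (.leaf 292098189)) (.node (.leaf 377962544) (.leaf 74055728)))))))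

/-- A Schreier factor, part 269. -/
def facCodePart269 : Janko1.Tree ℕ := (.node (.node (.node (.node (.node (.node (.leaf 209633865) (.leaf 294404144)) (.node (.leaf 71598129) (.leaf 40714288))) (.node (.node (.leaf 99111301) (.leaf 208912434)) (.node (.leaf 135970866) (.leaf 235405362)))) (.node (.node (.node (.leaf 3179002) (.leaf 232114361)) (.node (.leaf 364403482) (.leaf 36510144))) (.node (.node (.leaf 34160689) (.leaf 672232)) (.node (.leaf 320634928) (.leaf 204064470))))) (.node (.node (.node (.node (.leaf 353623709) (.leaf 200589362)) (.node (.leaf 169984048) (.leaf 227082290))) (.node (.node (.leaf 227278897) (.leaf 74039344)) (.node (.leaf 38411816) (.leaf 101569493)))) (.node (.node (.node (.leaf 257344365) (.leaf 70058032)) (.node (.leaf 378224688) (.leaf 1726874))) (.node (.node (.leaf 209911856) (.leaf 256655408)) (.node (.leaf 366788657) (.leaf 6946864)))))) (.node (.node (.node (.node (.node (.leaf 207192113) (.leaf 205865010)) (.node (.leaf 10012408) (.leaf 232249370))) (.node (.node (.leaf 5275698) (.leaf 69140528)) (.node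 (.leaf 295247908) (.leaf 104255045)))) (.node (.node (.node (.leaf 106417168) (.leaf 73105456)) (.node (.leaf 293060658) (.leaf 209076274))) (.node (.node (.leaf 320360644) (.leaf 200742721)) (.node (.leaf 244203569) (.leaf 69124144))))) (.node (.node (.node (.node (.leaf 176411876) (.leaf 73090002)) (.node (.leaf 122970353) (.leaf 1692077))) (.node (.node (.leaf 110805041) (.leaf 241401904)) (.node (.leaf 328703445) (.leaf 239065108)))) (.node (.node (.node (.leaf 46661681) (.leaf 41639197)) (.node (.leaf 238438636) (.leaf 41800966))) (.node (.node (.leaf 246038577) (.leaf 239353904)) (.node (.leaf 118636593) (.leaf 106627122)))))))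

/-- A Schreier factor, part 270. -/
def facCodePart270 : Janko1.Tree ℕ := (.node (.node (.node (.node (.node (.node (.leaf 184113) (.leaf 58966065)) (.node (.leaf 27614408) (.leaf 71521008))) (.node (.node (.leaf 328941756) (.leaf 65126965)) (.node (.leaf 380633137) (.leaf 65197456)))) (.node (.node (.node (.leaf 364838961) (.leaf 108582508)) (.node (.leaf 210927665) (.leaf 41812016))) (.node (.node (.leaf 187586825) (.leaf 256957057)) (.node (.leaf 148228432) (.leaf 239386672))))) (.node (.node (.node (.node (.leaf 108265520) (.leaf 241729584)) (.node (.leaf 372817974) (.leaf 37556380))) (.node (.node (.leaf 116064304) (.leaf 1968429)) (.node (.leaf 315186548) (.leaf 276748774)))) (.node (.node (.node (.leaf 351753769) (.leaf 105332784)) (.node (.leaf 358522920) (.leaf 292421680))) (.node (.node (.leaf 37584944) (.leaf 274628656)) (.node (.leaf 201742336) (.leaf 36192304)))))) (.node (.node (.node (.node (.node (.leaf 205178710) (.leaf 71393494)) (.node (.leaf 230916145) (.leaf 102700302))) (.node (.node (.leaf 27885616) (.leaf 75300914))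 (.node (.leaf 259276849) (.leaf 36208688)))) (.node (.node (.node (.leaf 270614577) (.leaf 77270909)) (.node (.leaf 295403569) (.leaf 112527293))) (.node (.node (.leaf 23298098) (.leaf 70303792)) (.node (.leaf 301762369) (.leaf 292439681))))) (.node (.node (.node (.node (.leaf 300449841) (.leaf 36864048)) (.node (.leaf 298291462) (.leaf 154424189))) (.node (.node (.leaf 1523760) (.leaf 73816432)) (.node (.leaf 53215281) (.leaf 2064432)))) (.node (.node (.node (.leaf 117751858) (.leaf 276119600)) (.node (.leaf 48922673) (.leaf 240582704))) (.node (.node (.leaf 247283762) (.leaf 105775152)) (.node (.leaf 249398244) (.leaf 291536944)))))))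

/-- A Schreier factor, part 271. -/
def facCodePart271 : Janko1.Tree ℕ := (.node (.node (.node (.node (.node (.node (.leaf 278480742) (.leaf 2031664)) (.node (.leaf 361172109) (.leaf 276103980))) (.node (.node (.leaf 109363248) (.leaf 256033452)) (.node (.leaf 310034481) (.leaf 291504176)))) (.node (.node (.node (.leaf 117375024) (.leaf 41893936)) (.node (.leaf 176832562) (.leaf 36847664))) (.node (.node (.leaf 156112348) (.leaf 185843944)) (.node (.leaf 356392520) (.leaf 145575309))))) (.node (.node (.node (.node (.leaf 84951088) (.leaf 185761841)) (.node (.leaf 354074674) (.leaf 6312548))) (.node (.node (.leaf 332796681) (.leaf 69779504)) (.node (.leaf 1852569) (.leaf 1151528)))) (.node (.node (.node (.leaf 165953585) (.leaf 273907760)) (.node (.leaf 229971064) (.leaf 238321712))) (.node (.node (.leaf 318185404) (.leaf 258001698)) (.node (.leaf 278201978) (.leaf 74580016)))))) (.node (.node (.node (.node (.node (.leaf 286867681) (.leaf 238288944)) (.node (.leaf 241287217) (.leaf 257982512))) (.node (.node (.leaf 117035625) (.leaf 102109392))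 (.node (.leaf 109068336) (.leaf 293863472)))) (.node (.node (.node (.leaf 58441778) (.leaf 199295025)) (.node (.leaf 6267240) (.leaf 41107504))) (.node (.node (.leaf 28248214) (.leaf 133169201)) (.node (.leaf 23746317) (.leaf 133070897))))) (.node (.node (.node (.node (.leaf 284639630) (.leaf 69769029)) (.node (.leaf 19322117) (.leaf 1132902))) (.node (.node (.leaf 282607666) (.leaf 199252964)) (.node (.leaf 257900593) (.leaf 238376488)))) (.node (.node (.node (.leaf 156228965) (.leaf 273874992)) (.node (.leaf 38977585) (.leaf 1122617))) (.node (.node (.leaf 67797041) (.leaf 152485937)) (.node (.leaf 312950834) (.leaf 104924149)))))))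

/-- A Schreier factor, part 272. -/
def facCodePart272 : Janko1.Tree ℕ := (.node (.node (.node (.node (.node (.node (.leaf 102588602) (.leaf 152600625)) (.node (.leaf 130695217) (.leaf 41075128))) (.node (.node (.leaf 352206896) (.leaf 1081392)) (.node (.leaf 355369009) (.leaf 69801942)))) (.node (.node (.node (.leaf 229638192) (.leaf 41058352)) (.node (.leaf 40140850) (.leaf 37617712))) (.node (.node (.leaf 143786033) (.leaf 293830704)) (.node (.leaf 147099188) (.leaf 102143736))))) (.node (.node (.node (.node (.leaf 3129394) (.leaf 74596400)) (.node (.leaf 275105772) (.leaf 238359573))) (.node (.node (.leaf 8273970) (.leaf 273858608)) (.node (.leaf 277206916) (.leaf 7192624)))) (.node (.node (.node (.leaf 366215217) (.leaf 105727696)) (.node (.leaf 329941040) (.leaf 256019264))) (.node (.node (.leaf 331513905) (.leaf 276136528)) (.node (.leaf 108167218) (.leaf 6377689)))))) (.node (.node (.node (.node (.node (.leaf 104071218) (.leaf 139214897)) (.node (.leaf 242286642) (.leaf 139296817))) (.node (.node (.leaf 75071538) (.leaf 101318704))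 (.node (.leaf 239933376) (.leaf 36921404)))) (.node (.node (.node (.leaf 286097457) (.leaf 6364213)) (.node (.leaf 351993904) (.leaf 73760816))) (.node (.node (.leaf 279552072) (.leaf 134695009)) (.node (.leaf 244780120) (.leaf 36882776))))) (.node (.node (.node (.node (.leaf 222811900) (.leaf 200949809)) (.node (.leaf 26427441) (.leaf 41926704))) (.node (.node (.leaf 13516849) (.leaf 255983664)) (.node (.leaf 90670814) (.leaf 240549936)))) (.node (.node (.node (.leaf 346414586) (.leaf 70619202)) (.node (.leaf 78889009) (.leaf 2080816))) (.node (.node (.leaf 286859645) (.leaf 240844848)) (.node (.leaf 248683000) (.leaf 106092238)))))))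

/-- A Schreier factor, part 273. -/
def facCodePart273 : Janko1.Tree ℕ := (.node (.node (.node (.node (.node (.node (.leaf 101482544) (.leaf 256286630)) (.node (.leaf 56269500) (.leaf 36541046))) (.node (.node (.leaf 22236429) (.leaf 71409046)) (.node (.leaf 21512242) (.leaf 73505960)))) (.node (.node (.node (.leaf 283525170) (.leaf 22020145)) (.node (.leaf 285720626) (.leaf 6015881))) (.node (.node (.leaf 379617329) (.leaf 36552752)) (.node (.leaf 265046457) (.leaf 101123504))))) (.node (.node (.node (.node (.leaf 20693040) (.leaf 77234225)) (.node (.leaf 329434102) (.leaf 6047172))) (.node (.node (.leaf 231669810) (.leaf 276357257)) (.node (.leaf 160980944) (.leaf 240880473)))) (.node (.node (.node (.leaf 321653082) (.leaf 106119216)) (.node (.leaf 319259764) (.leaf 291864624))) (.node (.node (.leaf 52969520) (.leaf 42193974)) (.node (.leaf 274155400) (.leaf 74826013)))))) (.node (.node (.node (.node (.node (.leaf 125457137) (.leaf 102318128)) (.node (.leaf 101860084) (.leaf 294165157))) (.node (.node (.leaf 175278472) (.leaf 87103248)) (.node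 (.leaf 150962225) (.leaf 3412790)))) (.node (.node (.node (.leaf 92782912) (.leaf 3293233)) (.node (.leaf 69222448) (.leaf 794236))) (.node (.node (.leaf 264765488) (.leaf 40812592)) (.node (.leaf 260424857) (.leaf 10819609))))) (.node (.node (.node (.node (.leaf 20430896) (.leaf 10751570)) (.node (.leaf 259932209) (.leaf 69507990))) (.node (.node (.leaf 271189301) (.leaf 93000033)) (.node (.leaf 123914138) (.leaf 7471152)))) (.node (.node (.node (.leaf 63523432) (.leaf 74842160)) (.node (.leaf 250594545) (.leaf 258229077))) (.node (.node (.leaf 248306158) (.leaf 37965206)) (.node (.leaf 44517357) (.leaf 294191152)))))))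

/-- A Schreier factor, part 274. -/
def facCodePart274 : Janko1.Tree ℕ := (.node (.node (.node (.node (.node (.node (.leaf 300417074) (.leaf 220741681)) (.node (.leaf 302781730) (.leaf 101417008))) (.node (.node (.leaf 300683714) (.leaf 256114736)) (.node (.leaf 203573605) (.leaf 256081968)))) (.node (.node (.node (.leaf 182717738) (.leaf 238436400)) (.node (.leaf 133127073) (.leaf 291608525))) (.node (.node (.leaf 159483002) (.leaf 7264033)) (.node (.leaf 11653144) (.leaf 36930776))))) (.node (.node (.node (.node (.leaf 343687496) (.leaf 1167829)) (.node (.leaf 326030212) (.leaf 212336641))) (.node (.node (.leaf 20627504) (.leaf 172688693)) (.node (.leaf 117457181) (.leaf 69877808)))) (.node (.node (.node (.leaf 92831792) (.leaf 234069161)) (.node (.leaf 61100592) (.leaf 6425790))) (.node (.node (.leaf 69304368) (.leaf 104972336)) (.node (.leaf 36423984) (.leaf 167542833)))))) (.node (.node (.node (.node (.node (.leaf 287268821) (.leaf 258072733)) (.node (.leaf 349962816) (.leaf 240615472))) (.node (.node (.leaf 269762608) (.leaf 70697008))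 (.node (.leaf 274222556) (.leaf 37751173)))) (.node (.node (.node (.leaf 374327376) (.leaf 293949210)) (.node (.leaf 6097785) (.leaf 258039112))) (.node (.node (.leaf 40963837) (.leaf 70667541)) (.node (.leaf 86347457) (.leaf 293913204))))) (.node (.node (.node (.node (.leaf 61395526) (.leaf 276188061)) (.node (.leaf 11375170) (.leaf 104959785))) (.node (.node (.leaf 269879376) (.leaf 73842736)) (.node (.leaf 252200857) (.leaf 159268913)))) (.node (.node (.node (.leaf 109141566) (.leaf 159355433)) (.node (.leaf 102481969) (.leaf 37699632))) (.node (.node (.leaf 366526514) (.leaf 293899586)) (.node (.leaf 328965564) (.leaf 240669161)))))))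

/-- A Schreier factor, part 275. -/
def facCodePart275 : Janko1.Tree ℕ := (.node (.node (.node (.node (.node (.node (.leaf 98687909) (.leaf 70729776)) (.node (.leaf 347439152) (.leaf 105024364))) (.node (.node (.leaf 275152945) (.leaf 73908272)) (.node (.leaf 293109809) (.leaf 179212154)))) (.node (.node (.node (.leaf 342934116) (.leaf 6408085)) (.node (.leaf 5062706) (.leaf 73880902))) (.node (.node (.leaf 72848372) (.leaf 174309425)) (.node (.leaf 9880933) (.leaf 214138929))))) (.node (.node (.node (.node (.leaf 76808242) (.leaf 41164172)) (.node (.leaf 174096433) (.leaf 6389808))) (.node (.node (.leaf 142819376) (.leaf 37666864)) (.node (.leaf 335679637) (.leaf 2113584)))) (.node (.node (.node (.leaf 149504048) (.leaf 258080816)) (.node (.leaf 337985585) (.leaf 240632420))) (.node (.node (.leaf 259588146) (.leaf 273940528)) (.node (.leaf 106332210) (.leaf 7293604)))))) (.node (.node (.node (.node (.node (.leaf 361283632) (.leaf 165838897)) (.node (.leaf 377110577) (.leaf 101367856))) (.node (.node (.leaf 343228464) (.leaf 69845040)) (.node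 (.leaf 348471345) (.leaf 1196628)))) (.node (.node (.node (.leaf 59654193) (.leaf 69828656)) (.node (.leaf 149117797) (.leaf 291636948))) (.node (.node (.leaf 229425200) (.leaf 7281762)) (.node (.leaf 262144049) (.leaf 74612784))))) (.node (.node (.node (.node (.leaf 244809777) (.leaf 256066373)) (.node (.leaf 222904368) (.leaf 238403632))) (.node (.node (.leaf 22023278) (.leaf 106174448)) (.node (.leaf 23199794) (.leaf 74930914)))) (.node (.node (.node (.leaf 17481844) (.leaf 291936118)) (.node (.leaf 92241970) (.leaf 42254384))) (.node (.node (.leaf 51039178) (.leaf 7495384)) (.node (.leaf 1444541) (.leaf 36618288)))))))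

/-- A Schreier factor, part 276. -/
def facCodePart276 : Janko1.Tree ℕ := (.node (.node (.node (.node (.node (.node (.leaf 266387505) (.leaf 835632)) (.node (.leaf 101548080) (.leaf 102744113))) (.node (.node (.leaf 28593105) (.leaf 55137569)) (.node (.leaf 246682776) (.leaf 101187632)))) (.node (.node (.node (.leaf 125222960) (.leaf 69601610)) (.node (.leaf 77185072) (.leaf 36639552))) (.node (.node (.leaf 339689522) (.leaf 852016)) (.node (.leaf 44731514) (.leaf 108527665))))) (.node (.node (.node (.node (.leaf 85016624) (.leaf 61308977)) (.node (.leaf 337666089) (.leaf 61358129))) (.node (.node (.leaf 52903984) (.leaf 69615664)) (.node (.leaf 362217521) (.leaf 74956848)))) (.node (.node (.node (.leaf 283099184) (.leaf 291947032)) (.node (.leaf 346492989) (.leaf 274186288))) (.node (.node (.leaf 264994864) (.leaf 7509565)) (.node (.leaf 140746269) (.leaf 258277424)))))) (.node (.node (.node (.node (.node (.leaf 148127794) (.leaf 240894000)) (.node (.leaf 151617586) (.leaf 2396548))) (.node (.node (.leaf 205266737) (.leaf 294259226)) (.node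 (.leaf 177668145) (.leaf 276430896)))) (.node (.node (.node (.leaf 28844324) (.leaf 118505505)) (.node (.leaf 315790958) (.leaf 40880042))) (.node (.node (.leaf 1802288) (.leaf 104664042)) (.node (.leaf 340412721) (.leaf 73531542))))) (.node (.node (.node (.node (.leaf 322453553) (.leaf 38672074)) (.node (.leaf 101924912) (.leaf 38731825))) (.node (.node (.leaf 58953796) (.leaf 124653512)) (.node (.leaf 268387100) (.leaf 124723493)))) (.node (.node (.node (.leaf 303906866) (.leaf 40894512)) (.node (.leaf 266027058) (.leaf 73548732))) (.node (.node (.leaf 301597282) (.leaf 44862153)) (.node (.leaf 44466224) (.leaf 44974129)))))))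

/-- A Schreier factor, part 277. -/
def facCodePart277 : Janko1.Tree ℕ := (.node (.node (.node (.node (.node (.node (.leaf 282790169) (.leaf 258317144)) (.node (.leaf 278255898) (.leaf 38033236))) (.node (.node (.leaf 288065233) (.leaf 2428429)) (.node (.leaf 306085937) (.leaf 294289456)))) (.node (.node (.node (.leaf 112623666) (.leaf 6340656)) (.node (.leaf 48971826) (.leaf 197574705))) (.node (.node (.leaf 296606630) (.leaf 157351985)) (.node (.leaf 261035474) (.leaf 73826352))))) (.node (.node (.node (.node (.leaf 104513584) (.leaf 69816786)) (.node (.leaf 6045744) (.leaf 157335601))) (.node (.node (.leaf 77889586) (.leaf 197541937)) (.node (.leaf 307680764) (.leaf 238395552)))) (.node (.node (.node (.leaf 254246960) (.leaf 105793560)) (.node (.leaf 98304048) (.leaf 37634096))) (.node (.node (.leaf 367826790) (.leaf 41912092)) (.node (.leaf 169164850) (.leaf 105762924)))))) (.node (.node (.node (.node (.node (.leaf 299139120) (.leaf 6332292)) (.node (.leaf 245796352) (.leaf 189089514))) (.node (.node (.leaf 180390985) (.leaf 73800418))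 (.node (.leaf 206405681) (.leaf 1097776)))) (.node (.node (.node (.leaf 222352900) (.leaf 210960433)) (.node (.leaf 129220986) (.leaf 143900721))) (.node (.node (.leaf 192774194) (.leaf 41140272)) (.node (.leaf 146833457) (.leaf 293879856))))) (.node (.node (.node (.node (.leaf 173768753) (.leaf 2097200)) (.node (.leaf 294682672) (.leaf 70638189))) (.node (.node (.leaf 42336304) (.leaf 7241776)) (.node (.leaf 74907696) (.leaf 291591905)))) (.node (.node (.node (.leaf 77873202) (.leaf 256000048)) (.node (.leaf 15339246) (.leaf 291576142))) (.node (.node (.leaf 249806896) (.leaf 36896816)) (.node (.leaf 2232564) (.leaf 101302320)))))))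

/-- A Schreier factor, part 278. -/
def facCodePart278 : Janko1.Tree ℕ := (.node (.node (.node (.node (.node (.node (.leaf 37635033) (.leaf 136203046)) (.node (.leaf 58545965) (.leaf 136223000))) (.node (.node (.leaf 90326782) (.leaf 104890416)) (.node (.leaf 101728305) (.leaf 41123888)))) (.node (.node (.node (.leaf 234078258) (.leaf 7225392)) (.node (.leaf 181043250) (.leaf 291554878))) (.node (.node (.leaf 212225164) (.leaf 70652878)) (.node (.leaf 31408177) (.leaf 41094853))))) (.node (.node (.node (.node (.leaf 323310160) (.leaf 104941041)) (.node (.leaf 273583765) (.leaf 190693425))) (.node (.node (.leaf 63886597) (.leaf 104906800)) (.node (.leaf 99811378) (.leaf 101335088)))) (.node (.node (.node (.leaf 35325865) (.leaf 150721736)) (.node (.leaf 225738800) (.leaf 190677041))) (.node (.node (.leaf 368295984) (.leaf 7209008)) (.node (.leaf 314540080) (.leaf 291520560)))))) (.node (.node (.node (.node (.node (.leaf 141628362) (.leaf 256050673)) (.node (.leaf 193780837) (.leaf 258015280))) (.node (.node (.leaf 221339408) (.leaf 293852756))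 (.node (.leaf 194419317) (.leaf 2048048)))) (.node (.node (.node (.leaf 127111957) (.leaf 276158710)) (.node (.leaf 63897650) (.leaf 37656237))) (.node (.node (.leaf 308510770) (.leaf 102121520)) (.node (.leaf 232472624) (.leaf 238338096))))) (.node (.node (.node (.node (.leaf 152420400) (.leaf 105742384)) (.node (.leaf 99797758) (.leaf 41959472))) (.node (.node (.leaf 35291186) (.leaf 273925644)) (.node (.leaf 214548529) (.leaf 142295089)))) (.node (.node (.node (.leaf 187212029) (.leaf 209279396)) (.node (.leaf 181076018) (.leaf 137862760))) (.node (.node (.leaf 157941810) (.leaf 73783473)) (.node (.leaf 139005673) (.leaf 204414134)))))))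

/-- A Schreier factor, part 279. -/
def facCodePart279 : Janko1.Tree ℕ := (.node (.node (.node (.node (.node (.node (.leaf 56524849) (.leaf 240566320)) (.node (.leaf 173629610) (.leaf 238307118))) (.node (.node (.leaf 119657840) (.leaf 41943056)) (.node (.leaf 87985964) (.leaf 273891376)))) (.node (.node (.node (.leaf 299929409) (.leaf 42179618)) (.node (.leaf 264294361) (.leaf 274140002))) (.node (.node (.leaf 47027194) (.leaf 106102832)) (.node (.leaf 83724097) (.leaf 102353132))))) (.node (.node (.node (.node (.leaf 18153522) (.leaf 240861232)) (.node (.leaf 128843824) (.leaf 276333842))) (.node (.node (.leaf 31907766) (.leaf 37929008)) (.node (.leaf 294395741) (.leaf 6036652)))) (.node (.node (.node (.leaf 241162858) (.leaf 75318872)) (.node (.leaf 27133636) (.leaf 26181681))) (.node (.node (.leaf 91652145) (.leaf 741026)) (.node (.leaf 220463154) (.leaf 6062128)))))) (.node (.node (.node (.node (.node (.leaf 371130418) (.leaf 32001829)) (.node (.leaf 335904818) (.leaf 73515056))) (.node (.node (.leaf 15679536) (.leaf 31983354)) (.node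 (.leaf 197935154) (.leaf 81084465)))) (.node (.node (.node (.leaf 144228402) (.leaf 770096)) (.node (.leaf 371163186) (.leaf 294174768))) (.node (.node (.leaf 335970354) (.leaf 2293808)) (.node (.leaf 220430386) (.leaf 70893616))))) (.node (.node (.node (.node (.leaf 167351836) (.leaf 258211888)) (.node (.leaf 198000776) (.leaf 256263577))) (.node (.node (.leaf 104858545) (.leaf 7457560)) (.node (.leaf 6344742) (.leaf 291913776)))) (.node (.node (.node (.leaf 254530770) (.leaf 36601904)) (.node (.leaf 145185200) (.leaf 101095744))) (.node (.node (.leaf 172214761) (.leaf 8362848)) (.node (.leaf 66994224) (.leaf 8388657)))))))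

/-- A Schreier factor, part 280. -/
def facCodePart280 : Janko1.Tree ℕ := (.node (.node (.node (.node (.node (.node (.leaf 98554026) (.leaf 104570381)) (.node (.leaf 198285941) (.leaf 91063461))) (.node (.node (.leaf 264328393) (.leaf 15372029)) (.node (.leaf 120670880) (.leaf 15388210)))) (.node (.node (.node (.leaf 24240480) (.leaf 104585686)) (.node (.leaf 83779377) (.leaf 40830928))) (.node (.node (.leaf 89587761) (.leaf 184500273)) (.node (.leaf 307596798) (.leaf 224346161))))) (.node (.node (.node (.node (.leaf 45533553) (.leaf 105831332)) (.node (.leaf 31970806) (.leaf 74663652))) (.node (.node (.leaf 243515442) (.leaf 37716016)) (.node (.leaf 10996464) (.leaf 2153900)))) (.node (.node (.node (.leaf 50348080) (.leaf 41975856)) (.node (.leaf 90554416) (.leaf 74647985))) (.node (.node (.leaf 299089968) (.leaf 102154288)) (.node (.leaf 163872817) (.leaf 70713392)))))) (.node (.node (.node (.node (.node (.leaf 153766877) (.leaf 37691161)) (.node (.leaf 250168176) (.leaf 2129968))) (.node (.node (.leaf 15734898) (.leaf 215736766)) (.node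 (.leaf 120864816) (.leaf 176111665)))) (.node (.node (.node (.leaf 314409010) (.leaf 176095590)) (.node (.leaf 195510322) (.leaf 215646257))) (.node (.node (.leaf 352437677) (.leaf 215712604)) (.node (.leaf 226312241) (.leaf 36962352))))) (.node (.node (.node (.node (.leaf 42434608) (.leaf 101384240)) (.node (.leaf 196414825) (.leaf 69861424))) (.node (.node (.leaf 146767921) (.leaf 104988720)) (.node (.leaf 170606641) (.leaf 6438960)))) (.node (.node (.node (.leaf 129108416) (.leaf 293969081)) (.node (.leaf 223035442) (.leaf 276217904))) (.node (.node (.leaf 314392626) (.leaf 291668016)) (.node (.leaf 139122026) (.leaf 273956912)))))))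

/-- A Schreier factor, part 281. -/
def facCodePart281 : Janko1.Tree ℕ := (.node (.node (.node (.node (.node (.node (.leaf 58638384) (.leaf 293929008)) (.node (.leaf 97566769) (.leaf 276201520))) (.node (.node (.leaf 101466404) (.leaf 258048048)) (.node (.leaf 82266750) (.leaf 240601985)))) (.node (.node (.node (.leaf 66783086) (.leaf 238427030)) (.node (.leaf 2146353) (.leaf 291654504))) (.node (.node (.leaf 112525360) (.leaf 101351472)) (.node (.leaf 10960946) (.leaf 73859120))))) (.node (.node (.node (.node (.leaf 127616356) (.leaf 291618864)) (.node (.leaf 76251185) (.leaf 238452784))) (.node (.node (.leaf 31346410) (.leaf 258097578)) (.node (.leaf 309854256) (.leaf 240681008)))) (.node (.node (.node (.leaf 44384305) (.leaf 276169544)) (.node (.leaf 212111809) (.leaf 41173040))) (.node (.node (.leaf 152207408) (.leaf 73924656)) (.node (.leaf 207519794) (.leaf 101433392)))))) (.node (.node (.node (.node (.node (.leaf 360515561) (.leaf 69917832)) (.node (.leaf 326979102) (.leaf 36945968))) (.node (.node (.leaf 157507052) (.leaf 1182961))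 (.node (.leaf 221038910) (.leaf 105010768)))) (.node (.node (.node (.leaf 200359984) (.leaf 73891888)) (.node (.leaf 368181296) (.leaf 101400624))) (.node (.node (.leaf 178554920) (.leaf 69894192)) (.node (.leaf 225641521) (.leaf 256098352))))) (.node (.node (.node (.node (.leaf 34799666) (.leaf 240653504)) (.node (.leaf 207051900) (.leaf 2186021))) (.node (.node (.leaf 135512113) (.leaf 105807920)) (.node (.leaf 232390742) (.leaf 235757010)))) (.node (.node (.node (.leaf 127746098) (.leaf 235847729)) (.node (.leaf 68304946) (.leaf 169295921))) (.node (.node (.leaf 133186220) (.leaf 169377841)) (.node (.leaf 288899122) (.leaf 169394225)))))))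

/-- A Schreier factor, part 282. -/
def facCodePart282 : Janko1.Tree ℕ := (.node (.node (.node (.node (.node (.node (.leaf 255890858) (.leaf 235767689)) (.node (.leaf 119423025) (.leaf 164239253))) (.node (.node (.leaf 193380400) (.leaf 164298801)) (.node (.leaf 23495249) (.leaf 230735921)))) (.node (.node (.node (.leaf 314277936) (.leaf 230834225)) (.node (.leaf 185057330) (.leaf 37732400))) (.node (.node (.leaf 145432202) (.leaf 2162736)) (.node (.leaf 234722848) (.leaf 70687756))))) (.node (.node (.node (.node (.leaf 157433906) (.leaf 74629168)) (.node (.leaf 207536178) (.leaf 41992240))) (.node (.node (.leaf 42112234) (.leaf 42270768)) (.node (.leaf 123109425) (.leaf 106190988)))) (.node (.node (.node (.leaf 98254896) (.leaf 74940464)) (.node (.leaf 48169009) (.leaf 70991920))) (.node (.node (.leaf 254328880) (.leaf 2342960)) (.node (.leaf 51512414) (.leaf 106469412)))))) (.node (.node (.node (.node (.node (.leaf 17629234) (.leaf 59314058)) (.node (.leaf 79282226) (.leaf 106430513))) (.node (.node (.leaf 279712046) (.leaf 106533464)) (.node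 (.leaf 217893254) (.leaf 112541745)))) (.node (.node (.node (.leaf 208224305) (.leaf 65601585)) (.node (.leaf 138779397) (.leaf 65526652))) (.node (.node (.leaf 221134898) (.leaf 7520304)) (.node (.leaf 193891225) (.leaf 102420426))))) (.node (.node (.node (.node (.leaf 351295297) (.leaf 71024688)) (.node (.leaf 317628546) (.leaf 38018897))) (.node (.node (.leaf 143704240) (.leaf 2375728)) (.node (.leaf 67063404) (.leaf 294277882)))) (.node (.node (.node (.leaf 224861184) (.leaf 258293808)) (.node (.leaf 175704409) (.leaf 238665776))) (.node (.node (.leaf 145087340) (.leaf 291982770)) (.node (.leaf 241552836) (.leaf 274219056)))))))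

/-- A Schreier factor, part 283. -/
def facCodePart283 : Janko1.Tree ℕ := (.node (.node (.node (.node (.node (.node (.leaf 221102130) (.leaf 69582896)) (.node (.leaf 317672041) (.leaf 104677424))) (.node (.node (.leaf 351273029) (.leaf 6127664)) (.node (.leaf 131600981) (.leaf 36700208)))) (.node (.node (.node (.leaf 90259504) (.leaf 884784)) (.node (.leaf 50069552) (.leaf 101176309))) (.node (.node (.leaf 39960625) (.leaf 6144621)) (.node (.leaf 120586288) (.leaf 294305840))))) (.node (.node (.node (.node (.leaf 111166354) (.leaf 276453874)) (.node (.leaf 51544114) (.leaf 258326576))) (.node (.node (.leaf 15450160) (.leaf 240912126)) (.node (.leaf 79249458) (.leaf 256360496)))) (.node (.node (.node (.leaf 272384048) (.leaf 193953842)) (.node (.leaf 77760532) (.leaf 258708702))) (.node (.node (.leaf 296714290) (.leaf 292051918)) (.node (.leaf 44925149) (.leaf 41539750)))))) (.node (.node (.node (.node (.node (.leaf 113807920) (.leaf 1556528)) (.node (.leaf 179994673) (.leaf 258694765))) (.node (.node (.leaf 25548024) (.leaf 101486926)) (.node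 (.leaf 216760369) (.leaf 238993456)))) (.node (.node (.node (.leaf 207077425) (.leaf 292012080)) (.node (.leaf 285593129) (.leaf 41518366))) (.node (.node (.leaf 192626738) (.leaf 36372528)) (.node (.leaf 81451562) (.leaf 215564338))))) (.node (.node (.node (.node (.leaf 57643922) (.leaf 202276914)) (.node (.leaf 142753842) (.leaf 69095437))) (.node (.node (.leaf 368003317) (.leaf 104226688)) (.node (.leaf 222494770) (.leaf 185647154)))) (.node (.node (.node (.leaf 33488944) (.leaf 40697904)) (.node (.leaf 105880446) (.leaf 73010536))) (.node (.node (.leaf 290151449) (.leaf 100548656)) (.node (.leaf 223713282) (.leaf 210714674)))))))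

/-- A Schreier factor, part 284. -/
def facCodePart284 : Janko1.Tree ℕ := (.node (.node (.node (.node (.node (.node (.leaf 66035706) (.leaf 274309169)) (.node (.leaf 142793821) (.leaf 6903405))) (.node (.node (.leaf 165583322) (.leaf 294371376)) (.node (.leaf 121704054) (.leaf 274286637)))) (.node (.node (.node (.leaf 16653948) (.leaf 256590065)) (.node (.leaf 130040396) (.leaf 69926960))) (.node (.node (.leaf 70631473) (.leaf 37257264)) (.node (.leaf 16243612) (.leaf 185532466))))) (.node (.node (.node (.node (.leaf 44899281) (.leaf 100532272)) (.node (.leaf 112705586) (.leaf 624786))) (.node (.node (.leaf 64557092) (.leaf 37240880)) (.node (.leaf 233215156) (.leaf 241369136)))) (.node (.node (.node (.leaf 96633028) (.leaf 105091837)) (.node (.leaf 345821410) (.leaf 256629922))) (.node (.node (.leaf 107987350) (.leaf 6848560)) (.node (.leaf 159236144) (.leaf 589872)))))) (.node (.node (.node (.node (.node (.leaf 205766704) (.leaf 100614192)) (.node (.leaf 234199693) (.leaf 73061260))) (.node (.node (.leaf 380885077) (.leaf 218988594)) (.node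 (.leaf 184320050) (.leaf 40648752)))) (.node (.node (.node (.leaf 220142549) (.leaf 579220)) (.node (.leaf 151109681) (.leaf 190545970))) (.node (.node (.leaf 168099889) (.leaf 230514709)) (.node (.leaf 146751536) (.leaf 100581424))))) (.node (.node (.node (.node (.leaf 332808240) (.leaf 73023536)) (.node (.leaf 231604273) (.leaf 200523826))) (.node (.node (.leaf 195043554) (.leaf 214013993)) (.node (.leaf 355045445) (.leaf 40615984)))) (.node (.node (.node (.leaf 99713074) (.leaf 37230637)) (.node (.leaf 192486144) (.leaf 294322224))) (.node (.node (.leaf 30954470) (.leaf 69982218)) (.node (.leaf 308811393) (.leaf 105062169)))))))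

/-- A Schreier factor, part 285. -/
def facCodePart285 : Janko1.Tree ℕ := (.node (.node (.node (.node (.node (.node (.leaf 67682606) (.leaf 256606256)) (.node (.leaf 127238194) (.leaf 274251824))) (.node (.node (.leaf 271335486) (.leaf 6817810)) (.node (.leaf 153714736) (.leaf 41566256)))) (.node (.node (.node (.leaf 157720721) (.leaf 238977072)) (.node (.leaf 188451274) (.leaf 258654256))) (.node (.node (.leaf 30971320) (.leaf 5949632)) (.node (.leaf 99647538) (.leaf 104202288))))) (.node (.node (.node (.node (.leaf 271368242) (.leaf 69058608)) (.node (.leaf 308740146) (.leaf 36438064))) (.node (.node (.leaf 67616818) (.leaf 235651122)) (.node (.leaf 337051696) (.leaf 190414898)))) (.node (.node (.node (.leaf 115918273) (.leaf 69042224)) (.node (.leaf 88539185) (.leaf 36408761))) (.node (.node (.leaf 350339120) (.leaf 230655789)) (.node (.leaf 165807918) (.leaf 73945098)))))) (.node (.node (.node (.node (.node (.leaf 155081429) (.leaf 238967104)) (.node (.leaf 184292224) (.leaf 101449776))) (.node (.node (.leaf 234209330) (.leaf 1589296))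 (.node (.leaf 342540338) (.leaf 276480048)))) (.node (.node (.node (.leaf 105578544) (.leaf 1905956)) (.node (.leaf 111582401) (.leaf 239260502))) (.node (.node (.leaf 83558450) (.leaf 36079545)) (.node (.leaf 13910066) (.leaf 21582030))))) (.node (.node (.node (.node (.leaf 50855986) (.leaf 118562957)) (.node (.leaf 261963826) (.leaf 5521456))) (.node (.node (.leaf 164942106) (.leaf 36110384)) (.node (.leaf 122011696) (.leaf 96927794)))) (.node (.node (.node (.leaf 154935518) (.leaf 27721777)) (.node (.leaf 192036913) (.leaf 27770929))) (.node (.node (.leaf 281267522) (.leaf 124665906)) (.node (.leaf 268083360) (.leaf 77348914)))))))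

/-- A Schreier factor, part 286. -/
def facCodePart286 : Janko1.Tree ℕ := (.node (.node (.node (.node (.node (.node (.leaf 235159601) (.leaf 5554224)) (.node (.leaf 197757537) (.leaf 258990217))) (.node (.node (.leaf 89313254) (.leaf 101880886)) (.node (.leaf 220644196) (.leaf 74290908)))) (.node (.node (.node (.leaf 333634085) (.leaf 239279893)) (.node (.leaf 147816497) (.leaf 7094320))) (.node (.node (.leaf 7523234) (.leaf 256835632)) (.node (.leaf 272547888) (.leaf 241598512))))) (.node (.node (.node (.node (.leaf 228513149) (.leaf 70238761)) (.node (.leaf 198869041) (.leaf 37486640))) (.node (.node (.leaf 276797072) (.leaf 294617136)) (.node (.leaf 41328012) (.leaf 2785329)))) (.node (.node (.node (.leaf 371261490) (.leaf 106545202)) (.node (.leaf 170672178) (.leaf 2900017))) (.node (.node (.leaf 220613385) (.leaf 297261)) (.node (.leaf 333611058) (.leaf 91166334)))))) (.node (.node (.node (.node (.node (.leaf 113516170) (.leaf 10246341)) (.node (.leaf 4097718) (.leaf 77201458))) (.node (.node (.leaf 100164012) (.leaf 112624000)) (.node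 (.leaf 285278256) (.leaf 10321969)))) (.node (.node (.node (.leaf 263146956) (.leaf 336014)) (.node (.leaf 57376816) (.leaf 274579504))) (.node (.node (.leaf 13901093) (.leaf 7133076)) (.node (.leaf 83607602) (.leaf 105272046))))) (.node (.node (.node (.node (.leaf 81150000) (.leaf 256852016)) (.node (.leaf 300128533) (.leaf 37503024))) (.node (.node (.leaf 50905138) (.leaf 294633520)) (.node (.leaf 81231922) (.leaf 36487216)))) (.node (.node (.node (.leaf 15351858) (.leaf 224133170)) (.node (.leaf 40949670) (.leaf 104287372))) (.node (.node (.leaf 73547824) (.leaf 233737537)) (.node (.leaf 272306596) (.leaf 258752560)))))))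

/-- A Schreier factor, part 287. -/
def facCodePart287 : Janko1.Tree ℕ := (.node (.node (.node (.node (.node (.node (.leaf 121901698) (.leaf 241451056)) (.node (.leaf 90150908) (.leaf 101581312))) (.node (.node (.leaf 289923038) (.leaf 70082365)) (.node (.leaf 195706930) (.leaf 258719792)))) (.node (.node (.node (.leaf 352567346) (.leaf 241436953)) (.node (.leaf 316559937) (.leaf 101555592))) (.node (.node (.leaf 57579394) (.leaf 292077616)) (.node (.leaf 169743170) (.leaf 41582628))))) (.node (.node (.node (.node (.leaf 89413709) (.leaf 6915346)) (.node (.leaf 263364736) (.leaf 36470832))) (.node (.node (.leaf 216891441) (.leaf 655408)) (.node (.leaf 190207273) (.leaf 188973784)))) (.node (.node (.node (.leaf 136888369) (.leaf 73121840)) (.node (.leaf 163042142) (.leaf 199036772))) (.node (.node (.leaf 352587206) (.leaf 233848882)) (.node (.leaf 222863302) (.leaf 224018482)))))) (.node (.node (.node (.node (.node (.leaf 258973801) (.leaf 105119792)) (.node (.leaf 276880349) (.leaf 239075376))) (.node (.node (.leaf 105971760) (.leaf 37306416))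 (.node (.leaf 142952897) (.leaf 1707658)))) (.node (.node (.node (.leaf 169774900) (.leaf 294439170)) (.node (.leaf 7438384) (.leaf 276545584))) (.node (.node (.leaf 15384626) (.leaf 239046632)) (.node (.leaf 113036912) (.leaf 1671216))))) (.node (.node (.node (.node (.leaf 267763760) (.leaf 199147570)) (.node (.leaf 98145969) (.leaf 40736328))) (.node (.node (.leaf 285382354) (.leaf 5980208)) (.node (.leaf 121783256) (.leaf 188865998)))) (.node (.node (.node (.leaf 32604209) (.leaf 215352240)) (.node (.leaf 66076721) (.leaf 100646960))) (.node (.node (.leaf 25166253) (.leaf 69107760)) (.node (.leaf 360628274) (.leaf 1638448)))))))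

/-- A Schreier factor, part 288. -/
def facCodePart288 : Janko1.Tree ℕ := (.node (.node (.node (.node (.node (.node (.leaf 324763698) (.leaf 294387760)) (.node (.leaf 154307722) (.leaf 276517576))) (.node (.node (.leaf 159144990) (.leaf 105153113)) (.node (.leaf 185729072) (.leaf 239091760)))) (.node (.node (.node (.leaf 76743077) (.leaf 100679728)) (.node (.leaf 233275440) (.leaf 192299340))) (.node (.node (.leaf 9437233) (.leaf 218926432)) (.node (.leaf 153337904) (.leaf 5963824))))) (.node (.node (.node (.node (.leaf 95536888) (.leaf 204079154)) (.node (.leaf 289013810) (.leaf 230424626))) (.node (.node (.leaf 30327361) (.leaf 69156912)) (.node (.leaf 332730761) (.leaf 37293278)))) (.node (.node (.node (.leaf 231822068) (.leaf 1622064)) (.node (.leaf 220201008) (.leaf 105140306))) (.node (.node (.leaf 95556069) (.leaf 292128905)) (.node (.leaf 289051565) (.leaf 274340390)))))) (.node (.node (.node (.node (.node (.leaf 253575218) (.leaf 41648176)) (.node (.leaf 127598642) (.leaf 241418288))) (.node (.node (.leaf 64536626) (.leaf 101533928))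 (.node (.leaf 206094384) (.leaf 70041648)))) (.node (.node (.node (.leaf 328158414) (.leaf 104235056)) (.node (.leaf 157861241) (.leaf 706398))) (.node (.node (.leaf 184667133) (.leaf 209095288)) (.node (.leaf 134160574) (.leaf 235569818))))) (.node (.node (.node (.node (.leaf 360665194) (.leaf 73079500)) (.node (.leaf 324796466) (.leaf 187285554))) (.node (.node (.leaf 165740592) (.leaf 36527506)) (.node (.leaf 181717380) (.leaf 204226610)))) (.node (.node (.node (.leaf 192355132) (.leaf 230578913)) (.node (.leaf 337002544) (.leaf 292115290))) (.node (.node (.leaf 84557873) (.leaf 41615408)) (.node (.leaf 354861104) (.leaf 6930480)))))))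

/-- A Schreier factor, part 289. -/
def facCodePart289 : Janko1.Tree ℕ := (.node (.node (.node (.node (.node (.node (.leaf 18571557) (.leaf 241392440)) (.node (.leaf 51789873) (.leaf 101515312))) (.node (.node (.leaf 146374704) (.leaf 70031462)) (.node (.leaf 279895568) (.leaf 241696816)))) (.node (.node (.node (.leaf 65657785) (.leaf 292394973)) (.node (.leaf 97132166) (.leaf 7159856))) (.node (.node (.leaf 258655520) (.leaf 36130581)) (.node (.leaf 111804465) (.leaf 344112))))) (.node (.node (.node (.node (.leaf 80379953) (.leaf 75481138)) (.node (.leaf 276619620) (.leaf 106660578))) (.node (.node (.leaf 13814376) (.leaf 54837297)) (.node (.leaf 47373602) (.leaf 87064785)))) (.node (.node (.node (.leaf 194024750) (.leaf 36159536)) (.node (.leaf 351455726) (.leaf 381690))) (.node (.node (.leaf 315408434) (.leaf 81234474)) (.node (.leaf 81510448) (.leaf 124620673)))))) (.node (.node (.node (.node (.node (.leaf 235356209) (.leaf 241713200)) (.node (.leaf 208683057) (.leaf 101941296))) (.node (.node (.leaf 351425841) (.leaf 74301488)) (.node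 (.leaf 41223105) (.leaf 37568560)))) (.node (.node (.node (.leaf 220987442) (.leaf 1984280)) (.node (.leaf 272532218) (.leaf 87195698))) (.node (.node (.leaf 228704434) (.leaf 118603826)) (.node (.leaf 290226973) (.leaf 5673520))))) (.node (.node (.node (.node (.leaf 147882033) (.leaf 106446898)) (.node (.leaf 174850097) (.leaf 38240305))) (.node (.node (.leaf 33376557) (.leaf 38310352)) (.node (.leaf 79420930) (.leaf 93159474)))) (.node (.node (.node (.leaf 279857050) (.leaf 124756137)) (.node (.leaf 13090866) (.leaf 5693384))) (.node (.node (.leaf 47568896) (.leaf 44433457)) (.node (.leaf 89146638) (.leaf 44498993)))))))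

/-- A Schreier factor, part 290. -/
def facCodePart290 : Janko1.Tree ℕ := (.node (.node (.node (.node (.node (.node (.leaf 263029760) (.leaf 105352152)) (.node (.leaf 103892574) (.leaf 74323118))) (.node (.node (.leaf 72501876) (.leaf 256939693)) (.node (.leaf 281073382) (.leaf 239325594)))) (.node (.node (.node (.leaf 4194353) (.leaf 2015280)) (.node (.leaf 39190577) (.leaf 294699056))) (.node (.node (.leaf 303317042) (.leaf 170737714)) (.node (.leaf 85753906) (.leaf 120439357))))) (.node (.node (.node (.node (.leaf 20421973) (.leaf 140560942)) (.node (.leaf 292110384) (.leaf 20348976))) (.node (.node (.leaf 238878768) (.leaf 303464496)) (.node (.leaf 305463344) (.leaf 249790512)))) (.node (.node (.node (.leaf 252072478) (.leaf 117278326)) (.node (.leaf 228871525) (.leaf 20340277))) (.node (.node (.leaf 175923200) (.leaf 303431728)) (.node (.leaf 172572722) (.leaf 117250440)))))) (.node (.node (.node (.node (.node (.leaf 108873084) (.leaf 89608265)) (.node (.leaf 20060849) (.leaf 57663202))) (.node (.node (.leaf 156866057) (.leaf 52740144))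 (.node (.leaf 183762993) (.leaf 148684850)))) (.node (.node (.node (.leaf 160448561) (.leaf 84983856)) (.node (.leaf 209848194) (.leaf 132762941))) (.node (.node (.leaf 186482737) (.leaf 23855152)) (.node (.leaf 372152580) (.leaf 167428685))))) (.node (.node (.node (.node (.leaf 337105084) (.leaf 23937072)) (.node (.leaf 374358066) (.leaf 120389680))) (.node (.node (.leaf 203046962) (.leaf 52789296)) (.node (.leaf 149143602) (.leaf 143704114)))) (.node (.node (.node (.leaf 305709104) (.leaf 283266478)) (.node (.leaf 252349549) (.leaf 57704496))) (.node (.node (.leaf 292430124) (.leaf 89588193)) (.node (.leaf 239126313) (.leaf 265179328)))))))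

/-- A Schreier factor, part 291. -/
def facCodePart291 : Janko1.Tree ℕ := (.node (.node (.node (.node (.node (.node (.leaf 62849072) (.leaf 249757744)) (.node (.leaf 94732336) (.leaf 117227568))) (.node (.node (.leaf 38092848) (.leaf 20389969)) (.node (.leaf 70997318) (.leaf 303480880)))) (.node (.node (.node (.leaf 57245746) (.leaf 57688112)) (.node (.leaf 116473906) (.leaf 89571376))) (.node (.node (.leaf 53264414) (.leaf 265163785)) (.node (.leaf 19783334) (.leaf 117211184))))) (.node (.node (.node (.node (.leaf 108550442) (.leaf 20365360)) (.node (.leaf 7323697) (.leaf 159203378))) (.node (.node (.leaf 41943089) (.leaf 23904304)) (.node (.leaf 29216264) (.leaf 120373296)))) (.node (.node (.node (.leaf 62390321) (.leaf 145358898)) (.node (.leaf 105218097) (.leaf 175849522))) (.node (.node (.leaf 74043406) (.leaf 84951088)) (.node (.leaf 125388588) (.leaf 52773485)))))) (.node (.node (.node (.node (.node (.leaf 367007146) (.leaf 53730626)) (.node (.leaf 331727772) (.leaf 285245488))) (.node (.node (.leaf 191465854) (.leaf 121326172)) (.node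 (.leaf 135184434) (.leaf 24641584)))) (.node (.node (.node (.leaf 365729232) (.leaf 19449506)) (.node (.leaf 325615664) (.leaf 116277296))) (.node (.node (.leaf 190005296) (.leaf 165658674)) (.node (.leaf 183648304) (.leaf 152313258))))) (.node (.node (.node (.node (.leaf 39059506) (.leaf 177438770)) (.node (.leaf 222594685) (.leaf 88806106))) (.node (.node (.leaf 229195993) (.leaf 147038022)) (.node (.leaf 144804189) (.leaf 53706800)))) (.node (.node (.node (.leaf 175128625) (.leaf 85786672)) (.node (.leaf 197804081) (.leaf 247693360))) (.node (.node (.leaf 257885801) (.leaf 247679938)) (.node (.leaf 378839453) (.leaf 139140029)))))))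

/-- A Schreier factor, part 292. -/
def facCodePart292 : Janko1.Tree ℕ := (.node (.node (.node (.node (.node (.node (.leaf 325911390) (.leaf 56841154)) (.node (.leaf 312082480) (.leaf 178995250))) (.node (.node (.leaf 210523589) (.leaf 116246585)) (.node (.leaf 163790896) (.leaf 19504657)))) (.node (.node (.node (.leaf 190332976) (.leaf 169238304)) (.node (.leaf 161005996) (.leaf 56820270))) (.node (.node (.leaf 164347954) (.leaf 174063666)) (.node (.leaf 141975050) (.leaf 164202388))))) (.node (.node (.node (.node (.leaf 14569356) (.leaf 121262524)) (.node (.leaf 48234545) (.leaf 247665713))) (.node (.node (.leaf 123670136) (.leaf 267518000)) (.node (.leaf 91914289) (.leaf 85754608)))) (.node (.node (.node (.leaf 111465638) (.leaf 53747068)) (.node (.leaf 80068657) (.leaf 285265986))) (.node (.node (.leaf 118554674) (.leaf 20629132)) (.node (.leaf 55181362) (.leaf 303677488)))))) (.node (.node (.node (.node (.node (.leaf 122639297) (.leaf 250073470)) (.node (.leaf 59375666) (.leaf 117588016))) (.node (.node (.leaf 101028244) (.leaf 89866288))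 (.node (.leaf 786480) (.leaf 265502768)))) (.node (.node (.node (.leaf 23265329) (.leaf 2736177)) (.node (.leaf 18765549) (.leaf 42893533))) (.node (.node (.leaf 52068377) (.leaf 2835860)) (.node (.leaf 87673354) (.leaf 3350664))))) (.node (.node (.node (.node (.leaf 83640369) (.leaf 2605105)) (.node (.leaf 375440265) (.leaf 10179472))) (.node (.node (.leaf 340253409) (.leaf 32049196)) (.node (.leaf 373211186) (.leaf 48923512)))) (.node (.node (.node (.leaf 338198578) (.leaf 10256434)) (.node (.leaf 147570738) (.leaf 10076209))) (.node (.node (.leaf 243599525) (.leaf 303710256)) (.node (.leaf 247864040) (.leaf 117604425)))))))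

/-- A Schreier factor, part 293. -/
def facCodePart293 : Janko1.Tree ℕ := (.node (.node (.node (.node (.node (.node (.leaf 46435286) (.leaf 89899056)) (.node (.leaf 78856240) (.leaf 265535536))) (.node (.node (.leaf 54591536) (.leaf 283477284)) (.node (.leaf 86687792) (.leaf 58004156)))) (.node (.node (.node (.leaf 227262514) (.leaf 283496929)) (.node (.leaf 101269552) (.leaf 20661048))) (.node (.node (.leaf 141901873) (.leaf 38879282)) (.node (.leaf 168644542) (.leaf 7739372))))) (.node (.node (.node (.node (.leaf 152033409) (.leaf 59005736)) (.node (.leaf 178618417) (.leaf 22004949))) (.node (.node (.leaf 194691121) (.leaf 21561394)) (.node (.leaf 231522353) (.leaf 21446705)))) (.node (.node (.node (.leaf 204980273) (.leaf 8568882)) (.node (.leaf 304398386) (.leaf 45121586))) (.node (.node (.leaf 268993724) (.leaf 14732986)) (.node (.leaf 26609384) (.leaf 27705394)))))) (.node (.node (.node (.node (.node (.leaf 87703602) (.leaf 27590705)) (.node (.leaf 301088816) (.leaf 283509969))) (.node (.node (.leaf 296672112) (.leaf 89838794)) (.node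 (.leaf 86428086) (.leaf 117555248)))) (.node (.node (.node (.leaf 78561328) (.leaf 303746338)) (.node (.leaf 37879856) (.leaf 52838448))) (.node (.node (.leaf 85791645) (.leaf 19547453)) (.node (.leaf 62625270) (.leaf 143693654))))) (.node (.node (.node (.node (.leaf 54431924) (.leaf 88901385)) (.node (.leaf 305400404) (.leaf 154255410))) (.node (.node (.leaf 50136782) (.leaf 180813874)) (.node (.leaf 53788722) (.leaf 303514192)))) (.node (.node (.node (.leaf 868826) (.leaf 285327408)) (.node (.leaf 28152126) (.leaf 85871342))) (.node (.node (.leaf 19911116) (.leaf 247743013)) (.node (.leaf 250024524) (.leaf 57760196)))))))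

/-- A Schreier factor, part 294. -/
def facCodePart294 : Janko1.Tree ℕ := (.node (.node (.node (.node (.node (.node (.leaf 236375048) (.leaf 303504034)) (.node (.leaf 78774320) (.leaf 285294640))) (.node (.node (.leaf 212975665) (.leaf 117344254)) (.node (.leaf 247926733) (.leaf 24690736)))) (.node (.node (.node (.leaf 108773424) (.leaf 52807994)) (.node (.leaf 229474358) (.leaf 19529776))) (.node (.node (.leaf 116737226) (.leaf 136091733)) (.node (.leaf 202376145) (.leaf 120479329))))) (.node (.node (.node (.node (.leaf 356941874) (.leaf 88883248)) (.node (.leaf 354631730) (.leaf 172579372))) (.node (.node (.leaf 62954004) (.leaf 140697082)) (.node (.leaf 203378318) (.leaf 88873794)))) (.node (.node (.node (.leaf 305676336) (.leaf 157024306)) (.node (.leaf 167166001) (.leaf 184057906))) (.node (.node (.leaf 292339760) (.leaf 52887600)) (.node (.leaf 318685234) (.leaf 117309488)))))) (.node (.node (.node (.node (.node (.leaf 321016157) (.leaf 303547248)) (.node (.leaf 148639765) (.leaf 285360176))) (.node (.node (.leaf 105071986) (.leaf 57789540))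 (.node (.leaf 125173809) (.leaf 265244569)))) (.node (.node (.node (.leaf 78487709) (.leaf 247717894)) (.node (.leaf 247726128) (.leaf 85825057))) (.node (.node (.leaf 117227996) (.leaf 88837645)) (.node (.leaf 85165041) (.leaf 52871216))))) (.node (.node (.node (.node (.leaf 283148614) (.leaf 19578928)) (.node (.leaf 183722409) (.leaf 267652809))) (.node (.node (.leaf 378471266) (.leaf 301206750)) (.node (.leaf 161464370) (.leaf 116362548)))) (.node (.node (.node (.leaf 313498356) (.leaf 139083826)) (.node (.leaf 224542769) (.leaf 150683698))) (.node (.node (.leaf 197024742) (.leaf 177406002)) (.node (.leaf 227655729) (.leaf 116342832)))))))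

/-- A Schreier factor, part 295. -/
def facCodePart295 : Janko1.Tree ℕ := (.node (.node (.node (.node (.node (.node (.leaf 203907078) (.leaf 85052132)) (.node (.leaf 144703537) (.leaf 134479922))) (.node (.node (.leaf 321213561) (.leaf 23958034)) (.node (.leaf 222543920) (.leaf 53796962)))) (.node (.node (.node (.leaf 103568620) (.leaf 20414512)) (.node (.leaf 229113904) (.leaf 267632688))) (.node (.node (.leaf 107448116) (.leaf 249846965)) (.node (.leaf 71667972) (.leaf 121372720))))) (.node (.node (.node (.node (.leaf 275742770) (.leaf 89686064)) (.node (.leaf 277823538) (.leaf 283279408))) (.node (.node (.leaf 183975984) (.leaf 301237374)) (.node (.leaf 191137489) (.leaf 89653248)))) (.node (.node (.node (.leaf 378754116) (.leaf 267599920)) (.node (.leaf 165266356) (.leaf 20480048))) (.node (.node (.leaf 43737204) (.leaf 56868912)) (.node (.leaf 155983180) (.leaf 23976209)))))) (.node (.node (.node (.node (.node (.leaf 136249392) (.leaf 178913330)) (.node (.leaf 8838032) (.leaf 85040497))) (.node (.node (.leaf 240469252) (.leaf 142200437))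 (.node (.leaf 3784754) (.leaf 169168986)))) (.node (.node (.node (.leaf 27361329) (.leaf 116293680)) (.node (.leaf 320880688) (.leaf 85022124))) (.node (.node (.leaf 14516273) (.leaf 137789490)) (.node (.leaf 316522544) (.leaf 164151346))))) (.node (.node (.node (.node (.leaf 214730656) (.leaf 283335126)) (.node (.leaf 222253273) (.leaf 121356336))) (.node (.node (.leaf 346972402) (.leaf 249823292)) (.node (.leaf 190791730) (.leaf 53840797)))) (.node (.node (.node (.leaf 349242860) (.leaf 20447280)) (.node (.leaf 115056272) (.leaf 117637168))) (.node (.node (.leaf 94371888) (.leaf 86147120)) (.node (.leaf 18710577) (.leaf 58064944)))))))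

/-- A Schreier factor, part 296. -/
def facCodePart296 : Janko1.Tree ℕ := (.node (.node (.node (.node (.node (.node (.leaf 100927674) (.leaf 21463090)) (.node (.leaf 119226418) (.leaf 19169328))) (.node (.node (.leaf 87064626) (.leaf 7980273)) (.node (.leaf 91127858) (.leaf 22216754)))) (.node (.node (.node (.leaf 286244914) (.leaf 55230514)) (.node (.leaf 46486520) (.leaf 27623474))) (.node (.node (.leaf 211673508) (.leaf 19209041)) (.node (.leaf 54680146) (.leaf 15537320))))) (.node (.node (.node (.node (.leaf 296866225) (.leaf 14999258)) (.node (.leaf 301275970) (.leaf 28246066))) (.node (.node (.leaf 162201649) (.leaf 61390898)) (.node (.leaf 11213424) (.leaf 285626062)))) (.node (.node (.node (.leaf 174640557) (.leaf 117656034)) (.node (.leaf 322247825) (.leaf 265601072))) (.node (.node (.leaf 150519858) (.leaf 247955504)) (.node (.leaf 319849845) (.leaf 58086828)))))) (.node (.node (.node (.node (.node (.leaf 147030066) (.leaf 24952880)) (.node (.leaf 221397041) (.leaf 58114096))) (.node (.node (.leaf 70926384) (.leaf 247922736)) (.node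 (.leaf 151945265) (.leaf 303792176)))) (.node (.node (.node (.leaf 124932937) (.leaf 3588146)) (.node (.leaf 355847710) (.leaf 59261617))) (.node (.node (.leaf 204062770) (.leaf 2719794)) (.node (.leaf 358074785) (.leaf 19234864))))) (.node (.node (.node (.node (.leaf 76005425) (.leaf 45023282)) (.node (.leaf 46186709) (.leaf 31573430))) (.node (.node (.leaf 301039664) (.leaf 31965234)) (.node (.leaf 44171313) (.leaf 65503282)))) (.node (.node (.node (.leaf 296583342) (.leaf 10164560)) (.node (.leaf 64790585) (.leaf 19273281))) (.node (.node (.leaf 26203712) (.leaf 86118353)) (.node (.leaf 248791090) (.leaf 303824944)))))))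

/-- A Schreier factor, part 297. -/
def facCodePart297 : Janko1.Tree ℕ := (.node (.node (.node (.node (.node (.node (.leaf 20454152) (.leaf 144048658)) (.node (.leaf 125769336) (.leaf 211061721))) (.node (.node (.leaf 113561388) (.leaf 20217904)) (.node (.leaf 85578618) (.leaf 58491708)))) (.node (.node (.node (.leaf 69537550) (.leaf 300433456)) (.node (.leaf 89462273) (.leaf 264749104))) (.node (.node (.leaf 93110320) (.leaf 121700400)) (.node (.leaf 53091176) (.leaf 267212622))))) (.node (.node (.node (.node (.leaf 303481106) (.leaf 302743834)) (.node (.leaf 210403377) (.leaf 117686320))) (.node (.node (.leaf 279035952) (.leaf 267190320)) (.node (.leaf 229015602) (.leaf 85442608)))) (.node (.node (.node (.leaf 149560177) (.leaf 197625150)) (.node (.leaf 270237744) (.leaf 197656625))) (.node (.node (.leaf 372245601) (.leaf 264724534)) (.node (.leaf 172474896) (.leaf 121651248)))))) (.node (.node (.node (.node (.node (.leaf 374497310) (.leaf 58540080)) (.node (.leaf 175737126) (.leaf 300489265))) (.node (.node (.leaf 41631793) (.leaf 302759984))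 (.node (.leaf 62046257) (.leaf 117670184)))) (.node (.node (.node (.leaf 283237601) (.leaf 121642816)) (.node (.leaf 94388273) (.leaf 58523696))) (.node (.node (.leaf 53354153) (.leaf 148946993)) (.node (.leaf 120766514) (.leaf 189186097))))) (.node (.node (.node (.node (.leaf 267638680) (.leaf 89163442)) (.node (.leaf 116672694) (.leaf 24567541))) (.node (.node (.leaf 35315384) (.leaf 90112048)) (.node (.leaf 330186800) (.leaf 86229040)))) (.node (.node (.node (.leaf 188940336) (.leaf 142508701)) (.node (.leaf 188029688) (.leaf 209403953))) (.node (.node (.leaf 365051954) (.leaf 142491697)) (.node (.leaf 160891365) (.leaf 53559344)))))))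

/-- A Schreier factor, part 298. -/
def facCodePart298 : Janko1.Tree ℕ := (.node (.node (.node (.node (.node (.node (.leaf 171540529) (.leaf 57540656)) (.node (.leaf 143445168) (.leaf 138040310))) (.node (.node (.leaf 174759816) (.leaf 204474182)) (.node (.leaf 150150442) (.leaf 120848432)))) (.node (.node (.node (.leaf 4554802) (.leaf 282591280)) (.node (.leaf 176230632) (.leaf 247250992))) (.node (.node (.leaf 9509276) (.leaf 90082514)) (.node (.leaf 260079666) (.leaf 21069872))))) (.node (.node (.node (.node (.leaf 237034517) (.leaf 284657806)) (.node (.leaf 234864689) (.leaf 90062896))) (.node (.node (.leaf 330580016) (.leaf 25337661)) (.node (.leaf 209354800) (.leaf 53608496)))) (.node (.node (.node (.leaf 189137765) (.leaf 195926041)) (.node (.leaf 149815344) (.leaf 53582581))) (.node (.node (.leaf 47827052) (.leaf 116752957)) (.node (.leaf 92508976) (.leaf 191027020)))))) (.node (.node (.node (.node (.node (.leaf 357138480) (.leaf 120820616)) (.node (.leaf 80658481) (.leaf 57557040))) (.node (.node (.leaf 352550960) (.leaf 150896689))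 (.node (.leaf 138461234) (.leaf 249316964)))) (.node (.node (.node (.leaf 55853105) (.leaf 58834992)) (.node (.leaf 29147184) (.leaf 121995312))) (.node (.node (.leaf 88293425) (.leaf 117932080)) (.node (.leaf 274399280) (.leaf 267403312))))) (.node (.node (.node (.node (.leaf 287510321) (.leaf 54609254)) (.node (.leaf 22797454) (.leaf 8591258))) (.node (.node (.leaf 61489200) (.leaf 91177009)) (.node (.leaf 26705970) (.leaf 88948784)))) (.node (.node (.node (.leaf 268897929) (.leaf 19922992)) (.node (.leaf 261329777) (.leaf 85132193))) (.node (.node (.leaf 168362462) (.leaf 302962934)) (.node (.leaf 29447998) (.leaf 54657072)))))))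

/-- A Schreier factor, part 299. -/
def facCodePart299 : Janko1.Tree ℕ := (.node (.node (.node (.node (.node (.node (.leaf 2408496) (.leaf 267358924)) (.node (.leaf 195352549) (.leaf 265011248))) (.node (.node (.leaf 274710741) (.leaf 300761136)) (.node (.leaf 151175218) (.leaf 75448369)))) (.node (.node (.node (.leaf 117669936) (.leaf 32030769)) (.node (.leaf 265404464) (.leaf 81215537))) (.node (.node (.leaf 107650114) (.leaf 88932400)) (.node (.leaf 261015068) (.leaf 24346672))))) (.node (.node (.node (.node (.leaf 256610550) (.leaf 58578954)) (.node (.leaf 86286321) (.leaf 300498992))) (.node (.node (.leaf 274487980) (.leaf 282673200)) (.node (.leaf 269975600) (.leaf 264823050)))) (.node (.node (.node (.leaf 113770545) (.leaf 247365680)) (.node (.leaf 82231345) (.leaf 121782320))) (.node (.node (.leaf 287604784) (.leaf 90234940)) (.node (.leaf 20547344) (.leaf 86316028)))))) (.node (.node (.node (.node (.node (.leaf 53739569) (.leaf 267255856)) (.node (.leaf 2081792) (.leaf 249419193))) (.node (.node (.leaf 125866810) (.leaf 302815873))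 (.node (.leaf 16173746) (.leaf 284712221)))) (.node (.node (.node (.leaf 49414193) (.leaf 54411312)) (.node (.leaf 357089330) (.leaf 25362480))) (.node (.node (.leaf 318522730) (.leaf 121749524)) (.node (.leaf 145359008) (.leaf 90193968))))) (.node (.node (.node (.node (.leaf 45352840) (.leaf 117735472)) (.node (.leaf 229366628) (.leaf 86295140))) (.node (.node (.leaf 53526576) (.leaf 302794866)) (.node (.leaf 226004513) (.leaf 284694176)))) (.node (.node (.node (.leaf 270194712) (.leaf 302842509)) (.node (.leaf 274794568) (.leaf 249367533))) (.node (.node (.leaf 126124080) (.leaf 264800586)) (.node (.leaf 139854612) (.leaf 247323221)))))))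

/-- A Schreier factor, part 300. -/
def facCodePart300 : Janko1.Tree ℕ := (.node (.node (.node (.node (.node (.node (.leaf 166379569) (.leaf 121733168)) (.node (.leaf 29365385) (.leaf 90165817))) (.node (.node (.leaf 102268976) (.leaf 58642336)) (.node (.leaf 149619037) (.leaf 25414997)))) (.node (.node (.node (.leaf 2300282) (.leaf 282708044)) (.node (.leaf 89112626) (.leaf 302828316))) (.node (.node (.leaf 285261874) (.leaf 284721200)) (.node (.leaf 249839666) (.leaf 54444080))))) (.node (.node (.node (.node (.leaf 24182834) (.leaf 21126113)) (.node (.leaf 53248048) (.leaf 264773401))) (.node (.node (.leaf 121143314) (.leaf 247303481)) (.node (.leaf 57950258) (.leaf 121716784)))) (.node (.node (.node (.leaf 85344304) (.leaf 90128432)) (.node (.leaf 45056048) (.leaf 58606049))) (.node (.node (.leaf 117047346) (.leaf 25397918)) (.node (.leaf 53968946) (.leaf 300521930)))))) (.node (.node (.node (.node (.node (.leaf 104153361) (.leaf 24592432)) (.node (.leaf 72782076) (.leaf 169492862))) (.node (.node (.leaf 348050338) (.leaf 169542536)) (.node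 (.leaf 343556144) (.leaf 235896881)))) (.node (.node (.node (.leaf 132579377) (.leaf 235978801)) (.node (.leaf 100258860) (.leaf 120930352))) (.node (.node (.leaf 361567834) (.leaf 89261344)) (.node (.leaf 39469105) (.leaf 235880497))))) (.node (.node (.node (.node (.leaf 136976070) (.leaf 235968430)) (.node (.leaf 68190257) (.leaf 53649210))) (.node (.node (.leaf 156637393) (.leaf 20300372)) (.node (.leaf 71815189) (.leaf 57589808)))) (.node (.node (.node (.leaf 240355369) (.leaf 164402024)) (.node (.leaf 3672094) (.leaf 164453213))) (.node (.node (.leaf 75776466) (.leaf 230869682)) (.node (.leaf 278003762) (.leaf 230950566)))))))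

/-- A Schreier factor, part 301. -/
def facCodePart301 : Janko1.Tree ℕ := (.node (.node (.node (.node (.node (.node (.leaf 242638945) (.leaf 120919072)) (.node (.leaf 8699954) (.leaf 89227312))) (.node (.node (.leaf 169445269) (.leaf 116834352)) (.node (.leaf 202817584) (.leaf 20267056)))) (.node (.node (.node (.leaf 330484244) (.leaf 116801584)) (.node (.leaf 218431537) (.leaf 85475376))) (.node (.node (.leaf 191681266) (.leaf 222714662)) (.node (.leaf 348346958) (.leaf 222773297))))) (.node (.node (.node (.node (.leaf 237076528) (.leaf 222724145)) (.node (.leaf 154632338) (.leaf 222791798))) (.node (.node (.leaf 164479025) (.leaf 182681649)) (.node (.leaf 347116474) (.leaf 177708562)))) (.node (.node (.node (.leaf 311037166) (.leaf 53674994)) (.node (.leaf 134709298) (.leaf 20316208))) (.node (.node (.leaf 190971954) (.leaf 116768816)) (.node (.leaf 349426870) (.leaf 85462208)))))) (.node (.node (.node (.node (.node (.leaf 313335768) (.leaf 217497649)) (.node (.leaf 175954081) (.leaf 217536296))) (.node (.node (.leaf 214581298) (.leaf 217599526))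 (.node (.leaf 161611826) (.leaf 120887144)))) (.node (.node (.node (.leaf 202543474) (.leaf 89210928)) (.node (.leaf 169132080) (.leaf 57629281))) (.node (.node (.leaf 217915526) (.leaf 24610250)) (.node (.leaf 195678570) (.leaf 177733681))))) (.node (.node (.node (.node (.leaf 87196906) (.leaf 58903769)) (.node (.leaf 21954610) (.leaf 282918960))) (.node (.node (.leaf 91242546) (.leaf 265109552)) (.node (.leaf 251101277) (.leaf 122110000)))) (.node (.node (.node (.leaf 26120181) (.leaf 90472496)) (.node (.leaf 36755994) (.leaf 118037461))) (.node (.node (.leaf 119062578) (.leaf 86563532)) (.node (.leaf 55841866) (.leaf 267491338)))))))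

/-- A Schreier factor, part 302. -/
def facCodePart302 : Janko1.Tree ℕ := (.node (.node (.node (.node (.node (.node (.leaf 69599280) (.leaf 249724976)) (.node (.leaf 60083752) (.leaf 54695788))) (.node (.node (.leaf 93192240) (.leaf 21315632)) (.node (.leaf 238239793) (.leaf 25641008)))) (.node (.node (.node (.leaf 211976241) (.leaf 300817426)) (.node (.leaf 279117872) (.leaf 282951728))) (.node (.node (.leaf 265638337) (.leaf 265148229)) (.node (.leaf 215318577) (.leaf 247644208))))) (.node (.node (.node (.node (.leaf 109973058) (.leaf 118046768)) (.node (.leaf 158138417) (.leaf 86589488))) (.node (.node (.leaf 184945593) (.leaf 267504836)) (.node (.leaf 12156976) (.leaf 249747344)))) (.node (.node (.node (.leaf 117969340) (.leaf 303007814)) (.node (.leaf 135256777) (.leaf 284917808))) (.node (.node (.leaf 161400480) (.leaf 54722773)) (.node (.leaf 21142306) (.leaf 21352618)))))) (.node (.node (.node (.node (.node (.leaf 200809605) (.leaf 303038512)) (.node (.leaf 355960484) (.leaf 284956634))) (.node (.node (.leaf 319717426) (.leaf 54738992))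 (.node (.leaf 146917406) (.leaf 21384093)))) (.node (.node (.node (.leaf 322099717) (.leaf 267436080)) (.node (.leaf 150388786) (.leaf 249695232))) (.node (.node (.leaf 61734960) (.leaf 265060400)) (.node (.leaf 227726504) (.leaf 247618248))))) (.node (.node (.node (.node (.leaf 174817330) (.leaf 122044464)) (.node (.leaf 230998066) (.leaf 25660550))) (.node (.node (.leaf 69902413) (.leaf 282984496)) (.node (.leaf 265326437) (.leaf 303072548)))) (.node (.node (.node (.leaf 107872305) (.leaf 284974130)) (.node (.leaf 76464177) (.leaf 54755376))) (.node (.node (.leaf 283295792) (.leaf 21413936)) (.node (.leaf 260931640) (.leaf 118003732)))))))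

/-- A Schreier factor, part 303. -/
def facCodePart303 : Janko1.Tree ℕ := (.node (.node (.node (.node (.node (.node (.leaf 128112896) (.leaf 86523952)) (.node (.leaf 96272433) (.leaf 267468848))) (.node (.node (.leaf 278796764) (.leaf 249708592)) (.node (.leaf 43392625) (.leaf 122080441)))) (.node (.node (.node (.leaf 20922416) (.leaf 90439728)) (.node (.leaf 109690928) (.leaf 58916912))) (.node (.node (.leaf 30721752) (.leaf 25673776)) (.node (.leaf 64020917) (.leaf 300864829))))) (.node (.node (.node (.node (.leaf 77938737) (.leaf 351518769)) (.node (.leaf 109117489) (.leaf 141705265))) (.node (.node (.leaf 33292336) (.leaf 208554513)) (.node (.leaf 130158926) (.leaf 324550705)))) (.node (.node (.node (.leaf 81756210) (.leaf 360005682)) (.node (.leaf 15974442) (.leaf 380961190))) (.node (.node (.leaf 296681522) (.leaf 360693810)) (.node (.leaf 260949072) (.leaf 379735006)))))) (.node (.node (.node (.node (.node (.leaf 206602609) (.leaf 348176434)) (.node (.leaf 285482338) (.leaf 372654130))) (.node (.node (.leaf 49119280) (.leaf 133988401))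 (.node (.leaf 196198450) (.leaf 200052742)))) (.node (.node (.node (.leaf 142524466) (.leaf 318619697)) (.node (.leaf 367919154) (.leaf 318570545))) (.node (.node (.leaf 332480562) (.leaf 200130658)) (.node (.leaf 222285626) (.leaf 134053937))))) (.node (.node (.node (.node (.leaf 169230386) (.leaf 345804118)) (.node (.leaf 199950385) (.leaf 155303985))) (.node (.node (.leaf 7651376) (.leaf 315605041)) (.node (.leaf 106074033) (.leaf 195018801)))) (.node (.node (.node (.leaf 170508337) (.leaf 360405021)) (.node (.leaf 143376433) (.leaf 155385905))) (.node (.node (.leaf 196218970) (.leaf 351748146)) (.node (.leaf 41175790) (.leaf 360553225)))))))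

/-- A Schreier factor, part 304. -/
def facCodePart304 : Janko1.Tree ℕ := (.node (.node (.node (.node (.node (.node (.leaf 222298162) (.leaf 380750842)) (.node (.leaf 169246770) (.leaf 360169522))) (.node (.node (.leaf 367887624) (.leaf 351044132)) (.node (.leaf 332471717) (.leaf 371541409)))) (.node (.node (.node (.leaf 25411632) (.leaf 363938186)) (.node (.leaf 121868209) (.leaf 347537458))) (.node (.node (.leaf 66715697) (.leaf 357303853)) (.node (.leaf 33019149) (.leaf 372015154))))) (.node (.node (.node (.node (.leaf 57180208) (.leaf 354730033)) (.node (.leaf 16011761) (.leaf 186882698))) (.node (.node (.leaf 260915250) (.leaf 309925438)) (.node (.leaf 112549465) (.leaf 354817478)))) (.node (.node (.node (.leaf 96124977) (.leaf 358958776)) (.node (.leaf 153583664) (.leaf 370524210))) (.node (.node (.leaf 233373924) (.leaf 350060594)) (.node (.leaf 345625646) (.leaf 370098226)))))) (.node (.node (.node (.node (.node (.leaf 327765046) (.leaf 350502962)) (.node (.leaf 208240690) (.leaf 350360077))) (.node (.node (.leaf 154828850) (.leaf 140235336))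 (.node (.leaf 205690922) (.leaf 206851246)))) (.node (.node (.node (.leaf 344801397) (.leaf 350453809)) (.node (.leaf 194560049) (.leaf 201818161))) (.node (.node (.leaf 221085745) (.leaf 319805168)) (.node (.leaf 151601201) (.leaf 201871553))))) (.node (.node (.node (.node (.leaf 337217149) (.leaf 346857501)) (.node (.leaf 192413744) (.leaf 373002604))) (.node (.node (.leaf 165969968) (.leaf 358514738)) (.node (.leaf 96093601) (.leaf 349311362)))) (.node (.node (.node (.leaf 126976521) (.leaf 373768218)) (.node (.leaf 63965724) (.leaf 357867721))) (.node (.node (.leaf 187990065) (.leaf 350622480)) (.node (.leaf 134365713) (.leaf 378377261)))))))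

/-- A Schreier factor, part 305. -/
def facCodePart305 : Janko1.Tree ℕ := (.node (.node (.node (.node (.node (.node (.leaf 158367793) (.leaf 370606130)) (.node (.leaf 96108594) (.leaf 153534513))) (.node (.node (.leaf 185810992) (.leaf 314474545)) (.node (.leaf 159435857) (.leaf 193420294)))) (.node (.node (.node (.leaf 127009496) (.leaf 193519296)) (.node (.leaf 63985964) (.leaf 314364578))) (.node (.node (.leaf 273440132) (.leaf 153600049)) (.node (.leaf 88119361) (.leaf 310788145))))) (.node (.node (.node (.node (.leaf 119506825) (.leaf 188504578)) (.node (.leaf 18989105) (.leaf 310888497))) (.node (.node (.leaf 332403058) (.leaf 148162418)) (.node (.leaf 181166033) (.leaf 349492198)))) (.node (.node (.node (.leaf 7341389) (.leaf 301997961)) (.node (.leaf 105726000) (.leaf 286687282))) (.node (.node (.leaf 91750449) (.leaf 277842093)) (.node (.leaf 123174961) (.leaf 293126194)))))) (.node (.node (.node (.node (.node (.leaf 289691372) (.leaf 302698558)) (.node (.leaf 73351216) (.leaf 275992114))) (.node (.node (.leaf 40845360) (.leaf 5210161))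 (.node (.leaf 79986738) (.leaf 88481294)))) (.node (.node (.node (.leaf 13683128) (.leaf 249085977)) (.node (.leaf 299980726) (.leaf 249004081))) (.node (.node (.leaf 264196746) (.leaf 88555968)) (.node (.leaf 47104050) (.leaf 275890225))))) (.node (.node (.node (.node (.leaf 217995237) (.leaf 12375878)) (.node (.leaf 182245380) (.leaf 12271665))) (.node (.node (.leaf 155484209) (.leaf 279125944)) (.node (.leaf 194527282) (.leaf 287047730)))) (.node (.node (.node (.leaf 89194544) (.leaf 299204658)) (.node (.leaf 57491504) (.leaf 278446130))) (.node (.node (.leaf 335812709) (.leaf 307452942)) (.node (.leaf 33701936) (.leaf 293666866)))))))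

/-- A Schreier factor, part 306. -/
def facCodePart306 : Janko1.Tree ℕ := (.node (.node (.node (.node (.node (.node (.leaf 224925629) (.leaf 302563378)) (.node (.leaf 175623705) (.leaf 286572594))) (.node (.node (.leaf 65886920) (.leaf 284529756)) (.node (.leaf 194502116) (.leaf 240442512)))) (.node (.node (.node (.leaf 141000754) (.leaf 72958001)) (.node (.leaf 335839282) (.leaf 240500785))) (.node (.node (.leaf 167395597) (.leaf 23516849)) (.node (.leaf 113626166) (.leaf 78760856))))) (.node (.node (.node (.node (.leaf 285183428) (.leaf 78856241)) (.node (.leaf 267665456) (.leaf 243828578))) (.node (.node (.leaf 79977162) (.leaf 279019570)) (.node (.leaf 13647922) (.leaf 298703189)))) (.node (.node (.node (.leaf 48893965) (.leaf 287686706)) (.node (.leaf 47071282) (.leaf 287179450))) (.node (.node (.leaf 300040242) (.leaf 278298674)) (.node (.leaf 65506033) (.leaf 369279025)))))) (.node (.node (.node (.node (.node (.leaf 25383952) (.leaf 353865061)) (.node (.leaf 130190749) (.leaf 362222774))) (.node (.node (.leaf 89423921) (.leaf 379623058))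 (.node (.leaf 350240818) (.leaf 354386556)))) (.node (.node (.node (.leaf 142196786) (.leaf 345560242)) (.node (.leaf 316639058) (.leaf 363369025))) (.node (.node (.leaf 166151118) (.leaf 363777441)) (.node (.leaf 89243801) (.leaf 372539442))))) (.node (.node (.node (.node (.leaf 281231408) (.leaf 363692081)) (.node (.leaf 113999920) (.leaf 226625341))) (.node (.node (.leaf 189579313) (.leaf 226689073)) (.node (.leaf 142229554) (.leaf 377552945)))) (.node (.node (.node (.leaf 41091120) (.leaf 181927985)) (.node (.leaf 166142254) (.leaf 181999004))) (.node (.node (.leaf 272416816) (.leaf 353304626)) (.node (.leaf 143589425) (.leaf 362348594)))))))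

/-- A Schreier factor, part 307. -/
def facCodePart307 : Janko1.Tree ℕ := (.node (.node (.node (.node (.node (.node (.leaf 226410545) (.leaf 362758194)) (.node (.leaf 33587248) (.leaf 380639578))) (.node (.node (.leaf 15614002) (.leaf 354975794)) (.node (.leaf 57118106) (.leaf 354549810)))) (.node (.node (.node (.leaf 45457832) (.leaf 371974486)) (.node (.leaf 113180722) (.leaf 345430565))) (.node (.node (.leaf 33281104) (.leaf 173572145)) (.node (.leaf 37721573) (.leaf 213483569))))) (.node (.node (.node (.node (.leaf 16711728) (.leaf 372277297)) (.node (.leaf 210946966) (.leaf 370432606))) (.node (.node (.leaf 234786789) (.leaf 352305202)) (.node (.leaf 327683118) (.leaf 166857330)))) (.node (.node (.node (.leaf 64946225) (.leaf 166936625)) (.node (.leaf 359284784) (.leaf 233424125))) (.node (.node (.leaf 127770956) (.leaf 341445862)) (.node (.leaf 134005364) (.leaf 341497125)))))) (.node (.node (.node (.node (.node (.leaf 76110526) (.leaf 368106748)) (.node (.leaf 99159836) (.leaf 364740657))) (.node (.node (.leaf 253611288) (.leaf 338171292))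 (.node (.leaf 165871664) (.leaf 228376625)))) (.node (.node (.node (.leaf 127811634) (.leaf 161841201)) (.node (.leaf 168476721) (.leaf 364384702))) (.node (.node (.leaf 220351274) (.leaf 347029554)) (.node (.leaf 204636209) (.leaf 364838962))))) (.node (.node (.node (.node (.leaf 221216817) (.leaf 356311026)) (.node (.leaf 291094578) (.leaf 361267250))) (.node (.node (.leaf 127844402) (.leaf 361709618)) (.node (.leaf 206012464) (.leaf 378732594)))) (.node (.node (.node (.leaf 159341628) (.leaf 352930844)) (.node (.leaf 158580785) (.leaf 332500748))) (.node (.node (.leaf 153833985) (.leaf 220086321)) (.node (.leaf 213765797) (.leaf 180226608)))))))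

/-- A Schreier factor, part 308. -/
def facCodePart308 : Janko1.Tree ℕ := (.node (.node (.node (.node (.node (.node (.leaf 211320881) (.leaf 180275724)) (.node (.leaf 362712629) (.leaf 175316122))) (.node (.node (.leaf 184894852) (.leaf 329188114)) (.node (.leaf 234821202) (.leaf 373333356)))) (.node (.node (.node (.leaf 192200752) (.leaf 373396076)) (.node (.leaf 354700950) (.leaf 365035570))) (.node (.node (.leaf 332324316) (.leaf 356188210)) (.node (.leaf 56606769) (.leaf 373571634))))) (.node (.node (.node (.node (.leaf 226742264) (.leaf 355795328)) (.node (.leaf 83968049) (.leaf 373096592))) (.node (.node (.leaf 119586865) (.leaf 346488882)) (.node (.leaf 282066994) (.leaf 283909990)))) (.node (.node (.node (.leaf 13271090) (.leaf 275366533)) (.node (.leaf 244647654) (.leaf 293093426))) (.node (.node (.leaf 40787448) (.leaf 275824690)) (.node (.leaf 276512816) (.leaf 293650481)))))) (.node (.node (.node (.node (.node (.leaf 60426202) (.leaf 266881990)) (.node (.leaf 79760050) (.leaf 120143921))) (.node (.node (.leaf 123273845) (.leaf 40243853))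 (.node (.leaf 140663809) (.leaf 46432305)))) (.node (.node (.node (.leaf 315490354) (.leaf 46481457)) (.node (.leaf 197204616) (.leaf 126293905))) (.node (.node (.leaf 221268346) (.leaf 270206008)) (.node (.leaf 81347698) (.leaf 270254129))))) (.node (.node (.node (.node (.leaf 165421301) (.leaf 308019250)) (.node (.leaf 197268378) (.leaf 293568562))) (.node (.node (.leaf 315457586) (.leaf 302521080)) (.node (.leaf 65838584) (.leaf 284054453)))) (.node (.node (.node (.leaf 171434182) (.leaf 302123489)) (.node (.leaf 221233202) (.leaf 275202098))) (.node (.node (.leaf 148537393) (.leaf 56623117)) (.node (.leaf 290029616) (.leaf 56705073)))))))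

/-- A Schreier factor, part 309. -/
def facCodePart309 : Janko1.Tree ℕ := (.node (.node (.node (.node (.node (.node (.leaf 258808213) (.leaf 104107686)) (.node (.leaf 172284640) (.leaf 104174433))) (.node (.node (.leaf 225001521) (.leaf 302612982)) (.node (.leaf 244631529) (.leaf 305844714)))) (.node (.node (.node (.leaf 82968626) (.leaf 261324849)) (.node (.leaf 111271865) (.leaf 110069389))) (.node (.node (.leaf 89047088) (.leaf 110182449)) (.node (.leaf 51478812) (.leaf 62963761))))) (.node (.node (.node (.node (.leaf 267568402) (.leaf 280726378)) (.node (.leaf 68656660) (.leaf 298614834))) (.node (.node (.leaf 280952880) (.leaf 307513589)) (.node (.leaf 131924017) (.leaf 290046002)))) (.node (.node (.node (.leaf 25329712) (.leaf 307855410)) (.node (.leaf 71893041) (.leaf 299270194))) (.node (.node (.leaf 296799802) (.leaf 326143444)) (.node (.leaf 32047152) (.leaf 353065129)))))) (.node (.node (.node (.node (.node (.leaf 121798705) (.leaf 144965682)) (.node (.leaf 307825404) (.leaf 141433665))) (.node (.node (.leaf 98172976) (.leaf 182272050))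 (.node (.leaf 57753649) (.leaf 185073714)))) (.node (.node (.node (.leaf 368055230) (.leaf 146145330)) (.node (.leaf 165648182) (.leaf 150247442))) (.node (.node (.leaf 139597894) (.leaf 160516789)) (.node (.leaf 196024680) (.leaf 146868718))))) (.node (.node (.node (.node (.leaf 121077808) (.leaf 149504308)) (.node (.leaf 299302960) (.leaf 347275313))) (.node (.node (.leaf 250265648) (.leaf 320340017)) (.node (.leaf 206920806) (.leaf 202938637)))) (.node (.node (.node (.leaf 82446542) (.leaf 202952153)) (.node (.leaf 153239808) (.leaf 347267150))) (.node (.node (.leaf 58720304) (.leaf 136527921)) (.node (.leaf 334676018) (.leaf 157630513)))))))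

/-- A Schreier factor, part 310. -/
def facCodePart310 : Janko1.Tree ℕ := (.node (.node (.node (.node (.node (.node (.leaf 165625906) (.leaf 316948529)) (.node (.leaf 6504496) (.leaf 157597745))) (.node (.node (.leaf 139575346) (.leaf 361889841)) (.node (.leaf 200228913) (.leaf 171696505)))) (.node (.node (.node (.leaf 223871940) (.leaf 158105664)) (.node (.leaf 146284789) (.leaf 158711858))) (.node (.node (.leaf 66846768) (.leaf 155010272)) (.node (.leaf 44992026) (.leaf 136795402))))) (.node (.node (.node (.node (.leaf 24351316) (.leaf 177094706)) (.node (.leaf 11501618) (.leaf 173429938))) (.node (.node (.leaf 112697774) (.leaf 137419385)) (.node (.leaf 130105393) (.leaf 356352049)))) (.node (.node (.node (.leaf 70484017) (.leaf 311328817)) (.node (.leaf 90226736) (.leaf 311345201))) (.node (.node (.leaf 1660593) (.leaf 149066060)) (.node (.leaf 49909904) (.leaf 356373904)))))) (.node (.node (.node (.node (.node (.leaf 234146026) (.leaf 179847218)) (.node (.leaf 152276356) (.leaf 180570276))) (.node (.node (.leaf 158154802) (.leaf 183222322))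 (.node (.leaf 376553520) (.leaf 209471884)))) (.node (.node (.node (.leaf 160177314) (.leaf 325049360)) (.node (.leaf 43751480) (.leaf 142628889))) (.node (.node (.leaf 308958825) (.leaf 138057320)) (.node (.leaf 271253554) (.leaf 204652593))))) (.node (.node (.node (.node (.leaf 139365234) (.leaf 204675305)) (.node (.leaf 35424196) (.leaf 321524312))) (.node (.node (.leaf 95931341) (.leaf 348438577)) (.node (.leaf 225927156) (.leaf 138086084)))) (.node (.node (.node (.leaf 194920497) (.leaf 161628210)) (.node (.leaf 173755568) (.leaf 151278970))) (.node (.node (.leaf 271273098) (.leaf 169852978)) (.node (.leaf 308903986) (.leaf 156486672)))))))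

/-- A Schreier factor, part 311. -/
def facCodePart311 : Janko1.Tree ℕ := (.node (.node (.node (.node (.node (.node (.leaf 95944754) (.leaf 156785420)) (.node (.leaf 323655026) (.leaf 360824881))) (.node (.node (.leaf 187072560) (.leaf 156188721)) (.node (.leaf 184811569) (.leaf 360841265)))) (.node (.node (.node (.leaf 184451122) (.leaf 150994993)) (.node (.leaf 234160178) (.leaf 191119409))) (.node (.node (.leaf 342474802) (.leaf 312557617)) (.node (.leaf 145473584) (.leaf 312594948))))) (.node (.node (.node (.node (.leaf 158090804) (.leaf 191092841)) (.node (.leaf 115982385) (.leaf 135888946))) (.node (.node (.leaf 88440881) (.leaf 175562837)) (.node (.leaf 51859309) (.leaf 175085532)))) (.node (.node (.node (.leaf 23154694) (.leaf 135102514)) (.node (.leaf 166665381) (.leaf 138841122))) (.node (.node (.leaf 300146644) (.leaf 22942453)) (.node (.leaf 6193200) (.leaf 43892786)))))) (.node (.node (.node (.node (.node (.leaf 129046950) (.leaf 26810277)) (.node (.leaf 294558992) (.leaf 277200945))) (.node (.node (.leaf 47452506) (.leaf 250745012))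 (.node (.leaf 26692270) (.leaf 277187788)))) (.node (.node (.node (.leaf 66609530) (.leaf 9274369)) (.node (.leaf 333568094) (.leaf 280760473))) (.node (.node (.leaf 170737969) (.leaf 97765130)) (.node (.leaf 194385245) (.leaf 97779761))))) (.node (.node (.node (.node (.leaf 112967728) (.leaf 254001201)) (.node (.leaf 24576048) (.leaf 280739889))) (.node (.node (.leaf 144277554) (.leaf 16367665)) (.node (.leaf 191905841) (.leaf 67059762)))) (.node (.node (.node (.leaf 235278302) (.leaf 16793650)) (.node (.leaf 303825504) (.leaf 11781410))) (.node (.node (.leaf 138444849) (.leaf 16439593)) (.node (.leaf 90488880) (.leaf 62980146)))))))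

/-- A Schreier factor, part 312. -/
def facCodePart312 : Janko1.Tree ℕ := (.node (.node (.node (.node (.node (.node (.leaf 371310642) (.leaf 5231817)) (.node (.leaf 170809205) (.leaf 9257010))) (.node (.node (.leaf 220512306) (.leaf 60325938)) (.node (.leaf 333529138) (.leaf 56590386)))) (.node (.node (.node (.leaf 32295500) (.leaf 60792196)) (.node (.leaf 144316166) (.leaf 56202152))) (.node (.node (.leaf 104993178) (.leaf 9931833)) (.node (.leaf 228642669) (.leaf 285966385))))) (.node (.node (.node (.node (.leaf 241614896) (.leaf 76185649)) (.node (.leaf 198739625) (.leaf 242122801))) (.node (.node (.leaf 174899249) (.leaf 76156916)) (.node (.leaf 144560244) (.leaf 26757890)))) (.node (.node (.node (.leaf 110559282) (.leaf 289456177)) (.node (.leaf 261904050) (.leaf 32806962))) (.node (.node (.leaf 50987058) (.leaf 245301297)) (.node (.leaf 79841257) (.leaf 245317681)))))) (.node (.node (.node (.node (.node (.leaf 120784077) (.leaf 81870897)) (.node (.leaf 15564848) (.leaf 32792908))) (.node (.node (.leaf 103842360) (.leaf 32899122)) (.node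 (.leaf 35145445) (.leaf 33374258)))) (.node (.node (.node (.leaf 58398317) (.leaf 28972581)) (.node (.leaf 82153808) (.leaf 45826098))) (.node (.node (.leaf 45569828) (.leaf 171396340)) (.node (.leaf 11338018) (.leaf 370771354))))) (.node (.node (.node (.node (.leaf 90275889) (.leaf 370646964)) (.node (.leaf 254483741) (.leaf 370737201))) (.node (.node (.leaf 307757104) (.leaf 171425841)) (.node (.leaf 113098802) (.leaf 154943538)))) (.node (.node (.node (.leaf 49519693) (.leaf 185324345)) (.node (.leaf 278806578) (.leaf 155680818))) (.node (.node (.leaf 10862642) (.leaf 157966384)) (.node (.leaf 243318834) (.leaf 184909874)))))))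

/-- A Schreier factor, part 313. -/
def facCodePart313 : Janko1.Tree ℕ := (.node (.node (.node (.node (.node (.node (.leaf 90410316) (.leaf 163643442)) (.node (.leaf 153059377) (.leaf 160060778))) (.node (.node (.leaf 245946600) (.leaf 163168306)) (.node (.leaf 299221040) (.leaf 134234162)))) (.node (.node (.node (.leaf 24631526) (.leaf 338575409)) (.node (.leaf 192266290) (.leaf 229392433))) (.node (.node (.leaf 139075773) (.leaf 338463184)) (.node (.leaf 314168308) (.leaf 338562544))))) (.node (.node (.node (.node (.leaf 98388256) (.leaf 379127334)) (.node (.leaf 197115953) (.leaf 184565809))) (.node (.node (.leaf 241685496) (.leaf 184731902)) (.node (.leaf 223772721) (.leaf 379158577)))) (.node (.node (.node (.leaf 32374832) (.leaf 168804402)) (.node (.leaf 350388274) (.leaf 141361202))) (.node (.node (.leaf 82083888) (.leaf 176619570)) (.node (.leaf 49971248) (.leaf 146803144)))))) (.node (.node (.node (.node (.node (.leaf 1425457) (.leaf 173785138)) (.node (.leaf 98287665) (.leaf 150143026))) (.node (.node (.leaf 130056241) (.leaf 173366172))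 (.node (.leaf 15605102) (.leaf 216008661)))) (.node (.node (.node (.leaf 278773810) (.leaf 329482289)) (.node (.leaf 243302450) (.leaf 215994457))) (.node (.node (.leaf 64487473) (.leaf 153124914)) (.node (.leaf 186698422) (.leaf 179781682))))) (.node (.node (.node (.node (.leaf 76863428) (.leaf 153927730)) (.node (.leaf 108068913) (.leaf 183140517))) (.node (.node (.leaf 362922034) (.leaf 369630665)) (.node (.leaf 211091506) (.leaf 369688625)))) (.node (.node (.node (.leaf 157319218) (.leaf 169574449)) (.node (.leaf 326844466) (.leaf 169639985))) (.node (.node (.leaf 168035221) (.leaf 339484756)) (.node (.leaf 173855398) (.leaf 231004746)))))))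

/-- A Schreier factor, part 314. -/
def facCodePart314 : Janko1.Tree ℕ := (.node (.node (.node (.node (.node (.node (.leaf 205389873) (.leaf 231036104)) (.node (.leaf 145735728) (.leaf 165380146))) (.node (.node (.leaf 225820720) (.leaf 135299122)) (.node (.leaf 64479305) (.leaf 161517546)))) (.node (.node (.node (.leaf 291283106) (.leaf 138494002)) (.node (.leaf 34722714) (.leaf 135776572))) (.node (.node (.leaf 255744266) (.leaf 161939506)) (.node (.leaf 180429061) (.leaf 142889674))))) (.node (.node (.node (.node (.leaf 134905905) (.leaf 169787442)) (.node (.leaf 363906322) (.leaf 143605810))) (.node (.node (.leaf 237505405) (.leaf 170526646)) (.node (.leaf 127682721) (.leaf 377913393)))) (.node (.node (.node (.leaf 152720576) (.leaf 378011697)) (.node (.leaf 291258418) (.leaf 182829105))) (.node (.node (.leaf 255705138) (.leaf 378034573)) (.node (.leaf 56148017) (.leaf 217661489)))))) (.node (.node (.node (.node (.node (.leaf 193216560) (.leaf 217743409)) (.node (.leaf 84725924) (.leaf 330680524))) (.node (.node (.leaf 234651698) (.leaf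 151520372)) (.node (.leaf 139165744) (.leaf 178290738)))) (.node (.node (.node (.leaf 362872882) (.leaf 151912498)) (.node (.leaf 157253682) (.leaf 147980338))) (.node (.node (.leaf 59965489) (.leaf 9863218)) (.node (.leaf 98078373) (.leaf 44206097))))) (.node (.node (.node (.node (.leaf 66691020) (.leaf 4606546)) (.node (.leaf 26480726) (.leaf 39640578))) (.node (.node (.leaf 241425514) (.leaf 43802650)) (.node (.leaf 294469680) (.leaf 5111858)))) (.node (.node (.node (.leaf 111090198) (.leaf 268459234)) (.node (.leaf 47513650) (.leaf 123493917))) (.node (.node (.leaf 282203044) (.leaf 123421246)) (.node (.leaf 83066930) (.leaf 123519025)))))))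

/-- A Schreier factor, part 315. -/
def facCodePart315 : Janko1.Tree ℕ := (.node (.node (.node (.node (.node (.node (.leaf 17567310) (.leaf 268435505)) (.node (.leaf 246587242) (.leaf 268520224))) (.node (.node (.leaf 164890929) (.leaf 49646568)) (.node (.leaf 208797745) (.leaf 298634654)))) (.node (.node (.node (.leaf 250380336) (.leaf 298713137)) (.node (.leaf 303743024) (.leaf 49666944))) (.node (.node (.leaf 235249140) (.leaf 49725489)) (.node (.leaf 15892528) (.leaf 62160946))))) (.node (.node (.node (.node (.leaf 112872988) (.leaf 33704321)) (.node (.leaf 167985926) (.leaf 66995942))) (.node (.node (.leaf 353688753) (.leaf 29573170)) (.node (.leaf 197362910) (.leaf 62885513)))) (.node (.node (.node (.leaf 143687730) (.leaf 32820336)) (.node (.leaf 202227761) (.leaf 27377714))) (.node (.node (.leaf 254795286) (.leaf 60719154)) (.node (.leaf 228591705) (.leaf 56131634)))))) (.node (.node (.node (.node (.node (.leaf 6556189) (.leaf 107367961)) (.node (.leaf 167952434) (.leaf 259431433))) (.node (.node (.leaf 353702498) (.leaf 259345341))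 (.node (.leaf 317464457) (.leaf 107356272)))) (.node (.node (.node (.leaf 67977870) (.leaf 307348042)) (.node (.leaf 90118865) (.leaf 307413041))) (.node (.node (.leaf 111050802) (.leaf 12353586)) (.node (.leaf 120733744) (.leaf 16353028))))) (.node (.node (.node (.node (.leaf 282263602) (.leaf 11730994)) (.node (.leaf 83106032) (.leaf 45760562))) (.node (.node (.leaf 102137904) (.leaf 317030449)) (.node (.leaf 20958228) (.leaf 362094352)))) (.node (.node (.node (.leaf 69409534) (.leaf 221429810)) (.node (.leaf 36667440) (.leaf 198836274))) (.node (.node (.leaf 61330706) (.leaf 208193976)) (.node (.leaf 301077986) (.leaf 211550952)))))))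

/-- A Schreier factor, part 316. -/
def facCodePart316 : Janko1.Tree ℕ := (.node (.node (.node (.node (.node (.node (.leaf 265306162) (.leaf 235225138)) (.node (.leaf 303415346) (.leaf 195299858))) (.node (.node (.leaf 267748916) (.leaf 224890945)) (.node (.leaf 213045056) (.leaf 226443314)))) (.node (.node (.node (.leaf 278872112) (.leaf 229802034)) (.node (.leaf 283366732) (.leaf 213680178))) (.node (.node (.leaf 149078066) (.leaf 311492657)) (.node (.leaf 145856693) (.leaf 149413529))))) (.node (.node (.node (.node (.leaf 228802582) (.leaf 149425068)) (.node (.leaf 225464908) (.leaf 311476273))) (.node (.node (.leaf 102350896) (.leaf 353128982)) (.node (.leaf 167102220) (.leaf 353143430)))) (.node (.node (.node (.leaf 140283269) (.leaf 144381608)) (.node (.leaf 177182785) (.leaf 211435965))) (.node (.node (.leaf 150081273) (.leaf 326293376)) (.node (.leaf 93275973) (.leaf 235343253)))))) (.node (.node (.node (.node (.node (.leaf 61640320) (.leaf 211473280)) (.node (.leaf 372162610) (.leaf 198721586))) (.node (.node (.leaf 337035314) (.leaf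 221610034)) (.node (.leaf 374443540) (.leaf 208096853)))) (.node (.node (.node (.leaf 74203185) (.leaf 200343602)) (.node (.leaf 125239345) (.leaf 213532722))) (.node (.node (.leaf 265258989) (.leaf 186564658)) (.node (.leaf 278597548) (.leaf 226348106))))) (.node (.node (.node (.node (.leaf 89686066) (.leaf 320421937)) (.node (.leaf 20354922) (.leaf 347444645))) (.node (.node (.leaf 57344050) (.leaf 136612605)) (.node (.leaf 137183280) (.leaf 219709490)))) (.node (.node (.node (.leaf 216652040) (.leaf 197008637)) (.node (.leaf 236820178) (.leaf 206472161))) (.node (.node (.leaf 40190001) (.leaf 209868805)) (.node (.leaf 35831857) (.leaf 223166514)))))))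

/-- A Schreier factor, part 317. -/
def facCodePart317 : Janko1.Tree ℕ := (.node (.node (.node (.node (.node (.node (.leaf 188778658) (.leaf 196149297)) (.node (.leaf 364944702) (.leaf 316069681))) (.node (.node (.leaf 329367602) (.leaf 196165681)) (.node (.leaf 201326641) (.leaf 357662769)))) (.node (.node (.node (.leaf 227754033) (.leaf 151207985)) (.node (.leaf 357285936) (.leaf 312672305))) (.node (.node (.leaf 339380545) (.leaf 191153693)) (.node (.leaf 72335410) (.leaf 188006450))))) (.node (.node (.node (.node (.leaf 9273394) (.leaf 228100122)) (.node (.leaf 39125042) (.leaf 201982829))) (.node (.node (.leaf 137461808) (.leaf 223297586)) (.node (.leaf 181916973) (.leaf 196887085)))) (.node (.node (.node (.leaf 182632496) (.leaf 209633329)) (.node (.leaf 189043552) (.leaf 142721073))) (.node (.node (.leaf 162578480) (.leaf 351994373)) (.node (.leaf 293476157) (.leaf 209618752)))))) (.node (.node (.node (.node (.node (.leaf 92094513) (.leaf 321601585)) (.node (.leaf 123506588) (.leaf 204820333))) (.node (.node (.leaf 352387120) (.leaf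 204791413)) (.node (.leaf 334708784) (.leaf 321617969)))) (.node (.node (.node (.leaf 188170290) (.leaf 202120174)) (.node (.leaf 135086184) (.leaf 231342130))) (.node (.node (.leaf 191534281) (.leaf 191450957)) (.node (.leaf 138330162) (.leaf 215158026))))) (.node (.node (.node (.node (.leaf 214107966) (.leaf 218611762)) (.node (.leaf 217268274) (.leaf 227923844))) (.node (.node (.leaf 87803798) (.leaf 72140045)) (.node (.leaf 119212989) (.leaf 108187248)))) (.node (.node (.node (.leaf 274284592) (.leaf 123666482)) (.node (.leaf 287342640) (.leaf 104153138))) (.node (.node (.leaf 22566909) (.leaf 242253873)) (.node (.leaf 91789532) (.leaf 286149009)))))))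

/-- A Schreier factor, part 318. -/
def facCodePart318 : Janko1.Tree ℕ := (.node (.node (.node (.node (.node (.node (.leaf 26516196) (.leaf 27034896)) (.node (.leaf 55270090) (.leaf 286130225))) (.node (.node (.leaf 122552370) (.leaf 242241508)) (.node (.leaf 59424818) (.leaf 76218417)))) (.node (.node (.node (.leaf 12369968) (.leaf 82001969)) (.node (.leaf 110067760) (.leaf 245455425))) (.node (.node (.leaf 21301793) (.leaf 289605302)) (.node (.leaf 162107114) (.leaf 245436561))))) (.node (.node (.node (.node (.leaf 135696445) (.leaf 82018353)) (.node (.leaf 77529136) (.leaf 109401501))) (.node (.node (.leaf 45252656) (.leaf 82526258)) (.node (.leaf 85430264) (.leaf 130277714)))) (.node (.node (.node (.leaf 53447054) (.leaf 94065321)) (.node (.leaf 338136664) (.leaf 113328685))) (.node (.node (.leaf 194838577) (.leaf 88490034)) (.node (.leaf 221478961) (.leaf 123502642)))))) (.node (.node (.node (.node (.node (.leaf 205160497) (.leaf 76203478)) (.node (.leaf 287670578) (.leaf 108024648))) (.node (.node (.leaf 256786480) (.leaf 92504114)) (.node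 (.leaf 201375794) (.leaf 250855473)))) (.node (.node (.node (.leaf 227166341) (.leaf 277349566)) (.node (.leaf 117771328) (.leaf 97976369))) (.node (.node (.leaf 12083242) (.leaf 16516824)) (.node (.leaf 44091694) (.leaf 280791810))))) (.node (.node (.node (.node (.leaf 64733233) (.leaf 97960646)) (.node (.leaf 53166128) (.leaf 97735768))) (.node (.node (.leaf 77250608) (.leaf 113466410)) (.node (.leaf 304431154) (.leaf 82362418)))) (.node (.node (.node (.leaf 302284850) (.leaf 93919588)) (.node (.leaf 85082162) (.leaf 224758574))) (.node (.node (.leaf 285230033) (.leaf 379404337)) (.node (.leaf 36589829) (.leaf 379376973)))))))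

/-- A Schreier factor, part 319. -/
def facCodePart319 : Janko1.Tree ℕ := (.node (.node (.node (.node (.node (.node (.leaf 53707833) (.leaf 379551793)) (.node (.leaf 57709401) (.leaf 224772145))) (.node (.node (.leaf 287408176) (.leaf 237764658)) (.node (.leaf 85606449) (.leaf 235126834)))) (.node (.node (.node (.leaf 126025776) (.leaf 198233418)) (.node (.leaf 81608753) (.leaf 224829261))) (.node (.node (.leaf 148772113) (.leaf 190316594)) (.node (.leaf 320962610) (.leaf 216844488))))) (.node (.node (.node (.node (.leaf 77629888) (.leaf 229720906)) (.node (.leaf 261146694) (.leaf 329567494))) (.node (.node (.leaf 183869729) (.leaf 329631414)) (.node (.leaf 236537432) (.leaf 176363964)))) (.node (.node (.node (.leaf 12288048) (.leaf 176406577)) (.node (.leaf 199016498) (.leaf 344113201))) (.node (.node (.leaf 356991026) (.leaf 171511553)) (.node (.leaf 61554736) (.leaf 171491377)))))) (.node (.node (.node (.node (.node (.leaf 172965938) (.leaf 171573297)) (.node (.leaf 36904686) (.leaf 344031281))) (.node (.node (.leaf 274636086) (.leaf 224960870))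 (.node (.leaf 24395826) (.leaf 203218690)))) (.node (.node (.node (.leaf 20025624) (.leaf 187039794)) (.node (.leaf 247758898) (.leaf 213499954))) (.node (.node (.leaf 121373449) (.leaf 190169138)) (.node (.leaf 117313676) (.leaf 199802930))))) (.node (.node (.node (.node (.leaf 77316144) (.leaf 226295858)) (.node (.leaf 41993760) (.leaf 229561466))) (.node (.node (.leaf 260784176) (.leaf 365314097)) (.node (.leaf 21072058) (.leaf 365363249)))) (.node (.node (.node (.leaf 125305706) (.leaf 229508724)) (.node (.leaf 12001146) (.leaf 229539889))) (.node (.node (.leaf 349356082) (.leaf 192970802)) (.node (.leaf 347045938) (.leaf 210288690)))))))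

/-- A Schreier factor, part 320. -/
def facCodePart320 : Janko1.Tree ℕ := (.node (.node (.node (.node (.node (.node (.leaf 187596850) (.leaf 236945458)) (.node (.leaf 164741170) (.leaf 233488434))) (.node (.node (.leaf 182338393) (.leaf 196316466)) (.node (.leaf 161423766) (.leaf 223084594)))) (.node (.node (.node (.leaf 5292081) (.leaf 222969905)) (.node (.leaf 35947910) (.leaf 378149806))) (.node (.node (.leaf 361439392) (.leaf 378191921)) (.node (.leaf 216711216) (.leaf 378126385))))) (.node (.node (.node (.node (.leaf 72138801) (.leaf 378175537)) (.node (.leaf 236929072) (.leaf 222986289))) (.node (.node (.leaf 99663921) (.leaf 223072900)) (.node (.leaf 3868805) (.leaf 330778056)))) (.node (.node (.node (.leaf 240418866) (.leaf 330874929)) (.node (.leaf 8949348) (.leaf 177930289))) (.node (.node (.leaf 242751188) (.leaf 178012209)) (.node (.leaf 103619297) (.leaf 177955090)))))) (.node (.node (.node (.node (.node (.leaf 202675734) (.leaf 330866910)) (.node (.leaf 171969232) (.leaf 218663974))) (.node (.node (.leaf 175226929) (.leaf 227999794))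 (.node (.leaf 143510560) (.leaf 231458770)))) (.node (.node (.node (.leaf 150241328) (.leaf 215220274)) (.node (.leaf 277889461) (.leaf 207142962))) (.node (.node (.leaf 75566172) (.leaf 233635890)) (.node (.leaf 71581746) (.leaf 223215666))))) (.node (.node (.node (.node (.leaf 162512944) (.leaf 210454925)) (.node (.leaf 39452722) (.leaf 237113873))) (.node (.node (.leaf 155376266) (.leaf 342924953)) (.node (.leaf 361730665) (.leaf 343002289)))) (.node (.node (.node (.leaf 348225584) (.leaf 169708748)) (.node (.leaf 216875056) (.leaf 342933553))) (.node (.node (.leaf 311132210) (.leaf 231243825)) (.node (.leaf 313409586) (.leaf 366411825)))))))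

/-- A Schreier factor, part 321. -/
def facCodePart321 : Janko1.Tree ℕ := (.node (.node (.node (.node (.node (.node (.leaf 202391600) (.leaf 366432622)) (.node (.leaf 339066940) (.leaf 204931122))) (.node (.node (.leaf 60751921) (.leaf 231279516)) (.node (.leaf 48332849) (.leaf 215121970)))) (.node (.node (.node (.leaf 149919261) (.leaf 218553568)) (.node (.leaf 26254909) (.leaf 88050161))) (.node (.node (.leaf 119295366) (.leaf 92101152)) (.node (.leaf 123371570) (.leaf 72925234))))) (.node (.node (.node (.node (.leaf 269866236) (.leaf 60264568)) (.node (.leaf 119265253) (.leaf 60281249))) (.node (.node (.leaf 115168433) (.leaf 259457073)) (.node (.leaf 29197953) (.leaf 259538993)))) (.node (.node (.node (.leaf 358155609) (.leaf 113410097)) (.node (.leaf 203997234) (.leaf 113475633))) (.node (.node (.leaf 158924849) (.leaf 78043569)) (.node (.leaf 278958961) (.leaf 109300270)))))) (.node (.node (.node (.node (.node (.leaf 110188034) (.leaf 94604393)) (.node (.leaf 211491673) (.leaf 126076560))) (.node (.node (.leaf 147152000) (.leaf 91917397))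 (.node (.leaf 150618162) (.leaf 72777778)))) (.node (.node (.node (.leaf 227852338) (.leaf 76709938)) (.node (.leaf 93380049) (.leaf 107905074))) (.node (.node (.leaf 231198968) (.leaf 87934962)) (.node (.leaf 270074750) (.leaf 123619394))))) (.node (.node (.node (.node (.leaf 178708658) (.leaf 295256113)) (.node (.leaf 221560881) (.leaf 295206961))) (.node (.node (.leaf 231505969) (.leaf 123606961)) (.node (.leaf 2527224) (.leaf 123715633)))) (.node (.node (.node (.leaf 286310828) (.leaf 272080402)) (.node (.leaf 284220433) (.leaf 49760478))) (.node (.node (.leaf 87021222) (.leaf 49856561)) (.node (.leaf 59835117) (.leaf 49840177)))))))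

/-- A Schreier factor, part 322. -/
def facCodePart322 : Janko1.Tree ℕ := (.node (.node (.node (.node (.node (.node (.leaf 44915206) (.leaf 272089137)) (.node (.leaf 55658557) (.leaf 272138289))) (.node (.node (.leaf 283186444) (.leaf 126206002)) (.node (.leaf 31185042) (.leaf 81990396)))) (.node (.node (.node (.leaf 278632625) (.leaf 113380454)) (.node (.leaf 117882928) (.leaf 78233650))) (.node (.node (.leaf 53151853) (.leaf 194890188)) (.node (.leaf 303546418) (.leaf 155172913))))) (.node (.node (.node (.node (.leaf 57163826) (.leaf 360300902)) (.node (.leaf 933936) (.leaf 360366129))) (.node (.node (.leaf 20496434) (.leaf 155240813)) (.node (.leaf 24772925) (.leaf 315412317)))) (.node (.node (.node (.leaf 117817966) (.leaf 315097138)) (.node (.leaf 305594416) (.leaf 324261316))) (.node (.node (.leaf 70566260) (.leaf 344326452)) (.node (.leaf 53837873) (.leaf 342523954)))))) (.node (.node (.node (.node (.node (.leaf 94290672) (.leaf 334023788)) (.node (.leaf 228933682) (.leaf 327335986))) (.node (.node (.leaf 339041837) (.leaf 330581794))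 (.node (.leaf 225542194) (.leaf 339349562)))) (.node (.node (.node (.leaf 202966276) (.leaf 320700466)) (.node (.leaf 108994922) (.leaf 318701618))) (.node (.node (.leaf 199575250) (.leaf 310088705)) (.node (.leaf 243845966) (.leaf 309805105))))) (.node (.node (.node (.node (.leaf 186981862) (.leaf 354713649)) (.node (.leaf 46252080) (.leaf 146391089))) (.node (.node (.leaf 54460464) (.leaf 309739569)) (.node (.leaf 372342834) (.leaf 208357812)))) (.node (.node (.node (.leaf 172547578) (.leaf 324436017)) (.node (.leaf 374546652) (.leaf 351289393))) (.node (.node (.leaf 145967877) (.leaf 351340317)) (.node (.leaf 1248378) (.leaf 324509808)))))))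

/-- A Schreier factor, part 323. -/
def facCodePart323 : Janko1.Tree ℕ := (.node (.node (.node (.node (.node (.node (.leaf 149230658) (.leaf 208457018)) (.node (.leaf 305826616) (.leaf 326342850))) (.node (.node (.leaf 230342705) (.leaf 317292594)) (.node (.leaf 292571337) (.leaf 315644650)))) (.node (.node (.node (.leaf 120721277) (.leaf 337315301)) (.node (.leaf 116595754) (.leaf 329949052))) (.node (.node (.leaf 265175090) (.leaf 327974962)) (.node (.leaf 89508280) (.leaf 312089005))))) (.node (.node (.node (.node (.leaf 116654128) (.leaf 309542962)) (.node (.leaf 108658736) (.leaf 321273906))) (.node (.node (.leaf 243457220) (.leaf 345655101)) (.node (.leaf 54205500) (.leaf 345594142)))) (.node (.node (.node (.leaf 46043328) (.leaf 200001970)) (.node (.leaf 136101936) (.leaf 343284629))) (.node (.node (.leaf 135266354) (.leaf 334431064)) (.node (.leaf 365845221) (.leaf 193205816)))))) (.node (.node (.node (.node (.node (.leaf 378704572) (.leaf 359239284)) (.node (.leaf 189861556) (.leaf 359339045))) (.node (.node (.leaf 68323572) (.leaf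 314261553)) (.node (.leaf 257724237) (.leaf 188287418)))) (.node (.node (.node (.leaf 76193166) (.leaf 188203057)) (.node (.leaf 198459441) (.leaf 331743282))) (.node (.node (.leaf 201670705) (.leaf 337920050)) (.node (.leaf 144359473) (.leaf 321880114))))) (.node (.node (.node (.node (.leaf 170381872) (.leaf 319914034)) (.node (.leaf 295977010) (.leaf 323649586))) (.node (.node (.leaf 293601330) (.leaf 316293170)) (.node (.leaf 156057648) (.leaf 334954546)))) (.node (.node (.node (.leaf 9425965) (.leaf 332236072)) (.node (.leaf 136337856) (.leaf 341025177))) (.node (.node (.leaf 4472882) (.leaf 343851058)) (.node (.leaf 210321456) (.leaf 140050481)))))))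

/-- A Schreier factor, part 324. -/
def facCodePart324 : Janko1.Tree ℕ := (.node (.node (.node (.node (.node (.node (.leaf 190188070) (.leaf 323375038)) (.node (.leaf 329252914) (.leaf 319684929))) (.node (.node (.leaf 217455532) (.leaf 346690454)) (.node (.leaf 331612210) (.leaf 135413809)))) (.node (.node (.node (.leaf 229053412) (.leaf 346603569)) (.node (.leaf 191381554) (.leaf 319569969))) (.node (.node (.leaf 222448984) (.leaf 201703473)) (.node (.leaf 80527409) (.leaf 329309498))))) (.node (.node (.node (.node (.leaf 176767024) (.leaf 310542386)) (.node (.leaf 14106673) (.leaf 319291442))) (.node (.node (.leaf 118610666) (.leaf 257327154)) (.node (.leaf 268786774) (.leaf 266289202)))) (.node (.node (.node (.leaf 87627882) (.leaf 250843046)) (.node (.leaf 101190158) (.leaf 248863973))) (.node (.node (.leaf 91684914) (.leaf 240402482)) (.node (.leaf 124862512) (.leaf 242024498)))))) (.node (.node (.node (.node (.node (.leaf 238995146) (.leaf 240336945)) (.node (.leaf 88145969) (.leaf 72761393))) (.node (.node (.leaf 252182576) (.leaf 23486000))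 (.node (.leaf 84148273) (.leaf 284510885)))) (.node (.node (.node (.leaf 373440562) (.leaf 29409329)) (.node (.leaf 174068366) (.leaf 287727641))) (.node (.node (.leaf 11239472) (.leaf 287801393)) (.node (.leaf 151131006) (.leaf 29462614))))) (.node (.node (.node (.node (.leaf 20190442) (.leaf 78694229)) (.node (.leaf 147676994) (.leaf 243662897))) (.node (.node (.leaf 238125105) (.leaf 243040306)) (.node (.leaf 301498416) (.leaf 251920434)))) (.node (.node (.node (.leaf 161453764) (.leaf 262684722)) (.node (.leaf 227351062) (.leaf 266898616))) (.node (.node (.leaf 338034738) (.leaf 268550194)) (.node (.leaf 340033586) (.leaf 257810562)))))))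

/-- A Schreier factor, part 325. -/
def facCodePart325 : Janko1.Tree ℕ := (.node (.node (.node (.node (.node (.node (.leaf 125059120) (.leaf 239861810)) (.node (.leaf 204659406) (.leaf 248355617))) (.node (.node (.leaf 101405382) (.leaf 251396146)) (.node (.leaf 195139673) (.leaf 248971313)))) (.node (.node (.node (.leaf 141475889) (.leaf 4954245)) (.node (.leaf 62718000) (.leaf 275710001))) (.node (.node (.leaf 151556020) (.leaf 248889393)) (.node (.leaf 302417704) (.leaf 278857717))))) (.node (.node (.node (.node (.leaf 19930905) (.leaf 12189745)) (.node (.leaf 26679566) (.leaf 278912901))) (.node (.node (.leaf 10977328) (.leaf 252461105)) (.node (.leaf 107790385) (.leaf 252485690)))) (.node (.node (.node (.leaf 301190557) (.leaf 253991689)) (.node (.leaf 128046633) (.leaf 245422214))) (.node (.node (.leaf 296788013) (.leaf 243539408)) (.node (.leaf 43489048) (.leaf 260674993)))))) (.node (.node (.node (.node (.node (.leaf 252248112) (.leaf 221708337)) (.node (.leaf 305563170) (.leaf 333561905))) (.node (.node (.leaf 113597837) (.leaf 333627441))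 (.node (.leaf 283281938) (.leaf 326485045)))) (.node (.node (.node (.leaf 85267266) (.leaf 344187178)) (.node (.leaf 19841074) (.leaf 324780082))) (.node (.node (.leaf 247660594) (.leaf 342466170)) (.node (.leaf 285368597) (.leaf 315840172))))) (.node (.node (.node (.node (.leaf 89088317) (.leaf 333974305)) (.node (.leaf 24297522) (.leaf 317210674))) (.node (.node (.leaf 249795405) (.leaf 335448676)) (.node (.leaf 183304489) (.leaf 309461042)))) (.node (.node (.node (.leaf 46350384) (.leaf 312361010)) (.node (.leaf 156385329) (.leaf 330481714))) (.node (.node (.leaf 86459810) (.leaf 339268602)) (.node (.leaf 133565309) (.leaf 336758586)))))))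

/-- A Schreier factor, part 326. -/
def facCodePart326 : Janko1.Tree ℕ := (.node (.node (.node (.node (.node (.node (.leaf 11272240) (.leaf 327696433)) (.node (.leaf 108920880) (.leaf 213221425))) (.node (.node (.leaf 176331582) (.leaf 213319729)) (.node (.leaf 226082866) (.leaf 173498260)))) (.node (.node (.node (.leaf 116853916) (.leaf 372121941)) (.node (.leaf 193759425) (.leaf 168381724))) (.node (.node (.leaf 252565568) (.leaf 168428816)) (.node (.leaf 305776313) (.leaf 369085289))))) (.node (.node (.node (.node (.leaf 220192341) (.leaf 369164337)) (.node (.leaf 203968172) (.leaf 342282920))) (.node (.node (.leaf 239358781) (.leaf 342349260)) (.node (.leaf 292488372) (.leaf 234930225)))) (.node (.node (.node (.leaf 230284294) (.leaf 235044913)) (.node (.leaf 318455933) (.leaf 333386836))) (.node (.node (.leaf 357187934) (.leaf 324194772)) (.node (.leaf 320766002) (.leaf 344719410)))))) (.node (.node (.node (.node (.node (.leaf 41549873) (.leaf 318898226)) (.node (.leaf 54296624) (.leaf 320618546))) (.node (.node (.leaf 61997105) (.leaf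 311772589)) (.node (.leaf 28606513) (.leaf 327911498)))) (.node (.node (.node (.leaf 20004912) (.leaf 226558001)) (.node (.leaf 116572208) (.leaf 336895321))) (.node (.node (.leaf 57871869) (.leaf 336969777)) (.node (.leaf 117145650) (.leaf 363479089))))) (.node (.node (.node (.node (.leaf 11047925) (.leaf 363549262)) (.node (.leaf 108595633) (.leaf 160104497))) (.node (.node (.leaf 53887026) (.leaf 160186417)) (.node (.leaf 72932949) (.leaf 325474341)))) (.node (.node (.node (.leaf 312016944) (.leaf 343195698)) (.node (.leaf 100375005) (.leaf 314721158))) (.node (.node (.leaf 325861424) (.leaf 332677170)) (.node (.leaf 378619885) (.leaf 316247597)))))))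

/-- A Schreier factor, part 327. -/
def facCodePart327 : Janko1.Tree ℕ := (.node (.node (.node (.node (.node (.node (.leaf 349519922) (.leaf 376407693)) (.node (.leaf 171483156) (.leaf 328977364))) (.node (.node (.leaf 196935728) (.leaf 329056305)) (.node (.leaf 174686257) (.leaf 175145009)))) (.node (.node (.node (.leaf 177097620) (.leaf 373217332)) (.node (.leaf 103518446) (.leaf 310496178))) (.node (.node (.leaf 142442544) (.leaf 328613938)) (.node (.leaf 222677794) (.leaf 313511674))))) (.node (.node (.node (.node (.leaf 107364402) (.leaf 322374825)) (.node (.leaf 43818072) (.leaf 337845068))) (.node (.node (.leaf 378904932) (.leaf 314056262)) (.node (.leaf 234986060) (.leaf 332185650)))) (.node (.node (.node (.leaf 191827216) (.leaf 323026994)) (.node (.leaf 312361584) (.leaf 340934706))) (.node (.node (.leaf 218284081) (.leaf 343801906)) (.node (.leaf 75694130) (.leaf 166723633)))))) (.node (.node (.node (.node (.node (.leaf 8768356) (.leaf 367808509)) (.node (.leaf 242568114) (.leaf 367902769))) (.node (.node (.leaf 275922994) (.leaf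 341313648)) (.node (.leaf 71715700) (.leaf 341400534)))) (.node (.node (.node (.leaf 60227633) (.leaf 228261937)) (.node (.leaf 203472944) (.leaf 228334097))) (.node (.node (.leaf 47743025) (.leaf 364502318)) (.node (.leaf 170164272) (.leaf 161660977))))) (.node (.node (.node (.node (.leaf 214649396) (.leaf 320166238)) (.node (.leaf 228983080) (.leaf 321870124))) (.node (.node (.leaf 218005554) (.leaf 312971790)) (.node (.leaf 222387256) (.leaf 311001138)))) (.node (.node (.node (.leaf 55803953) (.leaf 239768660)) (.node (.leaf 22642737) (.leaf 260147630))) (.node (.node (.leaf 51614033) (.leaf 251351824)) (.node (.leaf 62439472) (.leaf 248578098)))))))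

/-- A Schreier factor, part 328. -/
def facCodePart328 : Janko1.Tree ℕ := (.node (.node (.node (.node (.node (.node (.leaf 1015856) (.leaf 257785905)) (.node (.leaf 123207730) (.leaf 56492081))) (.node (.node (.leaf 124780592) (.leaf 302501392)) (.node (.leaf 59981874) (.leaf 302546993)))) (.node (.node (.node (.leaf 188760113) (.leaf 109838385)) (.node (.leaf 248037424) (.leaf 109926628))) (.node (.node (.leaf 301432880) (.leaf 261079089)) (.node (.leaf 215187505) (.leaf 261181428))))) (.node (.node (.node (.node (.leaf 204144690) (.leaf 272023582)) (.node (.leaf 150454330) (.leaf 252411954))) (.node (.node (.leaf 200704050) (.leaf 261226546)) (.node (.leaf 319577466) (.leaf 262619224)))) (.node (.node (.node (.leaf 168297493) (.leaf 249106925)) (.node (.leaf 94552112) (.leaf 266829874))) (.node (.node (.leaf 62783536) (.leaf 250757170)) (.node (.leaf 70781152) (.leaf 259495593)))))) (.node (.node (.node (.node (.node (.leaf 151309106) (.leaf 257703986)) (.node (.leaf 227778042) (.leaf 119980081))) (.node (.node (.leaf 28477324) (.leaf 120083205))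 (.node (.leaf 1351329) (.leaf 293470257)))) (.node (.node (.node (.leaf 101342909) (.leaf 40026161)) (.node (.leaf 177903817) (.leaf 40125434))) (.node (.node (.leaf 76632621) (.leaf 46223900)) (.node (.leaf 127978516) (.leaf 126193670))))) (.node (.node (.node (.node (.leaf 26165776) (.leaf 243187762)) (.node (.leaf 251027220) (.leaf 260603954))) (.node (.node (.leaf 87113778) (.leaf 269537649)) (.node (.leaf 22085682) (.leaf 254741738)))) (.node (.node (.node (.leaf 258064432) (.leaf 317489201)) (.node (.leaf 276004912) (.leaf 198492209))) (.node (.node (.leaf 249167921) (.leaf 158351409)) (.node (.leaf 303374741) (.leaf 198480797)))))))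

/-- A Schreier factor, part 329. -/
def facCodePart329 : Janko1.Tree ℕ := (.node (.node (.node (.node (.node (.node (.leaf 285330662) (.leaf 317522413)) (.node (.leaf 14796458) (.leaf 344294532))) (.node (.node (.leaf 10240049) (.leaf 324681778)) (.node (.leaf 242843698) (.leaf 315752498)))) (.node (.node (.node (.leaf 284872732) (.leaf 318341461)) (.node (.leaf 365985841) (.leaf 320685946))) (.node (.node (.leaf 25101510) (.leaf 311564288)) (.node (.leaf 206036044) (.leaf 149823921))))) (.node (.node (.node (.node (.leaf 232603697) (.leaf 356982280)) (.node (.leaf 56870640) (.leaf 189857841))) (.node (.node (.leaf 334503312) (.leaf 144736305)) (.node (.leaf 129876016) (.leaf 144752689)))) (.node (.node (.node (.leaf 32964656) (.leaf 353550385)) (.node (.leaf 370475057) (.leaf 326665848))) (.node (.node (.leaf 352895025) (.leaf 211812401)) (.node (.leaf 166806237) (.leaf 317276210)))))) (.node (.node (.node (.node (.node (.leaf 219988018) (.leaf 333889586)) (.node (.leaf 271719472) (.leaf 338804786))) (.node (.node (.leaf 289866929) (.leaf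 327540757)) (.node (.leaf 16228788) (.leaf 321258818)))) (.node (.node (.node (.leaf 46137394) (.leaf 203463677)) (.node (.leaf 109682484) (.leaf 320885245))) (.node (.node (.leaf 101171249) (.leaf 136970289)) (.node (.leaf 14831204) (.leaf 320864305))))) (.node (.node (.node (.node (.leaf 283524) (.leaf 203476372)) (.node (.leaf 345030704) (.leaf 316817458))) (.node (.node (.leaf 259522609) (.leaf 341180466)) (.node (.leaf 212860976) (.leaf 343266342)))) (.node (.node (.node (.leaf 133496880) (.leaf 323509776)) (.node (.leaf 295783738) (.leaf 314662540))) (.node (.node (.leaf 95422776) (.leaf 316528244)) (.node (.leaf 185352242) (.leaf 156631089)))))))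

/-- A Schreier factor, part 330. -/
def facCodePart330 : Janko1.Tree ℕ := (.node (.node (.node (.node (.node (.node (.leaf 237977650) (.leaf 361414705)) (.node (.leaf 63183869) (.leaf 361431089))) (.node (.node (.leaf 362364978) (.leaf 316538929)) (.node (.leaf 321503281) (.leaf 313007793)))) (.node (.node (.node (.leaf 339680958) (.leaf 191694180)) (.node (.leaf 336730709) (.leaf 151700153))) (.node (.node (.leaf 354320432) (.leaf 358105137)) (.node (.leaf 226394160) (.leaf 191660081))))) (.node (.node (.node (.node (.leaf 68796466) (.leaf 310450645)) (.node (.leaf 193937886) (.leaf 340433478))) (.node (.node (.leaf 220712797) (.leaf 319406130)) (.node (.leaf 29868082) (.leaf 329416754)))) (.node (.node (.node (.leaf 341016624) (.leaf 341753906)) (.node (.leaf 344047665) (.leaf 332633437))) (.node (.node (.leaf 233063356) (.leaf 334944582)) (.node (.leaf 380256305) (.leaf 322928690)))))) (.node (.node (.node (.node (.node (.leaf 187367473) (.leaf 210124849)) (.node (.leaf 214057009) (.leaf 325620252))) (.node (.node (.leaf 68763698) (.leaf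 352403505)) (.node (.leaf 94962964) (.leaf 352391377)))) (.node (.node (.node (.leaf 300290380) (.leaf 138531529)) (.node (.leaf 282574897) (.leaf 349028401))) (.node (.node (.leaf 219512880) (.leaf 322131713)) (.node (.leaf 237948086) (.leaf 339857944))))) (.node (.node (.node (.node (.leaf 326402098) (.leaf 313278514)) (.node (.leaf 362315826) (.leaf 328876082))) (.node (.node (.leaf 271663152) (.leaf 269123634)) (.node (.leaf 289195670) (.leaf 248479794)))) (.node (.node (.node (.leaf 297762865) (.leaf 250822706)) (.node (.leaf 279953457) (.leaf 266747954))) (.node (.node (.leaf 129581641) (.leaf 257903854)) (.node (.leaf 91078705) (.leaf 27394097)))))))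

/-- A Schreier factor, part 331. -/
def facCodePart331 : Janko1.Tree ℕ := (.node (.node (.node (.node (.node (.node (.leaf 122732593) (.leaf 286539825)) (.node (.leaf 25743734) (.leaf 242539357))) (.node (.node (.leaf 262690130) (.leaf 245833012)) (.node (.leaf 280566713) (.leaf 82395662)))) (.node (.node (.node (.leaf 324093390) (.leaf 33407025)) (.node (.leaf 342163505) (.leaf 290062385))) (.node (.node (.leaf 113393712) (.leaf 290078769)) (.node (.leaf 16498736) (.leaf 33390641))))) (.node (.node (.node (.node (.leaf 377739480) (.leaf 82382589)) (.node (.leaf 48627760) (.leaf 272109796))) (.node (.node (.leaf 80764790) (.leaf 252330002)) (.node (.leaf 316915762) (.leaf 243748458)))) (.node (.node (.node (.leaf 337854909) (.leaf 268536417)) (.node (.leaf 258328614) (.leaf 259558752))) (.node (.node (.leaf 276275488) (.leaf 240255173)) (.node (.leaf 356270129) (.leaf 257427328)))))) (.node (.node (.node (.node (.node (.leaf 105431088) (.leaf 266158130)) (.node (.leaf 172064818) (.leaf 92423925))) (.node (.node (.leaf 225185584) (.leaf 251385085))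 (.node (.leaf 197547085) (.leaf 277863078)))) (.node (.node (.node (.leaf 267143904) (.leaf 98468250)) (.node (.leaf 284655664) (.leaf 254558257))) (.node (.node (.leaf 239457562) (.leaf 281173869)) (.node (.leaf 257081393) (.leaf 16859758))))) (.node (.node (.node (.node (.leaf 121339952) (.leaf 16875569)) (.node (.leaf 293240881) (.leaf 254541873))) (.node (.node (.leaf 245989426) (.leaf 251805746)) (.node (.leaf 262373426) (.leaf 335708209)))) (.node (.node (.node (.leaf 10143441) (.leaf 335765662)) (.node (.leaf 296222770) (.leaf 380239921))) (.node (.node (.leaf 78400957) (.leaf 335777210)) (.node (.leaf 303467528) (.leaf 342148986)))))))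

/-- A Schreier factor, part 332. -/
def facCodePart332 : Janko1.Tree ℕ := (.node (.node (.node (.node (.node (.node (.leaf 260278345) (.leaf 326474478)) (.node (.leaf 257998896) (.leaf 344162354))) (.node (.node (.leaf 367542322) (.leaf 330465330)) (.node (.leaf 56836144) (.leaf 339251478)))) (.node (.node (.node (.leaf 189157053) (.leaf 318801441)) (.node (.leaf 193255404) (.leaf 337156645))) (.node (.node (.leaf 232442508) (.leaf 328077557)) (.node (.leaf 16405732) (.leaf 216467097))))) (.node (.node (.node (.node (.leaf 366051618) (.leaf 216564442)) (.node (.leaf 359439156) (.leaf 176771884))) (.node (.node (.leaf 280674352) (.leaf 176756884)) (.node (.leaf 311787569) (.leaf 176848945)))) (.node (.node (.node (.leaf 73109289) (.leaf 171938069)) (.node (.leaf 367529138) (.leaf 171990386))) (.node (.node (.leaf 143281489) (.leaf 171954729)) (.node (.leaf 225662124) (.leaf 172002233)))))) (.node (.node (.node (.node (.node (.leaf 7077936) (.leaf 315711084)) (.node (.leaf 316358705) (.leaf 344703026))) (.node (.node (.leaf 296190002) (.leaf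 338722866)) (.node (.leaf 163889) (.leaf 329875506)))) (.node (.node (.node (.leaf 78385845) (.leaf 327451457)) (.node (.leaf 16732917) (.leaf 318275634))) (.node (.node (.leaf 100909105) (.leaf 336658482)) (.node (.leaf 24789040) (.leaf 339066929))))) (.node (.node (.node (.node (.leaf 113164612) (.leaf 365740081)) (.node (.leaf 253919281) (.leaf 365723697))) (.node (.node (.leaf 342048818) (.leaf 313884722)) (.node (.leaf 29886584) (.leaf 332089920)))) (.node (.node (.node (.leaf 42778673) (.leaf 323223602)) (.node (.leaf 379994162) (.leaf 341098546))) (.node (.node (.leaf 127029982) (.leaf 343182978)) (.node (.leaf 75710513) (.leaf 316227634)))))))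

/-- A Schreier factor, part 333. -/
def facCodePart333 : Janko1.Tree ℕ := (.node (.node (.node (.node (.node (.node (.leaf 212926512) (.leaf 334709026)) (.node (.leaf 152961072) (.leaf 378459005))) (.node (.node (.leaf 295898117) (.leaf 378535985)) (.node (.leaf 270712881) (.leaf 378470449)))) (.node (.node (.node (.leaf 358630908) (.leaf 334626865)) (.node (.leaf 130711602) (.leaf 218209337))) (.node (.node (.leaf 308396082) (.leaf 218300465)) (.node (.leaf 63242290) (.leaf 178438193))))) (.node (.node (.node (.node (.leaf 204193841) (.leaf 178389041)) (.node (.leaf 100292768) (.leaf 178425754))) (.node (.node (.leaf 375619633) (.leaf 331710514)) (.node (.leaf 351323996) (.leaf 322355250)))) (.node (.node (.node (.leaf 226467177) (.leaf 340369029)) (.node (.leaf 321736137) (.leaf 338236444))) (.node (.node (.leaf 333004849) (.leaf 311166337)) (.node (.leaf 63281834) (.leaf 341680194)))))) (.node (.node (.node (.node (.node (.leaf 308379698) (.leaf 332546098)) (.node (.leaf 31391794) (.leaf 316769249))) (.node (.node (.leaf 346670470) (.leaf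 236684196)) (.node (.leaf 380455517) (.leaf 170166640)))) (.node (.node (.node (.leaf 328384561) (.leaf 170049585)) (.node (.leaf 340937125) (.leaf 170180657))) (.node (.node (.leaf 379986036) (.leaf 340167072)) (.node (.leaf 342069556) (.leaf 366808230))))) (.node (.node (.node (.node (.leaf 21741617) (.leaf 366840708)) (.node (.leaf 155598898) (.leaf 340068013))) (.node (.node (.leaf 118833201) (.leaf 340148273)) (.node (.leaf 145923608) (.leaf 321834997)))) (.node (.node (.node (.leaf 284442673) (.leaf 312934450)) (.node (.leaf 354156592) (.leaf 310591538))) (.node (.node (.leaf 246562865) (.leaf 328761394)) (.node (.leaf 266207572) (.leaf 319324210)))))))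

/-- A Schreier factor, part 334. -/
def facCodePart334 : Janko1.Tree ℕ := (.node (.node (.node (.node (.node (.node (.leaf 331833662) (.leaf 337690674)) (.node (.leaf 299631262) (.leaf 260112434))) (.node (.node (.leaf 79332120) (.leaf 248946242)) (.node (.leaf 84230774) (.leaf 266674444)))) (.node (.node (.node (.leaf 14402764) (.leaf 240484746)) (.node (.leaf 122519601) (.leaf 257835948))) (.node (.node (.leaf 6856593) (.leaf 107924677)) (.node (.leaf 297851942) (.leaf 108036145))))) (.node (.node (.node (.node (.leaf 129669306) (.leaf 60801073)) (.node (.leaf 244088881) (.leaf 60775714))) (.node (.node (.leaf 268241040) (.leaf 107888689)) (.node (.leaf 271581232) (.leaf 108003377)))) (.node (.node (.node (.leaf 332857394) (.leaf 263209009)) (.node (.leaf 48562224) (.leaf 263274545))) (.node (.node (.leaf 141590578) (.leaf 307871793)) (.node (.leaf 217251889) (.leaf 307937329)))))) (.node (.node (.node (.node (.node (.leaf 207636316) (.leaf 263226142)) (.node (.leaf 198541362) (.leaf 263290929))) (.node (.node (.leaf 377805206) (.leaf 269746226))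 (.node (.leaf 262619184) (.leaf 272007218)))) (.node (.node (.node (.leaf 40501296) (.leaf 259473458)) (.node (.leaf 200998961) (.leaf 239945826))) (.node (.node (.leaf 224350149) (.leaf 266098782)) (.node (.leaf 32907517) (.leaf 269093629))))) (.node (.node (.node (.node (.leaf 373637169) (.leaf 269156401)) (.node (.leaf 353779761) (.leaf 295654424))) (.node (.node (.leaf 105520494) (.leaf 295768368)) (.node (.leaf 319508468) (.leaf 295736342)))) (.node (.node (.node (.leaf 335545786) (.leaf 269058097)) (.node (.leaf 261374002) (.leaf 130252849))) (.node (.node (.leaf 38346524) (.leaf 50184241)) (.node (.leaf 299679794) (.leaf 50249777)))))))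

/-- A Schreier factor, part 335. -/
def facCodePart335 : Janko1.Tree ℕ := (.node (.node (.node (.node (.node (.node (.leaf 14368818) (.leaf 50200625)) (.node (.leaf 130973745) (.leaf 50274426))) (.node (.node (.leaf 84279346) (.leaf 130285617)) (.node (.leaf 16105520) (.leaf 243634777)))) (.node (.node (.node (.leaf 293281120) (.leaf 261065762)) (.node (.leaf 239670288) (.leaf 272515572))) (.node (.node (.leaf 245039154) (.leaf 194428977)) (.node (.leaf 5554458) (.leaf 314949681))))) (.node (.node (.node (.node (.leaf 10373826) (.leaf 359961289)) (.node (.leaf 24269802) (.leaf 315031601))) (.node (.node (.leaf 109822002) (.leaf 194532764)) (.node (.leaf 249991525) (.leaf 234804632)))) (.node (.node (.node (.leaf 278054228) (.leaf 211589834)) (.node (.leaf 240716568) (.leaf 208617522))) (.node (.node (.leaf 307306622) (.leaf 222167090)) (.node (.leaf 112443440) (.leaf 212992050)))))) (.node (.node (.node (.node (.node (.leaf 349670185) (.leaf 216882186)) (.node (.leaf 316096562) (.leaf 203705338))) (.node (.node (.leaf 136265777) (.leaf 229818418))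 (.node (.leaf 220074200) (.leaf 226887620)))) (.node (.node (.node (.leaf 170082354) (.leaf 187088946)) (.node (.leaf 179427437) (.leaf 189562930))) (.node (.node (.leaf 49610800) (.leaf 186302513)) (.node (.leaf 312377612) (.leaf 309329969))))) (.node (.node (.node (.node (.leaf 89800752) (.leaf 145936653)) (.node (.leaf 298817309) (.leaf 146037374))) (.node (.node (.leaf 358940721) (.leaf 309231665)) (.node (.leaf 249659440) (.leaf 186236977)))) (.node (.node (.node (.leaf 170115122) (.leaf 350847025)) (.node (.leaf 172851249) (.leaf 141148209))) (.node (.node (.leaf 41664560) (.leaf 225034290)) (.node (.leaf 316884433) (.leaf 222043264)))))))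

/-- A Schreier factor, part 336. -/
def facCodePart336 : Janko1.Tree ℕ := (.node (.node (.node (.node (.node (.node (.leaf 294246124) (.leaf 234635314)) (.node (.leaf 14876720) (.leaf 186908722))) (.node (.node (.leaf 49928818) (.leaf 199755388)) (.node (.leaf 57727742) (.leaf 318144561)))) (.node (.node (.node (.leaf 302907440) (.leaf 345260081)) (.node (.leaf 106250289) (.leaf 237066993))) (.node (.node (.leaf 8782700) (.leaf 220305062)) (.node (.leaf 186204208) (.leaf 313705842))))) (.node (.node (.node (.node (.leaf 309286030) (.leaf 358798629)) (.node (.leaf 376065664) (.leaf 313757516))) (.node (.node (.leaf 253100082) (.leaf 355385393)) (.node (.leaf 94814258) (.leaf 147669041)))) (.node (.node (.node (.leaf 132601093) (.leaf 355486466)) (.node (.leaf 64854192) (.leaf 310383272))) (.node (.node (.leaf 322275968) (.leaf 218767650)) (.node (.leaf 375098482) (.leaf 228577101)))))) (.node (.node (.node (.node (.node (.leaf 350781489) (.leaf 188634816)) (.node (.leaf 253118702) (.leaf 207044658))) (.node (.node (.leaf 34151622) (.leaf 223317682))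 (.node (.leaf 290620490) (.leaf 220158634)))) (.node (.node (.node (.leaf 64888164) (.leaf 196910162)) (.node (.leaf 132562994) (.leaf 237191218))) (.node (.node (.leaf 159912306) (.leaf 139695110)) (.node (.leaf 379427408) (.leaf 322900588))))) (.node (.node (.node (.node (.leaf 114180145) (.leaf 319258673)) (.node (.leaf 362184754) (.leaf 201360064))) (.node (.node (.leaf 324280665) (.leaf 134958132)) (.node (.leaf 86934884) (.leaf 346182666)))) (.node (.node (.node (.leaf 17881172) (.leaf 346259505)) (.node (.leaf 238192718) (.leaf 134994157))) (.node (.node (.leaf 55607345) (.leaf 319209521)) (.node (.leaf 172916784) (.leaf 228687922)))))))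

/-- A Schreier factor, part 337. -/
def facCodePart337 : Janko1.Tree ℕ := (.node (.node (.node (.node (.node (.node (.leaf 247059642) (.leaf 231374898)) (.node (.leaf 283840828) (.leaf 201416074))) (.node (.node (.leaf 17104946) (.leaf 103497778)) (.node (.leaf 244023346) (.leaf 92405810)))) (.node (.node (.node (.leaf 13156401) (.leaf 123699250)) (.node (.leaf 115834930) (.leaf 120063658))) (.node (.node (.leaf 47945884) (.leaf 72826930)) (.node (.leaf 41425253) (.leaf 72320325))))) (.node (.node (.node (.node (.leaf 244678705) (.leaf 239927345)) (.node (.leaf 268850314) (.leaf 283951153))) (.node (.node (.leaf 293896240) (.leaf 23134257)) (.node (.leaf 285687857) (.leaf 239845425)))) (.node (.node (.node (.leaf 314955185) (.leaf 78152898)) (.node (.leaf 168378418) (.leaf 28984353))) (.node (.node (.leaf 164418032) (.leaf 287216446)) (.node (.leaf 225237492) (.leaf 78266417)))))) (.node (.node (.node (.node (.node (.leaf 324976689) (.leaf 125655438)) (.node (.leaf 348700721) (.leaf 97894450))) (.node (.node (.leaf 245415984) (.leaf 94519346))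 (.node (.leaf 303218736) (.leaf 110084146)))) (.node (.node (.node (.leaf 128697254) (.leaf 120167268)) (.node (.leaf 5914672) (.leaf 72695858))) (.node (.node (.leaf 171311153) (.leaf 92536882)) (.node (.leaf 320193393) (.leaf 88064049))))) (.node (.node (.node (.node (.leaf 336138437) (.leaf 4476153)) (.node (.leaf 307551326) (.leaf 275306161))) (.node (.node (.leaf 241016150) (.leaf 248512561)) (.node (.leaf 23789616) (.leaf 94093361)))) (.node (.node (.node (.leaf 281499101) (.leaf 278514200)) (.node (.leaf 47906866) (.leaf 278434468))) (.node (.node (.leaf 67534897) (.leaf 11747377)) (.node (.leaf 3448814) (.leaf 94161856)))))))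

/-- A Schreier factor, part 338. -/
def facCodePart338 : Janko1.Tree ℕ := (.node (.node (.node (.node (.node (.node (.leaf 89554992) (.leaf 97748982)) (.node (.leaf 298450992) (.leaf 125520504))) (.node (.node (.leaf 249760865) (.leaf 333021233)) (.node (.leaf 66125872) (.leaf 333086769)))) (.node (.node (.node (.leaf 97439416) (.leaf 221138552)) (.node (.leaf 267714609) (.leaf 221265969))) (.node (.node (.leaf 57087229) (.leaf 237781042)) (.node (.leaf 24313905) (.leaf 208257074))))) (.node (.node (.node (.node (.leaf 78577714) (.leaf 234700850)) (.node (.leaf 31572016) (.leaf 198262834))) (.node (.node (.leaf 245522013) (.leaf 190339152)) (.node (.leaf 312098865) (.leaf 203398296)))) (.node (.node (.node (.leaf 81791424) (.leaf 200281412)) (.node (.leaf 330498097) (.leaf 226791816))) (.node (.node (.leaf 15254400) (.leaf 371726126)) (.node (.leaf 369918001) (.leaf 167985201)))))) (.node (.node (.node (.node (.node (.leaf 241106992) (.leaf 368607281)) (.node (.leaf 335052849) (.leaf 342032433))) (.node (.node (.leaf 139952178) (.leaf 198393906))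 (.node (.leaf 169296145) (.leaf 224968754)))) (.node (.node (.node (.leaf 142329862) (.leaf 195201102)) (.node (.leaf 193448886) (.leaf 221926698))) (.node (.node (.leaf 331927020) (.leaf 208162768)) (.node (.leaf 104306474) (.leaf 234593601))))) (.node (.node (.node (.node (.leaf 367416290) (.leaf 238067012)) (.node (.leaf 307085361) (.leaf 200410408))) (.node (.node (.leaf 249413680) (.leaf 203227186)) (.node (.leaf 254230577) (.leaf 190185522)))) (.node (.node (.node (.leaf 272269361) (.leaf 213106738)) (.node (.leaf 11933517) (.leaf 336511025))) (.node (.node (.leaf 65462437) (.leaf 336627830)) (.node (.leaf 32032065) (.leaf 226200733)))))))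

/-- A Schreier factor, part 339. -/
def facCodePart339 : Janko1.Tree ℕ := (.node (.node (.node (.node (.node (.node (.leaf 78548813) (.leaf 226270537)) (.node (.leaf 260363825) (.leaf 363069489))) (.node (.node (.leaf 296075314) (.leaf 159799810)) (.node (.leaf 375965180) (.leaf 236964969)))) (.node (.node (.node (.leaf 322814000) (.leaf 206555670)) (.node (.leaf 277437440) (.leaf 233062450))) (.node (.node (.leaf 242581553) (.leaf 193729221)) (.node (.leaf 179558492) (.leaf 220236984))))) (.node (.node (.node (.node (.leaf 8854256) (.leaf 179656109)) (.node (.leaf 75087921) (.leaf 332021809))) (.node (.node (.leaf 375019474) (.leaf 214417457)) (.node (.leaf 314138072) (.leaf 328400945)))) (.node (.node (.node (.leaf 322076721) (.leaf 174724490)) (.node (.leaf 192922777) (.leaf 372817969))) (.node (.node (.leaf 177294524) (.leaf 214564914)) (.node (.leaf 150610234) (.leaf 192102450)))))) (.node (.node (.node (.node (.node (.leaf 100402070) (.leaf 218684600)) (.node (.leaf 272845978) (.leaf 205117029))) (.node (.node (.leaf 67294593) (.leaf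 231473202)) (.node (.leaf 308232242) (.leaf 228499302)))) (.node (.node (.node (.leaf 379256881) (.leaf 196476978)) (.node (.leaf 363421745) (.leaf 223234326))) (.node (.node (.leaf 309723184) (.leaf 193593394)) (.node (.leaf 160006192) (.leaf 232914994))))) (.node (.node (.node (.node (.leaf 186420434) (.leaf 210468914)) (.node (.leaf 344558948) (.leaf 237125682))) (.node (.node (.leaf 35815474) (.leaf 166264881)) (.node (.leaf 184131148) (.leaf 166330468)))) (.node (.node (.node (.leaf 272793650) (.leaf 232823492)) (.node (.leaf 67262093) (.leaf 232890086))) (.node (.node (.leaf 130383922) (.leaf 340826658)) (.node (.leaf 371703856) (.leaf 337657905)))))))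

/-- A Schreier factor, part 340. -/
def facCodePart340 : Janko1.Tree ℕ := (.node (.node (.node (.node (.node (.node (.leaf 281969028) (.leaf 227835953)) (.node (.leaf 246799278) (.leaf 364073157))) (.node (.node (.leaf 173015088) (.leaf 364183601)) (.node (.leaf 158701294) (.leaf 202194994)))) (.node (.node (.node (.leaf 344211506) (.leaf 191987762)) (.node (.leaf 114409521) (.leaf 188121138))) (.node (.node (.leaf 240766181) (.leaf 76849457)) (.node (.leaf 279365448) (.leaf 108124716))))) (.node (.node (.node (.node (.leaf 244482097) (.leaf 92110898)) (.node (.leaf 262029361) (.leaf 119963698))) (.node (.node (.leaf 263689009) (.leaf 56121137)) (.node (.leaf 5652528) (.leaf 302104625)))) (.node (.node (.node (.leaf 303153200) (.leaf 305368425)) (.node (.leaf 324698533) (.leaf 260636721))) (.node (.node (.leaf 180928561) (.leaf 130220082)) (.node (.leaf 154473524) (.leaf 94116112)))))) (.node (.node (.node (.node (.node (.leaf 335315693) (.leaf 78794681)) (.node (.leaf 120438832) (.leaf 109986625))) (.node (.node (.leaf 370708926) (.leaf 113263696))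 (.node (.leaf 254197994) (.leaf 91934248)))) (.node (.node (.node (.leaf 355778609) (.leaf 123437106)) (.node (.leaf 319952208) (.leaf 76727997))) (.node (.node (.leaf 338403421) (.leaf 103547398)) (.node (.leaf 144654386) (.leaf 266240049))))) (.node (.node (.node (.node (.leaf 174276657) (.leaf 266321969)) (.node (.leaf 147374129) (.leaf 119558845))) (.node (.node (.leaf 335335826) (.leaf 293064966)) (.node (.leaf 370769970) (.leaf 39665869)))) (.node (.node (.node (.leaf 298405532) (.leaf 45973553)) (.node (.leaf 245122753) (.leaf 296343844))) (.node (.node (.leaf 275061968) (.leaf 296435761)) (.node (.leaf 49430576) (.leaf 125698097)))))))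

/-- A Schreier factor, part 341. -/
def facCodePart341 : Janko1.Tree ℕ := (.node (.node (.node (.node (.node (.node (.leaf 257661710) (.leaf 269852858)) (.node (.leaf 38689501) (.leaf 113396433))) (.node (.node (.leaf 3508585) (.leaf 78666118)) (.node (.leaf 263716914) (.leaf 93995058)))) (.node (.node (.node (.leaf 50495538) (.leaf 125419570)) (.node (.leaf 299515954) (.leaf 130302002))) (.node (.node (.leaf 247105961) (.leaf 141038450)) (.node (.leaf 244995292) (.leaf 323797041))))) (.node (.node (.node (.node (.leaf 301121585) (.leaf 207781937)) (.node (.leaf 283328561) (.leaf 323902198))) (.node (.node (.leaf 298958897) (.leaf 350773464)) (.node (.leaf 281135918) (.leaf 141118288)))) (.node (.node (.node (.leaf 121768660) (.leaf 168362034)) (.node (.leaf 247072852) (.leaf 144506930))) (.node (.node (.leaf 249224489) (.leaf 155631666)) (.node (.leaf 278331440) (.leaf 150257714)))))) (.node (.node (.node (.node (.node (.leaf 264935633) (.leaf 163744885)) (.node (.leaf 282853424) (.leaf 133742642))) (.node (.node (.leaf 109494320) (.leaf 163235492))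 (.node (.leaf 209256497) (.leaf 133431345)))) (.node (.node (.node (.leaf 235996026) (.leaf 345016806)) (.node (.leaf 44652134) (.leaf 199544698))) (.node (.node (.leaf 52805680) (.leaf 345096241)) (.node (.leaf 84741310) (.leaf 133367149))))) (.node (.node (.node (.node (.leaf 332209785) (.leaf 154583089)) (.node (.leaf 368279601) (.leaf 314834993))) (.node (.node (.leaf 374767665) (.leaf 154557048)) (.node (.leaf 357466161) (.leaf 359759921)))) (.node (.node (.node (.leaf 173673249) (.leaf 141908981)) (.node (.leaf 226592605) (.leaf 171720754))) (.node (.node (.leaf 176889914) (.leaf 158139796)) (.node (.leaf 229935165) (.leaf 182157362)))))))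

/-- A Schreier factor, part 342. -/
def facCodePart342 : Janko1.Tree ℕ := (.node (.node (.node (.node (.node (.node (.leaf 354308213) (.leaf 181750962)) (.node (.leaf 356570205) (.leaf 172380509))) (.node (.node (.leaf 282596925) (.leaf 136806450)) (.node (.leaf 278093729) (.leaf 146686002)))) (.node (.node (.node (.leaf 109235249) (.leaf 159981008)) (.node (.leaf 104717718) (.leaf 145834033))) (.node (.node (.leaf 93044785) (.leaf 186195500)) (.node (.leaf 124878897) (.leaf 309100593))))) (.node (.node (.node (.node (.leaf 23665386) (.leaf 309201866)) (.node (.leaf 5603377) (.leaf 186089521))) (.node (.node (.leaf 19202098) (.leaf 145872852)) (.node (.leaf 27708933) (.leaf 354031961)))) (.node (.node (.node (.leaf 255199566) (.leaf 143398793)) (.node (.leaf 272810033) (.leaf 166592562))) (.node (.node (.leaf 275944201) (.leaf 167051314)) (.node (.leaf 218628146) (.leaf 349716529)))))) (.node (.node (.node (.node (.node (.leaf 215207665) (.leaf 206211316)) (.node (.leaf 312737842) (.leaf 206159921))) (.node (.node (.leaf 348897330) (.leaf 322650161))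 (.node (.leaf 338859906) (.leaf 319098501)))) (.node (.node (.node (.leaf 143032368) (.leaf 319029297)) (.node (.leaf 229769264) (.leaf 346151493))) (.node (.node (.leaf 197279793) (.leaf 174933842)) (.node (.leaf 224198705) (.leaf 152027186))))) (.node (.node (.node (.node (.leaf 200605745) (.leaf 165462066)) (.node (.leaf 227360817) (.leaf 135249970))) (.node (.node (.leaf 71204914) (.leaf 135692338)) (.node (.leaf 75153458) (.leaf 151306290)))) (.node (.node (.node (.leaf 312442929) (.leaf 156500018)) (.node (.leaf 360464433) (.leaf 180011058))) (.node (.node (.leaf 349184174) (.leaf 170639549)) (.node (.leaf 108056242) (.leaf 152920365)))))))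

/-- A Schreier factor, part 343. -/
def facCodePart343 : Janko1.Tree ℕ := (.node (.node (.node (.node (.node (.node (.leaf 242073650) (.leaf 313589809)) (.node (.leaf 277419649) (.leaf 192731112))) (.node (.node (.leaf 275300402) (.leaf 358662193)) (.node (.leaf 338615132) (.leaf 355272897)))) (.node (.node (.node (.leaf 356408882) (.leaf 147464137)) (.node (.leaf 334233648) (.leaf 187875377))) (.node (.node (.leaf 149422128) (.leaf 187809841)) (.node (.leaf 222977246) (.leaf 147544308))))) (.node (.node (.node (.node (.leaf 91373617) (.leaf 162210044)) (.node (.leaf 123043889) (.leaf 138362930))) (.node (.node (.leaf 110903345) (.leaf 148324402)) (.node (.leaf 59019705) (.leaf 178700338)))) (.node (.node (.node (.leaf 46563377) (.leaf 161447986)) (.node (.leaf 12910641) (.leaf 138854450))) (.node (.node (.leaf 256086553) (.leaf 56033330)) (.node (.leaf 269393501) (.leaf 44269741)))))) (.node (.node (.node (.node (.node (.leaf 1674149) (.leaf 5001897)) (.node (.leaf 87097393) (.leaf 4446590))) (.node (.node (.leaf 118742112) (.leaf 275125826))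 (.node (.leaf 21430322) (.leaf 87916593)))) (.node (.node (.node (.leaf 21577777) (.leaf 248332337)) (.node (.leaf 17088561) (.leaf 4374577))) (.node (.node (.leaf 326434865) (.leaf 11641114)) (.node (.leaf 310483333) (.leaf 251825942))))) (.node (.node (.node (.node (.leaf 328814722) (.leaf 94015206)) (.node (.leaf 380747825) (.leaf 93929521))) (.node (.node (.leaf 175345836) (.leaf 16817300)) (.node (.leaf 228327474) (.leaf 45989938)))) (.node (.node (.node (.leaf 321406968) (.leaf 16457384)) (.node (.leaf 357703166) (.leaf 46301234))) (.node (.node (.leaf 319078450) (.leaf 29507634)) (.node (.leaf 355483698) (.leaf 66371634)))))))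

/-- A Schreier factor, part 344. -/
def facCodePart344 : Janko1.Tree ℕ := (.node (.node (.node (.node (.node (.node (.leaf 287021308) (.leaf 9295806)) (.node (.leaf 256383945) (.leaf 60344702))) (.node (.node (.leaf 274030804) (.leaf 23414697)) (.node (.leaf 1998896) (.leaf 9945138)))) (.node (.node (.node (.leaf 194203925) (.leaf 283852849)) (.node (.leaf 220954673) (.leaf 22894410))) (.node (.node (.leaf 204406833) (.leaf 72220721)) (.node (.leaf 241762353) (.leaf 287014961))))) (.node (.node (.node (.node (.leaf 259244081) (.leaf 28902709)) (.node (.leaf 295518257) (.leaf 243089457))) (.node (.node (.leaf 306528305) (.leaf 28835889)) (.node (.leaf 123866290) (.leaf 49717602)))) (.node (.node (.node (.leaf 119750706) (.leaf 62816306)) (.node (.leaf 285934990) (.leaf 62357554))) (.node (.node (.leaf 283708116) (.leaf 50405522)) (.node (.leaf 300633230) (.leaf 368558129)))))) (.node (.node (.node (.node (.node (.leaf 85311537) (.leaf 341843257)) (.node (.leaf 86245426) (.leaf 341917745))) (.node (.node (.leaf 81199153) (.leaf 167804977)) (.node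 (.leaf 90210354) (.leaf 167922177)))) (.node (.node (.node (.leaf 1593904) (.leaf 158931178)) (.node (.leaf 28704816) (.leaf 141475933))) (.node (.node (.leaf 299040817) (.leaf 168296498)) (.node (.leaf 247340272) (.leaf 168640562))))) (.node (.node (.node (.node (.leaf 245203906) (.leaf 184942642)) (.node (.leaf 338477106) (.leaf 146197513))) (.node (.node (.leaf 44587053) (.leaf 173244466)) (.node (.leaf 52746317) (.leaf 163668258)))) (.node (.node (.node (.leaf 149866082) (.leaf 136953906)) (.node (.leaf 235739254) (.leaf 163192674))) (.node (.node (.leaf 212369457) (.leaf 173932594)) (.node (.leaf 361647148) (.leaf 159629361)))))))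

/-- A Schreier factor, part 345. -/
def facCodePart345 : Janko1.Tree ℕ := (.node (.node (.node (.node (.node (.node (.leaf 345931825) (.leaf 336347185)) (.node (.leaf 260529320) (.leaf 226051581))) (.node (.node (.leaf 327401521) (.leaf 363003953)) (.node (.leaf 373981234) (.leaf 332995357)))) (.node (.node (.node (.leaf 28958852) (.leaf 144474162)) (.node (.leaf 368364860) (.leaf 171623305))) (.node (.node (.leaf 1938970) (.leaf 155540282)) (.node (.leaf 374821194) (.leaf 182091822))))) (.node (.node (.node (.node (.leaf 287117365) (.leaf 155096764)) (.node (.leaf 314118306) (.leaf 181670533))) (.node (.node (.leaf 267013194) (.leaf 134318974)) (.node (.leaf 5488689) (.leaf 160563336)))) (.node (.node (.node (.leaf 264650802) (.leaf 149706229)) (.node (.leaf 27628822) (.leaf 176637476))) (.node (.node (.leaf 25296946) (.leaf 150159410)) (.node (.leaf 21086258) (.leaf 133644338)))))) (.node (.node (.node (.node (.node (.leaf 117293104) (.leaf 371613761)) (.node (.leaf 287360206) (.leaf 212697137))) (.node (.node (.leaf 109281328) (.leaf 212762673))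 (.node (.leaf 264638440) (.leaf 327098046)))) (.node (.node (.node (.leaf 260244948) (.leaf 172982321)) (.node (.leaf 71729201) (.leaf 140350894))) (.node (.node (.leaf 191973745) (.leaf 167002162)) (.node (.leaf 136609840) (.leaf 367378481))))) (.node (.node (.node (.node (.leaf 308756529) (.leaf 232718385)) (.node (.leaf 347328993) (.leaf 340624624))) (.node (.node (.leaf 239943729) (.leaf 340672561)) (.node (.leaf 360874032) (.leaf 166182961)))) (.node (.node (.node (.leaf 255295537) (.leaf 166232113)) (.node (.leaf 257285644) (.leaf 161120305))) (.node (.node (.leaf 38492056) (.leaf 161189126)) (.node (.leaf 259342386) (.leaf 337413942)))))))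

/-- A Schreier factor, part 346. -/
def facCodePart346 : Janko1.Tree ℕ := (.node (.node (.node (.node (.node (.node (.leaf 42651457) (.leaf 337483438)) (.node (.leaf 5184096) (.leaf 227639345))) (.node (.node (.leaf 227106290) (.leaf 364037690)) (.node (.leaf 353534001) (.leaf 147836404)))) (.node (.node (.node (.leaf 229851184) (.leaf 165396530)) (.node (.leaf 335249457) (.leaf 138510386))) (.node (.node (.leaf 338775997) (.leaf 175652914)) (.node (.leaf 106381362) (.leaf 142901298))))) (.node (.node (.node (.node (.leaf 295309462) (.leaf 169809318)) (.node (.leaf 207347604) (.leaf 153255986))) (.node (.node (.leaf 72764840) (.leaf 170548140)) (.node (.leaf 156516400) (.leaf 179519537)))) (.node (.node (.node (.leaf 377544484) (.leaf 179570389)) (.node (.leaf 347573617) (.leaf 375886977))) (.node (.node (.leaf 312690412) (.leaf 375948298)) (.node (.leaf 135876113) (.leaf 328253489)))))) (.node (.node (.node (.node (.node (.leaf 122804264) (.leaf 328351793)) (.node (.leaf 138828980) (.leaf 174489649))) (.node (.node (.leaf 229556272) (.leaf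 162103346)) (.node (.leaf 279986225) (.leaf 151552050)))) (.node (.node (.node (.leaf 268533809) (.leaf 151947764)) (.node (.leaf 338517065) (.leaf 178621694))) (.node (.node (.leaf 334135344) (.leaf 161398834)) (.node (.leaf 21484596) (.leaf 55955557))))) (.node (.node (.node (.node (.leaf 268159037) (.leaf 9895986)) (.node (.leaf 118505521) (.leaf 43827250))) (.node (.node (.leaf 114458673) (.leaf 56672306)) (.node (.leaf 101744688) (.leaf 39585437)))) (.node (.node (.node (.leaf 125370416) (.leaf 266141928)) (.node (.leaf 256032816) (.leaf 119439409))) (.node (.node (.leaf 269320240) (.leaf 293027889)) (.node (.leaf 375111730) (.leaf 296321073)))))))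

/-- A Schreier factor, part 347. -/
def facCodePart347 : Janko1.Tree ℕ := (.node (.node (.node (.node (.node (.node (.leaf 84837374) (.leaf 125452337)) (.node (.leaf 211081288) (.leaf 269549617))) (.node (.node (.leaf 187695153) (.leaf 45776945)) (.node (.leaf 11802909) (.leaf 33718694)))) (.node (.node (.node (.leaf 20774960) (.leaf 11852922)) (.node (.leaf 365042349) (.leaf 45891634))) (.node (.node (.leaf 282908230) (.leaf 32833586)) (.node (.leaf 310644825) (.leaf 66306098))))) (.node (.node (.node (.node (.leaf 61000838) (.leaf 40259024)) (.node (.leaf 36274224) (.leaf 60293170))) (.node (.node (.leaf 220774445) (.leaf 60735538)) (.node (.leaf 151715890) (.leaf 4456498)))) (.node (.node (.node (.leaf 230736906) (.leaf 39518258)) (.node (.leaf 333324598) (.leaf 257294385))) (.node (.node (.leaf 269555470) (.leaf 257360350)) (.node (.leaf 339908717) (.leaf 55890073)))))) (.node (.node (.node (.node (.node (.leaf 256299269) (.leaf 56000561)) (.node (.leaf 42524946) (.leaf 62144561))) (.node (.node (.leaf 304168966) (.leaf 62177329)) (.node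 (.leaf 301862177) (.leaf 260593994)))) (.node (.node (.node (.leaf 95240241) (.leaf 305152049)) (.node (.leaf 241997353) (.leaf 62259250))) (.node (.node (.leaf 23838770) (.leaf 211883986)) (.node (.leaf 19864442) (.leaf 326746161))))) (.node (.node (.node (.node (.leaf 15532081) (.leaf 144900145)) (.node (.leaf 121962546) (.leaf 353697841))) (.node (.node (.leaf 37094537) (.leaf 377298586)) (.node (.leaf 61866032) (.leaf 371376178)))) (.node (.node (.node (.leaf 245760049) (.leaf 369052516)) (.node (.leaf 291635248) (.leaf 371087473))) (.node (.node (.leaf 19612244) (.leaf 345522526)) (.node (.leaf 176738350) (.leaf 347701298)))))))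

/-- A Schreier factor, part 348. -/
def facCodePart348 : Janko1.Tree ℕ := (.node (.node (.node (.node (.node (.node (.leaf 173473842) (.leaf 355074098)) (.node (.leaf 78125469) (.leaf 137154125))) (.node (.node (.leaf 85983280) (.leaf 320929841)) (.node (.leaf 361070641) (.leaf 320946225)))) (.node (.node (.node (.leaf 345342001) (.leaf 137134129)) (.node (.leaf 124573601) (.leaf 158437973))) (.node (.node (.leaf 354189362) (.leaf 362513310)) (.node (.leaf 100810800) (.leaf 317669425))))) (.node (.node (.node (.node (.leaf 62128176) (.leaf 369544058)) (.node (.leaf 314753073) (.leaf 370950194))) (.node (.node (.leaf 321388593) (.leaf 377749554)) (.node (.leaf 291979312) (.leaf 368869426)))) (.node (.node (.node (.leaf 374244094) (.leaf 371507250)) (.node (.leaf 19306933) (.leaf 347521074))) (.node (.node (.leaf 10272816) (.leaf 354927726)) (.node (.leaf 58359858) (.leaf 357294012)))))) (.node (.node (.node (.node (.node (.leaf 41025585) (.leaf 354500658)) (.node (.leaf 54222858) (.leaf 345358386))) (.node (.node (.leaf 258605105) (.leaf 149848113))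 (.node (.leaf 85688368) (.leaf 357072945)))) (.node (.node (.node (.leaf 276021297) (.leaf 189975426)) (.node (.leaf 286769201) (.leaf 357061750))) (.node (.node (.leaf 348733490) (.leaf 378952672)) (.node (.leaf 130400305) (.leaf 370515348))))) (.node (.node (.node (.node (.leaf 3719217) (.leaf 370081842)) (.node (.leaf 218742834) (.leaf 368298985))) (.node (.node (.leaf 34685588) (.leaf 376905612)) (.node (.leaf 162791472) (.leaf 352649265)))) (.node (.node (.node (.leaf 240484401) (.leaf 143360049)) (.node (.leaf 378197994) (.leaf 143346656))) (.node (.node (.leaf 308335668) (.leaf 352666636)) (.node (.leaf 239882902) (.leaf 349126705)))))))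

/-- A Schreier factor, part 349. -/
def facCodePart349 : Janko1.Tree ℕ := (.node (.node (.node (.node (.node (.node (.leaf 242204722) (.leaf 205291569)) (.node (.leaf 40058930) (.leaf 322175025))) (.node (.node (.leaf 170917937) (.leaf 205258801)) (.node (.leaf 174194737) (.leaf 349149800)))) (.node (.node (.node (.leaf 335748150) (.leaf 355582002)) (.node (.leaf 196329520) (.leaf 358481970))) (.node (.node (.leaf 355206881) (.leaf 356222684)) (.node (.leaf 320717882) (.leaf 357832370))))) (.node (.node (.node (.node (.leaf 277272133) (.leaf 369953941)) (.node (.leaf 275144752) (.leaf 376785436))) (.node (.node (.leaf 154075185) (.leaf 378818950)) (.node (.leaf 104145305) (.leaf 370589746)))) (.node (.node (.node (.leaf 324622601) (.leaf 361535317)) (.node (.leaf 163022590) (.leaf 316702769))) (.node (.node (.leaf 313251869) (.leaf 196856708)) (.node (.leaf 378388528) (.leaf 196870193)))))) (.node (.node (.node (.node (.node (.leaf 365580510) (.leaf 361513009)) (.node (.leaf 310563738) (.leaf 151722333))) (.node (.node (.leaf 90884408) (.leaf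 358243133)) (.node (.leaf 161923122) (.leaf 191776121)))) (.node (.node (.node (.leaf 59727978) (.leaf 313186145)) (.node (.leaf 47251505) (.leaf 151752312))) (.node (.node (.leaf 269129040) (.leaf 347134460)) (.node (.leaf 262217358) (.leaf 358006834))))) (.node (.node (.node (.node (.leaf 195992500) (.leaf 356090450)) (.node (.leaf 285991345) (.leaf 358334514))) (.node (.node (.leaf 279412785) (.leaf 346430122)) (.node (.leaf 316063792) (.leaf 349454386)))) (.node (.node (.node (.leaf 248201266) (.leaf 283820082)) (.node (.leaf 294960) (.leaf 286662609))) (.node (.node (.leaf 250512769) (.leaf 277814921)) (.node (.leaf 56216976) (.leaf 277315634)))))))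

/-- A Schreier factor, part 350. -/
def facCodePart350 : Janko1.Tree ℕ := (.node (.node (.node (.node (.node (.node (.leaf 55279665) (.leaf 275760053)) (.node (.leaf 60383430) (.leaf 284545884))) (.node (.node (.leaf 266441390) (.leaf 277971920)) (.node (.leaf 264094544) (.leaf 92521977)))) (.node (.node (.node (.leaf 251641904) (.leaf 278003761)) (.node (.leaf 116294048) (.leaf 98533425))) (.node (.node (.leaf 355338586) (.leaf 254754865)) (.node (.leaf 157309634) (.leaf 254776789))))) (.node (.node (.node (.node (.leaf 231725630) (.leaf 98522454)) (.node (.leaf 228461225) (.leaf 281428017))) (.node (.node (.leaf 45781737) (.leaf 305239786)) (.node (.leaf 54056004) (.leaf 299194258)))) (.node (.node (.node (.leaf 311197745) (.leaf 296488798)) (.node (.leaf 364380209) (.leaf 307429426))) (.node (.node (.leaf 639024) (.leaf 284426290)) (.node (.leaf 175177778) (.leaf 286556210)))))) (.node (.node (.node (.node (.node (.leaf 167691864) (.leaf 283976114)) (.node (.leaf 177766449) (.leaf 277990833))) (.node (.node (.leaf 333922353) (.leaf 27410481))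 (.node (.leaf 94011440) (.leaf 286642022)))) (.node (.node (.node (.leaf 340492337) (.leaf 242745393)) (.node (.leaf 351043633) (.leaf 76808241))) (.node (.node (.leaf 251936816) (.leaf 242712625)) (.node (.leaf 357859377) (.leaf 286621745))))) (.node (.node (.node (.node (.leaf 238731765) (.leaf 27434172)) (.node (.leaf 285786162) (.leaf 290209841))) (.node (.node (.leaf 119914546) (.leaf 33685553)) (.node (.leaf 242520005) (.leaf 298687498)))) (.node (.node (.node (.leaf 45465648) (.leaf 307544114)) (.node (.leaf 296213121) (.leaf 296294812))) (.node (.node (.leaf 238551088) (.leaf 172071458)) (.node (.leaf 251707440) (.leaf 344473649)))))))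

/-- A Schreier factor, part 351. -/
def facCodePart351 : Janko1.Tree ℕ := (.node (.node (.node (.node (.node (.node (.leaf 247700521) (.leaf 344490033)) (.node (.leaf 37175344) (.leaf 344604721))) (.node (.node (.leaf 69976112) (.leaf 237551665)) (.node (.leaf 265355313) (.leaf 237649969)))) (.node (.node (.node (.leaf 245596209) (.leaf 172032049)) (.node (.leaf 93625098) (.leaf 371268729))) (.node (.node (.leaf 263094321) (.leaf 371318416)) (.node (.leaf 20913940) (.leaf 360072117))))) (.node (.node (.node (.node (.leaf 53116977) (.leaf 377227836)) (.node (.leaf 19957489) (.leaf 362889548))) (.node (.node (.leaf 27757916) (.leaf 362207558)) (.node (.leaf 251985968) (.leaf 380370993)))) (.node (.node (.node (.leaf 350144074) (.leaf 380502065)) (.node (.leaf 374145073) (.leaf 335844870))) (.node (.node (.leaf 291914977) (.leaf 335976021)) (.node (.leaf 356892721) (.leaf 225247281)))))) (.node (.node (.node (.node (.node (.leaf 314523697) (.leaf 225220997)) (.node (.leaf 332713462) (.leaf 335938302))) (.node (.node (.leaf 321159217) (.leaf 380338225))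 (.node (.leaf 146424469) (.leaf 351836316)))) (.node (.node (.node (.leaf 165855281) (.leaf 369443244)) (.node (.leaf 200203180) (.leaf 370921900))) (.node (.node (.leaf 149752653) (.leaf 362332210)) (.node (.leaf 176118548) (.leaf 379850616))))) (.node (.node (.node (.node (.leaf 148979761) (.leaf 360611890)) (.node (.leaf 203636786) (.leaf 377684018))) (.node (.node (.leaf 336543794) (.leaf 362730513)) (.node (.leaf 28016688) (.leaf 360218674)))) (.node (.node (.node (.leaf 688176) (.leaf 353992754)) (.node (.leaf 373836994) (.leaf 371441714))) (.node (.node (.leaf 292978737) (.leaf 359047268)) (.node (.leaf 365318390) (.leaf 376143922)))))))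

/-- A Schreier factor, part 352. -/
def facCodePart352 : Janko1.Tree ℕ := (.node (.node (.node (.node (.node (.node (.leaf 311483312) (.leaf 361881753)) (.node (.leaf 308215857) (.leaf 352780338))) (.node (.node (.leaf 378142768) (.leaf 370409522)) (.node (.leaf 240255025) (.leaf 352288818)))) (.node (.node (.node (.leaf 257835057) (.leaf 368186760)) (.node (.leaf 182943792) (.leaf 376807752))) (.node (.node (.leaf 209518640) (.leaf 361119794)) (.node (.leaf 273449009) (.leaf 378215053))))) (.node (.node (.node (.node (.leaf 38928433) (.leaf 370360369)) (.node (.leaf 3801137) (.leaf 170278961))) (.node (.node (.leaf 192093452) (.leaf 170328113)) (.node (.leaf 135709410) (.leaf 236767581)))) (.node (.node (.node (.leaf 67639358) (.leaf 236866612)) (.node (.leaf 366596180) (.leaf 236847798))) (.node (.node (.leaf 328830298) (.leaf 170269374)) (.node (.leaf 130815721) (.leaf 370311217)))))) (.node (.node (.node (.node (.node (.leaf 364347442) (.leaf 370376753)) (.node (.leaf 359896397) (.leaf 369876870))) (.node (.node (.leaf 366297137) (.leaf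 361250866)) (.node (.leaf 311771184) (.leaf 359514162)))) (.node (.node (.node (.leaf 348636197) (.leaf 376686424)) (.node (.leaf 324390029) (.leaf 361700656))) (.node (.node (.leaf 183243140) (.leaf 378723713)) (.node (.leaf 209764400) (.leaf 359120946))))) (.node (.node (.node (.node (.leaf 342360113) (.leaf 376297881)) (.node (.leaf 189564496) (.leaf 352911785))) (.node (.node (.leaf 9821585) (.leaf 183588598)) (.node (.leaf 180600881) (.leaf 183687365)))) (.node (.node (.node (.leaf 154157105) (.leaf 378568753)) (.node (.leaf 4948018) (.leaf 334790705))) (.node (.node (.leaf 72911362) (.leaf 223663114)) (.node (.leaf 259506226) (.leaf 223592497)))))))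

/-- A Schreier factor, part 353. -/
def facCodePart353 : Janko1.Tree ℕ := (.node (.node (.node (.node (.node (.node (.leaf 42770661) (.leaf 223676348)) (.node (.leaf 38618906) (.leaf 378654642))) (.node (.node (.leaf 102432818) (.leaf 183601645)) (.node (.leaf 292962354) (.leaf 183697457)))) (.node (.node (.node (.leaf 379732017) (.leaf 299288813)) (.node (.leaf 296386608) (.leaf 299326240))) (.node (.node (.leaf 362350821) (.leaf 50414773)) (.node (.leaf 344784945) (.leaf 130334769))))) (.node (.node (.node (.node (.leaf 184306489) (.leaf 305190004)) (.node (.leaf 157483057) (.leaf 290226226))) (.node (.node (.leaf 108417004) (.leaf 298769330)) (.node (.leaf 300548230) (.leaf 67046866)))) (.node (.node (.node (.leaf 247300144) (.leaf 308002865)) (.node (.leaf 277135409) (.leaf 308069272))) (.node (.node (.leaf 288234822) (.leaf 114065457)) (.node (.leaf 53811224) (.leaf 114085696)))))) (.node (.node (.node (.node (.node (.leaf 85596489) (.leaf 263407558)) (.node (.leaf 253182001) (.leaf 307986481))) (.node (.node (.leaf 77742128) (.leaf 66979341))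 (.node (.leaf 42849016) (.leaf 296949740)))) (.node (.node (.node (.leaf 8585265) (.leaf 280713138)) (.node (.leaf 92328458) (.leaf 298600761))) (.node (.node (.leaf 23171149) (.leaf 289594542)) (.node (.leaf 30179377) (.leaf 287768626))))) (.node (.node (.node (.node (.leaf 268320818) (.leaf 290031784)) (.node (.leaf 19399401) (.leaf 287295025))) (.node (.node (.leaf 10354736) (.leaf 281411634)) (.node (.leaf 301665274) (.leaf 299253810)))) (.node (.node (.node (.leaf 393265) (.leaf 351507417)) (.node (.leaf 36380396) (.leaf 141688881))) (.node (.node (.leaf 347725345) (.leaf 324534321)) (.node (.leaf 160596018) (.leaf 324616241)))))))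

/-- A Schreier factor, part 354. -/
def facCodePart354 : Janko1.Tree ℕ := (.node (.node (.node (.node (.node (.node (.leaf 129187889) (.leaf 141606961)) (.node (.leaf 97353777) (.leaf 351571912))) (.node (.node (.leaf 254117506) (.leaf 356696114)) (.node (.leaf 5734450) (.leaf 360022066)))) (.node (.node (.node (.leaf 73243053) (.leaf 380994464)) (.node (.leaf 199154064) (.leaf 379753985))) (.node (.node (.leaf 370327601) (.leaf 134028820)) (.node (.leaf 173342768) (.leaf 318640306))))) (.node (.node (.node (.node (.leaf 336330801) (.leaf 134086705)) (.node (.leaf 318083818) (.leaf 345834058))) (.node (.node (.leaf 480070) (.leaf 155287601)) (.node (.leaf 69325744) (.leaf 360470545)))) (.node (.node (.node (.leaf 240894870) (.leaf 315596160)) (.node (.leaf 188973105) (.leaf 155369521))) (.node (.node (.leaf 359268401) (.leaf 363954226)) (.node (.leaf 376543784) (.leaf 347559612)))))) (.node (.node (.node (.node (.node (.leaf 186613808) (.leaf 356859954)) (.node (.leaf 376213998) (.leaf 372054038))) (.node (.node (.leaf 311385992) (.leaf 348323890))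 (.node (.leaf 23871537) (.leaf 351764530)))) (.node (.node (.node (.leaf 56907392) (.leaf 370985469)) (.node (.leaf 345489662) (.leaf 360566573))) (.node (.node (.leaf 163890930) (.leaf 380764210)) (.node (.leaf 108789809) (.leaf 351061868))))) (.node (.node (.node (.node (.leaf 303775793) (.leaf 354762801)) (.node (.leaf 166254934) (.leaf 186892337))) (.node (.node (.leaf 260446126) (.leaf 354851616)) (.node (.leaf 243138609) (.leaf 146562354)))) (.node (.node (.node (.leaf 5344342) (.leaf 355600796)) (.node (.leaf 283662889) (.leaf 346554418))) (.node (.node (.leaf 60620850) (.leaf 366755890)) (.node (.leaf 123771134) (.leaf 346980402)))))))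

/-- A Schreier factor, part 355. -/
def facCodePart355 : Janko1.Tree ℕ := (.node (.node (.node (.node (.node (.node (.leaf 114491441) (.leaf 356237362)) (.node (.leaf 83152288) (.leaf 375331400))) (.node (.node (.leaf 97697840) (.leaf 206768685)) (.node (.leaf 66158608) (.leaf 323452977)))) (.node (.node (.node (.leaf 293814320) (.leaf 206818006)) (.node (.leaf 263487537) (.leaf 140198634))) (.node (.node (.leaf 15089712) (.leaf 346882097)) (.node (.leaf 112347364) (.leaf 135643185))))) (.node (.node (.node (.node (.leaf 357666438) (.leaf 319752312)) (.node (.leaf 228229170) (.leaf 201834545))) (.node (.node (.leaf 187744305) (.leaf 346914865)) (.node (.leaf 362725425) (.leaf 376209458)))) (.node (.node (.node (.leaf 89915440) (.leaf 352731186)) (.node (.leaf 245322376) (.leaf 352242870))) (.node (.node (.leaf 328646705) (.leaf 376918042)) (.node (.leaf 31621168) (.leaf 347152262)))))) (.node (.node (.node (.node (.node (.leaf 319094834) (.leaf 375411494)) (.node (.leaf 231587890) (.leaf 355745842))) (.node (.node (.leaf 204506568) (.leaf 367269564))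 (.node (.leaf 369541169) (.leaf 359350813)))) (.node (.node (.node (.leaf 74465328) (.leaf 314343473)) (.node (.leaf 41779248) (.leaf 193480569))) (.node (.node (.leaf 254001989) (.leaf 193401116)) (.node (.leaf 307416366) (.leaf 314426856))))) (.node (.node (.node (.node (.leaf 339804209) (.leaf 359383089)) (.node (.leaf 321919373) (.leaf 153520708))) (.node (.node (.leaf 7716913) (.leaf 148180616)) (.node (.leaf 42490322) (.leaf 356011009)))) (.node (.node (.node (.leaf 250446689) (.leaf 310907973)) (.node (.leaf 285851698) (.leaf 188448817))) (.node (.node (.leaf 295600177) (.leaf 352144256)) (.node (.leaf 302792752) (.leaf 376340530)))))))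

/-- A Schreier factor, part 356. -/
def facCodePart356 : Janko1.Tree ℕ := (.node (.node (.node (.node (.node (.node (.leaf 346527160) (.leaf 290177074)) (.node (.leaf 34002586) (.leaf 281198642))) (.node (.node (.leaf 67108913) (.leaf 296501298)) (.node (.leaf 165543986) (.leaf 305874556)))) (.node (.node (.node (.leaf 218568354) (.leaf 289439794)) (.node (.leaf 186304981) (.leaf 275912680))) (.node (.node (.leaf 291130772) (.leaf 88579956)) (.node (.leaf 308936753) (.leaf 249036849))))) (.node (.node (.node (.node (.leaf 239868954) (.leaf 88507573)) (.node (.leaf 322601008) (.leaf 5259313))) (.node (.node (.leaf 242090034) (.leaf 279088636)) (.node (.leaf 71270450) (.leaf 252543025)))) (.node (.node (.node (.leaf 224067633) (.leaf 252494734)) (.node (.leaf 373409133) (.leaf 275267634))) (.node (.node (.leaf 335207070) (.leaf 295305266)) (.node (.leaf 318200200) (.leaf 284557362)))))) (.node (.node (.node (.node (.node (.leaf 239820410) (.leaf 297010505)) (.node (.leaf 275271988) (.leaf 280647660))) (.node (.node (.leaf 7995442) (.leaf 289540493))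 (.node (.leaf 75189102) (.leaf 305747864)))) (.node (.node (.node (.leaf 233750577) (.leaf 289980466)) (.node (.leaf 44337504) (.leaf 296304690))) (.node (.node (.leaf 107893690) (.leaf 281354236)) (.node (.leaf 206635056) (.leaf 23532560))))) (.node (.node (.node (.node (.leaf 179949665) (.leaf 284591586)) (.node (.leaf 366960592) (.leaf 72892465))) (.node (.node (.leaf 363266096) (.leaf 23582549)) (.node (.leaf 312836146) (.leaf 29544957)))) (.node (.node (.node (.leaf 348831794) (.leaf 287841356)) (.node (.leaf 12698625) (.leaf 243811884))) (.node (.node (.leaf 46727217) (.leaf 78826242)) (.node (.leaf 91537457) (.leaf 243892273)))))))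

/-- A Schreier factor, part 357. -/
def facCodePart357 : Janko1.Tree ℕ := (.node (.node (.node (.node (.node (.node (.leaf 280051761) (.leaf 304349234)) (.node (.leaf 250839089) (.leaf 283983922))) (.node (.node (.leaf 367435366) (.leaf 295982054)) (.node (.leaf 362938416) (.leaf 168575025)))) (.node (.node (.node (.leaf 186226220) (.leaf 342367705)) (.node (.leaf 290116794) (.leaf 369268414))) (.node (.node (.leaf 179748912) (.leaf 369361597)) (.node (.leaf 69632049) (.leaf 354418738))))) (.node (.node (.node (.node (.leaf 190139030) (.leaf 345571378)) (.node (.leaf 129269809) (.leaf 363397170))) (.node (.node (.leaf 657252) (.leaf 363791473)) (.node (.leaf 65257521) (.leaf 355172402)))) (.node (.node (.node (.leaf 329849546) (.leaf 372555826)) (.node (.leaf 367625088) (.leaf 380895282))) (.node (.node (.leaf 193060974) (.leaf 353504036)) (.node (.leaf 370130993) (.leaf 371048498)))))) (.node (.node (.node (.node (.node (.leaf 173408304) (.leaf 379633714)) (.node (.leaf 7634994) (.leaf 363724849))) (.node (.node (.leaf 294144662) (.leaf 226664814))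 (.node (.leaf 104421557) (.leaf 226729014)))) (.node (.node (.node (.leaf 36260197) (.leaf 160317489)) (.node (.leaf 340836401) (.leaf 377536561))) (.node (.node (.leaf 309481257) (.leaf 333732089)) (.node (.leaf 311296049) (.leaf 333791281))))) (.node (.node (.node (.node (.leaf 206521272) (.leaf 221797145)) (.node (.leaf 376356913) (.leaf 221872177))) (.node (.node (.leaf 347979825) (.leaf 181911601)) (.node (.leaf 74678322) (.leaf 354992178)))) (.node (.node (.node (.leaf 100830448) (.leaf 372005694)) (.node (.leaf 40452146) (.leaf 345456690))) (.node (.node (.leaf 258278722) (.leaf 363252844)) (.node (.leaf 267442456) (.leaf 353339864)))))))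

/-- A Schreier factor, part 358. -/
def facCodePart358 : Janko1.Tree ℕ := (.node (.node (.node (.node (.node (.node (.leaf 303562801) (.leaf 380653806)) (.node (.leaf 89161777) (.leaf 173604913))) (.node (.node (.leaf 186941490) (.leaf 213456540)) (.node (.leaf 24052393) (.leaf 327900412)))) (.node (.node (.node (.leaf 327374064) (.leaf 372317756)) (.node (.leaf 293732400) (.leaf 375816242))) (.node (.node (.leaf 246028025) (.leaf 367034418)) (.node (.leaf 74121264) (.leaf 348952412))))) (.node (.node (.node (.node (.leaf 302202929) (.leaf 366706738)) (.node (.leaf 27230258) (.leaf 368073462))) (.node (.node (.leaf 88162354) (.leaf 341426225)) (.node (.leaf 304054322) (.leaf 233357361)))) (.node (.node (.node (.leaf 310509617) (.leaf 228442161)) (.node (.leaf 347127857) (.leaf 364691505))) (.node (.node (.leaf 58197656) (.leaf 364773425)) (.node (.leaf 214204465) (.leaf 367713368)))))) (.node (.node (.node (.node (.node (.leaf 112282820) (.leaf 368205678)) (.node (.leaf 23953456) (.leaf 359661618))) (.node (.node (.leaf 339574834) (.leaf 376815666))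 (.node (.leaf 307347504) (.leaf 366559282)))) (.node (.node (.node (.leaf 358484776) (.leaf 349570256)) (.node (.leaf 41844784) (.leaf 367188240))) (.node (.node (.leaf 194084913) (.leaf 180198650)) (.node (.leaf 5884414) (.leaf 376455217))))) (.node (.node (.node (.node (.leaf 337477682) (.leaf 376537137)) (.node (.leaf 49594416) (.leaf 175407153))) (.node (.node (.leaf 23337189) (.leaf 368378965)) (.node (.leaf 92143666) (.leaf 359530546)))) (.node (.node (.node (.leaf 126836808) (.leaf 376705524)) (.node (.leaf 301784192) (.leaf 359141406))) (.node (.node (.leaf 14861105) (.leaf 349978674)) (.node (.leaf 309158284) (.leaf 287135505)))))))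

/-- A Schreier factor, part 359. -/
def facCodePart359 : Janko1.Tree ℕ := (.node (.node (.node (.node (.node (.node (.leaf 239763505) (.leaf 305201202)) (.node (.leaf 273029469) (.leaf 278529930))) (.node (.node (.leaf 375914544) (.leaf 296376421)) (.node (.leaf 159793200) (.leaf 296845362)))) (.node (.node (.node (.leaf 188548792) (.leaf 40272404)) (.node (.leaf 99147265) (.leaf 120114880))) (.node (.node (.leaf 138919986) (.leaf 120193073)) (.node (.leaf 38469681) (.leaf 266862641))))) (.node (.node (.node (.node (.leaf 328684326) (.leaf 266933801)) (.node (.leaf 366690354) (.leaf 293584945))) (.node (.node (.leaf 313924085) (.leaf 296932313)) (.node (.leaf 337627338) (.leaf 270172209)))) (.node (.node (.node (.leaf 166582089) (.leaf 126271929)) (.node (.leaf 199889696) (.leaf 46404973))) (.node (.node (.leaf 373178417) (.leaf 46465073)) (.node (.leaf 76652390) (.leaf 286736434)))))) (.node (.node (.node (.node (.node (.leaf 200540209) (.leaf 277889074)) (.node (.leaf 42533337) (.leaf 277413938))) (.node (.node (.leaf 259375154) (.leaf 295239730))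 (.node (.leaf 293080973) (.leaf 286083064)))) (.node (.node (.node (.leaf 323076144) (.leaf 279101490)) (.node (.leaf 330891313) (.leaf 287785010))) (.node (.node (.leaf 180035757) (.leaf 305340240)) (.node (.leaf 186566802) (.leaf 278380594))))) (.node (.node (.node (.node (.leaf 190432041) (.leaf 257873008)) (.node (.leaf 250761261) (.leaf 62933098))) (.node (.node (.leaf 261816369) (.leaf 110034993)) (.node (.leaf 367318672) (.leaf 110140357)))) (.node (.node (.node (.leaf 297959473) (.leaf 305791641)) (.node (.leaf 191922226) (.leaf 277266482))) (.node (.node (.leaf 79481233) (.leaf 286212146)) (.node (.leaf 135927505) (.leaf 304316466)))))))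

/-- A Schreier factor, part 360. -/
def facCodePart360 : Janko1.Tree ℕ := (.node (.node (.node (.node (.node (.node (.leaf 59064369) (.leaf 286605362)) (.node (.leaf 331071538) (.leaf 304693298))) (.node (.node (.leaf 291684401) (.leaf 144212017)) (.node (.leaf 358809648) (.leaf 326123569)))) (.node (.node (.node (.leaf 289492121) (.leaf 211177548)) (.node (.leaf 133406592) (.leaf 211189809))) (.node (.node (.leaf 36929585) (.leaf 146185758)) (.node (.leaf 213616764) (.leaf 150274098))))) (.node (.node (.node (.node (.leaf 163758130) (.leaf 163764169)) (.node (.leaf 32342522) (.leaf 160088114))) (.node (.node (.leaf 309627984) (.leaf 163250226)) (.node (.leaf 100718376) (.leaf 160534257)))) (.node (.node (.node (.leaf 369577048) (.leaf 181619804)) (.node (.leaf 334807089) (.leaf 141770802))) (.node (.node (.leaf 106056778) (.leaf 347309781)) (.node (.leaf 145495056) (.leaf 202965041)))))) (.node (.node (.node (.node (.node (.leaf 241090610) (.leaf 202988781)) (.node (.leaf 622642) (.leaf 347291697))) (.node (.node (.leaf 341268433) (.leaf 157583550))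 (.node (.leaf 153141296) (.leaf 316932145)))) (.node (.node (.node (.leaf 311902257) (.leaf 157548593)) (.node (.leaf 102371672) (.leaf 136828657))) (.node (.node (.leaf 42256614) (.leaf 176707177)) (.node (.leaf 276240460) (.leaf 137429042))))) (.node (.node (.node (.node (.leaf 336645445) (.leaf 171737304)) (.node (.leaf 349749296) (.leaf 158160922))) (.node (.node (.leaf 278404733) (.leaf 155504028)) (.node (.leaf 268046578) (.leaf 155032532)))) (.node (.node (.node (.leaf 243613745) (.leaf 168247346)) (.node (.leaf 57465684) (.leaf 356384817))) (.node (.node (.leaf 160482584) (.leaf 189402922)) (.node (.leaf 311808808) (.leaf 311365400)))))))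

/-- A Schreier factor, part 361. -/
def facCodePart361 : Janko1.Tree ℕ := (.node (.node (.node (.node (.node (.node (.leaf 76882049) (.leaf 149083624)) (.node (.leaf 258183997) (.leaf 178834744))) (.node (.node (.leaf 281515757) (.leaf 135270645)) (.node (.leaf 6752338) (.leaf 138417177)))) (.node (.node (.node (.leaf 266616881) (.leaf 135708722)) (.node (.leaf 129400880) (.leaf 178192434))) (.node (.node (.leaf 123895858) (.leaf 351895601)) (.node (.leaf 56311858) (.leaf 325107761))))) (.node (.node (.node (.node (.leaf 283565460) (.leaf 142525153)) (.node (.leaf 284983344) (.leaf 321456430))) (.node (.node (.leaf 16376253) (.leaf 204572261)) (.node (.leaf 344916017) (.leaf 321427496)))) (.node (.node (.node (.leaf 311051454) (.leaf 348520497)) (.node (.leaf 121405488) (.leaf 138166321))) (.node (.node (.leaf 228399008) (.leaf 156881734)) (.node (.leaf 178443176) (.leaf 170495713)))))) (.node (.node (.node (.node (.node (.leaf 319243205) (.leaf 170016818)) (.node (.leaf 357520346) (.leaf 156407356))) (.node (.node (.leaf 272128186) (.leaf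 164846372)) (.node (.leaf 276381744) (.leaf 151420978)))) (.node (.node (.node (.leaf 358014452) (.leaf 148346514)) (.node (.leaf 32784432) (.leaf 151830578))) (.node (.node (.leaf 334069809) (.leaf 147898418)) (.node (.leaf 322394754) (.leaf 161467106))))) (.node (.node (.node (.node (.leaf 105283632) (.leaf 165545549)) (.node (.leaf 175210546) (.leaf 196018225))) (.node (.node (.leaf 150934614) (.leaf 315983732)) (.node (.leaf 321716274) (.leaf 315998790)))) (.node (.node (.node (.leaf 65388592) (.leaf 196001841)) (.node (.leaf 288129073) (.leaf 312459313))) (.node (.node (.leaf 113066032) (.leaf 357564465)) (.node (.leaf 60446048) (.leaf 183408860)))))))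

/-- A Schreier factor, part 362. -/
def facCodePart362 : Janko1.Tree ℕ := (.node (.node (.node (.node (.node (.node (.leaf 248315954) (.leaf 183877682)) (.node (.leaf 56770608) (.leaf 180043826))) (.node (.node (.leaf 275218481) (.leaf 33620018)) (.node (.leaf 212656386) (.leaf 46354885)))) (.node (.node (.node (.leaf 161980170) (.leaf 9362861)) (.node (.leaf 218698382) (.leaf 91849821))) (.node (.node (.leaf 71057457) (.leaf 91888445)) (.node (.leaf 346358465) (.leaf 250660040))))) (.node (.node (.node (.node (.leaf 350044208) (.leaf 16334948)) (.node (.leaf 353108017) (.leaf 280625201))) (.node (.node (.leaf 336838704) (.leaf 97819296)) (.node (.leaf 219643952) (.leaf 254050353)))) (.node (.node (.node (.leaf 146194480) (.leaf 280608817)) (.node (.leaf 44227017) (.leaf 56049714))) (.node (.node (.leaf 104103986) (.leaf 4505650)) (.node (.leaf 8199898) (.leaf 9394666)))))) (.node (.node (.node (.node (.node (.leaf 277151794) (.leaf 5013554)) (.node (.leaf 359073393) (.leaf 12292454))) (.node (.node (.leaf 366231601) (.leaf 66520040)) (.node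 (.leaf 327532592) (.leaf 62832690)))) (.node (.node (.node (.leaf 324452401) (.leaf 66945074)) (.node (.leaf 133612830) (.leaf 11649074))) (.node (.node (.leaf 331536284) (.leaf 17006642)) (.node (.leaf 40180689) (.leaf 286049436))))) (.node (.node (.node (.node (.leaf 154222641) (.leaf 26869809)) (.node (.leaf 164037570) (.leaf 76103729))) (.node (.node (.leaf 108087429) (.leaf 242057870)) (.node (.leaf 242237490) (.leaf 26837041)))) (.node (.node (.node (.leaf 286118225) (.leaf 32726108)) (.node (.leaf 332024796) (.leaf 245370258))) (.node (.node (.leaf 251346993) (.leaf 245388698)) (.node (.leaf 226020118) (.leaf 81887281)))))))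

/-- A Schreier factor, part 363. -/
def facCodePart363 : Janko1.Tree ℕ := (.node (.node (.node (.node (.node (.node (.leaf 165451564) (.leaf 40326698)) (.node (.leaf 26451069) (.leaf 43702290))) (.node (.node (.leaf 215238920) (.leaf 23429170)) (.node (.leaf 90701873) (.leaf 27328562)))) (.node (.node (.node (.leaf 310607922) (.leaf 39606084)) (.node (.leaf 100650688) (.leaf 171380381))) (.node (.node (.leaf 363240778) (.leaf 370622513)) (.node (.leaf 69255217) (.leaf 370720817))))) (.node (.node (.node (.node (.leaf 137335548) (.leaf 370688049)) (.node (.leaf 152886370) (.leaf 137330738))) (.node (.node (.leaf 254692630) (.leaf 133849312)) (.node (.leaf 232791790) (.leaf 160074894)))) (.node (.node (.node (.leaf 291930161) (.leaf 134272770)) (.node (.leaf 40655441) (.leaf 154966750))) (.node (.node (.leaf 294010930) (.leaf 158941234)) (.node (.leaf 104242848) (.leaf 185354721)))))) (.node (.node (.node (.node (.node (.leaf 145293361) (.leaf 155697202)) (.node (.leaf 2392114) (.leaf 182255666))) (.node (.node (.leaf 146128944) (.leaf 338493489))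 (.node (.leaf 318561296) (.leaf 229359665)))) (.node (.node (.node (.leaf 369760718) (.leaf 338477300)) (.node (.leaf 36443362) (.leaf 378984973))) (.node (.node (.leaf 256442418) (.leaf 379093041)) (.node (.leaf 100681577) (.leaf 184720598))))) (.node (.node (.node (.node (.leaf 136009072) (.leaf 184533041)) (.node (.leaf 7487538) (.leaf 184680497))) (.node (.node (.leaf 74825778) (.leaf 379000354)) (.node (.leaf 162354809) (.leaf 379111354)))) (.node (.node (.node (.leaf 133529648) (.leaf 149724086)) (.node (.leaf 311987728) (.leaf 146817074))) (.node (.node (.leaf 359137328) (.leaf 150175794)) (.node (.leaf 376052376) (.leaf 146325932)))))))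

/-- A Schreier factor, part 364. -/
def facCodePart364 : Janko1.Tree ℕ := (.node (.node (.node (.node (.node (.node (.leaf 120324145) (.leaf 141937598)) (.node (.leaf 329957453) (.leaf 168821929))) (.node (.node (.leaf 88850481) (.leaf 171638834)) (.node (.leaf 11059249) (.leaf 141377586)))) (.node (.node (.node (.leaf 134201394) (.leaf 168171804)) (.node (.leaf 187123473) (.leaf 145247861))) (.node (.node (.leaf 139494616) (.leaf 215957553)) (.node (.leaf 261046321) (.leaf 216039473))))) (.node (.node (.node (.node (.leaf 243728433) (.leaf 329498673)) (.node (.leaf 219420050) (.leaf 329549678))) (.node (.node (.leaf 354294080) (.leaf 329518965)) (.node (.leaf 336529328) (.leaf 216023656)))) (.node (.node (.node (.leaf 58933298) (.leaf 147849266)) (.node (.leaf 264044593) (.leaf 342808164))) (.node (.node (.leaf 246649906) (.leaf 236027953)) (.node (.leaf 276185136) (.leaf 236046578)))))) (.node (.node (.node (.node (.node (.leaf 283607089) (.leaf 236109873)) (.node (.leaf 301908017) (.leaf 342720561))) (.node (.node (.leaf 337641522) (.leaf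 164549208)) (.node (.leaf 372705824) (.leaf 366264369)))) (.node (.node (.node (.leaf 151699506) (.leaf 366350750)) (.node (.leaf 205324338) (.leaf 164518986))) (.node (.node (.leaf 161022001) (.leaf 164581910)) (.node (.leaf 24887344) (.leaf 143478830))))) (.node (.node (.node (.node (.leaf 329275020) (.leaf 170416842)) (.node (.leaf 121508658) (.leaf 166518869))) (.node (.node (.leaf 280870960) (.leaf 143081522)) (.node (.leaf 362201137) (.leaf 169951282)))) (.node (.node (.node (.leaf 262815792) (.leaf 167018546)) (.node (.leaf 96869636) (.leaf 135971662))) (.node (.node (.leaf 150716465) (.leaf 135188390)) (.node (.leaf 148097790) (.leaf 161415218)))))))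

/-- A Schreier factor, part 365. -/
def facCodePart365 : Janko1.Tree ℕ := (.node (.node (.node (.node (.node (.node (.leaf 201824672) (.leaf 138924577)) (.node (.leaf 322437169) (.leaf 334168113))) (.node (.node (.leaf 105381936) (.leaf 334250033)) (.node (.leaf 369049649) (.leaf 222827809)))) (.node (.node (.node (.leaf 272042972) (.leaf 222926042)) (.node (.leaf 266065304) (.leaf 374980657))) (.node (.node (.leaf 301618612) (.leaf 177817877)) (.node (.leaf 30050185) (.leaf 177786294))))) (.node (.node (.node (.node (.leaf 92232952) (.leaf 374933809)) (.node (.leaf 63603702) (.leaf 375003961))) (.node (.node (.leaf 253345841) (.leaf 153813042)) (.node (.leaf 113131568) (.leaf 180404274)))) (.node (.node (.node (.leaf 295092273) (.leaf 153305138)) (.node (.leaf 130547761) (.leaf 16930972))) (.node (.node (.leaf 98713649) (.leaf 45940786)) (.node (.leaf 3653681) (.leaf 16564274)))))) (.node (.node (.node (.node (.node (.leaf 135741790) (.leaf 49775757)) (.node (.leaf 39043121) (.leaf 46255370))) (.node (.node (.leaf 133283888) (.leaf 43650068))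 (.node (.leaf 257710389) (.leaf 43712561)))) (.node (.node (.node (.leaf 240407929) (.leaf 295144742)) (.node (.leaf 340820016) (.leaf 43745329))) (.node (.node (.leaf 257458226) (.leaf 271941681)) (.node (.leaf 102514738) (.leaf 129752265))))) (.node (.node (.node (.node (.leaf 9830450) (.leaf 129761329)) (.node (.leaf 76766392) (.leaf 271864260))) (.node (.node (.leaf 170868785) (.leaf 271925297)) (.node (.leaf 139771952) (.leaf 23003186)))) (.node (.node (.node (.leaf 335692833) (.leaf 55967794)) (.node (.leaf 219742256) (.leaf 60850226))) (.node (.node (.leaf 354555622) (.leaf 23615117)) (.node (.leaf 355287089) (.leaf 56694857)))))))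

/-- A Schreier factor, part 366. -/
def facCodePart366 : Janko1.Tree ℕ := (.node (.node (.node (.node (.node (.node (.leaf 372854093) (.leaf 26886194)) (.node (.leaf 259541624) (.leaf 66458085))) (.node (.node (.leaf 153976881) (.leaf 33521714)) (.node (.leaf 5132132) (.leaf 66863154)))) (.node (.node (.node (.leaf 180781105) (.leaf 62292018)) (.node (.leaf 324534789) (.leaf 60147022))) (.node (.node (.leaf 233029680) (.leaf 60178481)) (.node (.leaf 366444593) (.leaf 304218141))))) (.node (.node (.node (.node (.leaf 327450672) (.leaf 304234545)) (.node (.leaf 328892896) (.leaf 113369226))) (.node (.node (.leaf 138794517) (.leaf 262733873)) (.node (.leaf 59679036) (.leaf 113344561)))) (.node (.node (.node (.leaf 251401285) (.leaf 9338930)) (.node (.leaf 226102682) (.leaf 43633090))) (.node (.node (.leaf 323096378) (.leaf 362070065)) (.node (.leaf 93570828) (.leaf 362037562)))))) (.node (.node (.node (.node (.node (.leaf 73910045) (.leaf 198058258)) (.node (.leaf 162955312) (.leaf 216893756))) (.node (.node (.leaf 209649712) (.leaf 203718706))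 (.node (.leaf 269631537) (.leaf 229837344)))) (.node (.node (.node (.leaf 251953201) (.leaf 200236580)) (.node (.leaf 241066424) (.leaf 189584657))) (.node (.node (.leaf 251877272) (.leaf 221446194)) (.node (.leaf 289521714) (.leaf 208209114))))) (.node (.node (.node (.node (.leaf 218906673) (.leaf 195314644)) (.node (.leaf 196528886) (.leaf 189415473))) (.node (.node (.leaf 169939720) (.leaf 311525409)) (.node (.leaf 176586800) (.leaf 149446696)))) (.node (.node (.node (.leaf 338527388) (.leaf 149454897)) (.node (.leaf 331842262) (.leaf 311513834))) (.node (.node (.leaf 289538098) (.leaf 211423312)) (.node (.leaf 212241160) (.leaf 353114164)))))))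

/-- A Schreier factor, part 367. -/
def facCodePart367 : Janko1.Tree ℕ := (.node (.node (.node (.node (.node (.node (.leaf 185745457) (.leaf 144363360)) (.node (.leaf 183255088) (.leaf 229679548))) (.node (.node (.leaf 309297201) (.leaf 186601229)) (.node (.leaf 325343932) (.leaf 225059096)))) (.node (.node (.node (.leaf 81549297) (.leaf 221626418)) (.node (.leaf 85560052) (.leaf 238174258))) (.node (.node (.leaf 176341040) (.leaf 203145265)) (.node (.leaf 196182064) (.leaf 136642609))))) (.node (.node (.node (.node (.leaf 262651953) (.leaf 347455537)) (.node (.leaf 245481521) (.leaf 136633706))) (.node (.node (.leaf 264912945) (.leaf 203128881)) (.node (.leaf 247595057) (.leaf 320438426)))) (.node (.node (.node (.leaf 243941426) (.leaf 214638220)) (.node (.leaf 281542706) (.leaf 201523250))) (.node (.node (.leaf 110477361) (.leaf 204996658)) (.node (.leaf 122622642) (.leaf 188647241)))))) (.node (.node (.node (.node (.node (.leaf 37248073) (.leaf 316131394)) (.node (.leaf 93868518) (.leaf 360947469))) (.node (.node (.leaf 244006961) (.leaf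 360923977)) (.node (.leaf 268140593) (.leaf 316116357)))) (.node (.node (.node (.leaf 250495025) (.leaf 196034609)) (.node (.leaf 316981306) (.leaf 191237616))) (.node (.node (.leaf 353124402) (.leaf 312623153)) (.node (.leaf 190993889) (.leaf 357750428))))) (.node (.node (.node (.node (.leaf 207723508) (.leaf 191254100)) (.node (.leaf 78240209) (.leaf 192905266))) (.node (.node (.leaf 330997498) (.leaf 236587129)) (.node (.leaf 312901681) (.leaf 206913586)))) (.node (.node (.node (.leaf 342087046) (.leaf 220332744)) (.node (.leaf 350896178) (.leaf 204849202))) (.node (.node (.leaf 353078042) (.leaf 188563506)) (.node (.leaf 201097265) (.leaf 214780562)))))))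

/-- A Schreier factor, part 368. -/
def facCodePart368 : Janko1.Tree ℕ := (.node (.node (.node (.node (.node (.node (.leaf 197729530) (.leaf 231982648)) (.node (.leaf 94142512) (.leaf 325222449))) (.node (.node (.leaf 62267136) (.leaf 209715249)) (.node (.leaf 37478785) (.leaf 352046358)))) (.node (.node (.node (.leaf 319422513) (.leaf 142639153)) (.node (.leaf 335478833) (.leaf 209698865))) (.node (.node (.leaf 317345182) (.leaf 325239218)) (.node (.leaf 279298176) (.leaf 348573382))))) (.node (.node (.node (.node (.leaf 71532980) (.leaf 321732657)) (.node (.leaf 85891088) (.leaf 207084378))) (.node (.node (.leaf 77905968) (.leaf 196411442)) (.node (.leaf 272629809) (.leaf 223773734)))) (.node (.node (.node (.leaf 255099900) (.leaf 193052722)) (.node (.leaf 239566897) (.leaf 210370610))) (.node (.node (.leaf 63340593) (.leaf 114016306)) (.node (.leaf 8077361) (.leaf 98369586)))))) (.node (.node (.node (.node (.node (.leaf 42683489) (.leaf 125665330)) (.node (.leaf 185401394) (.leaf 129941554))) (.node (.node (.leaf 235192796) (.leaf 81808582))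 (.node (.leaf 295966092) (.leaf 26959134)))) (.node (.node (.node (.leaf 311269553) (.leaf 26984497)) (.node (.leaf 325034302) (.leaf 242177293))) (.node (.node (.leaf 377995312) (.leaf 76273466)) (.node (.leaf 29753394) (.leaf 81943150))))) (.node (.node (.node (.node (.leaf 94979162) (.leaf 245514289)) (.node (.leaf 34052861) (.leaf 289526233))) (.node (.node (.leaf 98799032) (.leaf 32970145)) (.node (.leaf 65048574) (.leaf 32981041)))) (.node (.node (.node (.leaf 128144208) (.leaf 289512838)) (.node (.leaf 68994780) (.leaf 245497905))) (.node (.node (.leaf 358203441) (.leaf 103514162)) (.node (.leaf 375685169) (.leaf 76759090)))))))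

/-- A Schreier factor, part 369. -/
def facCodePart369 : Janko1.Tree ℕ := (.node (.node (.node (.node (.node (.node (.leaf 351411186) (.leaf 124141618)) (.node (.leaf 316214978) (.leaf 91996210))) (.node (.node (.leaf 320553008) (.leaf 72843314)) (.node (.leaf 374120553) (.leaf 107302049)))) (.node (.node (.node (.leaf 34119204) (.leaf 94654305)) (.node (.leaf 69025842) (.leaf 113901618))) (.node (.node (.leaf 132274066) (.leaf 78168366)) (.node (.leaf 128122930) (.leaf 98486440))))) (.node (.node (.node (.node (.leaf 346787532) (.leaf 250937393)) (.node (.leaf 364777490) (.leaf 92078540))) (.node (.node (.leaf 380534833) (.leaf 277282865)) (.node (.leaf 311609744) (.leaf 92053669)))) (.node (.node (.node (.leaf 365501814) (.leaf 250975006)) (.node (.leaf 21679958) (.leaf 16400433))) (.node (.node (.leaf 235179428) (.leaf 16384049)) (.node (.leaf 185457809) (.leaf 98009137)))))) (.node (.node (.node (.node (.node (.leaf 282414522) (.leaf 120184108)) (.node (.leaf 300384305) (.leaf 91834917))) (.node (.node (.leaf 320274480) (.leaf 76644402))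 (.node (.leaf 373889458) (.leaf 103612466)))) (.node (.node (.node (.leaf 315916336) (.leaf 87837788)) (.node (.leaf 369672240) (.leaf 124239922))) (.node (.node (.leaf 325115656) (.leaf 379360268)) (.node (.leaf 240943153) (.leaf 379535409))))) (.node (.node (.node (.node (.leaf 287889790) (.leaf 379323105)) (.node (.leaf 183058480) (.leaf 224739377))) (.node (.node (.leaf 206962738) (.leaf 199955228)) (.node (.leaf 104923185) (.leaf 226418042)))) (.node (.node (.node (.leaf 343113778) (.leaf 229736498)) (.node (.leaf 341082162) (.leaf 213647410))) (.node (.node (.leaf 316266200) (.leaf 194658794)) (.node (.leaf 320375145) (.leaf 221364968)))))))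

/-- A Schreier factor, part 370. -/
def facCodePart370 : Janko1.Tree ℕ := (.node (.node (.node (.node (.node (.node (.leaf 357161409) (.leaf 208670362)) (.node (.leaf 170005661) (.leaf 235143218))) (.node (.node (.leaf 98406120) (.leaf 176373809)) (.node (.leaf 218976957) (.leaf 176428592)))) (.node (.node (.node (.leaf 271974450) (.leaf 329646129)) (.node (.leaf 345833521) (.leaf 171474993))) (.node (.node (.leaf 183338033) (.leaf 171545994)) (.node (.leaf 361463857) (.leaf 344003594))))) (.node (.node (.node (.node (.leaf 163275086) (.leaf 344097556)) (.node (.leaf 98418738) (.leaf 203245934))) (.node (.node (.leaf 212287537) (.leaf 229609278)) (.node (.leaf 94538622) (.leaf 187056178)))) (.node (.node (.node (.leaf 65241138) (.leaf 190201906)) (.node (.leaf 271993818) (.leaf 216764086))) (.node (.node (.leaf 269653532) (.leaf 226318540)) (.node (.leaf 315981872) (.leaf 198410290)))))) (.node (.node (.node (.node (.node (.leaf 247554061) (.leaf 224985138)) (.node (.leaf 281329713) (.leaf 194822194))) (.node (.node (.leaf 169726604) (.leaf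 238075954)) (.node (.leaf 112935226) (.leaf 229589041)))) (.node (.node (.node (.leaf 116936464) (.leaf 365379633)) (.node (.leaf 343130162) (.leaf 229572657))) (.node (.node (.leaf 251559984) (.leaf 205471794)) (.node (.leaf 62062874) (.leaf 217877456))))) (.node (.node (.node (.node (.leaf 84164658) (.leaf 182992945)) (.node (.leaf 147504) (.leaf 183009329))) (.node (.node (.leaf 263618985) (.leaf 334348337)) (.node (.leaf 247529520) (.leaf 375095345)))) (.node (.node (.node (.leaf 349438001) (.leaf 375086709)) (.node (.leaf 360683800) (.leaf 217778242))) (.node (.node (.leaf 54172089) (.leaf 217809374)) (.node (.leaf 198475826) (.leaf 197123425)))))))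

/-- A Schreier factor, part 371. -/
def facCodePart371 : Janko1.Tree ℕ := (.node (.node (.node (.node (.node (.node (.leaf 217464881) (.leaf 223871026)) (.node (.leaf 194904114) (.leaf 206602290))) (.node (.node (.leaf 10525881) (.leaf 209934830)) (.node (.leaf 332979326) (.leaf 220269936)))) (.node (.node (.node (.leaf 251887664) (.leaf 202211378)) (.node (.leaf 317243946) (.leaf 218071090))) (.node (.node (.leaf 356204593) (.leaf 188137478)) (.node (.leaf 62359174) (.leaf 214703702))))) (.node (.node (.node (.node (.leaf 37552176) (.leaf 231948338)) (.node (.leaf 198450898) (.leaf 369707256))) (.node (.node (.leaf 27902000) (.leaf 369721524)) (.node (.leaf 332988466) (.leaf 369754161)))) (.node (.node (.node (.leaf 529137) (.leaf 236225841)) (.node (.leaf 247218926) (.leaf 339646120))) (.node (.node (.leaf 239508744) (.leaf 164675633)) (.node (.leaf 54041637) (.leaf 164646170)))))) (.node (.node (.node (.node (.node (.leaf 275562545) (.leaf 339673137)) (.node (.leaf 45645872) (.leaf 339755057))) (.node (.node (.leaf 84115506) (.leaf 209797170))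 (.node (.leaf 80265266) (.leaf 193626162)))) (.node (.node (.node (.leaf 263569458) (.leaf 223707186)) (.node (.leaf 10092592) (.leaf 206410492))) (.node (.node (.leaf 270882125) (.leaf 82582201)) (.node (.leaf 259571761) (.leaf 94134105))))) (.node (.node (.node (.node (.leaf 189464624) (.leaf 97994166)) (.node (.leaf 295703005) (.leaf 110025352))) (.node (.node (.leaf 158810162) (.leaf 107479976)) (.node (.leaf 155705076) (.leaf 304365617)))) (.node (.node (.node (.leaf 377375497) (.leaf 107420300)) (.node (.leaf 8323448) (.leaf 107495473))) (.node (.node (.leaf 196444806) (.leaf 66437169)) (.node (.leaf 203325488) (.leaf 262772634)))))))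

/-- A Schreier factor, part 372. -/
def facCodePart372 : Janko1.Tree ℕ := (.node (.node (.node (.node (.node (.node (.leaf 369139808) (.leaf 262832177)) (.node (.leaf 193876812) (.leaf 92442761))) (.node (.node (.leaf 36032196) (.leaf 124032298)) (.node (.leaf 328581169) (.leaf 97828914)))) (.node (.node (.node (.leaf 365467830) (.leaf 109854813)) (.node (.leaf 209862704) (.leaf 82460722))) (.node (.node (.leaf 364578760) (.leaf 113826374)) (.node (.leaf 189759536) (.leaf 94028225))))) (.node (.node (.node (.node (.leaf 380127416) (.leaf 125468722)) (.node (.leaf 187277132) (.leaf 268632113))) (.node (.node (.leaf 36067182) (.leaf 268702158)) (.node (.leaf 210649137) (.leaf 43782857)))) (.node (.node (.node (.leaf 130909304) (.leaf 43862893)) (.node (.leaf 306249778) (.leaf 268664881))) (.node (.node (.leaf 126566450) (.leaf 268734088)) (.node (.leaf 264002376) (.leaf 129892954)))))) (.node (.node (.node (.node (.node (.leaf 373825402) (.leaf 129977752)) (.node (.leaf 266358706) (.leaf 298734938))) (.node (.node (.leaf 369606704) (.leaf 298795057))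 (.node (.leaf 300204081) (.leaf 298811441)))) (.node (.node (.node (.leaf 196083760) (.leaf 129880169)) (.node (.leaf 158884054) (.leaf 107381516))) (.node (.node (.leaf 377356338) (.leaf 72338349)) (.node (.leaf 17416241) (.leaf 103563314))))) (.node (.node (.node (.node (.leaf 379838494) (.leaf 92591944)) (.node (.leaf 21938225) (.leaf 124175578))) (.node (.node (.leaf 241582129) (.leaf 194936881)) (.node (.leaf 236044336) (.leaf 315392049)))) (.node (.node (.node (.leaf 183814338) (.leaf 327368754)) (.node (.leaf 361041525) (.leaf 318734386))) (.node (.node (.leaf 73056305) (.leaf 310124524)) (.node (.leaf 356810800) (.leaf 326811698)))))))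

/-- A Schreier factor, part 373. -/
def facCodePart373 : Janko1.Tree ℕ := (.node (.node (.node (.node (.node (.node (.leaf 349798449) (.leaf 324272178)) (.node (.leaf 320897073) (.leaf 344382956))) (.node (.node (.leaf 223121268) (.leaf 342547806)) (.node (.leaf 314310705) (.leaf 334037042)))) (.node (.node (.node (.leaf 229605424) (.leaf 335560930)) (.node (.leaf 62806946) (.leaf 309825837))) (.node (.node (.leaf 148815921) (.leaf 186761265)) (.node (.leaf 66928690) (.leaf 146505777))))) (.node (.node (.node (.node (.leaf 27958746) (.leaf 354656180)) (.node (.leaf 287031346) (.leaf 146423857))) (.node (.node (.leaf 31752242) (.leaf 186662961)) (.node (.leaf 361143821) (.leaf 208342938)))) (.node (.node (.node (.leaf 345243697) (.leaf 324428120)) (.node (.leaf 309870641) (.leaf 141541425))) (.node (.node (.leaf 216252464) (.leaf 208437297)) (.node (.leaf 66965256) (.leaf 337346610)))))) (.node (.node (.node (.node (.node (.leaf 133042153) (.leaf 338842577)) (.node (.leaf 289444750) (.leaf 309577380))) (.node (.node (.leaf 286998578) (.leaf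 321309868)) (.node (.leaf 245858353) (.leaf 336150578)))) (.node (.node (.node (.leaf 222822448) (.leaf 344883250)) (.node (.leaf 15925297) (.leaf 318537777))) (.node (.node (.leaf 84827852) (.leaf 318455857)) (.node (.leaf 273882413) (.leaf 310460466))))) (.node (.node (.node (.node (.leaf 279314481) (.leaf 313411154)) (.node (.leaf 286888736) (.leaf 322289686))) (.node (.node (.leaf 52141421) (.leaf 153469489)) (.node (.leaf 12550194) (.leaf 359219249)))) (.node (.node (.node (.leaf 279141524) (.leaf 153387057)) (.node (.leaf 348822085) (.leaf 188252209))) (.node (.node (.leaf 283082800) (.leaf 148078641)) (.node (.leaf 360160146) (.leaf 355865362)))))))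

/-- A Schreier factor, part 374. -/
def facCodePart374 : Janko1.Tree ℕ := (.node (.node (.node (.node (.node (.node (.leaf 313344049) (.leaf 355945886)) (.node (.leaf 109297712) (.leaf 148144177))) (.node (.node (.leaf 324812849) (.leaf 188317745)) (.node (.leaf 171982898) (.leaf 332136498)))) (.node (.node (.node (.leaf 168444593) (.leaf 343740250)) (.node (.leaf 154507672) (.leaf 341196850))) (.node (.node (.leaf 77037616) (.leaf 325419058)) (.node (.leaf 352993966) (.leaf 323520368))))) (.node (.node (.node (.node (.leaf 350748722) (.leaf 316194866)) (.node (.leaf 287178800) (.leaf 320077874))) (.node (.node (.leaf 353419313) (.leaf 310935602)) (.node (.leaf 125492561) (.leaf 328892466)))) (.node (.node (.node (.leaf 317851277) (.leaf 337788978)) (.node (.leaf 101842992) (.leaf 340574258))) (.node (.node (.leaf 168461072) (.leaf 206749745)) (.node (.leaf 144113713) (.leaf 140001329)))))) (.node (.node (.node (.node (.node (.leaf 92821777) (.leaf 139958634)) (.node (.leaf 350765106) (.leaf 350175281))) (.node (.node (.leaf 282771504) (.leaf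 201752625)) (.node (.leaf 290521137) (.leaf 319626882)))) (.node (.node (.node (.leaf 278151216) (.leaf 346619953)) (.node (.leaf 255480461) (.leaf 135462961))) (.node (.node (.leaf 117112880) (.leaf 346734641)) (.node (.leaf 109007928) (.leaf 201804620))))) (.node (.node (.node (.node (.leaf 34570289) (.leaf 343130162)) (.node (.leaf 47991162) (.leaf 334549657))) (.node (.node (.leaf 3571761) (.leaf 332644402)) (.node (.leaf 281444402) (.leaf 313966642)))) (.node (.node (.node (.leaf 12589973) (.leaf 322945074)) (.node (.leaf 279167026) (.leaf 326008882))) (.node (.node (.leaf 329682754) (.leaf 263442680)) (.node (.leaf 271499313) (.leaf 252346418)))))))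

/-- A Schreier factor, part 375. -/
def facCodePart375 : Janko1.Tree ℕ := (.node (.node (.node (.node (.node (.node (.leaf 156177449) (.leaf 243765413)) (.node (.leaf 260194353) (.leaf 245268530))) (.node (.node (.leaf 63864881) (.leaf 240271409)) (.node (.leaf 238043186) (.leaf 72716765)))) (.node (.node (.node (.leaf 43106353) (.leaf 23451049)) (.node (.leaf 235290674) (.leaf 284442673))) (.node (.node (.leaf 126552182) (.leaf 23494705)) (.node (.leaf 374952982) (.leaf 243622328))))) (.node (.node (.node (.node (.leaf 334561328) (.leaf 78676017)) (.node (.leaf 338972416) (.leaf 287758441))) (.node (.node (.leaf 142909452) (.leaf 287703089)) (.node (.leaf 340312113) (.leaf 29383160)))) (.node (.node (.node (.leaf 149543704) (.leaf 78594097)) (.node (.leaf 167330918) (.leaf 251251445))) (.node (.node (.leaf 94867713) (.leaf 266764338)) (.node (.leaf 255381505) (.leaf 257920200)))))) (.node (.node (.node (.node (.node (.leaf 98615346) (.leaf 259413996)) (.node (.leaf 364025454) (.leaf 270243092))) (.node (.node (.leaf 343261232) (.leaf 271958066))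 (.node (.leaf 379077426) (.leaf 262851841)))) (.node (.node (.node (.leaf 330007174) (.leaf 261164214)) (.node (.leaf 160734845) (.leaf 88443645))) (.node (.node (.leaf 128243124) (.leaf 4964401)) (.node (.leaf 255410226) (.leaf 5084082))))) (.node (.node (.node (.node (.leaf 299748453) (.leaf 94620804)) (.node (.leaf 334381104) (.leaf 12174517))) (.node (.node (.leaf 149159984) (.leaf 12124209)) (.node (.leaf 264585265) (.leaf 278822961)))) (.node (.node (.node (.leaf 142590000) (.leaf 252379185)) (.node (.leaf 266980509) (.leaf 94584881))) (.node (.node (.leaf 51281969) (.leaf 249021916)) (.node (.leaf 55443505) (.leaf 242188338)))))))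

/-- A Schreier factor, part 376. -/
def facCodePart376 : Janko1.Tree ℕ := (.node (.node (.node (.node (.node (.node (.leaf 324321330) (.leaf 260014130)) (.node (.leaf 114294833) (.leaf 257441842))) (.node (.node (.leaf 326533170) (.leaf 266175081)) (.node (.leaf 118341681) (.leaf 269238322)))) (.node (.node (.node (.leaf 210354226) (.leaf 181813297)) (.node (.leaf 61800497) (.leaf 181878833))) (.node (.node (.leaf 6373425) (.leaf 221659185)) (.node (.leaf 153817246) (.leaf 221691953))))) (.node (.node (.node (.node (.leaf 207110194) (.leaf 333548746)) (.node (.leaf 270123605) (.leaf 327286834))) (.node (.node (.leaf 216023088) (.leaf 330514482)) (.node (.leaf 258855105) (.leaf 339297426)))) (.node (.node (.node (.leaf 236113810) (.leaf 336797428)) (.node (.leaf 148577436) (.leaf 326540433))) (.node (.node (.leaf 94650418) (.leaf 324804728)) (.node (.leaf 175972757) (.leaf 342481017)))))) (.node (.node (.node (.node (.node (.leaf 139036573) (.leaf 315854744)) (.node (.leaf 33505330) (.leaf 333988196))) (.node (.node (.leaf 339084312) (.leaf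 327737342)) (.node (.leaf 332354925) (.leaf 173560096)))) (.node (.node (.node (.leaf 314376332) (.leaf 372146225)) (.node (.leaf 229670960) (.leaf 372165024))) (.node (.node (.leaf 182452273) (.leaf 235028529)) (.node (.leaf 156368944) (.leaf 318930994))))) (.node (.node (.node (.node (.leaf 236421168) (.leaf 338761844)) (.node (.leaf 343425073) (.leaf 329891890))) (.node (.node (.leaf 325783450) (.leaf 310004708)) (.node (.leaf 216307862) (.leaf 327925810)))) (.node (.node (.node (.leaf 153784681) (.leaf 336075018)) (.node (.leaf 20103217) (.leaf 324206642))) (.node (.node (.leaf 156813832) (.leaf 342065202)) (.node (.leaf 210388480) (.leaf 326965608)))))))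

/-- A Schreier factor, part 377. -/
def facCodePart377 : Janko1.Tree ℕ := (.node (.node (.node (.node (.node (.node (.leaf 53612096) (.leaf 344760036)) (.node (.leaf 263258161) (.leaf 226590769))) (.node (.node (.leaf 265552952) (.leaf 363561009)) (.node (.leaf 248028532) (.leaf 160145790)))) (.node (.node (.node (.leaf 222920752) (.leaf 160219185)) (.node (.leaf 13079697) (.leaf 321967224))) (.node (.node (.leaf 80435401) (.leaf 320017805)) (.node (.leaf 18729338) (.leaf 329341093))))) (.node (.node (.node (.node (.leaf 1414601) (.leaf 332269834)) (.node (.leaf 261885657) (.leaf 332372532))) (.node (.node (.leaf 244613169) (.leaf 219922481)) (.node (.leaf 101531696) (.leaf 219995002)))) (.node (.node (.node (.leaf 28622896) (.leaf 180099988)) (.node (.leaf 268763185) (.leaf 180158513))) (.node (.node (.leaf 251157057) (.leaf 376373297)) (.node (.leaf 137822257) (.leaf 373261565)))))) (.node (.node (.node (.node (.node (.leaf 144744665) (.leaf 373312225)) (.node (.leaf 198623282) (.leaf 175194161))) (.node (.node (.leaf 164364337) (.leaf 175292465))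 (.node (.leaf 154320945) (.leaf 214876209)))) (.node (.node (.node (.leaf 141560804) (.leaf 214947648)) (.node (.leaf 195009200) (.leaf 329007153))) (.node (.node (.leaf 181092401) (.leaf 329097592)) (.node (.leaf 11599920) (.leaf 313901289))))) (.node (.node (.node (.node (.leaf 109396016) (.leaf 335069234)) (.node (.leaf 342493126) (.leaf 343670834))) (.node (.node (.leaf 117506096) (.leaf 341114930)) (.node (.leaf 147210981) (.leaf 313327666)))) (.node (.node (.node (.leaf 141574593) (.leaf 331616594)) (.node (.leaf 195024940) (.leaf 310612729))) (.node (.node (.leaf 174375488) (.leaf 328777778)) (.node (.leaf 143901294) (.leaf 319348925)))))))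

/-- A Schreier factor, part 378. -/
def facCodePart378 : Janko1.Tree ℕ := (.node (.node (.node (.node (.node (.node (.leaf 144687154) (.leaf 337707058)) (.node (.leaf 198590514) (.leaf 322502706))) (.node (.node (.leaf 171232057) (.leaf 340525106)) (.node (.leaf 338252376) (.leaf 233328710)))) (.node (.node (.node (.leaf 320094257) (.leaf 341295153)) (.node (.leaf 125550640) (.leaf 341377073))) (.node (.node (.leaf 336085041) (.leaf 367886385)) (.node (.leaf 317898801) (.leaf 166625329))))) (.node (.node (.node (.node (.leaf 34373681) (.leaf 161693745)) (.node (.leaf 18680149) (.leaf 161742897))) (.node (.node (.leaf 3328578) (.leaf 338051892)) (.node (.leaf 20402041) (.leaf 323715360)))) (.node (.node (.node (.leaf 255631726) (.leaf 325337138)) (.node (.leaf 117202038) (.leaf 343038332))) (.node (.node (.leaf 11293876) (.leaf 316375090)) (.node (.leaf 109101104) (.leaf 332562482)))))) (.node (.node (.node (.node (.node (.leaf 126456032) (.leaf 243109840)) (.node (.leaf 344309810) (.leaf 260456498))) (.node (.node (.leaf 106318504) (.leaf 254607410))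 (.node (.leaf 377241650) (.leaf 251987817)))) (.node (.node (.node (.leaf 75235377) (.leaf 269767906)) (.node (.leaf 288414908) (.leaf 302598274))) (.node (.node (.leaf 306402110) (.leaf 56531677)) (.node (.leaf 329601885) (.leaf 56610550))))) (.node (.node (.node (.node (.leaf 360988720) (.leaf 103956529)) (.node (.leaf 63291442) (.leaf 261051054))) (.node (.node (.leaf 126386226) (.leaf 109903921)) (.node (.leaf 67207261) (.leaf 62750769)))) (.node (.node (.node (.leaf 308166706) (.leaf 305692721)) (.node (.leaf 130650258) (.leaf 305725489))) (.node (.node (.leaf 352305374) (.leaf 250907502)) (.node (.leaf 338919997) (.leaf 259309618)))))))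

/-- A Schreier factor, part 379. -/
def facCodePart379 : Janko1.Tree ℕ := (.node (.node (.node (.node (.node (.node (.leaf 67239986) (.leaf 252559410)) (.node (.leaf 273072178) (.leaf 270188594))) (.node (.node (.leaf 270798600) (.leaf 262783026)) (.node (.leaf 306102322) (.leaf 243646514)))) (.node (.node (.node (.leaf 361207466) (.leaf 40083213)) (.node (.leaf 343179312) (.leaf 293486641))) (.node (.node (.leaf 347819080) (.leaf 266731569)) (.node (.leaf 379571408) (.leaf 120034710))))) (.node (.node (.node (.node (.leaf 342196274) (.leaf 126140465)) (.node (.leaf 377216180) (.leaf 270113818))) (.node (.node (.leaf 344375346) (.leaf 296894513)) (.node (.leaf 86999089) (.leaf 46272358)))) (.node (.node (.node (.leaf 356622493) (.leaf 242619274)) (.node (.leaf 281790680) (.leaf 259964978))) (.node (.node (.leaf 352077510) (.leaf 248414258)) (.node (.leaf 283918385) (.leaf 266113228)))))) (.node (.node (.node (.node (.node (.leaf 215782752) (.leaf 158338433)) (.node (.leaf 186556513) (.leaf 362486306))) (.node (.node (.leaf 133598402) (.leaf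 158307968)) (.node (.leaf 232232030) (.leaf 198465828)))) (.node (.node (.node (.leaf 363534184) (.leaf 309379122)) (.node (.leaf 33538097) (.leaf 339361842))) (.node (.node (.leaf 129932076) (.leaf 328178614)) (.node (.leaf 294600754) (.leaf 333283378))))) (.node (.node (.node (.node (.leaf 259031090) (.leaf 317882418)) (.node (.leaf 74336566) (.leaf 344345885))) (.node (.node (.leaf 145571888) (.leaf 335527986)) (.node (.leaf 368263216) (.leaf 311836721)))) (.node (.node (.node (.leaf 314507312) (.leaf 189874225)) (.node (.leaf 146529205) (.leaf 149831729))) (.node (.node (.leaf 292359908) (.leaf 211746865)) (.node (.leaf 41193156) (.leaf 144709089)))))))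

/-- A Schreier factor, part 380. -/
def facCodePart380 : Janko1.Tree ℕ := (.node (.node (.node (.node (.node (.node (.leaf 70385714) (.leaf 144719921)) (.node (.leaf 1873366) (.leaf 353540168))) (.node (.node (.leaf 133072036) (.leaf 211781409)) (.node (.leaf 323551280) (.leaf 338821170)))) (.node (.node (.node (.leaf 180518960) (.leaf 312099080)) (.node (.leaf 207176969) (.leaf 327571317))) (.node (.node (.leaf 189366321) (.leaf 321290290)) (.node (.leaf 365958513) (.leaf 342676101))))) (.node (.node (.node (.node (.leaf 330603876) (.leaf 326360749)) (.node (.leaf 212418610) (.leaf 317313556))) (.node (.node (.leaf 218873904) (.leaf 324075570)) (.node (.leaf 138994094) (.leaf 344866866)))) (.node (.node (.node (.leaf 318440241) (.leaf 320916498)) (.node (.leaf 173654064) (.leaf 136986673))) (.node (.node (.leaf 200182381) (.leaf 347902945)) (.node (.leaf 109514048) (.leaf 320903137)))))) (.node (.node (.node (.node (.node (.leaf 78020657) (.leaf 203489329)) (.node (.leaf 26574898) (.leaf 319936413))) (.node (.node (.leaf 31883312) (.leaf 331041474))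 (.node (.leaf 241172810) (.leaf 196663734)))) (.node (.node (.node (.leaf 52052017) (.leaf 361332785)) (.node (.leaf 42057776) (.leaf 361349169))) (.node (.node (.leaf 115231826) (.leaf 196646709)) (.node (.leaf 83630345) (.leaf 316428576))))) (.node (.node (.node (.node (.leaf 373194802) (.leaf 313070496)) (.node (.leaf 338182194) (.leaf 191594545))) (.node (.node (.leaf 230546056) (.leaf 151605848)) (.node (.leaf 177409502) (.leaf 358211820)))) (.node (.node (.node (.leaf 24432278) (.leaf 313089154)) (.node (.leaf 135891681) (.leaf 343720430))) (.node (.node (.leaf 161944734) (.leaf 323141682)) (.node (.leaf 214810673) (.leaf 332775474)))))))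

/-- A Schreier factor, part 381. -/
def facCodePart381 : Janko1.Tree ℕ := (.node (.node (.node (.node (.node (.node (.leaf 375528772) (.leaf 338431473)) (.node (.leaf 340332264) (.leaf 321749042))) (.node (.node (.leaf 227196978) (.leaf 312868914)) (.node (.leaf 254492720) (.leaf 325688048)))) (.node (.node (.node (.leaf 98517040) (.leaf 352475849)) (.node (.leaf 204963889) (.leaf 210043142))) (.node (.node (.leaf 266605542) (.leaf 322078564)) (.node (.leaf 59365114) (.leaf 138592305))))) (.node (.node (.node (.node (.leaf 87723681) (.leaf 138609841)) (.node (.leaf 22691890) (.leaf 348962865))) (.node (.node (.leaf 112656432) (.leaf 322043953)) (.node (.leaf 303349808) (.leaf 323682564)))) (.node (.node (.node (.leaf 64622536) (.leaf 314515900)) (.node (.leaf 95703218) (.leaf 325993140))) (.node (.node (.leaf 212140894) (.leaf 254132416)) (.node (.leaf 132710448) (.leaf 270163082)))))) (.node (.node (.node (.node (.node (.leaf 191479858) (.leaf 261313745)) (.node (.leaf 40042545) (.leaf 76677169))) (.node (.node (.leaf 43142261) (.leaf 82444337))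 (.node (.leaf 293424013) (.leaf 33506000)))) (.node (.node (.node (.leaf 139231280) (.leaf 33495380)) (.node (.leaf 72286258) (.leaf 82427953))) (.node (.node (.leaf 4440114) (.leaf 245792817)) (.node (.leaf 144818225) (.leaf 257343538))))) (.node (.node (.node (.node (.leaf 171917361) (.leaf 242663474)) (.node (.leaf 224747948) (.leaf 268681266))) (.node (.node (.leaf 197837025) (.leaf 248877714)) (.node (.leaf 173932820) (.leaf 240426096)))) (.node (.node (.node (.leaf 200466864) (.leaf 259381677)) (.node (.leaf 260168920) (.leaf 243551761))) (.node (.node (.leaf 152473314) (.leaf 260685874)) (.node (.leaf 9314662) (.leaf 254705714)))))))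

/-- A Schreier factor, part 382. -/
def facCodePart382 : Janko1.Tree ℕ := (.node (.node (.node (.node (.node (.node (.leaf 155292213) (.leaf 92495053)) (.node (.leaf 181787128) (.leaf 251314225))) (.node (.node (.leaf 363826074) (.leaf 277774385)) (.node (.leaf 217371269) (.leaf 98385969)))) (.node (.node (.node (.leaf 164380722) (.leaf 254623793)) (.node (.leaf 364792289) (.leaf 281233548))) (.node (.node (.leaf 145375280) (.leaf 281218125)) (.node (.leaf 135152020) (.leaf 98402353))))) (.node (.node (.node (.node (.leaf 27443249) (.leaf 266919516)) (.node (.leaf 60705969) (.leaf 250642482))) (.node (.node (.leaf 367903870) (.leaf 242161634)) (.node (.leaf 123701642) (.leaf 259997746)))) (.node (.node (.node (.leaf 91930673) (.leaf 239878194)) (.node (.leaf 166822236) (.leaf 248365106))) (.node (.node (.leaf 193467356) (.leaf 269205554)) (.node (.leaf 160354530) (.leaf 335675441)))))) (.node (.node (.node (.node (.node (.leaf 70320177) (.leaf 335740977)) (.node (.leaf 38147361) (.leaf 380231285))) (.node (.node (.leaf 33439793) (.leaf 335691825))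 (.node (.leaf 159929348) (.leaf 312377394)))) (.node (.node (.node (.leaf 132792518) (.leaf 330502724)) (.node (.leaf 232182490) (.leaf 321196253))) (.node (.node (.leaf 216350770) (.leaf 339279922)) (.node (.leaf 133209880) (.leaf 337166386))))) (.node (.node (.node (.node (.leaf 348199225) (.leaf 328089650)) (.node (.leaf 196039172) (.leaf 333168690))) (.node (.node (.leaf 368151232) (.leaf 326508849)) (.node (.leaf 146456625) (.leaf 317227546)))) (.node (.node (.node (.leaf 41713714) (.leaf 216498225)) (.node (.leaf 139302209) (.leaf 216583201))) (.node (.node (.leaf 241664050) (.leaf 176783397)) (.node (.leaf 6489326) (.leaf 176865734)))))))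

/-- A Schreier factor, part 383. -/
def facCodePart383 : Janko1.Tree ℕ := (.node (.node (.node (.node (.node (.node (.leaf 69713970) (.leaf 216481841)) (.node (.leaf 206241841) (.leaf 237469745))) (.node (.node (.leaf 187105328) (.leaf 171966513)) (.node (.leaf 376700976) (.leaf 171921870)))) (.node (.node (.node (.leaf 137068593) (.leaf 237338673)) (.node (.leaf 309985328) (.leaf 237493845))) (.node (.node (.leaf 152609114) (.leaf 338746037)) (.node (.leaf 212336688) (.leaf 311789420))))) (.node (.node (.node (.node (.leaf 239374921) (.leaf 309665445)) (.node (.leaf 1261618) (.leaf 327491756))) (.node (.node (.leaf 73695282) (.leaf 318292018)) (.node (.leaf 173711673) (.leaf 324964710)))) (.node (.node (.node (.leaf 193354248) (.leaf 333827261)) (.node (.leaf 372129840) (.leaf 317816882))) (.node (.node (.leaf 58900529) (.leaf 336035890)) (.node (.leaf 12173361) (.leaf 326932954)))))) (.node (.node (.node (.node (.node (.leaf 314248196) (.leaf 344735794)) (.node (.leaf 218808368) (.leaf 365681521))) (.node (.node (.leaf 213129273) (.leaf 365764045))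 (.node (.leaf 312393778) (.leaf 365658161)))) (.node (.node (.node (.leaf 185862781) (.leaf 339083313)) (.node (.leaf 345919702) (.leaf 339138500))) (.node (.node (.leaf 115032113) (.leaf 319492148)) (.node (.leaf 254312496) (.leaf 330956850))))) (.node (.node (.node (.node (.leaf 128778288) (.leaf 183500849)) (.node (.leaf 251199538) (.leaf 183484465))) (.node (.node (.leaf 284172098) (.leaf 223428657)) (.node (.leaf 50413616) (.leaf 331223006)))) (.node (.node (.node (.leaf 211651217) (.leaf 331335581)) (.node (.leaf 135774257) (.leaf 331258329))) (.node (.node (.leaf 250102942) (.leaf 331366449)) (.node (.leaf 174604338) (.leaf 316882994)))))))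

/-- A Schreier factor, part 384. -/
def facCodePart384 : Janko1.Tree ℕ := (.node (.node (.node (.node (.node (.node (.leaf 15826992) (.leaf 335057753)) (.node (.leaf 120799248) (.leaf 325965469))) (.node (.node (.leaf 319840406) (.leaf 323590268)) (.node (.leaf 204133806) (.leaf 314736690)))) (.node (.node (.node (.leaf 67043376) (.leaf 320178048)) (.node (.leaf 194757521) (.leaf 338378802))) (.node (.node (.leaf 151919462) (.leaf 322469938)) (.node (.leaf 104796485) (.leaf 370134381))))) (.node (.node (.node (.node (.leaf 227786802) (.leaf 370180145)) (.node (.leaf 150586462) (.leaf 370170948))) (.node (.node (.leaf 200593593) (.leaf 343414468)) (.node (.leaf 355811378) (.leaf 343491490)))) (.node (.node (.node (.leaf 127312072) (.leaf 165003313)) (.node (.leaf 303251504) (.leaf 165041596))) (.node (.node (.leaf 44158172) (.leaf 165108729)) (.node (.leaf 31072364) (.leaf 231605808)))))) (.node (.node (.node (.node (.node (.leaf 55722034) (.leaf 325320754)) (.node (.leaf 112599326) (.leaf 316361017))) (.node (.node (.leaf 123289650) (.leaf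 334495794)) (.node (.leaf 248807474) (.leaf 314097714)))) (.node (.node (.node (.leaf 91095090) (.leaf 323059762)) (.node (.leaf 186811320) (.leaf 263372850))) (.node (.node (.leaf 180338736) (.leaf 254596846)) (.node (.leaf 5050558) (.leaf 252428338))))) (.node (.node (.node (.node (.leaf 309806172) (.leaf 270095485)) (.node (.leaf 376406064) (.leaf 243875890))) (.node (.node (.leaf 68960305) (.leaf 261275816)) (.node (.leaf 164839474) (.leaf 304683744)))) (.node (.node (.node (.leaf 313524274) (.leaf 259981361)) (.node (.leaf 137959594) (.leaf 260036597))) (.node (.node (.leaf 224577424) (.leaf 113803313)) (.node (.leaf 201261105) (.leaf 66929942)))))))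

/-- A Schreier factor, part 385. -/
def facCodePart385 : Janko1.Tree ℕ := (.node (.node (.node (.node (.node (.node (.leaf 144725360) (.leaf 66846788)) (.node (.leaf 219054128) (.leaf 239779890))) (.node (.node (.leaf 107380786) (.leaf 257278002)) (.node (.leaf 39583794) (.leaf 248594482)))) (.node (.node (.node (.leaf 277747232) (.leaf 268599346)) (.node (.leaf 240508502) (.leaf 242091186))) (.node (.node (.leaf 3817522) (.leaf 259293234)) (.node (.leaf 234274865) (.leaf 254068454))))) (.node (.node (.node (.node (.leaf 207093808) (.leaf 271876146)) (.node (.leaf 160616280) (.leaf 245533004))) (.node (.node (.leaf 155210789) (.leaf 243204146)) (.node (.leaf 363741232) (.leaf 251871282)))) (.node (.node (.node (.leaf 165298225) (.leaf 269566002)) (.node (.leaf 232456240) (.leaf 124092465))) (.node (.node (.leaf 242769798) (.leaf 124133460)) (.node (.leaf 123442560) (.leaf 272433201)))))) (.node (.node (.node (.node (.node (.leaf 200081456) (.leaf 272465969)) (.node (.leaf 166909722) (.leaf 299093588))) (.node (.node (.leaf 80134193) (.leaf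 299139210)) (.node (.leaf 367804464) (.leaf 272419138)))) (.node (.node (.node (.leaf 225484426) (.leaf 249118770)) (.node (.leaf 218111925) (.leaf 266850305))) (.node (.node (.leaf 161431602) (.leaf 240353330)) (.node (.leaf 139058065) (.leaf 257720370))))) (.node (.node (.node (.node (.leaf 190808114) (.leaf 242597938)) (.node (.leaf 349278217) (.leaf 259954153))) (.node (.node (.leaf 1826912) (.leaf 314933468)) (.node (.leaf 66504080) (.leaf 359940145)))) (.node (.node (.node (.leaf 153492693) (.leaf 154800270)) (.node (.leaf 359367010) (.leaf 194519341))) (.node (.node (.leaf 186368050) (.leaf 213008434)) (.node (.leaf 185649113) (.leaf 216908448)))))))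

/-- A Schreier factor, part 386. -/
def facCodePart386 : Janko1.Tree ℕ := (.node (.node (.node (.node (.node (.node (.leaf 179161312) (.leaf 203740700)) (.node (.leaf 159277445) (.leaf 226924428))) (.node (.node (.leaf 215929332) (.leaf 187121714)) (.node (.leaf 330434742) (.leaf 189603040)))) (.node (.node (.node (.leaf 173153850) (.leaf 237928498)) (.node (.leaf 146792045) (.leaf 234815538))) (.node (.node (.leaf 332776929) (.leaf 211619661)) (.node (.leaf 74268722) (.leaf 186324733))))) (.node (.node (.node (.node (.leaf 1982514) (.leaf 145965105)) (.node (.leaf 294734354) (.leaf 146064549))) (.node (.node (.leaf 41074738) (.leaf 354304049)) (.node (.leaf 256778105) (.leaf 186253361)))) (.node (.node (.node (.leaf 152895537) (.leaf 208001545)) (.node (.leaf 134185008) (.leaf 350952096))) (.node (.node (.leaf 189946500) (.leaf 208065450)) (.node (.leaf 345998466) (.leaf 324059780)))))) (.node (.node (.node (.node (.node (.leaf 159514672) (.leaf 189744936)) (.node (.leaf 7160870) (.leaf 186942148))) (.node (.node (.leaf 292503602) (.leaf 216793138))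 (.node (.leaf 36913202) (.leaf 213155890)))) (.node (.node (.node (.leaf 104955954) (.leaf 199786546)) (.node (.leaf 258872809) (.leaf 203889700))) (.node (.node (.leaf 140039012) (.leaf 222053345)) (.node (.leaf 337084464) (.leaf 198754354))))) (.node (.node (.node (.node (.leaf 78716329) (.leaf 234658148)) (.node (.leaf 189612082) (.leaf 318177329))) (.node (.node (.leaf 133824562) (.leaf 345178161)) (.node (.leaf 366074440) (.leaf 345292849)))) (.node (.node (.node (.leaf 51675185) (.leaf 231866418)) (.node (.leaf 33128496) (.leaf 228114482))) (.node (.node (.leaf 258721697) (.leaf 205029426)) (.node (.leaf 119701553) (.leaf 202005357)))))))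

/-- A Schreier factor, part 387. -/
def facCodePart387 : Janko1.Tree ℕ := (.node (.node (.node (.node (.node (.node (.leaf 84313836) (.leaf 215302194)) (.node (.leaf 289824489) (.leaf 218007293))) (.node (.node (.leaf 91602994) (.leaf 192823345)) (.node (.leaf 73498672) (.leaf 313742969)))) (.node (.node (.node (.leaf 65721608) (.leaf 358784952)) (.node (.leaf 22878342) (.leaf 152977457))) (.node (.node (.leaf 304496690) (.leaf 153042993)) (.node (.leaf 118751282) (.leaf 313655345))))) (.node (.node (.node (.node (.leaf 266453042) (.leaf 192777572)) (.node (.leaf 113887349) (.leaf 187900208))) (.node (.node (.leaf 157958193) (.leaf 310394929)) (.node (.leaf 161630786) (.leaf 355533526)))) (.node (.node (.node (.leaf 285559325) (.leaf 187948716)) (.node (.leaf 201170293) (.leaf 219725874))) (.node (.node (.leaf 230676960) (.leaf 193681961)) (.node (.leaf 340164658) (.leaf 196247602)))))) (.node (.node (.node (.node (.node (.leaf 130244896) (.leaf 202129458)) (.node (.leaf 141363614) (.leaf 204865586))) (.node (.node (.leaf 205589965) (.leaf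 227935826)) (.node (.leaf 204619826) (.leaf 322854145)))) (.node (.node (.node (.leaf 97307854) (.leaf 206290993)) (.node (.leaf 41341820) (.leaf 139581954))) (.node (.node (.leaf 177276389) (.leaf 139641076)) (.node (.leaf 338067506) (.leaf 322781233))))) (.node (.node (.node (.node (.leaf 121634864) (.leaf 319230038)) (.node (.leaf 9109553) (.leaf 201293873))) (.node (.node (.leaf 64250177) (.leaf 135011309)) (.node (.leaf 16678960) (.leaf 346292273)))) (.node (.node (.node (.leaf 267782320) (.leaf 346210353)) (.node (.leaf 107610161) (.leaf 134971441))) (.node (.node (.leaf 89063472) (.leaf 236453938)) (.node (.leaf 302350997) (.leaf 223792449)))))))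

/-- A Schreier factor, part 388. -/
def facCodePart388 : Janko1.Tree ℕ := (.node (.node (.node (.node (.node (.node (.leaf 122748978) (.leaf 206325058)) (.node (.leaf 268862106) (.leaf 210386994))) (.node (.node (.leaf 72835217) (.leaf 129957938)) (.node (.leaf 345738044) (.leaf 126125541)))) (.node (.node (.node (.leaf 132155720) (.leaf 81823872)) (.node (.leaf 191333317) (.leaf 284082225))) (.node (.node (.leaf 205832240) (.leaf 23150641)) (.node (.leaf 367149106) (.leaf 239960113))))) (.node (.node (.node (.node (.leaf 164254232) (.leaf 72351793)) (.node (.leaf 226820144) (.leaf 287200364))) (.node (.node (.leaf 198606897) (.leaf 29032497)) (.node (.leaf 337383246) (.leaf 243142846)))) (.node (.node (.node (.leaf 228216364) (.leaf 78140270)) (.node (.leaf 166088213) (.leaf 72155186))) (.node (.node (.leaf 9453618) (.leaf 76775474)) (.node (.leaf 259998805) (.leaf 88398632)))))) (.node (.node (.node (.node (.node (.leaf 38951486) (.leaf 107331634)) (.node (.leaf 153796818) (.leaf 129777714))) (.node (.node (.leaf 213500186) (.leaf 81952818))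 (.node (.leaf 138118766) (.leaf 78610482)))) (.node (.node (.node (.leaf 359612464) (.leaf 109527657)) (.node (.leaf 218226338) (.leaf 98501620))) (.node (.node (.leaf 179470384) (.leaf 248545329)) (.node (.leaf 4620338) (.leaf 88031281))))) (.node (.node (.node (.node (.leaf 76089042) (.leaf 4578042)) (.node (.leaf 185925680) (.leaf 275333169))) (.node (.node (.leaf 103170098) (.leaf 275251249)) (.node (.leaf 295796786) (.leaf 88113201)))) (.node (.node (.node (.leaf 13959217) (.leaf 278396977)) (.node (.leaf 92542017) (.leaf 278502246))) (.node (.node (.leaf 354779184) (.leaf 11813673)) (.node (.leaf 138477618) (.leaf 91865138)))))))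

/-- A Schreier factor, part 389. -/
def facCodePart389 : Janko1.Tree ℕ := (.node (.node (.node (.node (.node (.node (.leaf 217579570) (.leaf 76660786)) (.node (.leaf 331661362) (.leaf 72269874))) (.node (.node (.leaf 364986418) (.leaf 119455794)) (.node (.leaf 189268018) (.leaf 377061425)))) (.node (.node (.node (.leaf 348312938) (.leaf 377129244)) (.node (.leaf 163255366) (.leaf 221118513))) (.node (.node (.leaf 205948300) (.leaf 221253229)) (.node (.leaf 327794736) (.leaf 186449970))))) (.node (.node (.node (.node (.leaf 70814550) (.leaf 190353498)) (.node (.leaf 345854560) (.leaf 216864152))) (.node (.node (.leaf 1900593) (.leaf 229752882)) (.node (.leaf 37322801) (.leaf 200310834)))) (.node (.node (.node (.leaf 69882388) (.leaf 211961370)) (.node (.leaf 1130546) (.leaf 234717234))) (.node (.node (.leaf 37570245) (.leaf 198295602)) (.node (.leaf 199442480) (.leaf 224870450)))))) (.node (.node (.node (.node (.node (.leaf 223608881) (.leaf 212899226)) (.node (.leaf 196657201) (.leaf 327139377))) (.node (.node (.leaf 350686280) (.leaf 327205209))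 (.node (.leaf 73849552) (.leaf 167974477)))) (.node (.node (.node (.leaf 276766530) (.leaf 168057094)) (.node (.leaf 241533666) (.leaf 368592909))) (.node (.node (.leaf 6307890) (.leaf 368656433)) (.node (.leaf 159473476) (.leaf 234504241))))) (.node (.node (.node (.node (.leaf 185991216) (.leaf 342016049)) (.node (.leaf 341726165) (.leaf 200449694))) (.node (.node (.leaf 359667546) (.leaf 229621810)) (.node (.leaf 233603120) (.leaf 190218290)))) (.node (.node (.node (.leaf 153704012) (.leaf 213123122)) (.node (.leaf 310001714) (.leaf 195222180))) (.node (.node (.leaf 133090024) (.leaf 221944984)) (.node (.leaf 337023645) (.leaf 336546580)))))))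

/-- A Schreier factor, part 390. -/
def facCodePart390 : Janko1.Tree ℕ := (.node (.node (.node (.node (.node (.node (.leaf 354877488) (.leaf 226279473)) (.node (.leaf 226574384) (.leaf 363107705))) (.node (.node (.leaf 25009522) (.leaf 363200561)) (.node (.leaf 57987633) (.leaf 159727665)))) (.node (.node (.node (.leaf 146407850) (.leaf 159826060)) (.node (.leaf 248693726) (.leaf 201607116))) (.node (.node (.leaf 22036530) (.leaf 228021957)) (.node (.leaf 65626282) (.leaf 188712724))))) (.node (.node (.node (.node (.leaf 119144498) (.leaf 215236658)) (.node (.leaf 55874957) (.leaf 191388777))) (.node (.node (.leaf 97091632) (.leaf 217907250)) (.node (.leaf 258687024) (.leaf 219463729)))) (.node (.node (.node (.leaf 88230489) (.leaf 331923505)) (.node (.leaf 105681949) (.leaf 179636698))) (.node (.node (.leaf 22758185) (.leaf 179732529)) (.node (.leaf 55695636) (.leaf 376013186)))))) (.node (.node (.node (.node (.node (.leaf 57529824) (.leaf 328455829)) (.node (.leaf 238207025) (.leaf 219627570))) (.node (.node (.leaf 281432504) (.leaf 223894278))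 (.node (.leaf 113956417) (.leaf 209944626)))) (.node (.node (.node (.leaf 158105649) (.leaf 236503090)) (.node (.leaf 184918140) (.leaf 206995506))) (.node (.node (.leaf 16826416) (.leaf 233504818)) (.node (.leaf 200736818) (.leaf 191529010))))) (.node (.node (.node (.node (.leaf 319635506) (.leaf 188612658)) (.node (.leaf 41243980) (.leaf 201448432))) (.node (.node (.leaf 227644960) (.leaf 227885240)) (.node (.leaf 73893341) (.leaf 231969430)))) (.node (.node (.node (.leaf 222199857) (.leaf 340901937)) (.node (.leaf 195231793) (.leaf 232800305))) (.node (.node (.leaf 141426737) (.leaf 367525937)) (.node (.leaf 33341488) (.leaf 166319918)))))))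

/-- A Schreier factor, part 391. -/
def facCodePart391 : Janko1.Tree ℕ := (.node (.node (.node (.node (.node (.node (.leaf 91228358) (.leaf 161251377)) (.node (.leaf 286392370) (.leaf 161300529))) (.node (.node (.leaf 251086093) (.leaf 364118474)) (.node (.leaf 26100877) (.leaf 364224842)))) (.node (.node (.node (.leaf 60054250) (.leaf 337592369)) (.node (.leaf 267698224) (.leaf 207159346))) (.node (.node (.leaf 76449108) (.leaf 209818344)) (.node (.leaf 285311024) (.leaf 236339250))))) (.node (.node (.node (.node (.leaf 121720458) (.leaf 196973960)) (.node (.leaf 43368497) (.leaf 193101874))) (.node (.node (.leaf 25134721) (.leaf 219791410)) (.node (.leaf 187711538) (.leaf 78053426)))) (.node (.node (.node (.leaf 347086816) (.leaf 109319080)) (.node (.leaf 310984754) (.leaf 82591794))) (.node (.node (.leaf 134676530) (.leaf 113985826)) (.node (.leaf 100270862) (.leaf 56154030)))))) (.node (.node (.node (.node (.node (.leaf 75733045) (.leaf 109445169)) (.node (.leaf 277921842) (.leaf 109510705))) (.node (.node (.leaf 242601034) (.leaf 260620337))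 (.node (.leaf 166019120) (.leaf 62275633)))) (.node (.node (.node (.leaf 43848268) (.leaf 305320246)) (.node (.leaf 228425777) (.leaf 124043314))) (.node (.node (.leaf 226959461) (.leaf 72943016)) (.node (.leaf 174506033) (.leaf 76136498))))) (.node (.node (.node (.node (.leaf 146691220) (.leaf 107237466)) (.node (.leaf 71843890) (.leaf 94737793))) (.node (.node (.leaf 240394390) (.leaf 97847166)) (.node (.leaf 179379868) (.leaf 82477106)))) (.node (.node (.node (.leaf 39698482) (.leaf 78250034)) (.node (.leaf 328073264) (.leaf 39617613))) (.node (.node (.leaf 218464305) (.leaf 39686734)) (.node (.leaf 213536581) (.leaf 119594441)))))))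

/-- A Schreier factor, part 392. -/
def facCodePart392 : Janko1.Tree ℕ := (.node (.node (.node (.node (.node (.node (.leaf 138183097) (.leaf 119652401)) (.node (.leaf 134119526) (.leaf 266354737))) (.node (.node (.leaf 191009634) (.leaf 269797294)) (.node (.leaf 313366713) (.leaf 125620937)))) (.node (.node (.node (.leaf 217940018) (.leaf 296419377)) (.node (.leaf 164954162) (.leaf 45858865))) (.node (.node (.leaf 112088533) (.leaf 107398798)) (.node (.leaf 350404656) (.leaf 103945556))))) (.node (.node (.node (.node (.leaf 14024753) (.leaf 119397422)) (.node (.leaf 47612840) (.leaf 92625768))) (.node (.node (.leaf 182666293) (.leaf 350830641)) (.node (.leaf 155713584) (.leaf 141102345)))) (.node (.node (.node (.leaf 42238001) (.leaf 133775410)) (.node (.leaf 125714481) (.leaf 163266610))) (.node (.node (.leaf 105545777) (.leaf 173966816)) (.node (.leaf 61751346) (.leaf 185499698)))))) (.node (.node (.node (.node (.node (.leaf 129237042) (.leaf 144998450)) (.node (.leaf 142245936) (.leaf 168722482))) (.node (.node (.leaf 229163458) (.leaf 155651012))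 (.node (.leaf 148848688) (.leaf 185106482)))) (.node (.node (.node (.leaf 149930033) (.leaf 133453274)) (.node (.leaf 176783409) (.leaf 345047089))) (.node (.node (.leaf 140134054) (.leaf 318052894)) (.node (.leaf 229581114) (.leaf 199557169))))) (.node (.node (.node (.node (.leaf 203022181) (.leaf 318003600)) (.node (.leaf 219594801) (.leaf 345129009))) (.node (.node (.leaf 192749938) (.leaf 133390270)) (.node (.leaf 129253842) (.leaf 359681770)))) (.node (.node (.node (.leaf 61720928) (.leaf 314902986)) (.node (.leaf 235782192) (.leaf 314824112))) (.node (.node (.leaf 134021169) (.leaf 160661554)) (.node (.leaf 183524764) (.leaf 146710873)))))))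

/-- A Schreier factor, part 393. -/
def facCodePart393 : Janko1.Tree ℕ := (.node (.node (.node (.node (.node (.node (.leaf 212942897) (.leaf 177111090)) (.node (.leaf 182686489) (.leaf 182173746))) (.node (.node (.leaf 141983792) (.leaf 172408882)) (.node (.leaf 17012712) (.leaf 354146526)))) (.node (.node (.node (.leaf 54531698) (.leaf 309133361)) (.node (.leaf 81903665) (.leaf 186122289))) (.node (.node (.leaf 86048817) (.leaf 354066858)) (.node (.leaf 51052594) (.leaf 161644594))))) (.node (.node (.node (.node (.leaf 762190) (.leaf 162037996)) (.node (.leaf 28082224) (.leaf 178225202))) (.node (.node (.leaf 27168509) (.leaf 322640617)) (.node (.leaf 123360908) (.leaf 349683761)))) (.node (.node (.node (.leaf 224084018) (.leaf 134907108)) (.node (.leaf 220480628) (.leaf 319067702))) (.node (.node (.leaf 182075828) (.leaf 139878726)) (.node (.leaf 191397937) (.leaf 140296242)))))) (.node (.node (.node (.node (.node (.leaf 220501612) (.leaf 135912092)) (.node (.leaf 224051250) (.leaf 151445268))) (.node (.node (.leaf 170836018) (.leaf 175570994))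 (.node (.leaf 28344368) (.leaf 175095858)))) (.node (.node (.node (.leaf 175443982) (.leaf 152853028)) (.node (.leaf 145218244) (.leaf 192708657))) (.node (.node (.leaf 172229201) (.leaf 313557041)) (.node (.leaf 228130865) (.leaf 313645920))))) (.node (.node (.node (.node (.leaf 201457713) (.leaf 192643236)) (.node (.leaf 225074292) (.leaf 152897302))) (.node (.node (.leaf 51019826) (.leaf 147562498)) (.node (.leaf 47005856) (.leaf 310362161)))) (.node (.node (.node (.leaf 116547834) (.leaf 310263857)) (.node (.leaf 108519724) (.leaf 147472433))) (.node (.node (.leaf 10703109) (.leaf 355319857)) (.node (.leaf 35733553) (.leaf 167182386)))))))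

/-- A Schreier factor, part 394. -/
def facCodePart394 : Janko1.Tree ℕ := (.node (.node (.node (.node (.node (.node (.leaf 68539321) (.leaf 142843540)) (.node (.leaf 4821053) (.leaf 183419896))) (.node (.node (.leaf 39764017) (.leaf 153698354)) (.node (.leaf 132055089) (.leaf 183898544)))) (.node (.node (.node (.leaf 103417326) (.leaf 166445361)) (.node (.leaf 71949017) (.leaf 143557789))) (.node (.node (.leaf 344850482) (.leaf 33636402)) (.node (.leaf 377700402) (.leaf 50290029))))) (.node (.node (.node (.node (.leaf 211567353) (.leaf 49889330)) (.node (.leaf 154959922) (.leaf 32751666))) (.node (.node (.leaf 325566512) (.leaf 87953890)) (.node (.leaf 163464350) (.leaf 87854456)))) (.node (.node (.node (.leaf 271450162) (.leaf 278319174)) (.node (.leaf 30839320) (.leaf 251789361))) (.node (.node (.leaf 99877685) (.leaf 278364209)) (.node (.leaf 370531297) (.leaf 22956529)))))) (.node (.node (.node (.node (.node (.leaf 374751280) (.leaf 9814066)) (.node (.leaf 321129193) (.leaf 39701646))) (.node (.node (.leaf 170541104) (.leaf 9420850)) (.node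 (.leaf 197153234) (.leaf 40173618)))) (.node (.node (.node (.leaf 306725464) (.leaf 66535474)) (.node (.leaf 271417394) (.leaf 29392946))) (.node (.node (.leaf 99945478) (.leaf 66961458)) (.node (.leaf 95967585) (.leaf 45845124))))) (.node (.node (.node (.node (.leaf 30824905) (.leaf 17026856)) (.node (.leaf 378781744) (.leaf 283787313))) (.node (.node (.leaf 366024737) (.leaf 72187953)) (.node (.leaf 312164400) (.leaf 239829041)))) (.node (.node (.node (.leaf 210452528) (.leaf 72253489)) (.node (.leaf 377673006) (.leaf 287097814))) (.node (.node (.leaf 380602260) (.leaf 78102577)) (.node (.leaf 344884376) (.leaf 243058546)))))))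

/-- A Schreier factor, part 395. -/
def facCodePart395 : Janko1.Tree ℕ := (.node (.node (.node (.node (.node (.node (.leaf 211615794) (.leaf 28890529)) (.node (.leaf 157911118) (.leaf 286999792))) (.node (.node (.leaf 374472752) (.leaf 5248781)) (.node (.leaf 320802060) (.leaf 43728946)))) (.node (.node (.node (.leaf 370212912) (.leaf 26968114)) (.node (.leaf 170229808) (.leaf 4390962))) (.node (.node (.leaf 189988912) (.leaf 368541745)) (.node (.leaf 105300017) (.leaf 234277864))))) (.node (.node (.node (.node (.leaf 210157616) (.leaf 234361025)) (.node (.leaf 7560277) (.leaf 167788593))) (.node (.node (.leaf 325632402) (.leaf 167903281)) (.node (.leaf 236492357) (.leaf 173260850)))) (.node (.node (.node (.leaf 233131017) (.leaf 163676210)) (.node (.leaf 359483609) (.leaf 173950828))) (.node (.node (.leaf 229384405) (.leaf 158978596)) (.node (.leaf 197050416) (.leaf 185368626)))))) (.node (.node (.node (.node (.node (.leaf 219365425) (.leaf 141499033)) (.node (.leaf 316807256) (.leaf 168656946))) (.node (.node (.leaf 140083249) (.leaf 157982297))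 (.node (.leaf 321191984) (.leaf 184959422)))) (.node (.node (.node (.leaf 229102854) (.leaf 336364689)) (.node (.leaf 129892402) (.leaf 336412721))) (.node (.node (.leaf 93394365) (.leaf 225984561)) (.node (.leaf 97255474) (.leaf 363045297))))) (.node (.node (.node (.node (.leaf 236095948) (.leaf 332890694)) (.node (.leaf 325943344) (.leaf 221069361))) (.node (.node (.leaf 235716656) (.leaf 134348850)) (.node (.leaf 215695408) (.leaf 149738297)))) (.node (.node (.node (.leaf 125585278) (.leaf 176656938)) (.node (.leaf 97271858) (.leaf 150192178))) (.node (.node (.leaf 289985256) (.leaf 177047286)) (.node (.leaf 93357097) (.leaf 133661052)))))))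

/-- A Schreier factor, part 396. -/
def facCodePart396 : Janko1.Tree ℕ := (.node (.node (.node (.node (.node (.node (.leaf 117443404) (.leaf 155549746)) (.node (.leaf 196778472) (.leaf 182108210))) (.node (.node (.leaf 16924721) (.leaf 155107378)) (.node (.leaf 320847920) (.leaf 181688789)))) (.node (.node (.node (.leaf 21257056) (.leaf 145279548)) (.node (.leaf 233100237) (.leaf 371627885))) (.node (.node (.leaf 236510825) (.leaf 212795441)) (.node (.leaf 359448626) (.leaf 327106609))))) (.node (.node (.node (.node (.leaf 361611314) (.leaf 172998705)) (.node (.leaf 110985265) (.leaf 152125490))) (.node (.node (.leaf 123125809) (.leaf 135315506)) (.node (.leaf 94404745) (.leaf 161532912)))) (.node (.node (.node (.leaf 14270513) (.leaf 135794993)) (.node (.leaf 238927920) (.leaf 161955890))) (.node (.node (.leaf 27088092) (.leaf 151357653)) (.node (.leaf 252156306) (.leaf 178126898)))))) (.node (.node (.node (.node (.node (.leaf 100892720) (.leaf 166166577)) (.node (.leaf 115188089) (.leaf 340662161))) (.node (.node (.leaf 79238389) (.leaf 232636465))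 (.node (.leaf 279666517) (.leaf 232702001)))) (.node (.node (.node (.leaf 83006718) (.leaf 367345980)) (.node (.leaf 282017842) (.leaf 367452005))) (.node (.node (.leaf 217927429) (.leaf 364019761)) (.node (.leaf 243630128) (.leaf 337510449))))) (.node (.node (.node (.node (.leaf 247956120) (.leaf 161218609)) (.node (.leaf 108707888) (.leaf 153147397))) (.node (.node (.leaf 221167666) (.leaf 170428308)) (.node (.leaf 353551584) (.leaf 169972625)))) (.node (.node (.node (.leaf 351313794) (.leaf 180526481)) (.node (.leaf 94666800) (.leaf 164773938))) (.node (.node (.leaf 148373553) (.leaf 147996722)) (.node (.leaf 252444720) (.leaf 174997554)))))))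

/-- A Schreier factor, part 397. -/
def facCodePart397 : Janko1.Tree ℕ := (.node (.node (.node (.node (.node (.node (.leaf 145116536) (.leaf 138952754)) (.node (.leaf 221200477) (.leaf 375931124))) (.node (.node (.leaf 131629105) (.leaf 174538801)) (.node (.leaf 86409464) (.leaf 174620721)))) (.node (.node (.node (.leaf 103220414) (.leaf 328286257)) (.node (.leaf 78420509) (.leaf 328385969))) (.node (.node (.leaf 116457520) (.leaf 140495841)) (.node (.leaf 115146802) (.leaf 167116850))))) (.node (.node (.node (.node (.leaf 111132722) (.leaf 183320626)) (.node (.leaf 281985184) (.leaf 183783036))) (.node (.node (.leaf 163568170) (.leaf 28917810)) (.node (.leaf 76234801) (.leaf 50217010)))) (.node (.node (.node (.leaf 65093681) (.leaf 49791026)) (.node (.leaf 378424060) (.leaf 29597357))) (.node (.node (.leaf 44367921) (.leaf 62898226)) (.node (.leaf 185008178) (.leaf 292945969)))))) (.node (.node (.node (.node (.node (.leaf 181616690) (.leaf 119406641)) (.node (.leaf 155786742) (.leaf 119472177))) (.node (.node (.leaf 157403230) (.leaf 266197469))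 (.node (.leaf 325009458) (.leaf 39534641)))) (.node (.node (.node (.leaf 170639408) (.leaf 45746982)) (.node (.leaf 194478129) (.leaf 269647921))) (.node (.node (.leaf 370425904) (.leaf 125435953)) (.node (.leaf 178537944) (.leaf 125534257))))) (.node (.node (.node (.node (.leaf 64405554) (.leaf 27541554)) (.node (.leaf 68409417) (.leaf 4627690))) (.node (.node (.leaf 253680353) (.leaf 5128242)) (.node (.leaf 30448045) (.leaf 40108082)))) (.node (.node (.node (.leaf 255955764) (.leaf 26920481)) (.node (.leaf 187924529) (.leaf 46415922))) (.node (.node (.leaf 211451953) (.leaf 66472404)) (.node (.leaf 68468786) (.leaf 55924405)))))))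

/-- A Schreier factor, part 398. -/
def facCodePart398 : Janko1.Tree ℕ := (.node (.node (.node (.node (.node (.node (.leaf 64372786) (.leaf 257311956)) (.node (.leaf 136322349) (.leaf 257376806))) (.node (.node (.leaf 34888096) (.leaf 103534578)) (.node (.leaf 253646269) (.leaf 301927708)))) (.node (.node (.node (.leaf 176947248) (.leaf 305120020)) (.node (.leaf 88033386) (.leaf 109436390))) (.node (.node (.leaf 374409469) (.leaf 260511717)) (.node (.leaf 52641841) (.leaf 260571185))))) (.node (.node (.node (.node (.leaf 142049328) (.leaf 56508466)) (.node (.leaf 326959154) (.leaf 10010674))) (.node (.node (.leaf 41861169) (.leaf 211851492)) (.node (.leaf 156647472) (.leaf 326697009)))) (.node (.node (.node (.leaf 94724302) (.leaf 326714718)) (.node (.leaf 348012592) (.leaf 211835210))) (.node (.node (.leaf 74867029) (.leaf 144883761)) (.node (.leaf 162480713) (.leaf 354338226)))))) (.node (.node (.node (.node (.node (.leaf 182468656) (.leaf 348192818)) (.node (.leaf 153306929) (.leaf 345539237))) (.node (.node (.leaf 235946034) (.leaf 347717682))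 (.node (.leaf 232620082) (.leaf 355106866)))) (.node (.node (.node (.leaf 341658006) (.leaf 356686538)) (.node (.leaf 176422961) (.leaf 377307186))) (.node (.node (.leaf 150133070) (.leaf 369069636)) (.node (.leaf 203604017) (.leaf 371097650))))) (.node (.node (.node (.node (.leaf 352849614) (.leaf 369397542)) (.node (.leaf 169527158) (.leaf 348014693))) (.node (.node (.leaf 29016114) (.leaf 137166897)) (.node (.leaf 32988384) (.leaf 320966830)))) (.node (.node (.node (.leaf 270155826) (.leaf 203571249)) (.node (.leaf 272473737) (.leaf 348028977))) (.node (.node (.leaf 159858737) (.leaf 158390914)) (.node (.leaf 183079649) (.leaf 317644538)))))))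

/-- A Schreier factor, part 399. -/
def facCodePart399 : Janko1.Tree ℕ := (.node (.node (.node (.node (.node (.node (.leaf 361758768) (.leaf 317603889)) (.node (.leaf 348329578) (.leaf 158417378))) (.node (.node (.leaf 182747184) (.leaf 346030130)) (.node (.leaf 162779449) (.leaf 356848945)))) (.node (.node (.node (.leaf 272503806) (.leaf 354517042)) (.node (.leaf 270139442) (.leaf 348307506))) (.node (.node (.leaf 149798960) (.leaf 370966578)) (.node (.leaf 54185706) (.leaf 379999714))))) (.node (.node (.node (.node (.leaf 143182605) (.leaf 377773009)) (.node (.leaf 357113212) (.leaf 377423426))) (.node (.node (.leaf 86673789) (.leaf 368885810)) (.node (.leaf 176034373) (.leaf 149864497)))) (.node (.node (.node (.leaf 153278193) (.leaf 357105713)) (.node (.leaf 156549170) (.leaf 189991408))) (.node (.node (.leaf 235979141) (.leaf 357092813)) (.node (.leaf 343736370) (.leaf 149880881)))))) (.node (.node (.node (.node (.node (.leaf 47546417) (.leaf 373014578)) (.node (.leaf 60063793) (.leaf 367099954))) (.node (.node (.leaf 80450682) (.leaf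 366741514)) (.node (.leaf 274382896) (.leaf 364937266)))) (.node (.node (.node (.leaf 287522864) (.leaf 375297758)) (.node (.leaf 61505584) (.leaf 210164564))) (.node (.node (.leaf 18319018) (.leaf 325716729)) (.node (.leaf 261932282) (.leaf 210149576))))) (.node (.node (.node (.node (.leaf 264114316) (.leaf 352570970)) (.node (.leaf 278970416) (.leaf 205344774))) (.node (.node (.leaf 208748593) (.leaf 138725477)) (.node (.leaf 283508784) (.leaf 349225009)))) (.node (.node (.node (.leaf 144375858) (.leaf 361824306)) (.node (.leaf 53690808) (.leaf 352714802))) (.node (.node (.leaf 141213746) (.leaf 350093362)) (.node (.leaf 224231474) (.leaf 352223282)))))))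

/-- A Schreier factor, part 400. -/
def facCodePart400 : Janko1.Tree ℕ := (.node (.node (.node (.node (.node (.node (.leaf 335757362) (.leaf 350535730)) (.node (.leaf 2376893) (.leaf 373605361))) (.node (.node (.leaf 202145841) (.leaf 375736009)) (.node (.leaf 198893325) (.leaf 364349885)))) (.node (.node (.node (.leaf 274694192) (.leaf 367231026)) (.node (.leaf 37034605) (.leaf 316637233))) (.node (.node (.leaf 144343090) (.leaf 196771889)) (.node (.leaf 220692530) (.leaf 196788273))))) (.node (.node (.node (.node (.leaf 333662369) (.leaf 316628009)) (.node (.leaf 68143326) (.leaf 151782561))) (.node (.node (.leaf 39387185) (.leaf 313262129)) (.node (.leaf 11943984) (.leaf 191873073)))) (.node (.node (.node (.leaf 72604114) (.leaf 358288214)) (.node (.leaf 45088816) (.leaf 361190822))) (.node (.node (.leaf 13868702) (.leaf 359481394)) (.node (.leaf 114622514) (.leaf 361660466)))))) (.node (.node (.node (.node (.node (.leaf 216534257) (.leaf 287082624)) (.node (.leaf 30867505) (.leaf 290160690))) (.node (.node (.leaf 236650544) (.leaf 281187868))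 (.node (.leaf 9355313) (.leaf 278478898)))) (.node (.node (.node (.leaf 128188465) (.leaf 278872114)) (.node (.leaf 343595494) (.leaf 287883314))) (.node (.node (.leaf 107954225) (.leaf 289429097)) (.node (.leaf 208142386) (.leaf 92635185))))) (.node (.node (.node (.node (.leaf 184205362) (.leaf 92602417)) (.node (.leaf 377838433) (.leaf 9994289))) (.node (.node (.leaf 223744660) (.leaf 281313329)) (.node (.leaf 151094772) (.leaf 16990257)))) (.node (.node (.node (.leaf 141132278) (.leaf 254672945)) (.node (.leaf 335151152) (.leaf 254689329))) (.node (.node (.leaf 95852553) (.leaf 302012732)) (.node (.leaf 63733810) (.leaf 293509216)))))))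

/-- A Schreier factor, part 401. -/
def facCodePart401 : Janko1.Tree ℕ := (.node (.node (.node (.node (.node (.node (.leaf 236947504) (.leaf 279036053)) (.node (.leaf 330612784) (.leaf 278338609))) (.node (.node (.leaf 237358669) (.leaf 281332633)) (.node (.leaf 99778610) (.leaf 27492401)))) (.node (.node (.node (.leaf 308887602) (.leaf 76857393)) (.node (.leaf 306843802) (.leaf 286709005))) (.node (.node (.leaf 63701042) (.leaf 27525169)) (.node (.leaf 18448433) (.leaf 290111537))))) (.node (.node (.node (.node (.leaf 223379504) (.leaf 245923889)) (.node (.leaf 23019817) (.leaf 82559025))) (.node (.node (.leaf 115900465) (.leaf 245907505)) (.node (.leaf 334848396) (.leaf 290097389)))) (.node (.node (.node (.leaf 120029233) (.leaf 33545044)) (.node (.leaf 208109618) (.leaf 293683250))) (.node (.node (.leaf 202464225) (.leaf 295194849)) (.node (.leaf 195575856) (.leaf 302580240)))))) (.node (.node (.node (.node (.node (.leaf 377815090) (.leaf 304742450)) (.node (.leaf 380868594) (.leaf 293044274))) (.node (.node (.leaf 209387570) (.leaf 371228721))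 (.node (.leaf 361776784) (.leaf 371280562)))) (.node (.node (.node (.leaf 206143538) (.leaf 237537406)) (.node (.leaf 323637209) (.leaf 344440881))) (.node (.node (.leaf 152490506) (.leaf 344572573)) (.node (.leaf 162383572) (.leaf 344464269))))) (.node (.node (.node (.node (.leaf 189022256) (.leaf 237633585)) (.node (.leaf 232981368) (.leaf 172097585))) (.node (.node (.leaf 180051385) (.leaf 371245105)) (.node (.leaf 209092656) (.leaf 371300245)))) (.node (.node (.node (.leaf 287858620) (.leaf 377246102)) (.node (.leaf 252436270) (.leaf 362924449))) (.node (.node (.leaf 28330105) (.leaf 380878898)) (.node (.leaf 254626317) (.leaf 351256626)))))))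

/-- A Schreier factor, part 402. -/
def facCodePart402 : Janko1.Tree ℕ := (.node (.node (.node (.node (.node (.node (.leaf 32161989) (.leaf 368967690)) (.node (.leaf 169480009) (.leaf 353468466))) (.node (.node (.leaf 125469370) (.leaf 371036232)) (.node (.leaf 62341170) (.leaf 351682610)))) (.node (.node (.node (.leaf 129718802) (.leaf 377831474)) (.node (.leaf 97392976) (.leaf 185160964))) (.node (.node (.leaf 290185132) (.leaf 185204785)) (.node (.leaf 254664241) (.leaf 380327205))))) (.node (.node (.node (.node (.leaf 287834162) (.leaf 335921201)) (.node (.leaf 66537254) (.leaf 335798401))) (.node (.node (.leaf 209379482) (.leaf 335888433)) (.node (.leaf 162693168) (.leaf 380289073)))) (.node (.node (.node (.leaf 125438178) (.leaf 380476553)) (.node (.leaf 62328638) (.leaf 185178756))) (.node (.node (.leaf 206130358) (.leaf 351852158)) (.node (.leaf 359596082) (.leaf 369459250)))))) (.node (.node (.node (.node (.node (.leaf 323616818) (.leaf 353321010)) (.node (.leaf 209412025) (.leaf 362370221))) (.node (.node (.leaf 155917198) (.leaf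 377703430)) (.node (.leaf 202506288) (.leaf 377372722)))) (.node (.node (.node (.leaf 169154206) (.leaf 351158322)) (.node (.leaf 236347285) (.leaf 368808384))) (.node (.node (.leaf 183376006) (.leaf 354010248)) (.node (.leaf 195692210) (.leaf 371458098))))) (.node (.node (.node (.node (.leaf 79401025) (.leaf 355667389)) (.node (.leaf 279809548) (.leaf 372932741))) (.node (.node (.leaf 13031848) (.leaf 375799858)) (.node (.leaf 17498162) (.leaf 364396594)))) (.node (.node (.node (.leaf 36734964) (.leaf 348936700)) (.node (.leaf 110970038) (.leaf 366693570))) (.node (.node (.leaf 47530034) (.leaf 347053236)) (.node (.leaf 61407297) (.leaf 356326482)))))))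

/-- A Schreier factor, part 403. -/
def facCodePart403 : Janko1.Tree ℕ := (.node (.node (.node (.node (.node (.node (.leaf 115070845) (.leaf 373671490)) (.node (.leaf 51698350) (.leaf 357892773))) (.node (.node (.leaf 93208624) (.leaf 375201690)) (.node (.leaf 317492709) (.leaf 165249073)))) (.node (.node (.node (.leaf 351493873) (.leaf 231758940)) (.node (.leaf 140558386) (.leaf 340265830))) (.node (.node (.leaf 45276774) (.leaf 340200394)) (.node (.leaf 171579892) (.leaf 231686193))))) (.node (.node (.node (.node (.leaf 77682193) (.leaf 231735726)) (.node (.leaf 53592112) (.leaf 165216305))) (.node (.node (.leaf 221020434) (.leaf 165336125)) (.node (.leaf 351525170) (.leaf 365059154)))) (.node (.node (.node (.leaf 93536862) (.leaf 373112882)) (.node (.leaf 171524146) (.leaf 349560132))) (.node (.node (.leaf 69867578) (.leaf 367150324)) (.node (.leaf 83132466) (.leaf 178457244)))))) (.node (.node (.node (.node (.node (.leaf 282116146) (.leaf 178487345)) (.node (.leaf 246612018) (.leaf 375603249))) (.node (.node (.leaf 17465394) (.leaf 375652401))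 (.node (.leaf 279845912) (.leaf 331595825)))) (.node (.node (.node (.leaf 244552394) (.leaf 218385925)) (.node (.leaf 13058389) (.leaf 218504976))) (.node (.node (.leaf 115015730) (.leaf 218519106)) (.node (.leaf 85416830) (.leaf 331564670))))) (.node (.node (.node (.node (.leaf 330172789) (.leaf 295880426)) (.node (.leaf 128401457) (.leaf 295960625))) (.node (.node (.leaf 348103008) (.leaf 44386464)) (.node (.leaf 361496624) (.leaf 269221937)))) (.node (.node (.node (.leaf 30921734) (.leaf 269260941)) (.node (.leaf 64356401) (.leaf 124194506))) (.node (.node (.leaf 137041597) (.leaf 124258698)) (.node (.leaf 9409978) (.leaf 44376068)))))))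

/-- A Schreier factor, part 404. -/
def facCodePart404 : Janko1.Tree ℕ := (.node (.node (.node (.node (.node (.node (.leaf 43647025) (.leaf 295895089)) (.node (.leaf 231784497) (.leaf 301957170))) (.node (.node (.leaf 352927792) (.leaf 304793913)) (.node (.leaf 221892486) (.leaf 295686302)))) (.node (.node (.node (.leaf 194986033) (.leaf 275382322)) (.node (.leaf 223827853) (.leaf 277387073))) (.node (.node (.leaf 177850982) (.leaf 275843089)) (.node (.leaf 143392816) (.leaf 293445072))))) (.node (.node (.node (.node (.leaf 167821361) (.leaf 286064690)) (.node (.leaf 211800888) (.leaf 108150833))) (.node (.node (.leaf 156732166) (.leaf 260199818)) (.node (.leaf 184631345) (.leaf 60840402)))) (.node (.node (.node (.leaf 84541489) (.leaf 277250098)) (.node (.leaf 51757105) (.leaf 284065842))) (.node (.node (.leaf 55984177) (.leaf 278020146)) (.node (.leaf 143121600) (.leaf 295866754)))))) (.node (.node (.node (.node (.node (.leaf 213401648) (.leaf 140886065)) (.node (.leaf 129762193) (.leaf 127025200))) (.node (.node (.leaf 359252016) (.leaf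 140971900)) (.node (.leaf 341409840) (.leaf 34816048)))) (.node (.node (.node (.leaf 185535546) (.leaf 64707682)) (.node (.leaf 159055920) (.leaf 290308144))) (.node (.node (.leaf 136822834) (.leaf 127909936)) (.node (.leaf 363806770) (.leaf 100089904))))) (.node (.node (.node (.node (.leaf 328056882) (.leaf 270549040)) (.node (.leaf 215683708) (.leaf 305906737))) (.node (.node (.leaf 162762804) (.leaf 35719853)) (.node (.leaf 140476464) (.leaf 64689782)))) (.node (.node (.node (.leaf 220266544) (.leaf 290291760)) (.node (.leaf 337236093) (.leaf 35684400))) (.node (.node (.leaf 1785906) (.leaf 126976048)) (.node (.leaf 294668585) (.leaf 99205168)))))))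

/-- A Schreier factor, part 405. -/
def facCodePart405 : Janko1.Tree ℕ := (.node (.node (.node (.node (.node (.node (.leaf 233672786) (.leaf 34866241)) (.node (.leaf 189498097) (.leaf 99172400))) (.node (.node (.leaf 180191281) (.leaf 194268442)) (.node (.leaf 153322742) (.leaf 126964506)))) (.node (.node (.node (.leaf 327991653) (.leaf 154441857)) (.node (.leaf 74402837) (.leaf 100010130))) (.node (.node (.leaf 6963250) (.leaf 270516272)) (.node (.leaf 256890568) (.leaf 127893552))))) (.node (.node (.node (.node (.leaf 104764652) (.leaf 64757212)) (.node (.leaf 41274189) (.leaf 290398174))) (.node (.node (.leaf 109387436) (.leaf 270506409)) (.node (.leaf 58840010) (.leaf 255049776)))) (.node (.node (.node (.leaf 25450362) (.leaf 127877168)) (.node (.leaf 350208048) (.leaf 64741493))) (.node (.node (.leaf 199000112) (.leaf 145736149)) (.node (.leaf 172523568) (.leaf 34848816)))))) (.node (.node (.node (.node (.node (.leaf 133546034) (.leaf 186023985)) (.node (.leaf 330530866) (.leaf 126926896))) (.node (.node (.leaf 212353074) (.leaf 63881264))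 (.node (.leaf 7376042) (.leaf 64719936)))) (.node (.node (.node (.leaf 83820593) (.leaf 255153870)) (.node (.leaf 115099825) (.leaf 127927604))) (.node (.node (.leaf 23183409) (.leaf 270565489)) (.node (.leaf 289660702) (.leaf 305923121))))) (.node (.node (.node (.node (.leaf 40878128) (.leaf 139362353)) (.node (.leaf 22659122) (.leaf 127008816))) (.node (.node (.leaf 268913101) (.leaf 206102673)) (.node (.leaf 118526313) (.leaf 139447054)))) (.node (.node (.node (.leaf 55303294) (.leaf 34804317)) (.node (.leaf 214663217) (.leaf 126992432))) (.node (.node (.leaf 185319473) (.leaf 99226426)) (.node (.leaf 158718378) (.leaf 201083285)))))))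

/-- A Schreier factor, part 406. -/
def facCodePart406 : Janko1.Tree ℕ := (.node (.node (.node (.node (.node (.node (.leaf 285396104) (.leaf 134842545)) (.node (.leaf 49188046) (.leaf 290275376))) (.node (.node (.leaf 204816434) (.leaf 255119878)) (.node (.leaf 373284580) (.leaf 100057136)))) (.node (.node (.node (.leaf 230457394) (.leaf 305889328)) (.node (.leaf 177443534) (.leaf 35668016))) (.node (.node (.leaf 231407665) (.leaf 270532656)) (.node (.leaf 168807617) (.leaf 255090825))))) (.node (.node (.node (.node (.leaf 97173552) (.leaf 152715313)) (.node (.leaf 201310258) (.leaf 99156016))) (.node (.node (.leaf 147456050) (.leaf 192545744)) (.node (.leaf 375575944) (.leaf 192479281)))) (.node (.node (.node (.leaf 340236896) (.leaf 126949693)) (.node (.leaf 227083045) (.leaf 63899597))) (.node (.node (.leaf 174184086) (.leaf 152634009)) (.node (.leaf 25369320) (.leaf 147430492)))))) (.node (.node (.node (.node (.node (.leaf 95783109) (.leaf 99106864)) (.node (.leaf 263015236) (.leaf 147363346))) (.node (.node (.leaf 91775138) (.leaf 99975216))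 (.node (.leaf 26492978) (.leaf 270483504)))) (.node (.node (.node (.leaf 266485810) (.leaf 127864396)) (.node (.leaf 59415449) (.leaf 290340876))) (.node (.node (.leaf 103505296) (.leaf 308101168)) (.node (.leaf 153665584) (.leaf 272899201))))) (.node (.node (.node (.node (.leaf 345587760) (.leaf 132204546)) (.node (.leaf 327704768) (.leaf 253102286))) (.node (.node (.leaf 68780081) (.leaf 288260144)) (.node (.leaf 35856777) (.leaf 68768202)))) (.node (.node (.node (.leaf 135040629) (.leaf 3605437)) (.node (.leaf 205701168) (.leaf 87234078))) (.node (.node (.leaf 214073589) (.leaf 131044044)) (.node (.leaf 161061192) (.leaf 87121336)))))))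

/-- A Schreier factor, part 407. -/
def facCodePart407 : Janko1.Tree ℕ := (.node (.node (.node (.node (.node (.node (.leaf 367103465) (.leaf 3522609)) (.node (.leaf 198049841) (.leaf 30130224))) (.node (.node (.leaf 224641073) (.leaf 11026481)) (.node (.leaf 227002853) (.leaf 95079865)))) (.node (.node (.node (.leaf 175331226) (.leaf 10944561)) (.node (.leaf 199234994) (.leaf 272973872))) (.node (.node (.leaf 106758562) (.leaf 132251696)) (.node (.leaf 234356785) (.leaf 68829232))))) (.node (.node (.node (.node (.leaf 359465601) (.leaf 272800365)) (.node (.leaf 4395810) (.leaf 67436592))) (.node (.node (.leaf 185778982) (.leaf 130945241)) (.node (.leaf 103006258) (.leaf 71565361)))) (.node (.node (.node (.leaf 39157810) (.leaf 95027248)) (.node (.leaf 295731250) (.leaf 30181932))) (.node (.node (.leaf 92116182) (.leaf 28196913)) (.node (.leaf 140181552) (.leaf 130962873)))))) (.node (.node (.node (.node (.node (.leaf 220053552) (.leaf 77398065)) (.node (.leaf 336975440) (.leaf 95043632))) (.node (.node (.leaf 138349621) (.leaf 68902144)) (.node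 (.leaf 192118897) (.leaf 132169776)))) (.node (.node (.node (.leaf 217305982) (.leaf 272859184)) (.node (.leaf 164434037) (.leaf 96492258))) (.node (.node (.leaf 364912100) (.leaf 31409150)) (.node (.leaf 329334834) (.leaf 308199472))))) (.node (.node (.node (.node (.leaf 185765794) (.leaf 30526874)) (.node (.leaf 136451092) (.leaf 127126300))) (.node (.node (.leaf 312328246) (.leaf 95420464)) (.node (.leaf 158990384) (.leaf 234143793)))) (.node (.node (.node (.leaf 159875122) (.leaf 234192945)) (.node (.leaf 216450842) (.leaf 167614437))) (.node (.node (.leaf 66895921) (.leaf 96288816)) (.node (.leaf 70238257) (.leaf 252870704)))))))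

/-- A Schreier factor, part 408. -/
def facCodePart408 : Janko1.Tree ℕ := (.node (.node (.node (.node (.node (.node (.leaf 129860820) (.leaf 305938480)) (.node (.leaf 153573341) (.leaf 288053866))) (.node (.node (.leaf 1333962) (.leaf 127975472)) (.node (.leaf 239255602) (.leaf 96277432)))) (.node (.node (.node (.leaf 165842161) (.leaf 270621016)) (.node (.leaf 199295246) (.leaf 288033553))) (.node (.node (.leaf 143294513) (.leaf 63914032)) (.node (.leaf 220332080) (.leaf 225820866))))) (.node (.node (.node (.node (.leaf 195952689) (.leaf 225919025)) (.node (.leaf 146856332) (.leaf 159567090))) (.node (.node (.leaf 274651742) (.leaf 181048580)) (.node (.leaf 241602478) (.leaf 220941966)))) (.node (.node (.node (.leaf 179208240) (.leaf 127075249)) (.node (.leaf 185843760) (.leaf 30556321))) (.node (.node (.leaf 359535200) (.leaf 288079920)) (.node (.leaf 163332145) (.leaf 252854320)))))) (.node (.node (.node (.node (.node (.leaf 189055026) (.leaf 288063536)) (.node (.leaf 310116402) (.leaf 252837936))) (.node (.node (.leaf 163057057) (.leaf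 96261996)) (.node (.leaf 213156933) (.leaf 64782384)))) (.node (.node (.node (.leaf 192184368) (.leaf 31178800)) (.node (.leaf 332300336) (.leaf 212549681))) (.node (.node (.leaf 46268465) (.leaf 212638588)) (.node (.leaf 89725645) (.leaf 95387696))))) (.node (.node (.node (.node (.leaf 109447125) (.leaf 63963184)) (.node (.leaf 22249522) (.leaf 127991856))) (.node (.node (.leaf 248758322) (.leaf 96311521)) (.node (.leaf 59818034) (.leaf 252887088)))) (.node (.node (.node (.leaf 119373874) (.leaf 305954864)) (.node (.leaf 23353854) (.leaf 63953573))) (.node (.node (.leaf 272171056) (.leaf 127107120)) (.node (.leaf 355896621) (.leaf 63932697)))))))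

/-- A Schreier factor, part 409. -/
def facCodePart409 : Janko1.Tree ℕ := (.node (.node (.node (.node (.node (.node (.leaf 150686889) (.leaf 127097810)) (.node (.leaf 49086512) (.leaf 227491889))) (.node (.node (.leaf 174522565) (.leaf 227557425)) (.node (.leaf 231244560) (.leaf 161039930)))) (.node (.node (.node (.leaf 281249026) (.leaf 31146032)) (.node (.leaf 267830198) (.leaf 127963644))) (.node (.node (.leaf 114081840) (.leaf 270605628)) (.node (.leaf 25566062) (.leaf 288019872))))) (.node (.node (.node (.node (.leaf 204030002) (.leaf 288096304)) (.node (.leaf 65804897) (.leaf 127951284))) (.node (.node (.leaf 227819570) (.leaf 64798768)) (.node (.leaf 73744432) (.leaf 31203172)))) (.node (.node (.node (.leaf 258834480) (.leaf 219234353)) (.node (.leaf 130340482) (.leaf 127064818))) (.node (.node (.leaf 194625585) (.leaf 95408188)) (.node (.leaf 231489585) (.leaf 63979568)))))) (.node (.node (.node (.node (.node (.leaf 26237916) (.leaf 214223020)) (.node (.leaf 251134365) (.leaf 214304997))) (.node (.node (.leaf 57065520) (.leaf 127041584))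 (.node (.leaf 81120406) (.leaf 30539824)))) (.node (.node (.node (.leaf 9781297) (.leaf 305979129)) (.node (.leaf 262930480) (.leaf 270587049))) (.node (.node (.leaf 64651313) (.leaf 252821552)) (.node (.leaf 75857969) (.leaf 96243338))))) (.node (.node (.node (.node (.leaf 127451185) (.leaf 64766000)) (.node (.leaf 16760880) (.leaf 31169416))) (.node (.node (.leaf 311099670) (.leaf 290619440)) (.node (.leaf 190709810) (.leaf 255361072)))) (.node (.node (.node (.leaf 214764321) (.leaf 132366625)) (.node (.leaf 178963670) (.leaf 68927878))) (.node (.node (.leaf 35979313) (.leaf 118621417)) (.node (.leaf 359333936) (.leaf 118691233)))))))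

/-- A Schreier factor, part 410. -/
def facCodePart410 : Janko1.Tree ℕ := (.node (.node (.node (.node (.node (.node (.leaf 103546929) (.leaf 131186736)) (.node (.leaf 133925150) (.leaf 98915634))) (.node (.node (.leaf 99699568) (.leaf 34504752)) (.node (.leaf 8872380) (.leaf 45044797)))) (.node (.node (.node (.leaf 242666756) (.leaf 45145006)) (.node (.leaf 275814982) (.leaf 124768874))) (.node (.node (.leaf 172671024) (.leaf 67521608)) (.node (.leaf 148216264) (.leaf 273062024))))) (.node (.node (.node (.node (.leaf 354975889) (.leaf 255393840)) (.node (.leaf 3932210) (.leaf 68976688))) (.node (.node (.leaf 240451634) (.leaf 36012080)) (.node (.leaf 341590064) (.leaf 67567664)))) (.node (.node (.node (.leaf 181847034) (.leaf 34603676)) (.node (.leaf 234460745) (.leaf 102875185))) (.node (.node (.leaf 153886532) (.leaf 102965601)) (.node (.leaf 213687685) (.leaf 55220286)))))) (.node (.node (.node (.node (.node (.leaf 313431986) (.leaf 34635824)) (.node (.leaf 347017977) (.leaf 131161400))) (.node (.node (.leaf 187531314) (.leaf 98861104))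 (.node (.leaf 161366066) (.leaf 61459529)))) (.node (.node (.node (.leaf 336887856) (.leaf 69009456)) (.node (.leaf 14663729) (.leaf 132317232))) (.node (.node (.leaf 146571312) (.leaf 255344688)) (.node (.leaf 80003121) (.leaf 290668592))))) (.node (.node (.node (.node (.leaf 159350834) (.leaf 148701234)) (.node (.leaf 215859250) (.leaf 162299954))) (.node (.node (.leaf 132890672) (.leaf 126550064)) (.node (.leaf 133693490) (.leaf 159105074)))) (.node (.node (.node (.leaf 232379337) (.leaf 29772074)) (.node (.leaf 102323949) (.leaf 34987313))) (.node (.node (.leaf 323438288) (.leaf 270942256)) (.node (.leaf 98360726) (.leaf 131973168)))))))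

/-- A Schreier factor, part 411. -/
def facCodePart411 : Janko1.Tree ℕ := (.node (.node (.node (.node (.node (.node (.leaf 186728496) (.leaf 127469409)) (.node (.leaf 37388337) (.leaf 273252400))) (.node (.node (.leaf 294813746) (.leaf 34950064)) (.node (.leaf 139354210) (.leaf 127458202)))) (.node (.node (.node (.leaf 223514908) (.leaf 33984984)) (.node (.leaf 368415517) (.leaf 157204530))) (.node (.node (.leaf 318837118) (.leaf 170786866)) (.node (.leaf 193630621) (.leaf 126505645))))) (.node (.node (.node (.node (.leaf 169590833) (.leaf 167329842)) (.node (.leaf 145987662) (.leaf 154189874))) (.node (.node (.leaf 292593705) (.leaf 132974294)) (.node (.leaf 152698928) (.leaf 175865906)))) (.node (.node (.node (.leaf 74306468) (.leaf 34134696)) (.node (.leaf 212582448) (.leaf 136118870))) (.node (.node (.leaf 233357796) (.leaf 291084854)) (.node (.leaf 376913968) (.leaf 30621744)))))) (.node (.node (.node (.node (.node (.leaf 310106897) (.leaf 127435301)) (.node (.leaf 189825073) (.leaf 273186864))) (.node (.node (.leaf 136675377) (.leaf 35078192))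 (.node (.leaf 366153512) (.leaf 291045424)))) (.node (.node (.node (.leaf 162617777) (.leaf 30606002)) (.node (.leaf 327934232) (.leaf 273139206))) (.node (.node (.leaf 136904754) (.leaf 131891248)) (.node (.leaf 186456554) (.leaf 35045424))))) (.node (.node (.node (.node (.leaf 372326448) (.leaf 29792982)) (.node (.leaf 314327088) (.leaf 126468144))) (.node (.node (.leaf 78601958) (.leaf 180752774)) (.node (.leaf 11812913) (.leaf 34046000)))) (.node (.node (.node (.leaf 304594994) (.leaf 34996272)) (.node (.leaf 129011380) (.leaf 30589132))) (.node (.node (.leaf 84132525) (.leaf 130777136)) (.node (.leaf 74547248) (.leaf 126536470)))))))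

/-- A Schreier factor, part 412. -/
def facCodePart412 : Janko1.Tree ℕ := (.node (.node (.node (.node (.node (.node (.leaf 55741274) (.leaf 160727090)) (.node (.leaf 18300977) (.leaf 147079218))) (.node (.node (.leaf 66585964) (.leaf 29755937)) (.node (.leaf 373424178) (.leaf 33996848)))) (.node (.node (.node (.leaf 230621253) (.leaf 169086882)) (.node (.leaf 15859760) (.leaf 126517296))) (.node (.node (.leaf 147640794) (.leaf 165709280)) (.node (.leaf 204718130) (.leaf 152327889))))) (.node (.node (.node (.node (.leaf 250200112) (.leaf 270925872)) (.node (.leaf 188579889) (.leaf 131940400))) (.node (.node (.leaf 185081980) (.leaf 273237329)) (.node (.leaf 135300446) (.leaf 290947120)))) (.node (.node (.node (.leaf 58662986) (.leaf 30572592)) (.node (.leaf 177356850) (.leaf 30638128))) (.node (.node (.leaf 32260144) (.leaf 270909488)) (.node (.leaf 105005104) (.leaf 288743176)))))) (.node (.node (.node (.node (.node (.leaf 222101553) (.leaf 134612585)) (.node (.leaf 151519281) (.leaf 34111536))) (.node (.node (.leaf 42223082) (.leaf 137691186))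 (.node (.leaf 55164978) (.leaf 29802544)))) (.node (.node (.node (.leaf 122670645) (.leaf 126484528)) (.node (.leaf 91668530) (.leaf 34067693))) (.node (.node (.leaf 112738352) (.leaf 142139554)) (.node (.leaf 107757617) (.leaf 291031862))))) (.node (.node (.node (.node (.leaf 245727280) (.leaf 127418880)) (.node (.leaf 96193845) (.leaf 273124862))) (.node (.node (.leaf 90136114) (.leaf 270895200)) (.node (.leaf 30776025) (.leaf 35030808)))) (.node (.node (.node (.leaf 329220146) (.leaf 306839600)) (.node (.leaf 367236557) (.leaf 253493296))) (.node (.node (.leaf 164315186) (.leaf 99876912)) (.node (.leaf 188058729) (.leaf 96015389)))))))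

/-- A Schreier factor, part 413. -/
def facCodePart413 : Janko1.Tree ℕ := (.node (.node (.node (.node (.node (.node (.leaf 152322096) (.leaf 308772912)) (.node (.leaf 138412082) (.leaf 64278393))) (.node (.node (.leaf 72699772) (.leaf 65739105)) (.node (.leaf 376609110) (.leaf 10289210)))) (.node (.node (.node (.leaf 4544754) (.leaf 14948293)) (.node (.leaf 160105886) (.leaf 10764338))) (.node (.node (.leaf 68337713) (.leaf 7836853)) (.node (.leaf 106889266) (.leaf 14850437))))) (.node (.node (.node (.node (.leaf 259948594) (.leaf 59441202)) (.node (.leaf 293655940) (.leaf 8405042))) (.node (.node (.leaf 145686576) (.leaf 55312434)) (.node (.leaf 314673460) (.leaf 68215169)))) (.node (.node (.node (.leaf 372660880) (.leaf 99966309)) (.node (.leaf 174587953) (.leaf 64307248))) (.node (.node (.leaf 295911474) (.leaf 95961136)) (.node (.leaf 133224796) (.leaf 68258744)))))) (.node (.node (.node (.node (.node (.leaf 363921456) (.leaf 28098610)) (.node (.leaf 154730545) (.leaf 31917444))) (.node (.node (.leaf 187040782) (.leaf 25696189)) (.node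 (.leaf 217481266) (.leaf 38912050)))) (.node (.node (.node (.leaf 160943009) (.leaf 22058864)) (.node (.leaf 92409734) (.leaf 64357889))) (.node (.node (.leaf 112006369) (.leaf 95993904)) (.node (.leaf 368033840) (.leaf 255794552))))) (.node (.node (.node (.node (.leaf 173490224) (.leaf 99844144)) (.node (.leaf 47693873) (.leaf 306872368))) (.node (.node (.leaf 206716976) (.leaf 162250802)) (.node (.leaf 180174896) (.leaf 130924592)))) (.node (.node (.node (.leaf 32718897) (.leaf 98844720)) (.node (.leaf 216285234) (.leaf 271047733))) (.node (.node (.leaf 152404105) (.leaf 253263920)) (.node (.leaf 232308784) (.leaf 132143372)))))))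

/-- A Schreier factor, part 414. -/
def facCodePart414 : Janko1.Tree ℕ := (.node (.node (.node (.node (.node (.node (.leaf 346049774) (.leaf 127533104)) (.node (.leaf 185915401) (.leaf 95797988))) (.node (.node (.leaf 133174397) (.leaf 273403542)) (.node (.leaf 173072085) (.leaf 271024176)))) (.node (.node (.node (.leaf 145825610) (.leaf 99598384)) (.node (.leaf 314743461) (.leaf 95780912))) (.node (.node (.leaf 368350185) (.leaf 273367088)) (.node (.leaf 145768496) (.leaf 170656066))))) (.node (.node (.node (.node (.leaf 37492208) (.leaf 98795568)) (.node (.leaf 276860298) (.leaf 126605389))) (.node (.node (.leaf 6406194) (.leaf 140607538)) (.node (.leaf 241492374) (.leaf 167264306)))) (.node (.node (.node (.leaf 186925104) (.leaf 94994480)) (.node (.leaf 160464944) (.leaf 145441924))) (.node (.node (.leaf 136480316) (.leaf 172497305)) (.node (.leaf 206815281) (.leaf 148602930)))))) (.node (.node (.node (.node (.node (.leaf 323788996) (.leaf 175783986)) (.node (.leaf 376822988) (.leaf 130865165))) (.node (.node (.leaf 233259057) (.leaf 98746416))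 (.node (.leaf 274808882) (.leaf 270981688)))) (.node (.node (.node (.leaf 1196082) (.leaf 132038704)) (.node (.leaf 239149089) (.leaf 99572046))) (.node (.node (.leaf 45864113) (.leaf 127489813)) (.node (.leaf 193187717) (.leaf 95751616))))) (.node (.node (.node (.node (.leaf 166713494) (.leaf 273292306)) (.node (.leaf 11583537) (.leaf 255451572))) (.node (.node (.leaf 90603569) (.leaf 270962880)) (.node (.leaf 318672974) (.leaf 253236820)))) (.node (.node (.node (.leaf 372228144) (.leaf 132022320)) (.node (.leaf 122045185) (.leaf 99549232))) (.node (.node (.leaf 213016904) (.leaf 126570861)) (.node (.leaf 160022578) (.leaf 180666418)))))))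

/-- A Schreier factor, part 415. -/
def facCodePart415 : Janko1.Tree ℕ := (.node (.node (.node (.node (.node (.node (.leaf 348373042) (.leaf 157073458)) (.node (.leaf 312118256) (.leaf 98699444))) (.node (.node (.leaf 98058288) (.leaf 253280304)) (.node (.leaf 18055217) (.leaf 99631152)))) (.node (.node (.node (.leaf 241434672) (.leaf 95813680)) (.node (.leaf 294505758) (.leaf 273416788))) (.node (.node (.leaf 119805160) (.leaf 255564774)) (.node (.leaf 32099840) (.leaf 163992816))))) (.node (.node (.node (.node (.leaf 128942128) (.leaf 130908208)) (.node (.leaf 91160626) (.leaf 95010864))) (.node (.node (.leaf 26148914) (.leaf 134512690)) (.node (.leaf 161513521) (.leaf 142073034)))) (.node (.node (.node (.leaf 135103374) (.leaf 98814305)) (.node (.leaf 231121058) (.leaf 271015477))) (.node (.node (.leaf 177946674) (.leaf 99582000)) (.node (.leaf 355993782) (.leaf 127518261)))))) (.node (.node (.node (.node (.node (.leaf 146931762) (.leaf 273356648)) (.node (.leaf 319557857) (.leaf 255508528))) (.node (.node (.leaf 178291877) (.leaf 127500336))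 (.node (.leaf 74727472) (.leaf 95764528)))) (.node (.node (.node (.leaf 42287152) (.leaf 273317936)) (.node (.leaf 151273521) (.leaf 255475760))) (.node (.node (.leaf 195412017) (.leaf 270991408)) (.node (.leaf 254762625) (.leaf 253254625))))) (.node (.node (.node (.node (.leaf 307993665) (.leaf 132056906)) (.node (.leaf 6570032) (.leaf 94978096))) (.node (.node (.leaf 104910752) (.leaf 146983593)) (.node (.leaf 174676025) (.leaf 174030898)))) (.node (.node (.node (.leaf 204178424) (.leaf 177265961)) (.node (.leaf 322066853) (.leaf 98730032))) (.node (.node (.leaf 64150877) (.leaf 126582832)) (.node (.leaf 30605361) (.leaf 178962482)))))))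

/-- A Schreier factor, part 416. -/
def facCodePart416 : Janko1.Tree ℕ := (.node (.node (.node (.node (.node (.node (.leaf 76596048) (.leaf 155848957)) (.node (.leaf 249972409) (.leaf 182321237))) (.node (.node (.leaf 303448112) (.leaf 130826288)) (.node (.leaf 107699889) (.leaf 98714844)))) (.node (.node (.node (.leaf 87130162) (.leaf 253214768)) (.node (.leaf 248635672) (.leaf 99541321))) (.node (.node (.leaf 160190736) (.leaf 306888752)) (.node (.leaf 4344681) (.leaf 289064736))))) (.node (.node (.node (.node (.leaf 100385606) (.leaf 308921142)) (.node (.leaf 376520752) (.leaf 64379998))) (.node (.node (.leaf 132300849) (.leaf 30818352)) (.node (.leaf 132997034) (.leaf 33769802)))) (.node (.node (.node (.leaf 212254768) (.leaf 32116709)) (.node (.leaf 161497138) (.leaf 65667494))) (.node (.node (.leaf 349552690) (.leaf 28295218)) (.node (.leaf 190890034) (.leaf 61423666)))))) (.node (.node (.node (.node (.node (.leaf 201891912) (.leaf 22265906)) (.node (.leaf 318969758) (.leaf 55250337))) (.node (.node (.leaf 372544826) (.leaf 25726768))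 (.node (.leaf 107298866) (.leaf 68370480)))) (.node (.node (.node (.leaf 139434209) (.leaf 35340336)) (.node (.leaf 219217968) (.leaf 306937904))) (.node (.node (.leaf 43761714) (.leaf 289079344)) (.node (.leaf 275988530) (.leaf 308985904))))) (.node (.node (.node (.node (.leaf 71782698) (.leaf 291313362)) (.node (.leaf 240287794) (.leaf 30851120))) (.node (.node (.leaf 181370929) (.leaf 309041880)) (.node (.leaf 206952432) (.leaf 291357594)))) (.node (.node (.node (.leaf 191840305) (.leaf 68403248)) (.node (.leaf 363855920) (.leaf 306954288))) (.node (.node (.leaf 218318446) (.leaf 289095728)) (.node (.leaf 152813616) (.leaf 45075272)))))))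

/-- A Schreier factor, part 417. -/
def facCodePart417 : Janko1.Tree ℕ := (.node (.node (.node (.node (.node (.node (.leaf 232570928) (.leaf 14860338)) (.node (.leaf 60246441) (.leaf 3620914))) (.node (.node (.leaf 199999536) (.leaf 38830130)) (.node (.leaf 26771505) (.leaf 29638704)))) (.node (.node (.node (.leaf 80707633) (.leaf 2755166)) (.node (.leaf 367989666) (.leaf 8655758))) (.node (.node (.leaf 111902769) (.leaf 42949642)) (.node (.leaf 225558576) (.leaf 64421936))))) (.node (.node (.node (.node (.leaf 164905010) (.leaf 30870032)) (.node (.leaf 310943792) (.leaf 289129786))) (.node (.node (.leaf 125574638) (.leaf 215580722)) (.node (.leaf 74486800) (.leaf 202298529)))) (.node (.node (.node (.leaf 105398860) (.leaf 114187984)) (.node (.leaf 361316400) (.leaf 212306732))) (.node (.node (.leaf 343474224) (.leaf 12949736)) (.node (.leaf 206651442) (.leaf 244645936)))))) (.node (.node (.node (.node (.node (.leaf 182763570) (.leaf 246726704)) (.node (.leaf 179486770) (.leaf 13796977))) (.node (.node (.leaf 203132774) (.leaf 18251824)) (.node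 (.leaf 219453640) (.leaf 115048496)))) (.node (.node (.node (.leaf 334989340) (.leaf 246677552)) (.node (.leaf 339369832) (.leaf 13783248))) (.node (.node (.leaf 94126130) (.leaf 17302858)) (.node (.leaf 61836080) (.leaf 207232385))))) (.node (.node (.node (.node (.leaf 129122354) (.leaf 220659762)) (.node (.leaf 212800966) (.leaf 46782625))) (.node (.node (.leaf 236166544) (.leaf 212177381)) (.node (.leaf 361578544) (.leaf 215453941)))) (.node (.node (.node (.leaf 343705078) (.leaf 82673712)) (.node (.leaf 330448944) (.leaf 202440754))) (.node (.node (.leaf 32756160) (.leaf 47516176)) (.node (.leaf 129155122) (.leaf 262012976)))))))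

/-- A Schreier factor, part 418. -/
def facCodePart418 : Janko1.Tree ℕ := (.node (.node (.node (.node (.node (.node (.leaf 66063694) (.leaf 83613332)) (.node (.leaf 124918220) (.leaf 51642416))) (.node (.node (.leaf 61816882) (.leaf 279707696)) (.node (.leaf 86179889) (.leaf 79740976)))) (.node (.node (.node (.leaf 117522481) (.leaf 264208432)) (.node (.leaf 356960373) (.leaf 262002202))) (.node (.node (.leaf 352419888) (.leaf 51609648)) (.node (.leaf 334732212) (.leaf 279691312))))) (.node (.node (.node (.node (.leaf 209949404) (.leaf 78872624)) (.node (.leaf 179462064) (.leaf 82625550))) (.node (.node (.leaf 79953969) (.leaf 18284592)) (.node (.leaf 111037192) (.leaf 297665722)))) (.node (.node (.node (.leaf 123191345) (.leaf 115081264)) (.node (.leaf 269931512) (.leaf 13811760))) (.node (.node (.leaf 79937586) (.leaf 17350704)) (.node (.leaf 13589898) (.leaf 217169970)))))) (.node (.node (.node (.node (.node (.leaf 83859968) (.leaf 204022184)) (.node (.leaf 18091033) (.leaf 114170204))) (.node (.node (.leaf 51150898) (.leaf 12927024)) (.node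 (.leaf 191545393) (.leaf 17317936)))) (.node (.node (.node (.leaf 218021937) (.leaf 222445618)) (.node (.leaf 208277934) (.leaf 208835824))) (.node (.node (.leaf 278845676) (.leaf 110198832)) (.node (.leaf 265602097) (.leaf 12911298))))) (.node (.node (.node (.node (.leaf 194546494) (.leaf 244629552)) (.node (.leaf 170969708) (.leaf 246661168))) (.node (.node (.leaf 220397618) (.leaf 299925552)) (.node (.leaf 167428146) (.leaf 13769448)))) (.node (.node (.node (.leaf 201625597) (.leaf 282034224)) (.node (.leaf 198426673) (.leaf 79757360))) (.node (.node (.leaf 224935985) (.leaf 264257584)) (.node (.leaf 287689609) (.leaf 262036934)))))))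

/-- A Schreier factor, part 419. -/
def facCodePart419 : Janko1.Tree ℕ := (.node (.node (.node (.node (.node (.node (.leaf 274567802) (.leaf 51660028)) (.node (.leaf 256754681) (.leaf 279725822))) (.node (.node (.leaf 141033522) (.leaf 46762469)) (.node (.leaf 198040834) (.leaf 78905392)))) (.node (.node (.node (.leaf 144130098) (.leaf 213876786)) (.node (.leaf 220414002) (.leaf 217022514))) (.node (.node (.leaf 224003785) (.leaf 50745517)) (.node (.leaf 72091005) (.leaf 78889441))))) (.node (.node (.node (.node (.leaf 278544432) (.leaf 50732750)) (.node (.leaf 83807940) (.leaf 282001456))) (.node (.node (.leaf 13615154) (.leaf 264192048)) (.node (.leaf 114428513) (.leaf 261987141)))) (.node (.node (.node (.leaf 51120020) (.leaf 83562012)) (.node (.leaf 110444594) (.leaf 51599262))) (.node (.node (.leaf 137233844) (.leaf 51888176)) (.node (.leaf 216694832) (.leaf 279969840)))))) (.node (.node (.node (.node (.node (.leaf 236748848) (.leaf 83902512)) (.node (.leaf 65028145) (.leaf 80019504))) (.node (.node (.leaf 31260721) (.leaf 264503478))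 (.node (.leaf 162305388) (.leaf 81182770)))) (.node (.node (.node (.leaf 377765938) (.leaf 77386181)) (.node (.leaf 342641734) (.leaf 46514644))) (.node (.node (.leaf 223927914) (.leaf 75404837)) (.node (.leaf 150323248) (.leaf 122601522))))) (.node (.node (.node (.node (.leaf 176130718) (.leaf 83972156)) (.node (.leaf 273538760) (.leaf 47760197))) (.node (.node (.leaf 237109296) (.leaf 14041136)) (.node (.leaf 137531354) (.leaf 111300261)))) (.node (.node (.node (.leaf 135397425) (.leaf 115314210)) (.node (.leaf 209158192) (.leaf 124870933))) (.node (.node (.leaf 182583344) (.leaf 12621752)) (.node (.leaf 308707378) (.leaf 81019082)))))))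

/-- A Schreier factor, part 420. -/
def facCodePart420 : Janko1.Tree ℕ := (.node (.node (.node (.node (.node (.node (.leaf 273564854) (.leaf 7954296)) (.node (.leaf 306774434) (.leaf 17096753))) (.node (.node (.leaf 149979184) (.leaf 118702130)) (.node (.leaf 143327280) (.leaf 14975025)))) (.node (.node (.node (.leaf 223559728) (.leaf 71320366)) (.node (.leaf 23445553) (.leaf 122740065))) (.node (.node (.leaf 202309680) (.leaf 300223705)) (.node (.leaf 175819921) (.leaf 14096276))))) (.node (.node (.node (.node (.leaf 169050160) (.leaf 246993956)) (.node (.leaf 342622258) (.leaf 115343721))) (.node (.node (.leaf 380715058) (.leaf 18563120)) (.node (.leaf 344752178) (.leaf 298025008)))) (.node (.node (.node (.leaf 236574873) (.leaf 110284357)) (.node (.leaf 233193522) (.leaf 185714042))) (.node (.node (.leaf 330055728) (.leaf 297746480)) (.node (.leaf 62838917) (.leaf 279756848)))))) (.node (.node (.node (.node (.node (.leaf 343359536) (.leaf 115134204)) (.node (.leaf 125632561) (.leaf 111083568))) (.node (.node (.leaf 105471080) (.leaf 300040970))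 (.node (.leaf 28496924) (.leaf 297730096)))) (.node (.node (.node (.leaf 254725010) (.leaf 83641848)) (.node (.leaf 125673732) (.leaf 111072366))) (.node (.node (.leaf 195838000) (.leaf 79864212)) (.node (.leaf 129974322) (.leaf 299991088))))) (.node (.node (.node (.node (.leaf 202637360) (.leaf 282083376)) (.node (.leaf 334896904) (.leaf 197444593))) (.node (.node (.leaf 176865329) (.leaf 224165938)) (.node (.leaf 339281632) (.leaf 114196528)))) (.node (.node (.node (.leaf 166772785) (.leaf 82706480)) (.node (.leaf 143543992) (.leaf 78978226))) (.node (.node (.leaf 219532436) (.leaf 194035762)) (.node (.leaf 150208560) (.leaf 220528690)))))))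

/-- A Schreier factor, part 421. -/
def facCodePart421 : Janko1.Tree ℕ := (.node (.node (.node (.node (.node (.node (.leaf 32407850) (.leaf 46831857)) (.node (.leaf 252493874) (.leaf 212090930))) (.node (.node (.leaf 130015046) (.leaf 188875738)) (.node (.leaf 209223728) (.leaf 215367730)))) (.node (.node (.node (.leaf 189128637) (.leaf 17450488)) (.node (.leaf 160287069) (.leaf 13913026))) (.node (.node (.leaf 330354364) (.leaf 264323120)) (.node (.leaf 156827696) (.leaf 244662320))))) (.node (.node (.node (.node (.leaf 236240945) (.leaf 51728086)) (.node (.leaf 152797234) (.leaf 47579184))) (.node (.node (.leaf 326009236) (.leaf 246749568)) (.node (.leaf 339056621) (.leaf 46798389)))) (.node (.node (.node (.leaf 334643248) (.leaf 193904690)) (.node (.leaf 113430437) (.leaf 197318626))) (.node (.node (.leaf 149887153) (.leaf 224034866)) (.node (.leaf 117626570) (.leaf 50763401)))))) (.node (.node (.node (.node (.node (.leaf 13254706) (.leaf 297770278)) (.node (.leaf 246693938) (.leaf 83695329))) (.node (.node (.leaf 111216670) (.leaf 111099952))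 (.node (.leaf 93067270) (.leaf 282099870)))) (.node (.node (.node (.leaf 111149105) (.leaf 110264368)) (.node (.leaf 2211888) (.leaf 79003696))) (.node (.node (.leaf 29236242) (.leaf 213959614)) (.node (.leaf 143818802) (.leaf 195674162))))) (.node (.node (.node (.node (.leaf 317556444) (.leaf 222380082)) (.node (.leaf 140689458) (.leaf 114212912))) (.node (.node (.leaf 315508800) (.leaf 82726073)) (.node (.leaf 224755762) (.leaf 110247984)))) (.node (.node (.node (.leaf 77561904) (.leaf 78987312)) (.node (.leaf 221289313) (.leaf 192337152))) (.node (.node (.leaf 85491760) (.leaf 218947620)) (.node (.leaf 261062704) (.leaf 297713712)))))))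

/-- A Schreier factor, part 422. -/
def facCodePart422 : Janko1.Tree ℕ := (.node (.node (.node (.node (.node (.node (.leaf 165436262) (.leaf 279745153)) (.node (.leaf 265538745) (.leaf 115117586))) (.node (.node (.leaf 218087473) (.leaf 111059152)) (.node (.leaf 12222512) (.leaf 79839280)))) (.node (.node (.node (.leaf 234733617) (.leaf 299974704)) (.node (.leaf 21282864) (.leaf 282070684))) (.node (.node (.leaf 140711110) (.leaf 47596809)) (.node (.leaf 143772074) (.leaf 264345185))))) (.node (.node (.node (.node (.leaf 221315122) (.leaf 262078512)) (.node (.leaf 93405232) (.leaf 244681437))) (.node (.node (.leaf 69697584) (.leaf 18333744)) (.node (.leaf 175538225) (.leaf 13008944)))) (.node (.node (.node (.leaf 256720944) (.leaf 187325190)) (.node (.leaf 172313266) (.leaf 213814488))) (.node (.node (.leaf 29514550) (.leaf 216963852)) (.node (.leaf 225017905) (.leaf 50806832)))))) (.node (.node (.node (.node (.node (.leaf 2498833) (.leaf 17440802)) (.node (.leaf 17711154) (.leaf 46815450))) (.node (.node (.leaf 244599977) (.leaf 218832410))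 (.node (.leaf 85246000) (.leaf 222249010)))) (.node (.node (.node (.leaf 111251924) (.leaf 50781897)) (.node (.leaf 265224240) (.leaf 47562800))) (.node (.node (.leaf 68669200) (.leaf 13893680)) (.node (.leaf 260739336) (.leaf 264290352))))) (.node (.node (.node (.node (.leaf 362643970) (.leaf 51986480)) (.node (.leaf 210878514) (.leaf 18595888))) (.node (.node (.leaf 162255241) (.leaf 264573062)) (.node (.leaf 347947056) (.leaf 17121328)))) (.node (.node (.node (.leaf 9995585) (.leaf 97001160)) (.node (.leaf 288931890) (.leaf 50498864))) (.node (.node (.leaf 291176498) (.leaf 91082502)) (.node (.leaf 99238358) (.leaf 122520313)))))))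

/-- A Schreier factor, part 423. -/
def facCodePart423 : Janko1.Tree ℕ := (.node (.node (.node (.node (.node (.node (.leaf 169314473) (.leaf 87085173)) (.node (.leaf 64293433) (.leaf 118472754))) (.node (.node (.leaf 68255794) (.leaf 12632112)) (.node (.leaf 141726757) (.leaf 262357040)))) (.node (.node (.node (.leaf 357335088) (.leaf 244924464)) (.node (.leaf 223973630) (.leaf 264618032))) (.node (.node (.leaf 204603441) (.leaf 247054384)) (.node (.leaf 194363441) (.leaf 14141357))))) (.node (.node (.node (.node (.leaf 291225650) (.leaf 300236848)) (.node (.leaf 99254322) (.leaf 282361904))) (.node (.node (.leaf 288919057) (.leaf 111350406)) (.node (.leaf 95344180) (.leaf 80053446)))) (.node (.node (.node (.leaf 182534192) (.leaf 115376176)) (.node (.leaf 162567777) (.leaf 298098457))) (.node (.node (.leaf 64274482) (.leaf 280106492)) (.node (.leaf 135643625) (.leaf 93195388)))))) (.node (.node (.node (.node (.node (.leaf 361682890) (.leaf 124782394)) (.node (.leaf 158556424) (.leaf 42458760))) (.node (.node (.leaf 216941278) (.leaf 97075250))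 (.node (.leaf 211288718) (.leaf 128926773)))) (.node (.node (.node (.leaf 181555678) (.leaf 48497070)) (.node (.leaf 168968240) (.leaf 91209778))) (.node (.node (.leaf 184860722) (.leaf 122650674)) (.node (.leaf 19152945) (.leaf 300286000))))) (.node (.node (.node (.node (.leaf 357025170) (.leaf 282443824)) (.node (.leaf 230080560) (.leaf 115448376))) (.node (.node (.leaf 83954392) (.leaf 84051721)) (.node (.leaf 87905360) (.leaf 280153637)))) (.node (.node (.node (.leaf 343657961) (.leaf 194134065)) (.node (.leaf 232587314) (.leaf 154388281))) (.node (.node (.leaf 341614745) (.leaf 110870576)) (.node (.leaf 215629872) (.leaf 154337329)))))))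

/-- A Schreier factor, part 424. -/
def facCodePart424 : Janko1.Tree ℕ := (.node (.node (.node (.node (.node (.node (.leaf 235658908) (.leaf 17777762)) (.node (.leaf 74743857) (.leaf 111762437))) (.node (.node (.leaf 7176984) (.leaf 279298096)) (.node (.leaf 183453108) (.leaf 18645040)))) (.node (.node (.node (.leaf 270090290) (.leaf 299551505)) (.node (.leaf 129302578) (.leaf 263495230))) (.node (.node (.leaf 272437385) (.leaf 111738928)) (.node (.leaf 94027826) (.leaf 84312112))))) (.node (.node (.node (.node (.leaf 97861682) (.leaf 279281712)) (.node (.leaf 321294217) (.leaf 145671405))) (.node (.node (.leaf 193232945) (.leaf 110837808)) (.node (.leaf 149438513) (.leaf 83364809)))) (.node (.node (.node (.leaf 170393648) (.leaf 145588273)) (.node (.leaf 139722801) (.leaf 185796056))) (.node (.node (.leaf 129318962) (.leaf 207575309)) (.node (.leaf 270057849) (.leaf 140787761)))))) (.node (.node (.node (.node (.node (.leaf 186712113) (.leaf 52084784)) (.node (.leaf 312344848) (.leaf 115756568))) (.node (.node (.leaf 210059313) (.leaf 261363093))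 (.node (.leaf 163679077) (.leaf 281544285)))) (.node (.node (.node (.leaf 232559661) (.leaf 297238576)) (.node (.leaf 341579846) (.leaf 52052852))) (.node (.node (.leaf 235904814) (.leaf 115703856)) (.node (.leaf 343674365) (.leaf 261347270))))) (.node (.node (.node (.node (.leaf 206438450) (.leaf 245973040)) (.node (.leaf 209813554) (.leaf 14237744))) (.node (.node (.leaf 222483809) (.leaf 281509936)) (.node (.leaf 316620848) (.leaf 114884656)))) (.node (.node (.node (.leaf 16569037) (.leaf 133111858)) (.node (.leaf 20894617) (.leaf 13327062))) (.node (.node (.leaf 170065968) (.leaf 199263360)) (.node (.leaf 114573362) (.leaf 263536688)))))))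

/-- A Schreier factor, part 425. -/
def facCodePart425 : Janko1.Tree ℕ := (.node (.node (.node (.node (.node (.node (.leaf 79790130) (.leaf 84344880)) (.node (.leaf 83660181) (.leaf 279320234))) (.node (.node (.leaf 124895280) (.leaf 18667818)) (.node (.leaf 238983409) (.leaf 47139933)))) (.node (.node (.node (.leaf 80281649) (.leaf 192430129)) (.node (.leaf 252215344) (.leaf 152584241))) (.node (.node (.leaf 13877297) (.leaf 83410992)) (.node (.leaf 224152849) (.leaf 47125696))))) (.node (.node (.node (.node (.leaf 335708210) (.leaf 187613233)) (.node (.leaf 220545074) (.leaf 147294704))) (.node (.node (.leaf 333578290) (.leaf 110854192)) (.node (.leaf 197857733) (.leaf 83378224)))) (.node (.node (.node (.leaf 194402524) (.leaf 187539432)) (.node (.leaf 117002432) (.leaf 17760337))) (.node (.node (.leaf 243744816) (.leaf 47890480)) (.node (.leaf 208638006) (.leaf 111727110)))))) (.node (.node (.node (.node (.node (.leaf 220585278) (.leaf 297260505)) (.node (.leaf 224122924) (.leaf 115769880))) (.node (.node (.leaf 125081732) (.leaf 80445488))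 (.node (.leaf 197787698) (.leaf 14257617)))) (.node (.node (.node (.leaf 101390054) (.leaf 281559088)) (.node (.leaf 252510256) (.leaf 206045233))) (.node (.node (.leaf 147968014) (.leaf 139205396)) (.node (.leaf 144588849) (.leaf 13353008))))) (.node (.node (.node (.node (.leaf 114540594) (.leaf 200966193)) (.node (.leaf 264028210) (.leaf 51200048))) (.node (.node (.leaf 110542898) (.leaf 114901040)) (.node (.leaf 79822898) (.leaf 13336624)))) (.node (.node (.node (.leaf 108627878) (.leaf 200867889)) (.node (.leaf 247808048) (.leaf 297222192))) (.node (.node (.leaf 100048080) (.leaf 52035721)) (.node (.leaf 243401000) (.leaf 115693960)))))))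

/-- A Schreier factor, part 426. -/
def facCodePart426 : Janko1.Tree ℕ := (.node (.node (.node (.node (.node (.node (.leaf 35176497) (.leaf 245956656)) (.node (.leaf 54284676) (.leaf 80429104))) (.node (.node (.leaf 136118320) (.leaf 115966000)) (.node (.leaf 158007346) (.leaf 261610933)))) (.node (.node (.node (.leaf 155025458) (.leaf 52336836)) (.node (.leaf 128286769) (.leaf 13048038))) (.node (.node (.leaf 108151802) (.leaf 22041381)) (.node (.leaf 64422246) (.leaf 22109102))))) (.node (.node (.node (.node (.leaf 43719233) (.leaf 50839769)) (.node (.leaf 306921522) (.leaf 13058096))) (.node (.node (.leaf 63805074) (.leaf 77225076)) (.node (.leaf 309035058) (.leaf 28090429)))) (.node (.node (.node (.leaf 67849806) (.leaf 79371513)) (.node (.leaf 142377008) (.leaf 114574817))) (.node (.node (.leaf 30891012) (.leaf 28164145)) (.node (.leaf 35479798) (.leaf 50888752)))))) (.node (.node (.node (.node (.node (.leaf 370606332) (.leaf 281877454)) (.node (.leaf 221806641) (.leaf 246333488))) (.node (.node (.leaf 177883237) (.leaf 261636136)) (.node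 (.leaf 203820322) (.leaf 297551821)))) (.node (.node (.node (.leaf 167936049) (.leaf 52379696)) (.node (.leaf 67918165) (.leaf 18907672))) (.node (.node (.leaf 306894242) (.leaf 84574789)) (.node (.leaf 156008496) (.leaf 263766064))))) (.node (.node (.node (.node (.leaf 35506808) (.leaf 111993222)) (.node (.leaf 136353036) (.leaf 48268088))) (.node (.node (.leaf 237625537) (.leaf 83050544)) (.node (.leaf 366198832) (.leaf 3309617)))) (.node (.node (.node (.leaf 210289213) (.leaf 3432670)) (.node (.leaf 161219234) (.leaf 110526512))) (.node (.node (.leaf 377897010) (.leaf 92962865)) (.node (.leaf 181010482) (.leaf 17502193)))))))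

/-- A Schreier factor, part 427. -/
def facCodePart427 : Janko1.Tree ℕ := (.node (.node (.node (.node (.node (.node (.leaf 380952748) (.leaf 83086249)) (.node (.leaf 184418354) (.leaf 10698801))) (.node (.node (.leaf 148669372) (.leaf 10797462)) (.node (.leaf 154996176) (.leaf 110549852)))) (.node (.node (.node (.leaf 158075925) (.leaf 93061169)) (.node (.leaf 203522096) (.leaf 263831600))) (.node (.node (.leaf 51830370) (.leaf 112017456)) (.node (.leaf 56066097) (.leaf 299881709))))) (.node (.node (.node (.node (.leaf 62298168) (.leaf 47190477)) (.node (.leaf 163366058) (.leaf 220727976))) (.node (.node (.leaf 209994916) (.leaf 181011524)) (.node (.leaf 236441402) (.leaf 47988784)))) (.node (.node (.node (.leaf 183278265) (.leaf 281612801)) (.node (.leaf 233046066) (.leaf 263618608))) (.node (.node (.leaf 235569200) (.leaf 111853616)) (.node (.leaf 176382228) (.leaf 47979525)))))) (.node (.node (.node (.node (.node (.leaf 170475568) (.leaf 299614256)) (.node (.leaf 166303288) (.leaf 263593836))) (.node (.node (.leaf 203718917) (.leaf 246022192))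 (.node (.leaf 177078320) (.leaf 111837502)))) (.node (.node (.node (.leaf 142476358) (.leaf 13375056)) (.node (.leaf 62242866) (.leaf 212443161))) (.node (.node (.leaf 129794098) (.leaf 172720177)) (.node (.leaf 229261360) (.leaf 110939009))))) (.node (.node (.node (.node (.leaf 66442641) (.leaf 79695932)) (.node (.leaf 159778812) (.leaf 234029105))) (.node (.node (.leaf 210239536) (.leaf 234111025)) (.node (.leaf 183799836) (.leaf 51283232)))) (.node (.node (.node (.leaf 133382193) (.leaf 17842224)) (.node (.leaf 190154473) (.leaf 83500017))) (.node (.node (.leaf 129833468) (.leaf 297340600)) (.node (.leaf 156074032) (.leaf 279380016)))))))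

/-- A Schreier factor, part 428. -/
def facCodePart428 : Janko1.Tree ℕ := (.node (.node (.node (.node (.node (.node (.leaf 235864112) (.leaf 52133936)) (.node (.leaf 66469938) (.leaf 18726960))) (.node (.node (.leaf 125541422) (.leaf 115851898)) (.node (.leaf 49774641) (.leaf 297323208)))) (.node (.node (.node (.leaf 148784928) (.leaf 225787953)) (.node (.leaf 228954156) (.leaf 51216432))) (.node (.node (.leaf 179929138) (.leaf 17793072)) (.node (.leaf 236453938) (.leaf 114950192))))) (.node (.node (.node (.node (.leaf 222412848) (.leaf 159285297)) (.node (.leaf 70475370) (.leaf 14275570))) (.node (.node (.leaf 37705562) (.leaf 299663408)) (.node (.leaf 13631537) (.leaf 281626352)))) (.node (.node (.node (.leaf 94208048) (.leaf 246060396)) (.node (.leaf 62455856) (.leaf 111870000))) (.node (.node (.leaf 101107864) (.leaf 219039973)) (.node (.leaf 47473078) (.leaf 219123662)))))) (.node (.node (.node (.node (.node (.leaf 28263633) (.leaf 179310966)) (.node (.leaf 124813360) (.leaf 110958072))) (.node (.node (.leaf 51626034) (.leaf 79731988))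 (.node (.leaf 154845233) (.leaf 79708208)))) (.node (.node (.node (.leaf 108888112) (.leaf 299597872)) (.node (.leaf 171498958) (.leaf 281591856))) (.node (.node (.leaf 221059730) (.leaf 263575466)) (.node (.leaf 116923153) (.leaf 111820848))))) (.node (.node (.node (.node (.leaf 168019713) (.leaf 80519176)) (.node (.leaf 174985594) (.leaf 297361432))) (.node (.node (.leaf 94575261) (.leaf 279398758)) (.node (.leaf 62820493) (.leaf 52150862)))) (.node (.node (.node (.leaf 70762544) (.leaf 84397009)) (.node (.leaf 38010928) (.leaf 261406768))) (.node (.node (.leaf 28509342) (.leaf 232512829)) (.node (.leaf 125000709) (.leaf 51265584)))))))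

/-- A Schreier factor, part 429. -/
def facCodePart429 : Janko1.Tree ℕ := (.node (.node (.node (.node (.node (.node (.leaf 1310768) (.leaf 83476528)) (.node (.leaf 171458610) (.leaf 165920817))) (.node (.node (.leaf 86230789) (.leaf 227475505)) (.node (.leaf 35004556) (.leaf 17812561)))) (.node (.node (.node (.leaf 39305265) (.leaf 114966576)) (.node (.leaf 78322258) (.leaf 83427376))) (.node (.node (.leaf 4014129) (.leaf 160940081)) (.node (.leaf 51580256) (.leaf 18677808))))) (.node (.node (.node (.node (.leaf 111018034) (.leaf 115818544)) (.node (.leaf 47503110) (.leaf 243941922))) (.node (.node (.leaf 96689693) (.leaf 115999830)) (.node (.leaf 365822000) (.leaf 261685296)))) (.node (.node (.node (.leaf 128221233) (.leaf 244252720)) (.node (.leaf 378552368) (.leaf 52428848))) (.node (.node (.leaf 211030377) (.leaf 83148848)) (.node (.leaf 207685872) (.leaf 102765601)))))) (.node (.node (.node (.node (.node (.leaf 154411184) (.leaf 50924557)) (.node (.leaf 321372208) (.leaf 108511281))) (.node (.node (.leaf 374787894) (.leaf 50959637)) (.node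 (.leaf 30392370) (.leaf 261718064)))) (.node (.node (.node (.leaf 291356722) (.leaf 297599024)) (.node (.leaf 214990897) (.leaf 80691248))) (.node (.node (.leaf 312426544) (.leaf 14532656)) (.node (.leaf 99385394) (.leaf 38748209))))) (.node (.node (.node (.node (.leaf 289062962) (.leaf 46957777)) (.node (.leaf 30359602) (.leaf 118521905))) (.node (.node (.leaf 321044528) (.leaf 44957745)) (.node (.leaf 88629154) (.leaf 46980092)))) (.node (.node (.node (.leaf 207650866) (.leaf 246399024)) (.node (.leaf 154386482) (.leaf 112115760))) (.node (.node (.leaf 324714546) (.leaf 80724016)) (.node (.leaf 326814914) (.leaf 281936001)))))))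

/-- A Schreier factor, part 430. -/
def facCodePart430 : Janko1.Tree ℕ := (.node (.node (.node (.node (.node (.node (.leaf 340754480) (.leaf 157286449)) (.node (.leaf 292388913) (.leaf 79642672))) (.node (.node (.leaf 274729508) (.leaf 157257254)) (.node (.leaf 232833072) (.leaf 197514008)))) (.node (.node (.node (.leaf 129335345) (.leaf 84361358)) (.node (.leaf 65208369) (.leaf 299565828))) (.node (.node (.leaf 370188400) (.leaf 80461872)) (.node (.leaf 352607773) (.leaf 263525046))))) (.node (.node (.node (.node (.leaf 146292809) (.leaf 14229168)) (.node (.leaf 199032881) (.leaf 148932068))) (.node (.node (.leaf 540893) (.leaf 189104177)) (.node (.leaf 69206066) (.leaf 13290506)))) (.node (.node (.node (.leaf 327354796) (.leaf 110826993)) (.node (.leaf 345316476) (.leaf 143851569))) (.node (.node (.leaf 359390396) (.leaf 114939598)) (.node (.leaf 133815618) (.leaf 210911281)))))) (.node (.node (.node (.node (.node (.leaf 38109234) (.leaf 281580593)) (.node (.leaf 102285362) (.leaf 47939632))) (.node (.node (.leaf 188858417) (.leaf 111706160))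 (.node (.leaf 215567564) (.leaf 245996981)))) (.node (.node (.node (.leaf 274236150) (.leaf 115792509)) (.node (.leaf 5839889) (.leaf 52106805))) (.node (.node (.leaf 267354161) (.leaf 47926536)) (.node (.leaf 331894560) (.leaf 111689776))))) (.node (.node (.node (.node (.leaf 285613418) (.leaf 115741161)) (.node (.leaf 219496496) (.leaf 52068400))) (.node (.node (.leaf 139673648) (.leaf 279330864)) (.node (.leaf 163823666) (.leaf 202604682)))) (.node (.node (.node (.leaf 216812304) (.leaf 47161476)) (.node (.leaf 77545521) (.leaf 110793124))) (.node (.node (.leaf 347766834) (.leaf 114917424)) (.node (.leaf 10575076) (.leaf 202620977)))))))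

/-- A Schreier factor, part 431. -/
def facCodePart431 : Janko1.Tree ℕ := (.node (.node (.node (.node (.node (.node (.leaf 271634394) (.leaf 261397938)) (.node (.leaf 289177648) (.leaf 84384324))) (.node (.node (.leaf 302317954) (.leaf 80478256)) (.node (.leaf 284327985) (.leaf 263560434)))) (.node (.node (.node (.leaf 129549244) (.leaf 299587028)) (.node (.leaf 123838721) (.leaf 195826526))) (.node (.node (.leaf 82985009) (.leaf 155961445)) (.node (.leaf 250429490) (.leaf 79630538))))) (.node (.node (.node (.node (.leaf 285906941) (.leaf 155942961)) (.node (.leaf 21495858) (.leaf 195805233))) (.node (.node (.leaf 17072177) (.leaf 13303856)) (.node (.leaf 344231793) (.leaf 190792982)))) (.node (.node (.node (.leaf 267288624) (.leaf 150798385)) (.node (.leaf 284840924) (.leaf 83395172))) (.node (.node (.leaf 362889265) (.leaf 150765617)) (.node (.leaf 121536560) (.leaf 190775345)))))) (.node (.node (.node (.node (.node (.leaf 187629617) (.leaf 261376988)) (.node (.leaf 214294090) (.leaf 84335476))) (.node (.node (.leaf 355454476) (.leaf 263503920))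 (.node (.leaf 88642034) (.leaf 14212604)))) (.node (.node (.node (.leaf 333414449) (.leaf 47956016)) (.node (.leaf 276283440) (.leaf 246005808))) (.node (.node (.leaf 351830065) (.leaf 115809540)) (.node (.leaf 231657530) (.leaf 47173242))))) (.node (.node (.node (.node (.leaf 73039920) (.leaf 209199142)) (.node (.leaf 241745969) (.leaf 204324913))) (.node (.node (.leaf 262457228) (.leaf 110810834)) (.node (.leaf 280313904) (.leaf 137805873)))) (.node (.node (.node (.leaf 56348832) (.leaf 281526320)) (.node (.leaf 119783474) (.leaf 47912262))) (.node (.node (.leaf 95164141) (.leaf 111673392)) (.node (.leaf 283738162) (.leaf 115724560)))))))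

/-- A Schreier factor, part 432. -/
def facCodePart432 : Janko1.Tree ℕ := (.node (.node (.node (.node (.node (.node (.leaf 344984822) (.leaf 279532626)) (.node (.leaf 255234910) (.leaf 244157481))) (.node (.node (.leaf 71650436) (.leaf 50872368)) (.node (.leaf 103160214) (.leaf 75268145)))) (.node (.node (.node (.leaf 38393142) (.leaf 110582718)) (.node (.leaf 3113009) (.leaf 26116145))) (.node (.node (.leaf 312754226) (.leaf 75251761)) (.node (.leaf 348930098) (.leaf 46861446))))) (.node (.node (.node (.node (.leaf 332156133) (.leaf 50910052)) (.node (.leaf 349896752) (.leaf 81010214))) (.node (.node (.leaf 319051136) (.leaf 31899697)) (.node (.leaf 355975217) (.leaf 46874672)))) (.node (.node (.node (.leaf 197296177) (.leaf 52412464)) (.node (.leaf 224221577) (.leaf 279576624))) (.node (.node (.leaf 40239154) (.leaf 244187184)) (.node (.leaf 104005701) (.leaf 115986741)))))) (.node (.node (.node (.node (.node (.leaf 8131440) (.leaf 112074764)) (.node (.leaf 275357796) (.leaf 48255797))) (.node (.node (.leaf 341069884) (.leaf 299845489)) (.node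 (.leaf 330797176) (.leaf 263806424)))) (.node (.node (.node (.leaf 233111600) (.leaf 261557009)) (.node (.leaf 153288752) (.leaf 84607457))) (.node (.node (.leaf 366854193) (.leaf 18939952)) (.node (.leaf 349192241) (.leaf 297566256))))) (.node (.node (.node (.node (.leaf 207279196) (.leaf 91129104)) (.node (.leaf 233931005) (.leaf 13114448))) (.node (.node (.leaf 44288540) (.leaf 79323105)) (.node (.leaf 108011788) (.leaf 8455057)))) (.node (.node (.node (.leaf 3080242) (.leaf 8486961)) (.node (.leaf 242014112) (.leaf 17481776))) (.node (.node (.leaf 261743038) (.leaf 15450260)) (.node (.leaf 226197552) (.leaf 15466545)))))))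

/-- A Schreier factor, part 433. -/
def facCodePart433 : Janko1.Tree ℕ := (.node (.node (.node (.node (.node (.node (.leaf 146030640) (.leaf 83099696)) (.node (.leaf 298057777) (.leaf 17530928))) (.node (.node (.leaf 25952305) (.leaf 84656176)) (.node (.leaf 310466820) (.leaf 18992621)))) (.node (.node (.node (.leaf 36471697) (.leaf 224313393)) (.node (.leaf 363429938) (.leaf 224400281))) (.node (.node (.leaf 31690506) (.leaf 184475806)) (.node (.leaf 69763121) (.leaf 184287281))))) (.node (.node (.node (.node (.leaf 187027009) (.leaf 184454438)) (.node (.leaf 137436362) (.leaf 224280714))) (.node (.node (.leaf 129073201) (.leaf 224371093)) (.node (.leaf 133464112) (.leaf 297287728)))) (.node (.node (.node (.leaf 289947697) (.leaf 261439536)) (.node (.leaf 232898608) (.leaf 243976757))) (.node (.node (.leaf 238764081) (.leaf 246071344)) (.node (.leaf 271949046) (.leaf 299686725)))))) (.node (.node (.node (.node (.node (.leaf 294223922) (.leaf 279347248)) (.node (.leaf 256278578) (.leaf 261426748))) (.node (.node (.leaf 36360988) (.leaf 243957808))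 (.node (.leaf 74779538) (.leaf 246039101)))) (.node (.node (.node (.leaf 2507660) (.leaf 299647024)) (.node (.leaf 370278449) (.leaf 215760945))) (.node (.node (.leaf 316129329) (.leaf 176160817)) (.node (.leaf 336677614) (.leaf 215744561))))) (.node (.node (.node (.node (.leaf 291997832) (.leaf 13440841)) (.node (.leaf 40534066) (.leaf 79675440))) (.node (.node (.leaf 215351345) (.leaf 17874992)) (.node (.leaf 376460592) (.leaf 14308593)))) (.node (.node (.node (.leaf 329531441) (.leaf 52174056)) (.node (.leaf 327291697) (.leaf 111795501))) (.node (.node (.leaf 108693201) (.leaf 18714726)) (.node (.leaf 145952245) (.leaf 47208486)))))))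

/-- A Schreier factor, part 434. -/
def facCodePart434 : Janko1.Tree ℕ := (.node (.node (.node (.node (.node (.node (.leaf 303693873) (.leaf 13385776)) (.node (.leaf 278825706) (.leaf 110894238))) (.node (.node (.leaf 219545648) (.leaf 79665249)) (.node (.leaf 249692209) (.leaf 83443760)))) (.node (.node (.node (.leaf 260538417) (.leaf 51232816)) (.node (.leaf 331795848) (.leaf 17833661))) (.node (.node (.leaf 54843189) (.leaf 297311130)) (.node (.leaf 304136242) (.leaf 279363632))))) (.node (.node (.node (.node (.leaf 265846834) (.leaf 261455920)) (.node (.leaf 87151056) (.leaf 263634992))) (.node (.node (.leaf 92178100) (.leaf 246091669)) (.node (.leaf 23281714) (.leaf 299696176)))) (.node (.node (.node (.leaf 114442289) (.leaf 281641008)) (.node (.leaf 302369593) (.leaf 222568450))) (.node (.node (.leaf 263585841) (.leaf 222527537)) (.node (.leaf 80895696) (.leaf 217275273)))))) (.node (.node (.node (.node (.node (.leaf 201773225) (.leaf 177569841)) (.node (.leaf 16488096) (.leaf 297271344))) (.node (.node (.leaf 280756272) (.leaf 263604842))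 (.node (.leaf 328712241) (.leaf 299630640)))) (.node (.node (.node (.leaf 96763952) (.leaf 48021552)) (.node (.leaf 337412146) (.leaf 111806853))) (.node (.node (.leaf 148160562) (.leaf 52183088)) (.node (.leaf 369442865) (.leaf 13424605))))) (.node (.node (.node (.node (.leaf 358342988) (.leaf 110919728)) (.node (.leaf 289461144) (.leaf 115003618))) (.node (.node (.leaf 315310129) (.leaf 83509296)) (.node (.leaf 258267634) (.leaf 17859377)))) (.node (.node (.node (.leaf 301899390) (.leaf 13402985)) (.node (.leaf 268124210) (.leaf 110908853))) (.node (.node (.leaf 75450262) (.leaf 114990072)) (.node (.leaf 88211970) (.leaf 83460841)))))))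

/-- A Schreier factor, part 435. -/
def facCodePart435 : Janko1.Tree ℕ := (.node (.node (.node (.node (.node (.node (.leaf 27150420) (.leaf 51253860)) (.node (.leaf 24727713) (.leaf 48005654))) (.node (.node (.leaf 295567409) (.leaf 14286896)) (.node (.leaf 288620593) (.leaf 111771696)))) (.node (.node (.node (.leaf 113229872) (.leaf 80501073)) (.node (.leaf 284688432) (.leaf 115836334))) (.node (.node (.leaf 270474781) (.leaf 52117552)) (.node (.leaf 262430377) (.leaf 18700897))))) (.node (.node (.node (.node (.leaf 328597554) (.leaf 52463577)) (.node (.leaf 3031089) (.leaf 19025097))) (.node (.node (.leaf 67273286) (.leaf 116023438)) (.node (.leaf 366739506) (.leaf 84688932)))) (.node (.node (.node (.leaf 135807026) (.leaf 112132144)) (.node (.leaf 99303473) (.leaf 48316464))) (.node (.node (.leaf 275726385) (.leaf 50937904)) (.node (.leaf 308792404) (.leaf 83189037)))))) (.node (.node (.node (.node (.node (.leaf 257328828) (.leaf 110609264)) (.node (.leaf 327024688) (.leaf 79429680))) (.node (.node (.leaf 358719754) (.leaf 46912850)) (.node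 (.leaf 259298558) (.leaf 50990053)))) (.node (.node (.node (.leaf 102613042) (.leaf 114674996)) (.node (.leaf 200687665) (.leaf 46926096))) (.node (.node (.leaf 219847097) (.leaf 19043185)) (.node (.leaf 373342257) (.leaf 84721712))))) (.node (.node (.node (.node (.leaf 335282225) (.leaf 112181296)) (.node (.leaf 354385968) (.leaf 48349232))) (.node (.node (.leaf 38521598) (.leaf 281886768)) (.node (.leaf 295262738) (.leaf 246370289)))) (.node (.node (.node (.leaf 5242930) (.leaf 261652528)) (.node (.leaf 190566054) (.leaf 297617068))) (.node (.node (.leaf 360275113) (.leaf 122552741)) (.node (.leaf 233177136) (.leaf 122634289)))))))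

/-- A Schreier factor, part 436. -/
def facCodePart436 : Janko1.Tree ℕ := (.node (.node (.node (.node (.node (.node (.leaf 366907957) (.leaf 42866325)) (.node (.leaf 341000240) (.leaf 42876977))) (.node (.node (.leaf 345391152) (.leaf 122572588)) (.node (.leaf 364462130) (.leaf 48889905)))) (.node (.node (.node (.leaf 122830897) (.leaf 48906289)) (.node (.leaf 188618588) (.leaf 128846750))) (.node (.node (.leaf 226263088) (.leaf 281968688)) (.node (.leaf 298141745) (.leaf 246415408))))) (.node (.node (.node (.node (.leaf 268553012) (.leaf 261668912)) (.node (.leaf 336384569) (.leaf 244242294))) (.node (.node (.leaf 349650992) (.leaf 297653472)) (.node (.leaf 244420918) (.leaf 279644965)))) (.node (.node (.node (.leaf 100535685) (.leaf 46745210)) (.node (.leaf 311754802) (.leaf 202316922))) (.node (.node (.leaf 1163313) (.leaf 114153920)) (.node (.leaf 65994801) (.leaf 17334320)))))) (.node (.node (.node (.node (.node (.leaf 159584916) (.leaf 47497264)) (.node (.leaf 272453090) (.leaf 246699981))) (.node (.node (.leaf 363168894) (.leaf 115064880))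 (.node (.leaf 322797616) (.leaf 18273862)))) (.node (.node (.node (.leaf 5970854) (.leaf 47485880)) (.node (.leaf 238721877) (.leaf 246644784))) (.node (.node (.leaf 69091378) (.leaf 79778286)) (.node (.leaf 142016561) (.leaf 115032112))))) (.node (.node (.node (.node (.leaf 106152292) (.leaf 262064409)) (.node (.leaf 316676296) (.leaf 224268104))) (.node (.node (.leaf 336911028) (.leaf 210599986)) (.node (.leaf 367759158) (.leaf 114098224)))) (.node (.node (.node (.leaf 369721393) (.leaf 233783817)) (.node (.leaf 318363026) (.leaf 17285168))) (.node (.node (.leaf 704562) (.leaf 225598748)) (.node (.leaf 240980442) (.leaf 82660061)))))))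

/-- A Schreier factor, part 437. -/
def facCodePart437 : Janko1.Tree ℕ := (.node (.node (.node (.node (.node (.node (.leaf 152191025) (.leaf 215470565)) (.node (.leaf 162414641) (.leaf 202457138))) (.node (.node (.leaf 323457608) (.leaf 51633362)) (.node (.leaf 330076933) (.leaf 83581245)))) (.node (.node (.node (.leaf 186433584) (.leaf 244596784)) (.node (.leaf 376344636) (.leaf 264227669))) (.node (.node (.leaf 347226161) (.leaf 13828144)) (.node (.leaf 309559344) (.leaf 282020834))))) (.node (.node (.node (.node (.leaf 120228408) (.leaf 297698972)) (.node (.leaf 309575730) (.leaf 83542064))) (.node (.node (.leaf 77023993) (.leaf 244588954)) (.node (.leaf 172952182) (.leaf 233947186)))) (.node (.node (.node (.leaf 250321952) (.leaf 50708622)) (.node (.leaf 192692272) (.leaf 193844168))) (.node (.node (.leaf 313688112) (.leaf 210766418)) (.node (.leaf 248250418) (.leaf 246710320)))))) (.node (.node (.node (.node (.node (.leaf 56237913) (.leaf 279683364)) (.node (.leaf 248823857) (.leaf 217186354))) (.node (.node (.leaf 293912624) (.leaf 114130992))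 (.node (.leaf 301793329) (.leaf 227235000)))) (.node (.node (.node (.leaf 112508976) (.leaf 46732161)) (.node (.leaf 355310198) (.leaf 222462002))) (.node (.node (.leaf 321623256) (.leaf 208846898)) (.node (.leaf 23986224) (.leaf 78921776))))) (.node (.node (.node (.node (.leaf 157275786) (.leaf 114123013)) (.node (.leaf 49659952) (.leaf 47464496))) (.node (.node (.leaf 298847394) (.leaf 115021652)) (.node (.leaf 379846705) (.leaf 262045744)))) (.node (.node (.node (.leaf 346423345) (.leaf 279658544)) (.node (.leaf 249610288) (.leaf 18235440))) (.node (.node (.leaf 319143986) (.leaf 83591216)) (.node (.leaf 5934926) (.leaf 244616937)))))))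

/-- A Schreier factor, part 438. -/
def facCodePart438 : Janko1.Tree ℕ := (.node (.node (.node (.node (.node (.node (.leaf 140810549) (.leaf 264245222)) (.node (.leaf 231800882) (.leaf 110987525))) (.node (.node (.leaf 340465976) (.leaf 82641192)) (.node (.leaf 357826609) (.leaf 12959792)))) (.node (.node (.node (.leaf 241041456) (.leaf 204161074)) (.node (.leaf 21615762) (.leaf 232341554))) (.node (.node (.leaf 250478642) (.leaf 82608176)) (.node (.leaf 14942256) (.leaf 192118834))))) (.node (.node (.node (.node (.leaf 8519729) (.leaf 222314705)) (.node (.leaf 63671400) (.leaf 209033049))) (.node (.node (.leaf 57671728) (.leaf 297680944)) (.node (.leaf 242499633) (.leaf 51576880)))) (.node (.node (.node (.leaf 271030768) (.leaf 83533978)) (.node (.leaf 302876490) (.leaf 264175664))) (.node (.node (.leaf 294977585) (.leaf 110968880)) (.node (.leaf 245096748) (.leaf 281985072)))))) (.node (.node (.node (.node (.node (.leaf 71188529) (.leaf 282296368)) (.node (.leaf 34701361) (.leaf 297951668))) (.node (.node (.leaf 257802289) (.leaf 12566576))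 (.node (.leaf 309236268) (.leaf 92946482)))) (.node (.node (.node (.leaf 242155570) (.leaf 12582960)) (.node (.leaf 74980925) (.leaf 75415602))) (.node (.node (.leaf 3211314) (.leaf 122617906)) (.node (.leaf 170950689) (.leaf 87031858))))) (.node (.node (.node (.node (.leaf 104169522) (.leaf 50436074)) (.node (.leaf 192995488) (.leaf 282348046))) (.node (.node (.leaf 173249462) (.leaf 264523880)) (.node (.leaf 319819124) (.leaf 111329904)))) (.node (.node (.node (.leaf 352976945) (.leaf 83951664)) (.node (.leaf 313983024) (.leaf 244858928))) (.node (.node (.leaf 372017160) (.leaf 297982850)) (.node (.leaf 372801585) (.leaf 51937328)))))))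

/-- A Schreier factor, part 439. -/
def facCodePart439 : Janko1.Tree ℕ := (.node (.node (.node (.node (.node (.node (.leaf 239894578) (.leaf 280025616)) (.node (.leaf 71122994) (.leaf 18481200))) (.node (.node (.leaf 40115006) (.leaf 246913530)) (.node (.leaf 137609265) (.leaf 47775792)))) (.node (.node (.node (.leaf 342294577) (.leaf 93093938)) (.node (.leaf 206454832) (.leaf 17078822))) (.node (.node (.leaf 359678001) (.leaf 81035314)) (.node (.leaf 323190832) (.leaf 2801713))))) (.node (.node (.node (.node (.leaf 363446320) (.leaf 46530608)) (.node (.leaf 366362673) (.leaf 129007666))) (.node (.node (.leaf 165363762) (.leaf 75284530)) (.node (.leaf 59744613) (.leaf 10190897)))) (.node (.node (.node (.leaf 215303376) (.leaf 122770969)) (.node (.leaf 244878886) (.leaf 262291504))) (.node (.node (.leaf 286007348) (.leaf 246972464)) (.node (.leaf 297519190) (.leaf 300205110)))))) (.node (.node (.node (.node (.node (.leaf 309313584) (.leaf 188989490)) (.node (.leaf 159662128) (.leaf 82743346))) (.node (.node (.leaf 186060073) (.leaf 199055545))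 (.node (.leaf 256839060) (.leaf 225448645)))) (.node (.node (.node (.leaf 36849841) (.leaf 13860912)) (.node (.leaf 1212465) (.leaf 300013357))) (.node (.node (.leaf 69111992) (.leaf 83656752)) (.node (.leaf 100745265) (.leaf 262127664))))) (.node (.node (.node (.node (.leaf 367689776) (.leaf 13844528)) (.node (.leaf 314105408) (.leaf 299958320))) (.node (.node (.leaf 316424241) (.leaf 115097648)) (.node (.leaf 166428720) (.leaf 83623984)))) (.node (.node (.node (.leaf 192908798) (.leaf 262118230)) (.node (.leaf 168919089) (.leaf 12976176))) (.node (.node (.leaf 142098481) (.leaf 197476402)) (.node (.leaf 104207380) (.leaf 207290418)))))))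

/-- A Schreier factor, part 440. -/
def facCodePart440 : Janko1.Tree ℕ := (.node (.node (.node (.node (.node (.node (.leaf 375930929) (.leaf 199180338)) (.node (.leaf 358826033) (.leaf 17422364))) (.node (.node (.leaf 323289137) (.leaf 188891186)) (.node (.leaf 341429177) (.leaf 78955418)))) (.node (.node (.node (.leaf 2318192) (.leaf 297784452)) (.node (.leaf 178886042) (.leaf 279778509))) (.node (.node (.leaf 152256561) (.leaf 51691568)) (.node (.leaf 71008306) (.leaf 18317360))))) (.node (.node (.node (.node (.leaf 100614194) (.leaf 111023669)) (.node (.leaf 291838661) (.leaf 79824353))) (.node (.node (.leaf 318160944) (.leaf 51683572)) (.node (.leaf 285073009) (.leaf 18305814)))) (.node (.node (.node (.leaf 250036273) (.leaf 264273968)) (.node (.leaf 199508016) (.leaf 111003765))) (.node (.node (.leaf 267961930) (.leaf 79810600)) (.node (.leaf 137265202) (.leaf 207437874)))))) (.node (.node (.node (.node (.node (.leaf 190374054) (.leaf 17367088)) (.node (.leaf 329912874) (.leaf 197333716))) (.node (.node (.leaf 120455217) (.leaf 110215216))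 (.node (.leaf 301717141) (.leaf 47551200)))) (.node (.node (.node (.leaf 293865181) (.leaf 13883736)) (.node (.leaf 240795696) (.leaf 300023856))) (.node (.node (.leaf 41500720) (.leaf 83680746)) (.node (.leaf 266505744) (.leaf 244700832))))) (.node (.node (.node (.node (.leaf 55132209) (.leaf 12992560)) (.node (.leaf 92307506) (.leaf 217120818))) (.node (.node (.leaf 5668912) (.leaf 200638514)) (.node (.leaf 303988786) (.leaf 227123502)))) (.node (.node (.node (.leaf 362334801) (.leaf 222400053)) (.node (.leaf 49728450) (.leaf 82697977))) (.node (.node (.leaf 344768561) (.leaf 232128562)) (.node (.leaf 148029490) (.leaf 47534045)))))))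

/-- A Schreier factor, part 441. -/
def facCodePart441 : Janko1.Tree ℕ := (.node (.node (.node (.node (.node (.node (.leaf 157453330) (.leaf 299948990)) (.node (.leaf 201900082) (.leaf 282053605))) (.node (.node (.leaf 15319088) (.leaf 262099300)) (.node (.leaf 368872852) (.leaf 297795632)))) (.node (.node (.node (.leaf 307494960) (.leaf 279789616)) (.node (.leaf 254181424) (.leaf 51707952))) (.node (.node (.leaf 315671542) (.leaf 264306736)) (.node (.leaf 97763376) (.leaf 111034416))))) (.node (.node (.node (.node (.leaf 167511689) (.leaf 227318076)) (.node (.leaf 140907468) (.leaf 50790448))) (.node (.node (.leaf 205373490) (.leaf 17404362)) (.node (.leaf 339662064) (.leaf 190496786)))) (.node (.node (.node (.leaf 128620532) (.leaf 216989746)) (.node (.leaf 31805850) (.leaf 110235381))) (.node (.node (.leaf 294944940) (.leaf 205881394)) (.node (.leaf 302858288) (.leaf 232263393)))))) (.node (.node (.node (.node (.node (.leaf 277107521) (.leaf 17385977)) (.node (.leaf 57737264) (.leaf 222265394))) (.node (.node (.leaf 259817521) (.leaf 78943342))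 (.node (.leaf 301695026) (.leaf 79790193)))) (.node (.node (.node (.leaf 322895920) (.leaf 111362096)) (.node (.leaf 290707322) (.leaf 80101424))) (.node (.node (.leaf 255721521) (.leaf 298041392)) (.node (.leaf 206197832) (.leaf 51971657))))) (.node (.node (.node (.node (.leaf 273465393) (.leaf 18579504)) (.node (.leaf 67665969) (.leaf 128778994))) (.node (.node (.leaf 331120690) (.leaf 77414450)) (.node (.leaf 130831957) (.leaf 50485582)))) (.node (.node (.node (.leaf 372741172) (.leaf 91111462)) (.node (.leaf 371966000) (.leaf 122537220))) (.node (.node (.leaf 319537201) (.leaf 71532594)) (.node (.leaf 4981557) (.leaf 264589541)))))))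

/-- A Schreier factor, part 442. -/
def facCodePart442 : Janko1.Tree ℕ := (.node (.node (.node (.node (.node (.node (.leaf 173998129) (.leaf 247041605)) (.node (.leaf 72959761) (.leaf 80123206))) (.node (.node (.leaf 257397646) (.leaf 298074214)) (.node (.leaf 38633522) (.leaf 280084528)))) (.node (.node (.node (.leaf 102449885) (.leaf 52019248)) (.node (.leaf 293035606) (.leaf 18628656))) (.node (.node (.leaf 313019573) (.leaf 47848890)) (.node (.leaf 163957544) (.leaf 38329474))))) (.node (.node (.node (.node (.leaf 137678320) (.leaf 77286752)) (.node (.leaf 259460406) (.leaf 46550070))) (.node (.node (.leaf 42715934) (.leaf 12669098)) (.node (.leaf 106201138) (.leaf 97097654)))) (.node (.node (.node (.leaf 295159178) (.leaf 128946257)) (.node (.leaf 297451569) (.leaf 44417073))) (.node (.node (.leaf 313753648) (.leaf 71417906)) (.node (.leaf 135659570) (.leaf 115416853)))))) (.node (.node (.node (.node (.node (.leaf 47120433) (.leaf 84017200)) (.node (.leaf 188710962) (.leaf 244910816))) (.node (.node (.leaf 328777930) (.leaf 47875418))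 (.node (.leaf 78938161) (.leaf 14191645)))) (.node (.node (.node (.leaf 110362673) (.leaf 300269616)) (.node (.leaf 364298290) (.leaf 282411056))) (.node (.node (.leaf 329547824) (.leaf 63130392)) (.node (.leaf 347296281) (.leaf 148722788))))) (.node (.node (.node (.node (.leaf 342802480) (.leaf 162319572)) (.node (.leaf 216127402) (.leaf 130766065))) (.node (.node (.leaf 236191792) (.leaf 172645933)) (.node (.leaf 156311589) (.leaf 34035452)))) (.node (.node (.node (.leaf 125127648) (.leaf 290971873)) (.node (.leaf 105021489) (.leaf 95731760))) (.node (.node (.leaf 5947441) (.leaf 34963504)) (.node (.leaf 352124976) (.leaf 290939168)))))))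

/-- A Schreier factor, part 443. -/
def facCodePart443 : Janko1.Tree ℕ := (.node (.node (.node (.node (.node (.node (.leaf 338822114) (.leaf 273224584)) (.node (.leaf 143069929) (.leaf 253182780))) (.node (.node (.leaf 229742760) (.leaf 306579260)) (.node (.leaf 149667888) (.leaf 34930736)))) (.node (.node (.node (.leaf 202410592) (.leaf 63115068)) (.node (.leaf 192240486) (.leaf 170825582))) (.node (.node (.leaf 92799026) (.leaf 140574770)) (.node (.leaf 96820008) (.leaf 33947696))))) (.node (.node (.node (.node (.leaf 343097392) (.leaf 159244712)) (.node (.leaf 361029064) (.leaf 34099093))) (.node (.node (.leaf 329859120) (.leaf 130729268)) (.node (.leaf 347553840) (.leaf 145391666)))) (.node (.node (.node (.leaf 216367152) (.leaf 63176752)) (.node (.leaf 185630769) (.leaf 306614660))) (.node (.node (.leaf 208977969) (.leaf 131907632)) (.node (.leaf 31719474) (.leaf 273161201)))))) (.node (.node (.node (.node (.node (.leaf 334250637) (.leaf 131875500)) (.node (.leaf 229495849) (.leaf 273111581))) (.node (.node (.leaf 149389360) (.leaf 95715376))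 (.node (.leaf 223002672) (.leaf 64012336)))) (.node (.node (.node (.leaf 142737456) (.leaf 291012656)) (.node (.leaf 117015510) (.leaf 154042418))) (.node (.node (.leaf 19678238) (.leaf 143753266)) (.node (.leaf 273717440) (.leaf 290982830))))) (.node (.node (.node (.node (.leaf 101630000) (.leaf 131956784)) (.node (.leaf 1644129) (.leaf 253198917))) (.node (.node (.leaf 125321385) (.leaf 306593840)) (.node (.leaf 110595882) (.leaf 150601778)))) (.node (.node (.node (.leaf 91111473) (.leaf 164085810)) (.node (.leaf 122765361) (.leaf 94961712))) (.node (.node (.leaf 12454238) (.leaf 130749012)) (.node (.leaf 12604574) (.leaf 134449437)))))))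

/-- A Schreier factor, part 444. -/
def facCodePart444 : Janko1.Tree ℕ := (.node (.node (.node (.node (.node (.node (.leaf 25760568) (.leaf 34016930)) (.node (.leaf 11829944) (.leaf 139025029))) (.node (.node (.leaf 117604400) (.leaf 179142706)) (.node (.leaf 20877890) (.leaf 33971436)))) (.node (.node (.node (.leaf 217563185) (.leaf 290914352)) (.node (.leaf 207556976) (.leaf 273211653))) (.node (.node (.leaf 52888674) (.leaf 306564896)) (.node (.leaf 84806333) (.leaf 34914352))))) (.node (.node (.node (.node (.leaf 269672070) (.leaf 306631132)) (.node (.leaf 287048344) (.leaf 35064577))) (.node (.node (.leaf 256368960) (.leaf 131924062)) (.node (.leaf 125605665) (.leaf 273177937)))) (.node (.node (.node (.leaf 1966128) (.leaf 291061808)) (.node (.leaf 227576656) (.leaf 34082664))) (.node (.node (.leaf 197575197) (.leaf 130712461)) (.node (.leaf 36346406) (.leaf 63160368)))))) (.node (.node (.node (.node (.node (.leaf 69075597) (.leaf 137723954)) (.node (.leaf 264706352) (.leaf 165827309))) (.node (.node (.leaf 260266170) (.leaf 130699226))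 (.node (.leaf 20615253) (.leaf 94945328)))) (.node (.node (.node (.leaf 109168124) (.leaf 63143984)) (.node (.leaf 11518000) (.leaf 142153082))) (.node (.node (.leaf 131433224) (.leaf 35012656)) (.node (.leaf 71424389) (.leaf 131858480))))) (.node (.node (.node (.node (.leaf 12491354) (.leaf 63998352)) (.node (.leaf 2824914) (.leaf 291002573))) (.node (.node (.leaf 270778417) (.leaf 308746746)) (.node (.leaf 242057265) (.leaf 255807526)))) (.node (.node (.node (.leaf 289128497) (.leaf 271256644)) (.node (.leaf 185270322) (.leaf 2621489))) (.node (.node (.leaf 237913548) (.leaf 65749622)) (.node (.leaf 182258625) (.leaf 15435392)))))))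

/-- A Schreier factor, part 445. -/
def facCodePart445 : Janko1.Tree ℕ := (.node (.node (.node (.node (.node (.node (.leaf 235264917) (.leaf 44515378)) (.node (.leaf 326320178) (.leaf 14958642))) (.node (.node (.leaf 324141106) (.leaf 28215826)) (.node (.leaf 321494182) (.leaf 10027057)))) (.node (.node (.node (.leaf 339640369) (.leaf 59473970)) (.node (.leaf 314851377) (.leaf 8439322))) (.node (.node (.leaf 68862002) (.leaf 255868976)) (.node (.leaf 132399154) (.leaf 127762480))))) (.node (.node (.node (.node (.leaf 252936242) (.leaf 99932161)) (.node (.leaf 255246386) (.leaf 289003950))) (.node (.node (.leaf 310270676) (.leaf 289021974)) (.node (.leaf 328499249) (.leaf 68223024)))) (.node (.node (.node (.leaf 326189105) (.leaf 99794992)) (.node (.leaf 344014897) (.leaf 271204400))) (.node (.node (.leaf 364649333) (.leaf 255709160)) (.node (.leaf 346922038) (.leaf 127696944)))))) (.node (.node (.node (.node (.node (.leaf 362598356) (.leaf 308838448)) (.node (.leaf 68918008) (.leaf 10977777))) (.node (.node (.leaf 252905206) (.leaf 10059826))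 (.node (.leaf 246337341) (.leaf 3538994)))) (.node (.node (.node (.leaf 263931468) (.leaf 27574321)) (.node (.leaf 300271724) (.leaf 26132530))) (.node (.node (.leaf 302596145) (.leaf 2637874)) (.node (.leaf 284611449) (.leaf 43047169))))) (.node (.node (.node (.node (.leaf 237933470) (.leaf 271242925)) (.node (.leaf 324108338) (.leaf 255755412))) (.node (.node (.leaf 343020298) (.leaf 63227373)) (.node (.leaf 216191184) (.leaf 30657854)))) (.node (.node (.node (.leaf 276698529) (.leaf 273383577)) (.node (.leaf 236290096) (.leaf 255524912))) (.node (.node (.leaf 269713457) (.leaf 132104240)) (.node (.leaf 329504564) (.leaf 99619758)))))))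

/-- A Schreier factor, part 446. -/
def facCodePart446 : Janko1.Tree ℕ := (.node (.node (.node (.node (.node (.node (.leaf 258343312) (.leaf 306667690)) (.node (.leaf 269571776) (.leaf 64052798))) (.node (.node (.leaf 271892530) (.leaf 273334320)) (.node (.leaf 29496593) (.leaf 132091166)))) (.node (.node (.node (.leaf 33603634) (.leaf 306646896)) (.node (.leaf 218857521) (.leaf 288768048))) (.node (.node (.leaf 223367669) (.leaf 29823665)) (.node (.leaf 229834800) (.leaf 170695182))))) (.node (.node (.node (.node (.leaf 334399516) (.leaf 98767460)) (.node (.leaf 331907121) (.leaf 154288178))) (.node (.node (.leaf 338739248) (.leaf 180846642)) (.node (.leaf 65290290) (.leaf 159137842)))) (.node (.node (.node (.leaf 33638736) (.leaf 148626021)) (.node (.leaf 212123697) (.leaf 175800370))) (.node (.node (.leaf 235475365) (.leaf 29884464)) (.node (.leaf 345636913) (.leaf 306714322)))))) (.node (.node (.node (.node (.node (.leaf 236559882) (.leaf 288817200)) (.node (.leaf 327107812) (.leaf 273301552))) (.node (.node (.leaf 342835249) (.leaf 64061609))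 (.node (.leaf 340983858) (.leaf 306692144)))) (.node (.node (.node (.leaf 343031858) (.leaf 132005936)) (.node (.leaf 153868482) (.leaf 273268784))) (.node (.node (.leaf 281182257) (.leaf 140722226)) (.node (.leaf 283410481) (.leaf 130793520))))) (.node (.node (.node (.node (.leaf 338499626) (.leaf 184123442)) (.node (.leaf 264978772) (.leaf 63248809))) (.node (.node (.leaf 334171800) (.leaf 29872009)) (.node (.leaf 12508836) (.leaf 30674126)))) (.node (.node (.node (.leaf 25706545) (.leaf 255541296)) (.node (.leaf 14324560) (.leaf 132120624))) (.node (.node (.leaf 122535985) (.leaf 288786958)) (.node (.leaf 279674929) (.leaf 63209520)))))))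

/-- A Schreier factor, part 447. -/
def facCodePart447 : Janko1.Tree ℕ := (.node (.node (.node (.node (.node (.node (.leaf 101711920) (.leaf 29851696)) (.node (.leaf 261411381) (.leaf 130893153))) (.node (.node (.leaf 256016432) (.leaf 98828336)) (.node (.leaf 268257877) (.leaf 147166301)))) (.node (.node (.node (.leaf 269353008) (.leaf 174163257)) (.node (.leaf 335217749) (.leaf 63193136))) (.node (.node (.leaf 44531760) (.leaf 29840056)) (.node (.leaf 52792021) (.leaf 169007724))))) (.node (.node (.node (.node (.leaf 144834961) (.leaf 130883592)) (.node (.leaf 217284657) (.leaf 98783620))) (.node (.node (.leaf 349257777) (.leaf 64028720)) (.node (.leaf 117653552) (.leaf 255500072)))) (.node (.node (.node (.leaf 331057464) (.leaf 132074686)) (.node (.leaf 264904066) (.leaf 288755642))) (.node (.node (.leaf 61014469) (.leaf 288839450)) (.node (.leaf 227431080) (.leaf 255459376)))))) (.node (.node (.node (.node (.node (.leaf 144788198) (.leaf 64084154)) (.node (.leaf 125688686) (.leaf 160809010))) (.node (.node (.leaf 353820490) (.leaf 130850512))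 (.node (.leaf 269582384) (.leaf 177291314)))) (.node (.node (.node (.leaf 335577137) (.leaf 63275056)) (.node (.leaf 33800241) (.leaf 165765314))) (.node (.node (.leaf 261357618) (.leaf 130809904)) (.node (.leaf 2703409) (.leaf 98680880))))) (.node (.node (.node (.node (.leaf 131006513) (.leaf 182337586)) (.node (.leaf 14352434) (.leaf 63258672))) (.node (.node (.leaf 290816049) (.leaf 306675760)) (.node (.leaf 117358640) (.leaf 288802700)))) (.node (.node (.node (.leaf 275431473) (.leaf 131989552)) (.node (.leaf 264668646) (.leaf 255430426))) (.node (.node (.leaf 63444580) (.leaf 308904892)) (.node (.leaf 379919690) (.leaf 291261194)))))))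

/-- A Schreier factor, part 448. -/
def facCodePart448 : Janko1.Tree ℕ := (.node (.node (.node (.node (.node (.node (.leaf 42753030) (.leaf 127813728)) (.node (.leaf 377421874) (.leaf 96092208))) (.node (.node (.leaf 95469617) (.leaf 271335472)) (.node (.leaf 75685714) (.leaf 68306873)))) (.node (.node (.node (.leaf 208715826) (.leaf 35295525)) (.node (.leaf 136667581) (.leaf 32133552))) (.node (.node (.leaf 306876565) (.leaf 65691552)) (.node (.leaf 156258273) (.leaf 10355144))))) (.node (.node (.node (.node (.leaf 295878705) (.leaf 44469560)) (.node (.leaf 253165617) (.leaf 44908594))) (.node (.node (.leaf 360817036) (.leaf 31510638)) (.node (.leaf 96536448) (.leaf 38702128)))) (.node (.node (.node (.leaf 100319924) (.leaf 33792137)) (.node (.leaf 369296374) (.leaf 96125762))) (.node (.node (.leaf 130781538) (.leaf 68390597)) (.node (.leaf 308502861) (.leaf 35356720)))))) (.node (.node (.node (.node (.node (.leaf 126468146) (.leaf 271286320)) (.node (.leaf 306331698) (.leaf 253526064))) (.node (.node (.leaf 187436528) (.leaf 127778864)) (.node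 (.leaf 210833761) (.leaf 309009957)))) (.node (.node (.node (.leaf 96525577) (.leaf 291323952)) (.node (.leaf 364692792) (.leaf 33816624))) (.node (.node (.leaf 380420145) (.leaf 61296925)) (.node (.leaf 347624885) (.leaf 15665089))))) (.node (.node (.node (.node (.leaf 379961394) (.leaf 55148594)) (.node (.leaf 87506993) (.leaf 8667186))) (.node (.node (.leaf 211959858) (.leaf 42958898)) (.node (.leaf 149279082) (.leaf 68452400)))) (.node (.node (.node (.leaf 300352362) (.leaf 35411940)) (.node (.leaf 302631388) (.leaf 253567010))) (.node (.node (.leaf 356483120) (.leaf 127797509)) (.node (.leaf 246550992) (.leaf 96075824)))))))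

/-- A Schreier factor, part 449. -/
def facCodePart449 : Janko1.Tree ℕ := (.node (.node (.node (.node (.node (.node (.leaf 325402674) (.leaf 34832432)) (.node (.leaf 323210996) (.leaf 211025969))) (.node (.node (.leaf 73220145) (.leaf 99270704)) (.node (.leaf 61857005) (.leaf 210993201)))) (.node (.node (.node (.leaf 180412032) (.leaf 143999025)) (.node (.leaf 41354617) (.leaf 30463664))) (.node (.node (.leaf 258916401) (.leaf 252805168)) (.node (.leaf 287080497) (.leaf 96209314))))) (.node (.node (.node (.node (.leaf 311444905) (.leaf 255164464)) (.node (.leaf 325191153) (.leaf 31117662))) (.node (.node (.leaf 92685829) (.leaf 287950458)) (.node (.leaf 96716740) (.leaf 100077800)))) (.node (.node (.node (.leaf 62734386) (.leaf 96190512)) (.node (.leaf 176062513) (.leaf 255131696))) (.node (.node (.leaf 339132465) (.leaf 34783280)) (.node (.leaf 196362288) (.leaf 136347697)))))) (.node (.node (.node (.node (.node (.leaf 332453602) (.leaf 202735665)) (.node (.leaf 203243568) (.leaf 99237936))) (.node (.node (.leaf 356421638) (.leaf 95361542))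 (.node (.leaf 254168654) (.leaf 157368369)))) (.node (.node (.node (.leaf 159253370) (.leaf 99193301)) (.node (.leaf 62701618) (.leaf 34897968))) (.node (.node (.leaf 182517809) (.leaf 157401137)) (.node (.leaf 327779018) (.leaf 290411934))))) (.node (.node (.node (.node (.leaf 343506993) (.leaf 96182049)) (.node (.leaf 345050228) (.leaf 252762801))) (.node (.node (.leaf 325387941) (.leaf 100030705)) (.node (.leaf 360792113) (.leaf 35782704)))) (.node (.node (.node (.leaf 323174450) (.leaf 290373680)) (.node (.leaf 325419058) (.leaf 96157744))) (.node (.node (.leaf 85000241) (.leaf 255066160)) (.node (.leaf 49315889) (.leaf 99991600)))))))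

/-- A Schreier factor, part 450. -/
def facCodePart450 : Janko1.Tree ℕ := (.node (.node (.node (.node (.node (.node (.leaf 183730226) (.leaf 35766320)) (.node (.leaf 202981424) (.leaf 30478089))) (.node (.node (.leaf 265626005) (.leaf 95338544)) (.node (.leaf 196009462) (.leaf 189202481)))) (.node (.node (.node (.leaf 320405552) (.leaf 99123248)) (.node (.leaf 316083830) (.leaf 148963377))) (.node (.node (.leaf 243990578) (.leaf 35737970)) (.node (.leaf 262192) (.leaf 287970052))))) (.node (.node (.node (.node (.leaf 47894165) (.leaf 96223916)) (.node (.leaf 47054897) (.leaf 255180848))) (.node (.node (.leaf 52087610) (.leaf 290324528)) (.node (.leaf 70050101) (.leaf 142380368)))) (.node (.node (.node (.leaf 268885088) (.leaf 209293642)) (.node (.leaf 93706029) (.leaf 99259108))) (.node (.node (.leaf 285704241) (.leaf 142360625)) (.node (.leaf 251658288) (.leaf 30441520)))))) (.node (.node (.node (.node (.node (.leaf 10585493) (.leaf 137988121)) (.node (.leaf 314983781) (.leaf 204423217))) (.node (.node (.leaf 171933746) (.leaf 95372612)) (.node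 (.leaf 168394802) (.leaf 137953329)))) (.node (.node (.node (.leaf 181174992) (.leaf 30425136)) (.node (.leaf 331651538) (.leaf 35701558))) (.node (.node (.leaf 78037040) (.leaf 287932464)) (.node (.leaf 342556721) (.leaf 252788784))))) (.node (.node (.node (.node (.leaf 247578672) (.leaf 31096880)) (.node (.leaf 606256) (.leaf 255098928))) (.node (.node (.leaf 168414594) (.leaf 252776946)) (.node (.leaf 174456881) (.leaf 100040752)))) (.node (.node (.node (.leaf 171900978) (.leaf 35805086)) (.node (.leaf 171343921) (.leaf 288003790))) (.node (.node (.leaf 338320372) (.leaf 156017066)) (.node (.leaf 94050638) (.leaf 30513344)))))))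

/-- A Schreier factor, part 451. -/
def facCodePart451 : Janko1.Tree ℕ := (.node (.node (.node (.node (.node (.node (.leaf 70303792) (.leaf 195870769)) (.node (.leaf 353289370) (.leaf 34881584))) (.node (.node (.leaf 19382320) (.leaf 30490672)) (.node (.leaf 10193289) (.leaf 190892610)))) (.node (.node (.node (.leaf 52035634) (.leaf 190922801)) (.node (.leaf 67551281) (.leaf 99139632))) (.node (.node (.leaf 273318226) (.leaf 290357296)) (.node (.leaf 85737520) (.leaf 31129648))))) (.node (.node (.node (.node (.leaf 257561426) (.leaf 96145928)) (.node (.leaf 290329072) (.leaf 252744402))) (.node (.node (.leaf 274825265) (.leaf 35751164)) (.node (.leaf 242925616) (.leaf 287986048)))) (.node (.node (.node (.leaf 362137894) (.leaf 306102320)) (.node (.leaf 238162413) (.leaf 272930977))) (.node (.node (.leaf 8754634) (.leaf 308117552)) (.node (.leaf 162810989) (.leaf 67403824)))))) (.node (.node (.node (.node (.node (.leaf 182818256) (.leaf 91226161)) (.node (.leaf 306315313) (.leaf 91193393))) (.node (.node (.leaf 288374834) (.leaf 15646769)) (.node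 (.leaf 290652210) (.leaf 131075017)))) (.node (.node (.node (.leaf 128338146) (.leaf 97061280)) (.node (.leaf 140611404) (.leaf 15630385))) (.node (.node (.leaf 132677682) (.leaf 63569968)) (.node (.leaf 169803824) (.leaf 68812848))))) (.node (.node (.node (.node (.leaf 176455728) (.leaf 270779061)) (.node (.leaf 315627640) (.leaf 132289108))) (.node (.node (.leaf 370100613) (.leaf 128190025)) (.node (.leaf 375078961) (.leaf 273006640)))) (.node (.node (.node (.leaf 374276144) (.leaf 308150320)) (.node (.leaf 368640049) (.leaf 64962608))) (.node (.node (.leaf 34275378) (.leaf 308174778)) (.node (.leaf 290686750) (.leaf 64983002)))))))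

/-- A Schreier factor, part 452. -/
def facCodePart452 : Janko1.Tree ℕ := (.node (.node (.node (.node (.node (.node (.leaf 29951590) (.leaf 128127146)) (.node (.leaf 288343186) (.leaf 272826416))) (.node (.node (.leaf 134512978) (.leaf 270729680)) (.node (.leaf 157081142) (.leaf 68867477)))) (.node (.node (.node (.leaf 128309132) (.leaf 306137341)) (.node (.leaf 310902833) (.leaf 63602736))) (.node (.node (.leaf 365649238) (.leaf 67469360)) (.node (.leaf 379389696) (.leaf 26230833))))) (.node (.node (.node (.node (.leaf 114147377) (.leaf 32081086)) (.node (.leaf 360054834) (.leaf 63623000))) (.node (.node (.leaf 118181206) (.leaf 126633898)) (.node (.leaf 17847514) (.leaf 81248305)))) (.node (.node (.node (.leaf 235377873) (.leaf 130990128)) (.node (.leaf 247038001) (.leaf 65029741))) (.node (.node (.leaf 169564508) (.leaf 128155696)) (.node (.leaf 299876401) (.leaf 132186160)))))) (.node (.node (.node (.node (.node (.leaf 306233393) (.leaf 68943920)) (.node (.leaf 365346864) (.leaf 35966122))) (.node (.node (.leaf 311541808) (.leaf 306167856))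 (.node (.leaf 288555057) (.leaf 288342064)))) (.node (.node (.node (.leaf 325258088) (.leaf 132402810)) (.node (.leaf 277397553) (.leaf 100319280))) (.node (.node (.leaf 271401009) (.leaf 255377456)) (.node (.leaf 182913141) (.leaf 290635824))))) (.node (.node (.node (.node (.leaf 158633429) (.leaf 67506422)) (.node (.leaf 63788368) (.leaf 34542782))) (.node (.node (.leaf 212009010) (.leaf 43024433)) (.node (.leaf 155500594) (.leaf 122667057)))) (.node (.node (.node (.leaf 43081821) (.leaf 122756880)) (.node (.leaf 208815977) (.leaf 98947544))) (.node (.node (.leaf 94928945) (.leaf 95158320)) (.node (.leaf 379653732) (.leaf 122716209)))))))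

/-- A Schreier factor, part 453. -/
def facCodePart453 : Janko1.Tree ℕ := (.node (.node (.node (.node (.node (.node (.leaf 377308538) (.leaf 30233249)) (.node (.leaf 316391472) (.leaf 48988209))) (.node (.node (.leaf 357744689) (.leaf 49037361)) (.node (.leaf 368574513) (.leaf 128909361)))) (.node (.node (.node (.leaf 322047532) (.leaf 126769565)) (.node (.leaf 196269893) (.leaf 128892977))) (.node (.node (.leaf 340213809) (.leaf 128991281)) (.node (.leaf 176521264) (.leaf 49020977))))) (.node (.node (.node (.node (.leaf 177258545) (.leaf 35995696)) (.node (.leaf 35897394) (.leaf 270876720))) (.node (.node (.leaf 167272764) (.leaf 253166750)) (.node (.leaf 100483404) (.leaf 100359570)))) (.node (.node (.node (.leaf 270745650) (.leaf 128227344)) (.node (.leaf 126353458) (.leaf 273088560))) (.node (.node (.leaf 272924722) (.leaf 308266901)) (.node (.leaf 130467466) (.leaf 65067041)))))) (.node (.node (.node (.node (.node (.leaf 378308421) (.leaf 290655628)) (.node (.leaf 346341425) (.leaf 31440944))) (.node (.node (.leaf 365543472) (.leaf 96518192))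 (.node (.leaf 362102833) (.leaf 255311920)))) (.node (.node (.node (.leaf 310673457) (.leaf 270794800)) (.node (.leaf 326684638) (.leaf 68993072))) (.node (.node (.leaf 163102768) (.leaf 36028464)) (.node (.leaf 189665201) (.leaf 306205546))))) (.node (.node (.node (.node (.leaf 35913778) (.leaf 59326513)) (.node (.leaf 134610993) (.leaf 63668272))) (.node (.node (.leaf 157209546) (.leaf 106676273)) (.node (.leaf 272991505) (.leaf 106698985)))) (.node (.node (.node (.leaf 130498610) (.leaf 131144921)) (.node (.leaf 270729266) (.leaf 67587168))) (.node (.node (.leaf 63364138) (.leaf 34619440)) (.node (.leaf 126320690) (.leaf 59359281)))))))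

/-- A Schreier factor, part 454. -/
def facCodePart454 : Janko1.Tree ℕ := (.node (.node (.node (.node (.node (.node (.leaf 306173562) (.leaf 59408433)) (.node (.leaf 320457738) (.leaf 63685740))) (.node (.node (.leaf 281935921) (.leaf 30265361)) (.node (.leaf 302029044) (.leaf 126715357)))) (.node (.node (.node (.leaf 284085656) (.leaf 112722924)) (.node (.leaf 202852272) (.leaf 131178125))) (.node (.node (.leaf 264519729) (.leaf 98877488)) (.node (.leaf 169631176) (.leaf 34653285))))) (.node (.node (.node (.node (.leaf 17963086) (.leaf 65099066)) (.node (.leaf 158664820) (.leaf 128205761))) (.node (.node (.leaf 342179890) (.leaf 270827568)) (.node (.leaf 82739249) (.leaf 253132848)))) (.node (.node (.node (.leaf 114384992) (.leaf 132350000)) (.node (.leaf 377279049) (.leaf 100302896))) (.node (.node (.leaf 118444937) (.leaf 306233384)) (.node (.leaf 379682866) (.leaf 288407600)))))) (.node (.node (.node (.node (.node (.leaf 248433889) (.leaf 167780522)) (.node (.leaf 283959416) (.leaf 353635592))) (.node (.node (.leaf 25828737) (.leaf 317440790))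 (.node (.leaf 90972440) (.leaf 221219678)))) (.node (.node (.node (.leaf 217076524) (.leaf 197991132)) (.node (.leaf 60866610) (.leaf 369246256))) (.node (.node (.leaf 124043397) (.leaf 144162864)) (.node (.leaf 203391024) (.leaf 2998322))))) (.node (.node (.node (.node (.leaf 176578869) (.leaf 43255234)) (.node (.leaf 330666806) (.leaf 59203861))) (.node (.node (.leaf 369967152) (.leaf 42637506)) (.node (.leaf 12768408) (.leaf 10420274)))) (.node (.node (.node (.leaf 122912817) (.leaf 11229045)) (.node (.leaf 91553841) (.leaf 48646888))) (.node (.node (.leaf 280117297) (.leaf 167739440)) (.node (.leaf 162943636) (.leaf 221168782)))))))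

/-- A Schreier factor, part 455. -/
def facCodePart455 : Janko1.Tree ℕ := (.node (.node (.node (.node (.node (.node (.leaf 325042224) (.leaf 197902384)) (.node (.leaf 378015304) (.leaf 333580592))) (.node (.node (.leaf 268490017) (.leaf 369221565)) (.node (.leaf 250873692) (.leaf 144135081)))) (.node (.node (.node (.leaf 67190833) (.leaf 171409456)) (.node (.leaf 358028385) (.leaf 315347818))) (.node (.node (.leaf 175692933) (.leaf 335730282)) (.node (.leaf 309019914) (.leaf 25841878))))) (.node (.node (.node (.node (.leaf 203115566) (.leaf 8224818)) (.node (.leaf 21667630) (.leaf 15210322))) (.node (.node (.leaf 227254164) (.leaf 15695922)) (.node (.leaf 200785969) (.leaf 44778665)))) (.node (.node (.node (.leaf 120012850) (.leaf 32276530)) (.node (.leaf 189792304) (.leaf 351486000))) (.node (.node (.leaf 163169838) (.leaf 171360696)) (.node (.leaf 371277873) (.leaf 315326512)))))) (.node (.node (.node (.node (.node (.leaf 378290224) (.leaf 371218774)) (.node (.leaf 312557618) (.leaf 168121208))) (.node (.node (.leaf 348602418) (.leaf 353894448))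 (.node (.leaf 10428848) (.leaf 317702192)))) (.node (.node (.node (.leaf 230801457) (.leaf 198311984)) (.node (.leaf 204472369) (.leaf 333860860))) (.node (.node (.leaf 86163504) (.leaf 2982564)) (.node (.leaf 351666225) (.leaf 182620112))))) (.node (.node (.node (.node (.leaf 321883954) (.leaf 152453170)) (.node (.leaf 2628824) (.leaf 10392725))) (.node (.node (.leaf 241778738) (.leaf 177554329)) (.node (.leaf 40009778) (.leaf 92735565)))) (.node (.node (.node (.leaf 103694386) (.leaf 147210290)) (.node (.leaf 75504333) (.leaf 10518577))) (.node (.node (.leaf 288653361) (.leaf 168149040)) (.node (.leaf 306642993) (.leaf 353943600)))))))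

/-- A Schreier factor, part 456. -/
def facCodePart456 : Janko1.Tree ℕ := (.node (.node (.node (.node (.node (.node (.leaf 70189104) (.leaf 317767728)) (.node (.leaf 259080241) (.leaf 369410096))) (.node (.node (.leaf 44105778) (.leaf 336003120)) (.node (.leaf 107549404) (.leaf 194729985)))) (.node (.node (.node (.leaf 118579484) (.leaf 141263216)) (.node (.leaf 87214569) (.leaf 371431978))) (.node (.node (.leaf 282091622) (.leaf 179404850)) (.node (.leaf 300154929) (.leaf 21659697))))) (.node (.node (.node (.node (.leaf 265797681) (.leaf 21725402)) (.node (.leaf 310287938) (.leaf 174460880))) (.node (.node (.leaf 346177586) (.leaf 27852849)) (.node (.leaf 214145122) (.leaf 137830690)))) (.node (.node (.node (.leaf 165317830) (.leaf 27908222)) (.node (.leaf 218235398) (.leaf 150835845))) (.node (.node (.leaf 37437488) (.leaf 171655216)) (.node (.leaf 362659889) (.leaf 225005800)))))) (.node (.node (.node (.node (.node (.leaf 328618294) (.leaf 336058285)) (.node (.leaf 310547778) (.leaf 194740272))) (.node (.node (.leaf 251854896) (.leaf 141286254))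 (.node (.leaf 305251753) (.leaf 371478497)))) (.node (.node (.node (.leaf 320624829) (.leaf 167877217)) (.node (.leaf 312574689) (.leaf 141083304))) (.node (.node (.leaf 342016748) (.leaf 221331504)) (.node (.leaf 369885918) (.leaf 194568004))))) (.node (.node (.node (.node (.leaf 176685104) (.leaf 315441200)) (.node (.leaf 217145578) (.leaf 43171890))) (.node (.node (.leaf 27510045) (.leaf 59529696)) (.node (.leaf 122457348) (.leaf 42549298)))) (.node (.node (.node (.leaf 377921185) (.leaf 49239325)) (.node (.leaf 311349960) (.leaf 32194610))) (.node (.node (.leaf 250789937) (.leaf 65814578)) (.node (.leaf 297997450) (.leaf 65323058)))))))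

/-- A Schreier factor, part 457. -/
def facCodePart457 : Janko1.Tree ℕ := (.node (.node (.node (.node (.node (.node (.leaf 286654513) (.leaf 15138866)) (.node (.leaf 79511601) (.leaf 167845916))) (.node (.node (.leaf 152133100) (.leaf 141052542)) (.node (.leaf 201965618) (.leaf 221282352)))) (.node (.node (.node (.leaf 122996040) (.leaf 194543664)) (.node (.leaf 59080753) (.leaf 369311792))) (.node (.node (.leaf 337779665) (.leaf 351535152)) (.node (.leaf 239797586) (.leaf 198069005))))) (.node (.node (.node (.node (.leaf 308598633) (.leaf 317506229)) (.node (.leaf 99221553) (.leaf 22503460))) (.node (.node (.leaf 148521262) (.leaf 55509042)) (.node (.leaf 205455410) (.leaf 3735602)))) (.node (.node (.node (.leaf 34250057) (.leaf 38556465)) (.node (.leaf 38502449) (.leaf 21710453))) (.node (.node (.leaf 339887786) (.leaf 54886450)) (.node (.leaf 311672880) (.leaf 28475442)))))) (.node (.node (.node (.node (.node (.leaf 319127601) (.leaf 61738922)) (.node (.leaf 335364145) (.leaf 11141170))) (.node (.node (.leaf 209895472) (.leaf 27888373))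 (.node (.leaf 371114017) (.leaf 60997682)))) (.node (.node (.node (.leaf 92397906) (.leaf 171448924)) (.node (.leaf 227328818) (.leaf 144202200))) (.node (.node (.leaf 23609394) (.leaf 198033456)) (.node (.leaf 118428574) (.leaf 353671300))))) (.node (.node (.node (.node (.leaf 247521354) (.leaf 168198192)) (.node (.leaf 321863729) (.leaf 141303792))) (.node (.node (.leaf 78151728) (.leaf 369492016)) (.node (.leaf 191617758) (.leaf 142444677)))) (.node (.node (.node (.leaf 230866993) (.leaf 169443378)) (.node (.leaf 19595684) (.leaf 118163492))) (.node (.node (.leaf 364101682) (.leaf 38404145)) (.node (.leaf 108223970) (.leaf 38486065)))))))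

/-- A Schreier factor, part 458. -/
def facCodePart458 : Janko1.Tree ℕ := (.node (.node (.node (.node (.node (.node (.leaf 304931212) (.leaf 164368480)) (.node (.leaf 238420016) (.leaf 150754676))) (.node (.node (.leaf 277582708) (.leaf 44539933)) (.node (.leaf 95027793) (.leaf 168231194)))) (.node (.node (.node (.leaf 4915532) (.leaf 141328432)) (.node (.leaf 292814898) (.leaf 333938736))) (.node (.node (.leaf 134812) (.leaf 369529514)) (.node (.leaf 259129394) (.leaf 351820394))))) (.node (.node (.node (.node (.leaf 296009776) (.leaf 144444142)) (.node (.leaf 248152113) (.leaf 198367662))) (.node (.node (.leaf 77859704) (.leaf 336101424)) (.node (.leaf 284252772) (.leaf 371497212)))) (.node (.node (.node (.leaf 54003378) (.leaf 353976368)) (.node (.leaf 82939174) (.leaf 152756184))) (.node (.node (.leaf 72419048) (.leaf 139283462)) (.node (.leaf 17124906) (.leaf 102504150)))))) (.node (.node (.node (.node (.node (.leaf 19240062) (.leaf 54927332)) (.node (.leaf 310493233) (.leaf 174374962))) (.node (.node (.leaf 344326193) (.leaf 134758450))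 (.node (.leaf 347101464) (.leaf 108199985)))) (.node (.node (.node (.leaf 94097481) (.leaf 61014065)) (.node (.leaf 188210298) (.leaf 171753520))) (.node (.node (.leaf 214178473) (.leaf 144490544)) (.node (.leaf 491568) (.leaf 336134192))))) (.node (.node (.node (.node (.leaf 328302642) (.leaf 317833264)) (.node (.leaf 366379058) (.leaf 371556400))) (.node (.node (.leaf 356800356) (.leaf 144867376)) (.node (.leaf 348618801) (.leaf 350732336)))) (.node (.node (.node (.leaf 142917680) (.leaf 353029692)) (.node (.leaf 137774892) (.leaf 142187596))) (.node (.node (.leaf 180731933) (.leaf 209061882)) (.node (.leaf 21791873) (.leaf 194108578)))))))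

/-- A Schreier factor, part 459. -/
def facCodePart459 : Janko1.Tree ℕ := (.node (.node (.node (.node (.node (.node (.leaf 283806308) (.leaf 209043505)) (.node (.leaf 250904626) (.leaf 142166052))) (.node (.node (.leaf 90800178) (.leaf 167583057)) (.node (.leaf 342949936) (.leaf 137756721)))) (.node (.node (.node (.leaf 347422768) (.leaf 204177457)) (.node (.leaf 156192204) (.leaf 194091752))) (.node (.node (.leaf 251366122) (.leaf 137745418)) (.node (.leaf 175489074) (.leaf 333054000))))) (.node (.node (.node (.node (.leaf 26460209) (.leaf 225105953)) (.node (.leaf 321998768) (.leaf 221680590))) (.node (.node (.leaf 110346289) (.leaf 335314992)) (.node (.leaf 90740709) (.leaf 352960560)))) (.node (.node (.node (.leaf 142622768) (.leaf 314971338)) (.node (.leaf 273648065) (.leaf 198513153))) (.node (.node (.leaf 240375461) (.leaf 172088828)) (.node (.leaf 67829809) (.leaf 155861041)))))) (.node (.node (.node (.node (.node (.leaf 3915825) (.leaf 195641393)) (.node (.leaf 319488050) (.leaf 195657777))) (.node (.node (.leaf 71112542) (.leaf 144038678))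 (.node (.leaf 357842994) (.leaf 155877425)))) (.node (.node (.node (.leaf 347709129) (.leaf 150569009)) (.node (.leaf 355401777) (.leaf 140902448))) (.node (.node (.leaf 343310384) (.leaf 190611505)) (.node (.leaf 319701041) (.leaf 190628982))))) (.node (.node (.node (.node (.leaf 216236080) (.leaf 224329776)) (.node (.leaf 156441590) (.leaf 144015408))) (.node (.node (.leaf 335890257) (.leaf 150585393)) (.node (.leaf 170721394) (.leaf 194871344)))) (.node (.node (.node (.leaf 120127538) (.leaf 317017960)) (.node (.leaf 283066416) (.leaf 145162288))) (.node (.node (.leaf 357974065) (.leaf 350981550)) (.node (.leaf 368740733) (.leaf 333405908)))))))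

/-- A Schreier factor, part 460. -/
def facCodePart460 : Janko1.Tree ℕ := (.node (.node (.node (.node (.node (.node (.leaf 322371633) (.leaf 221970480)) (.node (.leaf 117424176) (.leaf 335626288))) (.node (.node (.leaf 11698224) (.leaf 353239576)) (.node (.leaf 334020657) (.leaf 141872329)))) (.node (.node (.node (.leaf 165124486) (.leaf 170869189)) (.node (.leaf 150904016) (.leaf 8899714))) (.node (.node (.leaf 215040050) (.leaf 197217608)) (.node (.leaf 348438629) (.leaf 91471921))))) (.node (.node (.node (.node (.leaf 310427698) (.leaf 8863793)) (.node (.leaf 44777520) (.leaf 167362608))) (.node (.node (.leaf 269522508) (.leaf 15898185)) (.node (.leaf 277020721) (.leaf 197263408)))) (.node (.node (.node (.leaf 242354592) (.leaf 15883626)) (.node (.leaf 63488049) (.leaf 145211440))) (.node (.node (.leaf 103874610) (.leaf 351011412)) (.node (.leaf 43974706) (.leaf 333447216)))))) (.node (.node (.node (.node (.node (.leaf 239681586) (.leaf 222003248)) (.node (.leaf 7847986) (.leaf 353288240))) (.node (.node (.leaf 299384881) (.leaf 370933808))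 (.node (.leaf 282756604) (.leaf 195088314)))) (.node (.node (.node (.leaf 11452464) (.leaf 315230213)) (.node (.leaf 117063806) (.leaf 368787504))) (.node (.node (.leaf 50945982) (.leaf 26378289)) (.node (.leaf 22190900) (.leaf 75726897))))) (.node (.node (.node (.node (.leaf 241926194) (.leaf 75743281)) (.node (.leaf 2834482) (.leaf 143720496))) (.node (.node (.leaf 274120752) (.leaf 32292913)) (.node (.leaf 269844528) (.leaf 81501750)))) (.node (.node (.node (.leaf 311006357) (.leaf 81517829)) (.node (.leaf 134807601) (.leaf 168837168))) (.node (.node (.leaf 184369862) (.leaf 195100720)) (.node (.leaf 218366002) (.leaf 317341744)))))))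

/-- A Schreier factor, part 461. -/
def facCodePart461 : Janko1.Tree ℕ := (.node (.node (.node (.node (.node (.node (.leaf 69176330) (.leaf 315249736)) (.node (.leaf 312713084) (.leaf 172349246))) (.node (.node (.leaf 61247117) (.leaf 368820272)) (.node (.leaf 23478322) (.leaf 194992637)))) (.node (.node (.node (.leaf 164139978) (.leaf 317100657)) (.node (.leaf 149475984) (.leaf 171329906))) (.node (.node (.leaf 331288646) (.leaf 144098320)) (.node (.leaf 313196593) (.leaf 169116168))))) (.node (.node (.node (.node (.leaf 352321584) (.leaf 169099313)) (.node (.leaf 359797068) (.leaf 169198154))) (.node (.node (.leaf 377126961) (.leaf 167673904)) (.node (.leaf 110254605) (.leaf 171282021)))) (.node (.node (.node (.leaf 202096690) (.leaf 167661690)) (.node (.leaf 59703345) (.leaf 140935216))) (.node (.node (.leaf 136530106) (.leaf 333121074)) (.node (.leaf 269077860) (.leaf 315072937)))))) (.node (.node (.node (.node (.node (.leaf 216006704) (.leaf 198543758)) (.node (.leaf 297634097) (.leaf 335387640))) (.node (.node (.leaf 342868016) (.leaf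 317063216)) (.node (.leaf 130629641) (.leaf 370786352)))) (.node (.node (.node (.leaf 98779185) (.leaf 141721648)) (.node (.leaf 3692160) (.leaf 172146736))) (.node (.node (.leaf 151929130) (.leaf 144935814)) (.node (.leaf 205609768) (.leaf 368576692))))) (.node (.node (.node (.node (.leaf 149061680) (.leaf 220827072)) (.node (.leaf 257759968) (.leaf 194166832))) (.node (.node (.leaf 352095642) (.leaf 222367248)) (.node (.leaf 334331952) (.leaf 197564530)))) (.node (.node (.node (.leaf 55041798) (.leaf 220810113)) (.node (.leaf 266340204) (.leaf 194150448))) (.node (.node (.leaf 301960637) (.leaf 217104433)) (.node (.leaf 92520498) (.leaf 224416480)))))))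

/-- A Schreier factor, part 462. -/
def facCodePart462 : Janko1.Tree ℕ := (.node (.node (.node (.node (.node (.node (.leaf 174147241) (.leaf 197526886)) (.node (.leaf 136790064) (.leaf 370704432))) (.node (.node (.leaf 319787762) (.leaf 168558737)) (.node (.leaf 361242205) (.leaf 172113968)))) (.node (.node (.node (.leaf 370851889) (.leaf 368525360)) (.node (.leaf 77135920) (.leaf 333485536))) (.node (.node (.leaf 328539440) (.leaf 315293744)) (.node (.leaf 20676656) (.leaf 170950704))))) (.node (.node (.node (.node (.leaf 117489712) (.leaf 43237425)) (.node (.leaf 278511664) (.leaf 43139121))) (.node (.node (.leaf 369016881) (.leaf 167411760)) (.node (.leaf 260639106) (.leaf 140648174)))) (.node (.node (.node (.leaf 38273074) (.leaf 170983472)) (.node (.leaf 8394734) (.leaf 49207552))) (.node (.node (.leaf 42926442) (.leaf 140656688)) (.node (.leaf 1400526) (.leaf 333513816)))))) (.node (.node (.node (.node (.node (.leaf 286987228) (.leaf 222090792)) (.node (.leaf 288030769) (.leaf 195264560))) (.node (.node (.leaf 269469290) (.leaf 317390896))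 (.node (.leaf 294862898) (.leaf 168902704)))) (.node (.node (.node (.leaf 21970993) (.leaf 172359728)) (.node (.leaf 72613938) (.leaf 368853040))) (.node (.node (.leaf 55198957) (.leaf 351148264)) (.node (.leaf 20369894) (.leaf 220446768))))) (.node (.node (.node (.node (.leaf 248729953) (.leaf 106889445)) (.node (.leaf 299648453) (.leaf 224070410))) (.node (.node (.leaf 260333930) (.leaf 197300918)) (.node (.leaf 92913712) (.leaf 220468260)))) (.node (.node (.node (.leaf 330910340) (.leaf 193888304)) (.node (.leaf 61163400) (.leaf 112954633))) (.node (.node (.leaf 134692913) (.leaf 112869425)) (.node (.leaf 135417752) (.leaf 112969342)))))))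

/-- A Schreier factor, part 463. -/
def facCodePart463 : Janko1.Tree ℕ := (.node (.node (.node (.node (.node (.node (.leaf 188383282) (.leaf 224100400)) (.node (.leaf 1736752) (.leaf 370999344))) (.node (.node (.leaf 17138041) (.leaf 158269488)) (.node (.leaf 12716608) (.leaf 323862576)))) (.node (.node (.node (.leaf 52576306) (.leaf 235084488)) (.node (.leaf 48431154) (.leaf 379289648))) (.node (.node (.leaf 111886386) (.leaf 155160024)) (.node (.leaf 346738425) (.leaf 155779121))))) (.node (.node (.node (.node (.leaf 364731552) (.leaf 211125277)) (.node (.leaf 318246532) (.leaf 207683632))) (.node (.node (.leaf 371919252) (.leaf 155762737)) (.node (.leaf 315195442) (.leaf 184223382)))) (.node (.node (.node (.leaf 317177906) (.leaf 150487089)) (.node (.leaf 353353778) (.leaf 211075120))) (.node (.node (.leaf 118865969) (.leaf 207667248)) (.node (.leaf 87556145) (.leaf 150454321)))))) (.node (.node (.node (.node (.node (.leaf 159744048) (.leaf 237584432)) (.node (.leaf 248496177) (.leaf 326162448))) (.node (.node (.leaf 317227058) (.leaf 379420720))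 (.node (.leaf 106848644) (.leaf 323821113)))) (.node (.node (.node (.leaf 127074353) (.leaf 158369770)) (.node (.leaf 95518769) (.leaf 377080796))) (.node (.node (.leaf 199739980) (.leaf 207619158)) (.node (.leaf 173136620) (.leaf 142051094))))) (.node (.node (.node (.node (.leaf 12681266) (.leaf 204005822)) (.node (.leaf 48414770) (.leaf 137625649))) (.node (.node (.leaf 52628286) (.leaf 184303664)) (.node (.leaf 351357648) (.leaf 379338800)))) (.node (.node (.node (.leaf 375652490) (.leaf 326110158)) (.node (.leaf 363282480) (.leaf 237519933))) (.node (.node (.leaf 322994957) (.leaf 158320321)) (.node (.leaf 23887920) (.leaf 158629936)))))))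

/-- A Schreier factor, part 464. -/
def facCodePart464 : Janko1.Tree ℕ := (.node (.node (.node (.node (.node (.node (.leaf 15079281) (.leaf 324108776)) (.node (.leaf 112328752) (.leaf 238108720))) (.node (.node (.leaf 234916634) (.leaf 326418480)) (.node (.leaf 237305906) (.leaf 155470877)))) (.node (.node (.node (.leaf 371559897) (.leaf 75563057)) (.node (.leaf 249448530) (.leaf 207379088))) (.node (.node (.leaf 303005744) (.leaf 26312753)) (.node (.leaf 298680368) (.leaf 180601705))))) (.node (.node (.node (.node (.leaf 255033394) (.leaf 184008752)) (.node (.leaf 290603058) (.leaf 81322350))) (.node (.node (.leaf 102809649) (.leaf 207397152)) (.node (.leaf 131219505) (.leaf 81297457)))) (.node (.node (.node (.leaf 97656829) (.leaf 158680438)) (.node (.leaf 74235952) (.leaf 324163908))) (.node (.node (.leaf 257000190) (.leaf 235310144)) (.node (.leaf 255148081) (.leaf 155489352)))))) (.node (.node (.node (.node (.node (.leaf 252694713) (.leaf 379863088)) (.node (.leaf 290578021) (.leaf 326320774))) (.node (.node (.leaf 91261637) (.leaf 238047197))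 (.node (.leaf 110510366) (.leaf 158728240)))) (.node (.node (.node (.leaf 79446065) (.leaf 377359345)) (.node (.leaf 81772592) (.leaf 91297457))) (.node (.node (.leaf 49528880) (.leaf 180633648)) (.node (.leaf 89653296) (.leaf 207339568))))) (.node (.node (.node (.node (.leaf 57835568) (.leaf 8732721)) (.node (.leaf 268179105) (.leaf 8765489))) (.node (.node (.leaf 250527793) (.leaf 210731056)) (.node (.leaf 261390385) (.leaf 184074288)))) (.node (.node (.node (.leaf 5799984) (.leaf 97140785)) (.node (.leaf 104284208) (.leaf 180658372))) (.node (.node (.leaf 31604784) (.leaf 207355952)) (.node (.leaf 128516144) (.leaf 15777841)))))))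

/-- A Schreier factor, part 465. -/
def facCodePart465 : Janko1.Tree ℕ := (.node (.node (.node (.node (.node (.node (.leaf 185223649) (.leaf 15794225)) (.node (.leaf 237277432) (.leaf 210753342))) (.node (.node (.leaf 182026290) (.leaf 184107056)) (.node (.leaf 234930245) (.leaf 97164254)))) (.node (.node (.node (.leaf 349373348) (.leaf 235274288)) (.node (.leaf 367247409) (.leaf 326385712))) (.node (.node (.leaf 240877616) (.leaf 324091952)) (.node (.leaf 294100886) (.leaf 238092336))))) (.node (.node (.node (.node (.leaf 253984816) (.leaf 158764054)) (.node (.leaf 210608157) (.leaf 184422886))) (.node (.node (.leaf 114335925) (.leaf 182361798)) (.node (.leaf 297538217) (.leaf 180977712)))) (.node (.node (.node (.leaf 322682928) (.leaf 184369200)) (.node (.leaf 246421613) (.leaf 177324680))) (.node (.node (.leaf 282515742) (.leaf 180961328)) (.node (.leaf 195149874) (.leaf 377094192)))))) (.node (.node (.node (.node (.node (.leaf 118964273) (.leaf 359874608)) (.node (.leaf 198710456) (.leaf 237715504))) (.node (.node (.leaf 114933809) (.leaf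 211915581)) (.node (.leaf 333332530) (.leaf 208568368)))) (.node (.node (.node (.leaf 335495218) (.leaf 362010214)) (.node (.leaf 318067322) (.leaf 235094064))) (.node (.node (.leaf 277956633) (.leaf 237682736)) (.node (.leaf 288997425) (.leaf 377143344))))) (.node (.node (.node (.node (.leaf 173195312) (.leaf 359972912)) (.node (.leaf 106928877) (.leaf 154402864))) (.node (.node (.leaf 195117106) (.leaf 168973756)) (.node (.leaf 127172657) (.leaf 169053086)))) (.node (.node (.node (.leaf 42631217) (.leaf 168984625)) (.node (.leaf 335531048) (.leaf 169069652))) (.node (.node (.leaf 63225905) (.leaf 184486628)) (.node (.leaf 333109474) (.leaf 181026864)))))))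

/-- A Schreier factor, part 466. -/
def facCodePart466 : Janko1.Tree ℕ := (.node (.node (.node (.node (.node (.node (.leaf 339722289) (.leaf 163971121)) (.node (.leaf 376147650) (.leaf 164057158))) (.node (.node (.leaf 186585846) (.leaf 164005182)) (.node (.leaf 369098801) (.leaf 164069425)))) (.node (.node (.node (.leaf 375488561) (.leaf 157302832)) (.node (.leaf 193839153) (.leaf 379519024))) (.node (.node (.leaf 14647985) (.leaf 362056726)) (.node (.leaf 19140962) (.leaf 208539574))))) (.node (.node (.node (.node (.leaf 114360853) (.leaf 359923760)) (.node (.leaf 337974998) (.leaf 238223408))) (.node (.node (.leaf 298598448) (.leaf 212025392)) (.node (.leaf 89858076) (.leaf 235372592)))) (.node (.node (.node (.leaf 81969200) (.leaf 379912240)) (.node (.leaf 155402290) (.leaf 156926000))) (.node (.node (.leaf 200884273) (.leaf 59508572)) (.node (.leaf 112251388) (.leaf 154077113)))))) (.node (.node (.node (.node (.node (.leaf 239517745) (.leaf 156975152)) (.node (.leaf 240685041) (.leaf 65781809))) (.node (.node (.leaf 255017009) (.leaf 65863729))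 (.node (.leaf 275579502) (.leaf 65770754)))) (.node (.node (.node (.leaf 291062385) (.leaf 180699814)) (.node (.leaf 96141362) (.leaf 238272560))) (.node (.node (.leaf 131334193) (.leaf 212058160)) (.node (.leaf 270421412) (.leaf 362299440))))) (.node (.node (.node (.node (.leaf 249249840) (.leaf 235323440)) (.node (.leaf 286411902) (.leaf 238157872))) (.node (.node (.leaf 49578032) (.leaf 212009177)) (.node (.leaf 96174130) (.leaf 180731952)))) (.node (.node (.node (.leaf 122690676) (.leaf 154107952)) (.node (.leaf 272744498) (.leaf 157040688))) (.node (.node (.leaf 294045717) (.leaf 154126966)) (.node (.leaf 377723588) (.leaf 49159574)))))))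

/-- A Schreier factor, part 467. -/
def facCodePart467 : Janko1.Tree ℕ := (.node (.node (.node (.node (.node (.node (.leaf 97898481) (.leaf 184196061)) (.node (.leaf 367026473) (.leaf 157092264))) (.node (.node (.leaf 158406812) (.leaf 362397744)) (.node (.leaf 190730397) (.leaf 235356589)))) (.node (.node (.node (.leaf 155443398) (.leaf 208802477)) (.node (.leaf 128434224) (.leaf 360235056))) (.node (.node (.leaf 379018924) (.leaf 181403696)) (.node (.leaf 332234800) (.leaf 234324016))))) (.node (.node (.node (.node (.leaf 146210864) (.leaf 211288112)) (.node (.leaf 344621105) (.leaf 324599856))) (.node (.node (.leaf 329170993) (.leaf 157794352)) (.node (.leaf 115966040) (.leaf 91504690)))) (.node (.node (.node (.leaf 283937336) (.leaf 97321010)) (.node (.leaf 248963196) (.leaf 112512882))) (.node (.node (.leaf 232657969) (.leaf 108855346)) (.node (.leaf 246897754) (.leaf 125108274)))))) (.node (.node (.node (.node (.node (.leaf 212680752) (.leaf 128589262)) (.node (.leaf 168725121) (.leaf 181357677))) (.node (.node (.leaf 22495281) (.leaf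 380026928)) (.node (.leaf 172245042) (.leaf 344506416)))) (.node (.node (.node (.leaf 18041874) (.leaf 234308869)) (.node (.leaf 86793449) (.leaf 211222576))) (.node (.node (.leaf 351060018) (.leaf 324589546)) (.node (.leaf 82678890) (.leaf 360253985))))) (.node (.node (.node (.node (.leaf 353222706) (.leaf 157728816)) (.node (.leaf 349738025) (.leaf 360321226))) (.node (.node (.leaf 288440369) (.leaf 324567088)) (.node (.leaf 219333774) (.leaf 234296494)))) (.node (.node (.node (.leaf 253558833) (.leaf 181436464)) (.node (.leaf 226033712) (.leaf 380125232))) (.node (.node (.leaf 168706098) (.leaf 122503218)) (.node (.leaf 30523441) (.leaf 118915122)))))))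

/-- A Schreier factor, part 468. -/
def facCodePart468 : Janko1.Tree ℕ := (.node (.node (.node (.node (.node (.node (.leaf 75010453) (.leaf 91344869)) (.node (.leaf 353271858) (.leaf 86933554))) (.node (.node (.leaf 351029817) (.leaf 75710704)) (.node (.leaf 327548976) (.leaf 112345138)))) (.node (.node (.node (.leaf 374931505) (.leaf 128732369)) (.node (.leaf 341246000) (.leaf 124960818))) (.node (.node (.leaf 133627952) (.leaf 97206322)) (.node (.leaf 153132982) (.leaf 76941684))))) (.node (.node (.node (.node (.leaf 167283546) (.leaf 360284208)) (.node (.leaf 111984690) (.leaf 157843504))) (.node (.node (.leaf 177342886) (.leaf 211161240)) (.node (.leaf 244400178) (.leaf 344424496)))) (.node (.node (.node (.leaf 246530098) (.leaf 181427218)) (.node (.leaf 267469192) (.leaf 380551216))) (.node (.node (.leaf 336281649) (.leaf 324878384)) (.node (.leaf 16351280) (.leaf 360513584)))))) (.node (.node (.node (.node (.node (.leaf 174342193) (.leaf 195788850)) (.node (.leaf 324042802) (.leaf 21860265))) (.node (.node (.leaf 57016368) (.leaf 219172685))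 (.node (.leaf 48783341) (.leaf 71290390)))) (.node (.node (.node (.leaf 276152368) (.leaf 190759617)) (.node (.leaf 240107569) (.leaf 28000305))) (.node (.node (.leaf 255547041) (.leaf 227626772)) (.node (.leaf 3628404) (.leaf 380583980))))) (.node (.node (.node (.node (.leaf 290406450) (.leaf 324927536)) (.node (.leaf 287939982) (.leaf 158056496))) (.node (.node (.leaf 285868081) (.leaf 158089264)) (.node (.leaf 244564017) (.leaf 181649456)))) (.node (.node (.node (.leaf 68720834) (.leaf 3244081)) (.node (.leaf 29656286) (.leaf 209210797))) (.node (.node (.leaf 33898546) (.leaf 86884401)) (.node (.leaf 290364885) (.leaf 195888557)))))))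

/-- A Schreier factor, part 469. -/
def facCodePart469 : Janko1.Tree ℕ := (.node (.node (.node (.node (.node (.node (.leaf 366542897) (.leaf 10666033)) (.node (.leaf 7045168) (.leaf 204341298))) (.node (.node (.leaf 342707277) (.leaf 10616881)) (.node (.leaf 237518898) (.leaf 158171184)))) (.node (.node (.node (.leaf 50708530) (.leaf 181475101)) (.node (.leaf 263962674) (.leaf 154763312))) (.node (.node (.leaf 297387881) (.leaf 234422320)) (.node (.leaf 110231602) (.leaf 207965984))))) (.node (.node (.node (.node (.leaf 361906225) (.leaf 106397746)) (.node (.leaf 336823404) (.leaf 103023478))) (.node (.node (.leaf 346134468) (.leaf 118997042)) (.node (.leaf 364216369) (.leaf 90849330)))) (.node (.node (.node (.leaf 332190252) (.leaf 122261449)) (.node (.leaf 195362866) (.leaf 77611058))) (.node (.node (.leaf 55512373) (.leaf 108762608)) (.node (.leaf 145034957) (.leaf 125030352)))))) (.node (.node (.node (.node (.node (.leaf 51314737) (.leaf 128483378)) (.node (.leaf 152865433) (.leaf 181452848))) (.node (.node (.leaf 266682417) (.leaf 154714160))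 (.node (.leaf 249038502) (.leaf 380141616)))) (.node (.node (.node (.leaf 232751152) (.leaf 362421384)) (.node (.leaf 133337222) (.leaf 344641558))) (.node (.node (.leaf 246988849) (.leaf 234373168)) (.node (.leaf 212746288) (.leaf 207913008))))) (.node (.node (.node (.node (.leaf 145063986) (.leaf 326729776)) (.node (.leaf 43175418) (.leaf 207897902))) (.node (.node (.leaf 30310449) (.leaf 181502000)) (.node (.leaf 141852722) (.leaf 154812464)))) (.node (.node (.node (.leaf 259988864) (.leaf 103137330)) (.node (.leaf 242700784) (.leaf 75089460))) (.node (.node (.leaf 219406124) (.leaf 106250880)) (.node (.leaf 271237169) (.leaf 122437682)))))))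

/-- A Schreier factor, part 470. -/
def facCodePart470 : Janko1.Tree ℕ := (.node (.node (.node (.node (.node (.node (.leaf 226115632) (.leaf 118839609)) (.node (.leaf 261799986) (.leaf 108904498))) (.node (.node (.leaf 297369650) (.leaf 80887858)) (.node (.leaf 110222976) (.leaf 112279602)))) (.node (.node (.node (.leaf 299728946) (.leaf 93438002)) (.node (.leaf 368673593) (.leaf 234340400))) (.node (.node (.leaf 327467056) (.leaf 207880240)) (.node (.leaf 359127526) (.leaf 181485616))))) (.node (.node (.node (.node (.leaf 357565004) (.leaf 154779696)) (.node (.leaf 341154158) (.leaf 362446896))) (.node (.node (.leaf 376979506) (.leaf 380682288)) (.node (.leaf 56934448) (.leaf 362615785)))) (.node (.node (.node (.leaf 285098032) (.leaf 55001137)) (.node (.leaf 355680305) (.leaf 232578478))) (.node (.node (.leaf 35635250) (.leaf 61194289)) (.node (.leaf 100237362) (.leaf 187669828)))))) (.node (.node (.node (.node (.node (.leaf 38834782) (.leaf 214127953)) (.node (.leaf 34445245) (.leaf 201150560))) (.node (.node (.leaf 31014962) (.leaf 227508274))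 (.node (.leaf 96321586) (.leaf 108380209)))) (.node (.node (.node (.leaf 129453709) (.leaf 362697685)) (.node (.leaf 31031985) (.leaf 326915800))) (.node (.node (.leaf 13123633) (.leaf 181732554)) (.node (.leaf 47038513) (.leaf 362709040))))) (.node (.node (.node (.node (.leaf 16047346) (.leaf 192585064)) (.node (.leaf 268795953) (.leaf 219250738))) (.node (.node (.leaf 251166769) (.leaf 118292529)) (.node (.leaf 113122896) (.leaf 118375232)))) (.node (.node (.node (.leaf 24641588) (.leaf 38590857)) (.node (.leaf 121208880) (.leaf 232462442))) (.node (.node (.leaf 73291862) (.leaf 187761240)) (.node (.leaf 344064050) (.leaf 214237234)))))))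

/-- A Schreier factor, part 471. -/
def facCodePart471 : Janko1.Tree ℕ := (.node (.node (.node (.node (.node (.node (.leaf 40700664) (.leaf 124557833)) (.node (.leaf 96845872) (.leaf 44711985))) (.node (.node (.leaf 342035522) (.leaf 44813394)) (.node (.leaf 65306672) (.leaf 227445261)))) (.node (.node (.node (.leaf 360087601) (.leaf 326942768)) (.node (.leaf 289554480) (.leaf 181766313))) (.node (.node (.leaf 348766257) (.leaf 155129960)) (.node (.leaf 272023600) (.leaf 362774576))))) (.node (.node (.node (.node (.leaf 118882354) (.leaf 157827120)) (.node (.leaf 269243553) (.leaf 211324133))) (.node (.node (.leaf 229153810) (.leaf 207868168)) (.node (.leaf 148832304) (.leaf 344555568)))) (.node (.node (.node (.leaf 26853426) (.leaf 154665008)) (.node (.leaf 165052465) (.leaf 91488306))) (.node (.node (.leaf 316758748) (.leaf 102686005)) (.node (.leaf 191105866) (.leaf 71636665)))))) (.node (.node (.node (.node (.node (.leaf 170559998) (.leaf 87514154)) (.node (.leaf 197173254) (.leaf 122341289))) (.node (.node (.leaf 205070278) (.leaf 112500849))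 (.node (.leaf 151355442) (.leaf 77535862)))) (.node (.node (.node (.leaf 215498800) (.leaf 93519922)) (.node (.leaf 378511388) (.leaf 157745200))) (.node (.node (.leaf 325587004) (.leaf 377438789)) (.node (.leaf 60725821) (.leaf 211263432))))) (.node (.node (.node (.node (.leaf 183582768) (.leaf 207815277)) (.node (.leaf 123738930) (.leaf 380062693))) (.node (.node (.leaf 91947057) (.leaf 154619548)) (.node (.leaf 338427954) (.leaf 154697776)))) (.node (.node (.node (.leaf 230819410) (.leaf 207806641)) (.node (.leaf 201528273) (.leaf 342380982))) (.node (.node (.leaf 147800716) (.leaf 211212736)) (.node (.leaf 228851760) (.leaf 157859888)))))))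

/-- A Schreier factor, part 472. -/
def facCodePart472 : Janko1.Tree ℕ := (.node (.node (.node (.node (.node (.node (.leaf 316479408) (.leaf 106315826)) (.node (.leaf 5226545) (.leaf 122470450))) (.node (.node (.leaf 170283230) (.leaf 91308082)) (.node (.leaf 196870392) (.leaf 118439986)))) (.node (.node (.node (.leaf 103645233) (.leaf 102563890)) (.node (.leaf 72237105) (.leaf 75677746))) (.node (.node (.leaf 266960946) (.leaf 93330478)) (.node (.leaf 88014898) (.leaf 108336264))))) (.node (.node (.node (.node (.leaf 23011401) (.leaf 81479620)) (.node (.leaf 175164332) (.leaf 154687918))) (.node (.node (.leaf 378798128) (.leaf 207771734)) (.node (.leaf 210485296) (.leaf 377454640)))) (.node (.node (.node (.leaf 217055282) (.leaf 158011765)) (.node (.leaf 364532154) (.leaf 342629456))) (.node (.node (.leaf 116834441) (.leaf 208115834)) (.node (.leaf 151997974) (.leaf 75221376)))))) (.node (.node (.node (.node (.node (.leaf 178589280) (.leaf 209355568)) (.node (.leaf 46383152) (.leaf 206078002))) (.node (.node (.leaf 106520344) (.leaf 190726194))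 (.node (.leaf 42917126) (.leaf 31792098)))) (.node (.node (.node (.leaf 101010320) (.leaf 201064498)) (.node (.leaf 737328) (.leaf 80986161))) (.node (.node (.leaf 43931652) (.leaf 211521218)) (.node (.leaf 94509754) (.leaf 344834096))))) (.node (.node (.node (.node (.leaf 295338805) (.leaf 380619022)) (.node (.leaf 259850290) (.leaf 154992688))) (.node (.node (.leaf 116510585) (.leaf 158122032)) (.node (.leaf 19815398) (.leaf 377667632)))) (.node (.node (.node (.leaf 296635218) (.leaf 192495666)) (.node (.leaf 243286064) (.leaf 90964017))) (.node (.node (.leaf 119308337) (.leaf 90947881)) (.node (.leaf 160744450) (.leaf 96852002)))))))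

/-- A Schreier factor, part 473. -/
def facCodePart473 : Janko1.Tree ℕ := (.node (.node (.node (.node (.node (.node (.leaf 331546674) (.leaf 200890772)) (.node (.leaf 1086569) (.leaf 15289010))) (.node (.node (.leaf 138136164) (.leaf 190908096)) (.node (.leaf 135828254) (.leaf 380665904)))) (.node (.node (.node (.leaf 161895562) (.leaf 155045688)) (.node (.leaf 62918010) (.leaf 158187568))) (.node (.node (.leaf 94781488) (.leaf 377716784)) (.node (.leaf 217649765) (.leaf 377493366))))) (.node (.node (.node (.node (.leaf 207994929) (.leaf 324649008)) (.node (.leaf 370445937) (.leaf 380194546))) (.node (.node (.leaf 119554098) (.leaf 118177842)) (.node (.leaf 60162098) (.leaf 71303218)))) (.node (.node (.node (.leaf 87381432) (.leaf 75242372)) (.node (.leaf 183681072) (.leaf 92766258))) (.node (.node (.leaf 123455182) (.leaf 77191234)) (.node (.leaf 189972528) (.leaf 108412978)))))) (.node (.node (.node (.node (.node (.leaf 27381273) (.leaf 96780338)) (.node (.leaf 178232402) (.leaf 377471024))) (.node (.node (.leaf 155802564) (.leaf 360340498))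 (.node (.leaf 215400496) (.leaf 342442032)))) (.node (.node (.node (.leaf 322525170) (.leaf 344670256)) (.node (.leaf 170329653) (.leaf 380264508))) (.node (.node (.leaf 99860784) (.leaf 362499630)) (.node (.leaf 103484590) (.leaf 344621762))))) (.node (.node (.node (.node (.leaf 370147376) (.leaf 342425648)) (.node (.leaf 5120370) (.leaf 377508474))) (.node (.node (.leaf 228786224) (.leaf 90996786)) (.node (.leaf 320176178) (.leaf 87006736)))) (.node (.node (.node (.leaf 147357746) (.leaf 118342772)) (.node (.leaf 227704881) (.leaf 80878498))) (.node (.node (.leaf 190289898) (.leaf 112265628)) (.node (.leaf 197918769) (.leaf 128649318)))))))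

/-- A Schreier factor, part 474. -/
def facCodePart474 : Janko1.Tree ℕ := (.node (.node (.node (.node (.node (.node (.leaf 148115224) (.leaf 92921073)) (.node (.leaf 312231560) (.leaf 124518450))) (.node (.node (.leaf 172105386) (.leaf 108267718)) (.node (.leaf 215662640) (.leaf 380207152)))) (.node (.node (.node (.leaf 123584562) (.leaf 362463280)) (.node (.leaf 56050325) (.leaf 344588978))) (.node (.node (.leaf 86655024) (.leaf 360579120)) (.node (.leaf 151896113) (.leaf 344937060))))) (.node (.node (.node (.node (.leaf 168853553) (.leaf 362643504)) (.node (.leaf 11143092) (.leaf 59146289))) (.node (.node (.leaf 348997998) (.leaf 59182254)) (.node (.leaf 310860316) (.leaf 106382861)))) (.node (.node (.node (.leaf 134553124) (.leaf 106414129)) (.node (.leaf 95723802) (.leaf 112480354))) (.node (.node (.leaf 305419353) (.leaf 65312797)) (.node (.leaf 9625800) (.leaf 112414204)))))) (.node (.node (.node (.node (.node (.leaf 39256114) (.leaf 377733168)) (.node (.leaf 100876336) (.leaf 342704176))) (.node (.node (.leaf 240222258) (.leaf 344965168))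 (.node (.leaf 3524781) (.leaf 327008304)))) (.node (.node (.node (.leaf 75305302) (.leaf 380731440)) (.node (.leaf 83738673) (.leaf 362747648))) (.node (.node (.leaf 119078961) (.leaf 344852978)) (.node (.leaf 296550781) (.leaf 342655024))))) (.node (.node (.node (.node (.leaf 52252125) (.leaf 324947037)) (.node (.leaf 43401266) (.leaf 122395986))) (.node (.node (.leaf 10829872) (.leaf 122454065)) (.node (.leaf 103366706) (.leaf 42762289)))) (.node (.node (.node (.leaf 242474532) (.leaf 42666458)) (.node (.leaf 71434290) (.leaf 122358853))) (.node (.node (.leaf 214568040) (.leaf 128606522)) (.node (.leaf 62999993) (.leaf 48709681)))))))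

/-- A Schreier factor, part 475. -/
def facCodePart475 : Janko1.Tree ℕ := (.node (.node (.node (.node (.node (.node (.leaf 211583025) (.leaf 48791601)) (.node (.leaf 239173680) (.leaf 48775217))) (.node (.node (.leaf 185421966) (.leaf 128663601)) (.node (.leaf 101225262) (.leaf 380785720)))) (.node (.node (.node (.leaf 214418345) (.leaf 362794818)) (.node (.leaf 164528178) (.leaf 344904030))) (.node (.node (.leaf 187290338) (.leaf 342695093)) (.node (.leaf 346608018) (.leaf 324981640))))) (.node (.node (.node (.node (.leaf 223756336) (.leaf 326192952)) (.node (.leaf 191762840) (.leaf 237617200))) (.node (.node (.leaf 357441466) (.leaf 341884976)) (.node (.leaf 335167536) (.leaf 359825456)))) (.node (.node (.node (.leaf 23134534) (.leaf 192142606)) (.node (.leaf 91870718) (.leaf 152212802))) (.node (.node (.leaf 119029810) (.leaf 211095044)) (.node (.leaf 304777329) (.leaf 192202305)))))) (.node (.node (.node (.node (.node (.leaf 59506738) (.leaf 184238128)) (.node (.leaf 14014642) (.leaf 187253088))) (.node (.node (.leaf 60331877) (.leaf 146939385))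 (.node (.leaf 92569649) (.leaf 187357841)))) (.node (.node (.node (.leaf 147931186) (.leaf 208502832)) (.node (.leaf 375822460) (.leaf 237569213))) (.node (.node (.leaf 227531698) (.leaf 359815633)) (.node (.leaf 338296882) (.leaf 158203952))))) (.node (.node (.node (.node (.leaf 223413136) (.leaf 359858224)) (.node (.leaf 149782576) (.leaf 341857428))) (.node (.node (.leaf 132220281) (.leaf 208488905)) (.node (.leaf 72879840) (.leaf 181837658)))) (.node (.node (.node (.leaf 357056560) (.leaf 379387952)) (.node (.leaf 195631448) (.leaf 184323524))) (.node (.node (.leaf 175996976) (.leaf 211042352)) (.node (.leaf 151542286) (.leaf 139001905)))))))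

/-- A Schreier factor, part 476. -/
def facCodePart476 : Janko1.Tree ℕ := (.node (.node (.node (.node (.node (.node (.leaf 174267670) (.leaf 234166829)) (.node (.leaf 230981682) (.leaf 154370096))) (.node (.node (.leaf 340475954) (.leaf 205684785)) (.node (.leaf 174809106) (.leaf 200622129)))) (.node (.node (.node (.leaf 236994608) (.leaf 211009584)) (.node (.leaf 144219386) (.leaf 134437773))) (.node (.node (.leaf 343889040) (.leaf 154360328)) (.node (.leaf 162742320) (.leaf 359841840))))) (.node (.node (.node (.node (.leaf 27017266) (.leaf 158285872)) (.node (.leaf 209326276) (.leaf 341824882))) (.node (.node (.leaf 269148537) (.leaf 208470064)) (.node (.leaf 55368928) (.leaf 379306032)))) (.node (.node (.node (.leaf 109846672) (.leaf 326408644)) (.node (.leaf 141312049) (.leaf 208770653))) (.node (.node (.leaf 261292080) (.leaf 360103984)) (.node (.leaf 221921329) (.leaf 158597168)))))) (.node (.node (.node (.node (.node (.leaf 53674032) (.leaf 153984225)) (.node (.leaf 217202738) (.leaf 210804277))) (.node (.node (.leaf 331382834) (.leaf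 22307042)) (.node (.leaf 125796400) (.leaf 154000126)))) (.node (.node (.node (.leaf 43567821) (.leaf 28385694)) (.node (.leaf 2130110) (.leaf 233901342))) (.node (.node (.leaf 127879234) (.leaf 28311601)) (.node (.leaf 76480894) (.leaf 77580076))))) (.node (.node (.node (.node (.leaf 71909426) (.leaf 182075440)) (.node (.leaf 93147710) (.leaf 379822310))) (.node (.node (.leaf 36806922) (.leaf 326451248)) (.node (.leaf 293313180) (.leaf 238146225)))) (.node (.node (.node (.leaf 106731590) (.leaf 360153136)) (.node (.leaf 18169905) (.leaf 158695472))) (.node (.node (.leaf 21004336) (.leaf 342049972)) (.node (.leaf 260984706) (.leaf 326310757)))))))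

/-- A Schreier factor, part 477. -/
def facCodePart477 : Janko1.Tree ℕ := (.node (.node (.node (.node (.node (.node (.leaf 115611145) (.leaf 208737385)) (.node (.leaf 75808818) (.leaf 87359537))) (.node (.node (.leaf 77381680) (.leaf 184041520)) (.node (.leaf 53387272) (.leaf 210700464)))) (.node (.node (.node (.leaf 295542430) (.leaf 3751985)) (.node (.leaf 102940722) (.leaf 154009648))) (.node (.node (.leaf 257579382) (.leaf 87302558)) (.node (.leaf 161571204) (.leaf 93346288))))) (.node (.node (.node (.node (.leaf 2326576) (.leaf 184091697)) (.node (.leaf 188629041) (.leaf 11173937))) (.node (.node (.leaf 274661424) (.leaf 233865264)) (.node (.leaf 270327868) (.leaf 154027561)))) (.node (.node (.node (.leaf 237789429) (.leaf 93259122)) (.node (.leaf 37019046) (.leaf 360185904))) (.node (.node (.leaf 134987826) (.leaf 158744624)) (.node (.leaf 93524829) (.leaf 342081584)))))) (.node (.node (.node (.node (.node (.leaf 214007858) (.leaf 326376332)) (.node (.leaf 329064277) (.leaf 208756980))) (.node (.node (.leaf 366919730) (.leaf 182124592))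 (.node (.leaf 163972608) (.leaf 379884028)))) (.node (.node (.node (.leaf 87572530) (.leaf 181862537)) (.node (.leaf 248973473) (.leaf 379473516))) (.node (.node (.leaf 208438340) (.leaf 234249365)) (.node (.leaf 181246540) (.leaf 184385584))))) (.node (.node (.node (.node (.leaf 319995954) (.leaf 234225712)) (.node (.leaf 147183529) (.leaf 207740273))) (.node (.node (.leaf 162372376) (.leaf 213863840)) (.node (.leaf 227870346) (.leaf 213909553)))) (.node (.node (.node (.leaf 175030322) (.leaf 184356356)) (.node (.leaf 112148529) (.leaf 155192613))) (.node (.node (.leaf 361518765) (.leaf 361989689)) (.node (.leaf 236720960) (.leaf 237701738)))))))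

/-- A Schreier factor, part 478. -/
def facCodePart478 : Janko1.Tree ℕ := (.node (.node (.node (.node (.node (.node (.leaf 14059969) (.leaf 211898314)) (.node (.leaf 47663860) (.leaf 341934350))) (.node (.node (.leaf 204525896) (.leaf 237666352)) (.node (.leaf 358502812) (.leaf 211865362)))) (.node (.node (.node (.leaf 175882288) (.leaf 181895216)) (.node (.leaf 231333646) (.leaf 155254832))) (.node (.node (.leaf 178339890) (.leaf 379568176)) (.node (.leaf 202489904) (.leaf 362108394))))) (.node (.node (.node (.node (.leaf 334791694) (.leaf 232102864)) (.node (.leaf 352665648) (.leaf 157327222))) (.node (.node (.leaf 223477808) (.leaf 165593137)) (.node (.leaf 35455025) (.leaf 165675057)))) (.node (.node (.node (.leaf 68242952) (.leaf 234213501)) (.node (.leaf 286638130) (.leaf 227213361))) (.node (.node (.leaf 26279986) (.leaf 157270064)) (.node (.leaf 162660400) (.leaf 160677937)))))) (.node (.node (.node (.node (.node (.leaf 123420722) (.leaf 160710705)) (.node (.leaf 189251632) (.leaf 207706390))) (.node (.node (.leaf 198524977) (.leaf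 341906564)) (.node (.leaf 361857714) (.leaf 323884249)))) (.node (.node (.node (.leaf 144268608) (.leaf 155223580)) (.node (.leaf 171376689) (.leaf 379506684))) (.node (.node (.leaf 156769010) (.leaf 362022581)) (.node (.leaf 349126865) (.leaf 155520364))))) (.node (.node (.node (.node (.leaf 137564921) (.leaf 362251685)) (.node (.leaf 53575728) (.leaf 238190640))) (.node (.node (.leaf 164692018) (.leaf 342114352)) (.node (.leaf 261259312) (.leaf 55328817)))) (.node (.node (.node (.leaf 222168480) (.leaf 55410737)) (.node (.leaf 195199025) (.leaf 233964182))) (.node (.node (.leaf 109920304) (.leaf 103011809)) (.node (.leaf 168137313) (.leaf 184158081)))))))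

/-- A Schreier factor, part 479. -/
def facCodePart479 : Janko1.Tree ℕ := (.node (.node (.node (.node (.node (.node (.leaf 242335794) (.leaf 233983930)) (.node (.leaf 8347296) (.leaf 207470640))) (.node (.node (.leaf 107006065) (.leaf 108822577)) (.node (.leaf 69588793) (.leaf 156942384)))) (.node (.node (.node (.leaf 96256049) (.leaf 379949204)) (.node (.leaf 287621168) (.leaf 362283056))) (.node (.node (.leaf 29099946) (.leaf 324241900)) (.node (.leaf 240074802) (.leaf 342103768))))) (.node (.node (.node (.node (.leaf 3342386) (.leaf 324173872)) (.node (.leaf 53303446) (.leaf 182140976))) (.node (.node (.leaf 39408174) (.leaf 379977776)) (.node (.leaf 85362686) (.leaf 362318626)))) (.node (.node (.node (.leaf 260885210) (.leaf 118800433)) (.node (.leaf 278749244) (.leaf 157007920))) (.node (.node (.leaf 18258752) (.leaf 39015222)) (.node (.leaf 51445809) (.leaf 233930800)))))) (.node (.node (.node (.node (.node (.leaf 134381618) (.leaf 157057072)) (.node (.leaf 69832833) (.leaf 207421488))) (.node (.node (.leaf 126189616) (.leaf 182190128))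 (.node (.leaf 158026257) (.leaf 155566128)))) (.node (.node (.node (.leaf 184827953) (.leaf 380010544)) (.node (.leaf 29414646) (.leaf 362387373))) (.node (.node (.leaf 262342792) (.leaf 194920877)) (.node (.leaf 13975602) (.leaf 144850992))))) (.node (.node (.node (.node (.leaf 318783536) (.leaf 139152345)) (.node (.leaf 368214064) (.leaf 205807796))) (.node (.node (.leaf 200514946) (.leaf 205897804)) (.node (.leaf 193724464) (.leaf 171216984)))) (.node (.node (.node (.leaf 220856370) (.leaf 140873772)) (.node (.leaf 167624754) (.leaf 134627377))) (.node (.node (.leaf 224362546) (.leaf 200723046)) (.node (.leaf 171180082) (.leaf 220774448)))))))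

/-- A Schreier factor, part 480. -/
def facCodePart480 : Janko1.Tree ℕ := (.node (.node (.node (.node (.node (.node (.leaf 152158256) (.leaf 200802353)) (.node (.leaf 212172848) (.leaf 134545457))) (.node (.node (.leaf 23527473) (.leaf 168493104)) (.node (.leaf 52420326) (.leaf 194906281)))) (.node (.node (.node (.leaf 119620253) (.leaf 225087457)) (.node (.leaf 87949361) (.leaf 314982448))) (.node (.node (.leaf 115589169) (.leaf 368449478)) (.node (.leaf 84049969) (.leaf 144785456))))) (.node (.node (.node (.node (.leaf 224428082) (.leaf 350787913)) (.node (.leaf 171212850) (.leaf 172048432))) (.node (.node (.leaf 167608370) (.leaf 333037616)) (.node (.leaf 225525808) (.leaf 141623344)))) (.node (.node (.node (.leaf 145395864) (.leaf 370660929)) (.node (.leaf 64831537) (.leaf 192249905))) (.node (.node (.leaf 107503208) (.leaf 192316421)) (.node (.leaf 127795249) (.leaf 167629233)))))) (.node (.node (.node (.node (.node (.leaf 297943090) (.leaf 147144753)) (.node (.leaf 300187698) (.leaf 224299368))) (.node (.node (.leaf 18432849) (.leaf 147068584))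 (.node (.leaf 363845821) (.leaf 350750613)))) (.node (.node (.node (.leaf 376782896) (.leaf 198443056)) (.node (.leaf 187170864) (.leaf 221642800))) (.node (.node (.leaf 377457594) (.leaf 168762360)) (.node (.leaf 342448444) (.leaf 353229441))))) (.node (.node (.node (.node (.leaf 380110981) (.leaf 335596598)) (.node (.leaf 344610318) (.leaf 195121837))) (.node (.node (.leaf 154599474) (.leaf 315260976)) (.node (.leaf 157634445) (.leaf 145132866)))) (.node (.node (.node (.leaf 250052656) (.leaf 3866673)) (.node (.leaf 299188272) (.leaf 87490609))) (.node (.node (.leaf 90636336) (.leaf 87588913)) (.node (.leaf 126697661) (.leaf 93503537)))))))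

/-- A Schreier factor, part 481. -/
def facCodePart481 : Janko1.Tree ℕ := (.node (.node (.node (.node (.node (.node (.leaf 63561286) (.leaf 220419854)) (.node (.leaf 128818926) (.leaf 197233577))) (.node (.node (.leaf 31850544) (.leaf 93536305)) (.node (.leaf 4868532) (.leaf 168788016)))) (.node (.node (.node (.leaf 68599857) (.leaf 195166256)) (.node (.leaf 103448682) (.leaf 225282844))) (.node (.node (.leaf 132128534) (.leaf 368779288)) (.node (.leaf 99505996) (.leaf 145178672))))) (.node (.node (.node (.node (.leaf 126713906) (.leaf 351027248)) (.node (.leaf 63578174) (.leaf 172330013))) (.node (.node (.leaf 131203122) (.leaf 198705200)) (.node (.leaf 67459797) (.leaf 333365692)))) (.node (.node (.node (.leaf 112642124) (.leaf 317259824)) (.node (.leaf 15424734) (.leaf 221909317))) (.node (.node (.leaf 27189145) (.leaf 22533946)) (.node (.leaf 47959553) (.leaf 71746482)))))) (.node (.node (.node (.node (.node (.leaf 123387953) (.leaf 71811121)) (.node (.leaf 111283256) (.leaf 167385880))) (.node (.node (.leaf 380059698) (.leaf 28508209))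 (.node (.leaf 344588338) (.leaf 143736880)))) (.node (.node (.node (.leaf 211345698) (.leaf 77676593)) (.node (.leaf 157564978) (.leaf 193822768))) (.node (.node (.leaf 294702690) (.leaf 351076360)) (.node (.leaf 307904560) (.leaf 198737968))))) (.node (.node (.node (.node (.leaf 42369072) (.leaf 317325360)) (.node (.leaf 74960094) (.leaf 221962618))) (.node (.node (.leaf 211370033) (.leaf 141675772)) (.node (.leaf 187891761) (.leaf 317083034)))) (.node (.node (.node (.leaf 372457520) (.leaf 225165360)) (.node (.leaf 368117312) (.leaf 368508976))) (.node (.node (.leaf 145670192) (.leaf 165773361)) (.node (.leaf 47710258) (.leaf 220860697)))))))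

/-- A Schreier factor, part 482. -/
def facCodePart482 : Janko1.Tree ℕ := (.node (.node (.node (.node (.node (.node (.leaf 244896624) (.leaf 171300806)) (.node (.leaf 13454945) (.leaf 144068901))) (.node (.node (.leaf 119411041) (.leaf 160765521)) (.node (.leaf 115343409) (.leaf 220839984)))) (.node (.node (.node (.leaf 186834928) (.leaf 194199600)) (.node (.leaf 23461937) (.leaf 227344433))) (.node (.node (.leaf 19038257) (.leaf 171245616)) (.node (.leaf 232152256) (.leaf 168534102))))) (.node (.node (.node (.node (.leaf 221577266) (.leaf 141641824)) (.node (.leaf 212094572) (.leaf 335347760))) (.node (.node (.leaf 197509170) (.leaf 368476208)) (.node (.leaf 353730610) (.leaf 350797872)))) (.node (.node (.node (.leaf 107253062) (.leaf 172130541)) (.node (.leaf 193331248) (.leaf 144916528))) (.node (.node (.leaf 127584742) (.leaf 333103152)) (.node (.leaf 200105030) (.leaf 315052060)))))) (.node (.node (.node (.node (.node (.leaf 314228784) (.leaf 194955202)) (.node (.leaf 31301113) (.leaf 370760204))) (.node (.node (.leaf 218794797) (.leaf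 179080665)) (.node (.leaf 224987556) (.leaf 179126321)))) (.node (.node (.node (.leaf 225495045) (.leaf 224435098)) (.node (.leaf 194186206) (.leaf 167709030))) (.node (.node (.leaf 351624153) (.leaf 140989541)) (.node (.leaf 180568112) (.leaf 224379841))))) (.node (.node (.node (.node (.leaf 363757616) (.leaf 213950686)) (.node (.leaf 376684592) (.leaf 167690288))) (.node (.node (.leaf 152591956) (.leaf 315015216)) (.node (.leaf 247021618) (.leaf 370671664)))) (.node (.node (.node (.leaf 17940530) (.leaf 353042480)) (.node (.leaf 172393221) (.leaf 198770736))) (.node (.node (.leaf 175726184) (.leaf 351092784)) (.node (.leaf 181289010) (.leaf 39063048)))))))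

/-- A Schreier factor, part 483. -/
def facCodePart483 : Janko1.Tree ℕ := (.node (.node (.node (.node (.node (.node (.leaf 24494128) (.leaf 39127510)) (.node (.leaf 15780009) (.leaf 193928700))) (.node (.node (.leaf 326746798) (.leaf 170920824)) (.node (.leaf 157123674) (.leaf 143789810)))) (.node (.node (.node (.leaf 103254596) (.leaf 45269041)) (.node (.leaf 131678257) (.leaf 220495920))) (.node (.node (.leaf 4784177) (.leaf 124993585)) (.node (.leaf 254279728) (.leaf 125075505))))) (.node (.node (.node (.node (.leaf 35624168) (.leaf 170967088)) (.node (.leaf 241327893) (.leaf 143824410))) (.node (.node (.leaf 128750069) (.leaf 168888434)) (.node (.leaf 131981584) (.leaf 141921516)))) (.node (.node (.node (.leaf 127418418) (.leaf 317374512)) (.node (.leaf 95109170) (.leaf 368836656))) (.node (.node (.leaf 288572404) (.leaf 351128738)) (.node (.leaf 82296880) (.leaf 145227824)))))) (.node (.node (.node (.node (.node (.leaf 27105560) (.leaf 222021908)) (.node (.leaf 245661744) (.leaf 195183360))) (.node (.node (.leaf 112574512) (.leaf 55525425))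 (.node (.leaf 127434802) (.leaf 55590961)))) (.node (.node (.node (.leaf 131941501) (.leaf 197282274)) (.node (.leaf 98926642) (.leaf 167445724))) (.node (.node (.leaf 67027126) (.leaf 224087589)) (.node (.leaf 294642004) (.leaf 108891250))))) (.node (.node (.node (.node (.leaf 165560369) (.leaf 140705840)) (.node (.leaf 184703578) (.leaf 172392496))) (.node (.node (.leaf 6422576) (.leaf 145260592)) (.node (.leaf 181321778) (.leaf 333463600)))) (.node (.node (.node (.leaf 226871045) (.leaf 144185832)) (.node (.leaf 157653921) (.leaf 351469616))) (.node (.node (.leaf 134928766) (.leaf 198017072)) (.node (.leaf 337396390) (.leaf 194485609)))))))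

/-- A Schreier factor, part 484. -/
def facCodePart484 : Janko1.Tree ℕ := (.node (.node (.node (.node (.node (.node (.leaf 237325600) (.leaf 317480146)) (.node (.leaf 214880664) (.leaf 141017545))) (.node (.node (.leaf 199409712) (.leaf 43221042)) (.node (.leaf 300302386) (.leaf 59162674)))) (.node (.node (.node (.leaf 47136818) (.leaf 42598450)) (.node (.leaf 56180785) (.leaf 44602210))) (.node (.node (.leaf 88506417) (.leaf 65391344)) (.node (.leaf 84660350) (.leaf 45383730))))) (.node (.node (.node (.node (.leaf 179128521) (.leaf 144153781)) (.node (.leaf 141492274) (.leaf 351420464))) (.node (.node (.leaf 159194388) (.leaf 315359280)) (.node (.leaf 144529653) (.leaf 197937045)))) (.node (.node (.node (.leaf 220971058) (.leaf 194452270)) (.node (.leaf 336109062) (.leaf 141003094))) (.node (.node (.leaf 140022932) (.leaf 167823188)) (.node (.leaf 64521816) (.leaf 221151401)))))) (.node (.node (.node (.node (.node (.leaf 350325916) (.leaf 224706608)) (.node (.leaf 354795568) (.leaf 369295408))) (.node (.node (.leaf 165774757) (.leaf 22446130))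 (.node (.leaf 172638256) (.leaf 8208434)))) (.node (.node (.node (.leaf 224516876) (.leaf 8687688)) (.node (.leaf 220938290) (.leaf 21643314))) (.node (.node (.leaf 141082673) (.leaf 31625884)) (.node (.leaf 233558284) (.leaf 15190477))))) (.node (.node (.node (.node (.leaf 341793233) (.leaf 27820082)) (.node (.leaf 231562706) (.leaf 32260264))) (.node (.node (.leaf 83941514) (.leaf 221103041)) (.node (.leaf 298128689) (.leaf 333536409)))) (.node (.node (.node (.leaf 144497392) (.leaf 351705498)) (.node (.leaf 113836080) (.leaf 315654192))) (.node (.node (.leaf 225280049) (.leaf 317734960)) (.node (.leaf 263454768) (.leaf 353910832)))))))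

/-- A Schreier factor, part 485. -/
def facCodePart485 : Janko1.Tree ℕ := (.node (.node (.node (.node (.node (.node (.leaf 207814706) (.leaf 8126513)) (.node (.leaf 89276464) (.leaf 169508914))) (.node (.node (.leaf 81461296) (.leaf 90832945)) (.node (.leaf 180617266) (.leaf 179290162)))) (.node (.node (.node (.leaf 380376705) (.leaf 166084658)) (.node (.leaf 184015317) (.leaf 8164538))) (.node (.node (.leaf 39440448) (.leaf 15106097)) (.node (.leaf 33099809) (.leaf 164413490))))) (.node (.node (.node (.node (.leaf 68173873) (.leaf 177528356)) (.node (.leaf 100220977) (.leaf 161071154))) (.node (.node (.leaf 35258418) (.leaf 351731760)) (.node (.leaf 131514418) (.leaf 194793282)))) (.node (.node (.node (.leaf 273399858) (.leaf 317784112)) (.node (.leaf 47595569) (.leaf 221531440))) (.node (.node (.leaf 25215024) (.leaf 336021884)) (.node (.leaf 92260562) (.leaf 333807664)))))) (.node (.node (.node (.node (.node (.leaf 80484042) (.leaf 171606064)) (.node (.leaf 285247454) (.leaf 369427924))) (.node (.node (.leaf 49045430) (.leaf 152666162))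 (.node (.leaf 57311280) (.leaf 74989617)))) (.node (.node (.node (.leaf 35216281) (.leaf 139238574)) (.node (.leaf 270975026) (.leaf 74973233))) (.node (.node (.leaf 131481650) (.leaf 25854001)) (.node (.leaf 273350706) (.leaf 156024882))))) (.node (.node (.node (.node (.leaf 105928836) (.leaf 147382486)) (.node (.leaf 154976305) (.leaf 31637553))) (.node (.node (.leaf 130221558) (.leaf 80756785)) (.node (.leaf 235208753) (.leaf 80742061)))) (.node (.node (.node (.leaf 73809968) (.leaf 168181808)) (.node (.leaf 207847474) (.leaf 221545056))) (.node (.node (.leaf 97288714) (.leaf 336089625)) (.node (.leaf 380305458) (.leaf 333848905)))))))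

/-- A Schreier factor, part 486. -/
def facCodePart486 : Janko1.Tree ℕ := (.node (.node (.node (.node (.node (.node (.leaf 183992598) (.leaf 225022749)) (.node (.leaf 377602098) (.leaf 171671600))) (.node (.node (.leaf 180650034) (.leaf 369475632)) (.node (.leaf 337304330) (.leaf 3047474)))) (.node (.node (.node (.leaf 237689970) (.leaf 38420530)) (.node (.leaf 211730481) (.leaf 8880178))) (.node (.node (.leaf 355188784) (.leaf 43159676)) (.node (.leaf 332679713) (.leaf 26329138))))) (.node (.node (.node (.node (.leaf 215095778) (.leaf 59497710)) (.node (.leaf 188324510) (.leaf 21872690))) (.node (.node (.leaf 157833924) (.leaf 59097138)) (.node (.leaf 146721154) (.leaf 55345202)))) (.node (.node (.node (.leaf 220151856) (.leaf 3883058)) (.node (.leaf 134972161) (.leaf 39075890))) (.node (.node (.leaf 161103921) (.leaf 8142898)) (.node (.leaf 351771437) (.leaf 44548146)))))) (.node (.node (.node (.node (.node (.leaf 140754994) (.leaf 49217586)) (.node (.leaf 353901656) (.leaf 65798194))) (.node (.node (.leaf 143855388) (.leaf 61118880)) (.node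 (.leaf 179077168) (.leaf 31801394)))) (.node (.node (.node (.leaf 205897776) (.leaf 61571122)) (.node (.leaf 224804914) (.leaf 45301810))) (.node (.node (.leaf 171835442) (.leaf 15122482)) (.node (.leaf 185712688) (.leaf 48578610))))) (.node (.node (.node (.node (.leaf 353927218) (.leaf 353714224)) (.node (.leaf 317822134) (.leaf 167940285))) (.node (.node (.leaf 143884338) (.leaf 141131824)) (.node (.leaf 171868458) (.leaf 224794712)))) (.node (.node (.node (.leaf 192315440) (.leaf 198085649)) (.node (.leaf 221382740) (.leaf 144244784))) (.node (.node (.leaf 221839409) (.leaf 353681456)) (.node (.leaf 194953265) (.leaf 167886896)))))))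

/-- A Schreier factor, part 487. -/
def facCodePart487 : Janko1.Tree ℕ := (.node (.node (.node (.node (.node (.node (.leaf 341704752) (.leaf 221236556)) (.node (.leaf 231751729) (.leaf 194494512))) (.node (.node (.leaf 213551042) (.leaf 333611145)) (.node (.leaf 167772209) (.leaf 224722992)))) (.node (.node (.node (.leaf 151165650) (.leaf 144235554)) (.node (.leaf 177815601) (.leaf 369344560))) (.node (.node (.leaf 267976752) (.leaf 42532913)) (.node (.leaf 285638976) (.leaf 169428385))))) (.node (.node (.node (.node (.leaf 228770765) (.leaf 182572337)) (.node (.leaf 281415450) (.leaf 122322993))) (.node (.node (.leaf 122077232) (.leaf 122245370)) (.node (.leaf 171658728) (.leaf 152555409)))) (.node (.node (.node (.leaf 113918000) (.leaf 139427890)) (.node (.leaf 147919568) (.leaf 166021749))) (.node (.node (.leaf 16801718) (.leaf 42619882)) (.node (.leaf 291078194) (.leaf 48612238)))))) (.node (.node (.node (.node (.node (.leaf 34461512) (.leaf 164335046)) (.node (.leaf 253219594) (.leaf 128466993))) (.node (.node (.leaf 29999154) (.leaf 128550094))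 (.node (.leaf 131694642) (.leaf 128567493)))) (.node (.node (.node (.leaf 97058864) (.leaf 174280794)) (.node (.leaf 64199136) (.leaf 48566326))) (.node (.node (.leaf 73621528) (.leaf 48633674)) (.node (.leaf 95289394) (.leaf 371523632))))) (.node (.node (.node (.node (.leaf 30015538) (.leaf 141347669)) (.node (.leaf 99057714) (.leaf 221593648))) (.node (.node (.leaf 291029042) (.leaf 194813468)) (.node (.leaf 255508740) (.leaf 336123888)))) (.node (.node (.node (.leaf 34422834) (.leaf 317800496)) (.node (.leaf 48995798) (.leaf 333877077))) (.node (.node (.leaf 127273474) (.leaf 315686960)) (.node (.leaf 81254748) (.leaf 198377520)))))))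

/-- A Schreier factor, part 488. -/
def facCodePart488 : Janko1.Tree ℕ := (.node (.node (.node (.node (.node (.node (.leaf 57221128) (.leaf 171712613)) (.node (.leaf 131661874) (.leaf 144463605))) (.node (.node (.leaf 258981936) (.leaf 371572784)) (.node (.leaf 290193456) (.leaf 317849648)))) (.node (.node (.node (.leaf 106008165) (.leaf 333905968)) (.node (.leaf 155041841) (.leaf 315719728))) (.node (.node (.leaf 181574832) (.leaf 225067056)) (.node (.leaf 7473725) (.leaf 198427452))))) (.node (.node (.node (.node (.leaf 191288888) (.leaf 3999537)) (.node (.leaf 217730741) (.leaf 44129665))) (.node (.node (.leaf 143622192) (.leaf 60440626)) (.node (.leaf 357253168) (.leaf 60047410)))) (.node (.node (.node (.leaf 339345456) (.leaf 23167026)) (.node (.leaf 88065720) (.leaf 139741085))) (.node (.node (.leaf 118816818) (.leaf 206446544)) (.node (.leaf 55578708) (.leaf 322985960)))))) (.node (.node (.node (.node (.node (.leaf 304731198) (.leaf 349848298)) (.node (.leaf 123551793) (.leaf 201506865))) (.node (.node (.leaf 14499889) (.leaf 319389745))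 (.node (.leaf 347889765) (.leaf 346457212)))) (.node (.node (.node (.leaf 208830512) (.leaf 45498418)) (.node (.leaf 182370352) (.leaf 16728114))) (.node (.node (.leaf 201588786) (.leaf 33030194)) (.node (.leaf 174440498) (.leaf 16007218))))) (.node (.node (.node (.node (.leaf 143367836) (.leaf 56410314)) (.node (.leaf 223598432) (.leaf 26494973))) (.node (.node (.leaf 68845617) (.leaf 9519154)) (.node (.leaf 35886280) (.leaf 39371768)))) (.node (.node (.node (.leaf 339099696) (.leaf 27148338)) (.node (.leaf 195479708) (.leaf 359024357))) (.node (.node (.leaf 205144114) (.leaf 192888881)) (.node (.leaf 151289906) (.leaf 313868337)))))))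

/-- A Schreier factor, part 489. -/
def facCodePart489 : Janko1.Tree ℕ := (.node (.node (.node (.node (.node (.node (.leaf 338385600) (.leaf 192962844)) (.node (.leaf 144622957) (.leaf 355682274))) (.node (.node (.leaf 182616112) (.leaf 11911218)) (.node (.leaf 122814514) (.leaf 49995356)))) (.node (.node (.node (.leaf 302579762) (.leaf 28573746)) (.node (.leaf 205111345) (.leaf 139493426))) (.node (.node (.leaf 231378393) (.leaf 170317050)) (.node (.leaf 265586332) (.leaf 153357546))))) (.node (.node (.node (.node (.leaf 141738033) (.leaf 169609984)) (.node (.leaf 191272036) (.leaf 4022310))) (.node (.node (.leaf 138051634) (.leaf 274907185)) (.node (.leaf 364593202) (.leaf 274826958)))) (.node (.node (.node (.leaf 329138226) (.leaf 4096049)) (.node (.leaf 29333821) (.leaf 11403313))) (.node (.node (.leaf 64684081) (.leaf 93635477)) (.node (.leaf 274274941) (.leaf 278126642)))))) (.node (.node (.node (.node (.node (.leaf 256546477) (.leaf 11305009)) (.node (.leaf 8965818) (.leaf 174775780))) (.node (.node (.leaf 12046878) (.leaf 180256818))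 (.node (.leaf 109728524) (.leaf 156148057)))) (.node (.node (.node (.leaf 87760793) (.leaf 142655538)) (.node (.leaf 119178621) (.leaf 166707250))) (.node (.node (.leaf 72111614) (.leaf 71897869)) (.node (.leaf 4037029) (.leaf 239501361))))) (.node (.node (.node (.node (.leaf 295420456) (.leaf 239452209)) (.node (.leaf 259735602) (.leaf 71942193))) (.node (.node (.leaf 102716782) (.leaf 22729761)) (.node (.leaf 38884797) (.leaf 283574321)))) (.node (.node (.node (.leaf 188127601) (.leaf 286770448)) (.node (.leaf 29605936) (.leaf 77774897))) (.node (.node (.leaf 126257032) (.leaf 242783092)) (.node (.leaf 185290210) (.leaf 28609814)))))))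

/-- A Schreier factor, part 490. -/
def facCodePart490 : Janko1.Tree ℕ := (.node (.node (.node (.node (.node (.node (.leaf 158654453) (.leaf 286801969)) (.node (.leaf 134856754) (.leaf 177864754))) (.node (.node (.leaf 93323312) (.leaf 164659250)) (.node (.leaf 331467093) (.leaf 178511468)))) (.node (.node (.node (.leaf 22512678) (.leaf 9750200)) (.node (.leaf 169333984) (.leaf 9097078))) (.node (.node (.leaf 60129330) (.leaf 43319346)) (.node (.leaf 339263536) (.leaf 367598856))))) (.node (.node (.node (.node (.leaf 165134385) (.leaf 367640625)) (.node (.leaf 155420508) (.leaf 340988177))) (.node (.node (.leaf 207831089) (.leaf 166395953)) (.node (.leaf 320066713) (.leaf 227990396)))) (.node (.node (.node (.leaf 182296718) (.leaf 337761634)) (.node (.leaf 178127520) (.leaf 337823218))) (.node (.node (.leaf 228088206) (.leaf 364249137)) (.node (.leaf 188923952) (.leaf 364314673)))))) (.node (.node (.node (.node (.node (.leaf 14680113) (.leaf 11436730)) (.node (.leaf 361385450) (.leaf 45439125))) (.node (.node (.leaf 330039344) (.leaf 28786738))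 (.node (.leaf 60784689) (.leaf 61964338)))) (.node (.node (.node (.leaf 236847152) (.leaf 29130802)) (.node (.leaf 137150512) (.leaf 46104626))) (.node (.node (.leaf 356155442) (.leaf 23304334)) (.node (.leaf 150945842) (.leaf 4735026))))) (.node (.node (.node (.node (.leaf 169001008) (.leaf 4263918)) (.node (.leaf 202342448) (.leaf 55656498))) (.node (.node (.leaf 352518192) (.leaf 376193073)) (.node (.leaf 339024410) (.leaf 332070961)))) (.node (.node (.node (.leaf 223674416) (.leaf 219611185)) (.node (.leaf 149853476) (.leaf 179830833))) (.node (.node (.leaf 123682866) (.leaf 328630321)) (.node (.leaf 55974974) (.leaf 373037538)))))))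

/-- A Schreier factor, part 491. -/
def facCodePart491 : Janko1.Tree ℕ := (.node (.node (.node (.node (.node (.node (.leaf 175264434) (.leaf 66093633)) (.node (.leaf 144890592) (.leaf 16236594))) (.node (.node (.leaf 227805160) (.leaf 16662960)) (.node (.leaf 137412656) (.leaf 49922098)))) (.node (.node (.node (.leaf 313180210) (.leaf 170213426)) (.node (.leaf 346718258) (.leaf 156680242))) (.node (.node (.leaf 217833340) (.leaf 156342832)) (.node (.leaf 265519152) (.leaf 292671533))))) (.node (.node (.node (.node (.leaf 278904880) (.leaf 265932820)) (.node (.leaf 231479722) (.leaf 119169442))) (.node (.node (.leaf 110125309) (.leaf 39198296)) (.node (.leaf 275529778) (.leaf 45402224)))) (.node (.node (.node (.leaf 71368754) (.leaf 45483733)) (.node (.leaf 8605820) (.leaf 125179620))) (.node (.node (.leaf 242417714) (.leaf 125245602)) (.node (.leaf 61292592) (.leaf 269336625)))))) (.node (.node (.node (.node (.node (.leaf 256475184) (.leaf 147701810)) (.node (.leaf 75258012) (.leaf 180215888))) (.node (.node (.leaf 3595293) (.leaf 140034098))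 (.node (.leaf 44875824) (.leaf 139679594)))) (.node (.node (.node (.leaf 43302962) (.leaf 166248498)) (.node (.leaf 85196848) (.leaf 179504253))) (.node (.node (.leaf 18841649) (.leaf 301646326)) (.node (.leaf 278609968) (.leaf 301744177))))) (.node (.node (.node (.node (.leaf 109789232) (.leaf 103219249)) (.node (.leaf 310741512) (.leaf 61915185))) (.node (.node (.leaf 61612372) (.leaf 304914620)) (.node (.leaf 164498212) (.leaf 304977982)))) (.node (.node (.node (.leaf 256671792) (.leaf 151066294)) (.node (.leaf 161995350) (.leaf 177806860))) (.node (.node (.leaf 158826545) (.leaf 138264626)) (.node (.leaf 287801884) (.leaf 164613589)))))))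

/-- A Schreier factor, part 492. -/
def facCodePart492 : Janko1.Tree ℕ := (.node (.node (.node (.node (.node (.node (.leaf 2447521) (.leaf 165019698)) (.node (.leaf 126304304) (.leaf 151801552))) (.node (.node (.leaf 118985252) (.leaf 292732978)) (.node (.leaf 304814800) (.leaf 286234045)))) (.node (.node (.node (.leaf 229310512) (.leaf 284121976)) (.node (.leaf 321276192) (.leaf 352870697))) (.node (.node (.leaf 191628318) (.leaf 143576466)) (.node (.leaf 235061297) (.leaf 210408772))))) (.node (.node (.node (.node (.leaf 138281009) (.leaf 326025265)) (.node (.leaf 181305393) (.leaf 352885554))) (.node (.node (.leaf 151437362) (.leaf 205652017)) (.node (.leaf 215613488) (.leaf 349445933)))) (.node (.node (.node (.leaf 112033841) (.leaf 278052914)) (.node (.leaf 378650672) (.leaf 281034802))) (.node (.node (.leaf 210092080) (.leaf 307249202)) (.node (.leaf 47726641) (.leaf 305463601)))))) (.node (.node (.node (.node (.node (.leaf 174330096) (.leaf 285672598)) (.node (.leaf 230899762) (.leaf 295010354))) (.node (.node (.leaf 142147632) (.leaf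 295419954)) (.node (.leaf 147869820) (.leaf 292869754)))) (.node (.node (.node (.leaf 132513841) (.leaf 156847752)) (.node (.leaf 370377904) (.leaf 361814549))) (.node (.node (.leaf 320936154) (.leaf 316867229)) (.node (.leaf 72731276) (.leaf 197103942))))) (.node (.node (.node (.node (.leaf 4603953) (.leaf 361791537)) (.node (.leaf 176717872) (.leaf 156860465))) (.node (.node (.leaf 122979244) (.leaf 152109105)) (.node (.leaf 269043961) (.leaf 358563889)))) (.node (.node (.node (.leaf 55429320) (.leaf 192039718)) (.node (.leaf 312315126) (.leaf 305596288))) (.node (.node (.leaf 201724641) (.leaf 307090562)) (.node (.leaf 147720938) (.leaf 280893090)))))))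

/-- A Schreier factor, part 493. -/
def facCodePart493 : Janko1.Tree ℕ := (.node (.node (.node (.node (.node (.node (.leaf 163647724) (.leaf 278169610)) (.node (.leaf 331268146) (.leaf 370343986))) (.node (.node (.leaf 160698821) (.leaf 358760498)) (.node (.leaf 191086642) (.leaf 360890418)))) (.node (.node (.node (.leaf 11223088) (.leaf 368050226)) (.node (.leaf 248004656) (.leaf 277662218))) (.node (.node (.leaf 296976432) (.leaf 251173560)) (.node (.leaf 151502897) (.leaf 251183153))))) (.node (.node (.node (.node (.leaf 54509616) (.leaf 92258353)) (.node (.leaf 78692400) (.leaf 9732145))) (.node (.node (.leaf 168214577) (.leaf 277695184)) (.node (.leaf 106634980) (.leaf 98305849)))) (.node (.node (.node (.leaf 259604530) (.leaf 254459953)) (.node (.leaf 28213296) (.leaf 254476337))) (.node (.node (.leaf 75896394) (.leaf 16719374)) (.node (.leaf 94322736) (.leaf 375118137)))))) (.node (.node (.node (.node (.node (.leaf 64045105) (.leaf 373276722)) (.node (.leaf 9199592) (.leaf 346821130))) (.node (.node (.leaf 42860594) (.leaf 360742962))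 (.node (.leaf 102848729) (.leaf 369770546)))) (.node (.node (.node (.leaf 257525562) (.leaf 367920844)) (.node (.leaf 10928176) (.leaf 370196530))) (.node (.node (.leaf 9143474) (.leaf 367549492)) (.node (.leaf 71963846) (.leaf 358583793))))) (.node (.node (.node (.node (.leaf 115736625) (.leaf 27181105)) (.node (.leaf 296763950) (.leaf 286448742))) (.node (.node (.leaf 78364972) (.leaf 76582150)) (.node (.leaf 22806577) (.leaf 286408753)))) (.node (.node (.node (.leaf 54247472) (.leaf 27197489)) (.node (.leaf 328974386) (.leaf 289914929))) (.node (.node (.leaf 164053042) (.leaf 82264113)) (.node (.leaf 28450844) (.leaf 289905198)))))))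

/-- A Schreier factor, part 494. -/
def facCodePart494 : Janko1.Tree ℕ := (.node (.node (.node (.node (.node (.node (.leaf 138202621) (.leaf 33294158)) (.node (.leaf 239228934) (.leaf 373424280))) (.node (.node (.leaf 238059569) (.leaf 348553266)) (.node (.leaf 203702320) (.leaf 292651058)))) (.node (.node (.node (.leaf 177062177) (.leaf 277648409)) (.node (.leaf 138068017) (.leaf 295534642))) (.node (.node (.leaf 208584753) (.leaf 275628082)) (.node (.leaf 235035654) (.leaf 294868658))))) (.node (.node (.node (.node (.leaf 119491492) (.leaf 370547421)) (.node (.leaf 56115250) (.leaf 170598058))) (.node (.node (.leaf 91455538) (.leaf 170578820)) (.node (.leaf 251248690) (.leaf 370573361)))) (.node (.node (.node (.leaf 189849365) (.leaf 232083766)) (.node (.leaf 163348528) (.leaf 340565961))) (.node (.node (.leaf 26804273) (.leaf 340614269)) (.node (.leaf 111971469) (.leaf 232046641)))))) (.node (.node (.node (.node (.node (.leaf 150798525) (.leaf 287408861)) (.node (.leaf 322322482) (.leaf 305397810))) (.node (.node (.leaf 39632945) (.leaf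 277069874)) (.node (.leaf 176799792) (.leaf 275464242)))) (.node (.node (.node (.leaf 316704093) (.leaf 295338034)) (.node (.leaf 370318321) (.leaf 275041296))) (.node (.node (.leaf 132382769) (.leaf 292798514)) (.node (.leaf 231424050) (.leaf 335038557))))) (.node (.node (.node (.node (.leaf 148739241) (.leaf 335124745)) (.node (.leaf 228917296) (.leaf 223841990))) (.node (.node (.leaf 356253746) (.leaf 223854641)) (.node (.leaf 319930418) (.leaf 335102001)))) (.node (.node (.node (.leaf 174735409) (.leaf 178767780)) (.node (.leaf 190119984) (.leaf 178847793))) (.node (.node (.leaf 147507132) (.leaf 375872036)) (.node (.leaf 378880048) (.leaf 178782257)))))))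

/-- A Schreier factor, part 495. -/
def facCodePart495 : Janko1.Tree ℕ := (.node (.node (.node (.node (.node (.node (.leaf 225150041) (.leaf 178867005)) (.node (.leaf 123525033) (.leaf 287610393))) (.node (.node (.leaf 136429616) (.leaf 305561650)) (.node (.leaf 87495068) (.leaf 304874913)))) (.node (.node (.node (.leaf 22396978) (.leaf 289865778)) (.node (.leaf 178257969) (.leaf 349667378))) (.node (.node (.leaf 86491184) (.leaf 367329330)) (.node (.leaf 54575328) (.leaf 352616592))))) (.node (.node (.node (.node (.leaf 243859504) (.leaf 368001074)) (.node (.leaf 222036017) (.leaf 369594042))) (.node (.node (.leaf 20317537) (.leaf 295583793)) (.node (.leaf 116899888) (.leaf 44073009)))) (.node (.node (.node (.leaf 164626482) (.leaf 44138545)) (.node (.leaf 43499569) (.leaf 130154545))) (.node (.node (.leaf 70451248) (.leaf 130187313)) (.node (.leaf 37683248) (.leaf 272285745)))))) (.node (.node (.node (.node (.node (.leaf 9011249) (.leaf 272367665)) (.node (.leaf 96392033) (.leaf 272302129))) (.node (.node (.leaf 252287870) (.leaf 272392481))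 (.node (.leaf 305581537) (.leaf 130144878)))) (.node (.node (.node (.leaf 107053106) (.leaf 358154290)) (.node (.leaf 989066) (.leaf 375439410))) (.node (.node (.leaf 101089328) (.leaf 355450930)) (.node (.leaf 275677234) (.leaf 357695538))))) (.node (.node (.node (.node (.leaf 3481154) (.leaf 355893298)) (.node (.leaf 240025650) (.leaf 373194802))) (.node (.node (.leaf 55759242) (.leaf 352066542)) (.node (.leaf 54329392) (.leaf 350245286)))) (.node (.node (.node (.leaf 22577201) (.leaf 367820850)) (.node (.leaf 103301170) (.leaf 259784753))) (.node (.node (.leaf 116604976) (.leaf 107708465)) (.node (.leaf 39329818) (.leaf 107823153)))))))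

/-- A Schreier factor, part 496. -/
def facCodePart496 : Janko1.Tree ℕ := (.node (.node (.node (.node (.node (.node (.leaf 277643314) (.leaf 107749494)) (.node (.leaf 75382834) (.leaf 107839537))) (.node (.node (.leaf 8454194) (.leaf 259751985)) (.node (.leaf 242303026) (.leaf 259866673)))) (.node (.node (.node (.leaf 70746160) (.leaf 66797617)) (.node (.leaf 37998694) (.leaf 307765233))) (.node (.node (.leaf 135056525) (.leaf 307822641)) (.node (.leaf 214391734) (.leaf 355991602))))) (.node (.node (.node (.node (.leaf 349216526) (.leaf 355303474)) (.node (.leaf 190585557) (.leaf 372703282))) (.node (.node (.leaf 220233776) (.leaf 239599666)) (.node (.leaf 158272197) (.leaf 257589298)))) (.node (.node (.node (.leaf 161829021) (.leaf 248764438)) (.node (.leaf 199262256) (.leaf 316787285))) (.node (.node (.leaf 165921225) (.leaf 361581110)) (.node (.leaf 262278641) (.leaf 316801073)))))) (.node (.node (.node (.node (.node (.leaf 119480333) (.leaf 192027657)) (.node (.leaf 115441713) (.leaf 358370346))) (.node (.node (.leaf 359202864) (.leaf 358404093))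 (.node (.leaf 341360688) (.leaf 151814193)))) (.node (.node (.node (.leaf 194855640) (.leaf 251515078)) (.node (.leaf 198361138) (.leaf 245613997))) (.node (.node (.leaf 167706674) (.leaf 243320584)) (.node (.leaf 224280626) (.leaf 270044288))))) (.node (.node (.node (.node (.leaf 76267569) (.leaf 240161313)) (.node (.leaf 96083040) (.leaf 250511410))) (.node (.node (.leaf 127664177) (.leaf 266458402)) (.node (.leaf 350193752) (.leaf 268894258)))) (.node (.node (.node (.leaf 332386938) (.leaf 248252016)) (.node (.leaf 336994721) (.leaf 242437520))) (.node (.node (.leaf 198415138) (.leaf 210243208)) (.node (.leaf 141262898) (.leaf 143460118)))))))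

/-- A Schreier factor, part 497. -/
def facCodePart497 : Janko1.Tree ℕ := (.node (.node (.node (.node (.node (.node (.leaf 171294770) (.leaf 352698417)) (.node (.leaf 220758066) (.leaf 325950286))) (.node (.node (.leaf 134299696) (.leaf 205488177)) (.node (.leaf 213637309) (.leaf 322314346)))) (.node (.node (.node (.leaf 153933034) (.leaf 349391085)) (.node (.leaf 141525041) (.leaf 349372465))) (.node (.node (.leaf 185794608) (.leaf 261029938)) (.node (.leaf 179306544) (.leaf 252104741))))) (.node (.node (.node (.node (.leaf 298041652) (.leaf 254268382)) (.node (.leaf 300253948) (.leaf 242848569))) (.node (.node (.leaf 25646653) (.leaf 340760128)) (.node (.leaf 122159152) (.leaf 325779506)))) (.node (.node (.node (.leaf 144982524) (.leaf 332447794)) (.node (.leaf 175676718) (.leaf 323436594))) (.node (.node (.leaf 148357169) (.leaf 342838852)) (.node (.leaf 57475420) (.leaf 76349489)))))) (.node (.node (.node (.node (.node (.leaf 81299744) (.leaf 27082801)) (.node (.leaf 344492306) (.leaf 242408768))) (.node (.node (.leaf 103333937) (.leaf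 82233077)) (.node (.leaf 131825713) (.leaf 289722669)))) (.node (.node (.node (.leaf 289623680) (.leaf 289738254)) (.node (.leaf 272208698) (.leaf 32997425))) (.node (.node (.leaf 276500429) (.leaf 82220617)) (.node (.leaf 258637872) (.leaf 245597937))))) (.node (.node (.node (.node (.leaf 35078721) (.leaf 340296526)) (.node (.leaf 30580033) (.leaf 328564786))) (.node (.node (.leaf 131072050) (.leaf 330907698)) (.node (.leaf 126617420) (.leaf 338220685)))) (.node (.node (.node (.leaf 63642230) (.leaf 321470968)) (.node (.leaf 91799601) (.leaf 314376242))) (.node (.node (.leaf 123231336) (.leaf 334266418)) (.node (.leaf 111106726) (.leaf 341410860)))))))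

/-- A Schreier factor, part 498. -/
def facCodePart498 : Janko1.Tree ℕ := (.node (.node (.node (.node (.node (.node (.leaf 280928086) (.leaf 343511265)) (.node (.leaf 262996016) (.leaf 322797725))) (.node (.node (.leaf 285147184) (.leaf 331912425)) (.node (.leaf 267600281) (.leaf 316657140)))) (.node (.node (.node (.leaf 99584993) (.leaf 277512241)) (.node (.leaf 35029042) (.leaf 9638428))) (.node (.node (.leaf 126631986) (.leaf 9666609)) (.node (.leaf 131055666) (.leaf 251068465))))) (.node (.node (.node (.node (.leaf 7669852) (.leaf 98129414)) (.node (.leaf 106120556) (.leaf 254214193))) (.node (.node (.leaf 33669168) (.leaf 281002033)) (.node (.leaf 130304846) (.leaf 16599221)))) (.node (.node (.node (.leaf 97157168) (.leaf 339745488)) (.node (.leaf 65869817) (.leaf 319602738))) (.node (.node (.leaf 342414321) (.leaf 331550762)) (.node (.leaf 83238440) (.leaf 265847580)))))) (.node (.node (.node (.node (.node (.leaf 280068146) (.leaf 242368562)) (.node (.leaf 172727286) (.leaf 240091186))) (.node (.node (.leaf 47628338) (.leaf 268156978))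 (.node (.leaf 350558282) (.leaf 183812145)))) (.node (.node (.node (.leaf 211206193) (.leaf 183795761)) (.node (.leaf 220299312) (.leaf 334889009))) (.node (.node (.leaf 187795738) (.leaf 334987313)) (.node (.leaf 140984370) (.leaf 218595377))))) (.node (.node (.node (.node (.leaf 205733936) (.leaf 375717937)) (.node (.leaf 119537713) (.leaf 245221966))) (.node (.node (.leaf 115511986) (.leaf 252303132)) (.node (.leaf 133972340) (.leaf 270016086)))) (.node (.node (.node (.leaf 144064562) (.leaf 241830782)) (.node (.leaf 317882453) (.leaf 259097369))) (.node (.node (.leaf 140967986) (.leaf 248692786)) (.node (.leaf 225050674) (.leaf 251101234)))))))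

/-- A Schreier factor, part 499. -/
def facCodePart499 : Janko1.Tree ℕ := (.node (.node (.node (.node (.node (.node (.leaf 192167964) (.leaf 268779570)) (.node (.leaf 199070837) (.leaf 256986294))) (.node (.node (.leaf 332283952) (.leaf 343654449)) (.node (.leaf 64904973) (.leaf 170462541)))) (.node (.node (.node (.leaf 107413553) (.leaf 170400693)) (.node (.leaf 140118414) (.leaf 170480389))) (.node (.node (.leaf 146587696) (.leaf 343703601)) (.node (.leaf 79468149) (.leaf 231850033))))) (.node (.node (.node (.node (.leaf 282396997) (.leaf 367055769)) (.node (.leaf 83279922) (.leaf 367116337))) (.node (.node (.leaf 159287906) (.leaf 367018033)) (.node (.leaf 141672497) (.leaf 243516002)))) (.node (.node (.node (.leaf 345964592) (.leaf 260948018)) (.node (.leaf 359521480) (.leaf 271769368))) (.node (.node (.leaf 213696560) (.leaf 251772978)) (.node (.leaf 204570673) (.leaf 263110706)))))) (.node (.node (.node (.node (.node (.leaf 210590633) (.leaf 334668197)) (.node (.leaf 57415134) (.leaf 314317560))) (.node (.node (.leaf 181230737) (.leaf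 332349490)) (.node (.leaf 145263238) (.leaf 259658552)))) (.node (.node (.node (.leaf 198180913) (.leaf 60424241)) (.node (.leaf 114033248) (.leaf 259670969))) (.node (.node (.leaf 34652210) (.leaf 113557553)) (.node (.leaf 255680616) (.leaf 113590321))))) (.node (.node (.node (.node (.leaf 30212146) (.leaf 307560497)) (.node (.leaf 253296690) (.leaf 307626033))) (.node (.node (.leaf 132137010) (.leaf 307576881)) (.node (.leaf 96969069) (.leaf 307644080)))) (.node (.node (.node (.leaf 68730929) (.leaf 328482866)) (.node (.leaf 103399473) (.leaf 312705074))) (.node (.node (.leaf 33177694) (.leaf 330809556)) (.node (.leaf 131960732) (.leaf 319881266)))))))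

/-- A Schreier factor, part 500. -/
def facCodePart500 : Janko1.Tree ℕ := (.node (.node (.node (.node (.node (.node (.leaf 253319234) (.leaf 334191560)) (.node (.leaf 81100848) (.leaf 343428268))) (.node (.node (.leaf 89003718) (.leaf 331841586)) (.node (.leaf 262915508) (.leaf 268765984)))) (.node (.node (.node (.leaf 60457009) (.leaf 268877873)) (.node (.leaf 48023794) (.leaf 44040241))) (.node (.node (.leaf 111198257) (.leaf 268746801)) (.node (.leaf 25283574) (.leaf 268845105))))) (.node (.node (.node (.node (.leaf 360370608) (.leaf 298876977)) (.node (.leaf 207245377) (.leaf 298963501))) (.node (.node (.leaf 184556768) (.leaf 298944665)) (.node (.leaf 65786869) (.leaf 130028409)))) (.node (.node (.node (.leaf 138936369) (.leaf 321699890)) (.node (.leaf 191353460) (.leaf 331464754))) (.node (.node (.leaf 51219625) (.leaf 92279629)) (.node (.leaf 145702960) (.leaf 107201194)))))) (.node (.node (.node (.node (.node (.leaf 18485168) (.leaf 103779792)) (.node (.leaf 139330321) (.leaf 119934298))) (.node (.node (.leaf 372692142) (.leaf 313999409))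 (.node (.leaf 193601690) (.leaf 314114097)))) (.node (.node (.node (.leaf 161174742) (.leaf 193142892)) (.node (.leaf 224444466) (.leaf 355786404))) (.node (.node (.leaf 336006061) (.leaf 147963953)) (.node (.leaf 194707506) (.leaf 147889768))))) (.node (.node (.node (.node (.leaf 212303920) (.leaf 188104753)) (.node (.leaf 323420208) (.leaf 125259425))) (.node (.node (.leaf 84479602) (.leaf 109282589)) (.node (.leaf 23117873) (.leaf 81739826)))) (.node (.node (.node (.leaf 160153648) (.leaf 97468466)) (.node (.leaf 336038418) (.leaf 107092840))) (.node (.node (.leaf 333856818) (.leaf 119816242)) (.node (.leaf 194677056) (.leaf 71917424)))))))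

/-- A Schreier factor, part 501. -/
def facCodePart501 : Janko1.Tree ℕ := (.node (.node (.node (.node (.node (.node (.leaf 225607728) (.leaf 76529714)) (.node (.leaf 76683566) (.leaf 206569521))) (.node (.node (.leaf 318603312) (.leaf 139919409)) (.node (.leaf 96485425) (.leaf 350142513)))) (.node (.node (.node (.leaf 166642256) (.leaf 139853873)) (.node (.leaf 173506608) (.leaf 323108913))) (.node (.node (.leaf 298179166) (.leaf 319428526)) (.node (.leaf 51265656) (.leaf 346577948))))) (.node (.node (.node (.node (.leaf 152682544) (.leaf 201621553)) (.node (.leaf 18530354) (.leaf 319504433))) (.node (.node (.leaf 221758310) (.leaf 78479410)) (.node (.leaf 376897584) (.leaf 94228342)))) (.node (.node (.node (.leaf 167870513) (.leaf 125403186)) (.node (.leaf 207028272) (.leaf 109133874))) (.node (.node (.leaf 380502066) (.leaf 196624434)) (.node (.leaf 154681394) (.leaf 220004402)))))) (.node (.node (.node (.node (.node (.leaf 15850632) (.leaf 233456900)) (.node (.leaf 157810738) (.leaf 236176274))) (.node (.node (.leaf 228671537) (.leaf 283648069))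 (.node (.leaf 90447566) (.leaf 22839345)))) (.node (.node (.node (.leaf 171759496) (.leaf 283726408)) (.node (.leaf 82493488) (.leaf 239703588))) (.node (.node (.leaf 131352645) (.leaf 77960157)) (.node (.leaf 273259704) (.leaf 243027540))))) (.node (.node (.node (.node (.leaf 126795826) (.leaf 286933041)) (.node (.leaf 270893106) (.leaf 28770353))) (.node (.node (.leaf 128994552) (.leaf 286842521)) (.node (.leaf 95634006) (.leaf 242975765)))) (.node (.node (.node (.leaf 104742960) (.leaf 77875121)) (.node (.leaf 254378032) (.leaf 227770418))) (.node (.node (.leaf 72433713) (.leaf 231801593)) (.node (.leaf 4310144) (.leaf 191186549)))))))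

/-- A Schreier factor, part 502. -/
def facCodePart502 : Janko1.Tree ℕ := (.node (.node (.node (.node (.node (.node (.leaf 41966069) (.leaf 204619925)) (.node (.leaf 131301426) (.leaf 236322866))) (.node (.node (.leaf 273236018) (.leaf 233343338)) (.node (.leaf 95670318) (.leaf 210078058)))) (.node (.node (.node (.leaf 99467314) (.leaf 192659506)) (.node (.leaf 249888816) (.leaf 4309041))) (.node (.node (.leaf 80338476) (.leaf 275073162)) (.node (.leaf 49954864) (.leaf 4235518))))) (.node (.node (.node (.node (.leaf 58327088) (.leaf 248234033)) (.node (.leaf 380485682) (.leaf 251592753))) (.node (.node (.leaf 184175053) (.leaf 93749297)) (.node (.leaf 377641556) (.leaf 11506885)))) (.node (.node (.node (.leaf 157746957) (.leaf 11539058)) (.node (.leaf 32243760) (.leaf 93816918))) (.node (.node (.leaf 235307057) (.leaf 188432434)) (.node (.leaf 308052016) (.leaf 201736242)))))) (.node (.node (.node (.node (.node (.leaf 74814122) (.leaf 231653426)) (.node (.leaf 181633073) (.leaf 227853237))) (.node (.node (.leaf 319017814) (.leaf 107136326))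 (.node (.leaf 372577586) (.leaf 72532018)))) (.node (.node (.node (.leaf 237453361) (.leaf 103695532)) (.node (.leaf 314720304) (.leaf 119865394))) (.node (.node (.leaf 214941745) (.leaf 123146425)) (.node (.leaf 282533012) (.leaf 179903778))))) (.node (.node (.node (.node (.leaf 83361842) (.leaf 179978289)) (.node (.leaf 17799918) (.leaf 376225841))) (.node (.node (.leaf 280235844) (.leaf 332202033)) (.node (.leaf 244711600) (.leaf 219877673)))) (.node (.node (.node (.leaf 56102765) (.leaf 214750385)) (.node (.leaf 206703786) (.leaf 214846813))) (.node (.node (.leaf 180142128) (.leaf 328843313)) (.node (.leaf 186684218) (.leaf 373145649)))))))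

/-- A Schreier factor, part 503. -/
def facCodePart503 : Janko1.Tree ℕ := (.node (.node (.node (.node (.node (.node (.leaf 160235568) (.leaf 174981169)) (.node (.leaf 221496261) (.leaf 93720518))) (.node (.node (.leaf 171769906) (.leaf 109232178)) (.node (.leaf 43778097) (.leaf 72663090)))) (.node (.node (.node (.leaf 193172574) (.leaf 103874796)) (.node (.leaf 166693114) (.leaf 75923506))) (.node (.node (.leaf 9246522) (.leaf 107036722)) (.node (.leaf 200015920) (.leaf 123306034))))) (.node (.node (.node (.node (.leaf 139149360) (.leaf 341164081)) (.node (.leaf 171802674) (.leaf 233144369))) (.node (.node (.leaf 195067953) (.leaf 364413942)) (.node (.leaf 310165552) (.leaf 364478513)))) (.node (.node (.node (.leaf 363872304) (.leaf 161546289)) (.node (.leaf 323764272) (.leaf 228138482))) (.node (.node (.leaf 376799280) (.leaf 337854513)) (.node (.leaf 280215602) (.leaf 98207872)))))) (.node (.node (.node (.node (.node (.leaf 13369394) (.leaf 93880370)) (.node (.leaf 83418657) (.leaf 109071810))) (.node (.node (.leaf 246780120) (.leaf 113713138))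 (.node (.leaf 198950961) (.leaf 196214834)))) (.node (.node (.node (.leaf 250338909) (.leaf 223039762)) (.node (.leaf 303731398) (.leaf 193287821))) (.node (.node (.leaf 299260764) (.leaf 209589693)) (.node (.leaf 324403250) (.leaf 301875249))))) (.node (.node (.node (.node (.leaf 362512434) (.leaf 257149798)) (.node (.leaf 210747442) (.leaf 257245233))) (.node (.node (.leaf 156977350) (.leaf 103405778)) (.node (.leaf 326655477) (.leaf 103448625)))) (.node (.node (.node (.leaf 39338033) (.leaf 109201181)) (.node (.leaf 66617392) (.leaf 260358193))) (.node (.node (.leaf 4063281) (.leaf 260414056)) (.node (.leaf 68047872) (.leaf 305004593)))))))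

/-- A Schreier factor, part 504. -/
def facCodePart504 : Janko1.Tree ℕ := (.node (.node (.node (.node (.node (.node (.leaf 74518834) (.leaf 305053745)) (.node (.leaf 35061809) (.leaf 62016346))) (.node (.node (.leaf 32079920) (.leaf 227721266)) (.node (.leaf 128898505) (.leaf 205379009)))) (.node (.node (.node (.leaf 6296010) (.leaf 218251314)) (.node (.leaf 104644656) (.leaf 187975844))) (.node (.node (.leaf 64094258) (.leaf 214488712)) (.node (.leaf 59998257) (.leaf 193495090))))) (.node (.node (.node (.node (.leaf 26525745) (.leaf 222855218)) (.node (.leaf 90046512) (.leaf 236259106))) (.node (.node (.leaf 15654516) (.leaf 266047124)) (.node (.leaf 64114500) (.leaf 119341105)))) (.node (.node (.node (.leaf 131794941) (.leaf 39340100)) (.node (.leaf 24379440) (.leaf 39436337))) (.node (.node (.leaf 68010034) (.leaf 292896817)) (.node (.leaf 241714709) (.leaf 296195516)))))) (.node (.node (.node (.node (.node (.leaf 294764592) (.leaf 45580337)) (.node (.leaf 254738480) (.leaf 125337649))) (.node (.node (.leaf 307970096) (.leaf 269451313))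 (.node (.leaf 210719822) (.leaf 231590520)))) (.node (.node (.node (.leaf 156913921) (.leaf 201377933)) (.node (.leaf 207388722) (.leaf 214368306))) (.node (.node (.leaf 154124338) (.leaf 191889458)) (.node (.leaf 324443472) (.leaf 218398770))))) (.node (.node (.node (.node (.leaf 356654812) (.leaf 92246321)) (.node (.leaf 323837829) (.leaf 76338365))) (.node (.node (.leaf 360483598) (.leaf 123210268)) (.node (.leaf 86900786) (.leaf 361136177)))) (.node (.node (.node (.leaf 286179378) (.leaf 196526129)) (.node (.leaf 347281116) (.leaf 151388209))) (.node (.node (.leaf 216105461) (.leaf 312989084)) (.node (.leaf 136746825) (.leaf 191515904)))))))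

/-- A Schreier factor, part 505. -/
def facCodePart505 : Janko1.Tree ℕ := (.node (.node (.node (.node (.node (.node (.leaf 231924006) (.leaf 130203698)) (.node (.leaf 91406385) (.leaf 113610606))) (.node (.node (.leaf 123076657) (.leaf 77892656)) (.node (.leaf 25968689) (.leaf 97452082)))) (.node (.node (.node (.leaf 272909954) (.leaf 107076961)) (.node (.leaf 338559024) (.leaf 123374197))) (.node (.node (.leaf 356359308) (.leaf 88169993)) (.node (.leaf 291340337) (.leaf 119378740))))) (.node (.node (.node (.node (.leaf 229444282) (.leaf 103319224)) (.node (.leaf 149356592) (.leaf 76496946))) (.node (.node (.leaf 175603762) (.leaf 325386289)) (.node (.leaf 71697346) (.leaf 143065137)))) (.node (.node (.node (.leaf 355762226) (.leaf 143048753)) (.node (.leaf 3150593) (.leaf 325407109))) (.node (.node (.leaf 329817430) (.leaf 321949189)) (.node (.leaf 347525732) (.leaf 205045809)))))) (.node (.node (.node (.node (.node (.leaf 371195953) (.leaf 205017869)) (.node (.leaf 200657250) (.leaf 109829998))) (.node (.node (.leaf 227377201) (.leaf 81625138))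 (.node (.leaf 56688690) (.leaf 97632306)))) (.node (.node (.node (.leaf 25890186) (.leaf 130075570)) (.node (.leaf 90905829) (.leaf 93798450))) (.node (.node (.leaf 248397874) (.leaf 77758514)) (.node (.leaf 284072549) (.leaf 113794792))))) (.node (.node (.node (.node (.leaf 264964738) (.leaf 232783922)) (.node (.leaf 315099696) (.leaf 196610706))) (.node (.node (.leaf 333381681) (.leaf 219597064)) (.node (.leaf 20856880) (.leaf 193233573)))) (.node (.node (.node (.leaf 351780913) (.leaf 236159026)) (.node (.leaf 204374065) (.leaf 76070961))) (.node (.node (.leaf 230948913) (.leaf 241909809)) (.node (.leaf 214925362) (.leaf 26689585)))))))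

/-- A Schreier factor, part 506. -/
def facCodePart506 : Janko1.Tree ℕ := (.node (.node (.node (.node (.node (.node (.leaf 84787424) (.leaf 285836437)) (.node (.leaf 252615298) (.leaf 81728972))) (.node (.node (.leaf 270499889) (.leaf 245202993)) (.node (.leaf 273694768) (.leaf 32571441)))) (.node (.node (.node (.leaf 306479153) (.leaf 32587825)) (.node (.leaf 288770416) (.leaf 289333189))) (.node (.node (.leaf 101616482) (.leaf 245186609)) (.node (.leaf 103776306) (.leaf 231768114))))) (.node (.node (.node (.node (.leaf 75317297) (.leaf 218333234)) (.node (.leaf 106741809) (.leaf 187908146))) (.node (.node (.leaf 7766066) (.leaf 228474930)) (.node (.leaf 7901514) (.leaf 204591705)))) (.node (.node (.node (.leaf 282624200) (.leaf 206724657)) (.node (.leaf 299993168) (.leaf 210060408))) (.node (.node (.leaf 282214954) (.leaf 232904722)) (.node (.leaf 117243952) (.leaf 219447346)))))) (.node (.node (.node (.node (.node (.leaf 20561968) (.leaf 196804658)) (.node (.leaf 118672157) (.leaf 277059837))) (.node (.node (.leaf 277072257) (.leaf 9216256))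 (.node (.leaf 2719794) (.leaf 91754173)))) (.node (.node (.node (.leaf 21528625) (.leaf 250503576)) (.node (.leaf 256327728) (.leaf 253889780))) (.node (.node (.leaf 273980469) (.leaf 97556102)) (.node (.leaf 326336561) (.leaf 16171057))))) (.node (.node (.node (.node (.leaf 344178737) (.leaf 280510513)) (.node (.leaf 362823729) (.leaf 253909412))) (.node (.node (.leaf 165199922) (.leaf 204734514)) (.node (.leaf 218338493) (.leaf 228365548)))) (.node (.node (.node (.leaf 36306992) (.leaf 231637042)) (.node (.leaf 69043042) (.leaf 201279461))) (.node (.node (.leaf 348651570) (.leaf 218484557)) (.node (.leaf 54956964) (.leaf 119151614)))))))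

/-- A Schreier factor, part 507. -/
def facCodePart507 : Janko1.Tree ℕ := (.node (.node (.node (.node (.node (.node (.leaf 122388530) (.leaf 72127473)) (.node (.leaf 23547049) (.leaf 76059656))) (.node (.node (.leaf 207372337) (.leaf 91690388)) (.node (.leaf 229822736) (.leaf 223346737)))) (.node (.node (.node (.leaf 142983216) (.leaf 183259216)) (.node (.leaf 377591260) (.leaf 183337009))) (.node (.node (.leaf 330743857) (.leaf 183271473)) (.node (.leaf 324059185) (.leaf 223363121))))) (.node (.node (.node (.node (.leaf 46809137) (.leaf 331169841)) (.node (.leaf 375406642) (.leaf 331202609))) (.node (.node (.leaf 148427796) (.leaf 331137073)) (.node (.leaf 156270640) (.leaf 98326204)))) (.node (.node (.node (.leaf 298156081) (.leaf 130170930)) (.node (.leaf 286560210) (.leaf 82254558))) (.node (.node (.leaf 216171641) (.leaf 113578393)) (.node (.leaf 360827293) (.leaf 78397490)))))) (.node (.node (.node (.node (.node (.leaf 329490824) (.leaf 125978974)) (.node (.leaf 373131308) (.leaf 107024821))) (.node (.node (.leaf 339820594) (.leaf 91783218))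 (.node (.leaf 152010802) (.leaf 71991346)))) (.node (.node (.node (.leaf 142671920) (.leaf 236486705)) (.node (.leaf 308856180) (.leaf 236568625))) (.node (.node (.leaf 275759153) (.leaf 169934897)) (.node (.leaf 229523504) (.leaf 170000433))))) (.node (.node (.node (.node (.leaf 338460720) (.leaf 236552241)) (.node (.leaf 268451890) (.leaf 339925506))) (.node (.node (.leaf 27426866) (.leaf 366723121)) (.node (.leaf 227147825) (.leaf 366774785)))) (.node (.node (.node (.leaf 355827761) (.leaf 78577714)) (.node (.leaf 216439180) (.leaf 109775198))) (.node (.node (.leaf 371228725) (.leaf 125821148)) (.node (.leaf 337543217) (.leaf 98189362)))))))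

/-- A Schreier factor, part 508. -/
def facCodePart508 : Janko1.Tree ℕ := (.node (.node (.node (.node (.node (.node (.leaf 361103408) (.leaf 82346034)) (.node (.leaf 317048236) (.leaf 113688626))) (.node (.node (.leaf 364203565) (.leaf 219529266)) (.node (.leaf 230705046) (.leaf 223025686)))) (.node (.node (.node (.leaf 188301362) (.leaf 236093490)) (.node (.leaf 11752956) (.leaf 59970445))) (.node (.node (.leaf 264882368) (.leaf 60069729)) (.node (.leaf 278353757) (.leaf 107159190))))) (.node (.node (.node (.node (.leaf 7822162) (.leaf 307232817)) (.node (.leaf 95207473) (.leaf 307139370))) (.node (.node (.leaf 72533509) (.leaf 307218086)) (.node (.leaf 9690904) (.leaf 262521889)))) (.node (.node (.node (.leaf 106463281) (.leaf 262586417)) (.node (.leaf 28737584) (.leaf 205357106))) (.node (.node (.leaf 306577457) (.leaf 231702578)) (.node (.leaf 101703232) (.leaf 218234930)))))) (.node (.node (.node (.node (.node (.leaf 286826688) (.leaf 188372241)) (.node (.leaf 252842226) (.leaf 214908978))) (.node (.node (.leaf 259145777) (.leaf 201932850))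 (.node (.leaf 256008445) (.leaf 228409394)))) (.node (.node (.node (.leaf 295018014) (.leaf 222838834)) (.node (.leaf 21449148) (.leaf 236246617))) (.node (.node (.leaf 76365874) (.leaf 232841097)) (.node (.leaf 4833330) (.leaf 192741426))))) (.node (.node (.node (.node (.leaf 118459522) (.leaf 219367073)) (.node (.leaf 300089393) (.leaf 123355185))) (.node (.node (.leaf 284103973) (.leaf 43556728)) (.node (.leaf 117342256) (.leaf 43614257)))) (.node (.node (.node (.leaf 246220353) (.leaf 43581489)) (.node (.leaf 265867716) (.leaf 123273265))) (.node (.node (.leaf 36225072) (.leaf 271777841)) (.node (.leaf 92772153) (.leaf 298418225)))))))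

/-- A Schreier factor, part 509. -/
def facCodePart509 : Janko1.Tree ℕ := (.node (.node (.node (.node (.node (.node (.leaf 366460978) (.leaf 298516529)) (.node (.leaf 346935201) (.leaf 188530738))) (.node (.node (.leaf 102006832) (.leaf 215056434)) (.node (.leaf 28983344) (.leaf 201785394)))) (.node (.node (.node (.leaf 380829745) (.leaf 228283377)) (.node (.leaf 256245808) (.leaf 231575873))) (.node (.node (.leaf 287150288) (.leaf 191856690)) (.node (.leaf 326484017) (.leaf 218366654))))) (.node (.node (.node (.node (.leaf 248518472) (.leaf 248135730)) (.node (.leaf 56493805) (.leaf 241894892))) (.node (.node (.leaf 164184113) (.leaf 240029130)) (.node (.leaf 154111213) (.leaf 266641650)))) (.node (.node (.node (.leaf 331399217) (.leaf 314530525)) (.node (.leaf 203229705) (.leaf 193560625))) (.node (.node (.leaf 169820208) (.leaf 153731121)) (.node (.leaf 324637389) (.leaf 359501817)))))) (.node (.node (.node (.node (.node (.leaf 320707328) (.leaf 153682114)) (.node (.leaf 377069674) (.leaf 314597758))) (.node (.node (.leaf 110203060) (.leaf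 311086813)) (.node (.leaf 13402161) (.leaf 356178656)))) (.node (.node (.node (.leaf 232064341) (.leaf 148377245)) (.node (.leaf 59752497) (.leaf 310968369))) (.node (.node (.leaf 182831681) (.leaf 269402162)) (.node (.leaf 378159152) (.leaf 262602802))))) (.node (.node (.node (.node (.leaf 311427120) (.leaf 253775158)) (.node (.leaf 321932409) (.leaf 250548610))) (.node (.node (.leaf 169577324) (.leaf 206987657)) (.node (.leaf 255934513) (.leaf 323567665)))) (.node (.node (.node (.leaf 202932272) (.leaf 140279857)) (.node (.leaf 369803312) (.leaf 140361777))) (.node (.node (.leaf 90685490) (.leaf 319946801)) (.node (.leaf 21921842) (.leaf 347065613)))))))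

/-- A Schreier factor, part 510. -/
def facCodePart510 : Janko1.Tree ℕ := (.node (.node (.node (.node (.node (.node (.leaf 60686386) (.leaf 135727285)) (.node (.leaf 174245748) (.leaf 346997505))) (.node (.node (.leaf 338122226) (.leaf 243449906)) (.node (.leaf 189713920) (.leaf 245011036)))) (.node (.node (.node (.leaf 183124016) (.leaf 271843378)) (.node (.leaf 317606069) (.leaf 269942834))) (.node (.node (.leaf 311723217) (.leaf 251674674)) (.node (.leaf 370807464) (.leaf 263200997))))) (.node (.node (.node (.node (.leaf 312644358) (.leaf 322587538)) (.node (.leaf 19665912) (.leaf 325795890))) (.node (.node (.leaf 177735449) (.leaf 314212402)) (.node (.leaf 215077760) (.leaf 342852452)))) (.node (.node (.node (.leaf 86035104) (.leaf 72440005)) (.node (.leaf 45727792) (.leaf 23223658))) (.node (.node (.leaf 315834417) (.leaf 284235745)) (.node (.leaf 357802009) (.leaf 284131377)))))) (.node (.node (.node (.node (.node (.leaf 296440728) (.leaf 72551789)) (.node (.leaf 368918577) (.leaf 240115028))) (.node (.node (.leaf 2940228) (.leaf 243351601))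 (.node (.leaf 274959257) (.leaf 78381105)))) (.node (.node (.node (.leaf 241882366) (.leaf 29053738)) (.node (.leaf 245808) (.leaf 287309873))) (.node (.node (.leaf 43909170) (.leaf 78331953)) (.node (.leaf 43012033) (.leaf 243310472))))) (.node (.node (.node (.node (.leaf 253411377) (.leaf 340328498)) (.node (.leaf 259719217) (.leaf 313032848))) (.node (.node (.leaf 305086512) (.leaf 330943329)) (.node (.leaf 7946290) (.leaf 332529714)))) (.node (.node (.node (.leaf 19337488) (.leaf 323341466)) (.node (.leaf 107806770) (.leaf 340926762))) (.node (.node (.leaf 246743089) (.leaf 248665484)) (.node (.leaf 85711190) (.leaf 4707301)))))))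

/-- A Schreier factor, part 511. -/
def facCodePart511 : Janko1.Tree ℕ := (.node (.node (.node (.node (.node (.node (.leaf 296182094) (.leaf 4787958)) (.node (.leaf 247234608) (.leaf 88129585))) (.node (.node (.leaf 310378546) (.leaf 94175629)) (.node (.leaf 573488) (.leaf 252035121)))) (.node (.node (.node (.leaf 348504114) (.leaf 11960369)) (.node (.leaf 161661185) (.leaf 11927601))) (.node (.node (.leaf 218480690) (.leaf 94257201)) (.node (.leaf 329302065) (.leaf 310820914))))) (.node (.node (.node (.node (.leaf 70289089) (.leaf 312484220)) (.node (.leaf 346374193) (.leaf 322060338))) (.node (.node (.leaf 305365040) (.leaf 328368178)) (.node (.leaf 379781169) (.leaf 331582009)))) (.node (.node (.node (.leaf 377028657) (.leaf 242384946)) (.node (.leaf 316416230) (.leaf 239685848))) (.node (.node (.leaf 359944398) (.leaf 257134978)) (.node (.leaf 324419633) (.leaf 248840242)))))) (.node (.node (.node (.node (.node (.leaf 169869360) (.leaf 266518578)) (.node (.leaf 196280368) (.leaf 250468592))) (.node (.node (.leaf 342392881) (.leaf 268189746))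 (.node (.leaf 27314942) (.leaf 180355386)))) (.node (.node (.node (.leaf 180637401) (.leaf 180444893)) (.node (.leaf 92618802) (.leaf 376736500))) (.node (.node (.leaf 59179058) (.leaf 220184625)) (.node (.leaf 297484337) (.leaf 329287810))))) (.node (.node (.node (.node (.leaf 378077504) (.leaf 329325860)) (.node (.leaf 244744241) (.leaf 373542700))) (.node (.node (.leaf 209469488) (.leaf 175439921)) (.node (.leaf 262310121) (.leaf 175544449)))) (.node (.node (.node (.leaf 205668402) (.leaf 272320993)) (.node (.leaf 339951666) (.leaf 245235762))) (.node (.node (.leaf 78993933) (.leaf 262540634)) (.node (.leaf 375324722) (.leaf 260787085)))))))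

/-- A Schreier factor, part 512. -/
def facCodePart512 : Janko1.Tree ℕ := (.node (.node (.node (.node (.node (.node (.leaf 308283881) (.leaf 240223600)) (.node (.leaf 316162096) (.leaf 241861794))) (.node (.node (.leaf 255819825) (.leaf 251117618)) (.node (.leaf 169646448) (.leaf 268817774)))) (.node (.node (.node (.leaf 273514858) (.leaf 265977906)) (.node (.leaf 148314306) (.leaf 233473908))) (.node (.node (.leaf 67755118) (.leaf 233593577)) (.node (.leaf 202211780) (.leaf 341622833))))) (.node (.node (.node (.node (.leaf 130875441) (.leaf 368164913)) (.node (.leaf 372971230) (.leaf 368283838))) (.node (.node (.leaf 370688969) (.leaf 364858874)) (.node (.leaf 317407281) (.leaf 338247729)))) (.node (.node (.node (.leaf 183206794) (.leaf 338313265)) (.node (.leaf 209737336) (.leaf 228507697))) (.node (.node (.leaf 335790129) (.leaf 228589617)) (.node (.leaf 23434054) (.leaf 253968434)))))) (.node (.node (.node (.node (.node (.leaf 55091061) (.leaf 260243506)) (.node (.leaf 118161458) (.leaf 245784366))) (.node (.node (.leaf 302006322) (.leaf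 263127090)) (.node (.leaf 296337456) (.leaf 334681601)))) (.node (.node (.node (.leaf 351210633) (.leaf 331973562)) (.node (.leaf 315637809) (.leaf 323486708))) (.node (.node (.leaf 45809712) (.leaf 341475378)) (.node (.leaf 78004272) (.leaf 325156914))))) (.node (.node (.node (.node (.leaf 333971505) (.leaf 342789717)) (.node (.leaf 167462481) (.leaf 56297196))) (.node (.node (.leaf 140869681) (.leaf 302186545)) (.node (.leaf 188482789) (.leaf 302301470)))) (.node (.node (.node (.leaf 328433962) (.leaf 103710769)) (.node (.leaf 251759169) (.leaf 109597706))) (.node (.node (.leaf 288194609) (.leaf 109674545)) (.node (.leaf 61931568) (.leaf 305450968)))))))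

/-- A Schreier factor, part 513. -/
def facCodePart513 : Janko1.Tree ℕ := (.node (.node (.node (.node (.node (.node (.leaf 271056945) (.leaf 62406705)) (.node (.leaf 72666118) (.leaf 340230194))) (.node (.node (.leaf 257130546) (.leaf 312721458)) (.node (.leaf 38361474) (.leaf 330830094)))) (.node (.node (.node (.leaf 299489610) (.leaf 314461817)) (.node (.leaf 243007536) (.leaf 316014933))) (.node (.node (.leaf 246599182) (.leaf 325700858)) (.node (.leaf 45519368) (.leaf 343441864))))) (.node (.node (.node (.node (.leaf 77727278) (.leaf 322879538)) (.node (.leaf 264211188) (.leaf 340809592))) (.node (.node (.leaf 50878201) (.leaf 119771413)) (.node (.leaf 17645617) (.leaf 266371121)))) (.node (.node (.node (.leaf 10338352) (.leaf 293197745)) (.node (.leaf 62210096) (.leaf 269917657))) (.node (.node (.leaf 344724798) (.leaf 125845553)) (.node (.leaf 138547096) (.leaf 321722690)))))) (.node (.node (.node (.node (.node (.leaf 184221745) (.leaf 339656754)) (.node (.leaf 157420842) (.leaf 319719548))) (.node (.node (.leaf 191857652) (.leaf 338040257))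 (.node (.leaf 330809394) (.leaf 310345778)))) (.node (.node (.node (.leaf 124525621) (.leaf 328276585)) (.node (.leaf 366329906) (.leaf 331481138))) (.node (.node (.leaf 328450097) (.leaf 301858866)) (.node (.leaf 380190769) (.leaf 285858394))))) (.node (.node (.node (.node (.leaf 362532704) (.leaf 302285993)) (.node (.leaf 52510770) (.leaf 350584881))) (.node (.node (.leaf 111922952) (.leaf 323751754)) (.node (.leaf 244142145) (.leaf 140398314)))) (.node (.node (.node (.leaf 279611185) (.leaf 350650417)) (.node (.leaf 340707890) (.leaf 347180365))) (.node (.node (.leaf 358602534) (.leaf 135860694)) (.node (.leaf 212816366) (.leaf 135938097)))))))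

/-- A Schreier factor, part 514. -/
def facCodePart514 : Janko1.Tree ℕ := (.node (.node (.node (.node (.node (.node (.leaf 83345457) (.leaf 307658802)) (.node (.leaf 54893401) (.leaf 307266710))) (.node (.node (.leaf 50610225) (.leaf 296747058)) (.node (.leaf 331874352) (.leaf 302415922)))) (.node (.node (.node (.leaf 336450877) (.leaf 295048396)) (.node (.leaf 354091056) (.leaf 275415246))) (.node (.node (.leaf 219480112) (.leaf 295454313)) (.node (.leaf 139657264) (.leaf 275005490))))) (.node (.node (.node (.node (.leaf 226216197) (.leaf 301662258)) (.node (.leaf 146053345) (.leaf 286394632))) (.node (.node (.leaf 106957360) (.leaf 359599526)) (.node (.leaf 42554425) (.leaf 193746672)))) (.node (.node (.node (.leaf 8230088) (.leaf 314646414)) (.node (.leaf 63127601) (.leaf 359645233))) (.node (.node (.leaf 29920422) (.leaf 153862193)) (.node (.leaf 314793090) (.leaf 148477956)))))) (.node (.node (.node (.node (.node (.leaf 333042888) (.leaf 356337600)) (.node (.leaf 321454129) (.leaf 311115825))) (.node (.node (.leaf 339625094) (.leaf 188727345))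 (.node (.leaf 369180952) (.leaf 188666384)))) (.node (.node (.node (.leaf 48382002) (.leaf 287490098)) (.node (.leaf 246319662) (.leaf 286758370))) (.node (.node (.leaf 281927660) (.leaf 307809601)) (.node (.leaf 337891702) (.leaf 376078386))))) (.node (.node (.node (.node (.leaf 371392561) (.leaf 360906802)) (.node (.leaf 356335665) (.leaf 369655858))) (.node (.node (.leaf 181944370) (.leaf 275568368)) (.node (.leaf 359931813) (.leaf 88358961)))) (.node (.node (.node (.leaf 326139954) (.leaf 4816945)) (.node (.leaf 258097200) (.leaf 94486577))) (.node (.node (.leaf 276037680) (.leaf 252198961)) (.node (.leaf 32653360) (.leaf 94394717)))))))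

/-- A Schreier factor, part 515. -/
def facCodePart515 : Janko1.Tree ℕ := (.node (.node (.node (.node (.node (.node (.leaf 6949858) (.leaf 278649849)) (.node (.leaf 98960198) (.leaf 375537714))) (.node (.node (.leaf 33915136) (.leaf 348405810)) (.node (.leaf 280303346) (.leaf 360765653)))) (.node (.node (.node (.leaf 267092016) (.leaf 369786930)) (.node (.leaf 284631376) (.leaf 350212486))) (.node (.node (.leaf 16269933) (.leaf 349756622)) (.node (.leaf 24838192) (.leaf 361447474))))) (.node (.node (.node (.node (.leaf 122786364) (.leaf 284295217)) (.node (.leaf 110624817) (.leaf 72597553))) (.node (.node (.leaf 324157489) (.leaf 29212721)) (.node (.leaf 312775506) (.leaf 243425065)))) (.node (.node (.node (.leaf 331141906) (.leaf 78495793)) (.node (.leaf 360730518) (.leaf 243473142))) (.node (.node (.leaf 181965818) (.leaf 348587986)) (.node (.leaf 235045922) (.leaf 364593857)))))) (.node (.node (.node (.node (.node (.leaf 326107186) (.leaf 348979250)) (.node (.leaf 362004530) (.leaf 364199986))) (.node (.node (.leaf 323846593) (.leaf 355223512))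 (.node (.leaf 359956530) (.leaf 375636018)))) (.node (.node (.node (.leaf 114229298) (.leaf 277676082)) (.node (.leaf 110321136) (.leaf 283705394))) (.node (.node (.leaf 297582642) (.leaf 301760562)) (.node (.leaf 210763825) (.leaf 284213298))))) (.node (.node (.node (.node (.leaf 80596345) (.leaf 294895666)) (.node (.leaf 146261712) (.leaf 167069653))) (.node (.node (.leaf 380387377) (.leaf 167139226)) (.node (.leaf 354435120) (.leaf 233652828)))) (.node (.node (.node (.leaf 326271025) (.leaf 233717809)) (.node (.leaf 333234226) (.leaf 365002801))) (.node (.node (.leaf 21708849) (.leaf 365117489)) (.node (.leaf 335413766) (.leaf 228677297)))))))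

/-- A Schreier factor, part 516. -/
def facCodePart516 : Janko1.Tree ℕ := (.node (.node (.node (.node (.node (.node (.leaf 17268785) (.leaf 228769841)) (.node (.leaf 145129522) (.leaf 162070577))) (.node (.node (.leaf 114769969) (.leaf 162168881)) (.node (.leaf 284411466) (.leaf 278134834)))) (.node (.node (.node (.leaf 266190897) (.leaf 289341490)) (.node (.leaf 340645044) (.leaf 307150898))) (.node (.node (.leaf 333202800) (.leaf 277092658)) (.node (.leaf 126959665) (.leaf 301596722))))) (.node (.node (.node (.node (.leaf 277775278) (.leaf 180506144)) (.node (.leaf 288886213) (.leaf 332694017))) (.node (.node (.leaf 331776048) (.leaf 220322397)) (.node (.leaf 336397825) (.leaf 376881846)))) (.node (.node (.node (.leaf 110301405) (.leaf 373689693)) (.node (.leaf 114278450) (.leaf 215255252))) (.node (.node (.leaf 204167442) (.leaf 175669297)) (.node (.leaf 84525106) (.leaf 175718449)))))) (.node (.node (.node (.node (.node (.leaf 133715086) (.leaf 289261276)) (.node (.leaf 369246710) (.leaf 306995468))) (.node (.node (.leaf 375606168) (.leaf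 296534066)) (.node (.leaf 315047985) (.leaf 296131522)))) (.node (.node (.node (.leaf 359039024) (.leaf 289882162)) (.node (.leaf 321690470) (.leaf 307742372))) (.node (.node (.leaf 88724037) (.leaf 352640238)) (.node (.leaf 379486258) (.leaf 375980082))))) (.node (.node (.node (.node (.leaf 197623857) (.leaf 359301170)) (.node (.leaf 201070417) (.leaf 351946830))) (.node (.node (.leaf 371474481) (.leaf 39967970)) (.node (.leaf 16433200) (.leaf 266534961)))) (.node (.node (.node (.leaf 373686321) (.leaf 266649649)) (.node (.leaf 284921528) (.leaf 119888601))) (.node (.node (.leaf 317378686) (.leaf 119948010)) (.node (.leaf 280707120) (.leaf 293273649)))))))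

/-- A Schreier factor, part 517. -/
def facCodePart517 : Janko1.Tree ℕ := (.node (.node (.node (.node (.node (.node (.leaf 2752561) (.leaf 296732497)) (.node (.leaf 270336466) (.leaf 125960241))) (.node (.node (.leaf 33838864) (.leaf 126058932)) (.node (.leaf 35787461) (.leaf 269997374)))) (.node (.node (.node (.leaf 31101513) (.leaf 46091872)) (.node (.leaf 290884524) (.leaf 358190886))) (.node (.node (.leaf 105250864) (.leaf 375472178)) (.node (.leaf 257065009) (.leaf 357711922))))) (.node (.node (.node (.node (.leaf 271516014) (.leaf 375046194)) (.node (.leaf 270352434) (.leaf 359404442))) (.node (.node (.leaf 25722929) (.leaf 376471833)) (.node (.leaf 12541044) (.leaf 369737778)))) (.node (.node (.node (.leaf 31113266) (.leaf 352485426)) (.node (.leaf 35749938) (.leaf 358645810))) (.node (.node (.leaf 286261297) (.leaf 56377393)) (.node (.leaf 113218628) (.leaf 56445268)))))) (.node (.node (.node (.node (.node (.leaf 279724081) (.leaf 257654833)) (.node (.leaf 268271665) (.leaf 103841841))) (.node (.node (.leaf 262413201) (.leaf 103890993))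 (.node (.leaf 261461162) (.leaf 302407389)))) (.node (.node (.node (.leaf 190906417) (.leaf 62537777)) (.node (.leaf 208453682) (.leaf 62652465))) (.node (.node (.leaf 7127088) (.leaf 357548082)) (.node (.leaf 377856337) (.leaf 374915122))))) (.node (.node (.node (.node (.leaf 32882814) (.leaf 346718384)) (.node (.leaf 367165489) (.leaf 364527666))) (.node (.node (.leaf 324361733) (.leaf 364107156)) (.node (.leaf 312983601) (.leaf 375586866)))) (.node (.node (.node (.leaf 17373434) (.leaf 39230190)) (.node (.leaf 281707777) (.leaf 44106830))) (.node (.node (.leaf 13001125) (.leaf 60408726)) (.node (.leaf 156995598) (.leaf 60031026)))))))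

/-- A Schreier factor, part 518. -/
def facCodePart518 : Janko1.Tree ℕ := (.node (.node (.node (.node (.node (.node (.leaf 115998770) (.leaf 56286792)) (.node (.leaf 134467116) (.leaf 39946798))) (.node (.node (.leaf 112099378) (.leaf 43406940)) (.node (.leaf 310870065) (.leaf 209829937)))) (.node (.node (.node (.leaf 372069088) (.leaf 209846321)) (.node (.leaf 379292696) (.leaf 325353521))) (.node (.node (.leaf 367742724) (.leaf 352160169)) (.node (.leaf 364118065) (.leaf 142854784))))) (.node (.node (.node (.node (.leaf 317266030) (.leaf 321802404)) (.node (.leaf 82845361) (.leaf 204898353))) (.node (.node (.leaf 168664209) (.leaf 204919881)) (.node (.leaf 172166010) (.leaf 348702112)))) (.node (.node (.node (.leaf 266780721) (.leaf 11337778)) (.node (.leaf 264477924) (.leaf 33013810))) (.node (.node (.leaf 186171440) (.leaf 28707720)) (.node (.leaf 283789748) (.leaf 32605706)))))) (.node (.node (.node (.node (.node (.leaf 309266328) (.leaf 15992758)) (.node (.leaf 317308978) (.leaf 23248946))) (.node (.node (.leaf 315265073) (.leaf 9142322))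 (.node (.leaf 43253809) (.leaf 4182684)))) (.node (.node (.node (.leaf 168627792) (.leaf 22598242)) (.node (.leaf 260030513) (.leaf 361054257))) (.node (.node (.leaf 192675888) (.leaf 156388396)) (.node (.leaf 199589936) (.leaf 316178481))))) (.node (.node (.node (.node (.leaf 313671728) (.leaf 196231217)) (.node (.leaf 318111792) (.leaf 361074610))) (.node (.node (.leaf 12978324) (.leaf 357914462)) (.node (.leaf 279482160) (.leaf 151371825)))) (.node (.node (.node (.leaf 17399858) (.leaf 191401510)) (.node (.leaf 281780066) (.leaf 312828350))) (.node (.node (.leaf 150503473) (.leaf 151339057)) (.node (.leaf 116035422) (.leaf 357924913)))))))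

/-- A Schreier factor, part 519. -/
def facCodePart519 : Janko1.Tree ℕ := (.node (.node (.node (.node (.node (.node (.leaf 159891504) (.leaf 62619698)) (.node (.leaf 179789302) (.leaf 49551148))) (.node (.node (.leaf 375062577) (.leaf 66781234)) (.node (.leaf 112476208) (.leaf 183550002)))) (.node (.node (.node (.leaf 361891236) (.leaf 179716146)) (.node (.leaf 147311242) (.leaf 166920242))) (.node (.node (.leaf 58015792) (.leaf 9076785)) (.node (.leaf 303202352) (.leaf 91701297))))) (.node (.node (.node (.node (.leaf 255166110) (.leaf 15962186)) (.node (.leaf 31522864) (.leaf 280264753))) (.node (.node (.leaf 252739634) (.leaf 253755441)) (.node (.leaf 68616242) (.leaf 97435697)))) (.node (.node (.node (.leaf 38917053) (.leaf 253739057)) (.node (.leaf 67602209) (.leaf 15974449))) (.node (.node (.leaf 97484848) (.leaf 138642601)) (.node (.leaf 74062060) (.leaf 147636274)))))) (.node (.node (.node (.node (.node (.leaf 274863249) (.leaf 151126066)) (.node (.leaf 253839798) (.leaf 148029600))) (.node (.node (.leaf 252756018) (.leaf 153550898))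 (.node (.leaf 64585778) (.leaf 143097906)))) (.node (.node (.node (.leaf 59449572) (.leaf 139591730)) (.node (.leaf 81662746) (.leaf 26548600))) (.node (.node (.leaf 245071920) (.leaf 75828976)) (.node (.leaf 279240052) (.leaf 26534314))))) (.node (.node (.node (.node (.leaf 249331760) (.leaf 285741209)) (.node (.leaf 104448048) (.leaf 289275953))) (.node (.node (.leaf 154419249) (.leaf 245022769)) (.node (.leaf 294293005) (.leaf 165085234)))) (.node (.node (.node (.leaf 307535102) (.leaf 174610620)) (.node (.leaf 379174961) (.leaf 4086413))) (.node (.node (.leaf 367673392) (.leaf 60358706)) (.node (.leaf 314048560) (.leaf 22826029)))))))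

/-- A Schreier factor, part 520. -/
def facCodePart520 : Janko1.Tree ℕ := (.node (.node (.node (.node (.node (.node (.leaf 346300741) (.leaf 55775537)) (.node (.leaf 329154609) (.leaf 43309402))) (.node (.node (.leaf 18907186) (.leaf 169754673)) (.node (.leaf 157141149) (.leaf 369836081)))) (.node (.node (.node (.leaf 14483506) (.leaf 343070524)) (.node (.leaf 134562408) (.leaf 236355633))) (.node (.node (.leaf 263880754) (.leaf 236372017)) (.node (.leaf 114106444) (.leaf 343048241))))) (.node (.node (.node (.node (.leaf 299778098) (.leaf 343146545)) (.node (.leaf 261753904) (.leaf 369822808))) (.node (.node (.leaf 368513816) (.leaf 375218300)) (.node (.leaf 363337389) (.leaf 375308337)))) (.node (.node (.node (.leaf 309641264) (.leaf 178143281)) (.node (.leaf 374997041) (.leaf 217923633))) (.node (.node (.leaf 376291376) (.leaf 218026574)) (.node (.leaf 323278374) (.leaf 330975560)))))) (.node (.node (.node (.node (.node (.leaf 315342897) (.leaf 330989617)) (.node (.leaf 159940656) (.leaf 331055153))) (.node (.node (.leaf 186391272) (.leaf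 217890865)) (.node (.leaf 333692977) (.leaf 217989169)))) (.node (.node (.node (.leaf 322027569) (.leaf 178110513)) (.node (.leaf 179847416) (.leaf 178208817))) (.node (.node (.leaf 206356528) (.leaf 375226417)) (.node (.leaf 340197425) (.leaf 375341105))))) (.node (.node (.node (.node (.leaf 80697742) (.leaf 66077990)) (.node (.leaf 297436096) (.leaf 45563954))) (.node (.node (.leaf 50791853) (.leaf 61872450)) (.node (.leaf 114133146) (.leaf 33275954)))) (.node (.node (.node (.leaf 299831917) (.leaf 66723194)) (.node (.leaf 303125176) (.leaf 166150194))) (.node (.node (.leaf 249715337) (.leaf 143316662)) (.node (.leaf 353490816) (.leaf 170203630)))))))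

/-- A Schreier factor, part 521. -/
def facCodePart521 : Janko1.Tree ℕ := (.node (.node (.node (.node (.node (.node (.leaf 373030961) (.leaf 156663858)) (.node (.leaf 298762288) (.leaf 183468082))) (.node (.node (.leaf 245547056) (.leaf 153026610)) (.node (.leaf 317772020) (.leaf 156324212)))) (.node (.node (.node (.leaf 58105800) (.leaf 182980250)) (.node (.leaf 89735216) (.leaf 153452594))) (.node (.node (.leaf 81838128) (.leaf 142573618)) (.node (.leaf 171087158) (.leaf 43424809))))) (.node (.node (.node (.node (.leaf 208576396) (.leaf 294914561)) (.node (.leaf 158253106) (.leaf 268213081))) (.node (.node (.leaf 211877938) (.leaf 123224113)) (.node (.leaf 120414393) (.leaf 123243025)))) (.node (.node (.node (.leaf 24068144) (.leaf 268173361)) (.node (.leaf 377016205) (.leaf 268276994))) (.node (.node (.leaf 343982130) (.leaf 294879281)) (.node (.leaf 15286320) (.leaf 43335729)))))) (.node (.node (.node (.node (.node (.leaf 379165046) (.leaf 43434033)) (.node (.leaf 377323569) (.leaf 307003441))) (.node (.node (.leaf 294194428) (.leaf 307106010))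 (.node (.leaf 360243090) (.leaf 66131442)))) (.node (.node (.node (.leaf 307478576) (.leaf 113106850)) (.node (.leaf 324754809) (.leaf 262375970))) (.node (.node (.leaf 41746480) (.leaf 262438961)) (.node (.leaf 74285104) (.leaf 113016881))))) (.node (.node (.node (.node (.leaf 66355248) (.leaf 66109489)) (.node (.leaf 97746992) (.leaf 307019825))) (.node (.node (.leaf 155173752) (.leaf 138248242)) (.node (.leaf 164266033) (.leaf 164601080)))) (.node (.node (.node (.leaf 137969713) (.leaf 135447518)) (.node (.leaf 208609396) (.leaf 161678853))) (.node (.node (.leaf 104349744) (.leaf 164986930)) (.node (.leaf 128598064) (.leaf 174522418)))))))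

/-- A Schreier factor, part 522. -/
def facCodePart522 : Janko1.Tree ℕ := (.node (.node (.node (.node (.node (.node (.leaf 19464240) (.leaf 11288626)) (.node (.leaf 116186785) (.leaf 50094216))) (.node (.node (.leaf 323895346) (.leaf 66633778)) (.node (.leaf 201146417) (.leaf 49446962)))) (.node (.node (.node (.leaf 353886346) (.leaf 139806986)) (.node (.leaf 371574606) (.leaf 349900962))) (.node (.node (.leaf 78289388) (.leaf 323013981)) (.node (.leaf 45897665) (.leaf 206457013))))) (.node (.node (.node (.node (.leaf 300810288) (.leaf 323082248)) (.node (.leaf 337756209) (.leaf 349945905))) (.node (.node (.leaf 319477514) (.leaf 139780128)) (.node (.leaf 2644832) (.leaf 135036977)))) (.node (.node (.node (.leaf 254856862) (.leaf 319360037)) (.node (.leaf 127913685) (.leaf 319310516))) (.node (.node (.leaf 131236012) (.leaf 346357809)) (.node (.leaf 99090481) (.leaf 135118897)))))) (.node (.node (.node (.node (.node (.leaf 272646193) (.leaf 39927858)) (.node (.leaf 255186080) (.leaf 9012462))) (.node (.node (.leaf 254918706) (.leaf 62570546))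 (.node (.leaf 290471986) (.leaf 32423986)))) (.node (.node (.node (.leaf 12439469) (.leaf 16122062)) (.node (.leaf 91278120) (.leaf 45650698))) (.node (.node (.leaf 64770896) (.leaf 61898802)) (.node (.leaf 45603226) (.leaf 153162398))))) (.node (.node (.node (.node (.leaf 279790100) (.leaf 192987185)) (.node (.leaf 297926705) (.leaf 313822250))) (.node (.node (.leaf 268206129) (.leaf 313917489)) (.node (.leaf 323878962) (.leaf 355650674)))) (.node (.node (.node (.leaf 359809074) (.leaf 147750961)) (.node (.leaf 207754060) (.leaf 188055601))) (.node (.node (.leaf 37505957) (.leaf 59916338)) (.node (.leaf 349388849) (.leaf 43565106)))))))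

/-- A Schreier factor, part 523. -/
def facCodePart523 : Janko1.Tree ℕ := (.node (.node (.node (.node (.node (.node (.leaf 367280177) (.leaf 4671969)) (.node (.leaf 324305042) (.leaf 4161586))) (.node (.node (.leaf 251808088) (.leaf 22584262)) (.node (.leaf 12746802) (.leaf 134877233)))) (.node (.node (.node (.leaf 79088661) (.leaf 165300773)) (.node (.leaf 48447538) (.leaf 177995826))) (.node (.node (.leaf 213879258) (.leaf 135528972)) (.node (.leaf 374161456) (.leaf 248189962))))) (.node (.node (.node (.node (.leaf 328237105) (.leaf 274874417)) (.node (.leaf 310400220) (.leaf 3967344))) (.node (.node (.leaf 21644581) (.leaf 11321428)) (.node (.leaf 315146290) (.leaf 251583689)))) (.node (.node (.node (.leaf 172409154) (.leaf 93741338)) (.node (.leaf 114854781) (.leaf 278036529))) (.node (.node (.leaf 83492913) (.leaf 11458574)) (.node (.leaf 284491825) (.leaf 166203034)))))) (.node (.node (.node (.node (.node (.leaf 162906160) (.leaf 179675509)) (.node (.leaf 325064322) (.leaf 156254258))) (.node (.node (.leaf 378044464) (.leaf 180111568))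 (.node (.leaf 263838801) (.leaf 166871090)))) (.node (.node (.node (.leaf 351176649) (.leaf 151011378)) (.node (.leaf 29769777) (.leaf 138182706))) (.node (.node (.leaf 63307825) (.leaf 161726514)) (.node (.leaf 172364646) (.leaf 174594849))))) (.node (.node (.node (.node (.leaf 169660049) (.leaf 22697829)) (.node (.leaf 306943849) (.leaf 239409580))) (.node (.node (.leaf 242171953) (.leaf 71860273)) (.node (.leaf 320324302) (.leaf 22633420)))) (.node (.node (.node (.leaf 246366258) (.leaf 286818353)) (.node (.leaf 12779570) (.leaf 77725745))) (.node (.node (.leaf 79107308) (.leaf 242864072)) (.node (.leaf 194036196) (.leaf 77791281)))))))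

/-- A Schreier factor, part 524. -/
def facCodePart524 : Janko1.Tree ℕ := (.node (.node (.node (.node (.node (.node (.leaf 189776844) (.leaf 153502100)) (.node (.leaf 163135536) (.leaf 182911026))) (.node (.node (.leaf 358170673) (.leaf 169689138)) (.node (.leaf 332875966) (.leaf 170155936)))) (.node (.node (.node (.leaf 314966065) (.leaf 139559777)) (.node (.leaf 325311368) (.leaf 152830002))) (.node (.node (.leaf 319392424) (.leaf 66559384)) (.node (.leaf 371343409) (.leaf 66142258))))) (.node (.node (.node (.node (.leaf 45991888) (.leaf 49348658)) (.node (.leaf 197492785) (.leaf 166363185))) (.node (.node (.leaf 158474013) (.leaf 166417022)) (.node (.leaf 227513290) (.leaf 233030866)))) (.node (.node (.node (.leaf 379312118) (.leaf 341000370)) (.node (.leaf 116097072) (.leaf 341065777))) (.node (.node (.leaf 10534960) (.leaf 367607857)) (.node (.leaf 341922686) (.leaf 367659685)))))) (.node (.node (.node (.node (.node (.leaf 257252736) (.leaf 364232753)) (.node (.leaf 238460082) (.leaf 337726313))) (.node (.node (.leaf 293191729) (.leaf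 227950641)) (.node (.leaf 99975952) (.leaf 22814957)))) (.node (.node (.node (.leaf 131367946) (.leaf 55754802)) (.node (.leaf 272666849) (.leaf 39862322))) (.node (.node (.leaf 242909940) (.leaf 29282421)) (.node (.leaf 261539376) (.leaf 11950440))))) (.node (.node (.node (.node (.leaf 286441521) (.leaf 11525641)) (.node (.leaf 100007986) (.leaf 179801753))) (.node (.node (.leaf 122706970) (.leaf 179863601)) (.node (.leaf 79222272) (.leaf 219647122)))) (.node (.node (.node (.leaf 31162418) (.leaf 219748057)) (.node (.leaf 272697105) (.leaf 332152881))) (.node (.node (.leaf 324239409) (.leaf 372981809)) (.node (.leaf 331210505) (.leaf 328605010)))))))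

/-- A Schreier factor, part 525. -/
def facCodePart525 : Janko1.Tree ℕ := (.node (.node (.node (.node (.node (.node (.leaf 305135664) (.leaf 328679473)) (.node (.leaf 94060592) (.leaf 174866481))) (.node (.node (.leaf 367050801) (.leaf 174918738)) (.node (.leaf 208306976) (.leaf 26591282)))) (.node (.node (.node (.leaf 190758961) (.leaf 9191474)) (.node (.leaf 158531634) (.leaf 43504628))) (.node (.node (.leaf 557104) (.leaf 9617458)) (.node (.leaf 341901362) (.leaf 43925554))))) (.node (.node (.node (.node (.leaf 379371570) (.leaf 27246642)) (.node (.leaf 124342676) (.leaf 60544678))) (.node (.node (.leaf 316230836) (.leaf 151673905)) (.node (.leaf 310320374) (.leaf 178372658)))) (.node (.node (.node (.leaf 346832945) (.leaf 138117170)) (.node (.leaf 84462398) (.leaf 119128113))) (.node (.node (.leaf 213958705) (.leaf 119193649)) (.node (.leaf 297570218) (.leaf 265830449)))))) (.node (.node (.node (.node (.node (.leaf 110395442) (.leaf 265912369)) (.node (.leaf 50596430) (.leaf 292620498))) (.node (.node (.leaf 266312742) (.leaf 296017709))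 (.node (.leaf 246405394) (.leaf 269418545)))) (.node (.node (.node (.leaf 162988080) (.leaf 45514801)) (.node (.leaf 87310385) (.leaf 139526194))) (.node (.node (.leaf 145276978) (.leaf 166117426)) (.node (.leaf 195084338) (.leaf 153010226))))) (.node (.node (.node (.node (.leaf 371052492) (.leaf 153427833)) (.node (.leaf 21880104) (.leaf 180064797))) (.node (.node (.leaf 50675761) (.leaf 140148786)) (.node (.leaf 333270658) (.leaf 166789170)))) (.node (.node (.node (.leaf 315965488) (.leaf 148209714)) (.node (.leaf 242106621) (.leaf 175325234))) (.node (.node (.leaf 270829873) (.leaf 135433633)) (.node (.leaf 169691674) (.leaf 161240969)))))))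

/-- A Schreier factor, part 526. -/
def facCodePart526 : Janko1.Tree ℕ := (.node (.node (.node (.node (.node (.node (.leaf 306742493) (.leaf 174507349)) (.node (.leaf 106905649) (.leaf 55723041))) (.node (.node (.leaf 42601945) (.leaf 256969501)) (.node (.leaf 333286020) (.leaf 257018513)))) (.node (.node (.node (.leaf 371015730) (.leaf 301613105)) (.node (.leaf 29983380) (.leaf 301697681))) (.node (.node (.leaf 311640112) (.leaf 304922673)) (.node (.leaf 351473350) (.leaf 109019185))))) (.node (.node (.node (.node (.leaf 375462633) (.leaf 61931604)) (.node (.leaf 84427392) (.leaf 156172338))) (.node (.node (.leaf 220533889) (.leaf 182812722)) (.node (.leaf 204013617) (.leaf 142704690)))) (.node (.node (.node (.leaf 14703152) (.leaf 169656370)) (.node (.leaf 50562465) (.leaf 143163442))) (.node (.node (.leaf 278448130) (.leaf 289620018)) (.node (.leaf 336314417) (.leaf 287330866)))))) (.node (.node (.node (.node (.node (.leaf 109348606) (.leaf 298336306)) (.node (.leaf 171169152) (.leaf 352834284))) (.node (.node (.leaf 237568050) (.leaf 143507505))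 (.node (.leaf 53018672) (.leaf 210518065)))) (.node (.node (.node (.leaf 292716593) (.leaf 349503537)) (.node (.leaf 273924144) (.leaf 205602865))) (.node (.node (.leaf 255557681) (.leaf 138874156)) (.node (.leaf 101504174) (.leaf 349522468))))) (.node (.node (.node (.node (.leaf 34668593) (.leaf 301842482)) (.node (.leaf 252875665) (.leaf 304119858))) (.node (.node (.leaf 60964912) (.leaf 302268466)) (.node (.leaf 290278013) (.leaf 276938802)))) (.node (.node (.node (.leaf 278183984) (.leaf 287474044)) (.node (.leaf 297115338) (.leaf 298457381))) (.node (.node (.leaf 264782690) (.leaf 296615986)) (.node (.leaf 109058620) (.leaf 296157654)))))))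

/-- A Schreier factor, part 527. -/
def facCodePart527 : Janko1.Tree ℕ := (.node (.node (.node (.node (.node (.node (.leaf 33852896) (.leaf 197017649)) (.node (.leaf 290314770) (.leaf 316834984))) (.node (.node (.leaf 360193985) (.leaf 358498353)) (.node (.leaf 366582180) (.leaf 313491505)))) (.node (.node (.node (.leaf 324862001) (.leaf 192086065)) (.node (.leaf 101875760) (.leaf 313475121))) (.node (.node (.leaf 331759665) (.leaf 152018041)) (.node (.leaf 154533937) (.leaf 303972402))))) (.node (.node (.node (.node (.leaf 69238832) (.leaf 277446706)) (.node (.leaf 61197858) (.leaf 304581781))) (.node (.node (.leaf 346214600) (.leaf 355369642)) (.node (.leaf 149585968) (.leaf 357597234)))) (.node (.node (.node (.leaf 223086604) (.leaf 366299168)) (.node (.leaf 52499308) (.leaf 92358425))) (.node (.node (.leaf 78970930) (.leaf 92323889)) (.node (.leaf 17354065) (.leaf 9682993)))))) (.node (.node (.node (.node (.node (.leaf 301924401) (.leaf 281100337)) (.node (.leaf 281870385) (.leaf 254428860))) (.node (.node (.leaf 266928177) (.leaf 98271281))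 (.node (.leaf 168673330) (.leaf 378490689)))) (.node (.node (.node (.leaf 18022449) (.leaf 376062002)) (.node (.leaf 82657329) (.leaf 350322738))) (.node (.node (.leaf 350978098) (.leaf 351862834)) (.node (.leaf 277286090) (.leaf 357485250))))) (.node (.node (.node (.node (.leaf 149200238) (.leaf 355205170)) (.node (.leaf 271466545) (.leaf 358219826))) (.node (.node (.leaf 8885076) (.leaf 286508516)) (.node (.leaf 350998297) (.leaf 242419914)))) (.node (.node (.node (.leaf 347671533) (.leaf 33228625)) (.node (.leaf 350864552) (.leaf 289833009))) (.node (.node (.leaf 343343152) (.leaf 82332009)) (.node (.leaf 340262961) (.leaf 33243185)))))))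

/-- A Schreier factor, part 528. -/
def facCodePart528 : Janko1.Tree ℕ := (.node (.node (.node (.node (.node (.node (.leaf 52461618) (.leaf 376560469)) (.node (.leaf 140673073) (.leaf 377978930))) (.node (.node (.leaf 177313713) (.leaf 351979228)) (.node (.leaf 112050226) (.leaf 350191666)))) (.node (.node (.node (.leaf 17301554) (.leaf 352354354)) (.node (.leaf 281673778) (.leaf 349732914))) (.node (.node (.leaf 79005368) (.leaf 378634290)) (.node (.leaf 344080620) (.leaf 295994212))))) (.node (.node (.node (.node (.leaf 379028508) (.leaf 281067570)) (.node (.leaf 147248653) (.leaf 278726061))) (.node (.node (.leaf 174431625) (.leaf 298227698)) (.node (.leaf 283131952) (.leaf 343834673)))) (.node (.node (.node (.leaf 60918596) (.leaf 165527569)) (.node (.leaf 34471985) (.leaf 165486045))) (.node (.node (.leaf 35520562) (.leaf 165517180)) (.node (.leaf 1474608) (.leaf 286302632)))))) (.node (.node (.node (.node (.node (.leaf 255694134) (.leaf 283690153)) (.node (.leaf 274979916) (.leaf 304039748))) (.node (.node (.leaf 292902330) (.leaf 284196914))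 (.node (.leaf 269442998) (.leaf 302177640)))) (.node (.node (.node (.leaf 63029298) (.leaf 280461362)) (.node (.leaf 270598194) (.leaf 298401842))) (.node (.node (.leaf 26133442) (.leaf 280959440)) (.node (.leaf 100145418) (.leaf 278237842))))) (.node (.node (.node (.node (.leaf 268835742) (.leaf 183980658)) (.node (.leaf 251185152) (.leaf 378912817))) (.node (.node (.leaf 282804272) (.leaf 378896433)) (.node (.leaf 297353265) (.leaf 183926964)))) (.node (.node (.node (.leaf 344119880) (.leaf 331726897)) (.node (.leaf 379064240) (.leaf 218644529))) (.node (.node (.leaf 155189298) (.leaf 218744598)) (.node (.leaf 208471469) (.leaf 331694129)))))))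

/-- A Schreier factor, part 529. -/
def facCodePart529 : Janko1.Tree ℕ := (.node (.node (.node (.node (.node (.node (.leaf 324929937) (.leaf 285770242)) (.node (.leaf 101944512) (.leaf 303874098))) (.node (.node (.leaf 287246068) (.leaf 283595618)) (.node (.leaf 348782641) (.leaf 301581262)))) (.node (.node (.node (.leaf 366772273) (.leaf 286474290)) (.node (.leaf 269754560) (.leaf 304480306))) (.node (.node (.leaf 261853986) (.leaf 363987688)) (.node (.leaf 297402418) (.leaf 349175858))))) (.node (.node (.node (.node (.leaf 134414385) (.leaf 346904606)) (.node (.leaf 84642445) (.leaf 348475486))) (.node (.node (.leaf 160781008) (.leaf 366218529)) (.node (.leaf 329007384) (.leaf 123997337)))) (.node (.node (.node (.leaf 223174833) (.leaf 268992561)) (.node (.leaf 379469873) (.leaf 123912241))) (.node (.node (.leaf 86966321) (.leaf 50118705)) (.node (.leaf 17776689) (.leaf 50036785)))))) (.node (.node (.node (.node (.node (.leaf 141811018) (.leaf 50108132)) (.node (.leaf 195280946) (.leaf 299015634))) (.node (.node (.leaf 136514669) (.leaf 361371849))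 (.node (.leaf 264388657) (.leaf 378412712)))) (.node (.node (.node (.leaf 246979182) (.leaf 358842418)) (.node (.leaf 215973936) (.leaf 375963698))) (.node (.node (.leaf 361005104) (.leaf 360972338)) (.node (.leaf 302143377) (.leaf 359288721))))) (.node (.node (.node (.node (.leaf 126402609) (.leaf 348635186)) (.node (.leaf 370939805) (.leaf 346710361))) (.node (.node (.leaf 94997946) (.leaf 364513844)) (.node (.leaf 8683569) (.leaf 349050065)))) (.node (.node (.node (.leaf 141819954) (.leaf 366790614)) (.node (.leaf 195313714) (.leaf 346275890))) (.node (.node (.leaf 43155505) (.leaf 364087490)) (.node (.leaf 242683162) (.leaf 304533977)))))))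

/-- A Schreier factor, part 530. -/
def facCodePart530 : Janko1.Tree ℕ := (.node (.node (.node (.node (.node (.node (.leaf 222896372) (.leaf 304630082)) (.node (.leaf 306369094) (.leaf 60555313))) (.node (.node (.leaf 338640944) (.leaf 60637233)) (.node (.leaf 46759986) (.leaf 263077937)))) (.node (.node (.node (.leaf 297418802) (.leaf 113639473)) (.node (.leaf 110271262) (.leaf 113745254))) (.node (.node (.leaf 140544210) (.leaf 113657085)) (.node (.leaf 19021874) (.leaf 113754161))))) (.node (.node (.node (.node (.leaf 84607026) (.leaf 263061553)) (.node (.leaf 361271962) (.leaf 358629426))) (.node (.node (.leaf 312524850) (.leaf 262980368)) (.node (.leaf 348586034) (.leaf 242991154)))) (.node (.node (.node (.leaf 230772797) (.leaf 245055538)) (.node (.leaf 220807217) (.leaf 252223309))) (.node (.node (.leaf 194298478) (.leaf 271646770)) (.node (.leaf 89980976) (.leaf 316751921)))))) (.node (.node (.node (.node (.node (.leaf 82008342) (.leaf 156762161)) (.node (.leaf 241860658) (.leaf 313360433))) (.node (.node (.leaf 274989450) (.leaf 358323458))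 (.node (.leaf 95278413) (.leaf 151865357)))) (.node (.node (.node (.leaf 106528817) (.leaf 191924401)) (.node (.leaf 75467944) (.leaf 313379902))) (.node (.node (.leaf 66196878) (.leaf 269013774)) (.node (.leaf 259049980) (.leaf 266623741))))) (.node (.node (.node (.node (.leaf 7733298) (.leaf 253853746)) (.node (.leaf 54771761) (.leaf 269926450))) (.node (.node (.leaf 39944242) (.leaf 272220210)) (.node (.leaf 103678002) (.leaf 251664450)))) (.node (.node (.node (.leaf 107629448) (.leaf 245710898)) (.node (.leaf 284200093) (.leaf 352797792))) (.node (.node (.leaf 244963306) (.leaf 143412306)) (.node (.leaf 249184493) (.leaf 325878076)))))))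

/-- A Schreier factor, part 531. -/
def facCodePart531 : Janko1.Tree ℕ := (.node (.node (.node (.node (.node (.node (.leaf 5701680) (.leaf 205409688)) (.node (.leaf 31670320) (.leaf 349290545))) (.node (.node (.leaf 128581680) (.leaf 138788913)) (.node (.leaf 165281842) (.leaf 138805297)))) (.node (.node (.node (.leaf 218202162) (.leaf 349274161)) (.node (.leaf 214914701) (.leaf 205430622))) (.node (.node (.leaf 365104193) (.leaf 241753140)) (.node (.leaf 362627121) (.leaf 268402738))))) (.node (.node (.node (.node (.leaf 254033968) (.leaf 239472746)) (.node (.leaf 250775921) (.leaf 337543218))) (.node (.node (.leaf 286130649) (.leaf 322207794)) (.node (.leaf 248416189) (.leaf 331401184)))) (.node (.node (.node (.leaf 233817006) (.leaf 319782962)) (.node (.leaf 166502464) (.leaf 286284056))) (.node (.node (.leaf 341876368) (.leaf 76431409)) (.node (.leaf 355751936) (.leaf 82135358)))))) (.node (.node (.node (.node (.node (.leaf 321818109) (.leaf 33134854)) (.node (.leaf 110755889) (.leaf 289652785))) (.node (.node (.leaf 79715258) (.leaf 33120062))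 (.node (.leaf 91570225) (.leaf 245681800)))) (.node (.node (.node (.leaf 179618636) (.leaf 343610472)) (.node (.leaf 159760432) (.leaf 332056310))) (.node (.node (.leaf 261621629) (.leaf 334384445)) (.node (.leaf 244369072) (.leaf 314196018))))) (.node (.node (.node (.node (.leaf 268501041) (.leaf 341527841)) (.node (.leaf 250888241) (.leaf 325058610))) (.node (.node (.leaf 34062385) (.leaf 310804530)) (.node (.leaf 67223601) (.leaf 330749101)))) (.node (.node (.node (.leaf 38567985) (.leaf 338116658)) (.node (.leaf 228524082) (.leaf 313196594))) (.node (.node (.leaf 291192881) (.leaf 92160049)) (.node (.leaf 275825294) (.leaf 277565168)))))))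

/-- A Schreier factor, part 532. -/
def facCodePart532 : Janko1.Tree ℕ := (.node (.node (.node (.node (.node (.node (.leaf 293670461) (.leaf 9553801)) (.node (.leaf 313592249) (.leaf 9568305))) (.node (.node (.leaf 371605552) (.leaf 92176433)) (.node (.leaf 86949938) (.leaf 254314200)))) (.node (.node (.node (.leaf 25856350) (.leaf 280942789)) (.node (.leaf 90988264) (.leaf 16684048))) (.node (.node (.leaf 56708769) (.leaf 16701950)) (.node (.leaf 124076082) (.leaf 98061920))))) (.node (.node (.node (.node (.leaf 373460518) (.leaf 315920405)) (.node (.leaf 371294257) (.leaf 323321906))) (.node (.node (.leaf 309395504) (.leaf 325599282)) (.node (.leaf 322961456) (.leaf 313579024)))) (.node (.node (.node (.leaf 376176688) (.leaf 334839858)) (.node (.leaf 249561136) (.leaf 251561270))) (.node (.node (.leaf 321830961) (.leaf 269360916)) (.node (.leaf 245336112) (.leaf 245645362)))))) (.node (.node (.node (.node (.node (.leaf 358473488) (.leaf 243367986)) (.node (.leaf 58264608) (.leaf 260770516))) (.node (.node (.leaf 351717282) (.leaf 253810778))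 (.node (.leaf 49843173) (.leaf 271570254)))) (.node (.node (.node (.leaf 328354785) (.leaf 378800780)) (.node (.leaf 15129034) (.leaf 223756901))) (.node (.node (.leaf 252674132) (.leaf 331664153)) (.node (.leaf 240599088) (.leaf 178571672))))) (.node (.node (.node (.node (.leaf 241797270) (.leaf 178667569)) (.node (.leaf 66256944) (.leaf 178634801))) (.node (.node (.leaf 126812209) (.leaf 268943410)) (.node (.leaf 106643505) (.leaf 257114162)))) (.node (.node (.node (.leaf 5427529) (.leaf 248829504)) (.node (.leaf 257015858) (.leaf 266502194))) (.node (.node (.leaf 298254384) (.leaf 262389810)) (.node (.leaf 266010673) (.leaf 252149810)))))))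

/-- A Schreier factor, part 533. -/
def facCodePart533 : Janko1.Tree ℕ := (.node (.node (.node (.node (.node (.node (.leaf 89604144) (.leaf 242909234)) (.node (.leaf 302170161) (.leaf 260227122))) (.node (.node (.leaf 82924297) (.leaf 236983340)) (.node (.leaf 292804417) (.leaf 370442289)))) (.node (.node (.node (.leaf 294993970) (.leaf 236998457)) (.node (.leaf 328880678) (.leaf 340378936))) (.node (.node (.leaf 293978160) (.leaf 340443185)) (.node (.leaf 344293425) (.leaf 165367732))))) (.node (.node (.node (.node (.leaf 307383205) (.leaf 165445681)) (.node (.leaf 97976368) (.leaf 340344881))) (.node (.node (.leaf 210862129) (.leaf 250609714)) (.node (.leaf 364167876) (.leaf 242499656)))) (.node (.node (.node (.leaf 128486741) (.leaf 259818205)) (.node (.leaf 318277328) (.leaf 319129897))) (.node (.node (.leaf 323911729) (.leaf 331284530)) (.node (.leaf 173398212) (.leaf 329044706)))))) (.node (.node (.node (.node (.node (.leaf 360433982) (.leaf 321557161)) (.node (.leaf 166608944) (.leaf 339525682))) (.node (.node (.leaf 92422194) (.leaf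 107626545)) (.node (.leaf 88391730) (.leaf 304383186)))) (.node (.node (.node (.leaf 54870066) (.leaf 107597618)) (.node (.leaf 266174514) (.leaf 107675697))) (.node (.node (.leaf 322651568) (.leaf 262931756)) (.node (.leaf 244269105) (.leaf 263012401))))) (.node (.node (.node (.node (.leaf 309198896) (.leaf 66584625)) (.node (.leaf 280189370) (.leaf 66569894))) (.node (.node (.leaf 179707282) (.leaf 66657390)) (.node (.leaf 286690073) (.leaf 262949388)))) (.node (.node (.node (.leaf 202039312) (.leaf 325828658)) (.node (.leaf 110854324) (.leaf 343539762))) (.node (.node (.leaf 205406258) (.leaf 313786418)) (.node (.leaf 123011121) (.leaf 331956274)))))))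

/-- A Schreier factor, part 534. -/
def facCodePart534 : Janko1.Tree ℕ := (.node (.node (.node (.node (.node (.node (.leaf 273039409) (.leaf 312574002)) (.node (.leaf 367384188) (.leaf 330661938))) (.node (.node (.leaf 257481510) (.leaf 319708705)) (.node (.leaf 192806960) (.leaf 322142258)))) (.node (.node (.node (.leaf 199624737) (.leaf 310330021)) (.node (.leaf 152043570) (.leaf 123818228))) (.node (.node (.leaf 71614513) (.leaf 295387185)) (.node (.leaf 148559270) (.leaf 295501873))))) (.node (.node (.node (.node (.leaf 375357490) (.leaf 295370801)) (.node (.leaf 34258993) (.leaf 295485489))) (.node (.node (.leaf 373080114) (.leaf 123764785)) (.node (.leaf 3227697) (.leaf 123830321)))) (.node (.node (.node (.leaf 337674882) (.leaf 272171984)) (.node (.leaf 373233138) (.leaf 50022014))) (.node (.node (.leaf 206487600) (.leaf 272154673)) (.node (.leaf 200558732) (.leaf 314444066)))))) (.node (.node (.node (.node (.node (.leaf 197214257) (.leaf 325271602)) (.node (.leaf 302039090) (.leaf 322867632))) (.node (.node (.leaf 357946990) (.leaf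 98258041)) (.node (.leaf 322359164) (.leaf 113213490)))) (.node (.node (.node (.leaf 121494225) (.leaf 109666036)) (.node (.leaf 315703345) (.leaf 126042162))) (.node (.node (.leaf 113281422) (.leaf 129499186)) (.node (.leaf 140940684) (.leaf 153223268))))) (.node (.node (.node (.node (.leaf 88817712) (.leaf 153190449)) (.node (.leaf 80924336) (.leaf 314022630))) (.node (.node (.leaf 348408576) (.leaf 193073749)) (.node (.leaf 288114546) (.leaf 310558769)))) (.node (.node (.node (.leaf 253231153) (.leaf 147931965)) (.node (.leaf 105043657) (.leaf 188177440))) (.node (.node (.leaf 44056626) (.leaf 119210034)) (.node (.leaf 30228529) (.leaf 124010546)))))))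

/-- A Schreier factor, part 535. -/
def facCodePart535 : Janko1.Tree ℕ := (.node (.node (.node (.node (.node (.node (.leaf 8618033) (.leaf 103432242)) (.node (.leaf 7932516) (.leaf 76009864))) (.node (.node (.leaf 2768946) (.leaf 88298373)) (.node (.leaf 299352452) (.leaf 109805618)))) (.node (.node (.node (.leaf 262576230) (.leaf 113115186)) (.node (.leaf 301580337) (.leaf 129663026))) (.node (.node (.leaf 267243732) (.leaf 125878322)) (.node (.leaf 16097576) (.leaf 98074674))))) (.node (.node (.node (.node (.leaf 264273988) (.leaf 93785953)) (.node (.leaf 266571124) (.leaf 82299384))) (.node (.node (.leaf 50921521) (.leaf 323128382)) (.node (.leaf 103828277) (.leaf 206490418)))) (.node (.node (.node (.leaf 107777354) (.leaf 350076977)) (.node (.leaf 239648818) (.leaf 350158897))) (.node (.node (.leaf 48518076) (.leaf 139940484)) (.node (.leaf 241978133) (.leaf 206585905)))))) (.node (.node (.node (.node (.node (.leaf 56789904) (.leaf 323240868)) (.node (.leaf 258428704) (.leaf 201590885))) (.node (.node (.leaf 272145657) (.leaf 346587185))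 (.node (.leaf 7028784) (.leaf 346542550)))) (.node (.node (.node (.leaf 329422253) (.leaf 135233585)) (.node (.leaf 184352817) (.leaf 91734066))) (.node (.node (.leaf 215061702) (.leaf 88146342)) (.node (.leaf 65426642) (.leaf 107872954))))) (.node (.node (.node (.node (.leaf 350082380) (.leaf 191649437)) (.node (.leaf 313114673) (.leaf 217862656))) (.node (.node (.leaf 226298177) (.leaf 214974514)) (.node (.leaf 219676720) (.leaf 231130392)))) (.node (.node (.node (.leaf 60768306) (.leaf 72106033)) (.node (.leaf 56574002) (.leaf 283672625))) (.node (.node (.leaf 154271793) (.leaf 22790193)) (.node (.leaf 286015538) (.leaf 283628022)))))))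

/-- A Schreier factor, part 536. -/
def facCodePart536 : Janko1.Tree ℕ := (.node (.node (.node (.node (.node (.node (.leaf 283774576) (.leaf 72061324)) (.node (.leaf 345210928) (.leaf 286851121))) (.node (.node (.leaf 212699406) (.leaf 77972670)) (.node (.leaf 175571661) (.leaf 232752113)))) (.node (.node (.node (.leaf 13549617) (.leaf 236896306)) (.node (.leaf 178638612) (.leaf 223461426))) (.node (.node (.leaf 78925654) (.leaf 196105186)) (.node (.leaf 355598386) (.leaf 193219349))))) (.node (.node (.node (.node (.leaf 357761074) (.leaf 209504306)) (.node (.leaf 336576560) (.leaf 228347334))) (.node (.node (.leaf 145866800) (.leaf 187826226)) (.node (.leaf 257954604) (.leaf 191794665)))) (.node (.node (.node (.leaf 67862577) (.leaf 248203984)) (.node (.leaf 231950218) (.leaf 87687217))) (.node (.node (.leaf 102629425) (.leaf 248270469)) (.node (.leaf 327583062) (.leaf 93848442)))))) (.node (.node (.node (.node (.node (.leaf 370627542) (.leaf 11573621)) (.node (.leaf 341213232) (.leaf 278249521))) (.node (.node (.leaf 133647830) (.leaf 278219146))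 (.node (.leaf 153108528) (.leaf 93765681)))) (.node (.node (.node (.leaf 335928342) (.leaf 251641905)) (.node (.leaf 174084194) (.leaf 193386849))) (.node (.node (.leaf 170754502) (.leaf 209608101)) (.node (.leaf 124207154) (.leaf 206700594))))) (.node (.node (.node (.node (.leaf 248561714) (.leaf 236732466)) (.node (.leaf 90833526) (.leaf 223648370))) (.node (.node (.leaf 150706614) (.leaf 81776790)) (.node (.leaf 24920112) (.leaf 219807793)))) (.node (.node (.node (.leaf 340361265) (.leaf 219889713)) (.node (.leaf 315760950) (.leaf 179921249))) (.node (.node (.leaf 9650960) (.leaf 175038709)) (.node (.leaf 76534620) (.leaf 373050040)))))))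

/-- A Schreier factor, part 537. -/
def facCodePart537 : Janko1.Tree ℕ := (.node (.node (.node (.node (.node (.node (.leaf 8355889) (.leaf 328795373)) (.node (.leaf 4727168) (.leaf 328933256))) (.node (.node (.leaf 72564786) (.leaf 214728753)) (.node (.leaf 32473136) (.leaf 87670834)))) (.node (.node (.node (.leaf 6623937) (.leaf 76471934)) (.node (.leaf 259620913) (.leaf 107642930))) (.node (.node (.leaf 105111805) (.leaf 103383090)) (.node (.leaf 257196082) (.leaf 109740846))))) (.node (.node (.node (.node (.leaf 292657734) (.leaf 81657906)) (.node (.leaf 259268946) (.leaf 129581106))) (.node (.node (.leaf 280494328) (.leaf 367726592)) (.node (.leaf 281477169) (.leaf 367771697)))) (.node (.node (.node (.leaf 299621058) (.leaf 166494257)) (.node (.leaf 262505821) (.leaf 166609953))) (.node (.node (.leaf 284820350) (.leaf 233078833)) (.node (.leaf 283590705) (.leaf 233160753)))))) (.node (.node (.node (.node (.node (.leaf 301849338) (.leaf 341133934)) (.node (.leaf 267178548) (.leaf 341216112))) (.node (.node (.leaf 330880888) (.leaf 337903665))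 (.node (.leaf 40622908) (.leaf 228081713)))) (.node (.node (.node (.leaf 328571216) (.leaf 161612912)) (.node (.leaf 364445745) (.leaf 87801906))) (.node (.node (.leaf 258375728) (.leaf 119259186)) (.node (.leaf 289603632) (.leaf 71980085))))) (.node (.node (.node (.node (.leaf 362127806) (.leaf 103243929)) (.node (.leaf 379903532) (.leaf 76628018))) (.node (.node (.leaf 272097412) (.leaf 107791457)) (.node (.leaf 137583912) (.leaf 191306880)))) (.node (.node (.node (.leaf 92554134) (.leaf 188354941)) (.node (.leaf 154017790) (.leaf 201916466))) (.node (.node (.leaf 180830257) (.leaf 231063602)) (.node (.leaf 146096176) (.leaf 103374640)))))))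

/-- A Schreier factor, part 538. -/
def facCodePart538 : Janko1.Tree ℕ := (.node (.node (.node (.node (.node (.node (.leaf 313212977) (.leaf 257105890)) (.node (.leaf 226345008) (.leaf 257230934))) (.node (.node (.leaf 219778865) (.leaf 55836721)) (.node (.leaf 13341820) (.leaf 61980721)))) (.node (.node (.node (.leaf 202168377) (.leaf 305023493)) (.node (.leaf 151863346) (.leaf 260423729))) (.node (.node (.leaf 205553714) (.leaf 109251188)) (.node (.leaf 262160433) (.leaf 232652850))))) (.node (.node (.node (.node (.leaf 244826161) (.leaf 210224172)) (.node (.leaf 232724126) (.leaf 236786822))) (.node (.node (.leaf 133365808) (.leaf 196713289)) (.node (.leaf 269107249) (.leaf 223395890)))) (.node (.node (.node (.leaf 251412529) (.leaf 192839730)) (.node (.leaf 212767854) (.leaf 219517956))) (.node (.node (.leaf 130662449) (.leaf 188514354)) (.node (.leaf 98811953) (.leaf 217677874)))))) (.node (.node (.node (.node (.node (.leaf 102531121) (.leaf 204836916)) (.node (.leaf 337939422) (.leaf 231181652))) (.node (.node (.leaf 308465614) (.leaf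 39321649)) (.node (.leaf 331989004) (.leaf 39403569)))) (.node (.node (.node (.leaf 354243510) (.leaf 119229112)) (.node (.leaf 275203721) (.leaf 119291953))) (.node (.node (.leaf 293132657) (.leaf 265945137)) (.node (.leaf 336478256) (.leaf 265998092))))) (.node (.node (.node (.node (.leaf 266272818) (.leaf 269484081)) (.node (.leaf 118194226) (.leaf 125375205))) (.node (.node (.leaf 59113522) (.leaf 45634884)) (.node (.leaf 122324453) (.leaf 296206385)))) (.node (.node (.node (.leaf 345554992) (.leaf 210111126)) (.node (.leaf 355355153) (.leaf 236666930))) (.node (.node (.leaf 370873354) (.leaf 196843641)) (.node (.leaf 341131312) (.leaf 223576114)))))))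

/-- A Schreier factor, part 539. -/
def facCodePart539 : Janko1.Tree ℕ := (.node (.node (.node (.node (.node (.node (.leaf 344637490) (.leaf 98238514)) (.node (.leaf 233769064) (.leaf 82121806))) (.node (.node (.leaf 211389474) (.leaf 113197106)) (.node (.leaf 108830532) (.leaf 94404658)))) (.node (.node (.node (.leaf 148471857) (.leaf 361234481)) (.node (.leaf 175473720) (.leaf 156470665))) (.node (.node (.leaf 228183845) (.leaf 316407857)) (.node (.leaf 201506916) (.leaf 196465788))))) (.node (.node (.node (.node (.leaf 131110138) (.leaf 357957681)) (.node (.leaf 67378321) (.leaf 151476218))) (.node (.node (.leaf 95739914) (.leaf 151486513)) (.node (.leaf 819248) (.leaf 191566462)))) (.node (.node (.node (.leaf 252018736) (.leaf 123977778)) (.node (.leaf 35799089) (.leaf 107692082))) (.node (.node (.leaf 94437424) (.leaf 103759922)) (.node (.leaf 99520272) (.leaf 91622241)))))) (.node (.node (.node (.node (.node (.leaf 131153970) (.leaf 78470044)) (.node (.leaf 306470426) (.leaf 129650404))) (.node (.node (.leaf 271171634) (.leaf 94208050))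 (.node (.leaf 27204269) (.leaf 325484593)))) (.node (.node (.node (.leaf 60393008) (.leaf 209902057)) (.node (.leaf 301105200) (.leaf 142999601))) (.node (.node (.leaf 247676976) (.leaf 352325640)) (.node (.leaf 123404337) (.leaf 352337969))))) (.node (.node (.node (.node (.leaf 91705081) (.leaf 142990978)) (.node (.leaf 54351986) (.leaf 209885720))) (.node (.node (.leaf 180768282) (.leaf 205094961)) (.node (.leaf 344690114) (.leaf 348839489)))) (.node (.node (.node (.leaf 101285936) (.leaf 348848177)) (.node (.leaf 1146928) (.leaf 138477690))) (.node (.node (.leaf 211435570) (.leaf 205078577)) (.node (.leaf 155664433) (.leaf 103926318)))))))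

/-- A Schreier factor, part 540. -/
def facCodePart540 : Janko1.Tree ℕ := (.node (.node (.node (.node (.node (.node (.leaf 182127452) (.leaf 75863653)) (.node (.leaf 252330032) (.leaf 119799858))) (.node (.node (.leaf 114868274) (.leaf 191627314)) (.node (.leaf 13991986) (.leaf 188268594)))) (.node (.node (.node (.leaf 321183566) (.leaf 241975345)) (.node (.leaf 135544881) (.leaf 285900849))) (.node (.node (.leaf 161700569) (.leaf 26656817)) (.node (.leaf 336298034) (.leaf 245104689))))) (.node (.node (.node (.node (.leaf 167563692) (.leaf 32677497)) (.node (.leaf 215466032) (.leaf 245088305))) (.node (.node (.leaf 378519924) (.leaf 206176306)) (.node (.leaf 325601678) (.leaf 236879922)))) (.node (.node (.node (.leaf 52385420) (.leaf 192790578)) (.node (.leaf 183615536) (.leaf 196086470))) (.node (.node (.leaf 84018474) (.leaf 209493396)) (.node (.leaf 220823602) (.leaf 188416050)))))) (.node (.node (.node (.node (.node (.leaf 167575602) (.leaf 217727026)) (.node (.leaf 336248882) (.leaf 201719858))) (.node (.node (.leaf 144457778) (.leaf 191758386))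 (.node (.leaf 107479089) (.leaf 277119025)))) (.node (.node (.node (.leaf 76125596) (.leaf 9179742)) (.node (.leaf 51303740) (.leaf 97704469))) (.node (.node (.leaf 298008626) (.leaf 16285745)) (.node (.leaf 215746818) (.leaf 280444977))))) (.node (.node (.node (.node (.leaf 80150578) (.leaf 97681457)) (.node (.leaf 54722608) (.leaf 93700146))) (.node (.node (.leaf 78741552) (.leaf 109215794)) (.node (.leaf 148412889) (.leaf 97525756)))) (.node (.node (.node (.leaf 243679280) (.leaf 129417266)) (.node (.leaf 20124578) (.leaf 334582956))) (.node (.node (.leaf 157163156) (.leaf 378355834)) (.node (.leaf 62578120) (.leaf 218103857)))))))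

/-- A Schreier factor, part 541. -/
def facCodePart541 : Janko1.Tree ℕ := (.node (.node (.node (.node (.node (.node (.leaf 70647856) (.leaf 178307121)) (.node (.leaf 35651633) (.leaf 218138460))) (.node (.node (.leaf 64061490) (.leaf 92340274)) (.node (.leaf 28120706) (.leaf 123936748)))) (.node (.node (.node (.leaf 100976769) (.leaf 76447794)) (.node (.leaf 131862310) (.leaf 107618160))) (.node (.node (.leaf 253449933) (.leaf 72522549)) (.node (.leaf 78463024) (.leaf 113053122))))) (.node (.node (.node (.node (.leaf 54403468) (.leaf 97719512)) (.node (.leaf 79925594) (.leaf 129565004))) (.node (.node (.leaf 27115569) (.leaf 93863986)) (.node (.leaf 243369153) (.leaf 125321266)))) (.node (.node (.node (.leaf 48223450) (.leaf 109051954)) (.node (.leaf 108478512) (.leaf 343212081))) (.node (.node (.leaf 131909745) (.leaf 343294001)) (.node (.leaf 98865006) (.leaf 370022268)))))) (.node (.node (.node (.node (.node (.leaf 290801053) (.leaf 370122045)) (.node (.leaf 30162994) (.leaf 343317578))) (.node (.node (.leaf 191512625) (.leaf 164972529))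 (.node (.leaf 155571312) (.leaf 164908837)))) (.node (.node (.node (.leaf 239206448) (.leaf 164956734)) (.node (.leaf 305666598) (.leaf 231441341))) (.node (.node (.leaf 234438706) (.leaf 103858226)) (.node (.leaf 184778802) (.leaf 88227890))))) (.node (.node (.node (.node (.leaf 28377136) (.leaf 119707446)) (.node (.leaf 360251442) (.leaf 123798265))) (.node (.node (.leaf 326767641) (.leaf 76595250)) (.node (.leaf 157188461) (.leaf 107758466)))) (.node (.node (.node (.leaf 211355421) (.leaf 227710222)) (.node (.leaf 214335537) (.leaf 187957298))) (.node (.node (.leaf 197001264) (.leaf 214474161)) (.node (.leaf 374702128) (.leaf 191283250)))))))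

/-- A Schreier factor, part 542. -/
def facCodePart542 : Janko1.Tree ℕ := (.node (.node (.node (.node (.node (.node (.leaf 135470388) (.leaf 204709669)) (.node (.leaf 316768304) (.leaf 231047218))) (.node (.node (.leaf 148930608) (.leaf 259260465)) (.node (.leaf 222532585) (.leaf 304058764)))) (.node (.node (.node (.leaf 115494338) (.leaf 304141786)) (.node (.leaf 87998513) (.leaf 113234082))) (.node (.node (.leaf 189958172) (.leaf 66226342)) (.node (.leaf 378440137) (.leaf 66158641))))) (.node (.node (.node (.node (.leaf 311926356) (.leaf 113246257)) (.node (.leaf 221528114) (.leaf 223382008))) (.node (.node (.leaf 144031794) (.leaf 219979185)) (.node (.leaf 194137577) (.leaf 206880818)))) (.node (.node (.node (.leaf 107216945) (.leaf 191103026)) (.node (.leaf 196739120) (.leaf 217645106))) (.node (.node (.leaf 177000508) (.leaf 204805201)) (.node (.leaf 96000444) (.leaf 231161906)))))) (.node (.node (.node (.node (.node (.leaf 316506160) (.leaf 227803186)) (.node (.leaf 65060913) (.leaf 214351922))) (.node (.node (.leaf 222232624) (.leaf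 268288049)) (.node (.leaf 171704370) (.leaf 294967873)))) (.node (.node (.node (.leaf 148608825) (.leaf 295083241)) (.node (.leaf 194167826) (.leaf 294998430))) (.node (.node (.leaf 221012202) (.leaf 129548337)) (.node (.leaf 312197168) (.leaf 49596582))))) (.node (.node (.node (.node (.leaf 378738525) (.leaf 129538625)) (.node (.leaf 178494349) (.leaf 129637926))) (.node (.node (.leaf 155959344) (.leaf 233250886)) (.node (.leaf 13484082) (.leaf 223566990)))) (.node (.node (.node (.leaf 175114300) (.leaf 262998189)) (.node (.leaf 265732348) (.leaf 245073618))) (.node (.node (.leaf 279020233) (.leaf 271663450)) (.node (.leaf 211229112) (.leaf 314605617)))))))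

/-- A Schreier factor, part 543. -/
def facCodePart543 : Janko1.Tree ℕ := (.node (.node (.node (.node (.node (.node (.leaf 85528857) (.leaf 193664557)) (.node (.leaf 154754985) (.leaf 359423462))) (.node (.node (.leaf 184025724) (.leaf 153749577)) (.node (.leaf 125730864) (.leaf 310951985)))) (.node (.node (.node (.leaf 2179120) (.leaf 356122673)) (.node (.leaf 103712622) (.leaf 148295680))) (.node (.node (.leaf 274432048) (.leaf 311033905)) (.node (.leaf 35101209) (.leaf 239583389))))) (.node (.node (.node (.node (.leaf 306610226) (.leaf 259284662)) (.node (.leaf 60096561) (.leaf 260997170))) (.node (.node (.leaf 278694361) (.leaf 269502713)) (.node (.leaf 265428342) (.leaf 242810930)))) (.node (.node (.node (.leaf 45137968) (.leaf 206901549)) (.node (.leaf 95600690) (.leaf 350573349))) (.node (.node (.leaf 85278768) (.leaf 140380237)) (.node (.leaf 131417213) (.leaf 140312625)))))) (.node (.node (.node (.node (.node (.leaf 273306117) (.leaf 350519612)) (.node (.leaf 63477717) (.leaf 207019278))) (.node (.node (.leaf 181764145) (.leaf 202063921))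 (.node (.leaf 2424880) (.leaf 320002777)))) (.node (.node (.node (.leaf 126074928) (.leaf 346964017)) (.node (.leaf 138379313) (.leaf 135675953))) (.node (.node (.leaf 218598477) (.leaf 201974188)) (.node (.leaf 154721326) (.leaf 241768985))))) (.node (.node (.node (.node (.leaf 211271730) (.leaf 268419122)) (.node (.leaf 93471708) (.leaf 266436658))) (.node (.node (.leaf 184090674) (.leaf 259932210)) (.node (.leaf 157614129) (.leaf 322231894)))) (.node (.node (.node (.leaf 161302425) (.leaf 331422749)) (.node (.leaf 143427698) (.leaf 328551069))) (.node (.node (.leaf 352813104) (.leaf 339591218)) (.node (.leaf 80021293) (.leaf 240082045)))))))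

/-- A Schreier factor, part 544. -/
def facCodePart544 : Janko1.Tree ℕ := (.node (.node (.node (.node (.node (.node (.leaf 47153202) (.leaf 23205648)) (.node (.leaf 114999346) (.leaf 72417329))) (.node (.node (.leaf 52025860) (.leaf 29154385)) (.node (.leaf 343605296) (.leaf 287345962)))) (.node (.node (.node (.leaf 347996208) (.leaf 243384369)) (.node (.leaf 198199980) (.leaf 340705330))) (.node (.node (.leaf 209044944) (.leaf 343621682)) (.node (.leaf 162455492) (.leaf 316448881))))) (.node (.node (.node (.node (.leaf 171103781) (.leaf 332398642)) (.node (.leaf 220905522) (.leaf 323425752))) (.node (.node (.leaf 333873202) (.leaf 325080845)) (.node (.leaf 43860017) (.leaf 329203762)))) (.node (.node (.node (.leaf 143169920) (.leaf 330766953)) (.node (.leaf 229923160) (.leaf 321634832))) (.node (.node (.leaf 30857546) (.leaf 319593096)) (.node (.leaf 352534576) (.leaf 337674290)))))) (.node (.node (.node (.node (.node (.leaf 339215225) (.leaf 310255536)) (.node (.leaf 128159953) (.leaf 313219772))) (.node (.node (.leaf 198134264) (.leaf 275497762))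 (.node (.leaf 220925198) (.leaf 4690460)))) (.node (.node (.node (.leaf 171032626) (.leaf 88195121)) (.node (.leaf 168070276) (.leaf 94278182))) (.node (.node (.leaf 348291120) (.leaf 278626353)) (.node (.leaf 343916592) (.leaf 252051505))))) (.node (.node (.node (.node (.leaf 18604201) (.leaf 315938353)) (.node (.leaf 80035890) (.leaf 342982706))) (.node (.node (.leaf 209344038) (.leaf 341367534)) (.node (.leaf 47169586) (.leaf 334856242)))) (.node (.node (.node (.leaf 207425109) (.leaf 245666204)) (.node (.leaf 360398898) (.leaf 262914098))) (.node (.node (.leaf 153993266) (.leaf 260341810)) (.node (.leaf 45322100) (.leaf 252269041)))))))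

/-- A Schreier factor, part 545. -/
def facCodePart545 : Janko1.Tree ℕ := (.node (.node (.node (.node (.node (.node (.leaf 77697598) (.leaf 271584833)) (.node (.leaf 265682992) (.leaf 332597056))) (.node (.node (.leaf 225427505) (.leaf 332665592)) (.node (.leaf 117997616) (.leaf 376651825)))) (.node (.node (.node (.leaf 171672678) (.leaf 180375270)) (.node (.leaf 21168176) (.leaf 180453425))) (.node (.node (.leaf 290915840) (.leaf 175497588)) (.node (.leaf 255426610) (.leaf 373506097))))) (.node (.node (.node (.node (.leaf 131551426) (.leaf 215175562)) (.node (.leaf 68062134) (.leaf 329253954))) (.node (.node (.leaf 72548401) (.leaf 251232306)) (.node (.leaf 287572016) (.leaf 268959794)))) (.node (.node (.node (.leaf 125829168) (.leaf 241991730)) (.node (.leaf 4227121) (.leaf 259245241))) (.node (.node (.leaf 99024946) (.leaf 243499058)) (.node (.leaf 290963506) (.leaf 260907350)))))) (.node (.node (.node (.node (.node (.leaf 34360605) (.leaf 262406194)) (.node (.leaf 45039664) (.leaf 254329140))) (.node (.node (.leaf 68110980) (.leaf 251732402))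 (.node (.leaf 111871964) (.leaf 368319356)))) (.node (.node (.node (.leaf 117724617) (.leaf 341543614)) (.node (.leaf 47405829) (.leaf 233527196))) (.node (.node (.leaf 360385610) (.leaf 228556849)) (.node (.leaf 153961726) (.leaf 338301258))))) (.node (.node (.node (.node (.leaf 36998742) (.leaf 161924424)) (.node (.leaf 181457090) (.leaf 364825985))) (.node (.node (.leaf 218782469) (.leaf 268353586)) (.node (.leaf 192020529) (.leaf 248676402)))) (.node (.node (.node (.leaf 287899838) (.leaf 266393986)) (.node (.leaf 164790321) (.leaf 242516018))) (.node (.node (.leaf 83510125) (.leaf 313119860)) (.node (.leaf 169410608) (.leaf 319871392)))))))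

/-- A Schreier factor, part 546. -/
def facCodePart546 : Janko1.Tree ℕ := (.node (.node (.node (.node (.node (.node (.leaf 115327026) (.leaf 338149426)) (.node (.leaf 339414857) (.leaf 257523761))) (.node (.node (.leaf 237671624) (.leaf 257572913)) (.node (.leaf 230313784) (.leaf 302153777)))) (.node (.node (.node (.leaf 157801654) (.leaf 302257973)) (.node (.leaf 184586028) (.leaf 56213553))) (.node (.node (.leaf 150110256) (.leaf 56262705)) (.node (.leaf 351698994) (.leaf 62445937))))) (.node (.node (.node (.node (.leaf 315687552) (.leaf 305383814)) (.node (.leaf 221352436) (.leaf 109695608))) (.node (.node (.leaf 168312882) (.leaf 260804169)) (.node (.leaf 188991040) (.leaf 260856665)))) (.node (.node (.node (.leaf 343541653) (.leaf 322685396)) (.node (.leaf 120196064) (.leaf 340639794))) (.node (.node (.leaf 23076634) (.leaf 334321352)) (.node (.leaf 55918641) (.leaf 314281569)))))) (.node (.node (.node (.node (.node (.leaf 156598320) (.leaf 332316722)) (.node (.leaf 169115696) (.leaf 322158642))) (.node (.node (.leaf 221364274) (.leaf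 340082738)) (.node (.leaf 195664220) (.leaf 337583721)))) (.node (.node (.node (.leaf 128355442) (.leaf 293261438)) (.node (.leaf 64309470) (.leaf 119668785))) (.node (.node (.leaf 83450514) (.leaf 125751332)) (.node (.leaf 246847422) (.leaf 269860913))))) (.node (.node (.node (.node (.leaf 115310642) (.leaf 46071857)) (.node (.leaf 51990424) (.leaf 296583217))) (.node (.node (.leaf 189235248) (.leaf 296665137)) (.node (.leaf 231735345) (.leaf 342900786)))) (.node (.node (.node (.leaf 151142449) (.leaf 331825202)) (.node (.leaf 177782833) (.leaf 316686386))) (.node (.node (.leaf 217038898) (.leaf 289636402)) (.node (.leaf 120913968) (.leaf 289308722)))))))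

/-- A Schreier factor, part 547. -/
def facCodePart547 : Janko1.Tree ℕ := (.node (.node (.node (.node (.node (.node (.leaf 151978033) (.leaf 350674701)) (.node (.leaf 204931568) (.leaf 207096808))) (.node (.node (.leaf 221618450) (.leaf 140460081)) (.node (.leaf 106594354) (.leaf 347078705)))) (.node (.node (.node (.leaf 38780978) (.leaf 320208945)) (.node (.leaf 128860208) (.leaf 320110641))) (.node (.node (.leaf 31916080) (.leaf 202250592)) (.node (.leaf 104498741) (.leaf 135809832))))) (.node (.node (.node (.node (.leaf 6029360) (.leaf 347160625)) (.node (.leaf 64569393) (.leaf 277577778))) (.node (.node (.leaf 127483953) (.leaf 304152626)) (.node (.leaf 95649841) (.leaf 284098610)))) (.node (.node (.node (.leaf 107168542) (.leaf 293355570)) (.node (.leaf 257689985) (.leaf 289144882))) (.node (.node (.leaf 295392349) (.leaf 298473614)) (.node (.leaf 259915826) (.leaf 278544754)))))) (.node (.node (.node (.node (.node (.leaf 72040498) (.leaf 298893362)) (.node (.leaf 4079666) (.leaf 278158174))) (.node (.node (.leaf 9128886) (.leaf 289784757))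 (.node (.leaf 298926128) (.leaf 153878577)))) (.node (.node (.node (.leaf 303398960) (.leaf 314671153)) (.node (.leaf 58507312) (.leaf 359615864))) (.node (.node (.leaf 90308656) (.leaf 153944113)) (.node (.leaf 366805042) (.leaf 148553777))))) (.node (.node (.node (.node (.leaf 191152178) (.leaf 188697405)) (.node (.leaf 138100786) (.leaf 311099441))) (.node (.node (.leaf 187913652) (.leaf 356286513)) (.node (.leaf 294649904) (.leaf 284246066)))) (.node (.node (.node (.leaf 241467416) (.leaf 304009362)) (.node (.leaf 307938729) (.leaf 277025137))) (.node (.node (.leaf 254563721) (.leaf 293230057)) (.node (.leaf 74895920) (.leaf 292851086)))))))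

/-- A Schreier factor, part 548. -/
def facCodePart548 : Janko1.Tree ℕ := (.node (.node (.node (.node (.node (.node (.leaf 122896434) (.leaf 346079282)) (.node (.leaf 59694338) (.leaf 366952498))) (.node (.node (.leaf 55498256) (.leaf 372850738)) (.node (.leaf 225722416) (.leaf 357630002)))) (.node (.node (.node (.leaf 219168816) (.leaf 346800178)) (.node (.leaf 138690609) (.leaf 275595313))) (.node (.node (.leaf 181821132) (.leaf 248741937)) (.node (.leaf 217858097) (.leaf 248811210))))) (.node (.node (.node (.node (.leaf 207934221) (.leaf 275553328)) (.node (.leaf 227475994) (.leaf 278660313))) (.node (.node (.leaf 174407730) (.leaf 12042289)) (.node (.leaf 230752306) (.leaf 94421041)))) (.node (.node (.node (.leaf 177618994) (.leaf 252280881)) (.node (.leaf 152141872) (.leaf 94502961))) (.node (.node (.leaf 212205616) (.leaf 11976753)) (.node (.leaf 132775984) (.leaf 278741041)))))) (.node (.node (.node (.node (.node (.leaf 14616201) (.leaf 367394866)) (.node (.leaf 48283697) (.leaf 352541848))) (.node (.node (.leaf 60736025) (.leaf 358730309))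 (.node (.leaf 123748401) (.leaf 368023662)))) (.node (.node (.node (.leaf 91984328) (.leaf 351882440)) (.node (.leaf 375701554) (.leaf 373407794))) (.node (.node (.leaf 373555250) (.leaf 366451428)) (.node (.leaf 204997942) (.leaf 366857701))))) (.node (.node (.node (.node (.leaf 151327674) (.leaf 346199825)) (.node (.leaf 201539634) (.leaf 372736050))) (.node (.node (.leaf 318409532) (.leaf 72630321)) (.node (.leaf 166854704) (.leaf 72571013)))) (.node (.node (.node (.leaf 193511472) (.leaf 240173065)) (.node (.leaf 173576817) (.leaf 284279046))) (.node (.node (.leaf 200130608) (.leaf 23330865)) (.node (.leaf 302448690) (.leaf 29327409)))))))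

/-- A Schreier factor, part 549. -/
def facCodePart549 : Janko1.Tree ℕ := (.node (.node (.node (.node (.node (.node (.leaf 266879026) (.leaf 287563289)) (.node (.leaf 269271090) (.leaf 78430257))) (.node (.node (.leaf 92030258) (.leaf 287626116)) (.node (.leaf 26892268) (.leaf 29265006)))) (.node (.node (.node (.leaf 309952734) (.leaf 378000894)) (.node (.leaf 160563248) (.leaf 352373417))) (.node (.node (.leaf 231276593) (.leaf 281083954)) (.node (.leaf 90546476) (.leaf 298991666))))) (.node (.node (.node (.node (.leaf 82542640) (.leaf 304988210)) (.node (.leaf 151879729) (.leaf 287391794))) (.node (.node (.leaf 245825584) (.leaf 298238002)) (.node (.leaf 120851485) (.leaf 368328753)))) (.node (.node (.node (.leaf 214450226) (.leaf 368398406)) (.node (.leaf 112775705) (.leaf 233691778))) (.node (.node (.leaf 346636338) (.leaf 341803057)) (.node (.leaf 190486752) (.leaf 167091461)))))) (.node (.node (.node (.node (.node (.leaf 348986401) (.leaf 167149617)) (.node (.leaf 98273898) (.leaf 162137872))) (.node (.node (.leaf 254345264) (.leaf 228720689))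 (.node (.leaf 9584689) (.leaf 364953649)))) (.node (.node (.node (.leaf 241256321) (.leaf 365093073)) (.node (.leaf 128801652) (.leaf 274892026))) (.node (.node (.leaf 107135026) (.leaf 292634674)) (.node (.leaf 75350066) (.leaf 285917234))))) (.node (.node (.node (.node (.leaf 277495858) (.leaf 304077001)) (.node (.leaf 71385138) (.leaf 275611698))) (.node (.node (.leaf 50121454) (.leaf 287574366)) (.node (.leaf 83706609) (.leaf 305536984)))) (.node (.node (.node (.leaf 58595386) (.leaf 280477746)) (.node (.leaf 52239094) (.leaf 298867996))) (.node (.node (.leaf 303292422) (.leaf 286789674)) (.node (.leaf 39223346) (.leaf 376832049)))))))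

/-- A Schreier factor, part 550. -/
def facCodePart550 : Janko1.Tree ℕ := (.node (.node (.node (.node (.node (.node (.leaf 15499312) (.leaf 376935044)) (.node (.leaf 43466802) (.leaf 220250161))) (.node (.node (.leaf 3489842) (.leaf 332759404)) (.node (.leaf 8570958) (.leaf 180584497)))) (.node (.node (.node (.leaf 42403922) (.leaf 175641600)) (.node (.leaf 211550257) (.leaf 329400369))) (.node (.node (.leaf 162152497) (.leaf 215292348)) (.node (.leaf 307875084) (.leaf 373662122))))) (.node (.node (.node (.node (.leaf 185385009) (.leaf 373751857)) (.node (.leaf 6397093) (.leaf 303890482))) (.node (.node (.leaf 32227376) (.leaf 293160925)) (.node (.leaf 137658418) (.leaf 292782130)))) (.node (.node (.node (.leaf 134599289) (.leaf 304513074)) (.node (.leaf 217684052) (.leaf 349198772))) (.node (.node (.leaf 200345696) (.leaf 366903346)) (.node (.leaf 193716212) (.leaf 372802457)))))) (.node (.node (.node (.node (.node (.leaf 318799920) (.leaf 373180338)) (.node (.leaf 314612117) (.leaf 366234409))) (.node (.node (.leaf 123600946) (.leaf 293339185))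 (.node (.leaf 91393094) (.leaf 266488793)))) (.node (.node (.node (.leaf 286541841) (.leaf 266600497)) (.node (.leaf 87365861) (.leaf 39845937))) (.node (.node (.leaf 284394693) (.leaf 39917386)) (.node (.leaf 309837872) (.leaf 296763441))))) (.node (.node (.node (.node (.leaf 232134618) (.leaf 349640392)) (.node (.leaf 228065330) (.leaf 367301461))) (.node (.node (.leaf 231440434) (.leaf 378421298)) (.node (.leaf 200966146) (.leaf 360994750)))) (.node (.node (.node (.leaf 204357682) (.leaf 350376784)) (.node (.leaf 358318130) (.leaf 367968306))) (.node (.node (.leaf 166937429) (.leaf 355982974)) (.node (.leaf 99900520) (.leaf 373344165)))))))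

/-- A Schreier factor, part 551. -/
def facCodePart551 : Janko1.Tree ℕ := (.node (.node (.node (.node (.node (.node (.leaf 72302641) (.leaf 366364005)) (.node (.leaf 372080688) (.leaf 355291428))) (.node (.node (.leaf 178159666) (.leaf 302350385)) (.node (.leaf 174915634) (.leaf 103792689)))) (.node (.node (.node (.leaf 322476750) (.leaf 257608188)) (.node (.leaf 320215077) (.leaf 56344625))) (.node (.node (.leaf 180551728) (.leaf 260882481)) (.node (.leaf 197959638) (.leaf 260980785))))) (.node (.node (.node (.node (.leaf 363774000) (.leaf 109723697)) (.node (.leaf 175423537) (.leaf 109790866))) (.node (.node (.leaf 376651796) (.leaf 305578033)) (.node (.leaf 56005608) (.leaf 360808498)))) (.node (.node (.node (.leaf 152551472) (.leaf 367788082)) (.node (.leaf 249086002) (.leaf 349814834))) (.node (.node (.leaf 251429421) (.leaf 361502793)) (.node (.leaf 26384384) (.leaf 378556617)))))) (.node (.node (.node (.node (.node (.leaf 25529334) (.leaf 50075130)) (.node (.leaf 168329265) (.leaf 66623185))) (.node (.node (.leaf 16859184) (.leaf 62029874))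 (.node (.leaf 285576996) (.leaf 62423090)))) (.node (.node (.node (.leaf 195297329) (.leaf 46158341)) (.node (.leaf 281283613) (.leaf 49433921))) (.node (.node (.leaf 57622576) (.leaf 142802993)) (.node (.leaf 138266360) (.leaf 209771198))))) (.node (.node (.node (.node (.leaf 214024242) (.leaf 209780785)) (.node (.leaf 331350066) (.leaf 142820533))) (.node (.node (.leaf 33144880) (.leaf 348738493)) (.node (.leaf 65732656) (.leaf 3981362)))) (.node (.node (.node (.leaf 4243506) (.leaf 22741042)) (.node (.leaf 102891570) (.leaf 4800562))) (.node (.node (.leaf 257540146) (.leaf 8978482)) (.node (.leaf 121668378) (.leaf 16111132)))))))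

/-- A Schreier factor, part 552. -/
def facCodePart552 : Janko1.Tree ℕ := (.node (.node (.node (.node (.node (.node (.leaf 22675505) (.leaf 11899952)) (.node (.leaf 267812912) (.leaf 28557362))) (.node (.node (.leaf 119693316) (.leaf 33177650)) (.node (.leaf 75874354) (.leaf 196331809)))) (.node (.node (.node (.leaf 105840688) (.leaf 357811466)) (.node (.leaf 135135281) (.leaf 151297550))) (.node (.node (.leaf 259014704) (.leaf 312744065)) (.node (.leaf 215125418) (.leaf 191316017))))) (.node (.node (.node (.node (.leaf 237766826) (.leaf 357851238)) (.node (.leaf 73767269) (.leaf 59904001))) (.node (.node (.leaf 97323013) (.leaf 39804653)) (.node (.leaf 366891350) (.leaf 43991090)))) (.node (.node (.node (.leaf 160682989) (.leaf 60608649)) (.node (.leaf 164724785) (.leaf 161159494))) (.node (.node (.leaf 146735152) (.leaf 165265458)) (.node (.leaf 140378160) (.leaf 174751794)))))) (.node (.node (.node (.node (.node (.leaf 191791153) (.leaf 177963058)) (.node (.leaf 355027261) (.leaf 175229177))) (.node (.node (.leaf 208519217) (.leaf 161873970))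 (.node (.leaf 172841714) (.leaf 8962097)))) (.node (.node (.node (.leaf 27033650) (.leaf 276960994)) (.node (.leaf 123065646) (.leaf 91638220))) (.node (.node (.leaf 266771440) (.leaf 8999286)) (.node (.leaf 153436208) (.leaf 280346673))))) (.node (.node (.node (.node (.leaf 60342321) (.leaf 253820977)) (.node (.leaf 133914401) (.leaf 97534001))) (.node (.node (.leaf 345800752) (.leaf 16089137)) (.node (.leaf 147997193) (.leaf 143229185)))) (.node (.node (.node (.leaf 159219760) (.leaf 156565554)) (.node (.leaf 151470130) (.leaf 152969026))) (.node (.node (.leaf 227615093) (.leaf 156245380)) (.node (.leaf 338362418) (.leaf 153339884)))))))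

/-- A Schreier factor, part 553. -/
def facCodePart553 : Janko1.Tree ℕ := (.node (.node (.node (.node (.node (.node (.leaf 230932530) (.leaf 140116018)) (.node (.leaf 35380438) (.leaf 150980113))) (.node (.node (.leaf 4463134) (.leaf 135335920)) (.node (.leaf 103976290) (.leaf 151739902)))) (.node (.node (.node (.leaf 204854885) (.leaf 285787692)) (.node (.leaf 199087133) (.leaf 241781289))) (.node (.node (.leaf 375783474) (.leaf 241811505)) (.node (.leaf 177455154) (.leaf 75890737))))) (.node (.node (.node (.node (.leaf 373653554) (.leaf 26607665)) (.node (.leaf 174300977) (.leaf 285804226))) (.node (.node (.leaf 213517816) (.leaf 289215665)) (.node (.leaf 147587121) (.leaf 32489521)))) (.node (.node (.node (.leaf 233521200) (.leaf 81575985)) (.node (.leaf 328193532) (.leaf 244957233))) (.node (.node (.leaf 341777924) (.leaf 32473113)) (.node (.leaf 225123209) (.leaf 289226801)))))) (.node (.node (.node (.node (.node (.leaf 185958448) (.leaf 182897492)) (.node (.leaf 206061616) (.leaf 166690866))) (.node (.node (.leaf 302612530) (.leaf 170131506))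 (.node (.leaf 304791602) (.leaf 179552306)))) (.node (.node (.node (.leaf 59543120) (.leaf 183670605)) (.node (.leaf 187465778) (.leaf 11424557))) (.node (.node (.leaf 346849330) (.leaf 45416498)) (.node (.leaf 190627890) (.leaf 33095730))))) (.node (.node (.node (.node (.leaf 137544054) (.leaf 61951074)) (.node (.leaf 57559473) (.leaf 32656489))) (.node (.node (.leaf 161319446) (.leaf 29114418)) (.node (.leaf 89391152) (.leaf 62373938)))) (.node (.node (.node (.leaf 49221397) (.leaf 12025906)) (.node (.leaf 164665745) (.leaf 16072754))) (.node (.node (.leaf 277626930) (.leaf 164806705)) (.node (.leaf 242393522) (.leaf 366527190)))))))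

/-- A Schreier factor, part 554. -/
def facCodePart554 : Janko1.Tree ℕ := (.node (.node (.node (.node (.node (.node (.leaf 8421426) (.leaf 366592049)) (.node (.leaf 71516210) (.leaf 339820716))) (.node (.node (.leaf 275546162) (.leaf 339886129)) (.node (.leaf 240042034) (.leaf 231309361)))) (.node (.node (.node (.leaf 3279117) (.leaf 231398972)) (.node (.leaf 65667120) (.leaf 231325745))) (.node (.node (.leaf 107039197) (.leaf 231426422)) (.node (.leaf 43597874) (.leaf 339787825))))) (.node (.node (.node (.node (.leaf 40927280) (.leaf 366493709)) (.node (.leaf 39358929) (.leaf 164748378))) (.node (.node (.leaf 263078473) (.leaf 378231520)) (.node (.leaf 84213809) (.leaf 183161050)))) (.node (.node (.node (.leaf 51429425) (.leaf 223108980)) (.node (.leaf 22747705) (.leaf 183238705))) (.node (.node (.leaf 55640113) (.leaf 378241073)) (.node (.leaf 276824112) (.leaf 59801650)))))) (.node (.node (.node (.node (.node (.leaf 290266988) (.leaf 39748561)) (.node (.leaf 105961704) (.leaf 9592538))) (.node (.node (.leaf 130293690) (.leaf 22682016)) (.node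 (.leaf 157990961) (.leaf 55640864)))) (.node (.node (.node (.leaf 33412916) (.leaf 60530644)) (.node (.leaf 87539762) (.leaf 151640140))) (.node (.node (.leaf 22298674) (.leaf 174689202)) (.node (.leaf 172769328) (.leaf 151193957))))) (.node (.node (.node (.node (.leaf 199426096) (.leaf 175135136)) (.node (.leaf 166051888) (.leaf 135610418))) (.node (.node (.leaf 119390258) (.leaf 161808434)) (.node (.leaf 192577584) (.leaf 164483569)))) (.node (.node (.node (.leaf 201136905) (.leaf 49365041)) (.node (.leaf 356241865) (.leaf 49467114))) (.node (.node (.leaf 320047766) (.leaf 298255381)) (.node (.leaf 204462713) (.leaf 271621841)))))))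

/-- A Schreier factor, part 555. -/
def facCodePart555 : Janko1.Tree ℕ := (.node (.node (.node (.node (.node (.node (.leaf 358449202) (.leaf 271695921)) (.node (.leaf 179044400) (.leaf 129433649))) (.node (.node (.leaf 227901490) (.leaf 129515569)) (.node (.leaf 175099758) (.leaf 271604912)))) (.node (.node (.node (.leaf 205884657) (.leaf 271680796)) (.node (.leaf 231260210) (.leaf 298353386))) (.node (.node (.leaf 178310510) (.leaf 49387762)) (.node (.leaf 332496944) (.leaf 303912562))))) (.node (.node (.node (.node (.leaf 100335665) (.leaf 59850801)) (.node (.leaf 350460936) (.leaf 59954614))) (.node (.node (.leaf 354811952) (.leaf 259134554)) (.node (.leaf 220020784) (.leaf 259066072)))) (.node (.node (.node (.leaf 68272177) (.leaf 107003953)) (.node (.leaf 139984944) (.leaf 107057118))) (.node (.node (.leaf 226525232) (.leaf 59834417)) (.node (.leaf 39525104) (.leaf 303929470)))))) (.node (.node (.node (.node (.node (.leaf 146348810) (.leaf 304022092)) (.node (.leaf 328106032) (.leaf 153586490))) (.node (.node (.leaf 341695386) (.leaf 142688681))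 (.node (.leaf 198557745) (.leaf 140017714)))) (.node (.node (.node (.leaf 359628848) (.leaf 166641714)) (.node (.leaf 213573025) (.leaf 143148561))) (.node (.node (.leaf 147685425) (.leaf 170039833)) (.node (.leaf 174555185) (.leaf 139662090))))) (.node (.node (.node (.node (.leaf 21348400) (.leaf 159596592)) (.node (.leaf 227983409) (.leaf 212868864))) (.node (.node (.leaf 172343345) (.leaf 189466113)) (.node (.leaf 145018617) (.leaf 327680048)))) (.node (.node (.node (.leaf 261194406) (.leaf 136500280)) (.node (.leaf 154550322) (.leaf 61179566))) (.node (.node (.leaf 344513804) (.leaf 61620274)) (.node (.leaf 180879410) (.leaf 15024178)))))))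

/-- A Schreier factor, part 556. -/
def facCodePart556 : Janko1.Tree ℕ := (.node (.node (.node (.node (.node (.node (.leaf 29278256) (.leaf 38453298)) (.node (.leaf 125916242) (.leaf 8818928))) (.node (.node (.leaf 99635380) (.leaf 26288400)) (.node (.leaf 131842097) (.leaf 55050290)))) (.node (.node (.node (.leaf 4702257) (.leaf 55377970)) (.node (.leaf 256573488) (.leaf 8028210))) (.node (.node (.leaf 92938173) (.leaf 159580208)) (.node (.leaf 34914440) (.leaf 212833998))))) (.node (.node (.node (.node (.leaf 306544690) (.leaf 189437097)) (.node (.leaf 271122482) (.leaf 327650696))) (.node (.node (.leaf 67485746) (.leaf 136462384)) (.node (.leaf 91815985) (.leaf 345817136)))) (.node (.node (.node (.leaf 123240497) (.leaf 162807856)) (.node (.leaf 21107556) (.leaf 216078904))) (.node (.node (.leaf 117785316) (.leaf 309755952)) (.node (.leaf 14254129) (.leaf 365823561)))))) (.node (.node (.node (.node (.node (.leaf 34969042) (.leaf 65262266)) (.node (.leaf 53182512) (.leaf 11061594))) (.node (.node (.leaf 130957362) (.leaf 49121544)) (.node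 (.leaf 67518514) (.leaf 10567730)))) (.node (.node (.node (.leaf 306511922) (.leaf 27787314)) (.node (.leaf 271106098) (.leaf 65998913))) (.node (.node (.leaf 29560182) (.leaf 42729522)) (.node (.leaf 126206320) (.leaf 3640217))))) (.node (.node (.node (.node (.leaf 274587584) (.leaf 43096569)) (.node (.leaf 256802864) (.leaf 3104481))) (.node (.node (.leaf 208027698) (.leaf 345784368)) (.node (.leaf 93257776) (.leaf 216055856)))) (.node (.node (.node (.leaf 233734194) (.leaf 330027152)) (.node (.leaf 180863026) (.leaf 186220592))) (.node (.node (.leaf 380247148) (.leaf 133358000)) (.node (.leaf 150379150) (.leaf 159880748)))))))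

/-- A Schreier factor, part 557. -/
def facCodePart557 : Janko1.Tree ℕ := (.node (.node (.node (.node (.node (.node (.leaf 230359088) (.leaf 348274960)) (.node (.leaf 187940913) (.leaf 312115248))) (.node (.node (.leaf 334938160) (.leaf 136758033)) (.node (.leaf 202628769) (.leaf 3037122)))) (.node (.node (.node (.leaf 18373542) (.leaf 86858670)) (.node (.leaf 298090546) (.leaf 86807488))) (.node (.node (.leaf 114753586) (.leaf 161054770)) (.node (.leaf 51396658) (.leaf 2965553))))) (.node (.node (.node (.node (.leaf 115408945) (.leaf 92749873)) (.node (.leaf 23402665) (.leaf 179248256))) (.node (.node (.leaf 347865136) (.leaf 166068274)) (.node (.leaf 330094009) (.leaf 10444388)))) (.node (.node (.node (.leaf 208870596) (.leaf 159899465)) (.node (.leaf 182410908) (.leaf 348294684))) (.node (.node (.leaf 194805810) (.leaf 312152504)) (.node (.leaf 336201852) (.leaf 327948080)))))) (.node (.node (.node (.node (.node (.leaf 220725298) (.leaf 363877838)) (.node (.leaf 107315249) (.leaf 163053616))) (.node (.node (.leaf 352370736) (.leaf 330268720))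 (.node (.leaf 334692400) (.leaf 186548272)))) (.node (.node (.node (.leaf 64967498) (.leaf 133562416)) (.node (.leaf 31211569) (.leaf 366067760))) (.node (.node (.leaf 194827322) (.leaf 147324978)) (.node (.leaf 175870860) (.leaf 134679580))))) (.node (.node (.node (.node (.leaf 167676981) (.leaf 71059097)) (.node (.leaf 336169240) (.leaf 177718176))) (.node (.node (.leaf 237174832) (.leaf 139182130)) (.node (.leaf 348143664) (.leaf 169369034)))) (.node (.node (.node (.leaf 330387932) (.leaf 76896594)) (.node (.leaf 178454577) (.leaf 27869233))) (.node (.node (.leaf 151576228) (.leaf 182769497)) (.node (.leaf 209190960) (.leaf 216334384)))))))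

/-- A Schreier factor, part 558. -/
def facCodePart558 : Janko1.Tree ℕ := (.node (.node (.node (.node (.node (.node (.leaf 114720818) (.leaf 330304734)) (.node (.leaf 51370361) (.leaf 186581040))) (.node (.node (.leaf 298109694) (.leaf 133584345)) (.node (.leaf 262324274) (.leaf 366091377)))) (.node (.node (.node (.leaf 362449932) (.leaf 159702241)) (.node (.leaf 210616370) (.leaf 133417470))) (.node (.node (.leaf 154239026) (.leaf 212933109)) (.node (.leaf 324552366) (.leaf 186355557))))) (.node (.node (.node (.node (.leaf 53428272) (.leaf 327761968)) (.node (.leaf 184598578) (.leaf 309854256))) (.node (.node (.leaf 77578288) (.leaf 345866296)) (.node (.leaf 261096268) (.leaf 27984405)))) (.node (.node (.node (.leaf 198216434) (.leaf 61538354)) (.node (.leaf 288702514) (.leaf 3014706))) (.node (.node (.leaf 95076402) (.leaf 38377056)) (.node (.leaf 34488370) (.leaf 21823538)))))) (.node (.node (.node (.node (.node (.leaf 131993717) (.leaf 3853736)) (.node (.leaf 4937628) (.leaf 159663552))) (.node (.node (.leaf 287395362) (.leaf 133398576))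 (.node (.leaf 256507952) (.leaf 212910128)))) (.node (.node (.node (.leaf 68755662) (.leaf 186335280)) (.node (.leaf 2261040) (.leaf 345849904))) (.node (.node (.leaf 288675996) (.leaf 216138522)) (.node (.leaf 95062556) (.leaf 189520370))))) (.node (.node (.node (.node (.leaf 63995954) (.leaf 348094512)) (.node (.leaf 260767792) (.leaf 31686706))) (.node (.node (.leaf 60489777) (.leaf 65209624)) (.node (.leaf 14467121) (.leaf 15253554)))) (.node (.node (.node (.leaf 283198545) (.leaf 48682321)) (.node (.leaf 123322417) (.leaf 15728690))) (.node (.node (.leaf 117899312) (.leaf 32342066)) (.node (.leaf 154206258) (.leaf 25886770)))))))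

/-- A Schreier factor, part 559. -/
def facCodePart559 : Janko1.Tree ℕ := (.node (.node (.node (.node (.node (.node (.leaf 234524106) (.leaf 8721969)) (.node (.leaf 69731461) (.leaf 43062585))) (.node (.node (.leaf 182191520) (.leaf 136584081)) (.node (.leaf 2543618) (.leaf 311885872)))) (.node (.node (.node (.leaf 280100914) (.leaf 159924272)) (.node (.leaf 79498378) (.leaf 133595184))) (.node (.node (.leaf 47649500) (.leaf 310038166)) (.node (.leaf 195809965) (.leaf 346046512))))) (.node (.node (.node (.node (.leaf 158449713) (.leaf 38387761)) (.node (.leaf 357401582) (.leaf 38476158))) (.node (.node (.leaf 161751377) (.leaf 118243377)) (.node (.leaf 230408240) (.leaf 147261542)))) (.node (.node (.node (.leaf 315736114) (.leaf 124436529)) (.node (.leaf 182304816) (.leaf 152502322))) (.node (.node (.leaf 221598001) (.leaf 139395122)) (.node (.leaf 188897145) (.leaf 166002738)))))) (.node (.node (.node (.node (.node (.leaf 23576625) (.leaf 159946580)) (.node (.leaf 361400073) (.leaf 133631017))) (.node (.node (.leaf 236881242) (.leaf 328040496))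 (.node (.leaf 87851057) (.leaf 310057704)))) (.node (.node (.node (.leaf 353845298) (.leaf 216383536)) (.node (.leaf 221634166) (.leaf 330375441))) (.node (.node (.leaf 175788042) (.leaf 366149680)) (.node (.leaf 171608192) (.leaf 348376777))))) (.node (.node (.node (.node (.leaf 334614213) (.leaf 54909246)) (.node (.leaf 357041505) (.leaf 102489840))) (.node (.node (.leaf 230137638) (.leaf 150880306)) (.node (.leaf 95863936) (.leaf 177640213)))) (.node (.node (.node (.leaf 280137109) (.leaf 108232753)) (.node (.leaf 79527986) (.leaf 108298289))) (.node (.node (.leaf 189107000) (.leaf 169285505)) (.node (.leaf 47682669) (.leaf 182665266)))))))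

/-- A Schreier factor, part 560. -/
def facCodePart560 : Janko1.Tree ℕ := (.node (.node (.node (.node (.node (.node (.leaf 330301488) (.leaf 163090940)) (.node (.leaf 151781425) (.leaf 216399920))) (.node (.node (.leaf 361710164) (.leaf 189775920)) (.node (.leaf 221151281) (.leaf 330383408)))) (.node (.node (.node (.leaf 137386722) (.leaf 312201525)) (.node (.leaf 237223984) (.leaf 366182448))) (.node (.node (.leaf 233866613) (.leaf 327192028)) (.node (.leaf 342237526) (.leaf 216554076))))) (.node (.node (.node (.node (.leaf 20224938) (.leaf 213310268)) (.node (.leaf 157851060) (.leaf 329620301))) (.node (.node (.leaf 108953648) (.leaf 133972016)) (.node (.leaf 243793968) (.leaf 209141809)))) (.node (.node (.node (.leaf 202053661) (.leaf 215701374)) (.node (.leaf 86528296) (.leaf 212402224))) (.node (.node (.leaf 306708530) (.leaf 136331312)) (.node (.leaf 63537202) (.leaf 137674801)))))) (.node (.node (.node (.node (.node (.leaf 28197492) (.leaf 212393109)) (.node (.leaf 101212564) (.leaf 133218352))) (.node (.node (.leaf 239029506) (.leaf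 327174058)) (.node (.leaf 94247158) (.leaf 213270576)))) (.node (.node (.node (.leaf 39272497) (.leaf 329580592)) (.node (.leaf 35274801) (.leaf 347230404))) (.node (.node (.leaf 37650480) (.leaf 133939248)) (.node (.leaf 131285042) (.leaf 365232176))))) (.node (.node (.node (.node (.leaf 273154098) (.leaf 160337836)) (.node (.leaf 306677428) (.leaf 186679344))) (.node (.node (.leaf 99418162) (.leaf 309264432)) (.node (.leaf 19939376) (.leaf 163479600)))) (.node (.node (.node (.leaf 301203504) (.leaf 195543089)) (.node (.leaf 26738737) (.leaf 195561332))) (.node (.node (.leaf 86261808) (.leaf 162694281)) (.node (.leaf 233852478) (.leaf 150667556)))))))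

/-- A Schreier factor, part 561. -/
def facCodePart561 : Janko1.Tree ℕ := (.node (.node (.node (.node (.node (.node (.leaf 342219974) (.leaf 159498886)) (.node (.leaf 380518450) (.leaf 185778224))) (.node (.node (.leaf 207885548) (.leaf 190562353)) (.node (.leaf 101422848) (.leaf 189038640)))) (.node (.node (.node (.leaf 28427313) (.leaf 162682066)) (.node (.leaf 239271984) (.leaf 365217709))) (.node (.node (.leaf 218726449) (.leaf 186646576)) (.node (.leaf 305807408) (.leaf 311377968))))) (.node (.node (.node (.node (.leaf 155123761) (.leaf 309251524)) (.node (.leaf 37961776) (.leaf 189826250))) (.node (.node (.leaf 94601264) (.leaf 163446832)) (.node (.leaf 164861896) (.leaf 363027628)))) (.node (.node (.node (.leaf 298190460) (.leaf 137365049)) (.node (.leaf 47202354) (.leaf 345309232))) (.node (.node (.leaf 14045916) (.leaf 329929673)) (.node (.leaf 84040790) (.leaf 347490325)))))) (.node (.node (.node (.node (.node (.leaf 316818346) (.leaf 91570597)) (.node (.leaf 188256418) (.leaf 215408852))) (.node (.node (.leaf 184746033) (.leaf 91560937))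 (.node (.leaf 135004209) (.leaf 8801042)))) (.node (.node (.node (.leaf 170344496) (.leaf 132907056)) (.node (.leaf 220875301) (.leaf 97386545))) (.node (.node (.leaf 333815912) (.leaf 215421742)) (.node (.leaf 155861040) (.leaf 212130126))))) (.node (.node (.node (.node (.leaf 120111153) (.leaf 137396272)) (.node (.leaf 378667056) (.leaf 345325616))) (.node (.node (.leaf 312004370) (.leaf 327522040)) (.node (.leaf 18637160) (.leaf 347506125)))) (.node (.node (.node (.leaf 333824050) (.leaf 160579632)) (.node (.leaf 371532098) (.leaf 186930832))) (.node (.node (.leaf 194658354) (.leaf 309560446)) (.node (.leaf 148705897) (.leaf 163843633)))))))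

/-- A Schreier factor, part 562. -/
def facCodePart562 : Janko1.Tree ℕ := (.node (.node (.node (.node (.node (.node (.leaf 316588158) (.leaf 26467828)) (.node (.leaf 128256788) (.leaf 185554662))) (.node (.node (.leaf 374608602) (.leaf 75652825)) (.node (.leaf 203539172) (.leaf 162365488)))) (.node (.node (.node (.leaf 114923446) (.leaf 32391217)) (.node (.leaf 298205234) (.leaf 185565232))) (.node (.node (.leaf 215892016) (.leaf 188809264)) (.node (.leaf 156041264) (.leaf 162400844))))) (.node (.node (.node (.node (.leaf 14073906) (.leaf 32407601)) (.node (.leaf 312279088) (.leaf 365461552))) (.node (.node (.leaf 231693949) (.leaf 186965192)) (.node (.leaf 141197361) (.leaf 309592112)))) (.node (.node (.node (.leaf 163617932) (.leaf 190103600)) (.node (.leaf 175013937) (.leaf 327277448))) (.node (.node (.leaf 78628825) (.leaf 309362736)) (.node (.leaf 46308150) (.leaf 216629296)))))) (.node (.node (.node (.node (.node (.leaf 181391588) (.leaf 189120560)) (.node (.leaf 362545202) (.leaf 212484144))) (.node (.node (.leaf 210781757) (.leaf 185894374))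 (.node (.leaf 72679473) (.leaf 212459869)))) (.node (.node (.node (.leaf 252231728) (.leaf 185876528)) (.node (.leaf 305528880) (.leaf 230609688))) (.node (.node (.leaf 131712480) (.leaf 327237680)) (.node (.leaf 1068949) (.leaf 309353516))))) (.node (.node (.node (.node (.leaf 101138480) (.leaf 216615054)) (.node (.leaf 67944498) (.leaf 189906992))) (.node (.node (.leaf 288824242) (.leaf 213369804)) (.node (.leaf 95259676) (.leaf 186777648)))) (.node (.node (.node (.leaf 46057678) (.leaf 160399408)) (.node (.leaf 26542129) (.leaf 134110881))) (.node (.node (.leaf 111662312) (.leaf 345148612)) (.node (.leaf 131750550) (.leaf 182458268)))))))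

/-- A Schreier factor, part 563. -/
def facCodePart563 : Janko1.Tree ℕ := (.node (.node (.node (.node (.node (.node (.leaf 11026930) (.leaf 182522202)) (.node (.leaf 288800818) (.leaf 162775088))) (.node (.node (.leaf 38027312) (.leaf 159547440)) (.node (.leaf 154883418) (.leaf 133269556)))) (.node (.node (.node (.leaf 305758933) (.leaf 177422385)) (.node (.leaf 234343044) (.leaf 365305334))) (.node (.node (.leaf 1365936) (.leaf 347361297)) (.node (.leaf 181354546) (.leaf 134070320))))) (.node (.node (.node (.node (.leaf 157058892) (.leaf 363054613)) (.node (.leaf 326664242) (.leaf 345112624))) (.node (.node (.leaf 161259129) (.leaf 327598865)) (.node (.leaf 196886576) (.leaf 309692640)))) (.node (.node (.node (.leaf 211861553) (.leaf 213587422)) (.node (.leaf 374849584) (.leaf 329980842))) (.node (.node (.leaf 237436977) (.leaf 311825025)) (.node (.leaf 115425330) (.leaf 123014792)))))) (.node (.node (.node (.node (.node (.leaf 142411809) (.leaf 123100730)) (.node (.leaf 222625840) (.leaf 215507389))) (.node (.node (.leaf 51956069) (.leaf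 188930346)) (.node (.leaf 280248370) (.leaf 212210929)))) (.node (.node (.node (.leaf 13391385) (.leaf 122994737)) (.node (.leaf 244727858) (.leaf 123084089))) (.node (.node (.leaf 51940353) (.leaf 129324172)) (.node (.leaf 88571953) (.leaf 212238384))))) (.node (.node (.node (.node (.leaf 325830605) (.leaf 185637822)) (.node (.leaf 136151088) (.leaf 309730746))) (.node (.node (.leaf 197640242) (.leaf 187075606)) (.node (.leaf 143982642) (.leaf 330006576)))) (.node (.node (.node (.leaf 196582656) (.leaf 347607340)) (.node (.leaf 170147888) (.leaf 160645168))) (.node (.node (.leaf 9232549) (.leaf 134332464)) (.node (.leaf 96651553) (.leaf 163908184)))))))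

/-- A Schreier factor, part 564. -/
def facCodePart564 : Janko1.Tree ℕ := (.node (.node (.node (.node (.node (.node (.leaf 321093680) (.leaf 137499438)) (.node (.leaf 128204849) (.leaf 345440304))) (.node (.node (.leaf 221447049) (.leaf 59711050)) (.node (.leaf 142180400) (.leaf 59758600)))) (.node (.node (.node (.leaf 222363696) (.leaf 159221125)) (.node (.leaf 317736622) (.leaf 59791205))) (.node (.node (.leaf 168009446) (.leaf 65978417)) (.node (.leaf 190089609) (.leaf 66043953))))) (.node (.node (.node (.node (.leaf 163708976) (.leaf 159252528)) (.node (.leaf 141017137) (.leaf 133038128))) (.node (.node (.leaf 205340721) (.leaf 162496560)) (.node (.leaf 326095725) (.leaf 136188176)))) (.node (.node (.node (.leaf 231620657) (.leaf 66060337)) (.node (.leaf 115381090) (.leaf 365494320))) (.node (.node (.leaf 136402890) (.leaf 347619376)) (.node (.leaf 51895824) (.leaf 134365232)))))) (.node (.node (.node (.node (.node (.leaf 79626290) (.leaf 137527344)) (.node (.leaf 13418546) (.leaf 363315248))) (.node (.node (.leaf 231350458) (.leaf 371704893))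 (.node (.leaf 221435169) (.leaf 230032125)))) (.node (.node (.node (.leaf 285464678) (.leaf 226677414)) (.node (.leaf 263277136) (.leaf 146379961))) (.node (.node (.leaf 213827634) (.leaf 225869872)) (.node (.leaf 160841778) (.leaf 155729969))))) (.node (.node (.node (.node (.leaf 216973362) (.leaf 195526705)) (.node (.leaf 95748145) (.leaf 148838001))) (.node (.node (.leaf 76021809) (.leaf 150405169)) (.node (.leaf 289708892) (.leaf 225838737)))) (.node (.node (.node (.leaf 9044018) (.leaf 371671088)) (.node (.leaf 3964978) (.leaf 230015024))) (.node (.node (.leaf 43028804) (.leaf 320309484)) (.node (.leaf 102694962) (.leaf 373932080)))))))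

/-- A Schreier factor, part 565. -/
def facCodePart565 : Janko1.Tree ℕ := (.node (.node (.node (.node (.node (.node (.leaf 38846514) (.leaf 146358320)) (.node (.leaf 113655856) (.leaf 146440240))) (.node (.node (.leaf 121837048) (.leaf 320278994)) (.node (.leaf 81038961) (.leaf 208932448)))) (.node (.node (.node (.leaf 257638450) (.leaf 229283904)) (.node (.leaf 295510460) (.leaf 148888309))) (.node (.node (.leaf 259833906) (.leaf 208945201)) (.node (.leaf 33739016) (.leaf 225812070))))) (.node (.node (.node (.node (.leaf 162062106) (.leaf 137576497)) (.node (.leaf 185253937) (.leaf 148873092))) (.node (.node (.leaf 158613553) (.leaf 204096934)) (.node (.leaf 73629744) (.leaf 373964848)))) (.node (.node (.node (.leaf 41156656) (.leaf 146407472)) (.node (.leaf 97209170) (.leaf 226644341))) (.node (.node (.leaf 65931164) (.leaf 320248834)) (.node (.leaf 366837810) (.leaf 317980720)))))) (.node (.node (.node (.node (.node (.leaf 331448370) (.leaf 229987472)) (.node (.leaf 364625970) (.leaf 149766209))) (.node (.node (.leaf 191299633) (.leaf 150028336))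 (.node (.leaf 208060465) (.leaf 318210096)))) (.node (.node (.node (.leaf 234389553) (.leaf 230343684)) (.node (.leaf 354910256) (.leaf 227019422))) (.node (.node (.leaf 350519344) (.leaf 374194224)) (.node (.leaf 332660784) (.leaf 146641906))))) (.node (.node (.node (.node (.leaf 26794590) (.leaf 75634045)) (.node (.leaf 22929262) (.leaf 228982832))) (.node (.node (.leaf 122847282) (.leaf 225564346)) (.node (.leaf 118802002) (.leaf 75612209)))) (.node (.node (.node (.leaf 55558194) (.leaf 145309744)) (.node (.leaf 359192117) (.leaf 225574960))) (.node (.node (.leaf 327749966) (.leaf 145343398)) (.node (.leaf 201658380) (.leaf 150047158)))))))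

/-- A Schreier factor, part 566. -/
def facCodePart566 : Janko1.Tree ℕ := (.node (.node (.node (.node (.node (.node (.leaf 205086260) (.leaf 318242864)) (.node (.leaf 151227009) (.leaf 230360136))) (.node (.node (.leaf 230694026) (.leaf 374212334)) (.node (.leaf 177689969) (.leaf 146672802)))) (.node (.node (.node (.leaf 140230704) (.leaf 374243376)) (.node (.leaf 226623536) (.leaf 320544678))) (.node (.node (.leaf 40255537) (.leaf 150077488)) (.node (.leaf 4997169) (.leaf 371982384))))) (.node (.node (.node (.node (.leaf 192155661) (.leaf 91377033)) (.node (.leaf 165707824) (.leaf 145380420))) (.node (.node (.leaf 134316080) (.leaf 97245946)) (.node (.leaf 175358001) (.leaf 15712500)))) (.node (.node (.node (.leaf 148063300) (.leaf 228950064)) (.node (.leaf 159383600) (.leaf 146718768))) (.node (.node (.leaf 205985005) (.leaf 226983984)) (.node (.leaf 179293696) (.leaf 320569392)))))) (.node (.node (.node (.node (.node (.leaf 304749597) (.leaf 150116966)) (.node (.leaf 310789089) (.leaf 354275554))) (.node (.node (.leaf 137757884) (.leaf 230146096))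 (.node (.leaf 313147442) (.leaf 203685936)))) (.node (.node (.node (.leaf 214532146) (.leaf 226770992)) (.node (.leaf 89228729) (.leaf 200212528))) (.node (.node (.leaf 81362992) (.leaf 356614192)) (.node (.leaf 267867577) (.leaf 222298872))))) (.node (.node (.node (.node (.leaf 178651185) (.leaf 222347313)) (.node (.leaf 263217402) (.leaf 229343280))) (.node (.node (.leaf 231456817) (.leaf 225951792)) (.node (.leaf 25591856) (.leaf 199491632)))) (.node (.node (.node (.leaf 16957488) (.leaf 222330929)) (.node (.leaf 107200562) (.leaf 225935408))) (.node (.node (.leaf 97009712) (.leaf 199458864)) (.node (.leaf 73407453) (.leaf 217071665)))))))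

/-- A Schreier factor, part 567. -/
def facCodePart567 : Janko1.Tree ℕ := (.node (.node (.node (.node (.node (.node (.leaf 272187436) (.leaf 371743464)) (.node (.leaf 258490416) (.leaf 230113328))) (.node (.node (.leaf 43993009) (.leaf 203677657)) (.node (.leaf 33226800) (.leaf 200179760)))) (.node (.node (.node (.leaf 107102257) (.leaf 373997616)) (.node (.leaf 7307800) (.leaf 356589846))) (.node (.node (.leaf 275466356) (.leaf 374036138)) (.node (.leaf 277561394) (.leaf 226738224))))) (.node (.node (.node (.node (.leaf 48846897) (.leaf 230082040)) (.node (.leaf 57098288) (.leaf 371769392))) (.node (.node (.leaf 18808881) (.leaf 235421745)) (.node (.leaf 280985648) (.leaf 235503665)))) (.node (.node (.node (.leaf 113761916) (.leaf 229326896)) (.node (.leaf 83547668) (.leaf 202802153))) (.node (.node (.leaf 121931314) (.leaf 235438129)) (.node (.leaf 190416342) (.leaf 230497680)))))) (.node (.node (.node (.node (.node (.leaf 346767410) (.leaf 225905532)) (.node (.leaf 187252786) (.leaf 199430018))) (.node (.node (.leaf 41060880) (.leaf 229311769))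 (.node (.leaf 158795480) (.leaf 226705456)))) (.node (.node (.node (.leaf 290082442) (.leaf 200150020)) (.node (.leaf 106142621) (.leaf 230047792))) (.node (.node (.leaf 188010420) (.leaf 203655512)) (.node (.leaf 211468337) (.leaf 354287664))))) (.node (.node (.node (.node (.leaf 249020466) (.leaf 203964464)) (.node (.leaf 123715634) (.leaf 227049520))) (.node (.node (.leaf 199278640) (.leaf 200474672)) (.node (.leaf 337150000) (.leaf 106825846)))) (.node (.node (.node (.leaf 165173777) (.leaf 106875673)) (.node (.leaf 332595248) (.leaf 229048368))) (.node (.node (.leaf 181883394) (.leaf 202539056)) (.node (.leaf 234511105) (.leaf 106807345)))))))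

/-- A Schreier factor, part 568. -/
def facCodePart568 : Janko1.Tree ℕ := (.node (.node (.node (.node (.node (.node (.leaf 140449232) (.leaf 106856497)) (.node (.leaf 320143410) (.leaf 112859294))) (.node (.node (.leaf 150863922) (.leaf 229068497)) (.node (.leaf 322406861) (.leaf 202563336)))) (.node (.node (.node (.leaf 228163634) (.leaf 225624112)) (.node (.leaf 327669461) (.leaf 230409536))) (.node (.node (.leaf 153535076) (.leaf 200507440)) (.node (.leaf 123633713) (.leaf 374292528))))) (.node (.node (.node (.node (.leaf 133991250) (.leaf 356880522)) (.node (.leaf 358353494) (.leaf 374325296))) (.node (.node (.leaf 204259378) (.leaf 356893738)) (.node (.leaf 200859905) (.leaf 200428720)))) (.node (.node (.node (.leaf 178061362) (.leaf 203931696)) (.node (.leaf 172425264) (.leaf 372031536))) (.node (.node (.leaf 174867516) (.leaf 354566192)) (.node (.leaf 36045942) (.leaf 122798129)))))) (.node (.node (.node (.node (.node (.leaf 350289968) (.leaf 122880049)) (.node (.leaf 354667346) (.leaf 199171262))) (.node (.node (.leaf 220091849) (.leaf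 228999654)) (.node (.leaf 226692526) (.leaf 122834552)))) (.node (.node (.node (.leaf 284459058) (.leaf 129096330)) (.node (.leaf 87277618) (.leaf 129204273))) (.node (.node (.leaf 55885874) (.leaf 202508145)) (.node (.leaf 148244134) (.leaf 374343544))))) (.node (.node (.node (.node (.leaf 213717468) (.leaf 230382788)) (.node (.leaf 233701424) (.leaf 372064304))) (.node (.node (.leaf 213981048) (.leaf 173102208)) (.node (.leaf 329023538) (.leaf 374397730)))) (.node (.node (.node (.leaf 331235378) (.leaf 226039252)) (.node (.leaf 187882960) (.leaf 202903021))) (.node (.node (.leaf 121061424) (.leaf 318611544)) (.node (.leaf 191070258) (.leaf 354598960)))))))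

/-- A Schreier factor, part 569. -/
def facCodePart569 : Janko1.Tree ℕ := (.node (.node (.node (.node (.node (.node (.leaf 112990949) (.leaf 149258780)) (.node (.leaf 250251444) (.leaf 124423485))) (.node (.node (.leaf 245891120) (.leaf 112836658)) (.node (.leaf 141443121) (.leaf 93491712)))) (.node (.node (.node (.leaf 50185054) (.leaf 96714802)) (.node (.leaf 106692658) (.leaf 118226994))) (.node (.node (.leaf 75926896) (.leaf 75160353)) (.node (.leaf 104681026) (.leaf 90757885))))) (.node (.node (.node (.node (.leaf 254427184) (.leaf 173064240)) (.node (.leaf 96160037) (.leaf 374365440))) (.node (.node (.leaf 241340281) (.leaf 339170016)) (.node (.leaf 76300337) (.leaf 226000944)))) (.node (.node (.node (.leaf 30741816) (.leaf 202870230)) (.node (.leaf 41910320) (.leaf 149225520))) (.node (.node (.leaf 38754705) (.leaf 149327129)) (.node (.leaf 295622816) (.leaf 202834073)))))) (.node (.node (.node (.node (.node (.leaf 42893362) (.leaf 318586928)) (.node (.leaf 15581232) (.leaf 339148848))) (.node (.node (.leaf 4177970) (.leaf 225968176))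 (.node (.leaf 24330288) (.leaf 173129776)))) (.node (.node (.node (.leaf 115709409) (.leaf 77660210)) (.node (.leaf 119849009) (.leaf 96813106))) (.node (.node (.leaf 82201841) (.leaf 129238260)) (.node (.leaf 51494961) (.leaf 124600370))))) (.node (.node (.node (.node (.leaf 90177584) (.leaf 108321552)) (.node (.leaf 366938732) (.leaf 71778354))) (.node (.node (.leaf 160711064) (.leaf 87333996)) (.node (.leaf 6463482) (.leaf 122937406)))) (.node (.node (.node (.leaf 32330464) (.leaf 102520864)) (.node (.leaf 215227482) (.leaf 354635330))) (.node (.node (.leaf 294802574) (.leaf 149294050)) (.node (.leaf 308084784) (.leaf 318554160)))))))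

/-- A Schreier factor, part 570. -/
def facCodePart570 : Janko1.Tree ℕ := (.node (.node (.node (.node (.node (.node (.leaf 184999014) (.leaf 374423600)) (.node (.leaf 269058681) (.leaf 374644790))) (.node (.node (.leaf 225902640) (.leaf 318832688)) (.node (.leaf 191643697) (.leaf 230981773)))) (.node (.node (.node (.leaf 314703920) (.leaf 217382962)) (.node (.leaf 208338993) (.leaf 21839921))) (.node (.node (.leaf 138299748) (.leaf 21778562)) (.node (.leaf 173735984) (.leaf 187564082))))) (.node (.node (.node (.node (.leaf 154796081) (.leaf 201015346)) (.node (.leaf 338280498) (.leaf 235995186))) (.node (.node (.leaf 340352744) (.leaf 28021297)) (.node (.leaf 201490482) (.leaf 27951153)))) (.node (.node (.node (.leaf 232346020) (.leaf 192405816)) (.node (.leaf 14156005) (.leaf 203200180))) (.node (.node (.leaf 180076592) (.leaf 318865456)) (.node (.leaf 177512164) (.leaf 149602352)))))) (.node (.node (.node (.node (.node (.leaf 373758902) (.leaf 203162705)) (.node (.leaf 145464916) (.leaf 173348981))) (.node (.node (.leaf 368099376) (.leaf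 86868017)) (.node (.leaf 104127740) (.leaf 3145777)))) (.node (.node (.node (.leaf 372283132) (.leaf 200851506)) (.node (.leaf 193298480) (.leaf 230817842))) (.node (.node (.leaf 68427202) (.leaf 3228280)) (.node (.leaf 55381857) (.leaf 92807582))))) (.node (.node (.node (.node (.leaf 59592100) (.leaf 205999470)) (.node (.leaf 133240684) (.leaf 235833405))) (.node (.node (.leaf 23035954) (.leaf 10682417)) (.node (.leaf 152672104) (.leaf 92834046)))) (.node (.node (.node (.leaf 363937840) (.leaf 149635120)) (.node (.leaf 207011888) (.leaf 173375536))) (.node (.node (.leaf 178248829) (.leaf 173169894)) (.node (.leaf 90390576) (.leaf 146016202)))))))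

/-- A Schreier factor, part 571. -/
def facCodePart571 : Janko1.Tree ℕ := (.node (.node (.node (.node (.node (.node (.leaf 58791146) (.leaf 374463646)) (.node (.leaf 151241032) (.leaf 357007408))) (.node (.node (.leaf 168263729) (.leaf 339214384)) (.node (.leaf 82378800) (.leaf 321101186)))) (.node (.node (.node (.leaf 50254476) (.leaf 226117510)) (.node (.leaf 141254865) (.leaf 199591974))) (.node (.node (.leaf 24608816) (.leaf 124372762)) (.node (.leaf 161271514) (.leaf 129309184))))) (.node (.node (.node (.node (.leaf 217710642) (.leaf 81412146)) (.node (.leaf 112891201) (.leaf 77171388))) (.node (.node (.leaf 164610098) (.leaf 108363826)) (.node (.leaf 98093834) (.leaf 118147388)))) (.node (.node (.node (.leaf 41977973) (.leaf 71274268)) (.node (.leaf 8982462) (.leaf 102620001))) (.node (.node (.leaf 107085874) (.leaf 173146160)) (.node (.leaf 32112688) (.leaf 145981488)))))) (.node (.node (.node (.node (.node (.leaf 128974896) (.leaf 374439984)) (.node (.leaf 43538809) (.leaf 356999460))) (.node (.node (.leaf 6245582) (.leaf 321065490))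 (.node (.leaf 104562736) (.leaf 226090729)))) (.node (.node (.node (.leaf 39288882) (.leaf 199573552)) (.node (.leaf 299008048) (.leaf 226066480))) (.node (.node (.leaf 88326193) (.leaf 173198848)) (.node (.leaf 250011697) (.leaf 146047024))))) (.node (.node (.node (.node (.leaf 119742296) (.leaf 357040176)) (.node (.leaf 275634489) (.leaf 97264040))) (.node (.node (.leaf 71488153) (.leaf 129125545)) (.node (.leaf 3424306) (.leaf 92868170)))) (.node (.node (.node (.leaf 277732334) (.leaf 76972082)) (.node (.leaf 294715440) (.leaf 86982706))) (.node (.node (.leaf 215154737) (.leaf 118310224)) (.node (.leaf 254836784) (.leaf 102449202)))))))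

/-- A Schreier factor, part 572. -/
def facCodePart572 : Janko1.Tree ℕ := (.node (.node (.node (.node (.node (.node (.leaf 308035632) (.leaf 75776050)) (.node (.leaf 190549026) (.leaf 321011760))) (.node (.node (.leaf 173834288) (.leaf 374720981)) (.node (.leaf 123542376) (.leaf 102631960)))) (.node (.node (.node (.leaf 145719662) (.leaf 102666097)) (.node (.leaf 225804336) (.leaf 204521522))) (.node (.node (.leaf 60260402) (.leaf 230900526)) (.node (.leaf 119459924) (.leaf 190824498))))) (.node (.node (.node (.node (.leaf 139460656) (.leaf 217333810)) (.node (.leaf 219253381) (.leaf 54984753))) (.node (.node (.leaf 47793780) (.leaf 108402206)) (.node (.leaf 206691293) (.leaf 108445745)))) (.node (.node (.node (.leaf 13942833) (.leaf 235913266)) (.node (.leaf 60298562) (.leaf 195843990))) (.node (.node (.leaf 160268336) (.leaf 61095985)) (.node (.leaf 232259632) (.leaf 374753417)))))) (.node (.node (.node (.node (.node (.leaf 175005141) (.leaf 357338434)) (.node (.leaf 314477114) (.leaf 321359682))) (.node (.node (.leaf 72976621) (.leaf 173415157))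 (.node (.leaf 318621882) (.leaf 146292784)))) (.node (.node (.node (.leaf 104022065) (.leaf 357351472)) (.node (.leaf 150740733) (.leaf 38569485))) (.node (.node (.leaf 356295068) (.leaf 118276172)) (.node (.leaf 201017916) (.leaf 118358065))))) (.node (.node (.node (.node (.leaf 319969785) (.leaf 217514034)) (.node (.leaf 201919110) (.leaf 209262289))) (.node (.node (.leaf 310184452) (.leaf 235733042)) (.node (.leaf 228343857) (.leaf 44827500)))) (.node (.node (.node (.leaf 323731504) (.leaf 124567601)) (.node (.leaf 87408690) (.leaf 321376510))) (.node (.node (.leaf 91474582) (.leaf 146309168)) (.node (.leaf 251281458) (.leaf 357384240)))))))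

/-- A Schreier factor, part 573. -/
def facCodePart573 : Janko1.Tree ℕ := (.node (.node (.node (.node (.node (.node (.leaf 317165050) (.leaf 149274672)) (.node (.leaf 278305916) (.leaf 202915888))) (.node (.node (.leaf 371408945) (.leaf 199524400)) (.node (.leaf 109464156) (.leaf 374407216)))) (.node (.node (.node (.leaf 11845680) (.leaf 145915952)) (.node (.leaf 227622961) (.leaf 77094222))) (.node (.node (.leaf 362020914) (.leaf 108845053)) (.node (.leaf 44621209) (.leaf 125092836))))) (.node (.node (.node (.node (.leaf 257146929) (.leaf 123060274)) (.node (.leaf 273732196) (.leaf 71242165))) (.node (.node (.leaf 275693617) (.leaf 103071794)) (.node (.leaf 101670714) (.leaf 119034457)))) (.node (.node (.node (.leaf 1720368) (.leaf 90726298)) (.node (.leaf 64749618) (.leaf 149244957))) (.node (.node (.leaf 98980482) (.leaf 337018928)) (.node (.leaf 131530801) (.leaf 202883120)))))) (.node (.node (.node (.node (.node (.leaf 252663256) (.leaf 199515141)) (.node (.leaf 288243762) (.leaf 339181616))) (.node (.node (.leaf 33752298) (.leaf 374378294))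 (.node (.leaf 33931313) (.leaf 145899568)))) (.node (.node (.node (.leaf 109220757) (.leaf 337009544)) (.node (.leaf 11550768) (.leaf 202850352))) (.node (.node (.leaf 297802092) (.leaf 149347920)) (.node (.leaf 91144241) (.leaf 108970034))))) (.node (.node (.node (.node (.leaf 127959090) (.leaf 124945637)) (.node (.leaf 33783858) (.leaf 129220658))) (.node (.node (.leaf 252642152) (.leaf 76924073)) (.node (.leaf 288210994) (.leaf 113000498)))) (.node (.node (.node (.leaf 274038832) (.leaf 75022386)) (.node (.leaf 312808608) (.leaf 90914866))) (.node (.node (.leaf 331175726) (.leaf 118882837)) (.node (.leaf 101990448) (.leaf 122901241)))))))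

/-- A Schreier factor, part 574. -/
def facCodePart574 : Janko1.Tree ℕ := (.node (.node (.node (.node (.node (.node (.leaf 2019356) (.leaf 86904444)) (.node (.leaf 367122610) (.leaf 71090226))) (.node (.node (.leaf 349585457) (.leaf 106971186)) (.node (.leaf 234258481) (.leaf 145948720)))) (.node (.node (.node (.leaf 326178332) (.leaf 149312154)) (.node (.leaf 362086450) (.leaf 372137416))) (.node (.node (.leaf 343966649) (.leaf 372391984)) (.node (.leaf 223223389) (.leaf 374652976))))) (.node (.node (.node (.node (.leaf 48398936) (.leaf 75137073)) (.node (.leaf 111951922) (.leaf 230965298))) (.node (.node (.leaf 187318321) (.leaf 217366578)) (.node (.leaf 244154418) (.leaf 25960724)))) (.node (.node (.node (.leaf 82827744) (.leaf 75174625)) (.node (.leaf 284590129) (.leaf 219152434))) (.node (.node (.leaf 136708144) (.leaf 80937009)) (.node (.leaf 225330292) (.leaf 372432197)))))) (.node (.node (.node (.node (.node (.leaf 83333048) (.leaf 337297456)) (.node (.leaf 353501234) (.leaf 339410992))) (.node (.node (.leaf 50581281) (.leaf 374673316))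 (.node (.leaf 17337885) (.leaf 146227248)))) (.node (.node (.node (.leaf 334217264) (.leaf 374685744)) (.node (.leaf 351879216) (.leaf 146243632))) (.node (.node (.leaf 252952625) (.leaf 199778305)) (.node (.leaf 222953520) (.leaf 337264688))))) (.node (.node (.node (.node (.leaf 142707112) (.leaf 203181102)) (.node (.leaf 306815109) (.leaf 149618736))) (.node (.node (.leaf 289084984) (.leaf 372445582)) (.node (.leaf 8216984) (.leaf 8258340)))) (.node (.node (.node (.leaf 317112370) (.leaf 90882097)) (.node (.leaf 353452082) (.leaf 217580706))) (.node (.node (.leaf 329793584) (.leaf 219305564)) (.node (.leaf 321421361) (.leaf 15220785)))))))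

/-- A Schreier factor, part 575. -/
def facCodePart575 : Janko1.Tree ℕ := (.node (.node (.node (.node (.node (.node (.leaf 216340597) (.leaf 235814962)) (.node (.leaf 358285361) (.leaf 222760400))) (.node (.node (.leaf 193910917) (.leaf 374707034)) (.node (.leaf 220663506) (.leaf 146260016)))) (.node (.node (.node (.leaf 17219634) (.leaf 337281072)) (.node (.leaf 244170802) (.leaf 149651504))) (.node (.node (.leaf 279630517) (.leaf 372460337)) (.node (.leaf 379502642) (.leaf 354697264))))) (.node (.node (.node (.node (.leaf 341835826) (.leaf 337117232)) (.node (.leaf 197663674) (.leaf 339230768))) (.node (.node (.leaf 155308014) (.leaf 374481001)) (.node (.leaf 227442737) (.leaf 357023792)))) (.node (.node (.node (.leaf 356106412) (.leaf 81400532)) (.node (.leaf 109550300) (.leaf 112803890))) (.node (.node (.leaf 282952010) (.leaf 77594674)) (.node (.leaf 317391640) (.leaf 108747550)))))) (.node (.node (.node (.node (.node (.leaf 337821745) (.leaf 93560365)) (.node (.leaf 260489880) (.leaf 125017294))) (.node (.node (.leaf 272580658) (.leaf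 75595826)) (.node (.leaf 71502129) (.leaf 71680050)))) (.node (.node (.node (.leaf 96291918) (.leaf 102989874)) (.node (.leaf 35670216) (.leaf 87577997))) (.node (.node (.leaf 131088433) (.leaf 118980658)) (.node (.leaf 293322801) (.leaf 354680880))))) (.node (.node (.node (.node (.leaf 290897969) (.leaf 337087734)) (.node (.leaf 101793840) (.leaf 318668848))) (.node (.node (.leaf 286785584) (.leaf 339205481)) (.node (.leaf 239697969) (.leaf 321077296)))) (.node (.node (.node (.leaf 306076108) (.leaf 321049106)) (.node (.leaf 35717170) (.leaf 337051830))) (.node (.node (.leaf 79380588) (.leaf 372178992)) (.node (.leaf 20519413) (.leaf 93424952)))))))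

/-- A Schreier factor, part 576. -/
def facCodePart576 : Janko1.Tree ℕ := (.node (.node (.node (.node (.node (.node (.leaf 260229242) (.leaf 129105970)) (.node (.leaf 282661397) (.leaf 81526834))) (.node (.node (.leaf 244121649) (.leaf 112918578)) (.node (.leaf 341819442) (.leaf 71827506)))) (.node (.node (.node (.leaf 36297452) (.leaf 103128684)) (.node (.leaf 92717104) (.leaf 87375922))) (.node (.node (.leaf 379558004) (.leaf 118820473)) (.node (.leaf 155275316) (.leaf 91390002))))) (.node (.node (.node (.node (.leaf 234061873) (.leaf 122849497)) (.node (.leaf 367198257) (.leaf 321028144))) (.node (.node (.leaf 110330645) (.leaf 372492921)) (.node (.leaf 297615410) (.leaf 354943024)))) (.node (.node (.node (.leaf 50692146) (.leaf 318980144)) (.node (.leaf 80627670) (.leaf 321389870))) (.node (.node (.leaf 19092774) (.leaf 374738545)) (.node (.leaf 213811249) (.leaf 357323537)))))) (.node (.node (.node (.node (.node (.leaf 149653596) (.leaf 204489050)) (.node (.leaf 380360138) (.leaf 230883378))) (.node (.node (.leaf 346624098) (.leaf 190815610))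 (.node (.leaf 223298170) (.leaf 217301042)))) (.node (.node (.node (.leaf 326254641) (.leaf 214106162)) (.node (.leaf 328342892) (.leaf 201122060))) (.node (.node (.leaf 87457841) (.leaf 192446514)) (.node (.leaf 198819890) (.leaf 219086898))))) (.node (.node (.node (.node (.leaf 141869106) (.leaf 206127154)) (.node (.leaf 114737201) (.leaf 232554546))) (.node (.node (.leaf 282345521) (.leaf 337395760)) (.node (.leaf 216162176) (.leaf 319012912)))) (.node (.node (.node (.leaf 333175117) (.leaf 374775722)) (.node (.leaf 8147670) (.leaf 357367856))) (.node (.node (.leaf 63379949) (.leaf 339430041)) (.node (.leaf 141893625) (.leaf 337336522)))))))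

/-- A Schreier factor, part 577. -/
def facCodePart577 : Janko1.Tree ℕ := (.node (.node (.node (.node (.node (.node (.leaf 106780865) (.leaf 318916252)) (.node (.leaf 149323824) (.leaf 200940477))) (.node (.node (.leaf 259391537) (.leaf 204395956)) (.node (.leaf 334119441) (.leaf 230726252)))) (.node (.node (.node (.leaf 356532272) (.leaf 191004722)) (.node (.leaf 253133762) (.leaf 217486970))) (.node (.node (.leaf 263798834) (.leaf 192563364)) (.node (.leaf 80648557) (.leaf 222695593))))) (.node (.node (.node (.node (.leaf 216406441) (.leaf 357400624)) (.node (.leaf 156507578) (.leaf 339443760))) (.node (.node (.leaf 332955697) (.leaf 337362992)) (.node (.leaf 329728048) (.leaf 318947376)))) (.node (.node (.node (.leaf 116331286) (.leaf 173441134)) (.node (.leaf 323960882) (.leaf 320323632))) (.node (.node (.leaf 10620836) (.leaf 200097840)) (.node (.leaf 237699122) (.leaf 336396336)))))) (.node (.node (.node (.node (.node (.leaf 181796914) (.leaf 354222748)) (.node (.leaf 317967856) (.leaf 192233521))) (.node (.node (.leaf 78088264) (.leaf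 199393328)) (.node (.leaf 371073240) (.leaf 152229412)))) (.node (.node (.node (.leaf 243162020) (.leaf 148852669)) (.node (.leaf 288085616) (.leaf 187334705))) (.node (.node (.leaf 240238641) (.leaf 373919746)) (.node (.leaf 273416241) (.leaf 320290864))))) (.node (.node (.node (.node (.leaf 238504316) (.leaf 149749808)) (.node (.leaf 29726677) (.leaf 229999357))) (.node (.node (.leaf 68501554) (.leaf 320258096)) (.node (.leaf 59473929) (.leaf 200070866)))) (.node (.node (.node (.leaf 13175046) (.leaf 173509617)) (.node (.leaf 53723184) (.leaf 229269853))) (.node (.node (.leaf 244695089) (.leaf 139100209)) (.node (.leaf 285737009) (.leaf 139034673)))))))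

/-- A Schreier factor, part 578. -/
def facCodePart578 : Janko1.Tree ℕ := (.node (.node (.node (.node (.node (.node (.leaf 242997549) (.leaf 199376944)) (.node (.leaf 300646432) (.leaf 172703792))) (.node (.node (.leaf 297254961) (.leaf 205726021)) (.node (.leaf 323944498) (.leaf 200540901)))) (.node (.node (.node (.leaf 124551216) (.leaf 229244976)) (.node (.leaf 361971762) (.leaf 134496305))) (.node (.node (.leaf 181211466) (.leaf 199349710)) (.node (.leaf 137893084) (.leaf 172678845))))) (.node (.node (.node (.node (.leaf 237733088) (.leaf 200607750)) (.node (.leaf 62114694) (.leaf 229965872))) (.node (.node (.leaf 313540657) (.leaf 336338928)) (.node (.leaf 305348656) (.leaf 173475140)))) (.node (.node (.node (.leaf 366723280) (.leaf 373953738)) (.node (.leaf 279501792) (.leaf 374181921))) (.node (.node (.leaf 246480946) (.leaf 320590149)) (.node (.leaf 156958769) (.leaf 230326320)))))) (.node (.node (.node (.node (.node (.leaf 112139268) (.leaf 336674864)) (.node (.leaf 52396082) (.leaf 354451504))) (.node (.node (.leaf 176512565) (.leaf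 172432177)) (.node (.leaf 326730042) (.leaf 71696433)))) (.node (.node (.node (.leaf 329089073) (.leaf 22282289)) (.node (.leaf 196313136) (.leaf 199114800))) (.node (.node (.leaf 374341680) (.leaf 228973198)) (.node (.leaf 346100630) (.leaf 71614804))))) (.node (.node (.node (.node (.leaf 118128689) (.leaf 172460777)) (.node (.leaf 353337394) (.leaf 77627441))) (.node (.node (.leaf 315228210) (.leaf 28327985)) (.node (.leaf 168598776) (.leaf 77512753)))) (.node (.node (.node (.leaf 182846572) (.leaf 173752368)) (.node (.leaf 264454193) (.leaf 320602160))) (.node (.node (.leaf 302088241) (.leaf 336707632)) (.node (.leaf 281690161) (.leaf 354467888)))))))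

/-- A Schreier factor, part 579. -/
def facCodePart579 : Janko1.Tree ℕ := (.node (.node (.node (.node (.node (.node (.leaf 75107348) (.leaf 150062925)) (.node (.leaf 168607794) (.leaf 320520240))) (.node (.node (.leaf 43227728) (.leaf 200327216)) (.node (.leaf 225397285) (.leaf 374226992)))) (.node (.node (.node (.leaf 176265893) (.leaf 228920012)) (.node (.leaf 277174046) (.leaf 3686449))) (.node (.node (.leaf 316054753) (.leaf 199082032)) (.node (.leaf 246448178) (.leaf 93274161))))) (.node (.node (.node (.node (.leaf 82624562) (.leaf 148570160)) (.node (.leaf 13016602) (.leaf 228941760))) (.node (.node (.leaf 279511314) (.leaf 11190321)) (.node (.leaf 150478141) (.leaf 172474416)))) (.node (.node (.node (.leaf 112164906) (.leaf 93388849)) (.node (.leaf 189677616) (.leaf 150100360))) (.node (.node (.leaf 350735161) (.leaf 320554750)) (.node (.leaf 311705648) (.leaf 200366769)))))) (.node (.node (.node (.node (.node (.leaf 378372144) (.leaf 173801520)) (.node (.leaf 375037801) (.leaf 374261584))) (.node (.node (.leaf 371007341) (.leaf 173527106))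 (.node (.leaf 300908816) (.leaf 146490489)))) (.node (.node (.node (.leaf 353517872) (.leaf 356602516)) (.node (.leaf 317790560) (.leaf 230129712))) (.node (.node (.leaf 85924006) (.leaf 336445488)) (.node (.leaf 336216113) (.leaf 318062640))))) (.node (.node (.node (.node (.leaf 158289428) (.leaf 172737612)) (.node (.leaf 171114824) (.leaf 145642788))) (.node (.node (.leaf 144048177) (.leaf 218865482)) (.node (.leaf 211894322) (.leaf 218913113)))) (.node (.node (.node (.leaf 19716641) (.leaf 178905012)) (.node (.leaf 304992029) (.leaf 145604656))) (.node (.node (.leaf 251691056) (.leaf 213848756)) (.node (.leaf 275071025) (.leaf 213899789)))))))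

/-- A Schreier factor, part 580. -/
def facCodePart580 : Janko1.Tree ℕ := (.node (.node (.node (.node (.node (.node (.leaf 61907092) (.leaf 202823476)) (.node (.leaf 93585456) (.leaf 174000004))) (.node (.node (.leaf 38699057) (.leaf 146458169)) (.node (.leaf 3547149) (.leaf 373988664)))) (.node (.node (.node (.leaf 96421990) (.leaf 356565040)) (.node (.leaf 270554074) (.leaf 230096944))) (.node (.node (.leaf 27738160) (.leaf 336429104)) (.node (.leaf 297211764) (.leaf 230066681))))) (.node (.node (.node (.node (.leaf 279396401) (.leaf 318036834)) (.node (.leaf 96407841) (.leaf 165693370))) (.node (.node (.leaf 63078450) (.leaf 145656281)) (.node (.leaf 305971250) (.leaf 232210481)))) (.node (.node (.node (.leaf 366624817) (.leaf 229295090)) (.node (.leaf 305283120) (.leaf 202791729))) (.node (.node (.leaf 93913136) (.leaf 227098673)) (.node (.leaf 164284952) (.leaf 203643912)))))) (.node (.node (.node (.node (.node (.leaf 28005856) (.leaf 374014645)) (.node (.leaf 379224114) (.leaf 356635986))) (.node (.node (.leaf 379142193) (.leaf 173825712))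 (.node (.leaf 326635772) (.leaf 230393568)))) (.node (.node (.node (.leaf 176540160) (.leaf 203950942)) (.node (.leaf 261783602) (.leaf 229031984))) (.node (.node (.leaf 46792754) (.leaf 202522672)) (.node (.leaf 297467954) (.leaf 55399265))))) (.node (.node (.node (.node (.leaf 378093616) (.leaf 145408048)) (.node (.leaf 325276074) (.leaf 108776210))) (.node (.node (.leaf 284033073) (.leaf 108871729)) (.node (.leaf 209485872) (.leaf 61562665)))) (.node (.node (.node (.leaf 266867054) (.leaf 61636657)) (.node (.leaf 145004089) (.leaf 173850672))) (.node (.node (.leaf 55350117) (.leaf 146756740)) (.node (.leaf 22454142) (.leaf 374277201)))))))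

/-- A Schreier factor, part 581. -/
def facCodePart581 : Janko1.Tree ℕ := (.node (.node (.node (.node (.node (.node (.leaf 86835249) (.leaf 203980848)) (.node (.leaf 118398796) (.leaf 336744054))) (.node (.node (.leaf 370982962) (.leaf 318309390)) (.node (.leaf 288522289) (.leaf 318259248)))) (.node (.node (.node (.leaf 176308272) (.leaf 146784304)) (.node (.leaf 202899504) (.leaf 374308912))) (.node (.node (.leaf 63753369) (.leaf 202493705)) (.node (.leaf 30457905) (.leaf 38966770))))) (.node (.node (.node (.node (.leaf 335631909) (.leaf 172507184)) (.node (.leaf 374985229) (.leaf 229018685))) (.node (.node (.leaf 325525817) (.leaf 45210692)) (.node (.leaf 322011185) (.leaf 172539952)))) (.node (.node (.node (.leaf 150536241) (.leaf 336724016)) (.node (.leaf 297500722) (.leaf 356909104))) (.node (.node (.leaf 284852544) (.leaf 347249172)) (.node (.leaf 262701104) (.leaf 329596976)))))) (.node (.node (.node (.node (.node (.leaf 280576048) (.leaf 186695728)) (.node (.leaf 121589898) (.leaf 216530992))) (.node (.node (.leaf 25083952) (.leaf 309280816))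 (.node (.leaf 113413645) (.leaf 362971184)))) (.node (.node (.node (.leaf 194155493) (.leaf 205946929)) (.node (.leaf 56857862) (.leaf 215679024))) (.node (.node (.leaf 88672521) (.leaf 205815857)) (.node (.leaf 271679536) (.leaf 159449136))))) (.node (.node (.node (.node (.leaf 289210416) (.leaf 134534058)) (.node (.leaf 258051548) (.leaf 200789938))) (.node (.node (.leaf 129597488) (.leaf 215671024)) (.node (.leaf 126882636) (.leaf 347209776)))) (.node (.node (.node (.leaf 7831602) (.leaf 216516788)) (.node (.leaf 2659353) (.leaf 362943956))) (.node (.node (.leaf 7864369) (.leaf 137117744)) (.node (.leaf 245974121) (.leaf 345034780)))))))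

/-- A Schreier factor, part 582. -/
def facCodePart582 : Janko1.Tree ℕ := (.node (.node (.node (.node (.node (.node (.leaf 263667761) (.leaf 163463216)) (.node (.leaf 265969354) (.leaf 327122992))) (.node (.node (.leaf 299960960) (.leaf 311395542)) (.node (.leaf 282187252) (.leaf 213244593)))) (.node (.node (.node (.leaf 302268465) (.leaf 134004784)) (.node (.leaf 239439734) (.leaf 192270073))) (.node (.node (.leaf 275038258) (.leaf 212360960)) (.node (.leaf 277126180) (.leaf 152404017))))) (.node (.node (.node (.node (.leaf 310444081) (.leaf 147046449)) (.node (.leaf 328766854) (.leaf 162660556))) (.node (.node (.leaf 344164786) (.leaf 187452681)) (.node (.leaf 364888113) (.leaf 187388418)))) (.node (.node (.node (.leaf 380701598) (.leaf 133234736)) (.node (.leaf 218307865) (.leaf 163432808))) (.node (.node (.leaf 346333334) (.leaf 365207077)) (.node (.leaf 332169264) (.leaf 329908272)))))) (.node (.node (.node (.node (.node (.leaf 349929520) (.leaf 186974256)) (.node (.leaf 219814673) (.leaf 363233328))) (.node (.node (.leaf 139935792) (.leaf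 137347120)) (.node (.leaf 217235748) (.leaf 3809438)))) (.node (.node (.node (.leaf 233963569) (.leaf 185588557)) (.node (.leaf 25907801) (.leaf 215385092))) (.node (.node (.leaf 90922714) (.leaf 87478490)) (.node (.leaf 86884402) (.leaf 136109962))))) (.node (.node (.node (.node (.leaf 340677238) (.leaf 159128010)) (.node (.leaf 327090224) (.leaf 93569073))) (.node (.node (.leaf 345014320) (.leaf 185600725)) (.node (.leaf 212844592) (.leaf 11259788)))) (.node (.node (.node (.leaf 123093041) (.leaf 186996729)) (.node (.leaf 46614120) (.leaf 216776752))) (.node (.node (.leaf 26002770) (.leaf 137379888)) (.node (.leaf 255266318) (.leaf 345348425)))))))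

/-- A Schreier factor, part 583. -/
def facCodePart583 : Janko1.Tree ℕ := (.node (.node (.node (.node (.node (.node (.leaf 272941105) (.leaf 163829081)) (.node (.leaf 239730737) (.leaf 190076290))) (.node (.node (.leaf 308674609) (.leaf 311689264)) (.node (.leaf 175636530) (.leaf 188776496)))) (.node (.node (.node (.leaf 321750285) (.leaf 71733004)) (.node (.leaf 319307826) (.leaf 132939824))) (.node (.node (.leaf 337575985) (.leaf 162381872)) (.node (.leaf 316937029) (.leaf 188796040))))) (.node (.node (.node (.node (.leaf 56623154) (.leaf 345377440)) (.node (.leaf 120045618) (.leaf 163856537))) (.node (.node (.leaf 60850556) (.leaf 190087216)) (.node (.leaf 124163776) (.leaf 327475590)))) (.node (.node (.node (.leaf 248339542) (.leaf 311713240)) (.node (.leaf 250676586) (.leaf 134283312))) (.node (.node (.leaf 328257514) (.leaf 160369713)) (.node (.leaf 330649141) (.leaf 329678896)))))) (.node (.node (.node (.node (.node (.leaf 48586137) (.leaf 311542710)) (.node (.leaf 351584305) (.leaf 232314874))) (.node (.node (.leaf 113477969) (.leaf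 232374321)) (.node (.leaf 339853361) (.leaf 215777328)))) (.node (.node (.node (.leaf 256966706) (.leaf 227328049)) (.node (.leaf 7783733) (.leaf 227380828))) (.node (.node (.leaf 106435449) (.leaf 160829904)) (.node (.leaf 288587825) (.leaf 160350256))))) (.node (.node (.node (.node (.leaf 277451728) (.leaf 329662712)) (.node (.leaf 270440560) (.leaf 216601030))) (.node (.node (.leaf 271597616) (.leaf 189897513)) (.node (.leaf 50479153) (.leaf 163561520)))) (.node (.node (.node (.leaf 292864050) (.leaf 137232432)) (.node (.leaf 83051500) (.leaf 213344548))) (.node (.node (.leaf 72482866) (.leaf 186745030)) (.node (.leaf 16156368) (.leaf 162758704)))))))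

/-- A Schreier factor, part 584. -/
def facCodePart584 : Janko1.Tree ℕ := (.node (.node (.node (.node (.node (.node (.leaf 300073009) (.leaf 136446000)) (.node (.leaf 280354653) (.leaf 212419728))) (.node (.node (.leaf 246186033) (.leaf 185860144)) (.node (.leaf 248290345) (.leaf 179159089)))) (.node (.node (.node (.leaf 73072688) (.leaf 162743476)) (.node (.leaf 366428210) (.leaf 136433617))) (.node (.node (.leaf 191692850) (.leaf 185829249)) (.node (.leaf 211016996) (.leaf 174145585))))) (.node (.node (.node (.node (.leaf 188366898) (.leaf 174243889)) (.node (.leaf 7061552) (.leaf 163545136))) (.node (.node (.leaf 364970033) (.leaf 137216048)) (.node (.leaf 380813361) (.leaf 309322113)))) (.node (.node (.node (.leaf 310593380) (.leaf 186728984)) (.node (.leaf 326467633) (.leaf 347340848))) (.node (.node (.leaf 268470990) (.leaf 160601345)) (.node (.leaf 266108978) (.leaf 329957424)))))) (.node (.node (.node (.node (.node (.leaf 54936022) (.leaf 311803952)) (.node (.leaf 27459634) (.leaf 216809520))) (.node (.node (.leaf 226448302) (.leaf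 132988976)) (.node (.leaf 219893921) (.leaf 119046718)))) (.node (.node (.node (.leaf 330760241) (.leaf 215482416)) (.node (.leaf 336664621) (.leaf 188910257))) (.node (.node (.leaf 341950513) (.leaf 39048125)) (.node (.leaf 337739826) (.leaf 159171732))))) (.node (.node (.node (.node (.leaf 12861489) (.leaf 133021744)) (.node (.leaf 25919537) (.leaf 125124657))) (.node (.node (.leaf 151961650) (.leaf 45285425)) (.node (.leaf 122872190) (.leaf 45370324)))) (.node (.node (.node (.leaf 232865840) (.leaf 134307766)) (.node (.leaf 286579826) (.leaf 329992765))) (.node (.node (.leaf 261701681) (.leaf 216825904)) (.node (.leaf 340623408) (.leaf 190234672)))))))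

/-- A Schreier factor, part 585. -/
def facCodePart585 : Janko1.Tree ℕ := (.node (.node (.node (.node (.node (.node (.leaf 268586192) (.leaf 363283986)) (.node (.leaf 67321905) (.leaf 163889200))) (.node (.node (.leaf 373168481) (.leaf 309624880)) (.node (.leaf 205477242) (.leaf 187023408)))) (.node (.node (.node (.leaf 139627530) (.leaf 162463792)) (.node (.leaf 308871217) (.leaf 136167472))) (.node (.node (.leaf 293576932) (.leaf 103153713)) (.node (.leaf 349724960) (.leaf 212140080))))) (.node (.node (.node (.node (.leaf 118261829) (.leaf 162480176)) (.node (.leaf 197378097) (.leaf 61808541))) (.node (.node (.leaf 92471346) (.leaf 61849649)) (.node (.leaf 133745285) (.leaf 163928026)))) (.node (.node (.node (.leaf 373358641) (.leaf 137518570)) (.node (.leaf 153196454) (.leaf 327554174))) (.node (.node (.leaf 371246025) (.leaf 309645608)) (.node (.leaf 345423920) (.leaf 213549104)))))) (.node (.node (.node (.node (.node (.leaf 310419532) (.leaf 136511536)) (.node (.leaf 15188016) (.leaf 189485796))) (.node (.node (.leaf 161710130) (.leaf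 186292842)) (.node (.leaf 177700913) (.leaf 311871216)))) (.node (.node (.node (.leaf 165022340) (.leaf 348000640)) (.node (.leaf 167657521) (.leaf 133333040))) (.node (.node (.leaf 340426801) (.leaf 10406353)) (.node (.leaf 333894921) (.leaf 32150984))))) (.node (.node (.node (.node (.leaf 357777866) (.leaf 31741926)) (.node (.leaf 245432368) (.leaf 15007794))) (.node (.node (.leaf 241893426) (.leaf 2949170)) (.node (.leaf 5539064) (.leaf 21760697)))) (.node (.node (.node (.leaf 43965353) (.leaf 25938946)) (.node (.leaf 39731250) (.leaf 3788937))) (.node (.node (.leaf 42975820) (.leaf 7997974)) (.node (.leaf 270958641) (.leaf 136478768)))))))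

/-- A Schreier factor, part 586. -/
def facCodePart586 : Janko1.Tree ℕ := (.node (.node (.node (.node (.node (.node (.leaf 97535700) (.leaf 345756674)) (.node (.leaf 259686449) (.leaf 309788720))) (.node (.node (.leaf 74007350) (.leaf 189452341)) (.node (.leaf 287948849) (.leaf 186270418)))) (.node (.node (.node (.leaf 253870128) (.leaf 311853104)) (.node (.leaf 276943941) (.leaf 347981961))) (.node (.node (.leaf 240699645) (.leaf 133300272)) (.node (.leaf 7979058) (.leaf 212811824))))) (.node (.node (.node (.node (.leaf 22069297) (.leaf 162824570)) (.node (.leaf 107855922) (.leaf 363678241))) (.node (.node (.leaf 49381424) (.leaf 61818238)) (.node (.leaf 57690824) (.leaf 48726066)))) (.node (.node (.node (.leaf 298500144) (.leaf 49102898)) (.node (.leaf 299548721) (.leaf 44761138))) (.node (.node (.leaf 104387036) (.leaf 55548992)) (.node (.leaf 348493816) (.leaf 59049682)))))) (.node (.node (.node (.node (.node (.leaf 128729136) (.leaf 42713138)) (.node (.leaf 218447922) (.leaf 38617138))) (.node (.node (.leaf 311164977) (.leaf 159645744))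 (.node (.leaf 294207536) (.leaf 327630896)))) (.node (.node (.node (.leaf 250859754) (.leaf 136778873)) (.node (.leaf 90718258) (.leaf 345997360))) (.node (.node (.leaf 164222230) (.leaf 312135161)) (.node (.leaf 180900532) (.leaf 133537492))))) (.node (.node (.node (.node (.leaf 331415601) (.leaf 8011825)) (.node (.leaf 199805810) (.leaf 137911916))) (.node (.node (.leaf 193019952) (.leaf 90734641)) (.node (.leaf 318341168) (.leaf 147177522)))) (.node (.node (.node (.leaf 359727153) (.leaf 134778193)) (.node (.leaf 314015792) (.leaf 8044593))) (.node (.node (.leaf 319459486) (.leaf 15047756)) (.node (.leaf 90931249) (.leaf 96731185)))))))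

/-- A Schreier factor, part 587. -/
def facCodePart587 : Janko1.Tree ℕ := (.node (.node (.node (.node (.node (.node (.leaf 47292466) (.leaf 152439561)) (.node (.leaf 59785265) (.leaf 15056945))) (.node (.node (.leaf 206209072) (.leaf 346013744)) (.node (.leaf 186187824) (.leaf 189767292)))) (.node (.node (.node (.leaf 322766049) (.leaf 312171041)) (.node (.leaf 355647538) (.leaf 330290669))) (.node (.node (.leaf 231981106) (.leaf 216318000)) (.node (.leaf 228721185) (.leaf 363888688))))) (.node (.node (.node (.node (.leaf 166187702) (.leaf 174448841)) (.node (.leaf 255975658) (.leaf 25927577))) (.node (.node (.leaf 240517169) (.leaf 160926108)) (.node (.leaf 293097221) (.leaf 177684530)))) (.node (.node (.node (.leaf 21824268) (.leaf 179392356)) (.node (.leaf 283859985) (.leaf 31727281))) (.node (.node (.leaf 26017842) (.leaf 80845118)) (.node (.leaf 286072392) (.leaf 165940964)))))) (.node (.node (.node (.node (.node (.leaf 120146346) (.leaf 80825228)) (.node (.leaf 124272690) (.leaf 182752154))) (.node (.node (.leaf 319864881) (.leaf 159907888))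 (.node (.leaf 317636657) (.leaf 330320837)))) (.node (.node (.node (.leaf 370819121) (.leaf 363905072)) (.node (.leaf 299473188) (.leaf 365904982))) (.node (.node (.leaf 245174521) (.leaf 159718845)) (.node (.leaf 249381393) (.leaf 330088496))))) (.node (.node (.node (.node (.leaf 283689009) (.leaf 311918640)) (.node (.leaf 81582621) (.leaf 216154160))) (.node (.node (.leaf 248610865) (.leaf 162873392)) (.node (.leaf 57786416) (.leaf 136593456)))) (.node (.node (.node (.leaf 50839601) (.leaf 61718578)) (.node (.leaf 9571974) (.leaf 15237170))) (.node (.node (.leaf 22137696) (.leaf 11124786)) (.node (.leaf 76611634) (.leaf 45154354)))))))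

/-- A Schreier factor, part 588. -/
def facCodePart588 : Janko1.Tree ℕ := (.node (.node (.node (.node (.node (.node (.leaf 38322226) (.leaf 49053746)) (.node (.leaf 292741478) (.leaf 44669052))) (.node (.node (.leaf 364281905) (.leaf 22478898)) (.node (.leaf 294112844) (.leaf 55460013)))) (.node (.node (.node (.leaf 66404400) (.leaf 54853682)) (.node (.leaf 344710421) (.leaf 59646162))) (.node (.node (.leaf 138526770) (.leaf 365887536)) (.node (.leaf 135381042) (.leaf 212877360))))) (.node (.node (.node (.node (.leaf 157392304) (.leaf 330072112)) (.node (.leaf 188535938) (.leaf 311903768))) (.node (.node (.leaf 330776626) (.leaf 327712816)) (.node (.leaf 366313522) (.leaf 189497392)))) (.node (.node (.node (.leaf 328485962) (.leaf 162857110)) (.node (.leaf 31834160) (.leaf 363708464))) (.node (.node (.leaf 308297777) (.leaf 366166064)) (.node (.leaf 313802800) (.leaf 159989808)))))) (.node (.node (.node (.node (.node (.leaf 371654704) (.leaf 186622066)) (.node (.leaf 275365937) (.leaf 312184313))) (.node (.node (.leaf 255836209) (.leaf 327991344))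 (.node (.leaf 166239817) (.leaf 309988930)))) (.node (.node (.node (.leaf 172984466) (.leaf 136863289)) (.node (.leaf 38961201) (.leaf 106287310))) (.node (.node (.leaf 3833905) (.leaf 134742225)) (.node (.leaf 202244146) (.leaf 160874546))))) (.node (.node (.node (.node (.leaf 375242802) (.leaf 106266673)) (.node (.leaf 71161525) (.leaf 59082586))) (.node (.node (.leaf 102662193) (.leaf 150866346)) (.node (.leaf 372984638) (.leaf 177622878)))) (.node (.node (.node (.leaf 372752433) (.leaf 152731698)) (.node (.leaf 363364400) (.leaf 179339314))) (.node (.node (.leaf 309674032) (.leaf 65244764)) (.node (.leaf 355502845) (.leaf 65292258)))))))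

/-- A Schreier factor, part 589. -/
def facCodePart589 : Janko1.Tree ℕ := (.node (.node (.node (.node (.node (.node (.leaf 370727204) (.leaf 112233792)) (.node (.leaf 323239984) (.leaf 139264050))) (.node (.node (.leaf 319586353) (.leaf 142285534)) (.node (.leaf 159973424) (.leaf 169263154)))) (.node (.node (.node (.leaf 338155964) (.leaf 112316590)) (.node (.leaf 206348296) (.leaf 156078388))) (.node (.node (.leaf 23370804) (.leaf 366203642)) (.node (.leaf 147048660) (.leaf 160006297))))) (.node (.node (.node (.node (.leaf 88555570) (.leaf 133677104)) (.node (.leaf 27335472) (.leaf 213172272))) (.node (.node (.leaf 143724750) (.leaf 330401065)) (.node (.leaf 92651942) (.leaf 312218353)))) (.node (.node (.node (.leaf 266223666) (.leaf 328007728)) (.node (.leaf 55055977) (.leaf 310018096))) (.node (.node (.leaf 118095922) (.leaf 216416304)) (.node (.leaf 268620033) (.leaf 163104517)))))) (.node (.node (.node (.node (.node (.leaf 316997682) (.leaf 344018692)) (.node (.leaf 353140786) (.leaf 208371760))) (.node (.node (.leaf 168558642) (.leaf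 237355056)) (.node (.leaf 221675570) (.leaf 324010070)))) (.node (.node (.node (.leaf 214156498) (.leaf 359700021)) (.node (.leaf 362692657) (.leaf 181082308))) (.node (.node (.leaf 81985584) (.leaf 205766705)) (.node (.leaf 249495600) (.leaf 210944048))))) (.node (.node (.node (.node (.leaf 303071280) (.leaf 205852570)) (.node (.leaf 328636872) (.leaf 139170569))) (.node (.node (.leaf 246074653) (.leaf 181059632)) (.node (.leaf 281575474) (.leaf 134594609)))) (.node (.node (.node (.leaf 50446385) (.leaf 234045488)) (.node (.leaf 48125842) (.leaf 134660109))) (.node (.node (.leaf 111542322) (.leaf 157384752)) (.node (.leaf 97714224) (.leaf 155271216)))))))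

/-- A Schreier factor, part 590. -/
def facCodePart590 : Janko1.Tree ℕ := (.node (.node (.node (.node (.node (.node (.leaf 66179264) (.leaf 378969090)) (.node (.leaf 248234090) (.leaf 323993648))) (.node (.node (.leaf 293799648) (.leaf 185142153)) (.node (.leaf 281534214) (.leaf 323978348)))) (.node (.node (.node (.leaf 48152626) (.leaf 343965744)) (.node (.leaf 111563580) (.leaf 208324186))) (.node (.node (.leaf 126730565) (.leaf 155354737)) (.node (.leaf 95307106) (.leaf 379076656))))) (.node (.node (.node (.node (.leaf 277529612) (.leaf 152338481)) (.node (.leaf 295584818) (.leaf 157499440))) (.node (.node (.leaf 57904268) (.leaf 192348209)) (.node (.leaf 270373285) (.leaf 181125168)))) (.node (.node (.node (.leaf 252772401) (.leaf 152272945)) (.node (.leaf 316965145) (.leaf 147118797))) (.node (.node (.leaf 353097544) (.leaf 157450288)) (.node (.leaf 31637556) (.leaf 210866934)))))) (.node (.node (.node (.node (.node (.leaf 128565296) (.leaf 187498545)) (.node (.leaf 194314289) (.leaf 234012720))) (.node (.node (.leaf 74416176) (.leaf 359710768))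 (.node (.leaf 358367281) (.leaf 237240368)))) (.node (.node (.node (.leaf 375832625) (.leaf 323951210)) (.node (.leaf 333185073) (.leaf 343939672))) (.node (.node (.leaf 315244593) (.leaf 208306224)) (.node (.leaf 254018445) (.leaf 155320368))))) (.node (.node (.node (.node (.leaf 307445808) (.leaf 379027504)) (.node (.leaf 98762802) (.leaf 379584560))) (.node (.node (.leaf 253038752) (.leaf 344219193)) (.node (.leaf 68984573) (.leaf 237830192)))) (.node (.node (.node (.leaf 132202546) (.leaf 324288560)) (.node (.leaf 353604149) (.leaf 180782282))) (.node (.node (.leaf 193126369) (.leaf 87447614)) (.node (.leaf 371889708) (.leaf 87547461)))))))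

/-- A Schreier factor, part 591. -/
def facCodePart591 : Janko1.Tree ℕ := (.node (.node (.node (.node (.node (.node (.leaf 337461297) (.leaf 3934037)) (.node (.leaf 319225905) (.leaf 157106224))) (.node (.node (.leaf 34127921) (.leaf 93470769)) (.node (.leaf 291248384) (.leaf 344244272)))) (.node (.node (.node (.leaf 257310769) (.leaf 237862960)) (.node (.leaf 239910961) (.leaf 324304944))) (.node (.node (.leaf 185436318) (.leaf 344147892)) (.node (.leaf 110779264) (.leaf 155616101))))) (.node (.node (.node (.node (.leaf 304829824) (.leaf 157171760)) (.node (.leaf 199709728) (.leaf 210555648))) (.node (.node (.leaf 173097008) (.leaf 71845192)) (.node (.leaf 313573424) (.leaf 71796196)))) (.node (.node (.node (.leaf 261636145) (.leaf 180832557)) (.node (.leaf 244383793) (.leaf 22429745))) (.node (.node (.leaf 253006694) (.leaf 28460974)) (.node (.leaf 288423986) (.leaf 157188144)))))) (.node (.node (.node (.node (.node (.leaf 34078770) (.leaf 210568453)) (.node (.leaf 98829353) (.leaf 77692977))) (.node (.node (.leaf 132235314) (.leaf 28426289))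 (.node (.leaf 349085509) (.leaf 237800312)))) (.node (.node (.node (.leaf 341890685) (.leaf 344196896)) (.node (.leaf 324010033) (.leaf 208633904))) (.node (.node (.leaf 322934934) (.leaf 155672056)) (.node (.leaf 344361269) (.leaf 379147701))))) (.node (.node (.node (.node (.leaf 380583985) (.leaf 211796016)) (.node (.leaf 49807408) (.leaf 158450724))) (.node (.node (.leaf 210894897) (.leaf 181157936)) (.node (.leaf 198495822) (.leaf 234132288)))) (.node (.node (.node (.leaf 214193412) (.leaf 207601712)) (.node (.leaf 120291376) (.leaf 232325758))) (.node (.node (.leaf 15106096) (.leaf 165740593)) (.node (.leaf 335298610) (.leaf 165806129)))))))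

/-- A Schreier factor, part 592. -/
def facCodePart592 : Janko1.Tree ℕ := (.node (.node (.node (.node (.node (.node (.leaf 253804592) (.leaf 181141552)) (.node (.leaf 293716016) (.leaf 207585328))) (.node (.node (.leaf 284267853) (.leaf 227298109)) (.node (.leaf 82952356) (.leaf 344080432)))) (.node (.node (.node (.leaf 298241904) (.leaf 158548016)) (.node (.leaf 249285605) (.leaf 237442334))) (.node (.node (.leaf 295362678) (.leaf 326263045)) (.node (.leaf 14435706) (.leaf 179093553))))) (.node (.node (.node (.node (.leaf 7962657) (.leaf 207539229)) (.node (.leaf 263602226) (.leaf 154517552))) (.node (.node (.leaf 315162673) (.leaf 174211121)) (.node (.leaf 351737572) (.leaf 234099784)))) (.node (.node (.node (.leaf 97944209) (.leaf 181194978)) (.node (.leaf 220894585) (.leaf 158466096))) (.node (.node (.leaf 204276726) (.leaf 237376921)) (.node (.leaf 141713580) (.leaf 211682446)))))) (.node (.node (.node (.node (.node (.leaf 335266494) (.leaf 326228241)) (.node (.leaf 199868464) (.leaf 237944880))) (.node (.node (.leaf 166598320) (.leaf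 158784157)) (.node (.leaf 36020489) (.leaf 154223841)))) (.node (.node (.node (.leaf 96469042) (.leaf 233816112)) (.node (.leaf 270680114) (.leaf 39163245))) (.node (.node (.leaf 322617392) (.leaf 180887326)) (.node (.leaf 239835678) (.leaf 154245512))))) (.node (.node (.node (.node (.leaf 273092850) (.leaf 233838405)) (.node (.leaf 275906609) (.leaf 124977201))) (.node (.node (.leaf 179666992) (.leaf 125042737)) (.node (.leaf 186286128) (.leaf 45318193)))) (.node (.node (.node (.leaf 103141736) (.leaf 362176349)) (.node (.leaf 99271360) (.leaf 344416113))) (.node (.node (.leaf 158777394) (.leaf 326555470)) (.node (.leaf 38535217) (.leaf 237994032)))))))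

/-- A Schreier factor, part 593. -/
def facCodePart593 : Janko1.Tree ℕ := (.node (.node (.node (.node (.node (.node (.leaf 34294789) (.leaf 158862568)) (.node (.leaf 268730417) (.leaf 185466928))) (.node (.node (.leaf 318029872) (.leaf 237895728)) (.node (.leaf 192798369) (.leaf 344277040)))) (.node (.node (.node (.leaf 173162544) (.leaf 362192214)) (.node (.leaf 91340849) (.leaf 55492657))) (.node (.node (.leaf 158849992) (.leaf 55559120)) (.node (.leaf 110875890) (.leaf 103174116))))) (.node (.node (.node (.node (.leaf 379803849) (.leaf 233752137)) (.node (.leaf 26050609) (.leaf 207274032))) (.node (.node (.leaf 46717740) (.leaf 180895792)) (.node (.leaf 342115694) (.leaf 154280050)))) (.node (.node (.node (.leaf 309510192) (.leaf 61702193)) (.node (.leaf 376117352) (.leaf 108958506))) (.node (.node (.leaf 360448049) (.leaf 233766960)) (.node (.leaf 206471216) (.leaf 180912176)))))) (.node (.node (.node (.node (.node (.leaf 233919512) (.leaf 158957616)) (.node (.leaf 63111218) (.leaf 344358960))) (.node (.node (.leaf 270663730) (.leaf 326520872))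 (.node (.leaf 130891826) (.leaf 362233904)))) (.node (.node (.node (.leaf 267501616) (.leaf 377572808)) (.node (.leaf 24969264) (.leaf 208011312))) (.node (.node (.leaf 311017521) (.leaf 380389388)) (.node (.leaf 184401969) (.leaf 21676082))))) (.node (.node (.node (.node (.leaf 221779306) (.leaf 26396357)) (.node (.leaf 171999282) (.leaf 43113496))) (.node (.node (.leaf 315064370) (.leaf 42745906)) (.node (.leaf 57049136) (.leaf 39026738)))) (.node (.node (.node (.leaf 353009714) (.leaf 25870386)) (.node (.leaf 283639857) (.leaf 32312225))) (.node (.node (.leaf 299420506) (.leaf 49171382)) (.node (.leaf 248660017) (.leaf 48811594)))))))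

/-- A Schreier factor, part 594. -/
def facCodePart594 : Janko1.Tree ℕ := (.node (.node (.node (.node (.node (.node (.leaf 129424920) (.leaf 45256080)) (.node (.leaf 6733872) (.leaf 28442674))) (.node (.node (.leaf 264311677) (.leaf 31660506)) (.node (.leaf 52166706) (.leaf 184549424)))) (.node (.node (.node (.leaf 22200369) (.leaf 377520176)) (.node (.leaf 50970673) (.leaf 324407425))) (.node (.node (.leaf 111674249) (.leaf 211402800)) (.node (.leaf 244040660) (.leaf 380309437))))) (.node (.node (.node (.node (.leaf 294881496) (.leaf 380452912)) (.node (.leaf 259868945) (.leaf 211373572))) (.node (.node (.leaf 253247537) (.leaf 184664112)) (.node (.leaf 121159728) (.leaf 377621626)))) (.node (.node (.node (.leaf 111706162) (.leaf 8077362)) (.node (.leaf 52126080) (.leaf 59218973))) (.node (.node (.leaf 30248748) (.leaf 55447541)) (.node (.leaf 244072498) (.leaf 59605042)))))) (.node (.node (.node (.node (.node (.leaf 276348976) (.leaf 11241170)) (.node (.leaf 375151102) (.leaf 65408949))) (.node (.node (.leaf 315719721) (.leaf 65912882)) (.node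 (.leaf 105267248) (.leaf 61243442)))) (.node (.node (.node (.leaf 32839846) (.leaf 10503864)) (.node (.leaf 140952484) (.leaf 181223472))) (.node (.node (.leaf 177520689) (.leaf 207978544)) (.node (.leaf 73175932) (.leaf 324372642))))) (.node (.node (.node (.node (.leaf 352963974) (.leaf 211337264)) (.node (.leaf 350066785) (.leaf 324719401))) (.node (.node (.leaf 335986737) (.leaf 326828080)) (.node (.leaf 219662121) (.leaf 181520546)))) (.node (.node (.node (.leaf 170819633) (.leaf 8060977)) (.node (.leaf 132497458) (.leaf 156064249))) (.node (.node (.leaf 147161137) (.leaf 90767409)) (.node (.leaf 255364296) (.leaf 90804506)))))))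

/-- A Schreier factor, part 595. -/
def facCodePart595 : Janko1.Tree ℕ := (.node (.node (.node (.node (.node (.node (.leaf 288292914) (.leaf 8093745)) (.node (.leaf 358727728) (.leaf 15073329))) (.node (.node (.leaf 275284017) (.leaf 150847538)) (.node (.leaf 327270448) (.leaf 96747569)))) (.node (.node (.node (.leaf 182176668) (.leaf 184882502)) (.node (.leaf 3948593) (.leaf 377798704))) (.node (.node (.leaf 67934286) (.leaf 324747312)) (.node (.leaf 360025894) (.leaf 326893616))))) (.node (.node (.node (.node (.leaf 332054576) (.leaf 181551152)) (.node (.leaf 354222128) (.leaf 208175152))) (.node (.node (.leaf 139549962) (.leaf 324665433)) (.node (.leaf 269303857) (.leaf 211566640)))) (.node (.node (.node (.leaf 244793393) (.leaf 184926256)) (.node (.leaf 225969300) (.leaf 377815473))) (.node (.node (.leaf 238077434) (.leaf 25821233)) (.node (.leaf 182141302) (.leaf 75079769)))))) (.node (.node (.node (.node (.node (.leaf 13566001) (.leaf 179322930)) (.node (.leaf 326500402) (.leaf 182638397))) (.node (.node (.leaf 122441388) (.leaf 75055733))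 (.node (.leaf 359865810) (.leaf 31610361)))) (.node (.node (.node (.leaf 366271934) (.leaf 80855089)) (.node (.leaf 341181224) (.leaf 174349989))) (.node (.node (.leaf 324517937) (.leaf 177586226)) (.node (.leaf 153092144) (.leaf 31588401))))) (.node (.node (.node (.node (.leaf 331599584) (.leaf 137977734)) (.node (.leaf 154288218) (.leaf 181567536))) (.node (.node (.leaf 164094070) (.leaf 208230605)) (.node (.leaf 29904668) (.leaf 324698160)))) (.node (.node (.node (.leaf 288265969) (.leaf 211640014)) (.node (.leaf 98631730) (.leaf 377847856))) (.node (.node (.leaf 333119538) (.leaf 157646896)) (.node (.leaf 144760957) (.leaf 362528816)))))))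

/-- A Schreier factor, part 596. -/
def facCodePart596 : Janko1.Tree ℕ := (.node (.node (.node (.node (.node (.node (.leaf 198639666) (.leaf 181272624)) (.node (.leaf 16302128) (.leaf 8749106))) (.node (.node (.leaf 329236529) (.leaf 43073586)) (.node (.leaf 311123314) (.leaf 3265826)))) (.node (.node (.node (.leaf 113328176) (.leaf 38601098)) (.node (.leaf 285114416) (.leaf 8323122))) (.node (.node (.leaf 362168369) (.leaf 42680370)) (.node (.leaf 379945009) (.leaf 3768370))))) (.node (.node (.node (.node (.leaf 46498822) (.leaf 15810610)) (.node (.leaf 40375440) (.leaf 44728370))) (.node (.node (.leaf 21988780) (.leaf 15304192)) (.node (.leaf 84361266) (.leaf 11206706)))) (.node (.node (.node (.leaf 32456752) (.leaf 184696880)) (.node (.leaf 266375154) (.leaf 157569121))) (.node (.node (.leaf 276168752) (.leaf 380493905)) (.node (.leaf 299671197) (.leaf 181263797)))))) (.node (.node (.node (.node (.node (.leaf 297041970) (.leaf 181338160)) (.node (.leaf 30031921) (.leaf 184815266))) (.node (.node (.leaf 18694194) (.leaf 157712432)) (.node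 (.leaf 84328498) (.leaf 377651248)))) (.node (.node (.node (.leaf 63586353) (.leaf 360497200)) (.node (.leaf 270914112) (.leaf 59138021))) (.node (.node (.leaf 280483306) (.leaf 26350917)) (.node (.leaf 295032302) (.leaf 21942493))))) (.node (.node (.node (.node (.leaf 96911408) (.leaf 31817778)) (.node (.leaf 333152306) (.leaf 65380508))) (.node (.node (.leaf 65355824) (.leaf 61603890)) (.node (.leaf 167593425) (.leaf 61161522)))) (.node (.node (.node (.leaf 333840433) (.leaf 362561584)) (.node (.leaf 315769177) (.leaf 181292953))) (.node (.node (.leaf 105349168) (.leaf 154602322)) (.node (.leaf 357877336) (.leaf 157664458)))))))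

/-- A Schreier factor, part 597. -/
def facCodePart597 : Janko1.Tree ℕ := (.node (.node (.node (.node (.node (.node (.leaf 67174450) (.leaf 185009956)) (.node (.leaf 130617229) (.leaf 360710192))) (.node (.node (.leaf 96583730) (.leaf 181587785)) (.node (.leaf 174161969) (.leaf 154894384)))) (.node (.node (.node (.leaf 338051121) (.leaf 169328690)) (.node (.leaf 219758640) (.leaf 122273841))) (.node (.node (.leaf 370903053) (.leaf 139313202)) (.node (.leaf 336810265) (.leaf 165905593))))) (.node (.node (.node (.node (.leaf 344281134) (.leaf 164273901)) (.node (.leaf 379586068) (.leaf 128417841))) (.node (.node (.leaf 98846194) (.leaf 128499761)) (.node (.leaf 3702833) (.leaf 128440834)))) (.node (.node (.node (.leaf 155549746) (.leaf 128516145)) (.node (.leaf 39116460) (.leaf 160907314))) (.node (.node (.leaf 152831129) (.leaf 185040944)) (.node (.leaf 257774741) (.leaf 157931634)))))) (.node (.node (.node (.node (.node (.leaf 327188528) (.leaf 154927152)) (.node (.leaf 344342578) (.leaf 362905648))) (.node (.node (.leaf 208764978) (.leaf 377897653))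 (.node (.leaf 262182448) (.leaf 106335274)))) (.node (.node (.node (.leaf 244859026) (.leaf 152621162)) (.node (.leaf 226072785) (.leaf 179229492))) (.node (.node (.leaf 349831216) (.leaf 155975730)) (.node (.leaf 304372602) (.leaf 106236505))))) (.node (.node (.node (.node (.leaf 331962869) (.leaf 106300417)) (.node (.leaf 308183090) (.leaf 147308594))) (.node (.node (.leaf 154049894) (.leaf 150782002)) (.node (.leaf 96567346) (.leaf 112246833)))) (.node (.node (.node (.leaf 180854248) (.leaf 112330702)) (.node (.leaf 133578800) (.leaf 381009968))) (.node (.node (.leaf 324606740) (.leaf 181637988)) (.node (.leaf 213073968) (.leaf 154979320)))))))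

/-- A Schreier factor, part 598. -/
def facCodePart598 : Janko1.Tree ℕ := (.node (.node (.node (.node (.node (.node (.leaf 359088176) (.leaf 185122864)) (.node (.leaf 341102202) (.leaf 360726576))) (.node (.node (.leaf 217399345) (.leaf 194371366)) (.node (.leaf 191021105) (.leaf 335855664)))) (.node (.node (.node (.leaf 207732785) (.leaf 168001584)) (.node (.leaf 86097968) (.leaf 71073842))) (.node (.node (.leaf 45932313) (.leaf 118390834)) (.node (.leaf 312918065) (.leaf 87316734))))) (.node (.node (.node (.node (.leaf 12402737) (.leaf 76906546)) (.node (.leaf 46533154) (.leaf 112984114))) (.node (.node (.leaf 73901) (.leaf 97181744)) (.node (.leaf 58968700) (.leaf 124583986)))) (.node (.node (.node (.leaf 60588082) (.leaf 108944506)) (.node (.leaf 297893937) (.leaf 351273008))) (.node (.node (.leaf 286359601) (.leaf 333709360)) (.node (.leaf 304645332) (.leaf 197754928)))))) (.node (.node (.node (.node (.node (.leaf 304939056) (.leaf 335806512)) (.node (.leaf 291472488) (.leaf 167958146))) (.node (.node (.leaf 248184882) (.leaf 221003824))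 (.node (.leaf 102776881) (.leaf 144326704)))) (.node (.node (.node (.leaf 71548977) (.leaf 369131568)) (.node (.leaf 77971504) (.leaf 87457994))) (.node (.node (.leaf 45629488) (.leaf 122290226)) (.node (.leaf 85819440) (.leaf 75104306))))) (.node (.node (.node (.node (.leaf 53854256) (.leaf 103055410)) (.node (.leaf 255138992) (.leaf 71229488))) (.node (.node (.leaf 239583281) (.leaf 91439154)) (.node (.leaf 27827165) (.leaf 80920626)))) (.node (.node (.node (.leaf 124403760) (.leaf 108806194)) (.node (.leaf 228200205) (.leaf 77078142))) (.node (.node (.leaf 178520114) (.leaf 124406850)) (.node (.leaf 231571506) (.leaf 97304626)))))))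

/-- A Schreier factor, part 599. -/
def facCodePart599 : Janko1.Tree ℕ := (.node (.node (.node (.node (.node (.node (.leaf 356188644) (.leaf 371138912)) (.node (.leaf 373768241) (.leaf 141164592))) (.node (.node (.leaf 353861681) (.leaf 220993984)) (.node (.leaf 371540017) (.leaf 317538352)))) (.node (.node (.node (.leaf 238656625) (.leaf 315457980)) (.node (.leaf 291799088) (.leaf 224559152))) (.node (.node (.leaf 251822128) (.leaf 144284674)) (.node (.leaf 277303984) (.leaf 198131760))))) (.node (.node (.node (.node (.leaf 230490161) (.leaf 194609200)) (.node (.leaf 204211534) (.leaf 336166960))) (.node (.node (.leaf 220447734) (.leaf 353747504)) (.node (.leaf 176635952) (.leaf 222744602)))) (.node (.node (.node (.leaf 196499686) (.leaf 209175508)) (.node (.leaf 169908737) (.leaf 26019481))) (.node (.node (.leaf 339466477) (.leaf 26034225)) (.node (.leaf 321568817) (.leaf 205979698)))))) (.node (.node (.node (.node (.node (.leaf 314933297) (.leaf 75120689)) (.node (.leaf 8011884) (.leaf 204275762))) (.node (.node (.leaf 218578994) (.leaf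 200835122)) (.node (.leaf 162136114) (.leaf 214275929)))) (.node (.node (.node (.leaf 215109600) (.leaf 80907717)) (.node (.leaf 306905137) (.leaf 351600688))) (.node (.node (.leaf 295927857) (.leaf 198213680)) (.node (.leaf 325091376) (.leaf 194641968))))) (.node (.node (.node (.node (.leaf 378060848) (.leaf 336218164)) (.node (.leaf 311230512) (.leaf 353812528))) (.node (.node (.leaf 365272666) (.leaf 168283404)) (.node (.leaf 312852530) (.leaf 221347888)))) (.node (.node (.node (.leaf 348851786) (.leaf 317869048)) (.node (.leaf 114802737) (.leaf 315738120))) (.node (.node (.leaf 83431078) (.leaf 224837680)) (.node (.leaf 196169110) (.leaf 206068252)))))))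

/-- A Schreier factor, part 600. -/
def facCodePart600 : Janko1.Tree ℕ := (.node (.node (.node (.node (.node (.node (.leaf 263782449) (.leaf 222576690)) (.node (.leaf 246431793) (.leaf 8192049))) (.node (.node (.leaf 266092593) (.leaf 90980401)) (.node (.leaf 248487344) (.leaf 209305650)))) (.node (.node (.node (.leaf 8034630) (.leaf 201002484)) (.node (.leaf 75210289) (.leaf 96914440))) (.node (.node (.leaf 71286834) (.leaf 214155314)) (.node (.leaf 107921458) (.leaf 15171633))))) (.node (.node (.node (.node (.leaf 40321074) (.leaf 96895025)) (.node (.leaf 346701873) (.leaf 371350817))) (.node (.node (.leaf 380469297) (.leaf 317904160)) (.node (.leaf 311558192) (.leaf 315768880)))) (.node (.node (.node (.leaf 247463984) (.leaf 171596193)) (.node (.leaf 324223025) (.leaf 315621424))) (.node (.node (.leaf 349487153) (.leaf 335989526)) (.node (.leaf 54149168) (.leaf 317685808)))))) (.node (.node (.node (.node (.node (.leaf 360695968) (.leaf 168067120)) (.node (.leaf 46006320) (.leaf 141199817))) (.node (.node (.leaf 217530417) (.leaf 106909512))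 (.node (.leaf 201687090) (.leaf 86966905)))) (.node (.node (.node (.leaf 339564445) (.leaf 122374720)) (.node (.leaf 337501168) (.leaf 103107568))) (.node (.node (.leaf 304860300) (.leaf 112885810)) (.node (.leaf 268423105) (.leaf 92855046))))) (.node (.node (.node (.node (.leaf 291422256) (.leaf 124469298)) (.node (.leaf 93770358) (.leaf 96862258))) (.node (.node (.leaf 297697329) (.leaf 128614450)) (.node (.leaf 79200305) (.leaf 171556912)))) (.node (.node (.node (.leaf 91062321) (.leaf 333776221)) (.node (.leaf 27213874) (.leaf 315572272))) (.node (.node (.leaf 301809714) (.leaf 335906112)) (.node (.leaf 12664881) (.leaf 317620272)))))))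

/-- A Schreier factor, part 601. -/
def facCodePart601 : Janko1.Tree ℕ := (.node (.node (.node (.node (.node (.node (.leaf 254984241) (.leaf 353599536)) (.node (.leaf 291053053) (.leaf 224694924))) (.node (.node (.leaf 53941225) (.leaf 351404080)) (.node (.leaf 92127282) (.leaf 90784301)))) (.node (.node (.node (.leaf 102858801) (.leaf 102980677)) (.node (.leaf 268225998) (.leaf 106774578))) (.node (.node (.leaf 19177526) (.leaf 86840017)) (.node (.leaf 265914926) (.leaf 118134548))))) (.node (.node (.node (.node (.leaf 337955864) (.leaf 96765250)) (.node (.leaf 305155208) (.leaf 108730718))) (.node (.node (.leaf 70360598) (.leaf 81364638)) (.node (.leaf 373579801) (.leaf 112771122)))) (.node (.node (.node (.leaf 372792561) (.leaf 224624688)) (.node (.leaf 100588393) (.leaf 197825572))) (.node (.node (.leaf 320659830) (.leaf 171858529)) (.node (.leaf 314867761) (.leaf 315867184)))))) (.node (.node (.node (.node (.node (.leaf 358226136) (.leaf 336257209)) (.node (.leaf 351436849) (.leaf 168313413))) (.node (.node (.leaf 230555697) (.leaf 222658744))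 (.node (.leaf 76664297) (.leaf 59121305)))) (.node (.node (.node (.leaf 257359922) (.leaf 59228209)) (.node (.leaf 259407922) (.leaf 219220394))) (.node (.node (.leaf 270819380) (.leaf 190960386)) (.node (.leaf 377947064) (.leaf 217434038))))) (.node (.node (.node (.node (.leaf 259555377) (.leaf 65339441)) (.node (.leaf 209616944) (.leaf 65359992))) (.node (.node (.leaf 295632945) (.leaf 214188082)) (.node (.leaf 138959918) (.leaf 144591294)))) (.node (.node (.node (.leaf 75530289) (.leaf 334086192)) (.node (.leaf 366707904) (.leaf 336318006))) (.node (.node (.leaf 29973197) (.leaf 317964336)) (.node (.leaf 364363826) (.leaf 168345648)))))))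

/-- A Schreier factor, part 602. -/
def facCodePart602 : Janko1.Tree ℕ := (.node (.node (.node (.node (.node (.node (.leaf 8292194) (.leaf 141465988)) (.node (.leaf 246350885) (.leaf 353852090))) (.node (.node (.leaf 282460209) (.leaf 224903216)) (.node (.leaf 169705520) (.leaf 198254204)))) (.node (.node (.node (.leaf 188564702) (.leaf 122421297)) (.node (.leaf 114909249) (.leaf 122486833))) (.node (.node (.leaf 118947889) (.leaf 219054757)) (.node (.leaf 328515633) (.leaf 128630833))))) (.node (.node (.node (.node (.leaf 365412400) (.leaf 128712753)) (.node (.leaf 378242834) (.leaf 214089778))) (.node (.node (.leaf 364511281) (.leaf 217255070)) (.node (.leaf 380043313) (.leaf 128696369)))) (.node (.node (.node (.leaf 187221536) (.leaf 371411704)) (.node (.leaf 9961522) (.leaf 353878064))) (.node (.node (.leaf 210550833) (.leaf 221462576)) (.node (.leaf 295213104) (.leaf 224939864)))))) (.node (.node (.node (.node (.node (.leaf 283017264) (.leaf 141530641)) (.node (.leaf 360177194) (.leaf 195035184))) (.node (.node (.leaf 313393201) (.leaf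 225198596)) (.node (.leaf 117399336) (.leaf 332914737)))) (.node (.node (.node (.leaf 178421810) (.leaf 167485545)) (.node (.leaf 138035249) (.leaf 192167985))) (.node (.node (.leaf 84967472) (.leaf 197607472)) (.node (.leaf 357504201) (.leaf 152166337))))) (.node (.node (.node (.node (.leaf 355221554) (.leaf 143891086)) (.node (.leaf 297091121) (.leaf 167460912))) (.node (.node (.leaf 269484080) (.leaf 187301937)) (.node (.leaf 303939633) (.leaf 146971073)))) (.node (.node (.node (.leaf 28672048) (.leaf 197591088)) (.node (.leaf 262111281) (.leaf 146915377))) (.node (.node (.leaf 46956593) (.leaf 141508656)) (.node (.leaf 119867516) (.leaf 353075248)))))))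

/-- A Schreier factor, part 603. -/
def facCodePart603 : Janko1.Tree ℕ := (.node (.node (.node (.node (.node (.node (.leaf 123881174) (.leaf 195002416)) (.node (.leaf 36199790) (.leaf 171905702))) (.node (.node (.leaf 278216752) (.leaf 350919880)) (.node (.leaf 275021873) (.leaf 314785840)))) (.node (.node (.node (.leaf 109092918) (.leaf 221757488)) (.node (.leaf 60407858) (.leaf 205737357))) (.node (.node (.leaf 34621533) (.leaf 171073257)) (.node (.leaf 285671474) (.leaf 194237181))))) (.node (.node (.node (.node (.leaf 21567584) (.leaf 140755336)) (.node (.leaf 256426032) (.leaf 171016240))) (.node (.node (.leaf 28901424) (.leaf 140738608)) (.node (.leaf 336265265) (.leaf 200572977)))) (.node (.node (.node (.leaf 228381966) (.leaf 144607337)) (.node (.leaf 171130929) (.leaf 198593749))) (.node (.node (.leaf 231704502) (.leaf 314769456)) (.node (.leaf 36519984) (.leaf 221727297)))))) (.node (.node (.node (.node (.node (.leaf 321708098) (.leaf 168395530)) (.node (.leaf 357603796) (.leaf 353359860))) (.node (.node (.leaf 229656722) (.leaf 333201456))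 (.node (.leaf 315396333) (.leaf 368902192)))) (.node (.node (.node (.leaf 223100976) (.leaf 172163120)) (.node (.leaf 40157234) (.leaf 167198768))) (.node (.node (.leaf 150642989) (.leaf 71663665)) (.node (.leaf 44239925) (.leaf 22402997))))) (.node (.node (.node (.node (.leaf 140640305) (.leaf 220561456)) (.node (.leaf 275120178) (.leaf 22331441))) (.node (.node (.leaf 306118705) (.leaf 167215152)) (.node (.leaf 342999088) (.leaf 77564410)))) (.node (.node (.node (.leaf 329629744) (.leaf 220577840)) (.node (.leaf 156210654) (.leaf 197397656))) (.node (.node (.leaf 271442286) (.leaf 28351170)) (.node (.leaf 136544304) (.leaf 77479985)))))))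

/-- A Schreier factor, part 604. -/
def facCodePart604 : Janko1.Tree ℕ := (.node (.node (.node (.node (.node (.node (.leaf 218713557) (.leaf 353409378)) (.node (.leaf 126491845) (.leaf 333257893))) (.node (.node (.leaf 106356173) (.leaf 172212272)) (.node (.leaf 281845313) (.leaf 144949296)))) (.node (.node (.node (.leaf 246826284) (.leaf 335413296)) (.node (.leaf 248938545) (.leaf 168624176))) (.node (.node (.leaf 162005042) (.leaf 87392305)) (.node (.leaf 82614786) (.leaf 3670065))))) (.node (.node (.node (.node (.leaf 346390744) (.leaf 193972740)) (.node (.leaf 363986993) (.leaf 93405885))) (.node (.node (.leaf 378978353) (.leaf 224149552)) (.node (.leaf 344571953) (.leaf 93290545)))) (.node (.node (.node (.leaf 108101682) (.leaf 144982064)) (.node (.leaf 184156209) (.leaf 198870989))) (.node (.node (.leaf 242257736) (.leaf 335469925)) (.node (.leaf 205310080) (.leaf 333008525)))))) (.node (.node (.node (.node (.node (.leaf 164397105) (.leaf 314921757)) (.node (.leaf 154353713) (.leaf 368672816))) (.node (.node (.leaf 313458737) (.leaf 218791985))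 (.node (.leaf 11632688) (.leaf 178929713)))) (.node (.node (.node (.leaf 324895434) (.leaf 220977853)) (.node (.leaf 301629490) (.leaf 213794865))) (.node (.node (.leaf 303862428) (.leaf 220959689)) (.node (.leaf 279253526) (.leaf 198680894))))) (.node (.node (.node (.node (.leaf 297320497) (.leaf 332972080)) (.node (.leaf 285827009) (.leaf 350928944))) (.node (.node (.leaf 256150646) (.leaf 144688337)) (.node (.leaf 92214920) (.leaf 221847898)))) (.node (.node (.node (.leaf 67475069) (.leaf 195070793)) (.node (.leaf 3359237) (.leaf 168484112))) (.node (.node (.leaf 38813745) (.leaf 353189936)) (.node (.leaf 11388833) (.leaf 232144945)))))))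

/-- A Schreier factor, part 605. -/
def facCodePart605 : Janko1.Tree ℕ := (.node (.node (.node (.node (.node (.node (.leaf 255662162) (.leaf 171147414)) (.node (.leaf 109150256) (.leaf 143966256))) (.node (.node (.leaf 20332592) (.leaf 224510000)) (.node (.leaf 117129264) (.leaf 165609521)))) (.node (.node (.node (.leaf 69295272) (.leaf 227164209)) (.node (.leaf 337610526) (.leaf 227267754))) (.node (.node (.leaf 36405296) (.leaf 143933488)) (.node (.leaf 92848176) (.leaf 224460848))))) (.node (.node (.node (.node (.leaf 339738674) (.leaf 197673008)) (.node (.leaf 61112368) (.leaf 160694321))) (.node (.node (.leaf 287277241) (.leaf 168443952)) (.node (.leaf 353306670) (.leaf 141557808)))) (.node (.node (.node (.leaf 269779529) (.leaf 353158690)) (.node (.leaf 5095474) (.leaf 198901808))) (.node (.node (.leaf 140529445) (.leaf 369007394)) (.node (.leaf 9850581) (.leaf 351191088)))))) (.node (.node (.node (.node (.node (.leaf 76779777) (.leaf 172251890)) (.node (.leaf 167367969) (.leaf 145031216))) (.node (.node (.leaf 142806650) (.leaf 55361585))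 (.node (.leaf 333545521) (.leaf 55427121)))) (.node (.node (.node (.leaf 315478196) (.leaf 220684157)) (.node (.leaf 366564089) (.leaf 108711873))) (.node (.node (.leaf 106267144) (.leaf 61589984)) (.node (.leaf 328868060) (.leaf 61677218))))) (.node (.node (.node (.node (.leaf 364234050) (.leaf 220699340)) (.node (.leaf 288358449) (.leaf 198952934))) (.node (.node (.leaf 306351546) (.leaf 333348912)) (.node (.leaf 342917168) (.leaf 315215112)))) (.node (.node (.node (.leaf 277217329) (.leaf 351245460)) (.node (.leaf 295277537) (.leaf 172277808))) (.node (.node (.leaf 329564208) (.leaf 145080368)) (.node (.leaf 17760305) (.leaf 335496944)))))))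

/-- A Schreier factor, part 606. -/
def facCodePart606 : Janko1.Tree ℕ := (.node (.node (.node (.node (.node (.node (.leaf 135757874) (.leaf 317182840)) (.node (.leaf 188645426) (.leaf 222150704))) (.node (.node (.leaf 22290062) (.leaf 168706096)) (.node (.leaf 138810613) (.leaf 141855113)))) (.node (.node (.node (.leaf 55476273) (.leaf 353438568)) (.node (.leaf 246928502) (.leaf 170721328))) (.node (.node (.leaf 149094448) (.leaf 224202633)) (.node (.leaf 266666033) (.leaf 197427248))))) (.node (.node (.node (.node (.leaf 229408816) (.leaf 38993969)) (.node (.leaf 295108658) (.leaf 170770480))) (.node (.node (.leaf 38584370) (.leaf 224231440)) (.node (.leaf 102555389) (.leaf 45221582)))) (.node (.node (.node (.leaf 347734064) (.leaf 335544368)) (.node (.leaf 329876581) (.leaf 195379248))) (.node (.node (.leaf 361306706) (.leaf 168742538)) (.node (.leaf 343244848) (.leaf 353484848)))))) (.node (.node (.node (.node (.node (.leaf 333774898) (.leaf 350863408)) (.node (.leaf 224100568) (.leaf 314852093))) (.node (.node (.leaf 194445362) (.leaf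 221814678)) (.node (.leaf 135856177) (.leaf 155828273)))) (.node (.node (.node (.leaf 161908102) (.leaf 197642446)) (.node (.leaf 214802277) (.leaf 195495653))) (.node (.node (.leaf 114524506) (.leaf 143876026)) (.node (.leaf 51090644) (.leaf 190480433))))) (.node (.node (.node (.node (.leaf 79879746) (.leaf 190471970)) (.node (.leaf 294410246) (.leaf 314809478))) (.node (.node (.leaf 119343718) (.leaf 221773872)) (.node (.leaf 87659690) (.leaf 316918708)))) (.node (.node (.node (.leaf 42041392) (.leaf 353091632)) (.node (.leaf 79891156) (.leaf 332873776))) (.node (.node (.leaf 13720894) (.leaf 198658190)) (.node (.leaf 120654242) (.leaf 144670768)))))))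

/-- A Schreier factor, part 607. -/
def facCodePart607 : Janko1.Tree ℕ := (.node (.node (.node (.node (.node (.node (.leaf 24215600) (.leaf 368640678)) (.node (.leaf 298895552) (.leaf 208863281))) (.node (.node (.leaf 245586878) (.leaf 167526448)) (.node (.leaf 64602161) (.leaf 141958358)))) (.node (.node (.node (.leaf 127503353) (.leaf 171098160)) (.node (.leaf 95682609) (.leaf 208879665))) (.node (.node (.leaf 170853417) (.leaf 167510064)) (.node (.leaf 104847654) (.leaf 137543729))))) (.node (.node (.node (.node (.leaf 194462241) (.leaf 171050360)) (.node (.leaf 141115442) (.leaf 204033609))) (.node (.node (.leaf 308576306) (.leaf 172195888)) (.node (.leaf 127057970) (.leaf 315113520)))) (.node (.node (.node (.leaf 35364745) (.leaf 317118685)) (.node (.leaf 219137128) (.leaf 353375082))) (.node (.node (.leaf 139247664) (.leaf 168591408)) (.node (.leaf 318750768) (.leaf 75579441)))))) (.node (.node (.node (.node (.node (.leaf 175199884) (.leaf 197386473)) (.node (.leaf 173924596) (.leaf 194008706))) (.node (.node (.leaf 201236414) (.leaf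 140525616)) (.node (.leaf 234127410) (.leaf 143671344)))) (.node (.node (.node (.leaf 181126733) (.leaf 81346609)) (.node (.leaf 380555016) (.leaf 32214493))) (.node (.node (.leaf 211533874) (.leaf 81330225)) (.node (.leaf 5266752) (.leaf 172228656))))) (.node (.node (.node (.node (.leaf 363626544) (.leaf 315129904)) (.node (.leaf 103661617) (.leaf 222134320))) (.node (.node (.leaf 72256477) (.leaf 317161520)) (.node (.leaf 160333872) (.leaf 353422445)))) (.node (.node (.node (.leaf 380567578) (.leaf 371017250)) (.node (.leaf 344872790) (.leaf 141762058))) (.node (.node (.leaf 234117605) (.leaf 195283454)) (.node (.leaf 181112904) (.leaf 335434053)))))))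

/-- A Schreier factor, part 608. -/
def facCodePart608 : Janko1.Tree ℕ := (.node (.node (.node (.node (.node (.node (.leaf 157882180) (.leaf 198852656)) (.node (.leaf 145329750) (.leaf 368951344))) (.node (.node (.leaf 314202546) (.leaf 167247920)) (.node (.leaf 80117809) (.leaf 91324465)))) (.node (.node (.node (.leaf 212474554) (.leaf 15683885)) (.node (.leaf 133144938) (.leaf 224182358))) (.node (.node (.leaf 99910734) (.leaf 170674898)) (.node (.leaf 35389490) (.leaf 97196981))))) (.node (.node (.node (.node (.leaf 155353137) (.leaf 371064880)) (.node (.leaf 181829681) (.leaf 141794212))) (.node (.node (.leaf 376757813) (.leaf 195330096)) (.node (.leaf 323502128) (.leaf 335485180)))) (.node (.node (.node (.leaf 234571221) (.leaf 333187186)) (.node (.leaf 207962161) (.leaf 198885424))) (.node (.node (.leaf 180486192) (.leaf 145014832)) (.node (.leaf 207145426) (.leaf 368992230)))))) (.node (.node (.node (.node (.node (.leaf 58918988) (.leaf 172015664)) (.node (.leaf 211601664) (.leaf 144773297))) (.node (.node (.leaf 82528660) (.leaf 198693816))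 (.node (.leaf 303616293) (.leaf 221888560)))) (.node (.node (.node (.leaf 167894109) (.leaf 222239253)) (.node (.leaf 315577757) (.leaf 182311138))) (.node (.node (.leaf 140623922) (.leaf 182403121)) (.node (.leaf 119111729) (.leaf 216975285))))) (.node (.node (.node (.node (.leaf 98246421) (.leaf 217044076)) (.node (.leaf 42123312) (.leaf 177274929))) (.node (.node (.leaf 83755057) (.leaf 177356849)) (.node (.leaf 23216177) (.leaf 177242161)))) (.node (.node (.node (.leaf 52281393) (.leaf 217006129)) (.node (.leaf 47415346) (.leaf 225230896))) (.node (.node (.leaf 83039042) (.leaf 221856225)) (.node (.leaf 50085936) (.leaf 370901040)))))))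

/-- A Schreier factor, part 609. -/
def facCodePart609 : Janko1.Tree ℕ := (.node (.node (.node (.node (.node (.node (.leaf 75956273) (.leaf 353206320)) (.node (.leaf 298860592) (.leaf 332956485))) (.node (.node (.leaf 15467745) (.leaf 140822184)) (.node (.leaf 120569904) (.leaf 220921904)))) (.node (.node (.node (.leaf 244667072) (.leaf 224531762)) (.node (.leaf 13205554) (.leaf 197711986))) (.node (.node (.leaf 282006833) (.leaf 143991022)) (.node (.leaf 74842160) (.leaf 140804144))))) (.node (.node (.node (.node (.leaf 205013041) (.leaf 194297904)) (.node (.leaf 141838433) (.leaf 224499713))) (.node (.node (.leaf 307855577) (.leaf 171136364)) (.node (.leaf 178799528) (.leaf 143954985)))) (.node (.node (.node (.leaf 167919666) (.leaf 335265840)) (.node (.leaf 32210992) (.leaf 316964912))) (.node (.node (.leaf 315608781) (.leaf 368689200)) (.node (.leaf 198018720) (.leaf 145047600)))))) (.node (.node (.node (.node (.node (.leaf 227737649) (.leaf 225394736)) (.node (.leaf 372424752) (.leaf 222184794))) (.node (.node (.leaf 172148284) (.leaf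 195400758)) (.node (.leaf 148145090) (.leaf 168674277)))) (.node (.node (.node (.leaf 314572848) (.leaf 141803568)) (.node (.leaf 68386866) (.leaf 106791106))) (.node (.node (.leaf 219070512) (.leaf 59555889)) (.node (.leaf 127721462) (.leaf 59624424))))) (.node (.node (.node (.node (.leaf 255918130) (.leaf 59539505)) (.node (.leaf 34855125) (.leaf 59588657))) (.node (.node (.leaf 95404082) (.leaf 106758193)) (.node (.leaf 160400100) (.leaf 65854004)))) (.node (.node (.node (.leaf 99958833) (.leaf 65899840)) (.node (.leaf 5145058) (.leaf 65830961))) (.node (.node (.leaf 323359140) (.leaf 65880113)) (.node (.leaf 232095792) (.leaf 172310576)))))))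

/-- A Schreier factor, part 610. -/
def facCodePart610 : Janko1.Tree ℕ := (.node (.node (.node (.node (.node (.node (.leaf 234766386) (.leaf 145113136)) (.node (.leaf 184978733) (.leaf 225429216))) (.node (.node (.leaf 207605622) (.leaf 222219440)) (.node (.leaf 360562738) (.leaf 195444784)))) (.node (.node (.node (.leaf 326910002) (.leaf 168698137)) (.node (.leaf 157369613) (.leaf 141836336))) (.node (.node (.leaf 92078129) (.leaf 353452622)) (.node (.leaf 111329329) (.leaf 335519872))))) (.node (.node (.node (.node (.leaf 200065072) (.leaf 317194288)) (.node (.leaf 367853616) (.leaf 333266992))) (.node (.node (.leaf 60899377) (.leaf 315147385)) (.node (.leaf 185027873) (.leaf 167303640)))) (.node (.node (.node (.leaf 225443888) (.leaf 220632818)) (.node (.leaf 326926386) (.leaf 224215088))) (.node (.node (.leaf 207568946) (.leaf 170754096)) (.node (.leaf 234325486) (.leaf 167320268)))))) (.node (.node (.node (.node (.node (.leaf 180535344) (.leaf 220643376)) (.node (.leaf 191201329) (.leaf 194019376))) (.node (.node (.leaf 155256868) (.leaf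 224247856)) (.node (.leaf 310050864) (.leaf 197460016)))) (.node (.node (.node (.leaf 376619056) (.leaf 170803248)) (.node (.leaf 127703716) (.leaf 353517616))) (.node (.node (.leaf 68436018) (.leaf 335583738)) (.node (.leaf 152518704) (.leaf 317243440))))) (.node (.node (.node (.node (.leaf 95388497) (.leaf 333299760)) (.node (.leaf 288849970) (.leaf 315168545))) (.node (.node (.leaf 157895724) (.leaf 353566768)) (.node (.leaf 161597597) (.leaf 335828254)))) (.node (.node (.node (.leaf 16843630) (.leaf 221036592)) (.node (.leaf 268091440) (.leaf 197771474))) (.node (.node (.leaf 237797425) (.leaf 315523120)) (.node (.leaf 188661809) (.leaf 369104380)))))))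

/-- A Schreier factor, part 611. -/
def facCodePart611 : Janko1.Tree ℕ := (.node (.node (.node (.node (.node (.node (.leaf 89325616) (.leaf 106954802)) (.node (.leaf 167231538) (.leaf 118868166))) (.node (.node (.leaf 224255200) (.leaf 71767566)) (.node (.leaf 335773746) (.leaf 75006002)))) (.node (.node (.node (.leaf 18202673) (.leaf 92782642)) (.node (.leaf 88277041) (.leaf 128679986))) (.node (.node (.leaf 115621937) (.leaf 80773170)) (.node (.leaf 73483624) (.leaf 221020208))))) (.node (.node (.node (.node (.leaf 114671666) (.leaf 197742797)) (.node (.leaf 264142898) (.leaf 315506736))) (.node (.node (.leaf 46841906) (.leaf 171465308)) (.node (.leaf 113532246) (.leaf 351322160)))) (.node (.node (.node (.leaf 9084333) (.leaf 144298657)) (.node (.leaf 64208945) (.leaf 224591920))) (.node (.node (.leaf 25265394) (.leaf 333696866)) (.node (.leaf 263165406) (.leaf 317571120)))))) (.node (.node (.node (.node (.node (.leaf 96345218) (.leaf 168034352)) (.node (.leaf 81166384) (.leaf 122306610))) (.node (.node (.leaf 297828402) (.leaf 106840114))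 (.node (.leaf 46879977) (.leaf 102646082)))) (.node (.node (.node (.leaf 114639913) (.leaf 86786098)) (.node (.leaf 168349656) (.leaf 125067334))) (.node (.node (.leaf 7503920) (.leaf 128532744)) (.node (.leaf 195337466) (.leaf 112824341))))) (.node (.node (.node (.node (.leaf 41304112) (.leaf 351305776)) (.node (.leaf 369282126) (.leaf 168017968))) (.node (.node (.leaf 226806310) (.leaf 141393968)) (.node (.leaf 144245941) (.leaf 353738806)))) (.node (.node (.node (.leaf 140345392) (.leaf 221380656)) (.node (.leaf 337369897) (.leaf 198104050))) (.node (.node (.leaf 350617648) (.leaf 171769904)) (.node (.leaf 30938552) (.leaf 21810060)))))))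

/-- A Schreier factor, part 612. -/
def facCodePart612 : Janko1.Tree ℕ := (.node (.node (.node (.node (.node (.node (.leaf 308844470) (.leaf 21924300)) (.node (.leaf 67732018) (.leaf 232492936))) (.node (.node (.leaf 127226914) (.leaf 192462898)) (.node (.leaf 271319090) (.leaf 71209430)))) (.node (.node (.node (.leaf 39714865) (.leaf 77103153)) (.node (.leaf 153419824) (.leaf 217566033))) (.node (.node (.leaf 213303344) (.leaf 204315342)) (.node (.leaf 72893464) (.leaf 28051060))))) (.node (.node (.node (.node (.leaf 132284465) (.leaf 77040434)) (.node (.leaf 179093738) (.leaf 141410352))) (.node (.node (.leaf 155110214) (.leaf 353780790)) (.node (.leaf 185679920) (.leaf 221421149)))) (.node (.node (.node (.leaf 234242098) (.leaf 198189157)) (.node (.leaf 342605874) (.leaf 315804244))) (.node (.node (.leaf 380796978) (.leaf 369385560)) (.node (.leaf 219971632) (.leaf 351617072)))))) (.node (.node (.node (.node (.node (.leaf 47874097) (.leaf 224810778)) (.node (.leaf 146489392) (.leaf 333955120))) (.node (.node (.leaf 124125233) (.leaf 194582470))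 (.node (.leaf 354753554) (.leaf 371335180)))) (.node (.node (.node (.leaf 172610294) (.leaf 3130120)) (.node (.leaf 380846130) (.leaf 222593074))) (.node (.node (.leaf 184244994) (.leaf 3202664)) (.node (.leaf 342580048) (.leaf 209322034))))) (.node (.node (.node (.node (.leaf 181509428) (.leaf 227573810)) (.node (.leaf 134250544) (.leaf 92880945))) (.node (.node (.leaf 233495472) (.leaf 10584113)) (.node (.leaf 138166658) (.leaf 187547698)))) (.node (.node (.node (.leaf 341756248) (.leaf 92815409)) (.node (.leaf 218270478) (.leaf 204446693))) (.node (.node (.leaf 159563824) (.leaf 351640124)) (.node (.leaf 99762226) (.leaf 224854064)))))))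

/-- A Schreier factor, part 613. -/
def facCodePart613 : Janko1.Tree ℕ := (.node (.node (.node (.node (.node (.node (.leaf 271287592) (.leaf 194592816)) (.node (.leaf 197467325) (.leaf 335953968))) (.node (.node (.leaf 353648690) (.leaf 317653040)) (.node (.leaf 317521970) (.leaf 221086297)))) (.node (.node (.node (.leaf 143675969) (.leaf 194412592)) (.node (.leaf 49201200) (.leaf 369180720))) (.node (.node (.leaf 224614965) (.leaf 351354928)) (.node (.leaf 81494064) (.leaf 144392240))))) (.node (.node (.node (.node (.leaf 268009520) (.leaf 71139378)) (.node (.leaf 285655088) (.leaf 106922034))) (.node (.node (.leaf 158060945) (.leaf 122406524)) (.node (.leaf 282165298) (.leaf 108216370)))) (.node (.node (.node (.leaf 17537546) (.leaf 112902641)) (.node (.leaf 65634324) (.leaf 96884874))) (.node (.node (.leaf 51724338) (.leaf 93372466)) (.node (.leaf 97108016) (.leaf 124928050)))))) (.node (.node (.node (.node (.node (.leaf 258670640) (.leaf 335872048)) (.node (.leaf 84262961) (.leaf 221052976))) (.node (.node (.leaf 276627504) (.leaf 194396208))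 (.node (.leaf 105660464) (.leaf 369147990)))) (.node (.node (.node (.leaf 51469373) (.leaf 171526757)) (.node (.leaf 7230113) (.leaf 144351240))) (.node (.node (.leaf 83169644) (.leaf 224659702)) (.node (.leaf 282132530) (.leaf 197870978))))) (.node (.node (.node (.node (.leaf 57281874) (.leaf 168104258)) (.node (.leaf 89129008) (.leaf 353583152))) (.node (.node (.leaf 263045168) (.leaf 87557456)) (.node (.leaf 107830469) (.leaf 118967253)))) (.node (.node (.node (.leaf 76382257) (.leaf 90819369)) (.node (.leaf 281088886) (.leaf 122224690))) (.node (.node (.leaf 143663036) (.leaf 128452166)) (.node (.leaf 41205808) (.leaf 81379378)))))))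

/-- A Schreier factor, part 614. -/
def facCodePart614 : Janko1.Tree ℕ := (.node (.node (.node (.node (.node (.node (.leaf 224566446) (.leaf 112787506)) (.node (.leaf 171565433) (.leaf 77136542))) (.node (.node (.leaf 231997960) (.leaf 197789252)) (.node (.leaf 205495412) (.leaf 333747344)))) (.node (.node (.node (.leaf 151393908) (.leaf 141219789)) (.node (.leaf 178080017) (.leaf 371185160))) (.node (.node (.leaf 288984340) (.leaf 317915184)) (.node (.leaf 30296470) (.leaf 194674736))))) (.node (.node (.node (.node (.leaf 127565874) (.leaf 351649840)) (.node (.leaf 64503858) (.leaf 171841982))) (.node (.node (.leaf 192544816) (.leaf 144523312)) (.node (.leaf 337282910) (.leaf 102604405)))) (.node (.node (.node (.leaf 355140340) (.leaf 222674994)) (.node (.leaf 226934832) (.leaf 55033905))) (.node (.node (.leaf 144330724) (.leaf 55083057)) (.node (.leaf 146669616) (.leaf 232429532)))))) (.node (.node (.node (.node (.node (.leaf 324845618) (.leaf 190988338)) (.node (.leaf 154375657) (.leaf 217471589))) (.node (.node (.leaf 234625248) (.leaf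 61210921)) (.node (.leaf 205848624) (.leaf 227426354)))) (.node (.node (.node (.leaf 327843888) (.leaf 336284008)) (.node (.leaf 100352049) (.leaf 221520150))) (.node (.node (.leaf 133890813) (.leaf 144556080)) (.node (.leaf 324833904) (.leaf 334006221))))) (.node (.node (.node (.node (.leaf 154340861) (.leaf 315818032)) (.node (.leaf 181731378) (.leaf 371361513))) (.node (.node (.leaf 199182169) (.leaf 353833549)) (.node (.leaf 124305457) (.leaf 232521778)))) (.node (.node (.node (.leaf 350421040) (.leaf 118423601)) (.node (.leaf 26986417) (.leaf 222545964))) (.node (.node (.leaf 95486002) (.leaf 201101452)) (.node (.leaf 253532694) (.leaf 124487072)))))))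

/-- A Schreier factor, part 615. -/
def facCodePart615 : Janko1.Tree ℕ := (.node (.node (.node (.node (.node (.node (.leaf 127555881) (.leaf 217285192)) (.node (.leaf 186030276) (.leaf 44745630))) (.node (.node (.leaf 341671984) (.leaf 224919600)) (.node (.leaf 218513457) (.leaf 198279216)))) (.node (.node (.node (.leaf 191717717) (.leaf 334053424)) (.node (.leaf 164511793) (.leaf 371394848))) (.node (.node (.leaf 177389618) (.leaf 380354608)) (.node (.leaf 227218112) (.leaf 326680624))))) (.node (.node (.node (.node (.leaf 116770325) (.leaf 211456097)) (.node (.leaf 108863230) (.leaf 360421334))) (.node (.node (.leaf 11108400) (.leaf 184582192)) (.node (.leaf 138860358) (.leaf 54968370)))) (.node (.node (.node (.leaf 165399913) (.leaf 26418853)) (.node (.leaf 155633388) (.leaf 43122738))) (.node (.node (.leaf 182091825) (.leaf 3165557)) (.node (.leaf 218194032) (.leaf 42785925)))))) (.node (.node (.node (.node (.node (.leaf 191432293) (.leaf 3708276)) (.node (.leaf 234831921) (.leaf 55615546))) (.node (.node (.leaf 302224340) (.leaf 61084700))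 (.node (.leaf 266633266) (.leaf 32325682)))) (.node (.node (.node (.leaf 304382002) (.leaf 49184818)) (.node (.leaf 22708274) (.leaf 11108982))) (.node (.node (.leaf 26560904) (.leaf 31673249)) (.node (.leaf 252056320) (.leaf 380276821))))) (.node (.node (.node (.node (.leaf 238897576) (.leaf 234495105)) (.node (.leaf 62521392) (.leaf 211386416))) (.node (.node (.leaf 94470192) (.leaf 342261808)) (.node (.leaf 37817080) (.leaf 360382512)))) (.node (.node (.node (.leaf 70717657) (.leaf 184522553)) (.node (.leaf 122585914) (.leaf 360454581))) (.node (.node (.leaf 59329564) (.leaf 184634461)) (.node (.leaf 118593286) (.leaf 211353648)))))))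

/-- A Schreier factor, part 616. -/
def facCodePart616 : Janko1.Tree ℕ := (.node (.node (.node (.node (.node (.node (.leaf 55237880) (.leaf 342245424)) (.node (.leaf 108560432) (.leaf 326631472))) (.node (.node (.leaf 10769069) (.leaf 234476876)) (.node (.leaf 19759152) (.leaf 380426026)))) (.node (.node (.node (.leaf 35768960) (.leaf 39178746)) (.node (.leaf 68571133) (.leaf 8112828))) (.node (.node (.leaf 39780401) (.leaf 22347826)) (.node (.leaf 103439932) (.leaf 38539712))))) (.node (.node (.node (.node (.leaf 71974961) (.leaf 8847410)) (.node (.leaf 338165810) (.leaf 15093145))) (.node (.node (.leaf 375504946) (.leaf 65421362)) (.node (.leaf 340295730) (.leaf 28360754)))) (.node (.node (.node (.leaf 201244722) (.leaf 65929266)) (.node (.leaf 147537970) (.leaf 27976008))) (.node (.node (.leaf 204737821) (.leaf 44638480)) (.node (.leaf 151076914) (.leaf 15866966)))))) (.node (.node (.node (.node (.node (.leaf 239109365) (.leaf 184598968)) (.node (.leaf 252362800) (.leaf 342212656))) (.node (.node (.leaf 38084352) (.leaf 326584990)) (.node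 (.leaf 70975617) (.leaf 234440310)))) (.node (.node (.node (.leaf 103075393) (.leaf 154830377)) (.node (.leaf 39092274) (.leaf 380799306))) (.node (.node (.leaf 148865072) (.leaf 342507568)) (.node (.leaf 222579421) (.leaf 360635714))))) (.node (.node (.node (.node (.leaf 151732273) (.leaf 3087206)) (.node (.leaf 221249585) (.leaf 179474474))) (.node (.node (.leaf 367038640) (.leaf 10537818)) (.node (.leaf 329406290) (.leaf 92670118)))) (.node (.node (.node (.leaf 191502496) (.leaf 92717844)) (.node (.leaf 135125898) (.leaf 10469425))) (.node (.node (.leaf 378544462) (.leaf 154851321)) (.node (.leaf 365743901) (.leaf 326860848)))))))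

/-- A Schreier factor, part 617. -/
def facCodePart617 : Janko1.Tree ℕ := (.node (.node (.node (.node (.node (.node (.leaf 163401889) (.leaf 360677424)) (.node (.leaf 160995924) (.leaf 184893488))) (.node (.node (.leaf 217387148) (.leaf 211535352)) (.node (.leaf 222314544) (.leaf 326778928)))) (.node (.node (.node (.leaf 228884528) (.leaf 154861616)) (.node (.leaf 52355221) (.leaf 21626929))) (.node (.node (.leaf 56475697) (.leaf 152469554)) (.node (.leaf 115540017) (.leaf 182648882))))) (.node (.node (.node (.node (.leaf 83984522) (.leaf 71124358)) (.node (.leaf 87932977) (.leaf 142396393))) (.node (.node (.leaf 295649330) (.leaf 161087538)) (.node (.leaf 293437490) (.leaf 76989646)))) (.node (.node (.node (.leaf 257966130) (.leaf 147243058)) (.node (.leaf 76219333) (.leaf 177602610))) (.node (.node (.leaf 378847280) (.leaf 211599408)) (.node (.leaf 325926960) (.leaf 342491184)))))) (.node (.node (.node (.node (.node (.leaf 163774512) (.leaf 326795312)) (.node (.leaf 190317334) (.leaf 234741265))) (.node (.node (.leaf 183926832) (.leaf 154878000))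 (.node (.leaf 234604540) (.leaf 234569776)))) (.node (.node (.node (.leaf 78757936) (.leaf 208076848)) (.node (.leaf 247946529) (.leaf 324519144))) (.node (.node (.leaf 155533361) (.leaf 184746500)) (.node (.leaf 243720541) (.leaf 157618718))))) (.node (.node (.node (.node (.leaf 116752432) (.leaf 21743737)) (.node (.leaf 108757040) (.leaf 8781874))) (.node (.node (.leaf 358105790) (.leaf 42699072)) (.node (.leaf 200626826) (.leaf 22549390)))) (.node (.node (.node (.leaf 62605437) (.leaf 27934770)) (.node (.leaf 37897477) (.leaf 15830801))) (.node (.node (.leaf 91739437) (.leaf 49092253)) (.node (.leaf 305381424) (.leaf 15319090)))))))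

/-- A Schreier factor, part 618. -/
def facCodePart618 : Janko1.Tree ℕ := (.node (.node (.node (.node (.node (.node (.leaf 60653617) (.leaf 61789553)) (.node (.leaf 59891393) (.leaf 234553521))) (.node (.node (.leaf 248845996) (.leaf 342333910)) (.node (.leaf 22172418) (.leaf 324491206)))) (.node (.node (.node (.leaf 103235633) (.leaf 342310960)) (.node (.leaf 86327344) (.leaf 324468784))) (.node (.node (.leaf 35602481) (.leaf 234537008)) (.node (.leaf 243390845) (.leaf 208044118))))) (.node (.node (.node (.node (.leaf 4751409) (.leaf 380540830)) (.node (.leaf 247709744) (.leaf 362594352))) (.node (.node (.leaf 108494896) (.leaf 3953166)) (.node (.leaf 123263193) (.leaf 39108658)))) (.node (.node (.node (.leaf 116391984) (.leaf 26057898)) (.node (.leaf 286228530) (.leaf 59572274))) (.node (.node (.leaf 284150882) (.leaf 38436914)) (.node (.leaf 201556017) (.leaf 45334578)))))) (.node (.node (.node (.node (.node (.leaf 62967013) (.leaf 31836569)) (.node (.leaf 292331621) (.leaf 32232284))) (.node (.node (.leaf 172376113) (.leaf 44564530)) (.node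 (.leaf 319799346) (.leaf 234520624)))) (.node (.node (.node (.leaf 146997700) (.leaf 208030197)) (.node (.leaf 150574233) (.leaf 362547033))) (.node (.node (.leaf 231014449) (.leaf 380911664)) (.node (.leaf 203915312) (.leaf 362807344))))) (.node (.node (.node (.node (.leaf 151633969) (.leaf 342573104)) (.node (.leaf 321225849) (.leaf 324829232))) (.node (.node (.leaf 141544313) (.leaf 184975408)) (.node (.leaf 103579698) (.leaf 38518833)))) (.node (.node (.node (.leaf 107397170) (.leaf 169352337)) (.node (.leaf 71684962) (.leaf 118112305))) (.node (.node (.leaf 75583140) (.leaf 152819282)) (.node (.leaf 277758002) (.leaf 179372082)))))))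

/-- A Schreier factor, part 619. -/
def facCodePart619 : Janko1.Tree ℕ := (.node (.node (.node (.node (.node (.node (.leaf 95977521) (.leaf 44613681)) (.node (.leaf 163497898) (.leaf 137887794))) (.node (.node (.leaf 76202033) (.leaf 164282418)) (.node (.leaf 378454064) (.leaf 124338225)))) (.node (.node (.node (.leaf 44351537) (.leaf 174424114)) (.node (.leaf 155844656) (.leaf 362861682))) (.node (.node (.leaf 137986098) (.leaf 324867086)) (.node (.leaf 134774834) (.leaf 157892656))))) (.node (.node (.node (.node (.leaf 115294257) (.leaf 185062637)) (.node (.leaf 196755504) (.leaf 157946994))) (.node (.node (.leaf 203594681) (.leaf 324764672)) (.node (.leaf 19005489) (.leaf 234782768)))) (.node (.node (.node (.leaf 316539342) (.leaf 208243834)) (.node (.leaf 320871322) (.leaf 362876338))) (.node (.node (.leaf 222269097) (.leaf 139464672)) (.node (.leaf 214695986) (.leaf 166053128)))))) (.node (.node (.node (.node (.node (.leaf 228818992) (.leaf 102465585)) (.node (.leaf 218136626) (.leaf 102547505))) (.node (.node (.leaf 187613234) (.leaf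 155992114)) (.node (.leaf 190824474) (.leaf 54871945)))) (.node (.node (.node (.leaf 349297288) (.leaf 54935601)) (.node (.leaf 365920304) (.leaf 150814770))) (.node (.node (.leaf 161875144) (.leaf 177490704)) (.node (.leaf 378768410) (.leaf 60988809))))) (.node (.node (.node (.node (.leaf 185208124) (.leaf 61048640)) (.node (.leaf 43671177) (.leaf 185094756))) (.node (.node (.leaf 39600178) (.leaf 342560465)) (.node (.leaf 155994810) (.leaf 324816492)))) (.node (.node (.node (.leaf 8814642) (.leaf 208273456)) (.node (.leaf 240533554) (.leaf 380977200))) (.node (.node (.leaf 21233712) (.leaf 376963120)) (.node (.leaf 181747761) (.leaf 341988424)))))))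

/-- A Schreier factor, part 620. -/
def facCodePart620 : Janko1.Tree ℕ := (.node (.node (.node (.node (.node (.node (.leaf 192070114) (.leaf 234947433)) (.node (.leaf 283463702) (.leaf 344051894))) (.node (.node (.leaf 208787481) (.leaf 379011120)) (.node (.leaf 151212122) (.leaf 142114865)))) (.node (.node (.node (.leaf 147709710) (.leaf 210976816)) (.node (.leaf 340150420) (.leaf 209011692))) (.node (.node (.leaf 338083890) (.leaf 154452016)) (.node (.leaf 125747248) (.leaf 157417520))))) (.node (.node (.node (.node (.leaf 13746225) (.leaf 137707569)) (.node (.leaf 26640433) (.leaf 210930214))) (.node (.node (.leaf 270024752) (.leaf 207506638)) (.node (.leaf 111609188) (.leaf 204144748)))) (.node (.node (.node (.leaf 93099134) (.leaf 376953037)) (.node (.leaf 302383154) (.leaf 234913840))) (.node (.node (.leaf 39419953) (.leaf 234897456)) (.node (.leaf 278708272) (.leaf 237322288)))))) (.node (.node (.node (.node (.node (.leaf 53333756) (.leaf 207491068)) (.node (.leaf 22862074) (.leaf 195576321))) (.node (.node (.leaf 122724378) (.leaf 195595005))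 (.node (.leaf 118722106) (.leaf 157532208)))) (.node (.node (.node (.leaf 102187056) (.leaf 150527697)) (.node (.leaf 147832881) (.leaf 154484784))) (.node (.node (.leaf 144474161) (.leaf 190578737)) (.node (.leaf 270256012) (.leaf 157489062))))) (.node (.node (.node (.node (.leaf 225263665) (.leaf 150552625)) (.node (.leaf 69795888) (.leaf 181951673))) (.node (.node (.leaf 204587058) (.leaf 234848304)) (.node (.leaf 373325874) (.leaf 341966896)))) (.node (.node (.node (.leaf 173981746) (.leaf 237273136)) (.node (.leaf 177247272) (.leaf 376980325))) (.node (.node (.leaf 177969842) (.leaf 185273105)) (.node (.leaf 150163266) (.leaf 377159728)))))))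

/-- A Schreier factor, part 621. -/
def facCodePart621 : Janko1.Tree ℕ := (.node (.node (.node (.node (.node (.node (.leaf 168050737) (.leaf 342188457)) (.node (.leaf 205275185) (.leaf 235175984))) (.node (.node (.leaf 352829488) (.leaf 182206512)) (.node (.leaf 4587570) (.leaf 8831025)))) (.node (.node (.node (.leaf 169509953) (.leaf 91462148)) (.node (.leaf 9470002) (.leaf 210632752))) (.node (.node (.leaf 257818674) (.leaf 91422769)) (.node (.leaf 260014720) (.leaf 154163162))))) (.node (.node (.node (.node (.leaf 236683312) (.leaf 157122608)) (.node (.leaf 216465456) (.leaf 97288241))) (.node (.node (.leaf 9322545) (.leaf 210665520)) (.node (.leaf 343638064) (.leaf 207241264)))) (.node (.node (.node (.leaf 330207518) (.leaf 15843377)) (.node (.leaf 107907085) (.leaf 154173488))) (.node (.node (.leaf 191365170) (.leaf 185311274)) (.node (.leaf 367181874) (.leaf 235209814)))))) (.node (.node (.node (.node (.node (.leaf 364955225) (.leaf 379602797)) (.node (.leaf 160879216) (.leaf 182239280))) (.node (.node (.leaf 56169414) (.leaf 235110448))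 (.node (.leaf 84595045) (.leaf 342130736)))) (.node (.node (.node (.leaf 88498258) (.leaf 185339093)) (.node (.leaf 357122096) (.leaf 377208880))) (.node (.node (.leaf 169214000) (.leaf 26361905)) (.node (.leaf 176046128) (.leaf 207198132))))) (.node (.node (.node (.node (.leaf 214255729) (.leaf 75698205)) (.node (.leaf 237043760) (.leaf 207208496))) (.node (.node (.leaf 157555440) (.leaf 81466714)) (.node (.leaf 214859825) (.leaf 210583600)))) (.node (.node (.node (.leaf 237262245) (.leaf 32244105)) (.node (.leaf 72171570) (.leaf 235162345))) (.node (.node (.leaf 295831184) (.leaf 342164124)) (.node (.leaf 43057202) (.leaf 237813808)))))))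

/-- A Schreier factor, part 622. -/
def facCodePart622 : Janko1.Tree ℕ := (.node (.node (.node (.node (.node (.node (.leaf 322125874) (.leaf 376995888)) (.node (.leaf 150421554) (.leaf 359776852))) (.node (.node (.leaf 319657654) (.leaf 237502512)) (.node (.leaf 178014034) (.leaf 344136549)))) (.node (.node (.node (.leaf 45334576) (.leaf 379180061)) (.node (.leaf 227672114) (.leaf 361914580))) (.node (.node (.leaf 174768178) (.leaf 182009904)) (.node (.leaf 269959216) (.leaf 185221168))))) (.node (.node (.node (.node (.leaf 111837233) (.leaf 158400560)) (.node (.leaf 124010626) (.leaf 324050460))) (.node (.node (.leaf 274499296) (.leaf 211770101)) (.node (.leaf 59871020) (.leaf 181977310)))) (.node (.node (.node (.leaf 91196905) (.leaf 379258524)) (.node (.leaf 251053920) (.leaf 182042777))) (.node (.node (.leaf 26066994) (.leaf 155459368)) (.node (.leaf 87250666) (.leaf 235019914)))))) (.node (.node (.node (.node (.node (.leaf 284278834) (.leaf 208420912)) (.node (.leaf 22003762) (.leaf 326271049))) (.node (.node (.leaf 45072432) (.leaf 341999664))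 (.node (.leaf 60038793) (.leaf 237458574)))) (.node (.node (.node (.leaf 77464968) (.leaf 211735201)) (.node (.leaf 119129029) (.leaf 158587844))) (.node (.node (.leaf 228737073) (.leaf 361938992)) (.node (.leaf 274776112) (.leaf 155407140))))) (.node (.node (.node (.node (.leaf 270204976) (.leaf 234963954)) (.node (.leaf 225411121) (.leaf 208388144))) (.node (.node (.leaf 198787101) (.leaf 344064048)) (.node (.leaf 144512218) (.leaf 158498864)))) (.node (.node (.node (.leaf 171622449) (.leaf 377012272)) (.node (.leaf 71829625) (.leaf 185408968))) (.node (.node (.leaf 275890328) (.leaf 158817826)) (.node (.leaf 75751468) (.leaf 342197262)))))))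

/-- A Schreier factor, part 623. -/
def facCodePart623 : Janko1.Tree ℕ := (.node (.node (.node (.node (.node (.node (.leaf 277942937) (.leaf 324328904)) (.node (.leaf 242614322) (.leaf 237961264))) (.node (.node (.leaf 169426992) (.leaf 379650096)) (.node (.leaf 107233330) (.leaf 362135600)))) (.node (.node (.node (.leaf 128319537) (.leaf 158892080)) (.node (.leaf 361547858) (.leaf 360046488))) (.node (.node (.leaf 108183601) (.leaf 324354096)) (.node (.leaf 76713044) (.leaf 238030956))))) (.node (.node (.node (.node (.leaf 216563760) (.leaf 379699248)) (.node (.leaf 187727922) (.leaf 379715632))) (.node (.node (.leaf 349470770) (.leaf 208650288)) (.node (.leaf 313376818) (.leaf 344312049)))) (.node (.node (.node (.leaf 161579058) (.leaf 237912112)) (.node (.leaf 175935000) (.leaf 185491516))) (.node (.node (.leaf 217980581) (.leaf 158910492)) (.node (.leaf 164970546) (.leaf 377274416)))))) (.node (.node (.node (.node (.node (.leaf 202528289) (.leaf 360057330)) (.node (.leaf 330472508) (.leaf 379767250))) (.node (.node (.leaf 343840469) (.leaf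 235241520)) (.node (.leaf 237633898) (.leaf 208690578)))) (.node (.node (.node (.leaf 211703697) (.leaf 344397928)) (.node (.leaf 237099909) (.leaf 185516080))) (.node (.node (.leaf 184539806) (.leaf 377329814)) (.node (.leaf 156794928) (.leaf 360093030))))) (.node (.node (.node (.node (.leaf 25674401) (.leaf 301728693)) (.node (.leaf 122175536) (.leaf 286425138))) (.node (.node (.leaf 188153905) (.leaf 277498450)) (.node (.leaf 57513525) (.leaf 140427313)))) (.node (.node (.node (.leaf 333716202) (.leaf 207133241)) (.node (.leaf 170991778) (.leaf 350638141))) (.node (.node (.leaf 7356464) (.leaf 202236026)) (.node (.leaf 105748557) (.leaf 320099077)))))))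

/-- A Schreier factor, part 624. -/
def facCodePart624 : Janko1.Tree ℕ := (.node (.node (.node (.node (.node (.node (.leaf 289669168) (.leaf 320192561)) (.node (.leaf 272224774) (.leaf 202146185))) (.node (.node (.leaf 18661425) (.leaf 347193393)) (.node (.leaf 40861744) (.leaf 278200370)))) (.node (.node (.node (.leaf 114475058) (.leaf 298532914)) (.node (.leaf 51183666) (.leaf 278593586))) (.node (.node (.leaf 297721754) (.leaf 287540750)) (.node (.leaf 261980210) (.leaf 307118130))))) (.node (.node (.node (.node (.leaf 95771938) (.leaf 285884466)) (.node (.leaf 127356473) (.leaf 302334002))) (.node (.node (.leaf 267649072) (.leaf 277635384)) (.node (.leaf 81002544) (.leaf 153894961)))) (.node (.node (.node (.leaf 48913322) (.leaf 359547286)) (.node (.leaf 83838242) (.leaf 314693353))) (.node (.node (.leaf 18071602) (.leaf 193757233)) (.node (.leaf 297748578) (.leaf 193691697)))))) (.node (.node (.node (.node (.node (.leaf 262020208) (.leaf 314754729)) (.node (.leaf 51134514) (.leaf 153845809))) (.node (.node (.leaf 221470329) (.leaf 356274873))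 (.node (.leaf 33718320) (.leaf 311215560)))) (.node (.node (.node (.leaf 130325958) (.leaf 188678193)) (.node (.leaf 178717886) (.leaf 356204557))) (.node (.node (.leaf 151820761) (.leaf 148545660)) (.node (.leaf 144146482) (.leaf 298392681))))) (.node (.node (.node (.node (.leaf 97189936) (.leaf 307334800)) (.node (.leaf 65896496) (.leaf 287375410))) (.node (.node (.leaf 224018905) (.leaf 307713264)) (.node (.leaf 170941737) (.leaf 286900274)))) (.node (.node (.node (.leaf 369197106) (.leaf 278085682)) (.node (.leaf 226992028) (.leaf 361483502))) (.node (.node (.leaf 172081201) (.leaf 352026674)) (.node (.leaf 144677637) (.leaf 367952285)))))))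

/-- A Schreier factor, part 625. -/
def facCodePart625 : Janko1.Tree ℕ := (.node (.node (.node (.node (.node (.node (.leaf 350504112) (.leaf 376594562)) (.node (.leaf 199213317) (.leaf 275701752))) (.node (.node (.leaf 172752944) (.leaf 4866097)) (.node (.leaf 96060269) (.leaf 88277041)))) (.node (.node (.node (.leaf 273498162) (.leaf 88343332)) (.node (.leaf 126943282) (.leaf 4931633))) (.node (.node (.leaf 63946802) (.leaf 275578929)) (.node (.leaf 72384561) (.leaf 278675505))))) (.node (.node (.node (.node (.leaf 103530545) (.leaf 12064994)) (.node (.leaf 134103088) (.leaf 94454558))) (.node (.node (.leaf 35932734) (.leaf 278775084)) (.node (.leaf 185619661) (.leaf 366871537)))) (.node (.node (.node (.leaf 159108868) (.leaf 346234486)) (.node (.leaf 380688665) (.leaf 355958834))) (.node (.node (.leaf 140214320) (.leaf 368082994)) (.node (.leaf 80236845) (.leaf 360958389)))))) (.node (.node (.node (.node (.node (.leaf 354599356) (.leaf 367460402)) (.node (.leaf 336937008) (.leaf 352583730))) (.node (.node (.leaf 192135216) (.leaf 23322402))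 (.node (.leaf 165680100) (.leaf 284262449)))) (.node (.node (.node (.leaf 154861825) (.leaf 72680325)) (.node (.leaf 344737637) (.leaf 240239308))) (.node (.node (.leaf 234033182) (.leaf 284319250)) (.node (.leaf 208085010) (.leaf 29180645))))) (.node (.node (.node (.node (.leaf 234429536) (.leaf 287589930)) (.node (.leaf 233640528) (.leaf 78451889))) (.node (.node (.leaf 345948241) (.leaf 78544945)) (.node (.leaf 328041508) (.leaf 243435432)))) (.node (.node (.node (.leaf 165250153) (.leaf 287463800)) (.node (.leaf 138580088) (.leaf 29294641))) (.node (.node (.leaf 179258357) (.leaf 355844146)) (.node (.leaf 126930429) (.leaf 375570482)))))))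

/-- A Schreier factor, part 626. -/
def facCodePart626 : Janko1.Tree ℕ := (.node (.node (.node (.node (.node (.node (.leaf 63914517) (.leaf 355425874)) (.node (.leaf 193860841) (.leaf 301635229))) (.node (.node (.leaf 317592040) (.leaf 292821965)) (.node (.leaf 57428142) (.leaf 275533996)))) (.node (.node (.node (.leaf 224776229) (.leaf 284344370)) (.node (.leaf 81333009) (.leaf 302390182))) (.node (.node (.leaf 158859313) (.leaf 368361521)) (.node (.leaf 285540400) (.leaf 368427057))))) (.node (.node (.node (.node (.leaf 162024594) (.leaf 341739145)) (.node (.leaf 122214288) (.leaf 233621008))) (.node (.node (.leaf 214712369) (.leaf 167100465)) (.node (.leaf 16945296) (.leaf 167174108)))) (.node (.node (.node (.leaf 17743922) (.leaf 162126277)) (.node (.leaf 246729436) (.leaf 162224940))) (.node (.node (.leaf 279740466) (.leaf 228638769)) (.node (.leaf 79134770) (.leaf 228704305)))))) (.node (.node (.node (.node (.node (.leaf 115261490) (.leaf 338395185)) (.node (.leaf 40796208) (.leaf 365068337))) (.node (.node (.leaf 47333426) (.leaf 365150257))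 (.node (.leaf 56295473) (.leaf 307773490)))) (.node (.node (.node (.leaf 18874417) (.leaf 281018418)) (.node (.leaf 33217532) (.leaf 298436213))) (.node (.node (.leaf 105815420) (.leaf 289298220)) (.node (.leaf 83596041) (.leaf 307052656))))) (.node (.node (.node (.node (.leaf 279762780) (.leaf 275681138)) (.node (.leaf 79151154) (.leaf 293306418))) (.node (.node (.leaf 246667429) (.leaf 302219314)) (.node (.leaf 47355408) (.leaf 301817986)))) (.node (.node (.node (.leaf 115245106) (.leaf 274956338)) (.node (.leaf 9740026) (.leaf 180471390))) (.node (.node (.leaf 113721392) (.leaf 332709937)) (.node (.leaf 75825201) (.leaf 332791857)))))))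

/-- A Schreier factor, part 627. -/
def facCodePart627 : Janko1.Tree ℕ := (.node (.node (.node (.node (.node (.node (.leaf 25313328) (.leaf 376848433)) (.node (.leaf 143802418) (.leaf 373638572))) (.node (.node (.leaf 317539680) (.leaf 373735473)) (.node (.leaf 351387698) (.leaf 329384189)))) (.node (.node (.node (.leaf 224728344) (.leaf 215269425)) (.node (.leaf 73711664) (.leaf 215341429))) (.node (.node (.leaf 65847344) (.leaf 175620145)) (.node (.leaf 167806509) (.leaf 175702065))))) (.node (.node (.node (.node (.leaf 258785328) (.leaf 280395826)) (.node (.leaf 168689713) (.leaf 298319922))) (.node (.node (.leaf 152061184) (.leaf 289381262)) (.node (.leaf 290047749) (.leaf 307200050)))) (.node (.node (.node (.leaf 221544497) (.leaf 289767474)) (.node (.leaf 7585840) (.leaf 307609650))) (.node (.node (.leaf 130351152) (.leaf 281149490)) (.node (.leaf 291160114) (.leaf 358696262)))))) (.node (.node (.node (.node (.node (.leaf 99205658) (.leaf 375898162)) (.node (.leaf 253596836) (.leaf 367516836))) (.node (.node (.leaf 172654640) (.leaf 350279702))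 (.node (.leaf 68224440) (.leaf 367876978)))) (.node (.node (.node (.leaf 144932913) (.leaf 293323505)) (.node (.leaf 332578864) (.leaf 266469425))) (.node (.node (.leaf 175299841) (.leaf 266584113)) (.node (.leaf 154518762) (.leaf 46144210))))) (.node (.node (.node (.node (.leaf 324915076) (.leaf 46177661)) (.node (.leaf 362610738) (.leaf 125927473))) (.node (.node (.leaf 210845746) (.leaf 125993729)) (.node (.leaf 345718832) (.leaf 366824609)))) (.node (.node (.node (.leaf 103596081) (.leaf 348667954)) (.node (.leaf 153501744) (.leaf 366395552))) (.node (.node (.leaf 362684249) (.leaf 350437426)) (.node (.leaf 324881940) (.leaf 376389682)))))))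

/-- A Schreier factor, part 628. -/
def facCodePart628 : Janko1.Tree ℕ := (.node (.node (.node (.node (.node (.node (.leaf 165597809) (.leaf 358891704)) (.node (.leaf 184846745) (.leaf 376032958))) (.node (.node (.leaf 199049264) (.leaf 367363080)) (.node (.leaf 350258860) (.leaf 56426545)))) (.node (.node (.node (.leaf 146546025) (.leaf 302433929)) (.node (.leaf 291209266) (.leaf 260918354))) (.node (.node (.leaf 127783533) (.leaf 109756465)) (.node (.leaf 179175472) (.leaf 62505009))))) (.node (.node (.node (.node (.leaf 68288562) (.leaf 62586929)) (.node (.leaf 327942192) (.leaf 348536882))) (.node (.node (.leaf 181895217) (.leaf 366251838)) (.node (.leaf 134285778) (.leaf 375521330)))) (.node (.node (.node (.leaf 369348780) (.leaf 22666333)) (.node (.leaf 224182322) (.leaf 44023858))) (.node (.node (.leaf 141164688) (.leaf 39829554)) (.node (.leaf 197886002) (.leaf 23287565)))))) (.node (.node (.node (.node (.node (.leaf 112951344) (.leaf 26509362)) (.node (.leaf 303848546) (.leaf 352130301))) (.node (.node (.leaf 135287786) (.leaf 352109486))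 (.node (.leaf 264077362) (.leaf 348790964)))) (.node (.node (.node (.leaf 129024048) (.leaf 321765425)) (.node (.leaf 6209584) (.leaf 348772193))) (.node (.node (.leaf 13762610) (.leaf 138383960)) (.node (.leaf 88137902) (.leaf 66814002))))) (.node (.node (.node (.node (.leaf 115769393) (.leaf 16613426)) (.node (.leaf 22843166) (.leaf 16187442))) (.node (.node (.leaf 74531993) (.leaf 62668850)) (.node (.leaf 297877554) (.leaf 4852450)))) (.node (.node (.node (.leaf 46923826) (.leaf 9027634)) (.node (.leaf 114556978) (.leaf 60080178))) (.node (.node (.leaf 264067052) (.leaf 56315485)) (.node (.leaf 13795378) (.leaf 55869490)))))))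

/-- A Schreier factor, part 629. -/
def facCodePart629 : Janko1.Tree ℕ := (.node (.node (.node (.node (.node (.node (.leaf 107712057) (.leaf 361021489)) (.node (.leaf 249945280) (.leaf 196366732))) (.node (.node (.leaf 82166180) (.leaf 316260401)) (.node (.leaf 43417649) (.leaf 196345905)))) (.node (.node (.node (.leaf 30757341) (.leaf 156375736)) (.node (.leaf 58380477) (.leaf 361037873))) (.node (.node (.leaf 224133909) (.leaf 357875761)) (.node (.leaf 167313458) (.leaf 312770609))))) (.node (.node (.node (.node (.leaf 197820466) (.leaf 312803377)) (.node (.leaf 104979056) (.leaf 191348785))) (.node (.node (.leaf 195107648) (.leaf 49480153)) (.node (.leaf 141459505) (.leaf 33062962)))) (.node (.node (.node (.leaf 42188848) (.leaf 28753970)) (.node (.leaf 98451504) (.leaf 45531186))) (.node (.node (.leaf 178176049) (.leaf 50151474)) (.node (.leaf 309002290) (.leaf 152879154)))))) (.node (.node (.node (.node (.node (.leaf 35438642) (.leaf 166777368)) (.node (.leaf 95911986) (.leaf 153567282))) (.node (.node (.leaf 372639073) (.leaf 276994866))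 (.node (.leaf 201756384) (.leaf 91654962)))) (.node (.node (.node (.leaf 167004820) (.leaf 9067425)) (.node (.leaf 380914954) (.leaf 253707674))) (.node (.node (.leaf 184336434) (.leaf 97403909)) (.node (.leaf 232325168) (.leaf 253691758))))) (.node (.node (.node (.node (.leaf 132972592) (.leaf 280365844)) (.node (.leaf 323387440) (.leaf 174653490))) (.node (.node (.leaf 72745009) (.leaf 178521994)) (.node (.leaf 132552092) (.leaf 138543154)))) (.node (.node (.node (.leaf 4636721) (.leaf 138199090)) (.node (.leaf 180060208) (.leaf 135389350))) (.node (.node (.leaf 380928050) (.leaf 140132402)) (.node (.leaf 184390545) (.leaf 142540850)))))))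

/-- A Schreier factor, part 630. -/
def facCodePart630 : Janko1.Tree ℕ := (.node (.node (.node (.node (.node (.node (.leaf 234183864) (.leaf 183074866)) (.node (.leaf 342514050) (.leaf 180176069))) (.node (.node (.leaf 158046653) (.leaf 179753382)) (.node (.leaf 225591344) (.leaf 143262388)))) (.node (.node (.node (.leaf 124223537) (.leaf 285693073)) (.node (.leaf 318589733) (.leaf 75944933))) (.node (.node (.leaf 80576561) (.leaf 241848784)) (.node (.leaf 60194865) (.leaf 75907073))))) (.node (.node (.node (.node (.leaf 14188593) (.leaf 26476593)) (.node (.leaf 173441072) (.leaf 285704877))) (.node (.node (.leaf 127139890) (.leaf 289251688)) (.node (.leaf 271211994) (.leaf 32522301)))) (.node (.node (.node (.leaf 309052945) (.leaf 81612534)) (.node (.leaf 67887094) (.leaf 244973617))) (.node (.node (.leaf 95879218) (.leaf 244990001)) (.node (.leaf 212631600) (.leaf 81592369)))))) (.node (.node (.node (.node (.node (.leaf 152633392) (.leaf 32505905)) (.node (.leaf 208377885) (.leaf 164534176))) (.node (.node (.leaf 154816573) (.leaf 151592069))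 (.node (.leaf 164577329) (.leaf 165314610)))) (.node (.node (.node (.leaf 82370982) (.leaf 43941938)) (.node (.leaf 50233392) (.leaf 4292658))) (.node (.node (.leaf 250396720) (.leaf 43515954)) (.node (.leaf 303759486) (.leaf 4776006))))) (.node (.node (.node (.node (.leaf 224673842) (.leaf 343015473)) (.node (.leaf 15876144) (.leaf 343118184))) (.node (.node (.leaf 171507762) (.leaf 236423288)) (.node (.leaf 193986610) (.leaf 236437553)))) (.node (.node (.node (.leaf 315361736) (.leaf 343102250)) (.node (.leaf 66666544) (.leaf 366575665))) (.node (.node (.leaf 22618478) (.leaf 366625240)) (.node (.leaf 84394033) (.leaf 366548442)))))))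

/-- A Schreier factor, part 631. -/
def facCodePart631 : Janko1.Tree ℕ := (.node (.node (.node (.node (.node (.node (.leaf 294489838) (.leaf 164796284)) (.node (.leaf 115671089) (.leaf 164855857))) (.node (.node (.leaf 115130418) (.leaf 28689029)) (.node (.leaf 128958512) (.leaf 33308722)))) (.node (.node (.node (.leaf 51643148) (.leaf 66734038)) (.node (.leaf 279906885) (.leaf 29350840))) (.node (.node (.leaf 79299982) (.leaf 62554162)) (.node (.leaf 13143692) (.leaf 32539294))))) (.node (.node (.node (.node (.leaf 64133721) (.leaf 26707054)) (.node (.leaf 90095664) (.leaf 59985978))) (.node (.node (.leaf 30588977) (.leaf 56229938)) (.node (.leaf 245751201) (.leaf 60375090)))) (.node (.node (.node (.leaf 298991664) (.leaf 22872114)) (.node (.leaf 115114034) (.leaf 223117361))) (.node (.node (.leaf 51593266) (.leaf 334454597)) (.node (.leaf 279937074) (.leaf 334397489)))))) (.node (.node (.node (.node (.node (.leaf 244474158) (.leaf 223189821)) (.node (.leaf 168280113) (.leaf 375144497))) (.node (.node (.leaf 205627789) (.leaf 178077745)) (.node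 (.leaf 254806257) (.leaf 178180289)))) (.node (.node (.node (.leaf 308019770) (.leaf 375177265)) (.node (.leaf 231852081) (.leaf 375278912))) (.node (.node (.leaf 224626842) (.leaf 12095406)) (.node (.leaf 315375666) (.leaf 50053170))))) (.node (.node (.node (.node (.leaf 193544240) (.leaf 170098738)) (.node (.leaf 167053498) (.leaf 139728170))) (.node (.node (.leaf 147521585) (.leaf 166297650)) (.node (.leaf 198688817) (.leaf 142772397)))) (.node (.node (.node (.leaf 318955576) (.leaf 169674793)) (.node (.leaf 372525998) (.leaf 140088237))) (.node (.node (.leaf 127648148) (.leaf 268142400)) (.node (.leaf 139444272) (.leaf 268255281)))))))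

/-- A Schreier factor, part 632. -/
def facCodePart632 : Janko1.Tree ℕ := (.node (.node (.node (.node (.node (.node (.leaf 219237877) (.leaf 123113292)) (.node (.leaf 64456973) (.leaf 123178014))) (.node (.node (.leaf 291326846) (.leaf 123129328)) (.node (.leaf 99370988) (.leaf 123195104)))) (.node (.node (.node (.leaf 255803442) (.leaf 268238897)) (.node (.leaf 39649329) (.leaf 49400901))) (.node (.node (.leaf 180109360) (.leaf 298287153)) (.node (.leaf 100524376) (.leaf 298274108))))) (.node (.node (.node (.node (.leaf 363675696) (.leaf 49421988)) (.node (.leaf 234687568) (.leaf 147603506))) (.node (.node (.leaf 152343004) (.leaf 174577898)) (.node (.leaf 181682226) (.leaf 178475060)))) (.node (.node (.node (.leaf 362812516) (.leaf 148264276)) (.node (.leaf 210996601) (.leaf 175374386))) (.node (.node (.leaf 157220914) (.leaf 151077234)) (.node (.leaf 326785825) (.leaf 177836480)))))) (.node (.node (.node (.node (.node (.leaf 173522992) (.leaf 153485362)) (.node (.leaf 314441776) (.leaf 183517234))) (.node (.node (.leaf 181654662) (.leaf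 259163508)) (.node (.leaf 362840114) (.leaf 259113009)))) (.node (.node (.node (.leaf 211047149) (.leaf 259178974)) (.node (.leaf 181440380) (.leaf 306972276))) (.node (.node (.leaf 186990640) (.leaf 307068977)) (.node (.leaf 212553105) (.leaf 138133554))))) (.node (.node (.node (.node (.leaf 64443396) (.leaf 164495410)) (.node (.leaf 255852594) (.leaf 165202526))) (.node (.node (.leaf 218058480) (.leaf 107807148)) (.node (.leaf 208290893) (.leaf 92135757)))) (.node (.node (.node (.leaf 234673866) (.leaf 119324722)) (.node (.leaf 283377712) (.leaf 123338802))) (.node (.node (.leaf 261211084) (.leaf 75810964)) (.node (.leaf 204783666) (.leaf 196378673)))))))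

/-- A Schreier factor, part 633. -/
def facCodePart633 : Janko1.Tree ℕ := (.node (.node (.node (.node (.node (.node (.leaf 151027762) (.leaf 316342321)) (.node (.leaf 201343026) (.leaf 361168945))) (.node (.node (.leaf 174216816) (.leaf 196395057)) (.node (.leaf 125943856) (.leaf 312907805)))) (.node (.node (.node (.leaf 48087089) (.leaf 151461274)) (.node (.leaf 14241785) (.leaf 358055985))) (.node (.node (.leaf 60578844) (.leaf 312887332)) (.node (.leaf 27068041) (.leaf 191551774))))) (.node (.node (.node (.node (.leaf 92947449) (.leaf 109119218)) (.node (.leaf 69419056) (.leaf 130064560))) (.node (.node (.leaf 302339528) (.leaf 97572625)) (.node (.leaf 266521708) (.leaf 125861938)))) (.node (.node (.node (.leaf 99600161) (.leaf 88266778)) (.node (.leaf 131809505) (.leaf 123158989))) (.node (.node (.leaf 260849712) (.leaf 72042313)) (.node (.leaf 265240624) (.leaf 92209202)))))) (.node (.node (.node (.node (.node (.leaf 87785522) (.leaf 142934065)) (.node (.leaf 22626354) (.leaf 352259428))) (.node (.node (.leaf 118489138) (.leaf 209961009))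 (.node (.leaf 2555952) (.leaf 321978417)))) (.node (.node (.node (.leaf 175659464) (.leaf 348815409)) (.node (.leaf 148330368) (.leaf 138453374))) (.node (.node (.leaf 69648432) (.leaf 126033504)) (.node (.leaf 375554098) (.leaf 93618226))))) (.node (.node (.node (.node (.leaf 204757294) (.leaf 192631622)) (.node (.leaf 231079985) (.leaf 223625266))) (.node (.node (.leaf 194510897) (.leaf 210010162)) (.node (.leaf 357302320) (.leaf 236306482)))) (.node (.node (.node (.leaf 352686420) (.leaf 220069938)) (.node (.leaf 334970928) (.leaf 195973005))) (.node (.node (.leaf 72368178) (.leaf 75958628)) (.node (.leaf 4377557) (.leaf 241964134)))))))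

/-- A Schreier factor, part 634. -/
def facCodePart634 : Janko1.Tree ℕ := (.node (.node (.node (.node (.node (.node (.leaf 102995044) (.leaf 26742614)) (.node (.leaf 39141426) (.leaf 285872862))) (.node (.node (.leaf 106790962) (.leaf 241942577)) (.node (.leaf 43241348) (.leaf 75996234)))) (.node (.node (.node (.leaf 236802842) (.leaf 245041981)) (.node (.leaf 216666880) (.leaf 32620593))) (.node (.node (.leaf 9798018) (.leaf 81762382)) (.node (.leaf 208896048) (.leaf 214401074))))) (.node (.node (.node (.node (.leaf 364871730) (.leaf 188402240)) (.node (.leaf 115359793) (.leaf 236126258))) (.node (.node (.leaf 88047665) (.leaf 196051858)) (.node (.leaf 352405421) (.leaf 223445042)))) (.node (.node (.node (.leaf 356974640) (.leaf 232734770)) (.node (.leaf 188137522) (.leaf 250535982))) (.node (.node (.leaf 135078268) (.leaf 91824392)) (.node (.leaf 191561778) (.leaf 9158705)))))) (.node (.node (.node (.node (.node (.leaf 217337032) (.leaf 91807536)) (.node (.leaf 137450276) (.leaf 253952049))) (.node (.node (.leaf 216842288) (.leaf 97615921))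 (.node (.leaf 161812916) (.leaf 280412209)))) (.node (.node (.node (.leaf 135331889) (.leaf 16220209)) (.node (.leaf 185155633) (.leaf 97599537))) (.node (.node (.leaf 209207344) (.leaf 217799178)) (.node (.leaf 182656789) (.leaf 188237972))))) (.node (.node (.node (.node (.leaf 295764018) (.leaf 191584942)) (.node (.leaf 260132577) (.leaf 214519253))) (.node (.node (.leaf 293503026) (.leaf 201162802)) (.node (.leaf 257851442) (.leaf 231718962)))) (.node (.node (.node (.leaf 147111986) (.leaf 87769138)) (.node (.leaf 319741820) (.leaf 119248022))) (.node (.node (.leaf 85458992) (.leaf 123256882)) (.node (.leaf 77619632) (.leaf 103825458)))))))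

/-- A Schreier factor, part 635. -/
def facCodePart635 : Janko1.Tree ℕ := (.node (.node (.node (.node (.node (.node (.leaf 165466694) (.leaf 334528561)) (.node (.leaf 261134897) (.leaf 183287857))) (.node (.node (.leaf 182165778) (.leaf 183387116)) (.node (.leaf 218153009) (.leaf 183304241)))) (.node (.node (.node (.leaf 234750684) (.leaf 334484886)) (.node (.leaf 12272121) (.leaf 334520109))) (.node (.node (.leaf 286277682) (.leaf 375393669)) (.node (.leaf 91013170) (.leaf 375430632))))) (.node (.node (.node (.node (.leaf 61279913) (.leaf 375380710)) (.node (.leaf 36610417) (.leaf 218088982))) (.node (.node (.leaf 27263025) (.leaf 98140210)) (.node (.leaf 274317360) (.leaf 130039858)))) (.node (.node (.node (.leaf 126016448) (.leaf 94289970)) (.node (.leaf 79773745) (.leaf 125763634))) (.node (.node (.leaf 102160221) (.leaf 81645782)) (.node (.leaf 22220965) (.leaf 72488017)))))) (.node (.node (.node (.node (.node (.leaf 248749640) (.leaf 103679493)) (.node (.leaf 123343380) (.leaf 76367794))) (.node (.node (.leaf 77332528) (.leaf 107544626))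 (.node (.leaf 119365628) (.leaf 87640481)))) (.node (.node (.node (.leaf 85147696) (.leaf 119101897)) (.node (.leaf 260800560) (.leaf 236535857))) (.node (.node (.leaf 265158704) (.leaf 369987521)) (.node (.leaf 39819893) (.leaf 370040296))))) (.node (.node (.node (.node (.leaf 12009520) (.leaf 370049073)) (.node (.leaf 103388964) (.leaf 236519473))) (.node (.node (.leaf 21054644) (.leaf 236607225)) (.node (.leaf 355878794) (.leaf 339936401)))) (.node (.node (.node (.leaf 200531436) (.leaf 340006348)) (.node (.leaf 36880432) (.leaf 164888625))) (.node (.node (.leaf 174489650) (.leaf 164937777)) (.node (.leaf 61576440) (.leaf 339971884)))))))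

/-- A Schreier factor, part 636. -/
def facCodePart636 : Janko1.Tree ℕ := (.node (.node (.node (.node (.node (.node (.leaf 177831986) (.leaf 340025157)) (.node (.leaf 287735856) (.leaf 113147954))) (.node (.node (.leaf 102400048) (.leaf 77942122)) (.node (.leaf 126287920) (.leaf 98288484)))) (.node (.node (.node (.leaf 198154265) (.leaf 130107185)) (.node (.leaf 3906708) (.leaf 196823066))) (.node (.node (.leaf 240435250) (.leaf 223526962)) (.node (.leaf 8896562) (.leaf 206276453))))) (.node (.node (.node (.node (.leaf 103628850) (.leaf 209666098)) (.node (.leaf 202686512) (.leaf 236208178))) (.node (.node (.leaf 339315846) (.leaf 259231518)) (.node (.leaf 334872624) (.leaf 59999930)))) (.node (.node (.node (.leaf 150265372) (.leaf 60102126)) (.node (.leaf 221121881) (.leaf 259198328))) (.node (.node (.leaf 190742578) (.leaf 113164337)) (.node (.leaf 187514930) (.leaf 307298353)))))) (.node (.node (.node (.node (.node (.leaf 182321200) (.leaf 307167281)) (.node (.leaf 164777534) (.leaf 307281969))) (.node (.node (.leaf 31424561) (.leaf 187858994))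 (.node (.leaf 361415894) (.leaf 214323414)))) (.node (.node (.node (.leaf 236912688) (.leaf 201769010)) (.node (.leaf 95834036) (.leaf 228235790))) (.node (.node (.leaf 134826509) (.leaf 209535026)) (.node (.leaf 138018866) (.leaf 193249330))))) (.node (.node (.node (.node (.leaf 313442354) (.leaf 219938866)) (.node (.leaf 214777906) (.leaf 196673586))) (.node (.node (.leaf 334627184) (.leaf 123322530)) (.node (.leaf 52445233) (.leaf 123412725)))) (.node (.node (.node (.leaf 56563049) (.leaf 295026737)) (.node (.leaf 143245360) (.leaf 295059505))) (.node (.node (.leaf 149903702) (.leaf 123389134)) (.node (.leaf 277856306) (.leaf 271747777)))))))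

/-- A Schreier factor, part 637. -/
def facCodePart637 : Janko1.Tree ℕ := (.node (.node (.node (.node (.node (.node (.leaf 75555053) (.leaf 271827764)) (.node (.leaf 275841074) (.leaf 49512497))) (.node (.node (.leaf 135616433) (.leaf 201902196)) (.node (.leaf 348217100) (.leaf 228393010)))) (.node (.node (.node (.leaf 158384177) (.leaf 191219950)) (.node (.leaf 361746254) (.leaf 217767370))) (.node (.node (.leaf 187779926) (.leaf 214433842)) (.node (.leaf 211173425) (.leaf 231677076))))) (.node (.node (.node (.node (.leaf 230588670) (.leaf 257054833)) (.node (.leaf 340066354) (.leaf 259883058))) (.node (.node (.leaf 227295282) (.leaf 268861490)) (.node (.leaf 338005116) (.leaf 266028417)))) (.node (.node (.node (.leaf 204686502) (.leaf 250480788)) (.node (.leaf 201203502) (.leaf 240140338))) (.node (.node (.leaf 247971888) (.leaf 314556465)) (.node (.leaf 191963201) (.leaf 193613454)))))) (.node (.node (.node (.node (.node (.leaf 243826736) (.leaf 153780273)) (.node (.leaf 138515608) (.leaf 359454606))) (.node (.node (.leaf 155090993) (.leaf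 193527857)) (.node (.leaf 304562226) (.leaf 148359076)))) (.node (.node (.node (.leaf 59277362) (.leaf 356106289)) (.node (.leaf 22776740) (.leaf 148406321))) (.node (.node (.leaf 26661153) (.leaf 311020477)) (.node (.leaf 111742900) (.leaf 242799208))))) (.node (.node (.node (.node (.leaf 292274224) (.leaf 251626390)) (.node (.leaf 94273584) (.leaf 271814477))) (.node (.node (.leaf 108675120) (.leaf 239550514)) (.node (.leaf 116643789) (.leaf 251134002)))) (.node (.node (.node (.leaf 100073521) (.leaf 323620957)) (.node (.leaf 35225649) (.leaf 140250286))) (.node (.node (.leaf 4280734) (.leaf 323534897)) (.node (.leaf 373391410) (.leaf 202047537)))))))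

/-- A Schreier factor, part 638. -/
def facCodePart638 : Janko1.Tree ℕ := (.node (.node (.node (.node (.node (.node (.leaf 375668786) (.leaf 346955596)) (.node (.leaf 228655153) (.leaf 252173756))) (.node (.node (.leaf 292558945) (.leaf 253723745)) (.node (.leaf 305840176) (.leaf 243269682)))) (.node (.node (.node (.leaf 174932017) (.leaf 260390962)) (.node (.leaf 171723853) (.leaf 272352732))) (.node (.node (.leaf 103120946) (.leaf 331890738)) (.node (.leaf 257739306) (.leaf 334828421))))) (.node (.node (.node (.node (.leaf 259972554) (.leaf 340869170)) (.node (.leaf 72224036) (.leaf 325206066))) (.node (.node (.leaf 76144860) (.leaf 314327333)) (.node (.leaf 222740528) (.leaf 315907365)))) (.node (.node (.node (.leaf 205193265) (.leaf 72499249)) (.node (.leaf 316833840) (.leaf 23232561))) (.node (.node (.leaf 151191601) (.leaf 284180529)) (.node (.leaf 367263794) (.leaf 243253297)))))) (.node (.node (.node (.node (.node (.leaf 365084722) (.leaf 29081649)) (.node (.leaf 160923698) (.leaf 287359025))) (.node (.node (.leaf 135217202) (.leaf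 243338470)) (.node (.leaf 378683440) (.leaf 313147398)))) (.node (.node (.node (.leaf 365854768) (.leaf 319183949)) (.node (.leaf 210124902) (.leaf 339705906))) (.node (.node (.leaf 64389169) (.leaf 338089022)) (.node (.leaf 217518812) (.leaf 334366905))))) (.node (.node (.node (.node (.leaf 222463313) (.leaf 313695320)) (.node (.leaf 191414322) (.leaf 322558944))) (.node (.node (.leaf 229039470) (.leaf 325753268)) (.node (.leaf 316608637) (.leaf 88244273)))) (.node (.node (.node (.leaf 84410417) (.leaf 248709169)) (.node (.leaf 320979729) (.leaf 275484742))) (.node (.node (.leaf 170052180) (.leaf 275434538)) (.node (.leaf 23101489) (.leaf 248643633)))))))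

/-- A Schreier factor, part 639. -/
def facCodePart639 : Janko1.Tree ℕ := (.node (.node (.node (.node (.node (.node (.leaf 176750640) (.leaf 88178737)) (.node (.leaf 43089970) (.leaf 252088734))) (.node (.node (.leaf 293685817) (.leaf 278560817)) (.node (.leaf 39010354) (.leaf 11878449)))) (.node (.node (.node (.leaf 4506812) (.leaf 94306353)) (.node (.leaf 215028344) (.leaf 319733810))) (.node (.node (.leaf 366103101) (.leaf 321446205)) (.node (.leaf 190171036) (.leaf 331354685))))) (.node (.node (.node (.node (.leaf 161153073) (.leaf 328532018)) (.node (.leaf 210337840) (.leaf 337494066))) (.node (.node (.leaf 184686317) (.leaf 340279346)) (.node (.leaf 138364672) (.leaf 259776182)))) (.node (.node (.node (.leaf 181665841) (.leaf 251084850)) (.node (.leaf 46334000) (.leaf 248299570))) (.node (.node (.leaf 20273238) (.leaf 332613905)) (.node (.leaf 116867120) (.leaf 220102705)))))) (.node (.node (.node (.node (.node (.leaf 177933882) (.leaf 220168241)) (.node (.leaf 108908108) (.leaf 376674933))) (.node (.node (.leaf 305552584) (.leaf 175472689))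 (.node (.leaf 292181890) (.leaf 329244934)))) (.node (.node (.node (.leaf 284344762) (.leaf 253936110)) (.node (.leaf 87162930) (.leaf 271728690))) (.node (.node (.leaf 22102066) (.leaf 252133426)) (.node (.leaf 286458508) (.leaf 243489545))))) (.node (.node (.node (.node (.leaf 68026444) (.leaf 248794042)) (.node (.leaf 46077133) (.leaf 250445874))) (.node (.node (.leaf 35048985) (.leaf 268132102)) (.node (.leaf 86196272) (.leaf 259214676)))) (.node (.node (.node (.leaf 4046897) (.leaf 257507378)) (.node (.leaf 123158578) (.leaf 233544745))) (.node (.node (.leaf 108610929) (.leaf 341573681)) (.node (.leaf 119195437) (.leaf 368132364)))))))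

/-- A Schreier factor, part 640. -/
def facCodePart640 : Janko1.Tree ℕ := (.node (.node (.node (.node (.node (.node (.leaf 19990040) (.leaf 368230449)) (.node (.leaf 116555824) (.leaf 166953009))) (.node (.node (.leaf 55787570) (.leaf 167034929)) (.node (.leaf 202260529) (.leaf 161906737)))) (.node (.node (.node (.leaf 239340700) (.leaf 162021425)) (.node (.leaf 292473814) (.leaf 364808265))) (.node (.node (.leaf 228606001) (.leaf 364920881)) (.node (.leaf 358301746) (.leaf 251543602))))) (.node (.node (.node (.node (.leaf 203751472) (.leaf 331792434)) (.node (.leaf 150978609) (.leaf 334774322))) (.node (.node (.leaf 167968817) (.leaf 325664818)) (.node (.leaf 196926694) (.leaf 343400521)))) (.node (.node (.node (.leaf 149028912) (.leaf 257556529)) (.node (.leaf 107335302) (.leaf 56246321))) (.node (.node (.leaf 222658608) (.leaf 302235697)) (.node (.leaf 325845040) (.leaf 305496113)))))) (.node (.node (.node (.node (.node (.leaf 378604517) (.leaf 62391097)) (.node (.leaf 312034518) (.leaf 109610178))) (.node (.node (.leaf 365808636) (.leaf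 260751409)) (.node (.leaf 108019761) (.leaf 260816945)))) (.node (.node (.node (.leaf 349569074) (.leaf 321667122)) (.node (.leaf 190925881) (.leaf 339613306))) (.node (.node (.leaf 137871410) (.leaf 319651890)) (.node (.leaf 313294898) (.leaf 338001970))))) (.node (.node (.node (.node (.leaf 347162070) (.leaf 310853682)) (.node (.leaf 187678770) (.leaf 329145260))) (.node (.node (.leaf 134742066) (.leaf 312532206)) (.node (.leaf 310919218) (.leaf 330645554)))) (.node (.node (.node (.leaf 51872398) (.leaf 323475026)) (.node (.leaf 170186794) (.leaf 325128780))) (.node (.node (.leaf 56082481) (.leaf 316145714)) (.node (.leaf 203456560) (.leaf 334299186)))))))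

/-- A Schreier factor, part 641. -/
def facCodePart641 : Janko1.Tree ℕ := (.node (.node (.node (.node (.node (.node (.leaf 176855046) (.leaf 314245170)) (.node (.leaf 22907969) (.leaf 332308649))) (.node (.node (.leaf 214630450) (.leaf 119721276)) (.node (.leaf 222396464) (.leaf 266403889)))) (.node (.node (.node (.leaf 148799536) (.leaf 293245238)) (.node (.leaf 228966448) (.leaf 39764017))) (.node (.node (.leaf 366042041) (.leaf 296519746)) (.node (.leaf 211828785) (.leaf 269877297))))) (.node (.node (.node (.node (.leaf 378914253) (.leaf 125784052)) (.node (.leaf 237393396) (.leaf 125900208))) (.node (.node (.leaf 75665470) (.leaf 331236688)) (.node (.leaf 8716338) (.leaf 310433381)))) (.node (.node (.node (.leaf 242532402) (.leaf 328433714)) (.node (.leaf 71794738) (.leaf 337444914))) (.node (.node (.leaf 3754514) (.leaf 322260046)) (.node (.leaf 240304178) (.leaf 340188705)))))) (.node (.node (.node (.node (.node (.leaf 326369329) (.leaf 239435826)) (.node (.leaf 344195121) (.leaf 259858522))) (.node (.node (.leaf 280543950) (.leaf 248217650))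 (.node (.leaf 362856497) (.leaf 266423853)))) (.node (.node (.node (.leaf 113377328) (.leaf 257687602)) (.node (.leaf 214270001) (.leaf 361627697))) (.node (.node (.leaf 314802226) (.leaf 361644081)) (.node (.leaf 48611376) (.leaf 196952113))))) (.node (.node (.node (.node (.leaf 80740400) (.leaf 316724401)) (.node (.leaf 271646790) (.leaf 313312950))) (.node (.node (.leaf 263700529) (.leaf 358416433)) (.node (.leaf 129564720) (.leaf 358435028)))) (.node (.node (.node (.leaf 32686128) (.leaf 151846961)) (.node (.leaf 300024882) (.leaf 191908245))) (.node (.node (.leaf 282252062) (.leaf 313348786)) (.node (.leaf 87081009) (.leaf 260276274)))))))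

/-- A Schreier factor, part 642. -/
def facCodePart642 : Janko1.Tree ℕ := (.node (.node (.node (.node (.node (.node (.leaf 118703497) (.leaf 245699334)) (.node (.leaf 48044080) (.leaf 254234872))) (.node (.node (.leaf 17062194) (.leaf 271795460)) (.node (.leaf 21545009) (.leaf 252067890)))) (.node (.node (.node (.leaf 259194929) (.leaf 268222514)) (.node (.leaf 295436337) (.leaf 242303178))) (.node (.node (.leaf 277659697) (.leaf 257203974)) (.node (.leaf 121323568) (.leaf 265879602))))) (.node (.node (.node (.node (.leaf 95125553) (.leaf 352749197)) (.node (.leaf 17043018) (.leaf 325976113))) (.node (.node (.leaf 258310192) (.leaf 205520945)) (.node (.leaf 276255056) (.leaf 322346172)))) (.node (.node (.node (.leaf 321771962) (.leaf 349264624)) (.node (.leaf 339918897) (.leaf 138772529))) (.node (.node (.leaf 358535145) (.leaf 205537329)) (.node (.leaf 40566832) (.leaf 262970188)))))) (.node (.node (.node (.node (.node (.leaf 73007152) (.leaf 242964845)) (.node (.leaf 314838158) (.leaf 251494450))) (.node (.node (.leaf 353720376) (.leaf 341352326))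 (.node (.leaf 68836702) (.leaf 242319409)))) (.node (.node (.node (.leaf 132366386) (.leaf 76418346)) (.node (.leaf 200671281) (.leaf 27117442))) (.node (.node (.leaf 227397598) (.leaf 286262428)) (.node (.leaf 290737965) (.leaf 27099185))))) (.node (.node (.node (.node (.leaf 29855594) (.leaf 76385446)) (.node (.leaf 273012233) (.leaf 289756929))) (.node (.node (.leaf 153018234) (.leaf 33054237)) (.node (.leaf 308723761) (.leaf 82089809)))) (.node (.node (.node (.leaf 237901490) (.leaf 337643412)) (.node (.leaf 38444848) (.leaf 339696278))) (.node (.node (.leaf 3162161) (.leaf 319553586)) (.node (.leaf 326303794) (.leaf 310771904)))))))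

/-- A Schreier factor, part 643. -/
def facCodePart643 : Janko1.Tree ℕ := (.node (.node (.node (.node (.node (.node (.leaf 362250290) (.leaf 330699958)) (.node (.leaf 250724474) (.leaf 323408440))) (.node (.node (.leaf 268668253) (.leaf 342826072)) (.node (.leaf 354044084) (.leaf 314163250)))) (.node (.node (.node (.leaf 226164784) (.leaf 340688946)) (.node (.leaf 146014256) (.leaf 325730334))) (.node (.node (.leaf 79609905) (.leaf 277545009)) (.node (.leaf 326352946) (.leaf 9541570))))) (.node (.node (.node (.node (.leaf 362272520) (.leaf 277528625)) (.node (.leaf 345374768) (.leaf 254246961))) (.node (.node (.leaf 330842161) (.leaf 16646193)) (.node (.leaf 349225510) (.leaf 98180596)))) (.node (.node (.node (.leaf 207312357) (.leaf 338182194)) (.node (.leaf 233997364) (.leaf 321404978))) (.node (.node (.leaf 68878469) (.leaf 312611054)) (.node (.leaf 132423945) (.leaf 329075514)))))) (.node (.node (.node (.node (.node (.leaf 29818930) (.leaf 331317298)) (.node (.leaf 290753956) (.leaf 340246578))) (.node (.node (.leaf 88752176) (.leaf 242466866))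 (.node (.leaf 368690417) (.leaf 259742756)))) (.node (.node (.node (.leaf 335233074) (.leaf 251052082)) (.node (.leaf 214093612) (.leaf 257646900))) (.node (.node (.leaf 25018416) (.leaf 223690801)) (.node (.leaf 346947633) (.leaf 183764106))))) (.node (.node (.node (.node (.leaf 113459248) (.leaf 183861297)) (.node (.leaf 284966960) (.leaf 183746609))) (.node (.node (.leaf 326516785) (.leaf 183844913)) (.node (.leaf 297274308) (.leaf 375751294)))) (.node (.node (.node (.leaf 118477622) (.leaf 375775354)) (.node (.leaf 80352918) (.leaf 331644977))) (.node (.node (.leaf 284131614) (.leaf 242881700)) (.node (.leaf 129646640) (.leaf 260210738)))))))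

/-- A Schreier factor, part 644. -/
def facCodePart644 : Janko1.Tree ℕ := (.node (.node (.node (.node (.node (.node (.leaf 6870052) (.leaf 251715760)) (.node (.leaf 265898933) (.leaf 253925356))) (.node (.node (.leaf 271564848) (.leaf 271712306)) (.node (.leaf 297288093) (.leaf 268113977)))) (.node (.node (.node (.leaf 263510772) (.leaf 241926710)) (.node (.leaf 75399217) (.leaf 239656157))) (.node (.node (.leaf 18746273) (.leaf 248170781)) (.node (.leaf 126655488) (.leaf 265820777))))) (.node (.node (.node (.node (.leaf 16121904) (.leaf 343687217)) (.node (.leaf 288604209) (.leaf 370394549))) (.node (.node (.leaf 241945266) (.leaf 370460825)) (.node (.leaf 267049805) (.leaf 343760112)))) (.node (.node (.node (.leaf 40489654) (.leaf 231902082)) (.node (.leaf 368729870) (.leaf 165412913))) (.node (.node (.leaf 220742308) (.leaf 165429297)) (.node (.leaf 194971942) (.leaf 231935954)))))) (.node (.node (.node (.node (.node (.leaf 351608228) (.leaf 252255585)) (.node (.leaf 105502332) (.leaf 269980002))) (.node (.node (.leaf 333306188) (.leaf 245631777))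 (.node (.leaf 258228272) (.leaf 262905737)))) (.node (.node (.node (.leaf 321945649) (.leaf 272271696)) (.node (.leaf 308445234) (.leaf 334757938))) (.node (.node (.leaf 270634536) (.leaf 325654604)) (.node (.leaf 63217740) (.leaf 343375922))))) (.node (.node (.node (.node (.leaf 31375410) (.leaf 314413869)) (.node (.leaf 227184972) (.leaf 332486517))) (.node (.node (.leaf 146228980) (.leaf 107579362)) (.node (.leaf 355860529) (.leaf 60391473)))) (.node (.node (.node (.leaf 219860961) (.leaf 60493610)) (.node (.leaf 317095985) (.leaf 60457634))) (.node (.node (.leaf 155648050) (.leaf 307593265)) (.node (.leaf 103022641) (.leaf 307675185)))))))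

/-- A Schreier factor, part 645. -/
def facCodePart645 : Janko1.Tree ℕ := (.node (.node (.node (.node (.node (.node (.leaf 275780833) (.leaf 310298812)) (.node (.leaf 133480496) (.leaf 319242290))) (.node (.node (.leaf 257376305) (.leaf 321650738)) (.node (.leaf 345145392) (.leaf 312492082)))) (.node (.node (.node (.leaf 379928626) (.leaf 342743726)) (.node (.leaf 12902716) (.leaf 334282802))) (.node (.node (.leaf 91508836) (.leaf 313774472)) (.node (.leaf 155615282) (.leaf 322666546))))) (.node (.node (.node (.node (.leaf 139608112) (.leaf 268828721)) (.node (.leaf 226230320) (.leaf 295470978))) (.node (.node (.leaf 349700144) (.leaf 295354417)) (.node (.leaf 250970161) (.leaf 295442552)))) (.node (.node (.node (.leaf 261723169) (.leaf 268802430)) (.node (.leaf 130744370) (.leaf 49905713))) (.node (.node (.leaf 308478766) (.leaf 49973550)) (.node (.leaf 360316977) (.leaf 319832114)))))) (.node (.node (.node (.node (.node (.leaf 153174064) (.leaf 310707922)) (.node (.leaf 358989872) (.leaf 322240562))) (.node (.node (.leaf 120504368) (.leaf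 103284786)) (.node (.leaf 317032630) (.leaf 92151629)))) (.node (.node (.node (.leaf 15171632) (.leaf 87705052)) (.node (.leaf 221855794) (.leaf 119753808))) (.node (.node (.leaf 171950130) (.leaf 72581170)) (.node (.leaf 161076722) (.leaf 75841709))))) (.node (.node (.node (.node (.leaf 58049196) (.leaf 193086382)) (.node (.leaf 326946400) (.leaf 314067134))) (.node (.node (.leaf 303235120) (.leaf 153272369)) (.node (.leaf 379813937) (.leaf 359111953)))) (.node (.node (.node (.leaf 52101170) (.leaf 147914801)) (.node (.leaf 17587618) (.leaf 310624372))) (.node (.node (.leaf 111771686) (.leaf 188156669)) (.node (.leaf 97517616) (.leaf 82280498)))))))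

/-- A Schreier factor, part 646. -/
def facCodePart646 : Janko1.Tree ℕ := (.node (.node (.node (.node (.node (.node (.leaf 283543340) (.leaf 97583154)) (.node (.leaf 253860944) (.leaf 94192972))) (.node (.node (.leaf 12635572) (.leaf 119916860)) (.node (.leaf 246111320) (.leaf 75977653)))) (.node (.node (.node (.leaf 23773232) (.leaf 72404146)) (.node (.leaf 8470577) (.leaf 107660250))) (.node (.node (.leaf 63651889) (.leaf 92225586)) (.node (.leaf 49355854) (.leaf 323260249))))) (.node (.node (.node (.node (.leaf 270992224) (.leaf 139837489)) (.node (.leaf 89539413) (.leaf 350011441))) (.node (.node (.leaf 298467376) (.leaf 350109745)) (.node (.leaf 287965233) (.leaf 206503985)))) (.node (.node (.node (.leaf 249354978) (.leaf 323182980)) (.node (.leaf 317014066) (.leaf 319471665))) (.node (.node (.leaf 128712798) (.leaf 135282737)) (.node (.leaf 333914396) (.leaf 94355506)))))) (.node (.node (.node (.node (.node (.leaf 74317872) (.leaf 97421529)) (.node (.leaf 66307049) (.leaf 113187502))) (.node (.node (.leaf 322486321) (.leaf 109641778))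 (.node (.leaf 351010865) (.leaf 82100274)))) (.node (.node (.node (.leaf 34230302) (.leaf 219414578)) (.node (.leaf 253083698) (.leaf 210026765))) (.node (.node (.leaf 94804990) (.leaf 206266154)) (.node (.leaf 132661298) (.leaf 233291826))))) (.node (.node (.node (.node (.leaf 64815154) (.leaf 193347634)) (.node (.leaf 173228080) (.leaf 72089649))) (.node (.node (.leaf 317685828) (.leaf 239665201)) (.node (.leaf 355254321) (.leaf 239570534)))) (.node (.node (.node (.leaf 130518806) (.leaf 286965809)) (.node (.leaf 182116054) (.leaf 28724893))) (.node (.node (.leaf 39174193) (.leaf 286867505)) (.node (.leaf 322732080) (.leaf 201689613)))))))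

/-- A Schreier factor, part 647. -/
def facCodePart647 : Janko1.Tree ℕ := (.node (.node (.node (.node (.node (.node (.leaf 363220220) (.leaf 215072818)) (.node (.leaf 308370069) (.leaf 217710924))) (.node (.node (.leaf 122257457) (.leaf 233406600)) (.node (.leaf 362151986) (.leaf 236145037)))) (.node (.node (.node (.leaf 324293830) (.leaf 196068753)) (.node (.leaf 79069233) (.leaf 193183794))) (.node (.node (.leaf 238179537) (.leaf 219549460)) (.node (.leaf 47320800) (.leaf 210174002))))) (.node (.node (.node (.node (.leaf 251478065) (.leaf 87819564)) (.node (.leaf 262265524) (.leaf 4201126))) (.node (.node (.leaf 367575088) (.leaf 275054641)) (.node (.leaf 279463057) (.leaf 87736369)))) (.node (.node (.node (.leaf 132694066) (.leaf 251740209)) (.node (.leaf 186517054) (.leaf 204554290))) (.node (.node (.leaf 313266308) (.leaf 214928922)) (.node (.leaf 303169584) (.leaf 103202866)))))) (.node (.node (.node (.node (.node (.leaf 249741360) (.leaf 76565625)) (.node (.leaf 362284674) (.leaf 107731060))) (.node (.node (.leaf 326802364) (.leaf 91766834))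 (.node (.leaf 58134301) (.leaf 123293664)))) (.node (.node (.node (.leaf 184254513) (.leaf 219826045)) (.node (.leaf 333056468) (.leaf 179930468))) (.node (.node (.leaf 24118792) (.leaf 376274993)) (.node (.leaf 368527293) (.leaf 376324145))))) (.node (.node (.node (.node (.leaf 240779312) (.leaf 175022325)) (.node (.leaf 281624625) (.leaf 175112241))) (.node (.node (.leaf 41484336) (.leaf 328908849)) (.node (.leaf 73980616) (.leaf 214714558)))) (.node (.node (.node (.leaf 264241201) (.leaf 214794289)) (.node (.leaf 14204978) (.leaf 98156594))) (.node (.node (.leaf 17684617) (.leaf 93835056)) (.node (.leaf 80494642) (.leaf 125288498)))))))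

/-- A Schreier factor, part 648. -/
def facCodePart648 : Janko1.Tree ℕ := (.node (.node (.node (.node (.node (.node (.leaf 261480524) (.leaf 78528562)) (.node (.leaf 297123890) (.leaf 113033266))) (.node (.node (.leaf 245143993) (.leaf 91671340)) (.node (.leaf 242320313) (.leaf 76398642)))) (.node (.node (.node (.leaf 49452482) (.leaf 107568256)) (.node (.leaf 81559600) (.leaf 72073266))) (.node (.node (.leaf 259757244) (.leaf 103350341)) (.node (.leaf 42795057) (.leaf 341229617))))) (.node (.node (.node (.node (.leaf 8544126) (.leaf 233095217)) (.node (.leaf 14981537) (.leaf 166466732))) (.node (.node (.leaf 297160120) (.leaf 166534332)) (.node (.leaf 307511344) (.leaf 161595441)))) (.node (.node (.node (.leaf 66377309) (.leaf 228180017)) (.node (.leaf 97796144) (.leaf 337887281))) (.node (.node (.leaf 340508721) (.leaf 337969201)) (.node (.leaf 333070386) (.leaf 93685682)))))) (.node (.node (.node (.node (.node (.leaf 128632249) (.leaf 125157426)) (.node (.leaf 368559980) (.leaf 130121778))) (.node (.node (.leaf 370786594) (.leaf 192696514))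 (.node (.leaf 353209218) (.leaf 223548970)))) (.node (.node (.node (.leaf 317472817) (.leaf 209685381)) (.node (.leaf 335862524) (.leaf 233233530))) (.node (.node (.leaf 170688561) (.leaf 103415857)) (.node (.leaf 143759588) (.leaf 257084618))))) (.node (.node (.node (.node (.leaf 100466738) (.leaf 257218998)) (.node (.leaf 272891954) (.leaf 55825566))) (.node (.node (.leaf 130449458) (.leaf 301826097)) (.node (.leaf 309365720) (.leaf 61999426)))) (.node (.node (.node (.leaf 290783281) (.leaf 62052944)) (.node (.leaf 159711280) (.leaf 260377601))) (.node (.node (.leaf 186138672) (.leaf 109191086)) (.node (.leaf 158602324) (.leaf 205242418)))))))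

/-- A Schreier factor, part 649. -/
def facCodePart649 : Janko1.Tree ℕ := (.node (.node (.node (.node (.node (.node (.leaf 67780657) (.leaf 231538738)) (.node (.leaf 34900510) (.leaf 201347737))) (.node (.node (.leaf 344145970) (.leaf 188481586)) (.node (.leaf 98669186) (.leaf 215043576)))) (.node (.node (.node (.leaf 130926033) (.leaf 191075506)) (.node (.leaf 304267313) (.leaf 206831666))) (.node (.node (.leaf 367493168) (.leaf 233390130)) (.node (.leaf 313792977) (.leaf 209558614))))) (.node (.node (.node (.node (.leaf 251321325) (.leaf 196696961)) (.node (.leaf 269189204) (.leaf 219498950))) (.node (.node (.leaf 59579948) (.leaf 266083618)) (.node (.leaf 26411057) (.leaf 119275569)))) (.node (.node (.node (.leaf 90853914) (.leaf 292880433)) (.node (.leaf 122506009) (.leaf 39307486))) (.node (.node (.leaf 379672269) (.leaf 39393077)) (.node (.leaf 376247834) (.leaf 45662257)))))) (.node (.node (.node (.node (.node (.leaf 323226892) (.leaf 296110044)) (.node (.leaf 313056237) (.leaf 125304881))) (.node (.node (.leaf 179814448) (.leaf 125386801))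 (.node (.leaf 137725093) (.leaf 188307996)))) (.node (.node (.node (.leaf 272957490) (.leaf 201195570)) (.node (.leaf 67339122) (.leaf 227675498))) (.node (.node (.leaf 260587568) (.leaf 44057428)) (.node (.leaf 117538864) (.leaf 43600244))))) (.node (.node (.node (.node (.leaf 217595953) (.leaf 349913137)) (.node (.leaf 207593713) (.leaf 323043377))) (.node (.node (.leaf 234226744) (.leaf 206307377)) (.node (.leaf 52828710) (.leaf 206372913)))) (.node (.node (.node (.leaf 84758884) (.leaf 322912305)) (.node (.leaf 44630064) (.leaf 349962289))) (.node (.node (.leaf 76939312) (.leaf 139793398)) (.node (.leaf 261488689) (.leaf 346505265)))))))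

/-- A Schreier factor, part 650. -/
def facCodePart650 : Janko1.Tree ℕ := (.node (.node (.node (.node (.node (.node (.leaf 268358570) (.leaf 201464728)) (.node (.leaf 304463921) (.leaf 346439729))) (.node (.node (.leaf 286523441) (.leaf 135200817)) (.node (.leaf 56361010) (.leaf 28639282)))) (.node (.node (.node (.leaf 119823338) (.leaf 66830386)) (.node (.leaf 60510510) (.leaf 16631366))) (.node (.node (.leaf 123813938) (.leaf 45695026)) (.node (.leaf 248139428) (.leaf 16208486))))) (.node (.node (.node (.node (.leaf 250414193) (.leaf 29245490)) (.node (.leaf 260298854) (.leaf 40014453))) (.node (.node (.leaf 278102064) (.leaf 9052170)) (.node (.leaf 109248560) (.leaf 60478877)))) (.node (.node (.node (.leaf 11567152) (.leaf 22773810)) (.node (.leaf 117217648) (.leaf 39258616))) (.node (.node (.leaf 98943025) (.leaf 358981756)) (.node (.leaf 71450673) (.leaf 193004502)))))) (.node (.node (.node (.node (.node (.leaf 25690162) (.leaf 313933873)) (.node (.leaf 21470973) (.leaf 153075761))) (.node (.node (.leaf 2850865) (.leaf 358907953)) (.node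 (.leaf 337870897) (.leaf 147818525)))) (.node (.node (.node (.leaf 317128753) (.leaf 188045130)) (.node (.leaf 335642673) (.leaf 310526001))) (.node (.node (.leaf 356302897) (.leaf 188088369)) (.node (.leaf 175308850) (.leaf 11993138))))) (.node (.node (.node (.node (.leaf 228299381) (.leaf 49496114)) (.node (.leaf 178470962) (.leaf 32636978))) (.node (.node (.leaf 231643337) (.leaf 62472242)) (.node (.leaf 319033381) (.leaf 33079346)))) (.node (.node (.node (.leaf 355435486) (.leaf 62079026)) (.node (.leaf 321470514) (.leaf 11370546))) (.node (.node (.leaf 357733802) (.leaf 50171253)) (.node (.leaf 149700656) (.leaf 139968562)))))))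

/-- A Schreier factor, part 651. -/
def facCodePart651 : Janko1.Tree ℕ := (.node (.node (.node (.node (.node (.node (.leaf 223251556) (.leaf 180322354)) (.node (.leaf 230637617) (.leaf 274858033))) (.node (.node (.leaf 220626993) (.leaf 87605297)) (.node (.leaf 3067069) (.leaf 87654449)))) (.node (.node (.node (.leaf 71237682) (.leaf 248119345)) (.node (.leaf 8159282) (.leaf 274972721))) (.node (.node (.leaf 75122396) (.leaf 4065562)) (.node (.leaf 252927678) (.leaf 11354161))))) (.node (.node (.node (.node (.leaf 259481993) (.leaf 93650993)) (.node (.leaf 306790889) (.leaf 93605718))) (.node (.node (.leaf 295747633) (.leaf 278069297)) (.node (.leaf 215138354) (.leaf 161349682)))) (.node (.node (.node (.leaf 312792982) (.leaf 138231858)) (.node (.leaf 348946482) (.leaf 161775666))) (.node (.node (.leaf 338596658) (.leaf 183096590)) (.node (.leaf 222991461) (.leaf 183566386)))))) (.node (.node (.node (.node (.node (.leaf 142721492) (.leaf 152993842)) (.node (.leaf 229507120) (.leaf 166215730))) (.node (.node (.leaf 149405744) (.leaf 143278130))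 (.node (.leaf 114974573) (.leaf 22609969)))) (.node (.node (.node (.leaf 50549406) (.leaf 239522140)) (.node (.leaf 21774385) (.leaf 283541553))) (.node (.node (.leaf 328417956) (.leaf 28658818)) (.node (.leaf 343951809) (.leaf 242892849))))) (.node (.node (.node (.node (.leaf 346898481) (.leaf 77807665)) (.node (.leaf 380163124) (.leaf 28547854))) (.node (.node (.leaf 44303598) (.leaf 135582946)) (.node (.leaf 108044038) (.leaf 164566941)))) (.node (.node (.node (.leaf 104040697) (.leaf 175276082)) (.node (.leaf 277348402) (.leaf 174821388))) (.node (.node (.leaf 275383318) (.leaf 165347378)) (.node (.leaf 339513948) (.leaf 22709305)))))))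

/-- A Schreier factor, part 652. -/
def facCodePart652 : Janko1.Tree ℕ := (.node (.node (.node (.node (.node (.node (.leaf 337446122) (.leaf 9650226)) (.node (.leaf 44566693) (.leaf 43958322))) (.node (.node (.leaf 217350193) (.leaf 43532338)) (.node (.leaf 234049376) (.leaf 56369152)))) (.node (.node (.node (.leaf 349306929) (.leaf 166380050)) (.node (.leaf 360546353) (.leaf 340951089))) (.node (.node (.leaf 331087921) (.leaf 232931377)) (.node (.leaf 264834426) (.leaf 233000001))))) (.node (.node (.node (.node (.leaf 46546993) (.leaf 364269765)) (.node (.leaf 92160993) (.leaf 161483873))) (.node (.node (.leaf 304545841) (.leaf 45621637)) (.node (.leaf 244105265) (.leaf 46039090)))) (.node (.node (.node (.leaf 273812928) (.leaf 32558420)) (.node (.leaf 268107826) (.leaf 4915250))) (.node (.node (.leaf 265838748) (.leaf 26728198)) (.node (.leaf 2740350) (.leaf 60016312)))))) (.node (.node (.node (.node (.node (.leaf 290855838) (.leaf 376097985)) (.node (.leaf 272763448) (.leaf 332105425))) (.node (.node (.leaf 69163912) (.leaf 174850460)) (.node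 (.leaf 372836485) (.leaf 174899354)))) (.node (.node (.node (.leaf 375128114) (.leaf 328728625)) (.node (.leaf 201031729) (.leaf 214614065))) (.node (.node (.leaf 274104368) (.leaf 28803122)) (.node (.leaf 257299289) (.leaf 152946685))))) (.node (.node (.node (.node (.leaf 259316545) (.leaf 143219270)) (.node (.leaf 42614834) (.leaf 170116556))) (.node (.node (.leaf 5213282) (.leaf 142786610)) (.node (.leaf 9912370) (.leaf 153657076)))) (.node (.node (.node (.leaf 229875181) (.leaf 39272906)) (.node (.leaf 223330352) (.leaf 265895985))) (.node (.node (.leaf 339548162) (.leaf 119113264)) (.node (.leaf 332924638) (.leaf 292722390)))))))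

/-- A Schreier factor, part 653. -/
def facCodePart653 : Janko1.Tree ℕ := (.node (.node (.node (.node (.node (.node (.leaf 366759352) (.leaf 296077634)) (.node (.leaf 364429362) (.leaf 125191610))) (.node (.node (.leaf 192004146) (.leaf 269369393)) (.node (.leaf 75644977) (.leaf 45449265)))) (.node (.node (.node (.leaf 295813169) (.leaf 161289785)) (.node (.leaf 360857648) (.leaf 135495730))) (.node (.node (.leaf 17205905) (.leaf 166838322)) (.node (.leaf 331022386) (.leaf 156352562))))) (.node (.node (.node (.node (.leaf 21699042) (.leaf 183032652)) (.node (.leaf 135846865) (.leaf 156696626))) (.node (.node (.leaf 223068208) (.leaf 301679240)) (.node (.leaf 284377137) (.leaf 103252017)))) (.node (.node (.node (.leaf 229542288) (.leaf 103342254)) (.node (.leaf 263847985) (.leaf 256999473))) (.node (.node (.leaf 334151728) (.leaf 257070610)) (.node (.leaf 266162837) (.leaf 55672881)))))) (.node (.node (.node (.node (.node (.leaf 187383857) (.leaf 109035569)) (.node (.leaf 210698289) (.leaf 304846474))) (.node (.node (.leaf 136875633) (.leaf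 138150364)) (.node (.leaf 156532784) (.leaf 148128416)))) (.node (.node (.node (.leaf 380296868) (.leaf 175183344)) (.node (.leaf 326238257) (.leaf 165232690))) (.node (.node (.leaf 321603804) (.leaf 283557938)) (.node (.leaf 319176754) (.leaf 277479474))))) (.node (.node (.node (.node (.leaf 178394333) (.leaf 277037106)) (.node (.leaf 164446257) (.leaf 275447858))) (.node (.node (.leaf 181190705) (.leaf 285728044)) (.node (.leaf 85999664) (.leaf 143540273)))) (.node (.node (.node (.leaf 342589489) (.leaf 210360122)) (.node (.leaf 360013761) (.leaf 143523889))) (.node (.node (.leaf 243176338) (.leaf 352845873)) (.node (.leaf 25772082) (.leaf 205635633)))))))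

/-- A Schreier factor, part 654. -/
def facCodePart654 : Janko1.Tree ℕ := (.node (.node (.node (.node (.node (.node (.leaf 285760846) (.leaf 322493901)) (.node (.leaf 119930930) (.leaf 205619249))) (.node (.node (.leaf 26181984) (.leaf 138937165)) (.node (.leaf 123952732) (.leaf 349585890)))) (.node (.node (.node (.leaf 37109808) (.leaf 298975282)) (.node (.leaf 251233852) (.leaf 296228812))) (.node (.node (.leaf 297241124) (.leaf 296682041)) (.node (.leaf 291651632) (.leaf 305627186))))) (.node (.node (.node (.node (.leaf 10289200) (.leaf 276971570)) (.node (.leaf 19291116) (.leaf 284164146))) (.node (.node (.leaf 60360904) (.leaf 286245922)) (.node (.leaf 67584049) (.leaf 283656242)))) (.node (.node (.node (.leaf 38895665) (.leaf 277594162)) (.node (.leaf 273367616) (.leaf 156830594))) (.node (.node (.leaf 77824048) (.leaf 361775153)) (.node (.leaf 85671984) (.leaf 197034033)))))) (.node (.node (.node (.node (.node (.leaf 290373960) (.leaf 197050816)) (.node (.leaf 274841649) (.leaf 361760078))) (.node (.node (.leaf 100797101) (.leaf 152059953))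 (.node (.leaf 355270706) (.leaf 358554056)))) (.node (.node (.node (.leaf 124587316) (.leaf 313540665)) (.node (.leaf 143949873) (.leaf 358531121))) (.node (.node (.leaf 231776454) (.leaf 152096473)) (.node (.leaf 37361732) (.leaf 296796210))))) (.node (.node (.node (.node (.leaf 320230124) (.leaf 298369074)) (.node (.leaf 62149437) (.leaf 307317516))) (.node (.node (.leaf 317931569) (.leaf 305512498)) (.node (.leaf 291965444) (.leaf 307693505)))) (.node (.node (.node (.leaf 373096497) (.leaf 305102898)) (.node (.leaf 71094134) (.leaf 361465328))) (.node (.node (.leaf 242193061) (.leaf 352458422)) (.node (.leaf 74992368) (.leaf 349802372)))))))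

/-- A Schreier factor, part 655. -/
def facCodePart655 : Janko1.Tree ℕ := (.node (.node (.node (.node (.node (.node (.leaf 40091698) (.leaf 352010290)) (.node (.leaf 44190349) (.leaf 359366706))) (.node (.node (.leaf 167415604) (.leaf 360797733)) (.node (.leaf 340107004) (.leaf 277615990)))) (.node (.node (.node (.leaf 203262322) (.leaf 9715761)) (.node (.leaf 357482545) (.leaf 251150385))) (.node (.node (.leaf 350723478) (.leaf 9699377)) (.node (.leaf 126337073) (.leaf 281116721))))) (.node (.node (.node (.node (.leaf 30375985) (.leaf 254443569)) (.node (.leaf 215285810) (.leaf 281133105))) (.node (.node (.leaf 182878256) (.leaf 372768818)) (.node (.leaf 253657137) (.leaf 375673196)))) (.node (.node (.node (.leaf 378176294) (.leaf 366466726)) (.node (.leaf 306266161) (.leaf 364628150))) (.node (.node (.leaf 365370530) (.leaf 373473330)) (.node (.leaf 82772017) (.leaf 351911986)))))) (.node (.node (.node (.node (.node (.leaf 86876369) (.leaf 359255564)) (.node (.leaf 51347505) (.leaf 358816229))) (.node (.node (.leaf 264405041) (.leaf 27131953))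 (.node (.leaf 266748673) (.leaf 242450481)))) (.node (.node (.node (.leaf 202997808) (.leaf 76513329)) (.node (.leaf 281657393) (.leaf 76546097))) (.node (.node (.leaf 283754545) (.leaf 286375985)) (.node (.leaf 320421936) (.leaf 27164721))))) (.node (.node (.node (.node (.leaf 277234356) (.leaf 289849393)) (.node (.leaf 3248744) (.leaf 245760676))) (.node (.node (.leaf 104185906) (.leaf 33259569)) (.node (.leaf 310837297) (.leaf 366333736)))) (.node (.node (.node (.leaf 183156784) (.leaf 375131838)) (.node (.leaf 326699521) (.leaf 373294046))) (.node (.node (.leaf 365567805) (.leaf 375562482)) (.node (.leaf 364085297) (.leaf 372883506)))))))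

/-- A Schreier factor, part 656. -/
def facCodePart656 : Janko1.Tree ℕ := (.node (.node (.node (.node (.node (.node (.leaf 297194078) (.leaf 367171702)) (.node (.leaf 305020976) (.leaf 367255636))) (.node (.node (.leaf 291569712) (.leaf 232013873)) (.node (.leaf 238567472) (.leaf 340513220)))) (.node (.node (.node (.leaf 262062129) (.leaf 231997489)) (.node (.leaf 37191728) (.leaf 165561682))) (.node (.node (.leaf 69994592) (.leaf 367203312)) (.node (.leaf 268964082) (.leaf 367288478))))) (.node (.node (.node (.node (.leaf 13221937) (.leaf 289931314)) (.node (.leaf 265985086) (.leaf 280529730))) (.node (.node (.leaf 301727794) (.leaf 296599602)) (.node (.leaf 268289961) (.leaf 287644554)))) (.node (.node (.node (.leaf 303956018) (.leaf 307036210)) (.node (.leaf 372998193) (.leaf 178716721))) (.node (.node (.leaf 291897392) (.leaf 178798641)) (.node (.leaf 355794993) (.leaf 375850210)))))) (.node (.node (.node (.node (.node (.leaf 305299504) (.leaf 331763786)) (.node (.leaf 319979569) (.leaf 218729045))) (.node (.node (.leaf 37406209) (.leaf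 218775601)) (.node (.leaf 62182868) (.leaf 375834606)))) (.node (.node (.node (.leaf 93938060) (.leaf 178749489)) (.node (.leaf 148020693) (.leaf 278808268))) (.node (.node (.leaf 174309562) (.leaf 296721849)) (.node (.leaf 147398384) (.leaf 280384082))))) (.node (.node (.node (.node (.leaf 201867314) (.leaf 298303538)) (.node (.leaf 151584818) (.leaf 289363057))) (.node (.node (.leaf 171049009) (.leaf 307183666)) (.node (.leaf 144023384) (.leaf 287440946)))) (.node (.node (.node (.leaf 205361306) (.leaf 305436766)) (.node (.leaf 124477406) (.leaf 296042546))) (.node (.node (.leaf 306184241) (.leaf 299024433)) (.node (.leaf 378127418) (.leaf 299059993)))))))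

/-- A Schreier factor, part 657. -/
def facCodePart657 : Janko1.Tree ℕ := (.node (.node (.node (.node (.node (.node (.leaf 288505905) (.leaf 50135089)) (.node (.leaf 295174193) (.leaf 130090262))) (.node (.node (.leaf 311496278) (.leaf 272238672)) (.node (.leaf 253476913) (.leaf 272252977)))) (.node (.node (.node (.leaf 182933326) (.leaf 272342649)) (.node (.leaf 189285221) (.leaf 299042326))) (.node (.node (.leaf 260115700) (.leaf 299073585)) (.node (.leaf 63717425) (.leaf 372719666))))) (.node (.node (.node (.node (.leaf 30431884) (.leaf 358303681)) (.node (.leaf 8798257) (.leaf 346325042))) (.node (.node (.leaf 188694578) (.leaf 364167218)) (.node (.leaf 331153458) (.leaf 348656368)))) (.node (.node (.node (.leaf 94847025) (.leaf 366384697)) (.node (.leaf 126586060) (.leaf 346767749))) (.node (.node (.leaf 328745010) (.leaf 356024370)) (.node (.leaf 365510704) (.leaf 66748465)))))) (.node (.node (.node (.node (.node (.leaf 346277669) (.leaf 307795761)) (.node (.leaf 379094000) (.leaf 263098169))) (.node (.node (.leaf 325533744) (.leaf 113672241))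 (.node (.leaf 163070000) (.leaf 113772036)))) (.node (.node (.node (.leaf 329121841) (.leaf 263180306)) (.node (.leaf 326598705) (.leaf 307726244))) (.node (.node (.leaf 209787521) (.leaf 66702636)) (.node (.leaf 344442920) (.leaf 66765798))))) (.node (.node (.node (.node (.leaf 134529073) (.leaf 348508645)) (.node (.leaf 5017114) (.leaf 357728306))) (.node (.node (.leaf 157108149) (.leaf 355926066)) (.node (.leaf 72990965) (.leaf 373243954)))) (.node (.node (.node (.leaf 42730976) (.leaf 375507738)) (.node (.leaf 106217629) (.leaf 355523100))) (.node (.node (.leaf 102465586) (.leaf 349208626)) (.node (.leaf 293049402) (.leaf 366927145)))))))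

/-- A Schreier factor, part 658. -/
def facCodePart658 : Janko1.Tree ℕ := (.node (.node (.node (.node (.node (.node (.leaf 242127806) (.leaf 304962436)) (.node (.leaf 2981938) (.leaf 280920114))) (.node (.node (.leaf 204242993) (.leaf 296648722)) (.node (.leaf 40293773) (.leaf 305610802)))) (.node (.node (.node (.leaf 103940146) (.leaf 289194034)) (.node (.leaf 173359152) (.leaf 140509233))) (.node (.node (.leaf 369328177) (.leaf 323665969)) (.node (.leaf 339499846) (.leaf 323732661))))) (.node (.node (.node (.node (.leaf 321587162) (.leaf 207067488)) (.node (.leaf 313819184) (.leaf 140443697))) (.node (.node (.leaf 367657008) (.leaf 350699569)) (.node (.leaf 346560782) (.leaf 135872561)))) (.node (.node (.node (.leaf 8047346) (.leaf 202098376)) (.node (.leaf 127044345) (.leaf 320061489))) (.node (.node (.leaf 95502385) (.leaf 202178609)) (.node (.leaf 165511218) (.leaf 135958573)))))) (.node (.node (.node (.node (.node (.leaf 218533897) (.leaf 347111473)) (.node (.leaf 179650608) (.leaf 304644146))) (.node (.node (.leaf 277872689) (.leaf 295524268))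 (.node (.leaf 295947098) (.leaf 275029254)))) (.node (.node (.node (.leaf 348799026) (.leaf 280297522)) (.node (.leaf 54990608) (.leaf 305480973))) (.node (.node (.leaf 114823014) (.leaf 289685554)) (.node (.leaf 83460145) (.leaf 305070130))))) (.node (.node (.node (.node (.leaf 162185266) (.leaf 296058930)) (.node (.leaf 166269696) (.leaf 359633972))) (.node (.node (.leaf 302645444) (.leaf 193708081)) (.node (.leaf 263821285) (.leaf 193809364)))) (.node (.node (.node (.leaf 246466944) (.leaf 314706248)) (.node (.leaf 318015169) (.leaf 359565578))) (.node (.node (.leaf 239749674) (.leaf 148488364)) (.node (.leaf 8066274) (.leaf 311133574)))))))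

/-- A Schreier factor, part 659. -/
def facCodePart659 : Janko1.Tree ℕ := (.node (.node (.node (.node (.node (.node (.leaf 75218994) (.leaf 188743729)) (.node (.leaf 187449393) (.leaf 311181361))) (.node (.node (.leaf 107937842) (.leaf 148422705)) (.node (.leaf 328220721) (.leaf 304464369)))) (.node (.node (.node (.leaf 323010608) (.leaf 274845872)) (.node (.leaf 319111218) (.leaf 372757182))) (.node (.node (.leaf 355393773) (.leaf 358270253)) (.node (.leaf 178503730) (.leaf 373456946))))) (.node (.node (.node (.node (.leaf 231545261) (.leaf 357532824)) (.node (.leaf 58148236) (.leaf 4882481))) (.node (.node (.leaf 360614396) (.leaf 88311780)) (.node (.leaf 331006001) (.leaf 248774705)))) (.node (.node (.node (.leaf 245302261) (.leaf 4834140)) (.node (.leaf 298720221) (.leaf 275644465))) (.node (.node (.leaf 250462258) (.leaf 278790193)) (.node (.leaf 285887138) (.leaf 12014780)))))) (.node (.node (.node (.node (.node (.leaf 5363353) (.leaf 94375984)) (.node (.leaf 110499733) (.leaf 252183402))) (.node (.node (.leaf 79432650) (.leaf 94478162))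 (.node (.leaf 56393778) (.leaf 12075057)))) (.node (.node (.node (.leaf 119677337) (.leaf 278716817)) (.node (.leaf 97684570) (.leaf 358596658))) (.node (.node (.leaf 286330894) (.leaf 370229298)) (.node (.leaf 304611377) (.leaf 349765682))))) (.node (.node (.node (.node (.leaf 248168498) (.leaf 364757042)) (.node (.leaf 2606873) (.leaf 357680469))) (.node (.node (.leaf 131188752) (.leaf 358144697)) (.node (.leaf 60643444) (.leaf 364058056)))) (.node (.node (.node (.leaf 275513393) (.leaf 240205873)) (.node (.leaf 293396218) (.leaf 72622141))) (.node (.node (.leaf 357613618) (.leaf 287506481)) (.node (.leaf 128532528) (.leaf 78564466)))))))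

/-- A Schreier factor, part 660. -/
def facCodePart660 : Janko1.Tree ℕ := (.node (.node (.node (.node (.node (.node (.leaf 228278322) (.leaf 29196337)) (.node (.leaf 74454998) (.leaf 350344966))) (.node (.node (.leaf 371513726) (.leaf 359207314)) (.node (.leaf 321536049) (.leaf 304889906)))) (.node (.node (.node (.leaf 367616390) (.leaf 296147812)) (.node (.leaf 173424688) (.leaf 296572654))) (.node (.node (.leaf 5314194) (.leaf 233704416)) (.node (.leaf 42565682) (.leaf 341688369))))) (.node (.node (.node (.node (.leaf 259424306) (.leaf 341770289)) (.node (.leaf 322723994) (.leaf 365019185))) (.node (.node (.leaf 253018161) (.leaf 365133873)) (.node (.leaf 362954800) (.leaf 338413964)))) (.node (.node (.node (.leaf 186240081) (.leaf 162093633)) (.node (.leaf 295665713) (.leaf 162188588))) (.node (.node (.leaf 188596274) (.leaf 286531049)) (.node (.leaf 127163730) (.leaf 304553849)))))) (.node (.node (.node (.node (.node (.leaf 138870834) (.leaf 295405293)) (.node (.leaf 63196348) (.leaf 277136140))) (.node (.node (.leaf 366641202) (.leaf 285818930))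 (.node (.leaf 8308066) (.leaf 303947834)))) (.node (.node (.node (.leaf 313622576) (.leaf 278758766)) (.node (.leaf 246390902) (.leaf 296700178))) (.node (.node (.leaf 266293809) (.leaf 287426669)) (.node (.leaf 282476593) (.leaf 286949426))))) (.node (.node (.node (.node (.leaf 166330416) (.leaf 305037362)) (.node (.leaf 302471980) (.leaf 296026162))) (.node (.node (.leaf 135954482) (.leaf 332841009)) (.node (.leaf 50642993) (.leaf 220282929)))) (.node (.node (.node (.leaf 331038770) (.leaf 220381233)) (.node (.leaf 21847404) (.leaf 180558206))) (.node (.node (.leaf 309463052) (.leaf 175595598)) (.node (.leaf 346805828) (.leaf 329358452)))))))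

/-- A Schreier factor, part 661. -/
def facCodePart661 : Janko1.Tree ℕ := (.node (.node (.node (.node (.node (.node (.leaf 206536752) (.leaf 373620785)) (.node (.leaf 380076081) (.leaf 373710249))) (.node (.node (.leaf 38371378) (.leaf 286365826)) (.node (.leaf 249515030) (.leaf 355352626)))) (.node (.node (.node (.leaf 298631216) (.leaf 364150834)) (.node (.leaf 349455400) (.leaf 346756956))) (.node (.node (.leaf 58212400) (.leaf 364560434)) (.node (.leaf 377690408) (.leaf 373362620))))) (.node (.node (.node (.node (.leaf 201704861) (.leaf 39880352)) (.node (.leaf 217498618) (.leaf 39984932))) (.node (.node (.leaf 207503409) (.leaf 119832625)) (.node (.leaf 151797810) (.leaf 119898161)))) (.node (.node (.node (.leaf 337526834) (.leaf 266551345)) (.node (.leaf 375047268) (.leaf 293293660))) (.node (.node (.leaf 112263216) (.leaf 293380318)) (.node (.leaf 243965013) (.leaf 296779825)))))) (.node (.node (.node (.node (.node (.leaf 268406013) (.leaf 269959493)) (.node (.leaf 293755916) (.leaf 270026377))) (.node (.node (.leaf 279873093) (.leaf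 125948912)) (.node (.leaf 66224176) (.leaf 126009393)))) (.node (.node (.node (.leaf 304414769) (.leaf 46186545)) (.node (.leaf 110575665) (.leaf 378585138))) (.node (.node (.leaf 25804849) (.leaf 377929778)) (.node (.leaf 254967857) (.leaf 364675122))))) (.node (.node (.node (.node (.leaf 302710832) (.leaf 373227570)) (.node (.leaf 291015204) (.leaf 355500082))) (.node (.node (.leaf 89576474) (.leaf 346169248)) (.node (.leaf 293181908) (.leaf 364009545)))) (.node (.node (.node (.leaf 71358296) (.leaf 257677358)) (.node (.leaf 265883276) (.leaf 103911110))) (.node (.node (.leaf 304103474) (.leaf 56331120)) (.node (.leaf 2916401) (.leaf 56396278)))))))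

/-- A Schreier factor, part 662. -/
def facCodePart662 : Janko1.Tree ℕ := (.node (.node (.node (.node (.node (.node (.leaf 240928494) (.leaf 62524980)) (.node (.leaf 319373361) (.leaf 62603313))) (.node (.node (.leaf 356220977) (.leaf 260931633)) (.node (.leaf 41828400) (.leaf 261013553)))) (.node (.node (.node (.leaf 97910832) (.leaf 305545265)) (.node (.leaf 205209646) (.leaf 351969509))) (.node (.node (.leaf 148258866) (.leaf 378110002)) (.node (.leaf 128450608) (.leaf 370294834))))) (.node (.node (.node (.node (.leaf 354503473) (.leaf 28622866)) (.node (.leaf 357636189) (.leaf 33210418))) (.node (.node (.leaf 368459825) (.leaf 50005798)) (.node (.leaf 322110416) (.leaf 49562953)))) (.node (.node (.node (.leaf 226328624) (.leaf 46055474)) (.node (.leaf 139804720) (.leaf 29229106))) (.node (.node (.leaf 333758513) (.leaf 32456934)) (.node (.leaf 44258305) (.leaf 142925294)))))) (.node (.node (.node (.node (.node (.leaf 8241202) (.leaf 209731633)) (.node (.leaf 277184562) (.leaf 325295758))) (.node (.node (.leaf 358793264) (.leaf 138346545))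 (.node (.leaf 295129044) (.leaf 321847345)))) (.node (.node (.node (.leaf 253542449) (.leaf 204947505)) (.node (.leaf 232689786) (.leaf 321814577))) (.node (.node (.leaf 162037810) (.leaf 55738418)) (.node (.leaf 218649018) (.leaf 4210853))))) (.node (.node (.node (.node (.leaf 106364977) (.leaf 59932722)) (.node (.leaf 281855805) (.leaf 16023578))) (.node (.node (.leaf 336625712) (.leaf 62462342)) (.node (.leaf 246861830) (.leaf 66672065)))) (.node (.node (.node (.leaf 219351890) (.leaf 62062642)) (.node (.leaf 266895409) (.leaf 16744498))) (.node (.node (.leaf 17990968) (.leaf 156434481)) (.node (.leaf 55394353) (.leaf 196296753)))))))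

/-- A Schreier factor, part 663. -/
def facCodePart663 : Janko1.Tree ℕ := (.node (.node (.node (.node (.node (.node (.leaf 348684338) (.leaf 196288098)) (.node (.leaf 118276145) (.leaf 361105882))) (.node (.node (.leaf 345473453) (.leaf 357768397)) (.node (.leaf 346193969) (.leaf 151257137)))) (.node (.node (.node (.leaf 378994737) (.leaf 191420606)) (.node (.leaf 341284617) (.leaf 312836849))) (.node (.node (.leaf 310691665) (.leaf 312858148)) (.node (.leaf 153157680) (.leaf 151224369))))) (.node (.node (.node (.node (.leaf 40124466) (.leaf 39998224)) (.node (.leaf 108134450) (.leaf 23185962))) (.node (.node (.leaf 3096626) (.leaf 27051918)) (.node (.leaf 275092778) (.leaf 22757426)))) (.node (.node (.node (.leaf 242270258) (.leaf 39239690)) (.node (.leaf 75055154) (.leaf 44154930))) (.node (.node (.leaf 284999728) (.leaf 147505202)) (.node (.leaf 377225265) (.leaf 165139238)))))) (.node (.node (.node (.node (.node (.leaf 262881328) (.leaf 161333298)) (.node (.leaf 121426045) (.leaf 161764622))) (.node (.node (.leaf 181027106) (.leaf 250435598))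 (.node (.leaf 88768560) (.leaf 91611285)))) (.node (.node (.node (.leaf 355237938) (.leaf 250413105)) (.node (.leaf 321668340) (.leaf 277004337))) (.node (.node (.leaf 48807984) (.leaf 9125937)) (.node (.leaf 279332957) (.leaf 280336640))))) (.node (.node (.node (.node (.leaf 258196118) (.leaf 97501233)) (.node (.leaf 6766640) (.leaf 280314074))) (.node (.node (.leaf 269008945) (.leaf 16061640)) (.node (.leaf 60473394) (.leaf 179601458)))) (.node (.node (.node (.leaf 59310129) (.leaf 143114290)) (.node (.leaf 119833922) (.leaf 139613178))) (.node (.node (.leaf 248266802) (.leaf 180305970)) (.node (.leaf 280450662) (.leaf 135568912)))))))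

/-- A Schreier factor, part 664. -/
def facCodePart664 : Janko1.Tree ℕ := (.node (.node (.node (.node (.node (.node (.leaf 290553905) (.leaf 138074268)) (.node (.leaf 292703965) (.leaf 178033865))) (.node (.node (.leaf 267223088) (.leaf 175259698)) (.node (.leaf 113085413) (.leaf 174800946)))) (.node (.node (.node (.leaf 24696265) (.leaf 134890837)) (.node (.leaf 56279090) (.leaf 285753393))) (.node (.node (.leaf 34603057) (.leaf 26579777)) (.node (.leaf 38768928) (.leaf 75877705))))) (.node (.node (.node (.node (.leaf 250626098) (.leaf 26558513)) (.node (.leaf 276365360) (.leaf 289161265))) (.node (.node (.leaf 370917425) (.leaf 81675441)) (.node (.leaf 32800816) (.leaf 32440369)))) (.node (.node (.node (.leaf 336232497) (.leaf 289184466)) (.node (.leaf 147443584) (.leaf 169623602))) (.node (.node (.leaf 228414025) (.leaf 153410561)) (.node (.leaf 73205341) (.leaf 156603517)))))) (.node (.node (.node (.node (.node (.leaf 257442210) (.leaf 49940110)) (.node (.leaf 292913202) (.leaf 11551432))) (.node (.node (.leaf 102498354) (.leaf 45596722))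 (.node (.leaf 150405169) (.leaf 16261372)))) (.node (.node (.node (.leaf 146149014) (.leaf 169825002)) (.node (.leaf 340049969) (.leaf 169872108))) (.node (.node (.leaf 322191409) (.leaf 369909290)) (.node (.leaf 350126128) (.leaf 369885233))))) (.node (.node (.node (.node (.leaf 350822370) (.leaf 369968885)) (.node (.leaf 368664785) (.leaf 169842492))) (.node (.node (.leaf 106283057) (.leaf 339771756)) (.node (.leaf 331186226) (.leaf 339870377)))) (.node (.node (.node (.leaf 366493746) (.leaf 231262462)) (.node (.leaf 30283845) (.leaf 231293172))) (.node (.node (.leaf 135790642) (.leaf 231358513)) (.node (.leaf 271220785) (.leaf 55689266)))))))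

/-- A Schreier factor, part 665. -/
def facCodePart665 : Janko1.Tree ℕ := (.node (.node (.node (.node (.node (.node (.leaf 345260332) (.leaf 23347250)) (.node (.leaf 295292202) (.leaf 26630057))) (.node (.node (.leaf 118215894) (.leaf 32690341)) (.node (.leaf 328925234) (.leaf 66175026)))) (.node (.node (.node (.leaf 264372273) (.leaf 378273841)) (.node (.leaf 246939697) (.leaf 183131649))) (.node (.node (.leaf 219430960) (.leaf 183205937)) (.node (.leaf 283869233) (.leaf 183189553))))) (.node (.node (.node (.node (.leaf 336513012) (.leaf 378298665)) (.node (.leaf 42663986) (.leaf 217972785))) (.node (.node (.leaf 106299442) (.leaf 331078121)) (.node (.leaf 134398001) (.leaf 331029750)))) (.node (.node (.node (.leaf 72810546) (.leaf 217943073)) (.node (.leaf 133516156) (.leaf 4899008))) (.node (.node (.leaf 328990769) (.leaf 39895090)) (.node (.leaf 310757898) (.leaf 9116348)))))) (.node (.node (.node (.node (.node (.leaf 213000410) (.leaf 43370898)) (.node (.leaf 359153712) (.leaf 4134664))) (.node (.node (.leaf 379437105) (.leaf 9787692))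 (.node (.leaf 339713812) (.leaf 165058332)))) (.node (.node (.node (.leaf 374918424) (.leaf 135020594)) (.node (.leaf 137838641) (.leaf 138287801))) (.node (.node (.leaf 201850930) (.leaf 135487657)) (.node (.leaf 24903728) (.leaf 43352113))))) (.node (.node (.node (.node (.leaf 331628593) (.leaf 43450417)) (.node (.leaf 360071217) (.leaf 294930116))) (.node (.node (.leaf 262800305) (.leaf 43467449)) (.node (.leaf 265994290) (.leaf 271630385)))) (.node (.node (.node (.leaf 40386608) (.leaf 129482801)) (.node (.leaf 13107249) (.leaf 129404900))) (.node (.node (.leaf 92274738) (.leaf 271554945)) (.node (.leaf 32443185) (.leaf 152928760)))))))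

/-- A Schreier factor, part 666. -/
def facCodePart666 : Janko1.Tree ℕ := (.node (.node (.node (.node (.node (.node (.leaf 261920930) (.leaf 179535922)) (.node (.leaf 129487706) (.leaf 183618724))) (.node (.node (.leaf 276201520) (.leaf 153632818)) (.node (.leaf 258113584) (.leaf 182845490)))) (.node (.node (.node (.leaf 303923250) (.leaf 148111410)) (.node (.leaf 56729405) (.leaf 175161394))) (.node (.node (.leaf 34411758) (.leaf 151683122)) (.node (.leaf 88260658) (.leaf 147718194))))) (.node (.node (.node (.node (.leaf 67439621) (.leaf 174739140)) (.node (.leaf 16056368) (.leaf 303857713))) (.node (.node (.leaf 273219633) (.leaf 303963193)) (.node (.leaf 255639601) (.leaf 59821312)))) (.node (.node (.node (.leaf 274939953) (.leaf 59883569)) (.node (.leaf 267163485) (.leaf 303994436))) (.node (.node (.leaf 96878640) (.leaf 113082417)) (.node (.leaf 372727733) (.leaf 262422577)))))) (.node (.node (.node (.node (.node (.leaf 65328526) (.leaf 262455345)) (.node (.leaf 151653005) (.leaf 262478238))) (.node (.node (.leaf 205293977) (.leaf 113072946))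 (.node (.leaf 174395286) (.leaf 113133749)))) (.node (.node (.node (.leaf 7002632) (.leaf 140214781)) (.node (.leaf 320133074) (.leaf 142598546))) (.node (.node (.leaf 105365552) (.leaf 169558066)) (.node (.leaf 289570864) (.leaf 139542578))))) (.node (.node (.node (.node (.leaf 371081265) (.leaf 143334368)) (.node (.leaf 272058533) (.leaf 170237541))) (.node (.node (.leaf 29786162) (.leaf 77709362)) (.node (.leaf 98730541) (.leaf 125354034)))) (.node (.node (.node (.leaf 353585088) (.leaf 196493361)) (.node (.leaf 355942449) (.leaf 361300017))) (.node (.node (.leaf 373489713) (.leaf 156518281)) (.node (.leaf 320573856) (.leaf 156535149)))))))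

/-- A Schreier factor, part 667. -/
def facCodePart667 : Janko1.Tree ℕ := (.node (.node (.node (.node (.node (.node (.leaf 374133081) (.leaf 361285966)) (.node (.leaf 369950768) (.leaf 196512588))) (.node (.node (.leaf 38600753) (.leaf 312958138)) (.node (.leaf 34095153) (.leaf 358023217)))) (.node (.node (.node (.leaf 185506052) (.leaf 151535665)) (.node (.leaf 237879346) (.leaf 357994628))) (.node (.node (.leaf 235118470) (.leaf 191463473)) (.node (.leaf 275857457) (.leaf 103275665))))) (.node (.node (.node (.node (.leaf 377978953) (.leaf 119734322)) (.node (.leaf 25871534) (.leaf 94342673))) (.node (.node (.leaf 59129905) (.leaf 129450034)) (.node (.leaf 12795953) (.leaf 81690674)))) (.node (.node (.node (.leaf 46776369) (.leaf 109626390)) (.node (.leaf 235143218) (.leaf 77840434))) (.node (.node (.leaf 185483314) (.leaf 125206578)) (.node (.leaf 280150065) (.leaf 143037009)))))) (.node (.node (.node (.node (.node (.leaf 315932720) (.leaf 352210558)) (.node (.leaf 320261826) (.leaf 209917153))) (.node (.node (.leaf 373872757) (.leaf 325538806))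 (.node (.leaf 33980466) (.leaf 321898569)))) (.node (.node (.node (.leaf 98697266) (.leaf 205152512)) (.node (.leaf 95011373) (.leaf 348864561))) (.node (.node (.leaf 68944718) (.leaf 348901838)) (.node (.leaf 65077670) (.leaf 205129741))))) (.node (.node (.node (.node (.leaf 128172904) (.leaf 321929265)) (.node (.leaf 377658050) (.leaf 91586610))) (.node (.node (.leaf 349067316) (.leaf 107167794)) (.node (.leaf 311598098) (.leaf 76301625)))) (.node (.node (.node (.leaf 378257456) (.leaf 123968612)) (.node (.leaf 19513392) (.leaf 187777074))) (.node (.node (.leaf 116211760) (.leaf 218433348)) (.node (.leaf 10387504) (.leaf 205199466)))))))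

/-- A Schreier factor, part 668. -/
def facCodePart668 : Janko1.Tree ℕ := (.node (.node (.node (.node (.node (.node (.leaf 225083442) (.leaf 201673762)) (.node (.leaf 365123524) (.leaf 26673201))) (.node (.node (.leaf 300859440) (.leaf 285933617)) (.node (.leaf 243047228) (.leaf 241877041)))) (.node (.node (.node (.leaf 296271920) (.leaf 76038193)) (.node (.leaf 12424549) (.leaf 81711310))) (.node (.node (.leaf 54788145) (.leaf 245170225)) (.node (.leaf 48202868) (.leaf 32707676))))) (.node (.node (.node (.node (.leaf 52215858) (.leaf 245153841)) (.node (.leaf 284229681) (.leaf 219398194))) (.node (.node (.leaf 302432305) (.leaf 196722738)) (.node (.leaf 282099761) (.leaf 236699698)))) (.node (.node (.node (.leaf 304955440) (.leaf 233279300)) (.node (.leaf 238339302) (.leaf 193334370))) (.node (.node (.leaf 291461537) (.leaf 222875596)) (.node (.leaf 42467377) (.leaf 231083720)))))) (.node (.node (.node (.node (.node (.leaf 12388485) (.leaf 191135794)) (.node (.leaf 52269232) (.leaf 218288436))) (.node (.node (.leaf 48189136) (.leaf 227755997))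 (.node (.leaf 111597856) (.leaf 205280482)))) (.node (.node (.node (.leaf 277548414) (.leaf 250593329)) (.node (.leaf 300531760) (.leaf 250630173))) (.node (.node (.leaf 430774) (.leaf 253872236)) (.node (.leaf 27856506) (.leaf 16154673))))) (.node (.node (.node (.node (.leaf 168525874) (.leaf 280494129)) (.node (.leaf 221648857) (.leaf 16138289))) (.node (.node (.leaf 369524785) (.leaf 209453106)) (.node (.leaf 358400049) (.leaf 223056384)))) (.node (.node (.node (.leaf 375849009) (.leaf 193167410)) (.node (.leaf 305233968) (.leaf 236830770))) (.node (.node (.leaf 374079536) (.leaf 113623090)) (.node (.leaf 369868848) (.leaf 125272118)))))))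

/-- A Schreier factor, part 669. -/
def facCodePart669 : Janko1.Tree ℕ := (.node (.node (.node (.node (.node (.node (.leaf 203341872) (.leaf 97648690)) (.node (.leaf 196427824) (.leaf 78512178))) (.node (.node (.leaf 373260337) (.leaf 109708116)) (.node (.leaf 197247025) (.leaf 223248433)))) (.node (.node (.node (.leaf 31447790) (.leaf 223338772)) (.node (.leaf 126599218) (.leaf 378394866))) (.node (.node (.leaf 273055793) (.leaf 178274353)) (.node (.leaf 365234574) (.leaf 178323505))))) (.node (.node (.node (.node (.leaf 293458422) (.leaf 178343268)) (.node (.leaf 189481008) (.leaf 331104305))) (.node (.node (.leaf 308610281) (.leaf 331191565)) (.node (.leaf 71630897) (.leaf 71925810)))) (.node (.node (.node (.leaf 158974002) (.leaf 103190424)) (.node (.leaf 3260465) (.leaf 119685170))) (.node (.node (.leaf 268697649) (.leaf 97486320)) (.node (.leaf 261865521) (.leaf 78348338)))))) (.node (.node (.node (.node (.node (.leaf 373801008) (.leaf 109576242)) (.node (.leaf 196100144) (.leaf 82149426))) (.node (.node (.leaf 304676913) (.leaf 113508402))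 (.node (.leaf 203079728) (.leaf 93667378)))) (.node (.node (.node (.leaf 298028725) (.leaf 125143470)) (.node (.leaf 91309040) (.leaf 343235924))) (.node (.node (.leaf 79544369) (.leaf 169918513)) (.node (.leaf 158908466) (.leaf 169989793))))) (.node (.node (.node (.node (.leaf 377340096) (.leaf 169902129)) (.node (.leaf 379863046) (.leaf 343252358))) (.node (.node (.leaf 330924081) (.leaf 366649272)) (.node (.leaf 207257649) (.leaf 88333486)))) (.node (.node (.node (.leaf 35962930) (.leaf 119854994)) (.node (.leaf 190454256) (.leaf 76021810))) (.node (.node (.leaf 31473972) (.leaf 107107644)) (.node (.leaf 306298930) (.leaf 92291122)))))))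

/-- A Schreier factor, part 670. -/
def facCodePart670 : Janko1.Tree ℕ := (.node (.node (.node (.node (.node (.node (.leaf 344391729) (.leaf 191823922)) (.node (.leaf 328912784) (.leaf 201329137))) (.node (.node (.leaf 86081584) (.leaf 204750898)) (.node (.leaf 364806193) (.leaf 215023666)))) (.node (.node (.node (.leaf 187553162) (.leaf 304110078)) (.node (.leaf 141656114) (.leaf 304192212))) (.node (.node (.leaf 116150730) (.leaf 304169009)) (.node (.leaf 368614326) (.leaf 107120686))))) (.node (.node (.node (.node (.leaf 108201581) (.leaf 107184177)) (.node (.leaf 266043441) (.leaf 262504497))) (.node (.node (.leaf 304895608) (.leaf 262570033)) (.node (.leaf 263749946) (.leaf 66191409)))) (.node (.node (.node (.leaf 291395918) (.leaf 66258132)) (.node (.leaf 93782064) (.leaf 66207793))) (.node (.node (.leaf 302194812) (.leaf 66280137)) (.node (.leaf 70123568) (.leaf 262488113)))))) (.node (.node (.node (.node (.node (.leaf 87034000) (.leaf 192678285)) (.node (.leaf 14450738) (.leaf 219332658))) (.node (.node (.leaf 21594161) (.leaf 233209906))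 (.node (.leaf 295993392) (.leaf 231020154)))) (.node (.node (.node (.leaf 300466224) (.leaf 214865684)) (.node (.leaf 77846746) (.leaf 191676466))) (.node (.node (.leaf 306446657) (.leaf 227661157)) (.node (.leaf 75288046) (.leaf 268323586))))) (.node (.node (.node (.node (.leaf 18858034) (.leaf 268386353)) (.node (.leaf 297225553) (.leaf 268345097))) (.node (.node (.leaf 333470697) (.leaf 129613873)) (.node (.leaf 291717168) (.leaf 129679409)))) (.node (.node (.node (.leaf 305184816) (.leaf 298483761)) (.node (.leaf 369377329) (.leaf 298500650))) (.node (.node (.leaf 94078922) (.leaf 129599061)) (.node (.leaf 141639730) (.leaf 233373746)))))))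

/-- A Schreier factor, part 671. -/
def facCodePart671 : Janko1.Tree ℕ := (.node (.node (.node (.node (.node (.node (.leaf 204308529) (.leaf 196132914)) (.node (.leaf 144902738) (.leaf 222940490))) (.node (.node (.leaf 100551741) (.leaf 219485825)) (.node (.leaf 370837113) (.leaf 210214049)))) (.node (.node (.node (.leaf 370655281) (.leaf 260259890)) (.node (.leaf 338991661) (.leaf 263159858))) (.node (.node (.leaf 335961846) (.leaf 252021732)) (.node (.leaf 142884912) (.leaf 243400754))))) (.node (.node (.node (.node (.leaf 170792546) (.leaf 314494317)) (.node (.leaf 132464690) (.leaf 359465009))) (.node (.node (.leaf 94879794) (.leaf 153796657)) (.node (.leaf 292949006) (.leaf 310987469)))) (.node (.node (.node (.leaf 308203694) (.leaf 148391784)) (.node (.leaf 136594376) (.leaf 188547121))) (.node (.node (.leaf 273663369) (.leaf 310920464)) (.node (.leaf 39027857) (.leaf 239419442)))))) (.node (.node (.node (.node (.node (.leaf 67897276) (.leaf 251010566)) (.node (.leaf 326574290) (.leaf 268378185))) (.node (.node (.leaf 130760753) (.leaf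 259153284)) (.node (.leaf 142606384) (.leaf 245579826)))) (.node (.node (.node (.leaf 269288632) (.leaf 242931237)) (.node (.leaf 262361822) (.leaf 254395080))) (.node (.node (.leaf 59611562) (.leaf 206946353)) (.node (.leaf 238111810) (.leaf 140265897))))) (.node (.node (.node (.node (.leaf 329990192) (.leaf 320028721)) (.node (.leaf 343277616) (.leaf 135741489))) (.node (.node (.leaf 156418096) (.leaf 319963185)) (.node (.leaf 331563057) (.leaf 202016300)))) (.node (.node (.node (.leaf 180748337) (.leaf 248725554)) (.node (.leaf 128270386) (.leaf 240009266))) (.node (.node (.leaf 255320265) (.leaf 259722077)) (.node (.leaf 98566194) (.leaf 257179797)))))))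

/-- A Schreier factor, part 672. -/
def facCodePart672 : Janko1.Tree ℕ := (.node (.node (.node (.node (.node (.node (.leaf 253149234) (.leaf 265863218)) (.node (.leaf 94916102) (.leaf 268976178))) (.node (.node (.leaf 379600945) (.leaf 328326292)) (.node (.leaf 265142320) (.leaf 331530290)))) (.node (.node (.node (.leaf 364250205) (.leaf 340134532)) (.node (.leaf 260669488) (.leaf 337625138))) (.node (.node (.leaf 20760460) (.leaf 321585202)) (.node (.leaf 344899633) (.leaf 319538728))))) (.node (.node (.node (.node (.leaf 11665456) (.leaf 310755378)) (.node (.leaf 184434737) (.leaf 239992881))) (.node (.node (.leaf 221741106) (.leaf 284147761)) (.node (.leaf 315039161) (.leaf 72450690)))) (.node (.node (.node (.leaf 44744752) (.leaf 240042766)) (.node (.leaf 269500464) (.leaf 78364721))) (.node (.node (.leaf 299456601) (.leaf 29163569)) (.node (.leaf 266592114) (.leaf 29098033)))))) (.node (.node (.node (.node (.node (.leaf 264339505) (.leaf 243286814)) (.node (.leaf 111755314) (.leaf 316588082))) (.node (.node (.leaf 51003441) (.leaf 325571161))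 (.node (.leaf 115687474) (.leaf 322739406)))) (.node (.node (.node (.leaf 246169650) (.leaf 332513342)) (.node (.leaf 36176406) (.leaf 334221737))) (.node (.node (.leaf 305922097) (.leaf 330895662)) (.node (.leaf 11419696) (.leaf 313016370))))) (.node (.node (.node (.node (.leaf 20485394) (.leaf 319045682)) (.node (.leaf 271160838) (.leaf 322196010))) (.node (.node (.leaf 115753010) (.leaf 248627249)) (.node (.leaf 111722546) (.leaf 4653105)))) (.node (.node (.node (.leaf 246235186) (.leaf 4718641)) (.node (.leaf 52707376) (.leaf 88211505))) (.node (.node (.leaf 368771121) (.leaf 94327034)) (.node (.leaf 375180946) (.leaf 278611749)))))))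

/-- A Schreier factor, part 673. -/
def facCodePart673 : Janko1.Tree ℕ := (.node (.node (.node (.node (.node (.node (.leaf 334059014) (.leaf 278577521)) (.node (.leaf 167544762) (.leaf 323389908))) (.node (.node (.leaf 221724722) (.leaf 325025842)) (.node (.leaf 177553457) (.leaf 316047410)))) (.node (.node (.node (.leaf 315018965) (.leaf 334694620)) (.node (.leaf 36494272) (.leaf 332008030))) (.node (.node (.leaf 61210672) (.leaf 343588914)) (.node (.leaf 306135090) (.leaf 245743666))))) (.node (.node (.node (.node (.leaf 126425212) (.leaf 263046929)) (.node (.leaf 67141682) (.leaf 254296114))) (.node (.node (.leaf 308133938) (.leaf 251698744)) (.node (.leaf 130580530) (.leaf 269434930)))) (.node (.node (.node (.leaf 356876336) (.leaf 376717361)) (.node (.leaf 352289081) (.leaf 220119089))) (.node (.node (.leaf 102568457) (.leaf 329220334)) (.node (.leaf 379638692) (.leaf 215105585)))))) (.node (.node (.node (.node (.node (.leaf 71309816) (.leaf 215141160)) (.node (.leaf 130678833) (.leaf 175456305))) (.node (.node (.leaf 377165226) (.leaf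 373558598)) (.node (.leaf 360978140) (.leaf 250576946)))) (.node (.node (.node (.leaf 347471920) (.leaf 240189490)) (.node (.leaf 290670017) (.leaf 257622066))) (.node (.node (.leaf 329613360) (.leaf 259081798)) (.node (.leaf 122339377) (.leaf 252237718))))) (.node (.node (.node (.node (.leaf 377192498) (.leaf 253790176)) (.node (.leaf 91005000) (.leaf 271537190))) (.node (.node (.leaf 110280753) (.leaf 245137458)) (.node (.leaf 79119725) (.leaf 260735026)))) (.node (.node (.node (.leaf 334315568) (.leaf 368246833)) (.node (.leaf 356597808) (.leaf 341591122))) (.node (.node (.leaf 297648177) (.leaf 233570353)) (.node (.leaf 67092530) (.leaf 228526566)))))))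

/-- A Schreier factor, part 674. -/
def facCodePart674 : Janko1.Tree ℕ := (.node (.node (.node (.node (.node (.node (.leaf 308119877) (.leaf 338264289)) (.node (.leaf 130531378) (.leaf 338329649))) (.node (.node (.leaf 270867850) (.leaf 364878785)) (.node (.leaf 126435378) (.leaf 161972273)))) (.node (.node (.node (.leaf 347799600) (.leaf 242352178)) (.node (.leaf 377148180) (.leaf 239640673))) (.node (.node (.leaf 361220101) (.leaf 248157569)) (.node (.leaf 348524525) (.leaf 265798772))))) (.node (.node (.node (.node (.leaf 366477361) (.leaf 251215922)) (.node (.leaf 343200889) (.leaf 268927521))) (.node (.node (.leaf 335352806) (.leaf 328224173)) (.node (.leaf 77103876) (.leaf 322109490)))) (.node (.node (.node (.leaf 333089308) (.leaf 340050170)) (.node (.leaf 346456113) (.leaf 103727153))) (.node (.node (.leaf 260611901) (.leaf 257547805)) (.node (.leaf 261521458) (.leaf 260833329)))))) (.node (.node (.node (.node (.node (.leaf 263733298) (.leaf 62492934)) (.node (.leaf 299335730) (.leaf 305414193))) (.node (.node (.leaf 286953408) (.leaf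 325255218)) (.node (.leaf 301878822) (.leaf 323354674)))) (.node (.node (.node (.leaf 299698302) (.leaf 315966240)) (.node (.leaf 256131120) (.leaf 334118962))) (.node (.node (.leaf 50430002) (.leaf 319815730)) (.node (.leaf 299403096) (.leaf 321542378))))) (.node (.node (.node (.node (.leaf 44422612) (.leaf 339492914)) (.node (.leaf 261506436) (.leaf 330793010))) (.node (.node (.leaf 297078077) (.leaf 310689842)) (.node (.leaf 52677541) (.leaf 328992057)))) (.node (.node (.node (.leaf 278233136) (.leaf 39732477)) (.node (.leaf 295066420) (.leaf 293148166))) (.node (.node (.leaf 260309040) (.leaf 293215452)) (.node (.leaf 264739308) (.leaf 119788169)))))))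

/-- A Schreier factor, part 675. -/
def facCodePart675 : Janko1.Tree ℕ := (.node (.node (.node (.node (.node (.node (.leaf 69277926) (.leaf 125801202)) (.node (.leaf 368443442) (.leaf 269893681))) (.node (.node (.leaf 92888200) (.leaf 296550449)) (.node (.leaf 335396914) (.leaf 296632369)))) (.node (.node (.node (.leaf 370638898) (.leaf 46028496)) (.node (.leaf 274188668) (.leaf 316510734))) (.node (.node (.leaf 351125553) (.leaf 334610482)) (.node (.leaf 287293488) (.leaf 322622784))))) (.node (.node (.node (.node (.leaf 43188274) (.leaf 263143474)) (.node (.leaf 293411372) (.leaf 272203826))) (.node (.node (.leaf 257916978) (.leaf 251609138)) (.node (.leaf 225771568) (.leaf 253837362)))) (.node (.node (.node (.leaf 72273812) (.leaf 260969597)) (.node (.leaf 4409272) (.leaf 244940850))) (.node (.node (.leaf 178378808) (.leaf 196938082)) (.node (.leaf 368254973) (.leaf 156797138)))))) (.node (.node (.node (.node (.node (.leaf 314490928) (.leaf 361726001)) (.node (.leaf 231228770) (.leaf 361742385))) (.node (.node (.leaf 167084080) (.leaf 196919345))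 (.node (.leaf 161038386) (.leaf 191971377)))) (.node (.node (.node (.leaf 366968882) (.leaf 151928881)) (.node (.leaf 31359025) (.leaf 257032242))) (.node (.node (.leaf 363544624) (.leaf 250994592)) (.node (.leaf 309739929) (.leaf 266017538))))) (.node (.node (.node (.node (.leaf 95898193) (.leaf 248614740)) (.node (.leaf 160307065) (.leaf 240123954))) (.node (.node (.leaf 364822578) (.leaf 262558866)) (.node (.leaf 135171825) (.leaf 254378961)))) (.node (.node (.node (.leaf 19074214) (.leaf 210325285)) (.node (.leaf 52363857) (.leaf 325932409))) (.node (.node (.leaf 115559156) (.leaf 143441969)) (.node (.leaf 84000817) (.leaf 352682033)))))))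

/-- A Schreier factor, part 676. -/
def facCodePart676 : Janko1.Tree ℕ := (.node (.node (.node (.node (.node (.node (.leaf 173637680) (.leaf 325910577)) (.node (.leaf 200163376) (.leaf 210342781))) (.node (.node (.leaf 103039026) (.leaf 205446676)) (.node (.leaf 295682098) (.leaf 349358782)))) (.node (.node (.node (.leaf 260177970) (.leaf 138745505)) (.node (.leaf 133054512) (.leaf 349323313))) (.node (.node (.leaf 9339585) (.leaf 205457293)) (.node (.leaf 135528497) (.leaf 266567730))))) (.node (.node (.node (.node (.leaf 214503198) (.leaf 259693248)) (.node (.leaf 187845746) (.leaf 239538497))) (.node (.node (.leaf 174137028) (.leaf 331519230)) (.node (.leaf 375478726) (.leaf 340099122)))) (.node (.node (.node (.leaf 340285750) (.leaf 319166757)) (.node (.leaf 120881200) (.leaf 321569301))) (.node (.node (.leaf 151060530) (.leaf 312444449)) (.node (.leaf 138838065) (.leaf 242337949)))))) (.node (.node (.node (.node (.node (.leaf 165380141) (.leaf 76324173)) (.node (.leaf 245815092) (.leaf 286310449))) (.node (.node (.leaf 218172742) (.leaf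 286346924)) (.node (.leaf 59392317) (.leaf 82198577)))) (.node (.node (.node (.leaf 302160885) (.leaf 33162512)) (.node (.leaf 266559601) (.leaf 289701937))) (.node (.node (.leaf 31875472) (.leaf 33145542)) (.node (.leaf 87689105) (.leaf 82189893))))) (.node (.node (.node (.node (.leaf 14393598) (.leaf 331875084)) (.node (.leaf 47923249) (.leaf 316571698))) (.node (.node (.leaf 294420528) (.leaf 325550130)) (.node (.leaf 241188912) (.leaf 340852786)))) (.node (.node (.node (.leaf 79855665) (.leaf 323305522)) (.node (.leaf 74645552) (.leaf 334200882))) (.node (.node (.leaf 55214130) (.leaf 339542066)) (.node (.leaf 15433776) (.leaf 328520984)))))))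

/-- A Schreier factor, part 677. -/
def facCodePart677 : Janko1.Tree ℕ := (.node (.node (.node (.node (.node (.node (.leaf 68555745) (.leaf 251037390)) (.node (.leaf 303333424) (.leaf 277463089))) (.node (.node (.leaf 132087857) (.leaf 9609178)) (.node (.leaf 58474544) (.leaf 251019313)))) (.node (.node (.node (.leaf 230506546) (.leaf 98091057)) (.node (.leaf 177373234) (.leaf 254361649))) (.node (.node (.leaf 373244061) (.leaf 280987061)) (.node (.leaf 338214962) (.leaf 16580657))))) (.node (.node (.node (.node (.leaf 6357040) (.leaf 280970108)) (.node (.leaf 201277490) (.leaf 254348061))) (.node (.node (.leaf 147611472) (.leaf 98108168)) (.node (.leaf 307920944) (.leaf 316031026)))) (.node (.node (.node (.leaf 254512541) (.leaf 332382258)) (.node (.leaf 201474097) (.leaf 313679096))) (.node (.node (.leaf 66977840) (.leaf 322535474)) (.node (.leaf 98539452) (.leaf 343581005)))))) (.node (.node (.node (.node (.node (.leaf 200376368) (.leaf 263028786)) (.node (.leaf 167150349) (.leaf 254284550))) (.node (.node (.leaf 151666737) (.leaf 252123610))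 (.node (.leaf 168542257) (.leaf 260874534)))) (.node (.node (.node (.leaf 225674254) (.leaf 334880837)) (.node (.leaf 107436448) (.leaf 334977821))) (.node (.node (.leaf 39551026) (.leaf 378748977)) (.node (.leaf 139280432) (.leaf 378830897))))) (.node (.node (.node (.node (.leaf 75603888) (.leaf 378765361)) (.node (.leaf 277794722) (.leaf 378851421))) (.node (.node (.leaf 206800592) (.leaf 218634585)) (.node (.leaf 31277105) (.leaf 178602033)))) (.node (.node (.node (.leaf 323371056) (.leaf 178683953)) (.node (.leaf 363481873) (.leaf 218529841))) (.node (.node (.leaf 232161328) (.leaf 239484978)) (.node (.leaf 164811110) (.leaf 248283186)))))))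

/-- A Schreier factor, part 678. -/
def facCodePart678 : Janko1.Tree ℕ := (.node (.node (.node (.node (.node (.node (.leaf 132808752) (.leaf 265961522)) (.node (.leaf 187646002) (.leaf 250560562))) (.node (.node (.leaf 346986694) (.leaf 268305630)) (.node (.leaf 313479362) (.leaf 241795122)))) (.node (.node (.node (.leaf 137904178) (.leaf 259047474)) (.node (.leaf 193364016) (.leaf 271515698))) (.node (.node (.leaf 173686832) (.leaf 245121074)) (.node (.leaf 314264348) (.leaf 260313002))))) (.node (.node (.node (.node (.leaf 372113456) (.leaf 251527218)) (.node (.leaf 218824752) (.leaf 237027377))) (.node (.node (.leaf 218076410) (.leaf 237082866)) (.node (.leaf 190777036) (.leaf 170377265)))) (.node (.node (.node (.leaf 311183040) (.leaf 237051036)) (.node (.leaf 134791218) (.leaf 237092913))) (.node (.node (.leaf 187097265) (.leaf 340478264)) (.node (.leaf 180591116) (.leaf 367001649)))))) (.node (.node (.node (.node (.node (.leaf 135430193) (.leaf 366972696)) (.node (.leaf 376720920) (.leaf 340394033))) (.node (.node (.leaf 43696178) (.leaf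 240058418)) (.node (.leaf 152617008) (.leaf 257490994)))) (.node (.node (.node (.leaf 275710341) (.leaf 259621238)) (.node (.leaf 217956401) (.leaf 313245746))) (.node (.node (.leaf 250118192) (.leaf 337985586)) (.node (.leaf 299127344) (.leaf 310843941))))) (.node (.node (.node (.node (.leaf 182272301) (.leaf 329128888)) (.node (.leaf 120815664) (.leaf 259611634))) (.node (.node (.leaf 177868832) (.leaf 304398544)) (.node (.leaf 15815029) (.leaf 304436362)))) (.node (.node (.node (.leaf 322256946) (.leaf 259644477)) (.node (.leaf 150553481) (.leaf 259708240))) (.node (.node (.leaf 294356492) (.leaf 113542954)) (.node (.leaf 123313194) (.leaf 331779557)))))))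

/-- A Schreier factor, part 679. -/
def facCodePart679 : Janko1.Tree ℕ := (.node (.node (.node (.node (.node (.node (.leaf 55713453) (.leaf 322819905)) (.node (.leaf 6129657) (.leaf 340776950))) (.node (.node (.leaf 248779586) (.leaf 315951324)) (.node (.leaf 22123586) (.leaf 334106828)))) (.node (.node (.node (.leaf 82313429) (.leaf 339460146)) (.node (.leaf 58558885) (.leaf 312688690))) (.node (.node (.leaf 245678128) (.leaf 328417330)) (.node (.leaf 39993393) (.leaf 337428530))))) (.node (.node (.node (.node (.leaf 112607280) (.leaf 123781169)) (.node (.leaf 119242802) (.leaf 123863089))) (.node (.node (.leaf 59949106) (.leaf 43915048)) (.node (.leaf 24255377) (.leaf 43979884)))) (.node (.node (.node (.leaf 284114994) (.leaf 44007473)) (.node (.leaf 198335028) (.leaf 298932153))) (.node (.node (.leaf 241570101) (.leaf 298909709)) (.node (.leaf 307844598) (.leaf 272187441)))))) (.node (.node (.node (.node (.node (.leaf 174656792) (.leaf 314229485)) (.node (.leaf 32197021) (.leaf 332283954))) (.node (.node (.leaf 204084928) (.leaf 316493948))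 (.node (.leaf 358088754) (.leaf 334594098)))) (.node (.node (.node (.leaf 319882225) (.leaf 325812274)) (.node (.leaf 147062834) (.leaf 343523378))) (.node (.node (.leaf 177995876) (.leaf 109101701)) (.node (.leaf 146800688) (.leaf 113722530))))) (.node (.node (.node (.node (.leaf 220122530) (.leaf 98045285)) (.node (.leaf 355078346) (.leaf 125834545))) (.node (.node (.leaf 332759088) (.leaf 78413874)) (.node (.leaf 221665192) (.leaf 81562389)))) (.node (.node (.node (.leaf 9494674) (.leaf 313988841)) (.node (.leaf 72157308) (.leaf 359154266))) (.node (.node (.leaf 192469480) (.leaf 153296312)) (.node (.leaf 106979577) (.leaf 153206833)))))))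

/-- A Schreier factor, part 680. -/
def facCodePart680 : Janko1.Tree ℕ := (.node (.node (.node (.node (.node (.node (.leaf 260046898) (.leaf 359071793)) (.node (.leaf 293535794) (.leaf 314083550))) (.node (.node (.leaf 213228329) (.leaf 355734734)) (.node (.leaf 179148536) (.leaf 71880100)))) (.node (.node (.node (.leaf 135323264) (.leaf 76480562)) (.node (.leaf 191322438) (.leaf 123850413))) (.node (.node (.leaf 185663536) (.leaf 119311717)) (.node (.leaf 214302770) (.leaf 91717682))))) (.node (.node (.node (.node (.leaf 140057804) (.leaf 129472952)) (.node (.leaf 22978834) (.leaf 78315570))) (.node (.node (.leaf 337075544) (.leaf 93593012)) (.node (.leaf 119967378) (.leaf 98223245)))) (.node (.node (.node (.leaf 165789744) (.leaf 323191416)) (.node (.leaf 138428466) (.leaf 206541126))) (.node (.node (.leaf 199123389) (.leaf 350132092)) (.node (.leaf 217550544) (.leaf 350047429)))))) (.node (.node (.node (.node (.node (.leaf 365022286) (.leaf 206640942)) (.node (.leaf 134168624) (.leaf 201637937))) (.node (.node (.leaf 233578173) (.leaf 135220902))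 (.node (.leaf 157581361) (.leaf 346521649)))) (.node (.node (.node (.leaf 341811237) (.leaf 201544677)) (.node (.leaf 237291244) (.leaf 319438897))) (.node (.node (.leaf 206081114) (.leaf 103743538)) (.node (.leaf 257786754) (.leaf 72029420))))) (.node (.node (.node (.node (.leaf 295862322) (.leaf 119177266)) (.node (.leaf 25500821) (.leaf 218469172))) (.node (.node (.leaf 113874306) (.leaf 205233801)) (.node (.leaf 154944486) (.leaf 201262713)))) (.node (.node (.node (.leaf 192053297) (.leaf 231227442)) (.node (.leaf 57593210) (.leaf 72012113))) (.node (.node (.leaf 204557397) (.leaf 283742338)) (.node (.leaf 81477680) (.leaf 22855729)))))))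

/-- A Schreier factor, part 681. -/
def facCodePart681 : Janko1.Tree ℕ := (.node (.node (.node (.node (.node (.node (.leaf 375591288) (.leaf 239616114)) (.node (.leaf 47579524) (.leaf 77925670))) (.node (.node (.leaf 33112112) (.leaf 243010356)) (.node (.leaf 105594928) (.leaf 286916657)))) (.node (.node (.node (.leaf 26624049) (.leaf 28739334)) (.node (.leaf 80466986) (.leaf 28823385))) (.node (.node (.leaf 289804840) (.leaf 286982193)) (.node (.leaf 258736176) (.leaf 242942001))))) (.node (.node (.node (.node (.leaf 123797553) (.leaf 77856817)) (.node (.leaf 65699888) (.leaf 192610445))) (.node (.node (.leaf 26722354) (.leaf 196744505)) (.node (.leaf 55099442) (.leaf 222887986)))) (.node (.node (.node (.leaf 68161322) (.leaf 228430084)) (.node (.leaf 16695344) (.leaf 231096370))) (.node (.node (.leaf 4128817) (.leaf 188223560)) (.node (.leaf 100204593) (.leaf 218316850)))))) (.node (.node (.node (.node (.node (.leaf 281051184) (.leaf 214499378)) (.node (.leaf 22822962) (.leaf 87719985))) (.node (.node (.leaf 91635762) (.leaf 4249874)) (.node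 (.leaf 118685746) (.leaf 274989105)))) (.node (.node (.node (.leaf 266420274) (.leaf 4147822)) (.node (.leaf 304529458) (.leaf 87787660))) (.node (.node (.leaf 59260978) (.leaf 248317669)) (.node (.leaf 175079473) (.leaf 251756593))))) (.node (.node (.node (.node (.leaf 7536688) (.leaf 93896753)) (.node (.leaf 230654002) (.leaf 196575282))) (.node (.node (.leaf 340115506) (.leaf 192757810)) (.node (.leaf 277970994) (.leaf 109002802)))) (.node (.node (.node (.leaf 172785712) (.leaf 97665074)) (.node (.leaf 43876402) (.leaf 94240818))) (.node (.node (.leaf 199462344) (.leaf 125738056)) (.node (.leaf 194944586) (.leaf 179945521)))))))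

/-- A Schreier factor, part 682. -/
def facCodePart682 : Janko1.Tree ℕ := (.node (.node (.node (.node (.node (.node (.leaf 350666800) (.leaf 180027441)) (.node (.leaf 140263472) (.leaf 219840561))) (.node (.node (.leaf 347144242) (.leaf 214761521)) (.node (.leaf 311066674) (.leaf 328745913)))) (.node (.node (.node (.leaf 134727566) (.leaf 328859697)) (.node (.leaf 214597682) (.leaf 175071241))) (.node (.node (.leaf 161645380) (.leaf 373084384)) (.node (.leaf 205930544) (.leaf 373162033))))) (.node (.node (.node (.node (.leaf 327811120) (.leaf 92192818)) (.node (.leaf 76726321) (.leaf 87752754))) (.node (.node (.leaf 213319945) (.leaf 72653133)) (.node (.leaf 9371697) (.leaf 103809074)))) (.node (.node (.node (.leaf 190941546) (.leaf 94442500)) (.node (.leaf 349405234) (.leaf 125911090))) (.node (.node (.leaf 137809726) (.leaf 129384498)) (.node (.leaf 165724208) (.leaf 82165810)))))) (.node (.node (.node (.node (.node (.leaf 217874482) (.leaf 113524786)) (.node (.leaf 164929033) (.leaf 77907456))) (.node (.node (.leaf 192331824) (.leaf 109166642))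 (.node (.leaf 120160305) (.leaf 166576177)))) (.node (.node (.node (.leaf 226559868) (.leaf 233112725)) (.node (.leaf 23052345) (.leaf 233180602))) (.node (.node (.leaf 146398524) (.leaf 341278769)) (.node (.leaf 275882422) (.leaf 337936433))))) (.node (.node (.node (.node (.leaf 240344794) (.leaf 228034368)) (.node (.leaf 3637298) (.leaf 228152946))) (.node (.node (.leaf 159449273) (.leaf 364364580)) (.node (.leaf 103466297) (.leaf 364435128)))) (.node (.node (.node (.leaf 39665714) (.leaf 161505573)) (.node (.leaf 211719985) (.leaf 72470794))) (.node (.node (.leaf 157761585) (.leaf 119082209)) (.node (.leaf 200777609) (.leaf 187842610)))))))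

/-- A Schreier factor, part 683. -/
def facCodePart683 : Janko1.Tree ℕ := (.node (.node (.node (.node (.node (.node (.leaf 319684658) (.leaf 191848610)) (.node (.leaf 57544792) (.leaf 204767282))) (.node (.node (.leaf 227688498) (.leaf 231145522)) (.node (.leaf 89346852) (.leaf 228212786)))) (.node (.node (.node (.leaf 263405616) (.leaf 301776945)) (.node (.leaf 235388977) (.leaf 301891633))) (.node (.node (.leaf 208703028) (.leaf 55794141)) (.node (.leaf 155009073) (.leaf 257163313))))) (.node (.node (.node (.node (.leaf 286428669) (.leaf 109264945)) (.node (.leaf 251121553) (.leaf 260325425))) (.node (.node (.leaf 123142194) (.leaf 62095409)) (.node (.leaf 97079734) (.leaf 305093209)))) (.node (.node (.node (.leaf 123984718) (.leaf 236653078)) (.node (.leaf 105693302) (.leaf 193435744))) (.node (.node (.leaf 87228466) (.leaf 201883698)) (.node (.leaf 119095346) (.leaf 218218546)))))) (.node (.node (.node (.node (.node (.leaf 267681840) (.leaf 39289382)) (.node (.leaf 103923761) (.leaf 39354417))) (.node (.node (.leaf 72515633) (.leaf 292765745))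 (.node (.leaf 285295420) (.leaf 292831380)))) (.node (.node (.node (.leaf 4210737) (.leaf 119357489)) (.node (.leaf 25116720) (.leaf 266059825))) (.node (.node (.leaf 204229194) (.leaf 269467697)) (.node (.leaf 358236210) (.leaf 269516849))))) (.node (.node (.node (.node (.leaf 231030834) (.leaf 296173617)) (.node (.leaf 177979442) (.leaf 45548296))) (.node (.node (.leaf 73875504) (.leaf 45678641)) (.node (.leaf 225378353) (.leaf 222958428)))) (.node (.node (.node (.leaf 290216132) (.leaf 219906098)) (.node (.leaf 33363106) (.leaf 236752414))) (.node (.node (.leaf 273618446) (.leaf 11493429)) (.node (.leaf 96010290) (.leaf 49582354)))))))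

/-- A Schreier factor, part 684. -/
def facCodePart684 : Janko1.Tree ℕ := (.node (.node (.node (.node (.node (.node (.leaf 99827762) (.leaf 62636082)) (.node (.leaf 321145762) (.leaf 349998073))) (.node (.node (.leaf 370507824) (.leaf 322966928)) (.node (.leaf 316735536) (.leaf 206389297)))) (.node (.node (.node (.leaf 177143856) (.leaf 206340145)) (.node (.leaf 170524720) (.leaf 349937653))) (.node (.node (.leaf 197132336) (.leaf 139821105)) (.node (.leaf 380649522) (.leaf 135168049))))) (.node (.node (.node (.node (.leaf 344950342) (.leaf 346406961)) (.node (.leaf 342657353) (.leaf 201393738))) (.node (.node (.leaf 157974578) (.leaf 319275057)) (.node (.leaf 208176506) (.leaf 346472497)))) (.node (.node (.node (.leaf 154900069) (.leaf 135086129)) (.node (.leaf 378486832) (.leaf 22644280))) (.node (.node (.leaf 325553624) (.leaf 60660229)) (.node (.leaf 311869488) (.leaf 39426592)))))) (.node (.node (.node (.node (.node (.leaf 210206768) (.leaf 39813170)) (.node (.leaf 163484237) (.leaf 23266090))) (.node (.node (.leaf 342671410) (.leaf 16039986))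 (.node (.leaf 380616754) (.leaf 66240562)))) (.node (.node (.node (.leaf 344932402) (.leaf 29065266)) (.node (.leaf 208207922) (.leaf 66682930))) (.node (.node (.leaf 370235749) (.leaf 358926810)) (.node (.leaf 316440624) (.leaf 153116634))))) (.node (.node (.node (.node (.leaf 374456368) (.leaf 192938390)) (.node (.leaf 170246192) (.leaf 313853733))) (.node (.node (.leaf 196837424) (.leaf 193019953)) (.node (.leaf 308531810) (.leaf 355616545)))) (.node (.node (.node (.leaf 96043058) (.leaf 147768177)) (.node (.leaf 312148016) (.leaf 43483186))) (.node (.node (.leaf 163856432) (.leaf 27066418)) (.node (.leaf 190382128) (.leaf 55860654)))))))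

/-- A Schreier factor, part 685. -/
def facCodePart685 : Janko1.Tree ℕ := (.node (.node (.node (.node (.node (.node (.leaf 183911113) (.leaf 4054394)) (.node (.leaf 210476376) (.leaf 44173316))) (.node (.node (.leaf 335875954) (.leaf 151766476)) (.node (.leaf 369082418) (.leaf 165167154)))) (.node (.node (.node (.leaf 197906350) (.leaf 164732004)) (.node (.leaf 144195634) (.leaf 135364658))) (.node (.node (.leaf 194430228) (.leaf 175423961)) (.node (.leaf 141067086) (.leaf 151052144))))) (.node (.node (.node (.node (.leaf 301416496) (.leaf 4030513)) (.node (.leaf 247907796) (.leaf 274929432))) (.node (.node (.leaf 296882314) (.leaf 248102961)) (.node (.leaf 243531824) (.leaf 87621681)))) (.node (.node (.node (.leaf 78790704) (.leaf 4112433)) (.node (.leaf 262133137) (.leaf 278107764))) (.node (.node (.leaf 18137138) (.leaf 11386929)) (.node (.leaf 305479728) (.leaf 152862770)))))) (.node (.node (.node (.node (.node (.leaf 292094000) (.leaf 143130674)) (.node (.leaf 297689393) (.leaf 178044978))) (.node (.node (.leaf 262094898) (.leaf 148062258))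 (.node (.leaf 18186290) (.leaf 147686297)))) (.node (.node (.node (.leaf 79909452) (.leaf 161202226)) (.node (.leaf 13736752) (.leaf 138695014))) (.node (.node (.leaf 296622042) (.leaf 283533528)) (.node (.leaf 78519481) (.leaf 71958577))))) (.node (.node (.node (.node (.leaf 54363316) (.leaf 22560817)) (.node (.leaf 333742130) (.leaf 28590129))) (.node (.node (.leaf 371146802) (.leaf 77825817)) (.node (.leaf 335937586) (.leaf 242827313)))) (.node (.node (.node (.leaf 141049906) (.leaf 77742468)) (.node (.leaf 197975920) (.leaf 28672913))) (.node (.node (.leaf 252395568) (.leaf 180145129)) (.node (.leaf 38064220) (.leaf 156614706)))))))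

/-- A Schreier factor, part 686. -/
def facCodePart686 : Janko1.Tree ℕ := (.node (.node (.node (.node (.node (.node (.leaf 62881840) (.leaf 139509810)) (.node (.leaf 197984305) (.leaf 61882418))) (.node (.node (.leaf 201297857) (.leaf 49956526)) (.node (.leaf 374669360) (.leaf 16269362)))) (.node (.node (.node (.leaf 172130353) (.leaf 49537369)) (.node (.leaf 370416210) (.leaf 29319230))) (.node (.node (.leaf 68354098) (.leaf 232953593)) (.node (.leaf 142311472) (.leaf 233013297))))) (.node (.node (.node (.node (.leaf 30474290) (.leaf 341033009)) (.node (.leaf 183664688) (.leaf 161382449))) (.node (.node (.leaf 99926065) (.leaf 337772593)) (.node (.leaf 378404912) (.leaf 227868721)))) (.node (.node (.node (.leaf 69011646) (.leaf 364331057)) (.node (.leaf 185111246) (.leaf 27268421))) (.node (.node (.leaf 155769716) (.leaf 60571698)) (.node (.leaf 181583922) (.leaf 4276274)))))) (.node (.node (.node (.node (.node (.leaf 326999305) (.leaf 4756382)) (.node (.leaf 157536665) (.leaf 39782897))) (.node (.node (.leaf 324943922) (.leaf 26648430)) (.node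 (.leaf 154435634) (.leaf 59867186)))) (.node (.node (.node (.leaf 92045361) (.leaf 46121010)) (.node (.leaf 60890093) (.leaf 66601010))) (.node (.node (.leaf 374390832) (.leaf 11468850)) (.node (.leaf 148586544) (.leaf 332172884))))) (.node (.node (.node (.node (.leaf 324960306) (.leaf 219684533)) (.node (.leaf 154457729) (.leaf 219775025))) (.node (.node (.leaf 157472562) (.leaf 376184882)) (.node (.leaf 163921968) (.leaf 372899889)))) (.node (.node (.node (.leaf 208019889) (.leaf 372952492)) (.node (.leaf 183944174) (.leaf 214589180))) (.node (.node (.leaf 191171113) (.leaf 214646833)) (.node (.leaf 182042673) (.leaf 328695857)))))))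

/-- A Schreier factor, part 687. -/
def facCodePart687 : Janko1.Tree ℕ := (.node (.node (.node (.node (.node (.node (.leaf 165330993) (.leaf 174883648)) (.node (.leaf 136302888) (.leaf 43384882))) (.node (.node (.leaf 34785364) (.leaf 55808058)) (.node (.leaf 30507058) (.leaf 44089394)))) (.node (.node (.node (.leaf 54760046) (.leaf 147589210)) (.node (.leaf 211632177) (.leaf 174558174))) (.node (.node (.leaf 301373626) (.leaf 138297394)) (.node (.leaf 296814386) (.leaf 148242482))))) (.node (.node (.node (.node (.leaf 162173556) (.leaf 175366042)) (.node (.leaf 171442226) (.leaf 292688702))) (.node (.node (.leaf 167854130) (.leaf 119063748)) (.node (.leaf 315555890) (.leaf 39215026)))) (.node (.node (.node (.leaf 62637646) (.leaf 45471002)) (.node (.leaf 37863472) (.leaf 269323265))) (.node (.node (.leaf 83788722) (.leaf 269385777)) (.node (.leaf 56428425) (.leaf 125225216)))))) (.node (.node (.node (.node (.node (.leaf 52322412) (.leaf 296093249)) (.node (.leaf 28170712) (.leaf 183635869))) (.node (.node (.leaf 13238322) (.leaf 166658098))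 (.node (.leaf 17612850) (.leaf 182861874)))) (.node (.node (.node (.leaf 46153776) (.leaf 135629793)) (.node (.leaf 75989041) (.leaf 161857586))) (.node (.node (.leaf 44138974) (.leaf 178408318)) (.node (.leaf 301056048) (.leaf 134938674))))) (.node (.node (.node (.node (.leaf 51532162) (.leaf 55631034)) (.node (.leaf 10797104) (.leaf 55705649))) (.node (.node (.leaf 17662002) (.leaf 103307144)) (.node (.leaf 38174768) (.leaf 304857137)))) (.node (.node (.node (.leaf 194743065) (.leaf 304941976)) (.node (.leaf 62988173) (.leaf 109084721))) (.node (.node (.leaf 205052289) (.leaf 109158805)) (.node (.leaf 168886321) (.leaf 260292657)))))))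

/-- A Schreier factor, part 688. -/
def facCodePart688 : Janko1.Tree ℕ := (.node (.node (.node (.node (.node (.node (.leaf 167837746) (.leaf 142609360)) (.node (.leaf 143743484) (.leaf 170250188))) (.node (.node (.leaf 223727452) (.leaf 280906242)) (.node (.leaf 147623468) (.leaf 278189354)))) (.node (.node (.node (.leaf 339449118) (.leaf 280433001)) (.node (.leaf 335137988) (.leaf 287523930))) (.node (.node (.leaf 202741722) (.leaf 143645069)) (.node (.leaf 99745842) (.leaf 210491442))))) (.node (.node (.node (.node (.leaf 195870768) (.leaf 326058033)) (.node (.leaf 308827637) (.leaf 143622730))) (.node (.node (.leaf 67715122) (.leaf 352944177)) (.node (.leaf 216547376) (.leaf 205570097)))) (.node (.node (.node (.leaf 35405873) (.leaf 322404401)) (.node (.leaf 343572528) (.leaf 322420785))) (.node (.node (.leaf 103991760) (.leaf 205553893)) (.node (.leaf 132256729) (.leaf 349477090)))))) (.node (.node (.node (.node (.node (.leaf 211508994) (.leaf 301711410)) (.node (.leaf 209010736) (.leaf 304613920))) (.node (.node (.leaf 380900597) (.leaf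 295095562)) (.node (.leaf 223404088) (.leaf 278691890)))) (.node (.node (.node (.leaf 26910252) (.leaf 280281138)) (.node (.leaf 334864013) (.leaf 289675045))) (.node (.node (.leaf 124100326) (.leaf 286883890)) (.node (.leaf 195592240) (.leaf 361857073))))) (.node (.node (.node (.node (.leaf 202442480) (.leaf 197165105)) (.node (.leaf 377782322) (.leaf 197181489))) (.node (.node (.leaf 216780992) (.leaf 151964749)) (.node (.leaf 236961840) (.leaf 313444470)))) (.node (.node (.node (.leaf 234946609) (.leaf 313425969)) (.node (.leaf 343857404) (.leaf 358451808))) (.node (.node (.leaf 99686760) (.leaf 293388338)) (.node (.leaf 189207346) (.leaf 294944818)))))))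

/-- A Schreier factor, part 689. -/
def facCodePart689 : Janko1.Tree ℕ := (.node (.node (.node (.node (.node (.node (.leaf 209289264) (.leaf 302317618)) (.node (.leaf 308779078) (.leaf 304447538))) (.node (.node (.leaf 67657684) (.leaf 301911110)) (.node (.leaf 306859100) (.leaf 292756853)))) (.node (.node (.node (.leaf 63771260) (.leaf 295603372)) (.node (.leaf 157925425) (.leaf 358257468))) (.node (.node (.leaf 265781866) (.leaf 348626254)) (.node (.leaf 237818241) (.leaf 346652722))))) (.node (.node (.node (.node (.leaf 197738546) (.leaf 277708849)) (.node (.leaf 194349570) (.leaf 92311960))) (.node (.node (.leaf 371212338) (.leaf 251203528)) (.node (.leaf 369229874) (.leaf 9764913)))) (.node (.node (.node (.leaf 167223340) (.leaf 277725233)) (.node (.leaf 18219057) (.leaf 254410801))) (.node (.node (.leaf 256660421) (.leaf 16768865)) (.node (.leaf 115639464) (.leaf 281059534)))))) (.node (.node (.node (.node (.node (.leaf 93130510) (.leaf 378675156)) (.node (.leaf 83525682) (.leaf 370214660))) (.node (.node (.leaf 69521590) (.leaf 367580009))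 (.node (.leaf 300061334) (.leaf 376574772)))) (.node (.node (.node (.leaf 50830814) (.leaf 378047073)) (.node (.leaf 109583074) (.leaf 346866182))) (.node (.node (.leaf 117702704) (.leaf 357646386)) (.node (.leaf 30670897) (.leaf 355827762))))) (.node (.node (.node (.node (.leaf 260964400) (.leaf 358122354)) (.node (.leaf 107577393) (.leaf 355403385))) (.node (.node (.leaf 265453616) (.leaf 346112050)) (.node (.leaf 83574834) (.leaf 27219670)))) (.node (.node (.node (.leaf 300105790) (.leaf 76617344)) (.node (.leaf 50891970) (.leaf 242488564))) (.node (.node (.leaf 297863865) (.leaf 286457905)) (.node (.leaf 46891700) (.leaf 27235424)))))))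

/-- A Schreier factor, part 690. -/
def facCodePart690 : Janko1.Tree ℕ := (.node (.node (.node (.node (.node (.node (.leaf 102170672) (.leaf 33199161)) (.node (.leaf 141332468) (.leaf 289816625))) (.node (.node (.leaf 256933936) (.leaf 82313265)) (.node (.leaf 221954097) (.leaf 245733384)))) (.node (.node (.node (.leaf 270286896) (.leaf 289800241)) (.node (.leaf 69779537) (.leaf 369674422))) (.node (.node (.leaf 93510164) (.leaf 376444657)) (.node (.leaf 369213490) (.leaf 378519602))))) (.node (.node (.node (.node (.leaf 201801777) (.leaf 343818289)) (.node (.leaf 352911408) (.leaf 343869314))) (.node (.node (.leaf 144293937) (.leaf 343883825)) (.node (.leaf 171412742) (.leaf 237142065)))) (.node (.node (.node (.leaf 150044720) (.leaf 237207601)) (.node (.leaf 223805488) (.leaf 170557489))) (.node (.node (.leaf 343529902) (.leaf 283614996)) (.node (.leaf 72794161) (.leaf 286490674)))))) (.node (.node (.node (.node (.node (.leaf 236703253) (.leaf 277102642)) (.node (.leaf 4522033) (.leaf 294978202))) (.node (.node (.leaf 39536322) (.leaf 275514252))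 (.node (.leaf 156567093) (.leaf 293175346)))) (.node (.node (.node (.leaf 216630857) (.leaf 284328388)) (.node (.leaf 35487793) (.leaf 302366770))) (.node (.node (.leaf 124291238) (.leaf 183966588)) (.node (.leaf 92487729) (.leaf 378883568))))) (.node (.node (.node (.node (.leaf 339154161) (.leaf 335091777)) (.node (.leaf 112181549) (.leaf 335189598))) (.node (.node (.leaf 223468664) (.leaf 223943746)) (.node (.leaf 26951729) (.leaf 223992045)))) (.node (.node (.node (.leaf 143131925) (.leaf 335168264)) (.node (.leaf 14090289) (.leaf 378929201))) (.node (.node (.leaf 330568985) (.leaf 275660850)) (.node (.leaf 343806948) (.leaf 285958373)))))))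

/-- A Schreier factor, part 691. -/
def facCodePart691 : Janko1.Tree ℕ := (.node (.node (.node (.node (.node (.node (.leaf 218497073) (.leaf 304087090)) (.node (.leaf 361848874) (.leaf 302204514))) (.node (.node (.leaf 216827122) (.leaf 286326834)) (.node (.leaf 154704453) (.leaf 304416884)))) (.node (.node (.node (.leaf 137285060) (.leaf 301795325)) (.node (.leaf 237060144) (.leaf 274947925))) (.node (.node (.leaf 138215473) (.leaf 292700210)) (.node (.leaf 156745776) (.leaf 295567488))))) (.node (.node (.node (.node (.leaf 265699376) (.leaf 295554985)) (.node (.leaf 261230609) (.leaf 123902581))) (.node (.node (.leaf 118052485) (.leaf 268910641)) (.node (.leaf 184877105) (.leaf 123879473)))) (.node (.node (.node (.leaf 21217328) (.leaf 123945009)) (.node (.leaf 12107824) (.leaf 295616561))) (.node (.node (.leaf 84298124) (.leaf 349831226)) (.node (.leaf 274469002) (.leaf 367496420)))))) (.node (.node (.node (.node (.node (.leaf 125885324) (.leaf 352075826)) (.node (.leaf 55672881) (.leaf 350257202))) (.node (.node (.leaf 29067326) (.leaf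 367855982)) (.node (.leaf 18291349) (.leaf 376512688)))) (.node (.node (.node (.leaf 260866096) (.leaf 60506161)) (.node (.leaf 107841642) (.leaf 60592637))) (.node (.node (.leaf 76415025) (.leaf 304502586)) (.node (.leaf 278724656) (.leaf 304601717))))) (.node (.node (.node (.node (.leaf 265394304) (.leaf 259835162)) (.node (.leaf 128096122) (.leaf 259919177))) (.node (.node (.leaf 109625392) (.leaf 107774001)) (.node (.leaf 9165928) (.leaf 107861185)))) (.node (.node (.node (.leaf 43337609) (.leaf 259802266)) (.node (.leaf 11894832) (.leaf 259899441))) (.node (.node (.leaf 30708640) (.leaf 304566673)) (.node (.leaf 20979761) (.leaf 60627926)))))))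

/-- A Schreier factor, part 692. -/
def facCodePart692 : Janko1.Tree ℕ := (.node (.node (.node (.node (.node (.node (.leaf 256853977) (.leaf 350421713)) (.node (.leaf 274764876) (.leaf 369615017))) (.node (.node (.leaf 270221913) (.leaf 361013401)) (.node (.leaf 232019425) (.leaf 378101385)))) (.node (.node (.node (.leaf 102236208) (.leaf 361398322)) (.node (.leaf 141417540) (.leaf 378437682))) (.node (.node (.leaf 168156956) (.leaf 358879322)) (.node (.leaf 126158886) (.leaf 349700142))))) (.node (.node (.node (.node (.leaf 204772084) (.leaf 146538544)) (.node (.leaf 231099268) (.leaf 373802553))) (.node (.node (.leaf 140460118) (.leaf 338648242)) (.node (.leaf 220252530) (.leaf 200020290)))) (.node (.node (.node (.leaf 354926640) (.leaf 229916720)) (.node (.leaf 337248304) (.leaf 318114240))) (.node (.node (.leaf 168509489) (.leaf 354041904)) (.node (.leaf 43271750) (.leaf 205783245)))))) (.node (.node (.node (.node (.node (.leaf 127631409) (.leaf 134643729)) (.node (.leaf 134042930) (.leaf 200754602))) (.node (.node (.leaf 213418032) (.leaf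 199229488)) (.node (.leaf 359235632) (.leaf 229117696)))) (.node (.node (.node (.leaf 341393456) (.leaf 200693704)) (.node (.leaf 44324486) (.leaf 134584773))) (.node (.node (.leaf 188186674) (.leaf 146522160)) (.node (.leaf 185548848) (.leaf 338627493))))) (.node (.node (.node (.node (.leaf 159072304) (.leaf 199987108)) (.node (.leaf 331696184) (.leaf 176881712))) (.node (.node (.leaf 84102700) (.leaf 354093750)) (.node (.leaf 56639537) (.leaf 146595745)))) (.node (.node (.node (.leaf 138314489) (.leaf 176193584)) (.node (.leaf 198987121) (.leaf 229097520))) (.node (.node (.leaf 172513600) (.leaf 192285426)) (.node (.leaf 329351218) (.leaf 152371249)))))))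

/-- A Schreier factor, part 693. -/
def facCodePart693 : Janko1.Tree ℕ := (.node (.node (.node (.node (.node (.node (.leaf 153952298) (.leaf 229085269)) (.node (.leaf 233685040) (.leaf 187416625))) (.node (.node (.leaf 345906632) (.leaf 187482161)) (.node (.leaf 327982101) (.leaf 199202678)))) (.node (.node (.node (.leaf 185172017) (.leaf 145687822)) (.node (.leaf 158220337) (.leaf 147095601))) (.node (.node (.leaf 72319026) (.leaf 354076476)) (.node (.leaf 4325426) (.leaf 176898096))))) (.node (.node (.node (.node (.leaf 179327474) (.leaf 318079024)) (.node (.leaf 218038321) (.leaf 374046768))) (.node (.node (.leaf 285409328) (.leaf 230199952)) (.node (.leaf 267878448) (.leaf 318357552)))) (.node (.node (.node (.leaf 201359410) (.leaf 145457200)) (.node (.leaf 147488818) (.leaf 3918672))) (.node (.node (.leaf 49168432) (.leaf 198983728)) (.node (.leaf 227131608) (.leaf 228820734)))))) (.node (.node (.node (.node (.node (.leaf 174227621) (.leaf 87433374)) (.node (.leaf 375544661) (.leaf 3842456))) (.node (.node (.leaf 340181042) (.leaf 175886513))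 (.node (.leaf 111067185) (.leaf 11273400)))) (.node (.node (.node (.leaf 105758768) (.leaf 199022717)) (.node (.leaf 27050033) (.leaf 175915056))) (.node (.node (.leaf 122568754) (.leaf 230211632)) (.node (.leaf 59457586) (.leaf 318377597))))) (.node (.node (.node (.node (.leaf 302252082) (.leaf 354326385)) (.node (.leaf 131776561) (.leaf 177160240))) (.node (.node (.leaf 25353650) (.leaf 230164222)) (.node (.leaf 280936496) (.leaf 338903088)))) (.node (.node (.node (.leaf 39903230) (.leaf 146849840)) (.node (.leaf 87775312) (.leaf 22413361))) (.node (.node (.leaf 22593586) (.leaf 175931440)) (.node (.leaf 88921986) (.leaf 228794460)))))))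

/-- A Schreier factor, part 694. -/
def facCodePart694 : Janko1.Tree ℕ := (.node (.node (.node (.node (.node (.node (.leaf 227973149) (.leaf 175964208)) (.node (.leaf 33688648) (.leaf 228802608))) (.node (.node (.leaf 258903749) (.leaf 198973450)) (.node (.leaf 144965681) (.leaf 28491825)))) (.node (.node (.node (.leaf 150997036) (.leaf 177193008)) (.node (.leaf 230431020) (.leaf 338919472))) (.node (.node (.leaf 373293106) (.leaf 146882608)) (.node (.leaf 8912946) (.leaf 373866544))))) (.node (.node (.node (.node (.leaf 242715044) (.leaf 356470498)) (.node (.leaf 199311408) (.leaf 203538480))) (.node (.node (.leaf 39487676) (.leaf 149964228)) (.node (.leaf 231148338) (.leaf 229218276)))) (.node (.node (.node (.leaf 146866224) (.leaf 202702896)) (.node (.leaf 134840370) (.leaf 160792625))) (.node (.node (.leaf 311148594) (.leaf 160858161)) (.node (.leaf 349326193) (.leaf 227280550)))))) (.node (.node (.node (.node (.node (.leaf 190663370) (.leaf 227360817)) (.node (.leaf 214832202) (.leaf 229195824))) (.node (.node (.leaf 205750320) (.leaf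 202670128)) (.node (.leaf 159006768) (.leaf 176210262)))) (.node (.node (.node (.leaf 341311536) (.leaf 373833776)) (.node (.leaf 9977905) (.leaf 338690096))) (.node (.node (.leaf 345653296) (.leaf 320471088)) (.node (.leaf 138002482) (.leaf 176996400))))) (.node (.node (.node (.node (.leaf 187571997) (.leaf 203512580)) (.node (.leaf 161387620) (.leaf 356532937))) (.node (.node (.leaf 52481708) (.leaf 149053340)) (.node (.leaf 23560241) (.leaf 229163056)))) (.node (.node (.node (.leaf 354721686) (.leaf 202637793)) (.node (.leaf 115478576) (.leaf 218972209))) (.node (.node (.leaf 226754608) (.leaf 179060785)) (.node (.leaf 3850290) (.leaf 176226352)))))))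

/-- A Schreier factor, part 695. -/
def facCodePart695 : Janko1.Tree ℕ := (.node (.node (.node (.node (.node (.node (.leaf 185827376) (.leaf 214040625)) (.node (.leaf 179224624) (.leaf 174103952))) (.node (.node (.leaf 43630642) (.leaf 174198262)) (.node (.leaf 327909424) (.leaf 176963632)))) (.node (.node (.node (.leaf 161732162) (.leaf 149998762)) (.node (.leaf 158416945) (.leaf 229933104))) (.node (.node (.leaf 211198372) (.leaf 356505437)) (.node (.leaf 147128370) (.leaf 374095920))))) (.node (.node (.node (.node (.leaf 319771469) (.leaf 356718689)) (.node (.leaf 358187058) (.leaf 339001396))) (.node (.node (.leaf 227840049) (.leaf 230263205)) (.node (.leaf 89218402) (.leaf 203852304)))) (.node (.node (.node (.leaf 177799218) (.leaf 150293333)) (.node (.leaf 155683112) (.leaf 118947970))) (.node (.node (.leaf 218120241) (.leaf 228890057)) (.node (.leaf 114069462) (.leaf 176003941)))))) (.node (.node (.node (.node (.node (.leaf 208126826) (.leaf 148734000)) (.node (.leaf 26263602) (.leaf 45350961))) (.node (.node (.leaf 96993328) (.leaf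 202407984)) (.node (.leaf 55623730) (.leaf 148766768)))) (.node (.node (.node (.leaf 272158422) (.leaf 374112304)) (.node (.leaf 276535748) (.leaf 320756230))) (.node (.node (.leaf 111181837) (.leaf 230299629)) (.node (.leaf 33194032) (.leaf 203866160))))) (.node (.node (.node (.node (.leaf 91619377) (.leaf 150325574)) (.node (.leaf 286343218) (.leaf 230228016))) (.node (.node (.leaf 91054256) (.leaf 203786853)) (.node (.leaf 119325646) (.leaf 338940428)))) (.node (.node (.node (.leaf 81133616) (.leaf 320733232)) (.node (.leaf 59852881) (.leaf 356768917))) (.node (.node (.leaf 262946864) (.leaf 176052596)) (.node (.leaf 68705032) (.leaf 148805616)))))))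

/-- A Schreier factor, part 696. -/
def facCodePart696 : Janko1.Tree ℕ := (.node (.node (.node (.node (.node (.node (.leaf 4898865) (.leaf 228859237)) (.node (.leaf 285199456) (.leaf 202345804))) (.node (.node (.leaf 121880624) (.leaf 55480097)) (.node (.leaf 150650930) (.leaf 176066325)))) (.node (.node (.node (.leaf 322175809) (.leaf 148821136)) (.node (.leaf 355931134) (.leaf 228868144))) (.node (.node (.leaf 200577968) (.leaf 202375216)) (.node (.leaf 231211058) (.leaf 108929108))))) (.node (.node (.node (.node (.leaf 73732204) (.leaf 108986417)) (.node (.leaf 65820269) (.leaf 61751345))) (.node (.node (.leaf 174571570) (.leaf 61833265)) (.node (.leaf 258818096) (.leaf 177225776)))) (.node (.node (.node (.leaf 175554609) (.leaf 150356038)) (.node (.leaf 290013232) (.leaf 203817008))) (.node (.node (.leaf 228048945) (.leaf 338968624)) (.node (.leaf 198121292) (.leaf 356785710)))))) (.node (.node (.node (.node (.node (.leaf 293617714) (.leaf 318472240)) (.node (.leaf 38995429) (.leaf 203096112))) (.node (.node (.leaf 76152882) (.leaf 199688240))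 (.node (.leaf 225941281) (.leaf 320831536)))) (.node (.node (.node (.leaf 4491554) (.leaf 172923740)) (.node (.leaf 318849072) (.leaf 61064245))) (.node (.node (.leaf 205226033) (.leaf 66027570)) (.node (.leaf 368394288) (.leaf 10640388))))) (.node (.node (.node (.node (.leaf 173791382) (.leaf 11092018)) (.node (.leaf 214220850) (.leaf 54951986))) (.node (.node (.leaf 188071986) (.leaf 8249738)) (.node (.leaf 132908262) (.leaf 55574578)))) (.node (.node (.node (.leaf 96457712) (.leaf 372199357)) (.node (.leaf 108118065) (.leaf 318439472))) (.node (.node (.leaf 43679793) (.leaf 172900400)) (.node (.leaf 217415730) (.leaf 374521904)))))))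

/-- A Schreier factor, part 697. -/
def facCodePart697 : Janko1.Tree ℕ := (.node (.node (.node (.node (.node (.node (.leaf 365141473) (.leaf 199671856)) (.node (.leaf 160956466) (.leaf 320798768))) (.node (.node (.leaf 135233570) (.leaf 372268217)) (.node (.leaf 84443185) (.leaf 48660530)))) (.node (.node (.node (.leaf 56016945) (.leaf 49299506)) (.node (.leaf 103092176) (.leaf 39148441))) (.node (.node (.leaf 212566064) (.leaf 21790770)) (.node (.leaf 9388082) (.leaf 43270194))))) (.node (.node (.node (.node (.leaf 310083632) (.leaf 374509558)) (.node (.leaf 188219441) (.leaf 172949552))) (.node (.node (.leaf 237535281) (.leaf 199639088)) (.node (.leaf 376930352) (.leaf 320782384)))) (.node (.node (.node (.leaf 160415792) (.leaf 203063344)) (.node (.leaf 184713265) (.leaf 372236666))) (.node (.node (.leaf 375640214) (.leaf 318775073)) (.node (.leaf 177324082) (.leaf 203374640)))))) (.node (.node (.node (.node (.node (.leaf 201215729) (.leaf 199904742)) (.node (.leaf 121015977) (.leaf 321163349))) (.node (.node (.leaf 250217128) (.leaf 8175665))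 (.node (.leaf 191938609) (.leaf 177750960)))) (.node (.node (.node (.leaf 299319344) (.leaf 90669105)) (.node (.leaf 138496636) (.leaf 90705676))) (.node (.node (.leaf 58671152) (.leaf 134716538)) (.node (.leaf 268812338) (.leaf 182779954))))) (.node (.node (.node (.node (.leaf 6232189) (.leaf 179454002)) (.node (.leaf 254417313) (.leaf 176474212))) (.node (.node (.leaf 80298033) (.leaf 372523056)) (.node (.leaf 123928625) (.leaf 318788289)))) (.node (.node (.node (.leaf 66568240) (.leaf 321175600)) (.node (.leaf 59936761) (.leaf 173235018))) (.node (.node (.leaf 118620210) (.leaf 374816816)) (.node (.leaf 304627762) (.leaf 199852214)))))))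

/-- A Schreier factor, part 698. -/
def facCodePart698 : Janko1.Tree ℕ := (.node (.node (.node (.node (.node (.node (.leaf 87638066) (.leaf 318718000)) (.node (.leaf 112755241) (.leaf 203313185))) (.node (.node (.leaf 103864098) (.leaf 75038769)) (.node (.leaf 303497264) (.leaf 147234901)))) (.node (.node (.node (.leaf 39239729) (.leaf 164429874)) (.node (.leaf 230572082) (.leaf 166101042))) (.node (.node (.leaf 373476377) (.leaf 80789586)) (.node (.leaf 204668978) (.leaf 155926578))))) (.node (.node (.node (.node (.leaf 32282796) (.leaf 31710156)) (.node (.leaf 241638465) (.leaf 374853265))) (.node (.node (.leaf 225349746) (.leaf 199871458)) (.node (.leaf 308068400) (.leaf 321142832)))) (.node (.node (.node (.leaf 147984165) (.leaf 318753762)) (.node (.leaf 42205600) (.leaf 203349810))) (.node (.node (.leaf 98435120) (.leaf 176504880)) (.node (.leaf 171687985) (.leaf 372572208)))))) (.node (.node (.node (.node (.node (.leaf 200251402) (.leaf 149159984)) (.node (.leaf 151019678) (.leaf 354866962))) (.node (.node (.leaf 368329144) (.leaf 173017810))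 (.node (.leaf 221694156) (.leaf 145891553)))) (.node (.node (.node (.leaf 107348018) (.leaf 27918386)) (.node (.leaf 145784880) (.leaf 61033421))) (.node (.node (.leaf 225837104) (.leaf 32381357)) (.node (.leaf 275955762) (.leaf 28524594))))) (.node (.node (.node (.node (.leaf 71745586) (.leaf 61770857)) (.node (.leaf 30785585) (.leaf 59686962))) (.node (.node (.leaf 76841009) (.leaf 22511666)) (.node (.leaf 363642928) (.leaf 25903154)))) (.node (.node (.node (.leaf 214679602) (.leaf 176275504)) (.node (.leaf 232300078) (.leaf 372294836))) (.node (.node (.leaf 161529906) (.leaf 354829217)) (.node (.leaf 349505836) (.leaf 374562498)))))))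

/-- A Schreier factor, part 699. -/
def facCodePart699 : Janko1.Tree ℕ := (.node (.node (.node (.node (.node (.node (.leaf 190840882) (.leaf 357204016)) (.node (.leaf 51904561) (.leaf 374620208))) (.node (.node (.leaf 193200176) (.leaf 357221097)) (.node (.leaf 166730606) (.leaf 173049572)))) (.node (.node (.node (.leaf 318652464) (.leaf 149209136)) (.node (.leaf 372211760) (.leaf 372359216))) (.node (.node (.leaf 120062001) (.leaf 354893872)) (.node (.leaf 218939440) (.leaf 15155250))))) (.node (.node (.node (.node (.leaf 164872242) (.leaf 48594994)) (.node (.leaf 310958408) (.leaf 49251100))) (.node (.node (.leaf 161234993) (.leaf 3899442)) (.node (.leaf 186916472) (.leaf 39100430)))) (.node (.node (.node (.leaf 134873137) (.leaf 42572200)) (.node (.leaf 211845169) (.leaf 3063858))) (.node (.node (.leaf 376835900) (.leaf 8916996)) (.node (.leaf 237407309) (.leaf 43191592)))))) (.node (.node (.node (.node (.node (.leaf 278024976) (.leaf 176296661)) (.node (.leaf 8736164) (.leaf 372328808))) (.node (.node (.leaf 242552805) (.leaf 354879350))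 (.node (.leaf 90341424) (.leaf 149520432)))) (.node (.node (.node (.leaf 58736688) (.leaf 372604976)) (.node (.leaf 299286576) (.leaf 173299333))) (.node (.node (.leaf 120946736) (.leaf 150913074)) (.node (.leaf 174719026) (.leaf 177651762))))) (.node (.node (.node (.node (.leaf 150492198) (.leaf 42582065)) (.node (.leaf 66650160) (.leaf 156090418))) (.node (.node (.leaf 13664305) (.leaf 182698034)) (.node (.leaf 92348085) (.leaf 152797472)))) (.node (.node (.node (.leaf 128925744) (.leaf 372637744)) (.node (.leaf 60014642) (.leaf 355139632))) (.node (.node (.leaf 67993649) (.leaf 374898736)) (.node (.leaf 82133040) (.leaf 357467021)))))))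

/-- A Schreier factor, part 700. -/
def facCodePart700 : Janko1.Tree ℕ := (.node (.node (.node (.node (.node (.node (.leaf 50020400) (.leaf 173326384)) (.node (.leaf 249961174) (.leaf 149553200))) (.node (.node (.leaf 303433877) (.leaf 372671720)) (.node (.leaf 103764953) (.leaf 355161452)))) (.node (.node (.node (.leaf 15663152) (.leaf 161005618)) (.node (.leaf 55771186) (.leaf 59066584))) (.node (.node (.leaf 286507058) (.leaf 59015217)) (.node (.leaf 251035698) (.leaf 164386108))))) (.node (.node (.node (.node (.leaf 74711088) (.leaf 166035470)) (.node (.leaf 198918364) (.leaf 65224753))) (.node (.node (.leaf 254771248) (.leaf 65273905)) (.node (.leaf 308003374) (.leaf 142460498)))) (.node (.node (.node (.leaf 225299372) (.leaf 169465682)) (.node (.leaf 177914209) (.leaf 146215514))) (.node (.node (.leaf 356032225) (.leaf 176537648)) (.node (.leaf 200720434) (.leaf 149587330)))))) (.node (.node (.node (.node (.node (.leaf 146964530) (.leaf 372686896)) (.node (.leaf 319608793) (.leaf 355194290))) (.node (.node (.leaf 150339632) (.leaf 162906160))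 (.node (.leaf 143613450) (.leaf 327852153)))) (.node (.node (.node (.leaf 223907776) (.leaf 189353338)) (.node (.leaf 172056484) (.leaf 186144590))) (.node (.node (.leaf 175390769) (.leaf 347865136)) (.node (.leaf 148080996) (.leaf 159749382))))) (.node (.node (.node (.node (.leaf 202588208) (.leaf 108290277)) (.node (.leaf 176144432) (.leaf 81432628))) (.node (.node (.leaf 195779237) (.leaf 129171506)) (.node (.leaf 306823218) (.leaf 96796722)))) (.node (.node (.node (.leaf 308641842) (.leaf 77643826)) (.node (.leaf 40271921) (.leaf 90865714))) (.node (.node (.leaf 5036396) (.leaf 118850382)) (.node (.leaf 68894769) (.leaf 71712818)))))))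

/-- A Schreier factor, part 701. -/
def facCodePart701 : Janko1.Tree ℕ := (.node (.node (.node (.node (.node (.node (.leaf 182353968) (.leaf 345604144)) (.node (.leaf 162316336) (.leaf 189333552))) (.node (.node (.leaf 380765125) (.leaf 186108736)) (.node (.leaf 344817714) (.leaf 330160794)))) (.node (.node (.node (.leaf 223577477) (.leaf 133486138)) (.node (.leaf 149962800) (.leaf 212688068))) (.node (.node (.leaf 229998640) (.leaf 312000560)) (.node (.leaf 169066544) (.leaf 96698418))))) (.node (.node (.node (.node (.leaf 202293296) (.leaf 112427058)) (.node (.leaf 137510960) (.leaf 119019580))) (.node (.node (.leaf 237132154) (.leaf 71585576)) (.node (.leaf 165217569) (.leaf 86769714)))) (.node (.node (.node (.leaf 138559537) (.leaf 123027506)) (.node (.leaf 189077352) (.leaf 365715366))) (.node (.node (.leaf 182599728) (.leaf 311984176)) (.node (.leaf 271384626) (.leaf 363511856)))))) (.node (.node (.node (.node (.node (.leaf 21415144) (.leaf 163126316)) (.node (.leaf 12305982) (.leaf 328122416))) (.node (.node (.leaf 109985840) (.leaf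 189628464)) (.node (.leaf 185303089) (.leaf 186400816)))) (.node (.node (.node (.leaf 158679089) (.leaf 330547248)) (.node (.leaf 162075168) (.leaf 348135846))) (.node (.node (.leaf 53510192) (.leaf 190849213)) (.node (.leaf 77482060) (.leaf 230759346))))) (.node (.node (.node (.node (.leaf 45219888) (.leaf 25968872)) (.node (.leaf 371179570) (.leaf 26001457))) (.node (.node (.leaf 369166792) (.leaf 187680968)) (.node (.leaf 29311024) (.leaf 80969777)))) (.node (.node (.node (.leaf 2283114) (.leaf 235788512)) (.node (.leaf 102129504) (.leaf 31768625))) (.node (.node (.leaf 92967493) (.leaf 163151920)) (.node (.leaf 69393325) (.leaf 328155184)))))))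

/-- A Schreier factor, part 702. -/
def facCodePart702 : Janko1.Tree ℕ := (.node (.node (.node (.node (.node (.node (.leaf 36657117) (.leaf 189661232)) (.node (.leaf 297779250) (.leaf 186417200))) (.node (.node (.leaf 299941938) (.leaf 348162686)) (.node (.leaf 264180520) (.leaf 160038960)))) (.node (.node (.node (.leaf 12032580) (.leaf 365969456)) (.node (.leaf 109707312) (.leaf 133759024))) (.node (.node (.leaf 117854281) (.leaf 312267304)) (.node (.leaf 44075605) (.leaf 310100016))))) (.node (.node (.node (.node (.leaf 9535537) (.leaf 216219696)) (.node (.leaf 64716849) (.leaf 136927293))) (.node (.node (.leaf 77217840) (.leaf 227524658)) (.node (.leaf 44964338) (.leaf 90937358)))) (.node (.node (.node (.leaf 85114928) (.leaf 8306737)) (.node (.leaf 53231664) (.leaf 187522052))) (.node (.node (.leaf 300007474) (.leaf 190660658)) (.node (.leaf 264224818) (.leaf 8290353)))))) (.node (.node (.node (.node (.node (.leaf 262048694) (.leaf 230935449)) (.node (.leaf 29573721) (.leaf 15270517))) (.node (.node (.leaf 126222384) (.leaf 192380978))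 (.node (.leaf 168795938) (.leaf 195739698)))) (.node (.node (.node (.leaf 178755060) (.leaf 96833114)) (.node (.leaf 93290970) (.leaf 212965149))) (.node (.node (.leaf 61669424) (.leaf 312295472)) (.node (.leaf 369147954) (.leaf 310132784))))) (.node (.node (.node (.node (.leaf 288948274) (.leaf 162994737)) (.node (.leaf 95354930) (.leaf 136711404))) (.node (.node (.leaf 144923808) (.leaf 76963344)) (.node (.leaf 148279633) (.leaf 97223937)))) (.node (.node (.node (.leaf 352781373) (.leaf 129058121)) (.node (.leaf 230375472) (.leaf 93356082))) (.node (.node (.leaf 197771313) (.leaf 124911666)) (.node (.leaf 223960430) (.leaf 80805938)))))))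

/-- A Schreier factor, part 703. -/
def facCodePart703 : Janko1.Tree ℕ := (.node (.node (.node (.node (.node (.node (.leaf 201179185) (.leaf 112197682)) (.node (.leaf 210982501) (.leaf 102440362))) (.node (.node (.leaf 360581505) (.leaf 91357234)) (.node (.leaf 184959026) (.leaf 118787649)))) (.node (.node (.node (.leaf 181518386) (.leaf 106205042)) (.node (.leaf 361365552) (.leaf 136683081))) (.node (.node (.leaf 347963440) (.leaf 309936176)) (.node (.leaf 236832780) (.leaf 330252336))))) (.node (.node (.node (.node (.leaf 72193306) (.leaf 312066248)) (.node (.leaf 216744025) (.leaf 159809584))) (.node (.node (.leaf 207487026) (.leaf 347964877)) (.node (.leaf 362741810) (.leaf 212750116)))) (.node (.node (.node (.leaf 210912604) (.leaf 186174116)) (.node (.leaf 168987608) (.leaf 215980834))) (.node (.node (.leaf 175767600) (.leaf 363628992)) (.node (.leaf 184930218) (.leaf 345723822)))))) (.node (.node (.node (.node (.node (.leaf 357014908) (.leaf 112361522)) (.node (.leaf 223641648) (.leaf 77126238))) (.node (.node (.leaf 91897905) (.leaf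 108347442)) (.node (.leaf 230064176) (.leaf 97339448)))) (.node (.node (.node (.leaf 291113145) (.leaf 87528684)) (.node (.leaf 99128116) (.leaf 118938534))) (.node (.node (.leaf 288969204) (.leaf 75186226)) (.node (.leaf 162545712) (.leaf 71254066))))) (.node (.node (.node (.node (.leaf 182555954) (.leaf 91521074)) (.node (.leaf 64346948) (.leaf 122951993))) (.node (.node (.leaf 155451441) (.leaf 365789232)) (.node (.leaf 348258352) (.leaf 347932618)))) (.node (.node (.node (.leaf 138723377) (.leaf 212736624)) (.node (.leaf 207863857) (.leaf 189371520))) (.node (.node (.leaf 237196850) (.leaf 363600140)) (.node (.leaf 351338546) (.leaf 328212385)))))))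

/-- A Schreier factor, part 704. -/
def facCodePart704 : Janko1.Tree ℕ := (.node (.node (.node (.node (.node (.node (.leaf 193825569) (.leaf 310204714)) (.node (.leaf 171360306) (.leaf 312410160))) (.node (.node (.leaf 167755826) (.leaf 133808176)) (.node (.leaf 158899973) (.leaf 106348593)))) (.node (.node (.node (.leaf 135940929) (.leaf 204363597)) (.node (.leaf 278894706) (.leaf 230686770))) (.node (.node (.leaf 110087381) (.leaf 106365704)) (.node (.leaf 279773234) (.leaf 112377905))))) (.node (.node (.node (.node (.leaf 282050610) (.leaf 209224820)) (.node (.leaf 82905089) (.leaf 235721002))) (.node (.node (.leaf 47384630) (.leaf 232407090)) (.node (.leaf 36575072) (.leaf 112395213)))) (.node (.node (.node (.leaf 51416813) (.leaf 112459825)) (.node (.leaf 23314481) (.leaf 163217456))) (.node (.node (.leaf 287424560) (.leaf 136937520)) (.node (.leaf 126044089) (.leaf 330614093)))))) (.node (.node (.node (.node (.node (.leaf 87613633) (.leaf 312427320)) (.node (.leaf 79183922) (.leaf 186433564))) (.node (.node (.leaf 117921626) (.leaf 204455986))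 (.node (.leaf 197230642) (.leaf 48758833)))) (.node (.node (.node (.leaf 36872602) (.leaf 48698948)) (.node (.leaf 167747628) (.leaf 48748862))) (.node (.node (.leaf 61587504) (.leaf 209371186)) (.node (.leaf 171393074) (.leaf 235870205))))) (.node (.node (.node (.node (.leaf 141918257) (.leaf 366018608)) (.node (.leaf 152092721) (.leaf 213024816))) (.node (.node (.leaf 287774704) (.leaf 186469028)) (.node (.leaf 194595604) (.leaf 189698781)))) (.node (.node (.node (.leaf 306957809) (.leaf 133857328)) (.node (.leaf 63815730) (.leaf 347390000))) (.node (.node (.leaf 308976584) (.leaf 311263280)) (.node (.leaf 148966461) (.leaf 216702620)))))))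

/-- A Schreier factor, part 705. -/
def facCodePart705 : Janko1.Tree ℕ := (.node (.node (.node (.node (.node (.node (.leaf 142366273) (.leaf 363085872)) (.node (.leaf 225198129) (.leaf 133087280))) (.node (.node (.leaf 370594218) (.leaf 185974832)) (.node (.leaf 203833392) (.leaf 215863684)))) (.node (.node (.node (.leaf 196989293) (.leaf 192191840)) (.node (.leaf 380993586) (.leaf 133059701))) (.node (.node (.leaf 184483890) (.leaf 187220017)) (.node (.leaf 180944946) (.leaf 185963865))))) (.node (.node (.node (.node (.leaf 378636798) (.leaf 347376226)) (.node (.leaf 132531005) (.leaf 311247757))) (.node (.node (.leaf 365903920) (.leaf 186843184)) (.node (.leaf 68454082) (.leaf 163287162)))) (.node (.node (.node (.leaf 377880626) (.leaf 345227312)) (.node (.leaf 180977741) (.leaf 137035824))) (.node (.node (.leaf 184467506) (.leaf 309075129)) (.node (.leaf 142119957) (.leaf 329468546)))))) (.node (.node (.node (.node (.node (.leaf 148654384) (.leaf 160170032)) (.node (.leaf 158123746) (.leaf 365347397))) (.node (.node (.leaf 112066609) (.leaf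 189153328)) (.node (.leaf 374571056) (.leaf 138985521)))) (.node (.node (.node (.leaf 196706352) (.leaf 139067441)) (.node (.leaf 203505712) (.leaf 159319652))) (.node (.node (.leaf 308920370) (.leaf 200556593)) (.node (.leaf 63850073) (.leaf 134401878))))) (.node (.node (.node (.node (.leaf 30900274) (.leaf 200654897)) (.node (.leaf 235077681) (.leaf 345194544))) (.node (.node (.leaf 366190050) (.leaf 137003056)) (.node (.leaf 218382385) (.leaf 189930865)))) (.node (.node (.node (.leaf 190236705) (.leaf 329449520)) (.node (.leaf 181343108) (.leaf 213404778))) (.node (.node (.leaf 164544561) (.leaf 365330480)) (.node (.leaf 170710924) (.leaf 347640072)))))))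

/-- A Schreier factor, part 706. -/
def facCodePart706 : Janko1.Tree ℕ := (.node (.node (.node (.node (.node (.node (.leaf 141156678) (.leaf 163579526)) (.node (.leaf 238094902) (.leaf 132714662))) (.node (.node (.leaf 301565448) (.leaf 71600466)) (.node (.leaf 215253041) (.leaf 22315057)))) (.node (.node (.node (.leaf 86594654) (.leaf 215539904)) (.node (.leaf 185047186) (.leaf 22382378))) (.node (.node (.leaf 78659632) (.leaf 71647281)) (.node (.leaf 297910322) (.leaf 132747349))))) (.node (.node (.node (.node (.leaf 46972978) (.leaf 77496369)) (.node (.leaf 13836318) (.leaf 28409905))) (.node (.node (.leaf 18236729) (.leaf 162238149)) (.node (.leaf 305613133) (.leaf 347668528)))) (.node (.node (.node (.leaf 115802161) (.leaf 311590960)) (.node (.leaf 70556129) (.leaf 363331632))) (.node (.node (.leaf 51560497) (.leaf 163610672)) (.node (.leaf 50954290) (.leaf 137265362)))))) (.node (.node (.node (.node (.node (.leaf 10903974) (.leaf 329695280)) (.node (.leaf 18268210) (.leaf 213614640))) (.node (.node (.leaf 19974073) (.leaf 160451780))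 (.node (.leaf 107741233) (.leaf 87343153)))) (.node (.node (.node (.leaf 128027932) (.leaf 188941501)) (.node (.leaf 301236272) (.leaf 3654110))) (.node (.node (.leaf 78351621) (.leaf 3726922)) (.node (.leaf 43438185) (.leaf 212259768))))) (.node (.node (.node (.node (.leaf 369313208) (.leaf 93312012)) (.node (.leaf 170772886) (.leaf 11075792))) (.node (.node (.leaf 292543541) (.leaf 137281584)) (.node (.leaf 70844464) (.leaf 329729433)))) (.node (.node (.node (.leaf 168230961) (.leaf 213631024)) (.node (.leaf 225167196) (.leaf 309221233))) (.node (.node (.leaf 201949233) (.leaf 363192172)) (.node (.leaf 316901756) (.leaf 345279340)))))))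

/-- A Schreier factor, part 707. -/
def facCodePart707 : Janko1.Tree ℕ := (.node (.node (.node (.node (.node (.node (.leaf 289096889) (.leaf 215924784)) (.node (.leaf 95436850) (.leaf 189274726))) (.node (.node (.leaf 30408754) (.leaf 178950085)) (.node (.leaf 253498393) (.leaf 179019142)))) (.node (.node (.node (.leaf 291292038) (.leaf 218809345)) (.node (.leaf 99342576) (.leaf 218874172))) (.node (.node (.leaf 34736005) (.leaf 162599688)) (.node (.leaf 255770674) (.leaf 136266662))))) (.node (.node (.node (.node (.leaf 325820521) (.leaf 189254857)) (.node (.leaf 104057446) (.leaf 174080049))) (.node (.node (.leaf 100506857) (.leaf 213784248)) (.node (.leaf 211124274) (.leaf 190038064)))) (.node (.node (.node (.leaf 326885212) (.leaf 309182512)) (.node (.leaf 360712253) (.leaf 363167792))) (.node (.node (.leaf 324665394) (.leaf 137056445)) (.node (.leaf 316689054) (.leaf 311313506)))))) (.node (.node (.node (.node (.node (.leaf 370295808) (.leaf 213467926)) (.node (.leaf 207618098) (.leaf 165642289))) (.node (.node (.leaf 362911086) (.leaf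 159417821)) (.node (.leaf 157292480) (.leaf 232177713)))) (.node (.node (.node (.leaf 326835794) (.leaf 232226865)) (.node (.leaf 366084144) (.leaf 212566608))) (.node (.node (.leaf 191876345) (.leaf 159385886)) (.node (.leaf 378871369) (.leaf 227149222))))) (.node (.node (.node (.node (.leaf 218349617) (.leaf 227246129)) (.node (.leaf 99293184) (.leaf 311280622))) (.node (.node (.leaf 289114352) (.leaf 160251952)) (.node (.leaf 248086576) (.leaf 190365744)))) (.node (.node (.node (.leaf 301484260) (.leaf 327405137)) (.node (.leaf 188732833) (.leaf 363430242))) (.node (.node (.leaf 296910896) (.leaf 163693322)) (.node (.leaf 353665074) (.leaf 215597104)))))))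

/-- A Schreier factor, part 708. -/
def facCodePart708 : Janko1.Tree ℕ := (.node (.node (.node (.node (.node (.node (.leaf 197345330) (.leaf 189008636)) (.node (.leaf 88342577) (.leaf 215633237))) (.node (.node (.leaf 252264496) (.leaf 189028226)) (.node (.leaf 119767089) (.leaf 61690932)))) (.node (.node (.node (.leaf 292159536) (.leaf 162267184)) (.node (.leaf 79364146) (.leaf 190386422))) (.node (.node (.leaf 244514866) (.leaf 309510481)) (.node (.leaf 17550865) (.leaf 163712940))))) (.node (.node (.node (.node (.leaf 76578865) (.leaf 329777200)) (.node (.leaf 127942705) (.leaf 347767518))) (.node (.node (.leaf 282230834) (.leaf 38934210)) (.node (.leaf 83083314) (.leaf 38983913)))) (.node (.node (.node (.leaf 79347762) (.leaf 132841520)) (.node (.leaf 244498482) (.leaf 118898737))) (.node (.node (.leaf 195383697) (.leaf 45170737)) (.node (.leaf 239321136) (.leaf 45236273)))))) (.node (.node (.node (.node (.node (.leaf 205641225) (.leaf 159096354)) (.node (.leaf 252592176) (.leaf 132874288))) (.node (.node (.leaf 351542405) (.leaf 329796168))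 (.node (.leaf 193954094) (.leaf 311648514)))) (.node (.node (.node (.leaf 140591154) (.leaf 213702018)) (.node (.leaf 315327722) (.leaf 187176262))) (.node (.node (.leaf 197394482) (.leaf 134255025)) (.node (.leaf 317429984) (.leaf 347800702))))) (.node (.node (.node (.node (.leaf 351553662) (.leaf 160157085)) (.node (.leaf 204095537) (.leaf 162529328))) (.node (.node (.leaf 40206386) (.leaf 155751542)) (.node (.leaf 275316786) (.leaf 159301680)))) (.node (.node (.node (.leaf 340745808) (.leaf 162521122)) (.node (.leaf 358614740) (.leaf 190431281))) (.node (.node (.leaf 242028826) (.leaf 150437937)) (.node (.leaf 259489841) (.leaf 215843826)))))))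

/-- A Schreier factor, part 709. -/
def facCodePart709 : Janko1.Tree ℕ := (.node (.node (.node (.node (.node (.node (.leaf 232816688) (.leaf 212533296)) (.node (.leaf 127205425) (.leaf 345164458))) (.node (.node (.leaf 165478450) (.leaf 309123961)) (.node (.leaf 348868888) (.leaf 160121566)))) (.node (.node (.node (.leaf 349618224) (.leaf 133890096)) (.node (.leaf 248348721) (.leaf 186826800))) (.node (.node (.leaf 139690032) (.leaf 189956144)) (.node (.leaf 83296305) (.leaf 208985257))))) (.node (.node (.node (.node (.leaf 114982961) (.leaf 133152816)) (.node (.leaf 162086962) (.leaf 185950104))) (.node (.node (.leaf 215171122) (.leaf 142035300)) (.node (.leaf 17324460) (.leaf 189174024)))) (.node (.node (.node (.leaf 346591274) (.leaf 208994353)) (.node (.leaf 327344265) (.leaf 204111921))) (.node (.node (.leaf 326131653) (.leaf 185932701)) (.node (.leaf 213113916) (.leaf 137610358)))))) (.node (.node (.node (.node (.node (.leaf 133791792) (.leaf 189136944)) (.node (.leaf 380178905) (.leaf 136237433))) (.node (.node (.leaf 3016852) (.leaf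 327048884)) (.node (.leaf 71173410) (.leaf 189939760)))) (.node (.node (.node (.leaf 242046806) (.leaf 137022940)) (.node (.leaf 277381170) (.leaf 363135024))) (.node (.node (.leaf 267309310) (.leaf 163599810)) (.node (.leaf 324126626) (.leaf 309411888))))) (.node (.node (.node (.node (.leaf 121552944) (.leaf 213663792)) (.node (.leaf 25042281) (.leaf 311574576))) (.node (.node (.leaf 377754021) (.leaf 347655940)) (.node (.leaf 321437746) (.leaf 75534650)))) (.node (.node (.node (.leaf 357714956) (.leaf 159011376)) (.node (.leaf 289162182) (.leaf 81281073))) (.node (.node (.leaf 129531952) (.leaf 212287536)) (.node (.leaf 32669744) (.leaf 32178225)))))))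

/-- A Schreier factor, part 710. -/
def facCodePart710 : Janko1.Tree ℕ := (.node (.node (.node (.node (.node (.node (.leaf 304449078) (.leaf 81272954)) (.node (.leaf 286495141) (.leaf 159039536))) (.node (.node (.leaf 79265841) (.leaf 163627056)) (.node (.leaf 110608433) (.leaf 345505840)))) (.node (.node (.node (.leaf 56328242) (.leaf 309451750)) (.node (.leaf 12615729) (.leaf 311607344))) (.node (.node (.leaf 248109216) (.leaf 347684912)) (.node (.leaf 283676128) (.leaf 160433577))))) (.node (.node (.node (.node (.leaf 262471728) (.leaf 365527088)) (.node (.leaf 280330288) (.leaf 134135856))) (.node (.node (.leaf 239468593) (.leaf 187111642)) (.node (.leaf 257114404) (.leaf 329712156)))) (.node (.node (.node (.leaf 16286269) (.leaf 190251056)) (.node (.leaf 275662873) (.leaf 363388220))) (.node (.node (.leaf 98910257) (.leaf 91411081)) (.node (.leaf 131469442) (.leaf 132781937)))))) (.node (.node (.node (.node (.node (.leaf 60559278) (.leaf 185666034)) (.node (.leaf 335616990) (.leaf 15747712))) (.node (.node (.leaf 105449305) (.leaf 15767745))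 (.node (.leaf 371383164) (.leaf 136037785)))) (.node (.node (.node (.leaf 353994300) (.leaf 97275000)) (.node (.leaf 200956722) (.leaf 365546742))) (.node (.node (.leaf 227595606) (.leaf 134152240)) (.node (.leaf 175380622) (.leaf 187145408))))) (.node (.node (.node (.node (.leaf 228360242) (.leaf 329744432)) (.node (.leaf 40583216) (.leaf 327303216))) (.node (.node (.leaf 73031329) (.leaf 190267440)) (.node (.leaf 355516466) (.leaf 363413552)))) (.node (.node (.node (.leaf 102596658) (.leaf 216743984)) (.node (.leaf 193970225) (.leaf 160238570))) (.node (.node (.leaf 226480762) (.leaf 136287364)) (.node (.leaf 336699166) (.leaf 186040368)))))))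

/-- A Schreier factor, part 711. -/
def facCodePart711 : Janko1.Tree ℕ := (.node (.node (.node (.node (.node (.node (.leaf 349948488) (.leaf 159370286)) (.node (.leaf 328670501) (.leaf 162583534))) (.node (.node (.leaf 29835313) (.leaf 136251085)) (.node (.leaf 135905330) (.leaf 212615220)))) (.node (.node (.node (.leaf 288869384) (.leaf 163334105)) (.node (.leaf 232882224) (.leaf 137071180))) (.node (.node (.leaf 295845937) (.leaf 190054448)) (.node (.leaf 345063472) (.leaf 160202800))))) (.node (.node (.node (.node (.leaf 330965128) (.leaf 365401801)) (.node (.leaf 17241085) (.leaf 347475505))) (.node (.node (.leaf 87425073) (.leaf 363216944)) (.node (.leaf 282312753) (.leaf 235470897)))) (.node (.node (.node (.leaf 145932336) (.leaf 168938673)) (.node (.leaf 263864369) (.leaf 168951857))) (.node (.node (.leaf 331808816) (.leaf 169033777)) (.node (.leaf 354177137) (.leaf 235491346)))))) (.node (.node (.node (.node (.node (.leaf 248581338) (.leaf 235552793)) (.node (.leaf 257266637) (.leaf 230444889))) (.node (.node (.leaf 38459616) (.leaf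 230522929)) (.node (.leaf 5161010) (.leaf 163954737)))) (.node (.node (.node (.leaf 213778481) (.leaf 164036657)) (.node (.leaf 210736549) (.leaf 230480905))) (.node (.node (.leaf 153212720) (.leaf 329539396)) (.node (.leaf 380321841) (.leaf 311299268))))) (.node (.node (.node (.node (.leaf 328319025) (.leaf 327073840)) (.node (.leaf 56803376) (.leaf 137297968))) (.node (.node (.leaf 80871472) (.leaf 216924208)) (.node (.leaf 148201097) (.leaf 213729328)))) (.node (.node (.node (.leaf 217322533) (.leaf 187191229)) (.node (.leaf 207667829) (.leaf 160467906))) (.node (.node (.leaf 205247513) (.leaf 134188652)) (.node (.leaf 16465968) (.leaf 215621157)))))))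

/-- A Schreier factor, part 712. -/
def facCodePart712 : Janko1.Tree ℕ := (.node (.node (.node (.node (.node (.node (.leaf 280747453) (.leaf 159078228)) (.node (.leaf 324341960) (.leaf 132809701))) (.node (.node (.leaf 268194030) (.leaf 162290544)) (.node (.leaf 12523946) (.leaf 136056808)))) (.node (.node (.node (.leaf 110468153) (.leaf 185748509)) (.node (.leaf 88199012) (.leaf 132831281))) (.node (.node (.leaf 279697384) (.leaf 163728276)) (.node (.leaf 129630256) (.leaf 137314352))))) (.node (.node (.node (.node (.leaf 6881328) (.leaf 216940592)) (.node (.leaf 261423153) (.leaf 213762096))) (.node (.node (.leaf 271548464) (.leaf 187203632)) (.node (.leaf 276095216) (.leaf 160497712)))) (.node (.node (.node (.leaf 250610626) (.leaf 134221213)) (.node (.leaf 265814066) (.leaf 365625392))) (.node (.node (.leaf 33822221) (.leaf 347790585)) (.node (.leaf 304185394) (.leaf 311623728)))))) (.node (.node (.node (.node (.node (.leaf 23252129) (.leaf 327352368)) (.node (.leaf 131039281) (.leaf 309477424))) (.node (.node (.leaf 113250846) (.leaf 122917900))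 (.node (.leaf 284678433) (.leaf 122863665)))) (.node (.node (.node (.leaf 339476530) (.leaf 129144725)) (.node (.leaf 372884389) (.leaf 49135665))) (.node (.node (.leaf 151748658) (.leaf 49070129)) (.node (.leaf 197594922) (.leaf 129162048))))) (.node (.node (.node (.node (.leaf 201787156) (.leaf 129253425)) (.node (.leaf 356089905) (.leaf 365641776))) (.node (.node (.leaf 105529473) (.leaf 347815984)) (.node (.leaf 371450001) (.leaf 311656496)))) (.node (.node (.node (.leaf 337809517) (.leaf 327389345)) (.node (.leaf 258244656) (.leaf 309493808))) (.node (.node (.leaf 75029889) (.leaf 347848752)) (.node (.leaf 3194930) (.leaf 330170416)))))))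

/-- A Schreier factor, part 713. -/
def facCodePart713 : Janko1.Tree ℕ := (.node (.node (.node (.node (.node (.node (.leaf 275175017) (.leaf 212716566)) (.node (.leaf 340131889) (.leaf 76873778))) (.node (.node (.leaf 199819312) (.leaf 81444914)) (.node (.leaf 166370360) (.leaf 129189277)))) (.node (.node (.node (.leaf 315540958) (.leaf 124534834)) (.node (.leaf 368590897) (.leaf 112295986))) (.node (.node (.leaf 310575154) (.leaf 71041074)) (.node (.leaf 94947870) (.leaf 75661362))))) (.node (.node (.node (.node (.leaf 161958598) (.leaf 90898482)) (.node (.leaf 63930417) (.leaf 87284077))) (.node (.node (.leaf 271302705) (.leaf 133471385)) (.node (.leaf 206225456) (.leaf 347832368)))) (.node (.node (.node (.leaf 288281569) (.leaf 189325612)) (.node (.leaf 295231640) (.leaf 162889776))) (.node (.node (.leaf 312871142) (.leaf 345620528)) (.node (.leaf 82794276) (.leaf 136658992)))))) (.node (.node (.node (.node (.node (.leaf 346479162) (.leaf 327827504)) (.node (.leaf 264421425) (.leaf 93454386))) (.node (.node (.leaf 172933820) (.leaf 112449352))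 (.node (.leaf 249102385) (.leaf 108792437)))) (.node (.node (.node (.leaf 313704496) (.leaf 77021234)) (.node (.leaf 302059178) (.leaf 129339396))) (.node (.node (.leaf 239853410) (.leaf 87410998)) (.node (.leaf 71049397) (.leaf 90689653))))) (.node (.node (.node (.node (.leaf 277258124) (.leaf 103040341)) (.node (.leaf 40028238) (.leaf 75546674))) (.node (.node (.leaf 160825393) (.leaf 71172146)) (.node (.leaf 156929466) (.leaf 118195660)))) (.node (.node (.node (.leaf 179798064) (.leaf 215946514)) (.node (.leaf 326713393) (.leaf 327802488))) (.node (.node (.leaf 346081953) (.leaf 311967792)) (.node (.leaf 309549768) (.leaf 186056752)))))))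

/-- A Schreier factor, part 714. -/
def facCodePart714 : Janko1.Tree ℕ := (.node (.node (.node (.node (.node (.node (.leaf 379273265) (.leaf 365690928)) (.node (.leaf 319212713) (.leaf 133700830))) (.node (.node (.leaf 24002608) (.leaf 348110896)) (.node (.leaf 112492592) (.leaf 330534028)))) (.node (.node (.node (.leaf 357551949) (.leaf 212980178)) (.node (.leaf 175148966) (.leaf 189614592))) (.node (.node (.leaf 331677745) (.leaf 71191485)) (.node (.leaf 49643568) (.leaf 230792753))))) (.node (.node (.node (.node (.leaf 324995238) (.leaf 21905457)) (.node (.leaf 250544178) (.leaf 77054001))) (.node (.node (.leaf 47087665) (.leaf 205970182)) (.node (.leaf 119906014) (.leaf 77152305)))) (.node (.node (.node (.leaf 261948296) (.leaf 133709872)) (.node (.leaf 97503569) (.leaf 348150340))) (.node (.node (.leaf 41435184) (.leaf 330563632)) (.node (.leaf 279203238) (.leaf 189644848)))))) (.node (.node (.node (.node (.node (.leaf 293930648) (.leaf 363759942)) (.node (.leaf 304090733) (.leaf 163135601))) (.node (.node (.leaf 248222728) (.leaf 345932361))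 (.node (.leaf 14964518) (.leaf 136910868)))) (.node (.node (.node (.leaf 285802546) (.leaf 328062328)) (.node (.leaf 67572838) (.leaf 186370032))) (.node (.node (.leaf 123994162) (.leaf 365953072)) (.node (.leaf 273338581) (.leaf 200984442))))) (.node (.node (.node (.node (.leaf 81674288) (.leaf 86917169)) (.node (.leaf 57655344) (.leaf 3178545))) (.node (.node (.leaf 245107092) (.leaf 3119409)) (.node (.leaf 128687336) (.leaf 10649649)))) (.node (.node (.node (.leaf 178356274) (.leaf 195762541)) (.node (.leaf 174473265) (.leaf 10600497))) (.node (.node (.leaf 143933816) (.leaf 92897329)) (.node (.leaf 228475629) (.leaf 235947353)))))))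

/-- A Schreier factor, part 715. -/
def facCodePart715 : Janko1.Tree ℕ := (.node (.node (.node (.node (.node (.node (.leaf 338352925) (.leaf 345948208)) (.node (.leaf 355589325) (.leaf 312283841))) (.node (.node (.leaf 241025072) (.leaf 186384432)) (.node (.leaf 314081328) (.leaf 212779056)))) (.node (.node (.node (.leaf 350945329) (.leaf 186207833)) (.node (.leaf 166412336) (.leaf 345669680))) (.node (.node (.leaf 333676593) (.leaf 136691760)) (.node (.leaf 167205973) (.leaf 129081417))))) (.node (.node (.node (.node (.leaf 72941618) (.leaf 124452914)) (.node (.leaf 292996834) (.leaf 112220825))) (.node (.node (.leaf 363074930) (.leaf 122815300)) (.node (.leaf 309335560) (.leaf 86957830)))) (.node (.node (.node (.leaf 277364785) (.leaf 118259762)) (.node (.leaf 159678512) (.leaf 103088178))) (.node (.node (.leaf 260145201) (.leaf 106217522)) (.node (.leaf 138739762) (.leaf 330235952)))))) (.node (.node (.node (.node (.node (.leaf 331104549) (.leaf 363528240)) (.node (.leaf 371720240) (.leaf 189382704))) (.node (.node (.leaf 318146553) (.leaf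 327860272)) (.node (.leaf 284008758) (.leaf 309907885)))) (.node (.node (.node (.leaf 248856625) (.leaf 159850769)) (.node (.leaf 173039644) (.leaf 133501934))) (.node (.node (.leaf 266831126) (.leaf 347949837)) (.node (.leaf 135678197) (.leaf 80953394))))) (.node (.node (.node (.node (.leaf 22419585) (.leaf 77546177)) (.node (.leaf 188751916) (.leaf 108691506))) (.node (.node (.leaf 328794162) (.leaf 92700722)) (.node (.leaf 86826361) (.leaf 124323788)))) (.node (.node (.node (.leaf 118364702) (.leaf 97354672)) (.node (.leaf 364339381) (.leaf 129277293))) (.node (.node (.leaf 379109425) (.leaf 75202610)) (.node (.leaf 179871122) (.leaf 118098198)))))))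

/-- A Schreier factor, part 716. -/
def facCodePart716 : Janko1.Tree ℕ := (.node (.node (.node (.node (.node (.node (.leaf 344457265) (.leaf 122978354)) (.node (.leaf 106233906) (.leaf 365772848))) (.node (.node (.leaf 295190578) (.leaf 347921788)) (.node (.leaf 377290801) (.leaf 330596400)))) (.node (.node (.node (.leaf 298784678) (.leaf 312397868)) (.node (.leaf 245563440) (.leaf 213041200))) (.node (.node (.leaf 360225320) (.leaf 186488924)) (.node (.leaf 324730929) (.leaf 363807589))))) (.node (.node (.node (.node (.leaf 81875858) (.leaf 163208609)) (.node (.leaf 154489041) (.leaf 55018873))) (.node (.node (.leaf 339607602) (.leaf 187715578)) (.node (.leaf 15302704) (.leaf 102580273)))) (.node (.node (.node (.leaf 240812293) (.leaf 61145137)) (.node (.leaf 285950001) (.leaf 61227057))) (.node (.node (.leaf 268951928) (.leaf 108429361)) (.node (.leaf 26219010) (.leaf 213077868)))))) (.node (.node (.node (.node (.node (.leaf 88309810) (.leaf 186515504)) (.node (.leaf 265945805) (.leaf 363839536))) (.node (.node (.leaf 54804669) (.leaf 345970216))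 (.node (.leaf 292749361) (.leaf 216268848)))) (.node (.node (.node (.leaf 92356658) (.leaf 214073394)) (.node (.leaf 268337202) (.leaf 118325297))) (.node (.node (.leaf 58998834) (.leaf 118407217)) (.node (.leaf 304021554) (.leaf 230850610))))) (.node (.node (.node (.node (.leaf 370954724) (.leaf 44679217)) (.node (.leaf 317723829) (.leaf 124502090))) (.node (.node (.leaf 97783061) (.leaf 209394429)) (.node (.leaf 171022181) (.leaf 189678601)))) (.node (.node (.node (.leaf 201938825) (.leaf 310169516)) (.node (.leaf 372770677) (.leaf 348260728))) (.node (.node (.leaf 337593521) (.leaf 226213936)) (.node (.leaf 373309489) (.leaf 354746416)))))))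

/-- A Schreier factor, part 717. -/
def facCodePart717 : Janko1.Tree ℕ := (.node (.node (.node (.node (.node (.node (.leaf 356048885) (.leaf 176242964)) (.node (.leaf 64978994) (.leaf 27836466))) (.node (.node (.leaf 132333618) (.leaf 44798745)) (.node (.leaf 257409073) (.leaf 59768882)))) (.node (.node (.node (.leaf 255279153) (.leaf 8699976)) (.node (.leaf 272977994) (.leaf 38641129))) (.node (.node (.leaf 293519409) (.leaf 8280952)) (.node (.leaf 308696502) (.leaf 22471014))))) (.node (.node (.node (.node (.leaf 185375946) (.leaf 145817648)) (.node (.leaf 238010418) (.leaf 374489136))) (.node (.node (.leaf 182208410) (.leaf 320820594)) (.node (.leaf 250692038) (.leaf 354803937)))) (.node (.node (.node (.leaf 268632553) (.leaf 176259120)) (.node (.leaf 244187638) (.leaf 203085981))) (.node (.node (.leaf 286726152) (.leaf 226169369)) (.node (.leaf 185335858) (.leaf 31759465)))))) (.node (.node (.node (.node (.node (.leaf 237963345) (.leaf 61655041)) (.node (.leaf 324082434) (.leaf 32161842))) (.node (.node (.leaf 326422930) (.leaf 10454885))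 (.node (.leaf 323870146) (.leaf 3823028)))) (.node (.node (.node (.leaf 341983281) (.leaf 42647602)) (.node (.leaf 312461696) (.leaf 25987928))) (.node (.node (.leaf 377503793) (.leaf 26301421)) (.node (.leaf 360500908) (.leaf 55071706))))) (.node (.node (.node (.node (.leaf 65018853) (.leaf 203048965)) (.node (.leaf 255220818) (.leaf 320767545))) (.node (.node (.leaf 252985394) (.leaf 145850416)) (.node (.leaf 326392045) (.leaf 146079792)))) (.node (.node (.node (.leaf 380732554) (.leaf 203358256)) (.node (.leaf 364923052) (.leaf 355014624))) (.node (.node (.leaf 347177009) (.leaf 176439344)) (.node (.leaf 221712156) (.leaf 86818865)))))))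

/-- A Schreier factor, part 718. -/
def facCodePart718 : Janko1.Tree ℕ := (.node (.node (.node (.node (.node (.node (.leaf 353157170) (.leaf 160956466)) (.node (.leaf 248119345) (.leaf 10494345))) (.node (.node (.leaf 246006880) (.leaf 142246868)) (.node (.leaf 302301233) (.leaf 92684337)))) (.node (.node (.node (.leaf 284311601) (.leaf 165953624)) (.node (.leaf 282280682) (.leaf 10553837))) (.node (.node (.leaf 48103474) (.leaf 146112560)) (.node (.leaf 111640626) (.leaf 374784048))))) (.node (.node (.node (.node (.leaf 279383341) (.leaf 337186686)) (.node (.leaf 245959918) (.leaf 355041328))) (.node (.node (.leaf 281600134) (.leaf 176464130)) (.node (.leaf 259227697) (.leaf 176488496)))) (.node (.node (.node (.leaf 252624945) (.leaf 203292720)) (.node (.leaf 270535114) (.leaf 337133616))) (.node (.node (.leaf 295469105) (.leaf 321111305)) (.node (.leaf 277692465) (.leaf 226377776)))))) (.node (.node (.node (.node (.node (.leaf 306499321) (.leaf 146130844)) (.node (.leaf 288784433) (.leaf 374800432))) (.node (.node (.leaf 52199474) (.leaf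 134796912)) (.node (.leaf 115654706) (.leaf 21692465)))) (.node (.node (.node (.leaf 48070706) (.leaf 71106609)) (.node (.leaf 281608242) (.leaf 71155761))) (.node (.node (.leaf 351813681) (.leaf 77004849)) (.node (.leaf 375722973) (.leaf 27803697))))) (.node (.node (.node (.node (.leaf 358547505) (.leaf 169525298)) (.node (.leaf 168500609) (.leaf 355093917))) (.node (.node (.leaf 172038757) (.leaf 203333742)) (.node (.leaf 314774729) (.leaf 321126448)))) (.node (.node (.node (.leaf 350935876) (.leaf 226400021)) (.node (.leaf 316952606) (.leaf 146168169))) (.node (.node (.leaf 353182117) (.leaf 374833200)) (.node (.leaf 126500914) (.leaf 374576073)))))))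

/-- A Schreier factor, part 719. -/
def facCodePart719 : Janko1.Tree ℕ := (.node (.node (.node (.node (.node (.node (.leaf 308412466) (.leaf 199737392)) (.node (.leaf 197417936) (.leaf 336986160))) (.node (.node (.leaf 373375025) (.leaf 44695602)) (.node (.leaf 356748329) (.leaf 11157554)))) (.node (.node (.node (.leaf 317079601) (.leaf 45187122)) (.node (.leaf 67354778) (.leaf 3217925))) (.node (.node (.leaf 211992626) (.leaf 38944818)) (.node (.leaf 208655322) (.leaf 59038714))))) (.node (.node (.node (.node (.leaf 156237872) (.leaf 374538288)) (.node (.leaf 293592573) (.leaf 357187632))) (.node (.node (.leaf 239976497) (.leaf 318521392)) (.node (.leaf 255395116) (.leaf 149148953)))) (.node (.node (.node (.leaf 59211825) (.leaf 176312360)) (.node (.leaf 377405490) (.leaf 149192752))) (.node (.node (.leaf 46825521) (.leaf 336940005)) (.node (.leaf 91490457) (.leaf 226235217)))))) (.node (.node (.node (.node (.node (.leaf 208666674) (.leaf 199704624)) (.node (.leaf 79646993) (.leaf 374603824))) (.node (.node (.leaf 149258288) (.leaf 28394621))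 (.node (.leaf 351961136) (.leaf 28033074)))) (.node (.node (.node (.leaf 250939730) (.leaf 61132366)) (.node (.leaf 356466736) (.leaf 15917245))) (.node (.node (.leaf 244449329) (.leaf 49273718)) (.node (.leaf 126533682) (.leaf 22364210))))) (.node (.node (.node (.node (.leaf 207406552) (.leaf 21889074)) (.node (.leaf 190595121) (.leaf 8945714))) (.node (.node (.leaf 377618481) (.leaf 149176368)) (.node (.leaf 156450864) (.leaf 336904240)))) (.node (.node (.node (.leaf 361087024) (.leaf 374587440)) (.node (.leaf 84941637) (.leaf 374868348))) (.node (.node (.leaf 211058737) (.leaf 337231920)) (.node (.leaf 20824112) (.leaf 150951456)))))))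

/-- A Schreier factor, part 720. -/
def facCodePart720 : Janko1.Tree ℕ := (.node (.node (.node (.node (.node (.node (.leaf 365004605) (.leaf 118210609)) (.node (.leaf 310624305) (.leaf 38506462))) (.node (.node (.leaf 54829461) (.leaf 156106802)) (.node (.leaf 297336882) (.leaf 182714418)))) (.node (.node (.node (.leaf 50511921) (.leaf 124356805)) (.node (.leaf 299599177) (.leaf 124388542))) (.node (.node (.leaf 80420520) (.leaf 165863013)) (.node (.leaf 83116081) (.leaf 44580913))))) (.node (.node (.node (.node (.leaf 84199202) (.leaf 44646449)) (.node (.leaf 273798017) (.leaf 176527046))) (.node (.node (.leaf 246267953) (.leaf 149536816)) (.node (.leaf 75420008) (.leaf 226431562)))) (.node (.node (.node (.leaf 84254100) (.leaf 199937801)) (.node (.leaf 95230104) (.leaf 374882352))) (.node (.node (.leaf 80396338) (.leaf 357449776)) (.node (.leaf 306601454) (.leaf 174293042)))))) (.node (.node (.node (.node (.node (.leaf 241958961) (.leaf 102531556)) (.node (.leaf 282697253) (.leaf 138020424))) (.node (.node (.leaf 92733488) (.leaf 152567858))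 (.node (.leaf 370884658) (.leaf 179191858)))) (.node (.node (.node (.leaf 194253178) (.leaf 108249137)) (.node (.leaf 204439601) (.leaf 142475314))) (.node (.node (.leaf 198574130) (.leaf 169476146)) (.node (.leaf 369413490) (.leaf 149570504))))) (.node (.node (.node (.node (.leaf 28966960) (.leaf 337215536)) (.node (.leaf 274076516) (.leaf 226459696))) (.node (.node (.leaf 34200158) (.leaf 336560176)) (.node (.leaf 128373668) (.leaf 338657328)))) (.node (.node (.node (.leaf 146980913) (.leaf 373817392)) (.node (.leaf 132628530) (.leaf 173621296))) (.node (.node (.leaf 176472112) (.leaf 176183924)) (.node (.leaf 317654832) (.leaf 142230496)))))))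

/-- A Schreier factor, part 721. -/
def facCodePart721 : Janko1.Tree ℕ := (.node (.node (.node (.node (.node (.node (.leaf 169791865) (.leaf 209113022)) (.node (.leaf 319898824) (.leaf 229138416))) (.node (.node (.leaf 374294228) (.leaf 225689648)) (.node (.leaf 370087914) (.leaf 142220506)))) (.node (.node (.node (.leaf 130489016) (.leaf 204244384)) (.node (.leaf 3768924) (.leaf 225673264))) (.node (.node (.leaf 238256178) (.leaf 204210225)) (.node (.leaf 34766897) (.leaf 137773105))))) (.node (.node (.node (.node (.leaf 235331746) (.leaf 172773565)) (.node (.leaf 162824240) (.leaf 336527408))) (.node (.node (.leaf 365396016) (.leaf 373784624)) (.node (.leaf 308354724) (.leaf 173591026)))) (.node (.node (.node (.leaf 26345521) (.leaf 336494640)) (.node (.leaf 13434929) (.leaf 176938449))) (.node (.node (.leaf 238230650) (.leaf 371596306)) (.node (.leaf 251445297) (.leaf 172802096)))))) (.node (.node (.node (.node (.node (.leaf 176242736) (.leaf 225656880)) (.node (.leaf 244932361) (.leaf 195731405))) (.node (.node (.leaf 34177074) (.leaf 150634545))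 (.node (.leaf 290635985) (.leaf 172785720)))) (.node (.node (.node (.leaf 324651224) (.leaf 173655708)) (.node (.leaf 183112314) (.leaf 226499482))) (.node (.node (.leaf 377077809) (.leaf 229900377)) (.node (.leaf 378339376) (.leaf 176914480))))) (.node (.node (.node (.node (.leaf 116375600) (.leaf 177130884)) (.node (.leaf 353045814) (.leaf 371790678))) (.node (.node (.leaf 157243172) (.leaf 226844329)) (.node (.leaf 134766134) (.leaf 374066688)))) (.node (.node (.node (.leaf 221823026) (.leaf 173887261)) (.node (.leaf 54086821) (.leaf 175902758))) (.node (.node (.leaf 45714649) (.leaf 91545696)) (.node (.leaf 301023280) (.leaf 225476656)))))))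

/-- A Schreier factor, part 722. -/
def facCodePart722 : Janko1.Tree ℕ := (.node (.node (.node (.node (.node (.node (.leaf 296408352) (.leaf 8931633)) (.node (.leaf 279273721) (.leaf 15941681))) (.node (.node (.leaf 281460786) (.leaf 228835376)) (.node (.leaf 111856537) (.leaf 97374117)))) (.node (.node (.node (.leaf 17600774) (.leaf 15929210)) (.node (.leaf 115820970) (.leaf 172562053))) (.node (.node (.leaf 61882880) (.leaf 177145918)) (.node (.leaf 37077040) (.leaf 336822320))))) (.node (.node (.node (.node (.leaf 305073454) (.leaf 226869296)) (.node (.leaf 291626704) (.leaf 374080773))) (.node (.node (.leaf 299581489) (.leaf 173916208)) (.node (.leaf 8506688) (.leaf 336773168)))) (.node (.node (.node (.leaf 115851314) (.leaf 230178864)) (.node (.leaf 30081073) (.leaf 177176624))) (.node (.node (.leaf 111826360) (.leaf 371821626)) (.node (.leaf 45424717) (.leaf 26434840)))))) (.node (.node (.node (.node (.node (.leaf 253432514) (.leaf 75762280)) (.node (.leaf 296157232) (.leaf 75792433))) (.node (.node (.leaf 300711984) (.leaf 175947824))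 (.node (.leaf 306004017) (.leaf 26443825)))) (.node (.node (.node (.leaf 350803869) (.leaf 172594444)) (.node (.leaf 353058866) (.leaf 81543217))) (.node (.node (.leaf 150749233) (.leaf 175980592)) (.node (.leaf 225253312) (.leaf 32359137))))) (.node (.node (.node (.node (.leaf 62165425) (.leaf 226803760)) (.node (.leaf 291946544) (.leaf 336805936))) (.node (.node (.leaf 370753585) (.leaf 176949141)) (.node (.leaf 374210608) (.leaf 149981608)))) (.node (.node (.node (.leaf 353190333) (.leaf 354162034)) (.node (.leaf 355532849) (.leaf 203562773))) (.node (.node (.leaf 317440049) (.leaf 226607281)) (.node (.leaf 335822897) (.leaf 320503856)))))))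

/-- A Schreier factor, part 723. -/
def facCodePart723 : Janko1.Tree ℕ := (.node (.node (.node (.node (.node (.node (.leaf 319619121) (.leaf 373882928)) (.node (.leaf 169858746) (.leaf 356487208))) (.node (.node (.leaf 170655793) (.leaf 149012528)) (.node (.leaf 96665650) (.leaf 169250565)))) (.node (.node (.node (.leaf 35864626) (.leaf 235585585)) (.node (.leaf 174034585) (.leaf 235685070))) (.node (.node (.leaf 147087429) (.leaf 229228592)) (.node (.leaf 100433970) (.leaf 202722692))))) (.node (.node (.node (.node (.leaf 63391356) (.leaf 199336358)) (.node (.leaf 306200626) (.leaf 235667505))) (.node (.node (.leaf 272875570) (.leaf 169181233)) (.node (.leaf 130433074) (.leaf 172859264)))) (.node (.node (.node (.leaf 308248626) (.leaf 145752112)) (.node (.leaf 275398705) (.leaf 164216881))) (.node (.node (.leaf 290766897) (.leaf 202688358)) (.node (.leaf 240322620) (.leaf 225774866)))))) (.node (.node (.node (.node (.node (.leaf 182894640) (.leaf 199312942)) (.node (.leaf 209458453) (.leaf 230557105))) (.node (.node (.leaf 257867825) (.leaf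 230641693)) (.node (.leaf 255875150) (.leaf 164134961)))) (.node (.node (.node (.leaf 162877056) (.leaf 164185642)) (.node (.leaf 189349936) (.leaf 172834864))) (.node (.node (.leaf 273547313) (.leaf 145719344)) (.node (.leaf 212048110) (.leaf 354123824))))) (.node (.node (.node (.node (.leaf 155467826) (.leaf 336642096)) (.node (.leaf 67768772) (.leaf 318165285))) (.node (.node (.leaf 34865201) (.leaf 229949488)) (.node (.leaf 344265009) (.leaf 226574473)))) (.node (.node (.node (.leaf 102678577) (.leaf 338706480)) (.node (.leaf 379748402) (.leaf 320490865))) (.node (.node (.leaf 342133230) (.leaf 373856545)) (.node (.leaf 98655844) (.leaf 356450352)))))))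

/-- A Schreier factor, part 724. -/
def facCodePart724 : Janko1.Tree ℕ := (.node (.node (.node (.node (.node (.node (.leaf 304252804) (.leaf 373899312)) (.node (.leaf 279642161) (.leaf 320454704))) (.node (.node (.leaf 269172785) (.leaf 203522313)) (.node (.leaf 202833968) (.leaf 371638320)))) (.node (.node (.node (.leaf 26394673) (.leaf 172884016)) (.node (.leaf 158733825) (.leaf 225755184))) (.node (.node (.leaf 13501286) (.leaf 222429233)) (.node (.leaf 212032153) (.leaf 222512345))))) (.node (.node (.node (.node (.leaf 122470854) (.leaf 229187292)) (.node (.leaf 377258601) (.leaf 202658128))) (.node (.node (.leaf 110418352) (.leaf 182424350)) (.node (.leaf 379715606) (.leaf 182491774)))) (.node (.node (.node (.leaf 359974269) (.leaf 145787917)) (.node (.leaf 366346289) (.leaf 225729217))) (.node (.node (.leaf 378325168) (.leaf 199278868)) (.node (.leaf 325468208) (.leaf 217137201)))))) (.node (.node (.node (.node (.node (.leaf 163086384) (.leaf 217235505)) (.node (.leaf 189648644) (.leaf 229146672))) (.node (.node (.leaf 183173168) (.leaf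 149030688)) (.node (.leaf 180666689) (.leaf 356522522)))) (.node (.node (.node (.leaf 154191213) (.leaf 173703216)) (.node (.leaf 31246125) (.leaf 226549674))) (.node (.node (.leaf 163987505) (.leaf 200032304)) (.node (.leaf 137694340) (.leaf 338681368))))) (.node (.node (.node (.node (.leaf 272830437) (.leaf 336593240)) (.node (.leaf 270762034) (.leaf 176980016))) (.node (.node (.leaf 63428346) (.leaf 150019730)) (.node (.leaf 379704676) (.leaf 177209392)))) (.node (.node (.node (.leaf 300975385) (.leaf 150306864)) (.node (.leaf 247650602) (.leaf 371853162))) (.node (.node (.leaf 362305894) (.leaf 354376482)) (.node (.leaf 364316085) (.leaf 336858358)))))))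

/-- A Schreier factor, part 725. -/
def facCodePart725 : Janko1.Tree ℕ := (.node (.node (.node (.node (.node (.node (.leaf 243193352) (.leaf 230277168)) (.node (.leaf 45795746) (.leaf 356736801))) (.node (.node (.leaf 144605234) (.leaf 176013360)) (.node (.leaf 184270897) (.leaf 148750384)))) (.node (.node (.node (.leaf 198672434) (.leaf 43294772)) (.node (.leaf 195051794) (.leaf 202394988))) (.node (.node (.leaf 19742768) (.leaf 122961969)) (.node (.leaf 370679242) (.leaf 123051353))))) (.node (.node (.node (.node (.leaf 333026114) (.leaf 43212620)) (.node (.leaf 368492594) (.leaf 145513926))) (.node (.node (.leaf 301678641) (.leaf 176029744)) (.node (.leaf 305045869) (.leaf 148783152)))) (.node (.node (.node (.leaf 251723824) (.leaf 49285050)) (.node (.leaf 283721777) (.leaf 49339642))) (.node (.node (.leaf 299532337) (.leaf 129286193)) (.node (.leaf 291553328) (.leaf 129368113)))))) (.node (.node (.node (.node (.node (.leaf 238534704) (.leaf 228909329)) (.node (.leaf 281645893) (.leaf 202424368))) (.node (.node (.leaf 266469522) (.leaf 129360280))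 (.node (.leaf 37167277) (.leaf 49322966)))) (.node (.node (.node (.leaf 69959728) (.leaf 172621872)) (.node (.leaf 264261437) (.leaf 145523422))) (.node (.node (.leaf 55121585) (.leaf 150339632)) (.node (.leaf 22151217) (.leaf 371884080))))) (.node (.node (.node (.node (.leaf 17694769) (.leaf 230309936)) (.node (.leaf 263651378) (.leaf 374128688))) (.node (.node (.leaf 50470614) (.leaf 356745264)) (.node (.leaf 294912049) (.leaf 374146793)))) (.node (.node (.node (.leaf 305962185) (.leaf 226905618)) (.node (.leaf 300599361) (.leaf 200298266))) (.node (.node (.leaf 247356476) (.leaf 338952240)) (.node (.leaf 77713148) (.leaf 230244400)))))))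

/-- A Schreier factor, part 726. -/
def facCodePart726 : Janko1.Tree ℕ := (.node (.node (.node (.node (.node (.node (.leaf 259790754) (.leaf 203806906)) (.node (.leaf 85639516) (.leaf 371904748))) (.node (.node (.leaf 271092148) (.leaf 354408310)) (.node (.leaf 18647176) (.leaf 59655876)))) (.node (.node (.node (.leaf 42811441) (.leaf 59719729)) (.node (.leaf 30146609) (.leaf 106938417))) (.node (.node (.leaf 80511026) (.leaf 106995069)) (.node (.leaf 299504013) (.leaf 202358832))))) (.node (.node (.node (.node (.leaf 19416864) (.leaf 59670577)) (.node (.leaf 297173042) (.leaf 59736113))) (.node (.node (.leaf 368836924) (.leaf 65946798)) (.node (.leaf 291869872) (.leaf 66011185)))) (.node (.node (.node (.leaf 351240241) (.leaf 145539120)) (.node (.leaf 375275569) (.leaf 225509424))) (.node (.node (.leaf 252002352) (.leaf 112934961)) (.node (.leaf 322306097) (.leaf 176079748)))))) (.node (.node (.node (.node (.node (.leaf 93962288) (.leaf 65963950)) (.node (.leaf 141510000) (.leaf 374166654))) (.node (.node (.leaf 144638002) (.leaf 226940874))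 (.node (.leaf 150831153) (.leaf 338985008)))) (.node (.node (.node (.leaf 368477025) (.leaf 203837484)) (.node (.leaf 124485680) (.leaf 150372400))) (.node (.node (.leaf 28049456) (.leaf 371916848)) (.node (.leaf 370739824) (.leaf 354436977))))) (.node (.node (.node (.node (.leaf 0) (.leaf 0)) (.node (.leaf 0) (.leaf 0))) (.node (.node (.leaf 0) (.leaf 0)) (.node (.leaf 0) (.leaf 0)))) (.node (.node (.node (.leaf 0) (.leaf 0)) (.node (.leaf 0) (.leaf 0))) (.node (.node (.leaf 0) (.leaf 0)) (.node (.leaf 0) (.leaf 0)))))))

/-- A Schreier factor, part 727. -/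
def facCodePart727 : Janko1.Tree ℕ := (.node (.node (.node (.node (.node (.node (.leaf 0) (.leaf 0)) (.node (.leaf 0) (.leaf 0))) (.node (.node (.leaf 0) (.leaf 0)) (.node (.leaf 0) (.leaf 0)))) (.node (.node (.node (.leaf 0) (.leaf 0)) (.node (.leaf 0) (.leaf 0))) (.node (.node (.leaf 0) (.leaf 0)) (.node (.leaf 0) (.leaf 0))))) (.node (.node (.node (.node (.leaf 0) (.leaf 0)) (.node (.leaf 0) (.leaf 0))) (.node (.node (.leaf 0) (.leaf 0)) (.node (.leaf 0) (.leaf 0)))) (.node (.node (.node (.leaf 0) (.leaf 0)) (.node (.leaf 0) (.leaf 0))) (.node (.node (.leaf 0) (.leaf 0)) (.node (.leaf 0) (.leaf 0)))))) (.node (.node (.node (.node (.node (.leaf 0) (.leaf 0)) (.node (.leaf 0) (.leaf 0))) (.node (.node (.leaf 0) (.leaf 0)) (.node (.leaf 0) (.leaf 0)))) (.node (.node (.node (.leaf 0) (.leaf 0)) (.node (.leaf 0) (.leaf 0))) (.node (.node (.leaf 0) (.leaf 0)) (.node (.leaf 0) (.leaf 0))))) (.node (.node (.node (.node (.leaf 0) (.leaf 0)) (.node (.leaf 0) (.leaf 0))) (.node (.node (.leaf 0) (.leaf 0)) (.node (.leaf 0) (.leaf 0)))) (.node (.node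 (.node (.leaf 0) (.leaf 0)) (.node (.leaf 0) (.leaf 0))) (.node (.node (.leaf 0) (.leaf 0)) (.node (.leaf 0) (.leaf 0)))))))

/-- A Schreier factor, part 728. -/
def facCodePart728 : Janko1.Tree ℕ := (.node (.node (.node (.node (.node (.node (.leaf 0) (.leaf 0)) (.node (.leaf 0) (.leaf 0))) (.node (.node (.leaf 0) (.leaf 0)) (.node (.leaf 0) (.leaf 0)))) (.node (.node (.node (.leaf 0) (.leaf 0)) (.node (.leaf 0) (.leaf 0))) (.node (.node (.leaf 0) (.leaf 0)) (.node (.leaf 0) (.leaf 0))))) (.node (.node (.node (.node (.leaf 0) (.leaf 0)) (.node (.leaf 0) (.leaf 0))) (.node (.node (.leaf 0) (.leaf 0)) (.node (.leaf 0) (.leaf 0)))) (.node (.node (.node (.leaf 0) (.leaf 0)) (.node (.leaf 0) (.leaf 0))) (.node (.node (.leaf 0) (.leaf 0)) (.node (.leaf 0) (.leaf 0)))))) (.node (.node (.node (.node (.node (.leaf 0) (.leaf 0)) (.node (.leaf 0) (.leaf 0))) (.node (.node (.leaf 0) (.leaf 0)) (.node (.leaf 0) (.leaf 0)))) (.node (.node (.node (.leaf 0) (.leaf 0)) (.node (.leaf 0) (.leaf 0))) (.node (.node (.leaf 0) (.leaf 0)) (.node (.leaf 0) (.leaf 0)))))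 (.node (.node (.node (.node (.leaf 0) (.leaf 0)) (.node (.leaf 0) (.leaf 0))) (.node (.node (.leaf 0) (.leaf 0)) (.node (.leaf 0) (.leaf 0)))) (.node (.node (.node (.leaf 0) (.leaf 0)) (.node (.leaf 0) (.leaf 0))) (.node (.node (.leaf 0) (.leaf 0)) (.node (.leaf 0) (.leaf 0)))))))

/-- A Schreier factor, part 729. -/
def facCodePart729 : Janko1.Tree ℕ := (.node (.node (.node (.node (.node (.node (.leaf 0) (.leaf 0)) (.node (.leaf 0) (.leaf 0))) (.node (.node (.leaf 0) (.leaf 0)) (.node (.leaf 0) (.leaf 0)))) (.node (.node (.node (.leaf 0) (.leaf 0)) (.node (.leaf 0) (.leaf 0))) (.node (.node (.leaf 0) (.leaf 0)) (.node (.leaf 0) (.leaf 0))))) (.node (.node (.node (.node (.leaf 0) (.leaf 0)) (.node (.leaf 0) (.leaf 0))) (.node (.node (.leaf 0) (.leaf 0)) (.node (.leaf 0) (.leaf 0)))) (.node (.node (.node (.leaf 0) (.leaf 0)) (.node (.leaf 0) (.leaf 0))) (.node (.node (.leaf 0) (.leaf 0)) (.node (.leaf 0) (.leaf 0)))))) (.node (.node (.node (.node (.node (.leaf 0) (.leaf 0)) (.node (.leaf 0) (.leaf 0))) (.node (.node (.leaf 0) (.leaf 0)) (.node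 (.leaf 0) (.leaf 0)))) (.node (.node (.node (.leaf 0) (.leaf 0)) (.node (.leaf 0) (.leaf 0))) (.node (.node (.leaf 0) (.leaf 0)) (.node (.leaf 0) (.leaf 0))))) (.node (.node (.node (.node (.leaf 0) (.leaf 0)) (.node (.leaf 0) (.leaf 0))) (.node (.node (.leaf 0) (.leaf 0)) (.node (.leaf 0) (.leaf 0)))) (.node (.node (.node (.leaf 0) (.leaf 0)) (.node (.leaf 0) (.leaf 0))) (.node (.node (.leaf 0) (.leaf 0)) (.node (.leaf 0) (.leaf 0)))))))

/-- A Schreier factor, part 730. -/
def facCodePart730 : Janko1.Tree ℕ := (.node (.node (.node (.node (.node (.node (.leaf 0) (.leaf 0)) (.node (.leaf 0) (.leaf 0))) (.node (.node (.leaf 0) (.leaf 0)) (.node (.leaf 0) (.leaf 0)))) (.node (.node (.node (.leaf 0) (.leaf 0)) (.node (.leaf 0) (.leaf 0))) (.node (.node (.leaf 0) (.leaf 0)) (.node (.leaf 0) (.leaf 0))))) (.node (.node (.node (.node (.leaf 0) (.leaf 0)) (.node (.leaf 0) (.leaf 0))) (.node (.node (.leaf 0) (.leaf 0)) (.node (.leaf 0) (.leaf 0)))) (.node (.node (.node (.leaf 0) (.leaf 0)) (.node (.leaf 0) (.leaf 0))) (.node (.node (.leaf 0) (.leaf 0))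 (.node (.leaf 0) (.leaf 0)))))) (.node (.node (.node (.node (.node (.leaf 0) (.leaf 0)) (.node (.leaf 0) (.leaf 0))) (.node (.node (.leaf 0) (.leaf 0)) (.node (.leaf 0) (.leaf 0)))) (.node (.node (.node (.leaf 0) (.leaf 0)) (.node (.leaf 0) (.leaf 0))) (.node (.node (.leaf 0) (.leaf 0)) (.node (.leaf 0) (.leaf 0))))) (.node (.node (.node (.node (.leaf 0) (.leaf 0)) (.node (.leaf 0) (.leaf 0))) (.node (.node (.leaf 0) (.leaf 0)) (.node (.leaf 0) (.leaf 0)))) (.node (.node (.node (.leaf 0) (.leaf 0)) (.node (.leaf 0) (.leaf 0))) (.node (.node (.leaf 0) (.leaf 0)) (.node (.leaf 0) (.leaf 0)))))))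

/-- A Schreier factor, part 731. -/
def facCodePart731 : Janko1.Tree ℕ := (.node (.node (.node (.node (.node (.node (.leaf 0) (.leaf 0)) (.node (.leaf 0) (.leaf 0))) (.node (.node (.leaf 0) (.leaf 0)) (.node (.leaf 0) (.leaf 0)))) (.node (.node (.node (.leaf 0) (.leaf 0)) (.node (.leaf 0) (.leaf 0))) (.node (.node (.leaf 0) (.leaf 0)) (.node (.leaf 0) (.leaf 0))))) (.node (.node (.node (.node (.leaf 0) (.leaf 0)) (.node (.leaf 0) (.leaf 0))) (.node (.node (.leaf 0) (.leaf 0)) (.node (.leaf 0) (.leaf 0)))) (.node (.node (.node (.leaf 0) (.leaf 0)) (.node (.leaf 0) (.leaf 0))) (.node (.node (.leaf 0) (.leaf 0)) (.node (.leaf 0) (.leaf 0)))))) (.node (.node (.node (.node (.node (.leaf 0) (.leaf 0)) (.node (.leaf 0) (.leaf 0))) (.node (.node (.leaf 0) (.leaf 0)) (.node (.leaf 0) (.leaf 0)))) (.node (.node (.node (.leaf 0) (.leaf 0)) (.node (.leaf 0) (.leaf 0))) (.node (.node (.leaf 0) (.leaf 0)) (.node (.leaf 0) (.leaf 0))))) (.node (.node (.node (.node (.leaf 0) (.leaf 0)) (.node (.leaf 0) (.leaf 0))) (.node (.node (.leaf 0) (.leaf 0)) (.node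 (.leaf 0) (.leaf 0)))) (.node (.node (.node (.leaf 0) (.leaf 0)) (.node (.leaf 0) (.leaf 0))) (.node (.node (.leaf 0) (.leaf 0)) (.node (.leaf 0) (.leaf 0)))))))

/-- A Schreier factor, part 732. -/
def facCodePart732 : Janko1.Tree ℕ := (.node (.node (.node (.node (.node (.node (.leaf 0) (.leaf 0)) (.node (.leaf 0) (.leaf 0))) (.node (.node (.leaf 0) (.leaf 0)) (.node (.leaf 0) (.leaf 0)))) (.node (.node (.node (.leaf 0) (.leaf 0)) (.node (.leaf 0) (.leaf 0))) (.node (.node (.leaf 0) (.leaf 0)) (.node (.leaf 0) (.leaf 0))))) (.node (.node (.node (.node (.leaf 0) (.leaf 0)) (.node (.leaf 0) (.leaf 0))) (.node (.node (.leaf 0) (.leaf 0)) (.node (.leaf 0) (.leaf 0)))) (.node (.node (.node (.leaf 0) (.leaf 0)) (.node (.leaf 0) (.leaf 0))) (.node (.node (.leaf 0) (.leaf 0)) (.node (.leaf 0) (.leaf 0)))))) (.node (.node (.node (.node (.node (.leaf 0) (.leaf 0)) (.node (.leaf 0) (.leaf 0))) (.node (.node (.leaf 0) (.leaf 0)) (.node (.leaf 0) (.leaf 0)))) (.node (.node (.node (.leaf 0) (.leaf 0)) (.node (.leaf 0) (.leaf 0))) (.node (.node (.leaf 0)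 (.leaf 0)) (.node (.leaf 0) (.leaf 0))))) (.node (.node (.node (.node (.leaf 0) (.leaf 0)) (.node (.leaf 0) (.leaf 0))) (.node (.node (.leaf 0) (.leaf 0)) (.node (.leaf 0) (.leaf 0)))) (.node (.node (.node (.leaf 0) (.leaf 0)) (.node (.leaf 0) (.leaf 0))) (.node (.node (.leaf 0) (.leaf 0)) (.node (.leaf 0) (.leaf 0)))))))

/-- A Schreier factor, part 733. -/
def facCodePart733 : Janko1.Tree ℕ := (.node (.node (.node (.node (.node (.node (.leaf 0) (.leaf 0)) (.node (.leaf 0) (.leaf 0))) (.node (.node (.leaf 0) (.leaf 0)) (.node (.leaf 0) (.leaf 0)))) (.node (.node (.node (.leaf 0) (.leaf 0)) (.node (.leaf 0) (.leaf 0))) (.node (.node (.leaf 0) (.leaf 0)) (.node (.leaf 0) (.leaf 0))))) (.node (.node (.node (.node (.leaf 0) (.leaf 0)) (.node (.leaf 0) (.leaf 0))) (.node (.node (.leaf 0) (.leaf 0)) (.node (.leaf 0) (.leaf 0)))) (.node (.node (.node (.leaf 0) (.leaf 0)) (.node (.leaf 0) (.leaf 0))) (.node (.node (.leaf 0) (.leaf 0)) (.node (.leaf 0) (.leaf 0)))))) (.node (.node (.node (.node (.node (.leaf 0) (.leaf 0)) (.node (.leaf 0) (.leaf 0)))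 (.node (.node (.leaf 0) (.leaf 0)) (.node (.leaf 0) (.leaf 0)))) (.node (.node (.node (.leaf 0) (.leaf 0)) (.node (.leaf 0) (.leaf 0))) (.node (.node (.leaf 0) (.leaf 0)) (.node (.leaf 0) (.leaf 0))))) (.node (.node (.node (.node (.leaf 0) (.leaf 0)) (.node (.leaf 0) (.leaf 0))) (.node (.node (.leaf 0) (.leaf 0)) (.node (.leaf 0) (.leaf 0)))) (.node (.node (.node (.leaf 0) (.leaf 0)) (.node (.leaf 0) (.leaf 0))) (.node (.node (.leaf 0) (.leaf 0)) (.node (.leaf 0) (.leaf 0)))))))

/-- A Schreier factor, part 734. -/
def facCodePart734 : Janko1.Tree ℕ := (.node (.node (.node (.node (.node (.node (.leaf 0) (.leaf 0)) (.node (.leaf 0) (.leaf 0))) (.node (.node (.leaf 0) (.leaf 0)) (.node (.leaf 0) (.leaf 0)))) (.node (.node (.node (.leaf 0) (.leaf 0)) (.node (.leaf 0) (.leaf 0))) (.node (.node (.leaf 0) (.leaf 0)) (.node (.leaf 0) (.leaf 0))))) (.node (.node (.node (.node (.leaf 0) (.leaf 0)) (.node (.leaf 0) (.leaf 0))) (.node (.node (.leaf 0) (.leaf 0)) (.node (.leaf 0) (.leaf 0)))) (.node (.node (.node (.leaf 0) (.leaf 0)) (.node (.leaf 0) (.leaf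 0))) (.node (.node (.leaf 0) (.leaf 0)) (.node (.leaf 0) (.leaf 0)))))) (.node (.node (.node (.node (.node (.leaf 0) (.leaf 0)) (.node (.leaf 0) (.leaf 0))) (.node (.node (.leaf 0) (.leaf 0)) (.node (.leaf 0) (.leaf 0)))) (.node (.node (.node (.leaf 0) (.leaf 0)) (.node (.leaf 0) (.leaf 0))) (.node (.node (.leaf 0) (.leaf 0)) (.node (.leaf 0) (.leaf 0))))) (.node (.node (.node (.node (.leaf 0) (.leaf 0)) (.node (.leaf 0) (.leaf 0))) (.node (.node (.leaf 0) (.leaf 0)) (.node (.leaf 0) (.leaf 0)))) (.node (.node (.node (.leaf 0) (.leaf 0)) (.node (.leaf 0) (.leaf 0))) (.node (.node (.leaf 0) (.leaf 0)) (.node (.leaf 0) (.leaf 0)))))))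

/-- A Schreier factor, part 735. -/
def facCodePart735 : Janko1.Tree ℕ := (.node (.node (.node (.node (.node (.node (.leaf 0) (.leaf 0)) (.node (.leaf 0) (.leaf 0))) (.node (.node (.leaf 0) (.leaf 0)) (.node (.leaf 0) (.leaf 0)))) (.node (.node (.node (.leaf 0) (.leaf 0)) (.node (.leaf 0) (.leaf 0))) (.node (.node (.leaf 0) (.leaf 0)) (.node (.leaf 0) (.leaf 0))))) (.node (.node (.node (.node (.leaf 0) (.leaf 0)) (.node (.leaf 0) (.leaf 0))) (.node (.node (.leaf 0) (.leaf 0)) (.node (.leaf 0) (.leaf 0)))) (.node (.node (.node (.leaf 0) (.leaf 0)) (.node (.leaf 0) (.leaf 0))) (.node (.node (.leaf 0) (.leaf 0)) (.node (.leaf 0) (.leaf 0)))))) (.node (.node (.node (.node (.node (.leaf 0) (.leaf 0)) (.node (.leaf 0) (.leaf 0))) (.node (.node (.leaf 0) (.leaf 0)) (.node (.leaf 0) (.leaf 0)))) (.node (.node (.node (.leaf 0) (.leaf 0)) (.node (.leaf 0) (.leaf 0))) (.node (.node (.leaf 0) (.leaf 0)) (.node (.leaf 0) (.leaf 0))))) (.node (.node (.node (.node (.leaf 0) (.leaf 0)) (.node (.leaf 0) (.leaf 0))) (.node (.node (.leaf 0) (.leaf 0)) (.node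 (.leaf 0) (.leaf 0)))) (.node (.node (.node (.leaf 0) (.leaf 0)) (.node (.leaf 0) (.leaf 0))) (.node (.node (.leaf 0) (.leaf 0)) (.node (.leaf 0) (.leaf 0)))))))

/-- A Schreier factor, part 736. -/
def facCodePart736 : Janko1.Tree ℕ := (.node (.node (.node (.node (.node (.node (.leaf 0) (.leaf 0)) (.node (.leaf 0) (.leaf 0))) (.node (.node (.leaf 0) (.leaf 0)) (.node (.leaf 0) (.leaf 0)))) (.node (.node (.node (.leaf 0) (.leaf 0)) (.node (.leaf 0) (.leaf 0))) (.node (.node (.leaf 0) (.leaf 0)) (.node (.leaf 0) (.leaf 0))))) (.node (.node (.node (.node (.leaf 0) (.leaf 0)) (.node (.leaf 0) (.leaf 0))) (.node (.node (.leaf 0) (.leaf 0)) (.node (.leaf 0) (.leaf 0)))) (.node (.node (.node (.leaf 0) (.leaf 0)) (.node (.leaf 0) (.leaf 0))) (.node (.node (.leaf 0) (.leaf 0)) (.node (.leaf 0) (.leaf 0)))))) (.node (.node (.node (.node (.node (.leaf 0) (.leaf 0)) (.node (.leaf 0) (.leaf 0))) (.node (.node (.leaf 0) (.leaf 0)) (.node (.leaf 0) (.leaf 0)))) (.node (.node (.node (.leaf 0) (.leaf 0)) (.node (.leaf 0) (.leaf 0))) (.node (.node (.leaf 0)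 (.leaf 0)) (.node (.leaf 0) (.leaf 0))))) (.node (.node (.node (.node (.leaf 0) (.leaf 0)) (.node (.leaf 0) (.leaf 0))) (.node (.node (.leaf 0) (.leaf 0)) (.node (.leaf 0) (.leaf 0)))) (.node (.node (.node (.leaf 0) (.leaf 0)) (.node (.leaf 0) (.leaf 0))) (.node (.node (.leaf 0) (.leaf 0)) (.node (.leaf 0) (.leaf 0)))))))

/-- A Schreier factor, part 737. -/
def facCodePart737 : Janko1.Tree ℕ := (.node (.node (.node (.node (.node (.node (.leaf 0) (.leaf 0)) (.node (.leaf 0) (.leaf 0))) (.node (.node (.leaf 0) (.leaf 0)) (.node (.leaf 0) (.leaf 0)))) (.node (.node (.node (.leaf 0) (.leaf 0)) (.node (.leaf 0) (.leaf 0))) (.node (.node (.leaf 0) (.leaf 0)) (.node (.leaf 0) (.leaf 0))))) (.node (.node (.node (.node (.leaf 0) (.leaf 0)) (.node (.leaf 0) (.leaf 0))) (.node (.node (.leaf 0) (.leaf 0)) (.node (.leaf 0) (.leaf 0)))) (.node (.node (.node (.leaf 0) (.leaf 0)) (.node (.leaf 0) (.leaf 0))) (.node (.node (.leaf 0) (.leaf 0)) (.node (.leaf 0) (.leaf 0)))))) (.node (.node (.node (.node (.node (.leaf 0) (.leaf 0)) (.node (.leaf 0) (.leaf 0)))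 (.node (.node (.leaf 0) (.leaf 0)) (.node (.leaf 0) (.leaf 0)))) (.node (.node (.node (.leaf 0) (.leaf 0)) (.node (.leaf 0) (.leaf 0))) (.node (.node (.leaf 0) (.leaf 0)) (.node (.leaf 0) (.leaf 0))))) (.node (.node (.node (.node (.leaf 0) (.leaf 0)) (.node (.leaf 0) (.leaf 0))) (.node (.node (.leaf 0) (.leaf 0)) (.node (.leaf 0) (.leaf 0)))) (.node (.node (.node (.leaf 0) (.leaf 0)) (.node (.leaf 0) (.leaf 0))) (.node (.node (.leaf 0) (.leaf 0)) (.node (.leaf 0) (.leaf 0)))))))

/-- A Schreier factor, part 738. -/
def facCodePart738 : Janko1.Tree ℕ := (.node (.node (.node (.node (.node (.node (.leaf 0) (.leaf 0)) (.node (.leaf 0) (.leaf 0))) (.node (.node (.leaf 0) (.leaf 0)) (.node (.leaf 0) (.leaf 0)))) (.node (.node (.node (.leaf 0) (.leaf 0)) (.node (.leaf 0) (.leaf 0))) (.node (.node (.leaf 0) (.leaf 0)) (.node (.leaf 0) (.leaf 0))))) (.node (.node (.node (.node (.leaf 0) (.leaf 0)) (.node (.leaf 0) (.leaf 0))) (.node (.node (.leaf 0) (.leaf 0)) (.node (.leaf 0) (.leaf 0)))) (.node (.node (.node (.leaf 0) (.leaf 0)) (.node (.leaf 0) (.leaf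 0))) (.node (.node (.leaf 0) (.leaf 0)) (.node (.leaf 0) (.leaf 0)))))) (.node (.node (.node (.node (.node (.leaf 0) (.leaf 0)) (.node (.leaf 0) (.leaf 0))) (.node (.node (.leaf 0) (.leaf 0)) (.node (.leaf 0) (.leaf 0)))) (.node (.node (.node (.leaf 0) (.leaf 0)) (.node (.leaf 0) (.leaf 0))) (.node (.node (.leaf 0) (.leaf 0)) (.node (.leaf 0) (.leaf 0))))) (.node (.node (.node (.node (.leaf 0) (.leaf 0)) (.node (.leaf 0) (.leaf 0))) (.node (.node (.leaf 0) (.leaf 0)) (.node (.leaf 0) (.leaf 0)))) (.node (.node (.node (.leaf 0) (.leaf 0)) (.node (.leaf 0) (.leaf 0))) (.node (.node (.leaf 0) (.leaf 0)) (.node (.leaf 0) (.leaf 0)))))))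

/-- A Schreier factor, part 739. -/
def facCodePart739 : Janko1.Tree ℕ := (.node (.node (.node (.node (.node (.node (.leaf 0) (.leaf 0)) (.node (.leaf 0) (.leaf 0))) (.node (.node (.leaf 0) (.leaf 0)) (.node (.leaf 0) (.leaf 0)))) (.node (.node (.node (.leaf 0) (.leaf 0)) (.node (.leaf 0) (.leaf 0))) (.node (.node (.leaf 0) (.leaf 0)) (.node (.leaf 0) (.leaf 0))))) (.node (.node (.node (.node (.leaf 0) (.leaf 0)) (.node (.leaf 0) (.leaf 0))) (.node (.node (.leaf 0) (.leaf 0)) (.node (.leaf 0) (.leaf 0)))) (.node (.node (.node (.leaf 0) (.leaf 0)) (.node (.leaf 0) (.leaf 0))) (.node (.node (.leaf 0) (.leaf 0)) (.node (.leaf 0) (.leaf 0)))))) (.node (.node (.node (.node (.node (.leaf 0) (.leaf 0)) (.node (.leaf 0) (.leaf 0))) (.node (.node (.leaf 0) (.leaf 0)) (.node (.leaf 0) (.leaf 0)))) (.node (.node (.node (.leaf 0) (.leaf 0)) (.node (.leaf 0) (.leaf 0))) (.node (.node (.leaf 0) (.leaf 0)) (.node (.leaf 0) (.leaf 0))))) (.node (.node (.node (.node (.leaf 0) (.leaf 0)) (.node (.leaf 0) (.leaf 0))) (.node (.node (.leaf 0) (.leaf 0)) (.node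 (.leaf 0) (.leaf 0)))) (.node (.node (.node (.leaf 0) (.leaf 0)) (.node (.leaf 0) (.leaf 0))) (.node (.node (.leaf 0) (.leaf 0)) (.node (.leaf 0) (.leaf 0)))))))

/-- A Schreier factor, part 740. -/
def facCodePart740 : Janko1.Tree ℕ := (.node (.node (.node (.node (.node (.node (.leaf 0) (.leaf 0)) (.node (.leaf 0) (.leaf 0))) (.node (.node (.leaf 0) (.leaf 0)) (.node (.leaf 0) (.leaf 0)))) (.node (.node (.node (.leaf 0) (.leaf 0)) (.node (.leaf 0) (.leaf 0))) (.node (.node (.leaf 0) (.leaf 0)) (.node (.leaf 0) (.leaf 0))))) (.node (.node (.node (.node (.leaf 0) (.leaf 0)) (.node (.leaf 0) (.leaf 0))) (.node (.node (.leaf 0) (.leaf 0)) (.node (.leaf 0) (.leaf 0)))) (.node (.node (.node (.leaf 0) (.leaf 0)) (.node (.leaf 0) (.leaf 0))) (.node (.node (.leaf 0) (.leaf 0)) (.node (.leaf 0) (.leaf 0)))))) (.node (.node (.node (.node (.node (.leaf 0) (.leaf 0)) (.node (.leaf 0) (.leaf 0))) (.node (.node (.leaf 0) (.leaf 0)) (.node (.leaf 0) (.leaf 0)))) (.node (.node (.node (.leaf 0) (.leaf 0)) (.node (.leaf 0) (.leaf 0))) (.node (.node (.leaf 0)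 (.leaf 0)) (.node (.leaf 0) (.leaf 0))))) (.node (.node (.node (.node (.leaf 0) (.leaf 0)) (.node (.leaf 0) (.leaf 0))) (.node (.node (.leaf 0) (.leaf 0)) (.node (.leaf 0) (.leaf 0)))) (.node (.node (.node (.leaf 0) (.leaf 0)) (.node (.leaf 0) (.leaf 0))) (.node (.node (.leaf 0) (.leaf 0)) (.node (.leaf 0) (.leaf 0)))))))

/-- A Schreier factor, part 741. -/
def facCodePart741 : Janko1.Tree ℕ := (.node (.node (.node (.node (.node (.node (.leaf 0) (.leaf 0)) (.node (.leaf 0) (.leaf 0))) (.node (.node (.leaf 0) (.leaf 0)) (.node (.leaf 0) (.leaf 0)))) (.node (.node (.node (.leaf 0) (.leaf 0)) (.node (.leaf 0) (.leaf 0))) (.node (.node (.leaf 0) (.leaf 0)) (.node (.leaf 0) (.leaf 0))))) (.node (.node (.node (.node (.leaf 0) (.leaf 0)) (.node (.leaf 0) (.leaf 0))) (.node (.node (.leaf 0) (.leaf 0)) (.node (.leaf 0) (.leaf 0)))) (.node (.node (.node (.leaf 0) (.leaf 0)) (.node (.leaf 0) (.leaf 0))) (.node (.node (.leaf 0) (.leaf 0)) (.node (.leaf 0) (.leaf 0)))))) (.node (.node (.node (.node (.node (.leaf 0) (.leaf 0)) (.node (.leaf 0) (.leaf 0)))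 (.node (.node (.leaf 0) (.leaf 0)) (.node (.leaf 0) (.leaf 0)))) (.node (.node (.node (.leaf 0) (.leaf 0)) (.node (.leaf 0) (.leaf 0))) (.node (.node (.leaf 0) (.leaf 0)) (.node (.leaf 0) (.leaf 0))))) (.node (.node (.node (.node (.leaf 0) (.leaf 0)) (.node (.leaf 0) (.leaf 0))) (.node (.node (.leaf 0) (.leaf 0)) (.node (.leaf 0) (.leaf 0)))) (.node (.node (.node (.leaf 0) (.leaf 0)) (.node (.leaf 0) (.leaf 0))) (.node (.node (.leaf 0) (.leaf 0)) (.node (.leaf 0) (.leaf 0)))))))

/-- A Schreier factor, part 742. -/
def facCodePart742 : Janko1.Tree ℕ := (.node (.node (.node (.node (.node (.node (.leaf 0) (.leaf 0)) (.node (.leaf 0) (.leaf 0))) (.node (.node (.leaf 0) (.leaf 0)) (.node (.leaf 0) (.leaf 0)))) (.node (.node (.node (.leaf 0) (.leaf 0)) (.node (.leaf 0) (.leaf 0))) (.node (.node (.leaf 0) (.leaf 0)) (.node (.leaf 0) (.leaf 0))))) (.node (.node (.node (.node (.leaf 0) (.leaf 0)) (.node (.leaf 0) (.leaf 0))) (.node (.node (.leaf 0) (.leaf 0)) (.node (.leaf 0) (.leaf 0)))) (.node (.node (.node (.leaf 0) (.leaf 0)) (.node (.leaf 0) (.leaf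 0))) (.node (.node (.leaf 0) (.leaf 0)) (.node (.leaf 0) (.leaf 0)))))) (.node (.node (.node (.node (.node (.leaf 0) (.leaf 0)) (.node (.leaf 0) (.leaf 0))) (.node (.node (.leaf 0) (.leaf 0)) (.node (.leaf 0) (.leaf 0)))) (.node (.node (.node (.leaf 0) (.leaf 0)) (.node (.leaf 0) (.leaf 0))) (.node (.node (.leaf 0) (.leaf 0)) (.node (.leaf 0) (.leaf 0))))) (.node (.node (.node (.node (.leaf 0) (.leaf 0)) (.node (.leaf 0) (.leaf 0))) (.node (.node (.leaf 0) (.leaf 0)) (.node (.leaf 0) (.leaf 0)))) (.node (.node (.node (.leaf 0) (.leaf 0)) (.node (.leaf 0) (.leaf 0))) (.node (.node (.leaf 0) (.leaf 0)) (.node (.leaf 0) (.leaf 0)))))))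

/-- A Schreier factor, part 743. -/
def facCodePart743 : Janko1.Tree ℕ := (.node (.node (.node (.node (.node (.node (.leaf 0) (.leaf 0)) (.node (.leaf 0) (.leaf 0))) (.node (.node (.leaf 0) (.leaf 0)) (.node (.leaf 0) (.leaf 0)))) (.node (.node (.node (.leaf 0) (.leaf 0)) (.node (.leaf 0) (.leaf 0))) (.node (.node (.leaf 0) (.leaf 0)) (.node (.leaf 0) (.leaf 0))))) (.node (.node (.node (.node (.leaf 0) (.leaf 0)) (.node (.leaf 0) (.leaf 0))) (.node (.node (.leaf 0) (.leaf 0)) (.node (.leaf 0) (.leaf 0)))) (.node (.node (.node (.leaf 0) (.leaf 0)) (.node (.leaf 0) (.leaf 0))) (.node (.node (.leaf 0) (.leaf 0)) (.node (.leaf 0) (.leaf 0)))))) (.node (.node (.node (.node (.node (.leaf 0) (.leaf 0)) (.node (.leaf 0) (.leaf 0))) (.node (.node (.leaf 0) (.leaf 0)) (.node (.leaf 0) (.leaf 0)))) (.node (.node (.node (.leaf 0) (.leaf 0)) (.node (.leaf 0) (.leaf 0))) (.node (.node (.leaf 0) (.leaf 0)) (.node (.leaf 0) (.leaf 0))))) (.node (.node (.node (.node (.leaf 0) (.leaf 0)) (.node (.leaf 0) (.leaf 0))) (.node (.node (.leaf 0) (.leaf 0)) (.node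 (.leaf 0) (.leaf 0)))) (.node (.node (.node (.leaf 0) (.leaf 0)) (.node (.leaf 0) (.leaf 0))) (.node (.node (.leaf 0) (.leaf 0)) (.node (.leaf 0) (.leaf 0)))))))

/-- A Schreier factor, part 744. -/
def facCodePart744 : Janko1.Tree ℕ := (.node (.node (.node (.node (.node (.node (.leaf 0) (.leaf 0)) (.node (.leaf 0) (.leaf 0))) (.node (.node (.leaf 0) (.leaf 0)) (.node (.leaf 0) (.leaf 0)))) (.node (.node (.node (.leaf 0) (.leaf 0)) (.node (.leaf 0) (.leaf 0))) (.node (.node (.leaf 0) (.leaf 0)) (.node (.leaf 0) (.leaf 0))))) (.node (.node (.node (.node (.leaf 0) (.leaf 0)) (.node (.leaf 0) (.leaf 0))) (.node (.node (.leaf 0) (.leaf 0)) (.node (.leaf 0) (.leaf 0)))) (.node (.node (.node (.leaf 0) (.leaf 0)) (.node (.leaf 0) (.leaf 0))) (.node (.node (.leaf 0) (.leaf 0)) (.node (.leaf 0) (.leaf 0)))))) (.node (.node (.node (.node (.node (.leaf 0) (.leaf 0)) (.node (.leaf 0) (.leaf 0))) (.node (.node (.leaf 0) (.leaf 0)) (.node (.leaf 0) (.leaf 0)))) (.node (.node (.node (.leaf 0) (.leaf 0)) (.node (.leaf 0) (.leaf 0))) (.node (.node (.leaf 0)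 (.leaf 0)) (.node (.leaf 0) (.leaf 0))))) (.node (.node (.node (.node (.leaf 0) (.leaf 0)) (.node (.leaf 0) (.leaf 0))) (.node (.node (.leaf 0) (.leaf 0)) (.node (.leaf 0) (.leaf 0)))) (.node (.node (.node (.leaf 0) (.leaf 0)) (.node (.leaf 0) (.leaf 0))) (.node (.node (.leaf 0) (.leaf 0)) (.node (.leaf 0) (.leaf 0)))))))

/-- A Schreier factor, part 745. -/
def facCodePart745 : Janko1.Tree ℕ := (.node (.node (.node (.node (.node (.node (.leaf 0) (.leaf 0)) (.node (.leaf 0) (.leaf 0))) (.node (.node (.leaf 0) (.leaf 0)) (.node (.leaf 0) (.leaf 0)))) (.node (.node (.node (.leaf 0) (.leaf 0)) (.node (.leaf 0) (.leaf 0))) (.node (.node (.leaf 0) (.leaf 0)) (.node (.leaf 0) (.leaf 0))))) (.node (.node (.node (.node (.leaf 0) (.leaf 0)) (.node (.leaf 0) (.leaf 0))) (.node (.node (.leaf 0) (.leaf 0)) (.node (.leaf 0) (.leaf 0)))) (.node (.node (.node (.leaf 0) (.leaf 0)) (.node (.leaf 0) (.leaf 0))) (.node (.node (.leaf 0) (.leaf 0)) (.node (.leaf 0) (.leaf 0)))))) (.node (.node (.node (.node (.node (.leaf 0) (.leaf 0)) (.node (.leaf 0) (.leaf 0)))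 (.node (.node (.leaf 0) (.leaf 0)) (.node (.leaf 0) (.leaf 0)))) (.node (.node (.node (.leaf 0) (.leaf 0)) (.node (.leaf 0) (.leaf 0))) (.node (.node (.leaf 0) (.leaf 0)) (.node (.leaf 0) (.leaf 0))))) (.node (.node (.node (.node (.leaf 0) (.leaf 0)) (.node (.leaf 0) (.leaf 0))) (.node (.node (.leaf 0) (.leaf 0)) (.node (.leaf 0) (.leaf 0)))) (.node (.node (.node (.leaf 0) (.leaf 0)) (.node (.leaf 0) (.leaf 0))) (.node (.node (.leaf 0) (.leaf 0)) (.node (.leaf 0) (.leaf 0)))))))

/-- A Schreier factor, part 746. -/
def facCodePart746 : Janko1.Tree ℕ := (.node (.node (.node (.node (.node (.node (.leaf 0) (.leaf 0)) (.node (.leaf 0) (.leaf 0))) (.node (.node (.leaf 0) (.leaf 0)) (.node (.leaf 0) (.leaf 0)))) (.node (.node (.node (.leaf 0) (.leaf 0)) (.node (.leaf 0) (.leaf 0))) (.node (.node (.leaf 0) (.leaf 0)) (.node (.leaf 0) (.leaf 0))))) (.node (.node (.node (.node (.leaf 0) (.leaf 0)) (.node (.leaf 0) (.leaf 0))) (.node (.node (.leaf 0) (.leaf 0)) (.node (.leaf 0) (.leaf 0)))) (.node (.node (.node (.leaf 0) (.leaf 0)) (.node (.leaf 0) (.leaf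 0))) (.node (.node (.leaf 0) (.leaf 0)) (.node (.leaf 0) (.leaf 0)))))) (.node (.node (.node (.node (.node (.leaf 0) (.leaf 0)) (.node (.leaf 0) (.leaf 0))) (.node (.node (.leaf 0) (.leaf 0)) (.node (.leaf 0) (.leaf 0)))) (.node (.node (.node (.leaf 0) (.leaf 0)) (.node (.leaf 0) (.leaf 0))) (.node (.node (.leaf 0) (.leaf 0)) (.node (.leaf 0) (.leaf 0))))) (.node (.node (.node (.node (.leaf 0) (.leaf 0)) (.node (.leaf 0) (.leaf 0))) (.node (.node (.leaf 0) (.leaf 0)) (.node (.leaf 0) (.leaf 0)))) (.node (.node (.node (.leaf 0) (.leaf 0)) (.node (.leaf 0) (.leaf 0))) (.node (.node (.leaf 0) (.leaf 0)) (.node (.leaf 0) (.leaf 0)))))))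

/-- A Schreier factor, part 747. -/
def facCodePart747 : Janko1.Tree ℕ := (.node (.node (.node (.node (.node (.node (.leaf 0) (.leaf 0)) (.node (.leaf 0) (.leaf 0))) (.node (.node (.leaf 0) (.leaf 0)) (.node (.leaf 0) (.leaf 0)))) (.node (.node (.node (.leaf 0) (.leaf 0)) (.node (.leaf 0) (.leaf 0))) (.node (.node (.leaf 0) (.leaf 0)) (.node (.leaf 0) (.leaf 0))))) (.node (.node (.node (.node (.leaf 0) (.leaf 0)) (.node (.leaf 0) (.leaf 0))) (.node (.node (.leaf 0) (.leaf 0)) (.node (.leaf 0) (.leaf 0)))) (.node (.node (.node (.leaf 0) (.leaf 0)) (.node (.leaf 0) (.leaf 0))) (.node (.node (.leaf 0) (.leaf 0)) (.node (.leaf 0) (.leaf 0)))))) (.node (.node (.node (.node (.node (.leaf 0) (.leaf 0)) (.node (.leaf 0) (.leaf 0))) (.node (.node (.leaf 0) (.leaf 0)) (.node (.leaf 0) (.leaf 0)))) (.node (.node (.node (.leaf 0) (.leaf 0)) (.node (.leaf 0) (.leaf 0))) (.node (.node (.leaf 0) (.leaf 0)) (.node (.leaf 0) (.leaf 0))))) (.node (.node (.node (.node (.leaf 0) (.leaf 0)) (.node (.leaf 0) (.leaf 0))) (.node (.node (.leaf 0) (.leaf 0)) (.node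 (.leaf 0) (.leaf 0)))) (.node (.node (.node (.leaf 0) (.leaf 0)) (.node (.leaf 0) (.leaf 0))) (.node (.node (.leaf 0) (.leaf 0)) (.node (.leaf 0) (.leaf 0)))))))

/-- A Schreier factor, part 748. -/
def facCodePart748 : Janko1.Tree ℕ := (.node (.node (.node (.node (.node (.node (.leaf 0) (.leaf 0)) (.node (.leaf 0) (.leaf 0))) (.node (.node (.leaf 0) (.leaf 0)) (.node (.leaf 0) (.leaf 0)))) (.node (.node (.node (.leaf 0) (.leaf 0)) (.node (.leaf 0) (.leaf 0))) (.node (.node (.leaf 0) (.leaf 0)) (.node (.leaf 0) (.leaf 0))))) (.node (.node (.node (.node (.leaf 0) (.leaf 0)) (.node (.leaf 0) (.leaf 0))) (.node (.node (.leaf 0) (.leaf 0)) (.node (.leaf 0) (.leaf 0)))) (.node (.node (.node (.leaf 0) (.leaf 0)) (.node (.leaf 0) (.leaf 0))) (.node (.node (.leaf 0) (.leaf 0)) (.node (.leaf 0) (.leaf 0)))))) (.node (.node (.node (.node (.node (.leaf 0) (.leaf 0)) (.node (.leaf 0) (.leaf 0))) (.node (.node (.leaf 0) (.leaf 0)) (.node (.leaf 0) (.leaf 0)))) (.node (.node (.node (.leaf 0) (.leaf 0)) (.node (.leaf 0) (.leaf 0))) (.node (.node (.leaf 0)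 (.leaf 0)) (.node (.leaf 0) (.leaf 0))))) (.node (.node (.node (.node (.leaf 0) (.leaf 0)) (.node (.leaf 0) (.leaf 0))) (.node (.node (.leaf 0) (.leaf 0)) (.node (.leaf 0) (.leaf 0)))) (.node (.node (.node (.leaf 0) (.leaf 0)) (.node (.leaf 0) (.leaf 0))) (.node (.node (.leaf 0) (.leaf 0)) (.node (.leaf 0) (.leaf 0)))))))

/-- A Schreier factor, part 749. -/
def facCodePart749 : Janko1.Tree ℕ := (.node (.node (.node (.node (.node (.node (.leaf 0) (.leaf 0)) (.node (.leaf 0) (.leaf 0))) (.node (.node (.leaf 0) (.leaf 0)) (.node (.leaf 0) (.leaf 0)))) (.node (.node (.node (.leaf 0) (.leaf 0)) (.node (.leaf 0) (.leaf 0))) (.node (.node (.leaf 0) (.leaf 0)) (.node (.leaf 0) (.leaf 0))))) (.node (.node (.node (.node (.leaf 0) (.leaf 0)) (.node (.leaf 0) (.leaf 0))) (.node (.node (.leaf 0) (.leaf 0)) (.node (.leaf 0) (.leaf 0)))) (.node (.node (.node (.leaf 0) (.leaf 0)) (.node (.leaf 0) (.leaf 0))) (.node (.node (.leaf 0) (.leaf 0)) (.node (.leaf 0) (.leaf 0)))))) (.node (.node (.node (.node (.node (.leaf 0) (.leaf 0)) (.node (.leaf 0) (.leaf 0)))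 (.node (.node (.leaf 0) (.leaf 0)) (.node (.leaf 0) (.leaf 0)))) (.node (.node (.node (.leaf 0) (.leaf 0)) (.node (.leaf 0) (.leaf 0))) (.node (.node (.leaf 0) (.leaf 0)) (.node (.leaf 0) (.leaf 0))))) (.node (.node (.node (.node (.leaf 0) (.leaf 0)) (.node (.leaf 0) (.leaf 0))) (.node (.node (.leaf 0) (.leaf 0)) (.node (.leaf 0) (.leaf 0)))) (.node (.node (.node (.leaf 0) (.leaf 0)) (.node (.leaf 0) (.leaf 0))) (.node (.node (.leaf 0) (.leaf 0)) (.node (.leaf 0) (.leaf 0)))))))

/-- A Schreier factor, part 750. -/
def facCodePart750 : Janko1.Tree ℕ := (.node (.node (.node (.node (.node (.node (.leaf 0) (.leaf 0)) (.node (.leaf 0) (.leaf 0))) (.node (.node (.leaf 0) (.leaf 0)) (.node (.leaf 0) (.leaf 0)))) (.node (.node (.node (.leaf 0) (.leaf 0)) (.node (.leaf 0) (.leaf 0))) (.node (.node (.leaf 0) (.leaf 0)) (.node (.leaf 0) (.leaf 0))))) (.node (.node (.node (.node (.leaf 0) (.leaf 0)) (.node (.leaf 0) (.leaf 0))) (.node (.node (.leaf 0) (.leaf 0)) (.node (.leaf 0) (.leaf 0)))) (.node (.node (.node (.leaf 0) (.leaf 0)) (.node (.leaf 0) (.leaf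 0))) (.node (.node (.leaf 0) (.leaf 0)) (.node (.leaf 0) (.leaf 0)))))) (.node (.node (.node (.node (.node (.leaf 0) (.leaf 0)) (.node (.leaf 0) (.leaf 0))) (.node (.node (.leaf 0) (.leaf 0)) (.node (.leaf 0) (.leaf 0)))) (.node (.node (.node (.leaf 0) (.leaf 0)) (.node (.leaf 0) (.leaf 0))) (.node (.node (.leaf 0) (.leaf 0)) (.node (.leaf 0) (.leaf 0))))) (.node (.node (.node (.node (.leaf 0) (.leaf 0)) (.node (.leaf 0) (.leaf 0))) (.node (.node (.leaf 0) (.leaf 0)) (.node (.leaf 0) (.leaf 0)))) (.node (.node (.node (.leaf 0) (.leaf 0)) (.node (.leaf 0) (.leaf 0))) (.node (.node (.leaf 0) (.leaf 0)) (.node (.leaf 0) (.leaf 0)))))))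

/-- A Schreier factor, part 751. -/
def facCodePart751 : Janko1.Tree ℕ := (.node (.node (.node (.node (.node (.node (.leaf 0) (.leaf 0)) (.node (.leaf 0) (.leaf 0))) (.node (.node (.leaf 0) (.leaf 0)) (.node (.leaf 0) (.leaf 0)))) (.node (.node (.node (.leaf 0) (.leaf 0)) (.node (.leaf 0) (.leaf 0))) (.node (.node (.leaf 0) (.leaf 0)) (.node (.leaf 0) (.leaf 0))))) (.node (.node (.node (.node (.leaf 0) (.leaf 0)) (.node (.leaf 0) (.leaf 0))) (.node (.node (.leaf 0) (.leaf 0)) (.node (.leaf 0) (.leaf 0)))) (.node (.node (.node (.leaf 0) (.leaf 0)) (.node (.leaf 0) (.leaf 0))) (.node (.node (.leaf 0) (.leaf 0)) (.node (.leaf 0) (.leaf 0)))))) (.node (.node (.node (.node (.node (.leaf 0) (.leaf 0)) (.node (.leaf 0) (.leaf 0))) (.node (.node (.leaf 0) (.leaf 0)) (.node (.leaf 0) (.leaf 0)))) (.node (.node (.node (.leaf 0) (.leaf 0)) (.node (.leaf 0) (.leaf 0))) (.node (.node (.leaf 0) (.leaf 0)) (.node (.leaf 0) (.leaf 0))))) (.node (.node (.node (.node (.leaf 0) (.leaf 0)) (.node (.leaf 0) (.leaf 0))) (.node (.node (.leaf 0) (.leaf 0)) (.node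 (.leaf 0) (.leaf 0)))) (.node (.node (.node (.leaf 0) (.leaf 0)) (.node (.leaf 0) (.leaf 0))) (.node (.node (.leaf 0) (.leaf 0)) (.node (.leaf 0) (.leaf 0)))))))

/-- A Schreier factor, part 752. -/
def facCodePart752 : Janko1.Tree ℕ := (.node (.node (.node (.node (.node (.node (.leaf 0) (.leaf 0)) (.node (.leaf 0) (.leaf 0))) (.node (.node (.leaf 0) (.leaf 0)) (.node (.leaf 0) (.leaf 0)))) (.node (.node (.node (.leaf 0) (.leaf 0)) (.node (.leaf 0) (.leaf 0))) (.node (.node (.leaf 0) (.leaf 0)) (.node (.leaf 0) (.leaf 0))))) (.node (.node (.node (.node (.leaf 0) (.leaf 0)) (.node (.leaf 0) (.leaf 0))) (.node (.node (.leaf 0) (.leaf 0)) (.node (.leaf 0) (.leaf 0)))) (.node (.node (.node (.leaf 0) (.leaf 0)) (.node (.leaf 0) (.leaf 0))) (.node (.node (.leaf 0) (.leaf 0)) (.node (.leaf 0) (.leaf 0)))))) (.node (.node (.node (.node (.node (.leaf 0) (.leaf 0)) (.node (.leaf 0) (.leaf 0))) (.node (.node (.leaf 0) (.leaf 0)) (.node (.leaf 0) (.leaf 0)))) (.node (.node (.node (.leaf 0) (.leaf 0)) (.node (.leaf 0) (.leaf 0))) (.node (.node (.leaf 0)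 (.leaf 0)) (.node (.leaf 0) (.leaf 0))))) (.node (.node (.node (.node (.leaf 0) (.leaf 0)) (.node (.leaf 0) (.leaf 0))) (.node (.node (.leaf 0) (.leaf 0)) (.node (.leaf 0) (.leaf 0)))) (.node (.node (.node (.leaf 0) (.leaf 0)) (.node (.leaf 0) (.leaf 0))) (.node (.node (.leaf 0) (.leaf 0)) (.node (.leaf 0) (.leaf 0)))))))

/-- A Schreier factor, part 753. -/
def facCodePart753 : Janko1.Tree ℕ := (.node (.node (.node (.node (.node (.node (.leaf 0) (.leaf 0)) (.node (.leaf 0) (.leaf 0))) (.node (.node (.leaf 0) (.leaf 0)) (.node (.leaf 0) (.leaf 0)))) (.node (.node (.node (.leaf 0) (.leaf 0)) (.node (.leaf 0) (.leaf 0))) (.node (.node (.leaf 0) (.leaf 0)) (.node (.leaf 0) (.leaf 0))))) (.node (.node (.node (.node (.leaf 0) (.leaf 0)) (.node (.leaf 0) (.leaf 0))) (.node (.node (.leaf 0) (.leaf 0)) (.node (.leaf 0) (.leaf 0)))) (.node (.node (.node (.leaf 0) (.leaf 0)) (.node (.leaf 0) (.leaf 0))) (.node (.node (.leaf 0) (.leaf 0)) (.node (.leaf 0) (.leaf 0)))))) (.node (.node (.node (.node (.node (.leaf 0) (.leaf 0)) (.node (.leaf 0) (.leaf 0)))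 (.node (.node (.leaf 0) (.leaf 0)) (.node (.leaf 0) (.leaf 0)))) (.node (.node (.node (.leaf 0) (.leaf 0)) (.node (.leaf 0) (.leaf 0))) (.node (.node (.leaf 0) (.leaf 0)) (.node (.leaf 0) (.leaf 0))))) (.node (.node (.node (.node (.leaf 0) (.leaf 0)) (.node (.leaf 0) (.leaf 0))) (.node (.node (.leaf 0) (.leaf 0)) (.node (.leaf 0) (.leaf 0)))) (.node (.node (.node (.leaf 0) (.leaf 0)) (.node (.leaf 0) (.leaf 0))) (.node (.node (.leaf 0) (.leaf 0)) (.node (.leaf 0) (.leaf 0)))))))

/-- A Schreier factor, part 754. -/
def facCodePart754 : Janko1.Tree ℕ := (.node (.node (.node (.node (.node (.node (.leaf 0) (.leaf 0)) (.node (.leaf 0) (.leaf 0))) (.node (.node (.leaf 0) (.leaf 0)) (.node (.leaf 0) (.leaf 0)))) (.node (.node (.node (.leaf 0) (.leaf 0)) (.node (.leaf 0) (.leaf 0))) (.node (.node (.leaf 0) (.leaf 0)) (.node (.leaf 0) (.leaf 0))))) (.node (.node (.node (.node (.leaf 0) (.leaf 0)) (.node (.leaf 0) (.leaf 0))) (.node (.node (.leaf 0) (.leaf 0)) (.node (.leaf 0) (.leaf 0)))) (.node (.node (.node (.leaf 0) (.leaf 0)) (.node (.leaf 0) (.leaf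 0))) (.node (.node (.leaf 0) (.leaf 0)) (.node (.leaf 0) (.leaf 0)))))) (.node (.node (.node (.node (.node (.leaf 0) (.leaf 0)) (.node (.leaf 0) (.leaf 0))) (.node (.node (.leaf 0) (.leaf 0)) (.node (.leaf 0) (.leaf 0)))) (.node (.node (.node (.leaf 0) (.leaf 0)) (.node (.leaf 0) (.leaf 0))) (.node (.node (.leaf 0) (.leaf 0)) (.node (.leaf 0) (.leaf 0))))) (.node (.node (.node (.node (.leaf 0) (.leaf 0)) (.node (.leaf 0) (.leaf 0))) (.node (.node (.leaf 0) (.leaf 0)) (.node (.leaf 0) (.leaf 0)))) (.node (.node (.node (.leaf 0) (.leaf 0)) (.node (.leaf 0) (.leaf 0))) (.node (.node (.leaf 0) (.leaf 0)) (.node (.leaf 0) (.leaf 0)))))))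

/-- A Schreier factor, part 755. -/
def facCodePart755 : Janko1.Tree ℕ := (.node (.node (.node (.node (.node (.node (.leaf 0) (.leaf 0)) (.node (.leaf 0) (.leaf 0))) (.node (.node (.leaf 0) (.leaf 0)) (.node (.leaf 0) (.leaf 0)))) (.node (.node (.node (.leaf 0) (.leaf 0)) (.node (.leaf 0) (.leaf 0))) (.node (.node (.leaf 0) (.leaf 0)) (.node (.leaf 0) (.leaf 0))))) (.node (.node (.node (.node (.leaf 0) (.leaf 0)) (.node (.leaf 0) (.leaf 0))) (.node (.node (.leaf 0) (.leaf 0)) (.node (.leaf 0) (.leaf 0)))) (.node (.node (.node (.leaf 0) (.leaf 0)) (.node (.leaf 0) (.leaf 0))) (.node (.node (.leaf 0) (.leaf 0)) (.node (.leaf 0) (.leaf 0)))))) (.node (.node (.node (.node (.node (.leaf 0) (.leaf 0)) (.node (.leaf 0) (.leaf 0))) (.node (.node (.leaf 0) (.leaf 0)) (.node (.leaf 0) (.leaf 0)))) (.node (.node (.node (.leaf 0) (.leaf 0)) (.node (.leaf 0) (.leaf 0))) (.node (.node (.leaf 0) (.leaf 0)) (.node (.leaf 0) (.leaf 0))))) (.node (.node (.node (.node (.leaf 0) (.leaf 0)) (.node (.leaf 0) (.leaf 0))) (.node (.node (.leaf 0) (.leaf 0)) (.node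 (.leaf 0) (.leaf 0)))) (.node (.node (.node (.leaf 0) (.leaf 0)) (.node (.leaf 0) (.leaf 0))) (.node (.node (.leaf 0) (.leaf 0)) (.node (.leaf 0) (.leaf 0)))))))

/-- A Schreier factor, part 756. -/
def facCodePart756 : Janko1.Tree ℕ := (.node (.node (.node (.node (.node (.node (.leaf 0) (.leaf 0)) (.node (.leaf 0) (.leaf 0))) (.node (.node (.leaf 0) (.leaf 0)) (.node (.leaf 0) (.leaf 0)))) (.node (.node (.node (.leaf 0) (.leaf 0)) (.node (.leaf 0) (.leaf 0))) (.node (.node (.leaf 0) (.leaf 0)) (.node (.leaf 0) (.leaf 0))))) (.node (.node (.node (.node (.leaf 0) (.leaf 0)) (.node (.leaf 0) (.leaf 0))) (.node (.node (.leaf 0) (.leaf 0)) (.node (.leaf 0) (.leaf 0)))) (.node (.node (.node (.leaf 0) (.leaf 0)) (.node (.leaf 0) (.leaf 0))) (.node (.node (.leaf 0) (.leaf 0)) (.node (.leaf 0) (.leaf 0)))))) (.node (.node (.node (.node (.node (.leaf 0) (.leaf 0)) (.node (.leaf 0) (.leaf 0))) (.node (.node (.leaf 0) (.leaf 0)) (.node (.leaf 0) (.leaf 0)))) (.node (.node (.node (.leaf 0) (.leaf 0)) (.node (.leaf 0) (.leaf 0))) (.node (.node (.leaf 0)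 (.leaf 0)) (.node (.leaf 0) (.leaf 0))))) (.node (.node (.node (.node (.leaf 0) (.leaf 0)) (.node (.leaf 0) (.leaf 0))) (.node (.node (.leaf 0) (.leaf 0)) (.node (.leaf 0) (.leaf 0)))) (.node (.node (.node (.leaf 0) (.leaf 0)) (.node (.leaf 0) (.leaf 0))) (.node (.node (.leaf 0) (.leaf 0)) (.node (.leaf 0) (.leaf 0)))))))

/-- A Schreier factor, part 757. -/
def facCodePart757 : Janko1.Tree ℕ := (.node (.node (.node (.node (.node (.node (.leaf 0) (.leaf 0)) (.node (.leaf 0) (.leaf 0))) (.node (.node (.leaf 0) (.leaf 0)) (.node (.leaf 0) (.leaf 0)))) (.node (.node (.node (.leaf 0) (.leaf 0)) (.node (.leaf 0) (.leaf 0))) (.node (.node (.leaf 0) (.leaf 0)) (.node (.leaf 0) (.leaf 0))))) (.node (.node (.node (.node (.leaf 0) (.leaf 0)) (.node (.leaf 0) (.leaf 0))) (.node (.node (.leaf 0) (.leaf 0)) (.node (.leaf 0) (.leaf 0)))) (.node (.node (.node (.leaf 0) (.leaf 0)) (.node (.leaf 0) (.leaf 0))) (.node (.node (.leaf 0) (.leaf 0)) (.node (.leaf 0) (.leaf 0)))))) (.node (.node (.node (.node (.node (.leaf 0) (.leaf 0)) (.node (.leaf 0) (.leaf 0)))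 (.node (.node (.leaf 0) (.leaf 0)) (.node (.leaf 0) (.leaf 0)))) (.node (.node (.node (.leaf 0) (.leaf 0)) (.node (.leaf 0) (.leaf 0))) (.node (.node (.leaf 0) (.leaf 0)) (.node (.leaf 0) (.leaf 0))))) (.node (.node (.node (.node (.leaf 0) (.leaf 0)) (.node (.leaf 0) (.leaf 0))) (.node (.node (.leaf 0) (.leaf 0)) (.node (.leaf 0) (.leaf 0)))) (.node (.node (.node (.leaf 0) (.leaf 0)) (.node (.leaf 0) (.leaf 0))) (.node (.node (.leaf 0) (.leaf 0)) (.node (.leaf 0) (.leaf 0)))))))

/-- A Schreier factor, part 758. -/
def facCodePart758 : Janko1.Tree ℕ := (.node (.node (.node (.node (.node (.node (.leaf 0) (.leaf 0)) (.node (.leaf 0) (.leaf 0))) (.node (.node (.leaf 0) (.leaf 0)) (.node (.leaf 0) (.leaf 0)))) (.node (.node (.node (.leaf 0) (.leaf 0)) (.node (.leaf 0) (.leaf 0))) (.node (.node (.leaf 0) (.leaf 0)) (.node (.leaf 0) (.leaf 0))))) (.node (.node (.node (.node (.leaf 0) (.leaf 0)) (.node (.leaf 0) (.leaf 0))) (.node (.node (.leaf 0) (.leaf 0)) (.node (.leaf 0) (.leaf 0)))) (.node (.node (.node (.leaf 0) (.leaf 0)) (.node (.leaf 0) (.leaf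 0))) (.node (.node (.leaf 0) (.leaf 0)) (.node (.leaf 0) (.leaf 0)))))) (.node (.node (.node (.node (.node (.leaf 0) (.leaf 0)) (.node (.leaf 0) (.leaf 0))) (.node (.node (.leaf 0) (.leaf 0)) (.node (.leaf 0) (.leaf 0)))) (.node (.node (.node (.leaf 0) (.leaf 0)) (.node (.leaf 0) (.leaf 0))) (.node (.node (.leaf 0) (.leaf 0)) (.node (.leaf 0) (.leaf 0))))) (.node (.node (.node (.node (.leaf 0) (.leaf 0)) (.node (.leaf 0) (.leaf 0))) (.node (.node (.leaf 0) (.leaf 0)) (.node (.leaf 0) (.leaf 0)))) (.node (.node (.node (.leaf 0) (.leaf 0)) (.node (.leaf 0) (.leaf 0))) (.node (.node (.leaf 0) (.leaf 0)) (.node (.leaf 0) (.leaf 0)))))))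

/-- A Schreier factor, part 759. -/
def facCodePart759 : Janko1.Tree ℕ := (.node (.node (.node (.node (.node (.node (.leaf 0) (.leaf 0)) (.node (.leaf 0) (.leaf 0))) (.node (.node (.leaf 0) (.leaf 0)) (.node (.leaf 0) (.leaf 0)))) (.node (.node (.node (.leaf 0) (.leaf 0)) (.node (.leaf 0) (.leaf 0))) (.node (.node (.leaf 0) (.leaf 0)) (.node (.leaf 0) (.leaf 0))))) (.node (.node (.node (.node (.leaf 0) (.leaf 0)) (.node (.leaf 0) (.leaf 0))) (.node (.node (.leaf 0) (.leaf 0)) (.node (.leaf 0) (.leaf 0)))) (.node (.node (.node (.leaf 0) (.leaf 0)) (.node (.leaf 0) (.leaf 0))) (.node (.node (.leaf 0) (.leaf 0)) (.node (.leaf 0) (.leaf 0)))))) (.node (.node (.node (.node (.node (.leaf 0) (.leaf 0)) (.node (.leaf 0) (.leaf 0))) (.node (.node (.leaf 0) (.leaf 0)) (.node (.leaf 0) (.leaf 0)))) (.node (.node (.node (.leaf 0) (.leaf 0)) (.node (.leaf 0) (.leaf 0))) (.node (.node (.leaf 0) (.leaf 0)) (.node (.leaf 0) (.leaf 0))))) (.node (.node (.node (.node (.leaf 0) (.leaf 0)) (.node (.leaf 0) (.leaf 0))) (.node (.node (.leaf 0) (.leaf 0)) (.node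 (.leaf 0) (.leaf 0)))) (.node (.node (.node (.leaf 0) (.leaf 0)) (.node (.leaf 0) (.leaf 0))) (.node (.node (.leaf 0) (.leaf 0)) (.node (.leaf 0) (.leaf 0)))))))

/-- A Schreier factor, part 760. -/
def facCodePart760 : Janko1.Tree ℕ := (.node (.node (.node (.node (.node (.node (.leaf 0) (.leaf 0)) (.node (.leaf 0) (.leaf 0))) (.node (.node (.leaf 0) (.leaf 0)) (.node (.leaf 0) (.leaf 0)))) (.node (.node (.node (.leaf 0) (.leaf 0)) (.node (.leaf 0) (.leaf 0))) (.node (.node (.leaf 0) (.leaf 0)) (.node (.leaf 0) (.leaf 0))))) (.node (.node (.node (.node (.leaf 0) (.leaf 0)) (.node (.leaf 0) (.leaf 0))) (.node (.node (.leaf 0) (.leaf 0)) (.node (.leaf 0) (.leaf 0)))) (.node (.node (.node (.leaf 0) (.leaf 0)) (.node (.leaf 0) (.leaf 0))) (.node (.node (.leaf 0) (.leaf 0)) (.node (.leaf 0) (.leaf 0)))))) (.node (.node (.node (.node (.node (.leaf 0) (.leaf 0)) (.node (.leaf 0) (.leaf 0))) (.node (.node (.leaf 0) (.leaf 0)) (.node (.leaf 0) (.leaf 0)))) (.node (.node (.node (.leaf 0) (.leaf 0)) (.node (.leaf 0) (.leaf 0))) (.node (.node (.leaf 0)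 (.leaf 0)) (.node (.leaf 0) (.leaf 0))))) (.node (.node (.node (.node (.leaf 0) (.leaf 0)) (.node (.leaf 0) (.leaf 0))) (.node (.node (.leaf 0) (.leaf 0)) (.node (.leaf 0) (.leaf 0)))) (.node (.node (.node (.leaf 0) (.leaf 0)) (.node (.leaf 0) (.leaf 0))) (.node (.node (.leaf 0) (.leaf 0)) (.node (.leaf 0) (.leaf 0)))))))

/-- A Schreier factor, part 761. -/
def facCodePart761 : Janko1.Tree ℕ := (.node (.node (.node (.node (.node (.node (.leaf 0) (.leaf 0)) (.node (.leaf 0) (.leaf 0))) (.node (.node (.leaf 0) (.leaf 0)) (.node (.leaf 0) (.leaf 0)))) (.node (.node (.node (.leaf 0) (.leaf 0)) (.node (.leaf 0) (.leaf 0))) (.node (.node (.leaf 0) (.leaf 0)) (.node (.leaf 0) (.leaf 0))))) (.node (.node (.node (.node (.leaf 0) (.leaf 0)) (.node (.leaf 0) (.leaf 0))) (.node (.node (.leaf 0) (.leaf 0)) (.node (.leaf 0) (.leaf 0)))) (.node (.node (.node (.leaf 0) (.leaf 0)) (.node (.leaf 0) (.leaf 0))) (.node (.node (.leaf 0) (.leaf 0)) (.node (.leaf 0) (.leaf 0)))))) (.node (.node (.node (.node (.node (.leaf 0) (.leaf 0)) (.node (.leaf 0) (.leaf 0)))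 (.node (.node (.leaf 0) (.leaf 0)) (.node (.leaf 0) (.leaf 0)))) (.node (.node (.node (.leaf 0) (.leaf 0)) (.node (.leaf 0) (.leaf 0))) (.node (.node (.leaf 0) (.leaf 0)) (.node (.leaf 0) (.leaf 0))))) (.node (.node (.node (.node (.leaf 0) (.leaf 0)) (.node (.leaf 0) (.leaf 0))) (.node (.node (.leaf 0) (.leaf 0)) (.node (.leaf 0) (.leaf 0)))) (.node (.node (.node (.leaf 0) (.leaf 0)) (.node (.leaf 0) (.leaf 0))) (.node (.node (.leaf 0) (.leaf 0)) (.node (.leaf 0) (.leaf 0)))))))

/-- A Schreier factor, part 762. -/
def facCodePart762 : Janko1.Tree ℕ := (.node (.node (.node (.node (.node (.node (.leaf 0) (.leaf 0)) (.node (.leaf 0) (.leaf 0))) (.node (.node (.leaf 0) (.leaf 0)) (.node (.leaf 0) (.leaf 0)))) (.node (.node (.node (.leaf 0) (.leaf 0)) (.node (.leaf 0) (.leaf 0))) (.node (.node (.leaf 0) (.leaf 0)) (.node (.leaf 0) (.leaf 0))))) (.node (.node (.node (.node (.leaf 0) (.leaf 0)) (.node (.leaf 0) (.leaf 0))) (.node (.node (.leaf 0) (.leaf 0)) (.node (.leaf 0) (.leaf 0)))) (.node (.node (.node (.leaf 0) (.leaf 0)) (.node (.leaf 0) (.leaf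 0))) (.node (.node (.leaf 0) (.leaf 0)) (.node (.leaf 0) (.leaf 0)))))) (.node (.node (.node (.node (.node (.leaf 0) (.leaf 0)) (.node (.leaf 0) (.leaf 0))) (.node (.node (.leaf 0) (.leaf 0)) (.node (.leaf 0) (.leaf 0)))) (.node (.node (.node (.leaf 0) (.leaf 0)) (.node (.leaf 0) (.leaf 0))) (.node (.node (.leaf 0) (.leaf 0)) (.node (.leaf 0) (.leaf 0))))) (.node (.node (.node (.node (.leaf 0) (.leaf 0)) (.node (.leaf 0) (.leaf 0))) (.node (.node (.leaf 0) (.leaf 0)) (.node (.leaf 0) (.leaf 0)))) (.node (.node (.node (.leaf 0) (.leaf 0)) (.node (.leaf 0) (.leaf 0))) (.node (.node (.leaf 0) (.leaf 0)) (.node (.leaf 0) (.leaf 0)))))))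

/-- A Schreier factor, part 763. -/
def facCodePart763 : Janko1.Tree ℕ := (.node (.node (.node (.node (.node (.node (.leaf 0) (.leaf 0)) (.node (.leaf 0) (.leaf 0))) (.node (.node (.leaf 0) (.leaf 0)) (.node (.leaf 0) (.leaf 0)))) (.node (.node (.node (.leaf 0) (.leaf 0)) (.node (.leaf 0) (.leaf 0))) (.node (.node (.leaf 0) (.leaf 0)) (.node (.leaf 0) (.leaf 0))))) (.node (.node (.node (.node (.leaf 0) (.leaf 0)) (.node (.leaf 0) (.leaf 0))) (.node (.node (.leaf 0) (.leaf 0)) (.node (.leaf 0) (.leaf 0)))) (.node (.node (.node (.leaf 0) (.leaf 0)) (.node (.leaf 0) (.leaf 0))) (.node (.node (.leaf 0) (.leaf 0)) (.node (.leaf 0) (.leaf 0)))))) (.node (.node (.node (.node (.node (.leaf 0) (.leaf 0)) (.node (.leaf 0) (.leaf 0))) (.node (.node (.leaf 0) (.leaf 0)) (.node (.leaf 0) (.leaf 0)))) (.node (.node (.node (.leaf 0) (.leaf 0)) (.node (.leaf 0) (.leaf 0))) (.node (.node (.leaf 0) (.leaf 0)) (.node (.leaf 0) (.leaf 0))))) (.node (.node (.node (.node (.leaf 0) (.leaf 0)) (.node (.leaf 0) (.leaf 0))) (.node (.node (.leaf 0) (.leaf 0)) (.node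 (.leaf 0) (.leaf 0)))) (.node (.node (.node (.leaf 0) (.leaf 0)) (.node (.leaf 0) (.leaf 0))) (.node (.node (.leaf 0) (.leaf 0)) (.node (.leaf 0) (.leaf 0)))))))

/-- A Schreier factor, part 764. -/
def facCodePart764 : Janko1.Tree ℕ := (.node (.node (.node (.node (.node (.node (.leaf 0) (.leaf 0)) (.node (.leaf 0) (.leaf 0))) (.node (.node (.leaf 0) (.leaf 0)) (.node (.leaf 0) (.leaf 0)))) (.node (.node (.node (.leaf 0) (.leaf 0)) (.node (.leaf 0) (.leaf 0))) (.node (.node (.leaf 0) (.leaf 0)) (.node (.leaf 0) (.leaf 0))))) (.node (.node (.node (.node (.leaf 0) (.leaf 0)) (.node (.leaf 0) (.leaf 0))) (.node (.node (.leaf 0) (.leaf 0)) (.node (.leaf 0) (.leaf 0)))) (.node (.node (.node (.leaf 0) (.leaf 0)) (.node (.leaf 0) (.leaf 0))) (.node (.node (.leaf 0) (.leaf 0)) (.node (.leaf 0) (.leaf 0)))))) (.node (.node (.node (.node (.node (.leaf 0) (.leaf 0)) (.node (.leaf 0) (.leaf 0))) (.node (.node (.leaf 0) (.leaf 0)) (.node (.leaf 0) (.leaf 0)))) (.node (.node (.node (.leaf 0) (.leaf 0)) (.node (.leaf 0) (.leaf 0))) (.node (.node (.leaf 0)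 (.leaf 0)) (.node (.leaf 0) (.leaf 0))))) (.node (.node (.node (.node (.leaf 0) (.leaf 0)) (.node (.leaf 0) (.leaf 0))) (.node (.node (.leaf 0) (.leaf 0)) (.node (.leaf 0) (.leaf 0)))) (.node (.node (.node (.leaf 0) (.leaf 0)) (.node (.leaf 0) (.leaf 0))) (.node (.node (.leaf 0) (.leaf 0)) (.node (.leaf 0) (.leaf 0)))))))

/-- A Schreier factor, part 765. -/
def facCodePart765 : Janko1.Tree ℕ := (.node (.node (.node (.node (.node (.node (.leaf 0) (.leaf 0)) (.node (.leaf 0) (.leaf 0))) (.node (.node (.leaf 0) (.leaf 0)) (.node (.leaf 0) (.leaf 0)))) (.node (.node (.node (.leaf 0) (.leaf 0)) (.node (.leaf 0) (.leaf 0))) (.node (.node (.leaf 0) (.leaf 0)) (.node (.leaf 0) (.leaf 0))))) (.node (.node (.node (.node (.leaf 0) (.leaf 0)) (.node (.leaf 0) (.leaf 0))) (.node (.node (.leaf 0) (.leaf 0)) (.node (.leaf 0) (.leaf 0)))) (.node (.node (.node (.leaf 0) (.leaf 0)) (.node (.leaf 0) (.leaf 0))) (.node (.node (.leaf 0) (.leaf 0)) (.node (.leaf 0) (.leaf 0)))))) (.node (.node (.node (.node (.node (.leaf 0) (.leaf 0)) (.node (.leaf 0) (.leaf 0)))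 (.node (.node (.leaf 0) (.leaf 0)) (.node (.leaf 0) (.leaf 0)))) (.node (.node (.node (.leaf 0) (.leaf 0)) (.node (.leaf 0) (.leaf 0))) (.node (.node (.leaf 0) (.leaf 0)) (.node (.leaf 0) (.leaf 0))))) (.node (.node (.node (.node (.leaf 0) (.leaf 0)) (.node (.leaf 0) (.leaf 0))) (.node (.node (.leaf 0) (.leaf 0)) (.node (.leaf 0) (.leaf 0)))) (.node (.node (.node (.leaf 0) (.leaf 0)) (.node (.leaf 0) (.leaf 0))) (.node (.node (.leaf 0) (.leaf 0)) (.node (.leaf 0) (.leaf 0)))))))

/-- A Schreier factor, part 766. -/
def facCodePart766 : Janko1.Tree ℕ := (.node (.node (.node (.node (.node (.node (.leaf 0) (.leaf 0)) (.node (.leaf 0) (.leaf 0))) (.node (.node (.leaf 0) (.leaf 0)) (.node (.leaf 0) (.leaf 0)))) (.node (.node (.node (.leaf 0) (.leaf 0)) (.node (.leaf 0) (.leaf 0))) (.node (.node (.leaf 0) (.leaf 0)) (.node (.leaf 0) (.leaf 0))))) (.node (.node (.node (.node (.leaf 0) (.leaf 0)) (.node (.leaf 0) (.leaf 0))) (.node (.node (.leaf 0) (.leaf 0)) (.node (.leaf 0) (.leaf 0)))) (.node (.node (.node (.leaf 0) (.leaf 0)) (.node (.leaf 0) (.leaf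 0))) (.node (.node (.leaf 0) (.leaf 0)) (.node (.leaf 0) (.leaf 0)))))) (.node (.node (.node (.node (.node (.leaf 0) (.leaf 0)) (.node (.leaf 0) (.leaf 0))) (.node (.node (.leaf 0) (.leaf 0)) (.node (.leaf 0) (.leaf 0)))) (.node (.node (.node (.leaf 0) (.leaf 0)) (.node (.leaf 0) (.leaf 0))) (.node (.node (.leaf 0) (.leaf 0)) (.node (.leaf 0) (.leaf 0))))) (.node (.node (.node (.node (.leaf 0) (.leaf 0)) (.node (.leaf 0) (.leaf 0))) (.node (.node (.leaf 0) (.leaf 0)) (.node (.leaf 0) (.leaf 0)))) (.node (.node (.node (.leaf 0) (.leaf 0)) (.node (.leaf 0) (.leaf 0))) (.node (.node (.leaf 0) (.leaf 0)) (.node (.leaf 0) (.leaf 0)))))))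

/-- A Schreier factor, part 767. -/
def facCodePart767 : Janko1.Tree ℕ := (.node (.node (.node (.node (.node (.node (.leaf 0) (.leaf 0)) (.node (.leaf 0) (.leaf 0))) (.node (.node (.leaf 0) (.leaf 0)) (.node (.leaf 0) (.leaf 0)))) (.node (.node (.node (.leaf 0) (.leaf 0)) (.node (.leaf 0) (.leaf 0))) (.node (.node (.leaf 0) (.leaf 0)) (.node (.leaf 0) (.leaf 0))))) (.node (.node (.node (.node (.leaf 0) (.leaf 0)) (.node (.leaf 0) (.leaf 0))) (.node (.node (.leaf 0) (.leaf 0)) (.node (.leaf 0) (.leaf 0)))) (.node (.node (.node (.leaf 0) (.leaf 0)) (.node (.leaf 0) (.leaf 0))) (.node (.node (.leaf 0) (.leaf 0)) (.node (.leaf 0) (.leaf 0)))))) (.node (.node (.node (.node (.node (.leaf 0) (.leaf 0)) (.node (.leaf 0) (.leaf 0))) (.node (.node (.leaf 0) (.leaf 0)) (.node (.leaf 0) (.leaf 0)))) (.node (.node (.node (.leaf 0) (.leaf 0)) (.node (.leaf 0) (.leaf 0))) (.node (.node (.leaf 0) (.leaf 0)) (.node (.leaf 0) (.leaf 0))))) (.node (.node (.node (.node (.leaf 0) (.leaf 0)) (.node (.leaf 0) (.leaf 0))) (.node (.node (.leaf 0) (.leaf 0)) (.node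 (.leaf 0) (.leaf 0)))) (.node (.node (.node (.leaf 0) (.leaf 0)) (.node (.leaf 0) (.leaf 0))) (.node (.node (.leaf 0) (.leaf 0)) (.node (.leaf 0) (.leaf 0)))))))

/-- A Schreier factor, part 768. -/
def facCodePart768 : Janko1.Tree ℕ := (.node (.node (.node (.node (.node (.node (.leaf 0) (.leaf 0)) (.node (.leaf 0) (.leaf 0))) (.node (.node (.leaf 0) (.leaf 0)) (.node (.leaf 0) (.leaf 0)))) (.node (.node (.node (.leaf 0) (.leaf 0)) (.node (.leaf 0) (.leaf 0))) (.node (.node (.leaf 0) (.leaf 0)) (.node (.leaf 0) (.leaf 0))))) (.node (.node (.node (.node (.leaf 0) (.leaf 0)) (.node (.leaf 0) (.leaf 0))) (.node (.node (.leaf 0) (.leaf 0)) (.node (.leaf 0) (.leaf 0)))) (.node (.node (.node (.leaf 0) (.leaf 0)) (.node (.leaf 0) (.leaf 0))) (.node (.node (.leaf 0) (.leaf 0)) (.node (.leaf 0) (.leaf 0)))))) (.node (.node (.node (.node (.node (.leaf 0) (.leaf 0)) (.node (.leaf 0) (.leaf 0))) (.node (.node (.leaf 0) (.leaf 0)) (.node (.leaf 0) (.leaf 0)))) (.node (.node (.node (.leaf 0) (.leaf 0)) (.node (.leaf 0) (.leaf 0))) (.node (.node (.leaf 0)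 (.leaf 0)) (.node (.leaf 0) (.leaf 0))))) (.node (.node (.node (.node (.leaf 0) (.leaf 0)) (.node (.leaf 0) (.leaf 0))) (.node (.node (.leaf 0) (.leaf 0)) (.node (.leaf 0) (.leaf 0)))) (.node (.node (.node (.leaf 0) (.leaf 0)) (.node (.leaf 0) (.leaf 0))) (.node (.node (.leaf 0) (.leaf 0)) (.node (.leaf 0) (.leaf 0)))))))

/-- A Schreier factor, part 769. -/
def facCodePart769 : Janko1.Tree ℕ := (.node (.node (.node (.node (.node (.node (.leaf 0) (.leaf 0)) (.node (.leaf 0) (.leaf 0))) (.node (.node (.leaf 0) (.leaf 0)) (.node (.leaf 0) (.leaf 0)))) (.node (.node (.node (.leaf 0) (.leaf 0)) (.node (.leaf 0) (.leaf 0))) (.node (.node (.leaf 0) (.leaf 0)) (.node (.leaf 0) (.leaf 0))))) (.node (.node (.node (.node (.leaf 0) (.leaf 0)) (.node (.leaf 0) (.leaf 0))) (.node (.node (.leaf 0) (.leaf 0)) (.node (.leaf 0) (.leaf 0)))) (.node (.node (.node (.leaf 0) (.leaf 0)) (.node (.leaf 0) (.leaf 0))) (.node (.node (.leaf 0) (.leaf 0)) (.node (.leaf 0) (.leaf 0)))))) (.node (.node (.node (.node (.node (.leaf 0) (.leaf 0)) (.node (.leaf 0) (.leaf 0)))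 (.node (.node (.leaf 0) (.leaf 0)) (.node (.leaf 0) (.leaf 0)))) (.node (.node (.node (.leaf 0) (.leaf 0)) (.node (.leaf 0) (.leaf 0))) (.node (.node (.leaf 0) (.leaf 0)) (.node (.leaf 0) (.leaf 0))))) (.node (.node (.node (.node (.leaf 0) (.leaf 0)) (.node (.leaf 0) (.leaf 0))) (.node (.node (.leaf 0) (.leaf 0)) (.node (.leaf 0) (.leaf 0)))) (.node (.node (.node (.leaf 0) (.leaf 0)) (.node (.leaf 0) (.leaf 0))) (.node (.node (.leaf 0) (.leaf 0)) (.node (.leaf 0) (.leaf 0)))))))

/-- A Schreier factor, part 770. -/
def facCodePart770 : Janko1.Tree ℕ := (.node (.node (.node (.node (.node (.node (.leaf 0) (.leaf 0)) (.node (.leaf 0) (.leaf 0))) (.node (.node (.leaf 0) (.leaf 0)) (.node (.leaf 0) (.leaf 0)))) (.node (.node (.node (.leaf 0) (.leaf 0)) (.node (.leaf 0) (.leaf 0))) (.node (.node (.leaf 0) (.leaf 0)) (.node (.leaf 0) (.leaf 0))))) (.node (.node (.node (.node (.leaf 0) (.leaf 0)) (.node (.leaf 0) (.leaf 0))) (.node (.node (.leaf 0) (.leaf 0)) (.node (.leaf 0) (.leaf 0)))) (.node (.node (.node (.leaf 0) (.leaf 0)) (.node (.leaf 0) (.leaf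 0))) (.node (.node (.leaf 0) (.leaf 0)) (.node (.leaf 0) (.leaf 0)))))) (.node (.node (.node (.node (.node (.leaf 0) (.leaf 0)) (.node (.leaf 0) (.leaf 0))) (.node (.node (.leaf 0) (.leaf 0)) (.node (.leaf 0) (.leaf 0)))) (.node (.node (.node (.leaf 0) (.leaf 0)) (.node (.leaf 0) (.leaf 0))) (.node (.node (.leaf 0) (.leaf 0)) (.node (.leaf 0) (.leaf 0))))) (.node (.node (.node (.node (.leaf 0) (.leaf 0)) (.node (.leaf 0) (.leaf 0))) (.node (.node (.leaf 0) (.leaf 0)) (.node (.leaf 0) (.leaf 0)))) (.node (.node (.node (.leaf 0) (.leaf 0)) (.node (.leaf 0) (.leaf 0))) (.node (.node (.leaf 0) (.leaf 0)) (.node (.leaf 0) (.leaf 0)))))))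

/-- A Schreier factor, part 771. -/
def facCodePart771 : Janko1.Tree ℕ := (.node (.node (.node (.node (.node (.node (.leaf 0) (.leaf 0)) (.node (.leaf 0) (.leaf 0))) (.node (.node (.leaf 0) (.leaf 0)) (.node (.leaf 0) (.leaf 0)))) (.node (.node (.node (.leaf 0) (.leaf 0)) (.node (.leaf 0) (.leaf 0))) (.node (.node (.leaf 0) (.leaf 0)) (.node (.leaf 0) (.leaf 0))))) (.node (.node (.node (.node (.leaf 0) (.leaf 0)) (.node (.leaf 0) (.leaf 0))) (.node (.node (.leaf 0) (.leaf 0)) (.node (.leaf 0) (.leaf 0)))) (.node (.node (.node (.leaf 0) (.leaf 0)) (.node (.leaf 0) (.leaf 0))) (.node (.node (.leaf 0) (.leaf 0)) (.node (.leaf 0) (.leaf 0)))))) (.node (.node (.node (.node (.node (.leaf 0) (.leaf 0)) (.node (.leaf 0) (.leaf 0))) (.node (.node (.leaf 0) (.leaf 0)) (.node (.leaf 0) (.leaf 0)))) (.node (.node (.node (.leaf 0) (.leaf 0)) (.node (.leaf 0) (.leaf 0))) (.node (.node (.leaf 0) (.leaf 0)) (.node (.leaf 0) (.leaf 0))))) (.node (.node (.node (.node (.leaf 0) (.leaf 0)) (.node (.leaf 0) (.leaf 0))) (.node (.node (.leaf 0) (.leaf 0)) (.node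 (.leaf 0) (.leaf 0)))) (.node (.node (.node (.leaf 0) (.leaf 0)) (.node (.leaf 0) (.leaf 0))) (.node (.node (.leaf 0) (.leaf 0)) (.node (.leaf 0) (.leaf 0)))))))

/-- A Schreier factor, part 772. -/
def facCodePart772 : Janko1.Tree ℕ := (.node (.node (.node (.node (.node (.node (.leaf 0) (.leaf 0)) (.node (.leaf 0) (.leaf 0))) (.node (.node (.leaf 0) (.leaf 0)) (.node (.leaf 0) (.leaf 0)))) (.node (.node (.node (.leaf 0) (.leaf 0)) (.node (.leaf 0) (.leaf 0))) (.node (.node (.leaf 0) (.leaf 0)) (.node (.leaf 0) (.leaf 0))))) (.node (.node (.node (.node (.leaf 0) (.leaf 0)) (.node (.leaf 0) (.leaf 0))) (.node (.node (.leaf 0) (.leaf 0)) (.node (.leaf 0) (.leaf 0)))) (.node (.node (.node (.leaf 0) (.leaf 0)) (.node (.leaf 0) (.leaf 0))) (.node (.node (.leaf 0) (.leaf 0)) (.node (.leaf 0) (.leaf 0)))))) (.node (.node (.node (.node (.node (.leaf 0) (.leaf 0)) (.node (.leaf 0) (.leaf 0))) (.node (.node (.leaf 0) (.leaf 0)) (.node (.leaf 0) (.leaf 0)))) (.node (.node (.node (.leaf 0) (.leaf 0)) (.node (.leaf 0) (.leaf 0))) (.node (.node (.leaf 0)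 (.leaf 0)) (.node (.leaf 0) (.leaf 0))))) (.node (.node (.node (.node (.leaf 0) (.leaf 0)) (.node (.leaf 0) (.leaf 0))) (.node (.node (.leaf 0) (.leaf 0)) (.node (.leaf 0) (.leaf 0)))) (.node (.node (.node (.leaf 0) (.leaf 0)) (.node (.leaf 0) (.leaf 0))) (.node (.node (.leaf 0) (.leaf 0)) (.node (.leaf 0) (.leaf 0)))))))

/-- A Schreier factor, part 773. -/
def facCodePart773 : Janko1.Tree ℕ := (.node (.node (.node (.node (.node (.node (.leaf 0) (.leaf 0)) (.node (.leaf 0) (.leaf 0))) (.node (.node (.leaf 0) (.leaf 0)) (.node (.leaf 0) (.leaf 0)))) (.node (.node (.node (.leaf 0) (.leaf 0)) (.node (.leaf 0) (.leaf 0))) (.node (.node (.leaf 0) (.leaf 0)) (.node (.leaf 0) (.leaf 0))))) (.node (.node (.node (.node (.leaf 0) (.leaf 0)) (.node (.leaf 0) (.leaf 0))) (.node (.node (.leaf 0) (.leaf 0)) (.node (.leaf 0) (.leaf 0)))) (.node (.node (.node (.leaf 0) (.leaf 0)) (.node (.leaf 0) (.leaf 0))) (.node (.node (.leaf 0) (.leaf 0)) (.node (.leaf 0) (.leaf 0)))))) (.node (.node (.node (.node (.node (.leaf 0) (.leaf 0)) (.node (.leaf 0) (.leaf 0)))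 (.node (.node (.leaf 0) (.leaf 0)) (.node (.leaf 0) (.leaf 0)))) (.node (.node (.node (.leaf 0) (.leaf 0)) (.node (.leaf 0) (.leaf 0))) (.node (.node (.leaf 0) (.leaf 0)) (.node (.leaf 0) (.leaf 0))))) (.node (.node (.node (.node (.leaf 0) (.leaf 0)) (.node (.leaf 0) (.leaf 0))) (.node (.node (.leaf 0) (.leaf 0)) (.node (.leaf 0) (.leaf 0)))) (.node (.node (.node (.leaf 0) (.leaf 0)) (.node (.leaf 0) (.leaf 0))) (.node (.node (.leaf 0) (.leaf 0)) (.node (.leaf 0) (.leaf 0)))))))

/-- A Schreier factor, part 774. -/
def facCodePart774 : Janko1.Tree ℕ := (.node (.node (.node (.node (.node (.node (.leaf 0) (.leaf 0)) (.node (.leaf 0) (.leaf 0))) (.node (.node (.leaf 0) (.leaf 0)) (.node (.leaf 0) (.leaf 0)))) (.node (.node (.node (.leaf 0) (.leaf 0)) (.node (.leaf 0) (.leaf 0))) (.node (.node (.leaf 0) (.leaf 0)) (.node (.leaf 0) (.leaf 0))))) (.node (.node (.node (.node (.leaf 0) (.leaf 0)) (.node (.leaf 0) (.leaf 0))) (.node (.node (.leaf 0) (.leaf 0)) (.node (.leaf 0) (.leaf 0)))) (.node (.node (.node (.leaf 0) (.leaf 0)) (.node (.leaf 0) (.leaf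 0))) (.node (.node (.leaf 0) (.leaf 0)) (.node (.leaf 0) (.leaf 0)))))) (.node (.node (.node (.node (.node (.leaf 0) (.leaf 0)) (.node (.leaf 0) (.leaf 0))) (.node (.node (.leaf 0) (.leaf 0)) (.node (.leaf 0) (.leaf 0)))) (.node (.node (.node (.leaf 0) (.leaf 0)) (.node (.leaf 0) (.leaf 0))) (.node (.node (.leaf 0) (.leaf 0)) (.node (.leaf 0) (.leaf 0))))) (.node (.node (.node (.node (.leaf 0) (.leaf 0)) (.node (.leaf 0) (.leaf 0))) (.node (.node (.leaf 0) (.leaf 0)) (.node (.leaf 0) (.leaf 0)))) (.node (.node (.node (.leaf 0) (.leaf 0)) (.node (.leaf 0) (.leaf 0))) (.node (.node (.leaf 0) (.leaf 0)) (.node (.leaf 0) (.leaf 0)))))))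

/-- A Schreier factor, part 775. -/
def facCodePart775 : Janko1.Tree ℕ := (.node (.node (.node (.node (.node (.node (.leaf 0) (.leaf 0)) (.node (.leaf 0) (.leaf 0))) (.node (.node (.leaf 0) (.leaf 0)) (.node (.leaf 0) (.leaf 0)))) (.node (.node (.node (.leaf 0) (.leaf 0)) (.node (.leaf 0) (.leaf 0))) (.node (.node (.leaf 0) (.leaf 0)) (.node (.leaf 0) (.leaf 0))))) (.node (.node (.node (.node (.leaf 0) (.leaf 0)) (.node (.leaf 0) (.leaf 0))) (.node (.node (.leaf 0) (.leaf 0)) (.node (.leaf 0) (.leaf 0)))) (.node (.node (.node (.leaf 0) (.leaf 0)) (.node (.leaf 0) (.leaf 0))) (.node (.node (.leaf 0) (.leaf 0)) (.node (.leaf 0) (.leaf 0)))))) (.node (.node (.node (.node (.node (.leaf 0) (.leaf 0)) (.node (.leaf 0) (.leaf 0))) (.node (.node (.leaf 0) (.leaf 0)) (.node (.leaf 0) (.leaf 0)))) (.node (.node (.node (.leaf 0) (.leaf 0)) (.node (.leaf 0) (.leaf 0))) (.node (.node (.leaf 0) (.leaf 0)) (.node (.leaf 0) (.leaf 0))))) (.node (.node (.node (.node (.leaf 0) (.leaf 0)) (.node (.leaf 0) (.leaf 0))) (.node (.node (.leaf 0) (.leaf 0)) (.node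 (.leaf 0) (.leaf 0)))) (.node (.node (.node (.leaf 0) (.leaf 0)) (.node (.leaf 0) (.leaf 0))) (.node (.node (.leaf 0) (.leaf 0)) (.node (.leaf 0) (.leaf 0)))))))

/-- A Schreier factor, part 776. -/
def facCodePart776 : Janko1.Tree ℕ := (.node (.node (.node (.node (.node (.node (.leaf 0) (.leaf 0)) (.node (.leaf 0) (.leaf 0))) (.node (.node (.leaf 0) (.leaf 0)) (.node (.leaf 0) (.leaf 0)))) (.node (.node (.node (.leaf 0) (.leaf 0)) (.node (.leaf 0) (.leaf 0))) (.node (.node (.leaf 0) (.leaf 0)) (.node (.leaf 0) (.leaf 0))))) (.node (.node (.node (.node (.leaf 0) (.leaf 0)) (.node (.leaf 0) (.leaf 0))) (.node (.node (.leaf 0) (.leaf 0)) (.node (.leaf 0) (.leaf 0)))) (.node (.node (.node (.leaf 0) (.leaf 0)) (.node (.leaf 0) (.leaf 0))) (.node (.node (.leaf 0) (.leaf 0)) (.node (.leaf 0) (.leaf 0)))))) (.node (.node (.node (.node (.node (.leaf 0) (.leaf 0)) (.node (.leaf 0) (.leaf 0))) (.node (.node (.leaf 0) (.leaf 0)) (.node (.leaf 0) (.leaf 0)))) (.node (.node (.node (.leaf 0) (.leaf 0)) (.node (.leaf 0) (.leaf 0))) (.node (.node (.leaf 0)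 (.leaf 0)) (.node (.leaf 0) (.leaf 0))))) (.node (.node (.node (.node (.leaf 0) (.leaf 0)) (.node (.leaf 0) (.leaf 0))) (.node (.node (.leaf 0) (.leaf 0)) (.node (.leaf 0) (.leaf 0)))) (.node (.node (.node (.leaf 0) (.leaf 0)) (.node (.leaf 0) (.leaf 0))) (.node (.node (.leaf 0) (.leaf 0)) (.node (.leaf 0) (.leaf 0)))))))

/-- A Schreier factor, part 777. -/
def facCodePart777 : Janko1.Tree ℕ := (.node (.node (.node (.node (.node (.node (.leaf 0) (.leaf 0)) (.node (.leaf 0) (.leaf 0))) (.node (.node (.leaf 0) (.leaf 0)) (.node (.leaf 0) (.leaf 0)))) (.node (.node (.node (.leaf 0) (.leaf 0)) (.node (.leaf 0) (.leaf 0))) (.node (.node (.leaf 0) (.leaf 0)) (.node (.leaf 0) (.leaf 0))))) (.node (.node (.node (.node (.leaf 0) (.leaf 0)) (.node (.leaf 0) (.leaf 0))) (.node (.node (.leaf 0) (.leaf 0)) (.node (.leaf 0) (.leaf 0)))) (.node (.node (.node (.leaf 0) (.leaf 0)) (.node (.leaf 0) (.leaf 0))) (.node (.node (.leaf 0) (.leaf 0)) (.node (.leaf 0) (.leaf 0)))))) (.node (.node (.node (.node (.node (.leaf 0) (.leaf 0)) (.node (.leaf 0) (.leaf 0)))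 (.node (.node (.leaf 0) (.leaf 0)) (.node (.leaf 0) (.leaf 0)))) (.node (.node (.node (.leaf 0) (.leaf 0)) (.node (.leaf 0) (.leaf 0))) (.node (.node (.leaf 0) (.leaf 0)) (.node (.leaf 0) (.leaf 0))))) (.node (.node (.node (.node (.leaf 0) (.leaf 0)) (.node (.leaf 0) (.leaf 0))) (.node (.node (.leaf 0) (.leaf 0)) (.node (.leaf 0) (.leaf 0)))) (.node (.node (.node (.leaf 0) (.leaf 0)) (.node (.leaf 0) (.leaf 0))) (.node (.node (.leaf 0) (.leaf 0)) (.node (.leaf 0) (.leaf 0)))))))

/-- A Schreier factor, part 778. -/
def facCodePart778 : Janko1.Tree ℕ := (.node (.node (.node (.node (.node (.node (.leaf 0) (.leaf 0)) (.node (.leaf 0) (.leaf 0))) (.node (.node (.leaf 0) (.leaf 0)) (.node (.leaf 0) (.leaf 0)))) (.node (.node (.node (.leaf 0) (.leaf 0)) (.node (.leaf 0) (.leaf 0))) (.node (.node (.leaf 0) (.leaf 0)) (.node (.leaf 0) (.leaf 0))))) (.node (.node (.node (.node (.leaf 0) (.leaf 0)) (.node (.leaf 0) (.leaf 0))) (.node (.node (.leaf 0) (.leaf 0)) (.node (.leaf 0) (.leaf 0)))) (.node (.node (.node (.leaf 0) (.leaf 0)) (.node (.leaf 0) (.leaf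 0))) (.node (.node (.leaf 0) (.leaf 0)) (.node (.leaf 0) (.leaf 0)))))) (.node (.node (.node (.node (.node (.leaf 0) (.leaf 0)) (.node (.leaf 0) (.leaf 0))) (.node (.node (.leaf 0) (.leaf 0)) (.node (.leaf 0) (.leaf 0)))) (.node (.node (.node (.leaf 0) (.leaf 0)) (.node (.leaf 0) (.leaf 0))) (.node (.node (.leaf 0) (.leaf 0)) (.node (.leaf 0) (.leaf 0))))) (.node (.node (.node (.node (.leaf 0) (.leaf 0)) (.node (.leaf 0) (.leaf 0))) (.node (.node (.leaf 0) (.leaf 0)) (.node (.leaf 0) (.leaf 0)))) (.node (.node (.node (.leaf 0) (.leaf 0)) (.node (.leaf 0) (.leaf 0))) (.node (.node (.leaf 0) (.leaf 0)) (.node (.leaf 0) (.leaf 0)))))))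

/-- A Schreier factor, part 779. -/
def facCodePart779 : Janko1.Tree ℕ := (.node (.node (.node (.node (.node (.node (.leaf 0) (.leaf 0)) (.node (.leaf 0) (.leaf 0))) (.node (.node (.leaf 0) (.leaf 0)) (.node (.leaf 0) (.leaf 0)))) (.node (.node (.node (.leaf 0) (.leaf 0)) (.node (.leaf 0) (.leaf 0))) (.node (.node (.leaf 0) (.leaf 0)) (.node (.leaf 0) (.leaf 0))))) (.node (.node (.node (.node (.leaf 0) (.leaf 0)) (.node (.leaf 0) (.leaf 0))) (.node (.node (.leaf 0) (.leaf 0)) (.node (.leaf 0) (.leaf 0)))) (.node (.node (.node (.leaf 0) (.leaf 0)) (.node (.leaf 0) (.leaf 0))) (.node (.node (.leaf 0) (.leaf 0)) (.node (.leaf 0) (.leaf 0)))))) (.node (.node (.node (.node (.node (.leaf 0) (.leaf 0)) (.node (.leaf 0) (.leaf 0))) (.node (.node (.leaf 0) (.leaf 0)) (.node (.leaf 0) (.leaf 0)))) (.node (.node (.node (.leaf 0) (.leaf 0)) (.node (.leaf 0) (.leaf 0))) (.node (.node (.leaf 0) (.leaf 0)) (.node (.leaf 0) (.leaf 0))))) (.node (.node (.node (.node (.leaf 0) (.leaf 0)) (.node (.leaf 0) (.leaf 0))) (.node (.node (.leaf 0) (.leaf 0)) (.node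 (.leaf 0) (.leaf 0)))) (.node (.node (.node (.leaf 0) (.leaf 0)) (.node (.leaf 0) (.leaf 0))) (.node (.node (.leaf 0) (.leaf 0)) (.node (.leaf 0) (.leaf 0)))))))

/-- A Schreier factor, part 780. -/
def facCodePart780 : Janko1.Tree ℕ := (.node (.node (.node (.node (.node (.node (.leaf 0) (.leaf 0)) (.node (.leaf 0) (.leaf 0))) (.node (.node (.leaf 0) (.leaf 0)) (.node (.leaf 0) (.leaf 0)))) (.node (.node (.node (.leaf 0) (.leaf 0)) (.node (.leaf 0) (.leaf 0))) (.node (.node (.leaf 0) (.leaf 0)) (.node (.leaf 0) (.leaf 0))))) (.node (.node (.node (.node (.leaf 0) (.leaf 0)) (.node (.leaf 0) (.leaf 0))) (.node (.node (.leaf 0) (.leaf 0)) (.node (.leaf 0) (.leaf 0)))) (.node (.node (.node (.leaf 0) (.leaf 0)) (.node (.leaf 0) (.leaf 0))) (.node (.node (.leaf 0) (.leaf 0)) (.node (.leaf 0) (.leaf 0)))))) (.node (.node (.node (.node (.node (.leaf 0) (.leaf 0)) (.node (.leaf 0) (.leaf 0))) (.node (.node (.leaf 0) (.leaf 0)) (.node (.leaf 0) (.leaf 0)))) (.node (.node (.node (.leaf 0) (.leaf 0)) (.node (.leaf 0) (.leaf 0))) (.node (.node (.leaf 0)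 (.leaf 0)) (.node (.leaf 0) (.leaf 0))))) (.node (.node (.node (.node (.leaf 0) (.leaf 0)) (.node (.leaf 0) (.leaf 0))) (.node (.node (.leaf 0) (.leaf 0)) (.node (.leaf 0) (.leaf 0)))) (.node (.node (.node (.leaf 0) (.leaf 0)) (.node (.leaf 0) (.leaf 0))) (.node (.node (.leaf 0) (.leaf 0)) (.node (.leaf 0) (.leaf 0)))))))

/-- A Schreier factor, part 781. -/
def facCodePart781 : Janko1.Tree ℕ := (.node (.node (.node (.node (.node (.node (.leaf 0) (.leaf 0)) (.node (.leaf 0) (.leaf 0))) (.node (.node (.leaf 0) (.leaf 0)) (.node (.leaf 0) (.leaf 0)))) (.node (.node (.node (.leaf 0) (.leaf 0)) (.node (.leaf 0) (.leaf 0))) (.node (.node (.leaf 0) (.leaf 0)) (.node (.leaf 0) (.leaf 0))))) (.node (.node (.node (.node (.leaf 0) (.leaf 0)) (.node (.leaf 0) (.leaf 0))) (.node (.node (.leaf 0) (.leaf 0)) (.node (.leaf 0) (.leaf 0)))) (.node (.node (.node (.leaf 0) (.leaf 0)) (.node (.leaf 0) (.leaf 0))) (.node (.node (.leaf 0) (.leaf 0)) (.node (.leaf 0) (.leaf 0)))))) (.node (.node (.node (.node (.node (.leaf 0) (.leaf 0)) (.node (.leaf 0) (.leaf 0)))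 (.node (.node (.leaf 0) (.leaf 0)) (.node (.leaf 0) (.leaf 0)))) (.node (.node (.node (.leaf 0) (.leaf 0)) (.node (.leaf 0) (.leaf 0))) (.node (.node (.leaf 0) (.leaf 0)) (.node (.leaf 0) (.leaf 0))))) (.node (.node (.node (.node (.leaf 0) (.leaf 0)) (.node (.leaf 0) (.leaf 0))) (.node (.node (.leaf 0) (.leaf 0)) (.node (.leaf 0) (.leaf 0)))) (.node (.node (.node (.leaf 0) (.leaf 0)) (.node (.leaf 0) (.leaf 0))) (.node (.node (.leaf 0) (.leaf 0)) (.node (.leaf 0) (.leaf 0)))))))

/-- A Schreier factor, part 782. -/
def facCodePart782 : Janko1.Tree ℕ := (.node (.node (.node (.node (.node (.node (.leaf 0) (.leaf 0)) (.node (.leaf 0) (.leaf 0))) (.node (.node (.leaf 0) (.leaf 0)) (.node (.leaf 0) (.leaf 0)))) (.node (.node (.node (.leaf 0) (.leaf 0)) (.node (.leaf 0) (.leaf 0))) (.node (.node (.leaf 0) (.leaf 0)) (.node (.leaf 0) (.leaf 0))))) (.node (.node (.node (.node (.leaf 0) (.leaf 0)) (.node (.leaf 0) (.leaf 0))) (.node (.node (.leaf 0) (.leaf 0)) (.node (.leaf 0) (.leaf 0)))) (.node (.node (.node (.leaf 0) (.leaf 0)) (.node (.leaf 0) (.leaf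 0))) (.node (.node (.leaf 0) (.leaf 0)) (.node (.leaf 0) (.leaf 0)))))) (.node (.node (.node (.node (.node (.leaf 0) (.leaf 0)) (.node (.leaf 0) (.leaf 0))) (.node (.node (.leaf 0) (.leaf 0)) (.node (.leaf 0) (.leaf 0)))) (.node (.node (.node (.leaf 0) (.leaf 0)) (.node (.leaf 0) (.leaf 0))) (.node (.node (.leaf 0) (.leaf 0)) (.node (.leaf 0) (.leaf 0))))) (.node (.node (.node (.node (.leaf 0) (.leaf 0)) (.node (.leaf 0) (.leaf 0))) (.node (.node (.leaf 0) (.leaf 0)) (.node (.leaf 0) (.leaf 0)))) (.node (.node (.node (.leaf 0) (.leaf 0)) (.node (.leaf 0) (.leaf 0))) (.node (.node (.leaf 0) (.leaf 0)) (.node (.leaf 0) (.leaf 0)))))))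

/-- A Schreier factor, part 783. -/
def facCodePart783 : Janko1.Tree ℕ := (.node (.node (.node (.node (.node (.node (.leaf 0) (.leaf 0)) (.node (.leaf 0) (.leaf 0))) (.node (.node (.leaf 0) (.leaf 0)) (.node (.leaf 0) (.leaf 0)))) (.node (.node (.node (.leaf 0) (.leaf 0)) (.node (.leaf 0) (.leaf 0))) (.node (.node (.leaf 0) (.leaf 0)) (.node (.leaf 0) (.leaf 0))))) (.node (.node (.node (.node (.leaf 0) (.leaf 0)) (.node (.leaf 0) (.leaf 0))) (.node (.node (.leaf 0) (.leaf 0)) (.node (.leaf 0) (.leaf 0)))) (.node (.node (.node (.leaf 0) (.leaf 0)) (.node (.leaf 0) (.leaf 0))) (.node (.node (.leaf 0) (.leaf 0)) (.node (.leaf 0) (.leaf 0)))))) (.node (.node (.node (.node (.node (.leaf 0) (.leaf 0)) (.node (.leaf 0) (.leaf 0))) (.node (.node (.leaf 0) (.leaf 0)) (.node (.leaf 0) (.leaf 0)))) (.node (.node (.node (.leaf 0) (.leaf 0)) (.node (.leaf 0) (.leaf 0))) (.node (.node (.leaf 0) (.leaf 0)) (.node (.leaf 0) (.leaf 0))))) (.node (.node (.node (.node (.leaf 0) (.leaf 0)) (.node (.leaf 0) (.leaf 0))) (.node (.node (.leaf 0) (.leaf 0)) (.node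 (.leaf 0) (.leaf 0)))) (.node (.node (.node (.leaf 0) (.leaf 0)) (.node (.leaf 0) (.leaf 0))) (.node (.node (.leaf 0) (.leaf 0)) (.node (.leaf 0) (.leaf 0)))))))

/-- A Schreier factor, part 784. -/
def facCodePart784 : Janko1.Tree ℕ := (.node (.node (.node (.node (.node (.node (.leaf 0) (.leaf 0)) (.node (.leaf 0) (.leaf 0))) (.node (.node (.leaf 0) (.leaf 0)) (.node (.leaf 0) (.leaf 0)))) (.node (.node (.node (.leaf 0) (.leaf 0)) (.node (.leaf 0) (.leaf 0))) (.node (.node (.leaf 0) (.leaf 0)) (.node (.leaf 0) (.leaf 0))))) (.node (.node (.node (.node (.leaf 0) (.leaf 0)) (.node (.leaf 0) (.leaf 0))) (.node (.node (.leaf 0) (.leaf 0)) (.node (.leaf 0) (.leaf 0)))) (.node (.node (.node (.leaf 0) (.leaf 0)) (.node (.leaf 0) (.leaf 0))) (.node (.node (.leaf 0) (.leaf 0)) (.node (.leaf 0) (.leaf 0)))))) (.node (.node (.node (.node (.node (.leaf 0) (.leaf 0)) (.node (.leaf 0) (.leaf 0))) (.node (.node (.leaf 0) (.leaf 0)) (.node (.leaf 0) (.leaf 0)))) (.node (.node (.node (.leaf 0) (.leaf 0)) (.node (.leaf 0) (.leaf 0))) (.node (.node (.leaf 0)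 (.leaf 0)) (.node (.leaf 0) (.leaf 0))))) (.node (.node (.node (.node (.leaf 0) (.leaf 0)) (.node (.leaf 0) (.leaf 0))) (.node (.node (.leaf 0) (.leaf 0)) (.node (.leaf 0) (.leaf 0)))) (.node (.node (.node (.leaf 0) (.leaf 0)) (.node (.leaf 0) (.leaf 0))) (.node (.node (.leaf 0) (.leaf 0)) (.node (.leaf 0) (.leaf 0)))))))

/-- A Schreier factor, part 785. -/
def facCodePart785 : Janko1.Tree ℕ := (.node (.node (.node (.node (.node (.node (.leaf 0) (.leaf 0)) (.node (.leaf 0) (.leaf 0))) (.node (.node (.leaf 0) (.leaf 0)) (.node (.leaf 0) (.leaf 0)))) (.node (.node (.node (.leaf 0) (.leaf 0)) (.node (.leaf 0) (.leaf 0))) (.node (.node (.leaf 0) (.leaf 0)) (.node (.leaf 0) (.leaf 0))))) (.node (.node (.node (.node (.leaf 0) (.leaf 0)) (.node (.leaf 0) (.leaf 0))) (.node (.node (.leaf 0) (.leaf 0)) (.node (.leaf 0) (.leaf 0)))) (.node (.node (.node (.leaf 0) (.leaf 0)) (.node (.leaf 0) (.leaf 0))) (.node (.node (.leaf 0) (.leaf 0)) (.node (.leaf 0) (.leaf 0)))))) (.node (.node (.node (.node (.node (.leaf 0) (.leaf 0)) (.node (.leaf 0) (.leaf 0)))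 (.node (.node (.leaf 0) (.leaf 0)) (.node (.leaf 0) (.leaf 0)))) (.node (.node (.node (.leaf 0) (.leaf 0)) (.node (.leaf 0) (.leaf 0))) (.node (.node (.leaf 0) (.leaf 0)) (.node (.leaf 0) (.leaf 0))))) (.node (.node (.node (.node (.leaf 0) (.leaf 0)) (.node (.leaf 0) (.leaf 0))) (.node (.node (.leaf 0) (.leaf 0)) (.node (.leaf 0) (.leaf 0)))) (.node (.node (.node (.leaf 0) (.leaf 0)) (.node (.leaf 0) (.leaf 0))) (.node (.node (.leaf 0) (.leaf 0)) (.node (.leaf 0) (.leaf 0)))))))

/-- A Schreier factor, part 786. -/
def facCodePart786 : Janko1.Tree ℕ := (.node (.node (.node (.node (.node (.node (.leaf 0) (.leaf 0)) (.node (.leaf 0) (.leaf 0))) (.node (.node (.leaf 0) (.leaf 0)) (.node (.leaf 0) (.leaf 0)))) (.node (.node (.node (.leaf 0) (.leaf 0)) (.node (.leaf 0) (.leaf 0))) (.node (.node (.leaf 0) (.leaf 0)) (.node (.leaf 0) (.leaf 0))))) (.node (.node (.node (.node (.leaf 0) (.leaf 0)) (.node (.leaf 0) (.leaf 0))) (.node (.node (.leaf 0) (.leaf 0)) (.node (.leaf 0) (.leaf 0)))) (.node (.node (.node (.leaf 0) (.leaf 0)) (.node (.leaf 0) (.leaf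 0))) (.node (.node (.leaf 0) (.leaf 0)) (.node (.leaf 0) (.leaf 0)))))) (.node (.node (.node (.node (.node (.leaf 0) (.leaf 0)) (.node (.leaf 0) (.leaf 0))) (.node (.node (.leaf 0) (.leaf 0)) (.node (.leaf 0) (.leaf 0)))) (.node (.node (.node (.leaf 0) (.leaf 0)) (.node (.leaf 0) (.leaf 0))) (.node (.node (.leaf 0) (.leaf 0)) (.node (.leaf 0) (.leaf 0))))) (.node (.node (.node (.node (.leaf 0) (.leaf 0)) (.node (.leaf 0) (.leaf 0))) (.node (.node (.leaf 0) (.leaf 0)) (.node (.leaf 0) (.leaf 0)))) (.node (.node (.node (.leaf 0) (.leaf 0)) (.node (.leaf 0) (.leaf 0))) (.node (.node (.leaf 0) (.leaf 0)) (.node (.leaf 0) (.leaf 0)))))))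

/-- A Schreier factor, part 787. -/
def facCodePart787 : Janko1.Tree ℕ := (.node (.node (.node (.node (.node (.node (.leaf 0) (.leaf 0)) (.node (.leaf 0) (.leaf 0))) (.node (.node (.leaf 0) (.leaf 0)) (.node (.leaf 0) (.leaf 0)))) (.node (.node (.node (.leaf 0) (.leaf 0)) (.node (.leaf 0) (.leaf 0))) (.node (.node (.leaf 0) (.leaf 0)) (.node (.leaf 0) (.leaf 0))))) (.node (.node (.node (.node (.leaf 0) (.leaf 0)) (.node (.leaf 0) (.leaf 0))) (.node (.node (.leaf 0) (.leaf 0)) (.node (.leaf 0) (.leaf 0)))) (.node (.node (.node (.leaf 0) (.leaf 0)) (.node (.leaf 0) (.leaf 0))) (.node (.node (.leaf 0) (.leaf 0)) (.node (.leaf 0) (.leaf 0)))))) (.node (.node (.node (.node (.node (.leaf 0) (.leaf 0)) (.node (.leaf 0) (.leaf 0))) (.node (.node (.leaf 0) (.leaf 0)) (.node (.leaf 0) (.leaf 0)))) (.node (.node (.node (.leaf 0) (.leaf 0)) (.node (.leaf 0) (.leaf 0))) (.node (.node (.leaf 0) (.leaf 0)) (.node (.leaf 0) (.leaf 0))))) (.node (.node (.node (.node (.leaf 0) (.leaf 0)) (.node (.leaf 0) (.leaf 0))) (.node (.node (.leaf 0) (.leaf 0)) (.node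 (.leaf 0) (.leaf 0)))) (.node (.node (.node (.leaf 0) (.leaf 0)) (.node (.leaf 0) (.leaf 0))) (.node (.node (.leaf 0) (.leaf 0)) (.node (.leaf 0) (.leaf 0)))))))

/-- A Schreier factor, part 788. -/
def facCodePart788 : Janko1.Tree ℕ := (.node (.node (.node (.node (.node (.node (.leaf 0) (.leaf 0)) (.node (.leaf 0) (.leaf 0))) (.node (.node (.leaf 0) (.leaf 0)) (.node (.leaf 0) (.leaf 0)))) (.node (.node (.node (.leaf 0) (.leaf 0)) (.node (.leaf 0) (.leaf 0))) (.node (.node (.leaf 0) (.leaf 0)) (.node (.leaf 0) (.leaf 0))))) (.node (.node (.node (.node (.leaf 0) (.leaf 0)) (.node (.leaf 0) (.leaf 0))) (.node (.node (.leaf 0) (.leaf 0)) (.node (.leaf 0) (.leaf 0)))) (.node (.node (.node (.leaf 0) (.leaf 0)) (.node (.leaf 0) (.leaf 0))) (.node (.node (.leaf 0) (.leaf 0)) (.node (.leaf 0) (.leaf 0)))))) (.node (.node (.node (.node (.node (.leaf 0) (.leaf 0)) (.node (.leaf 0) (.leaf 0))) (.node (.node (.leaf 0) (.leaf 0)) (.node (.leaf 0) (.leaf 0)))) (.node (.node (.node (.leaf 0) (.leaf 0)) (.node (.leaf 0) (.leaf 0))) (.node (.node (.leaf 0)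 (.leaf 0)) (.node (.leaf 0) (.leaf 0))))) (.node (.node (.node (.node (.leaf 0) (.leaf 0)) (.node (.leaf 0) (.leaf 0))) (.node (.node (.leaf 0) (.leaf 0)) (.node (.leaf 0) (.leaf 0)))) (.node (.node (.node (.leaf 0) (.leaf 0)) (.node (.leaf 0) (.leaf 0))) (.node (.node (.leaf 0) (.leaf 0)) (.node (.leaf 0) (.leaf 0)))))))

/-- A Schreier factor, part 789. -/
def facCodePart789 : Janko1.Tree ℕ := (.node (.node (.node (.node (.node (.node (.leaf 0) (.leaf 0)) (.node (.leaf 0) (.leaf 0))) (.node (.node (.leaf 0) (.leaf 0)) (.node (.leaf 0) (.leaf 0)))) (.node (.node (.node (.leaf 0) (.leaf 0)) (.node (.leaf 0) (.leaf 0))) (.node (.node (.leaf 0) (.leaf 0)) (.node (.leaf 0) (.leaf 0))))) (.node (.node (.node (.node (.leaf 0) (.leaf 0)) (.node (.leaf 0) (.leaf 0))) (.node (.node (.leaf 0) (.leaf 0)) (.node (.leaf 0) (.leaf 0)))) (.node (.node (.node (.leaf 0) (.leaf 0)) (.node (.leaf 0) (.leaf 0))) (.node (.node (.leaf 0) (.leaf 0)) (.node (.leaf 0) (.leaf 0)))))) (.node (.node (.node (.node (.node (.leaf 0) (.leaf 0)) (.node (.leaf 0) (.leaf 0)))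 (.node (.node (.leaf 0) (.leaf 0)) (.node (.leaf 0) (.leaf 0)))) (.node (.node (.node (.leaf 0) (.leaf 0)) (.node (.leaf 0) (.leaf 0))) (.node (.node (.leaf 0) (.leaf 0)) (.node (.leaf 0) (.leaf 0))))) (.node (.node (.node (.node (.leaf 0) (.leaf 0)) (.node (.leaf 0) (.leaf 0))) (.node (.node (.leaf 0) (.leaf 0)) (.node (.leaf 0) (.leaf 0)))) (.node (.node (.node (.leaf 0) (.leaf 0)) (.node (.leaf 0) (.leaf 0))) (.node (.node (.leaf 0) (.leaf 0)) (.node (.leaf 0) (.leaf 0)))))))

/-- A Schreier factor, part 790. -/
def facCodePart790 : Janko1.Tree ℕ := (.node (.node (.node (.node (.node (.node (.leaf 0) (.leaf 0)) (.node (.leaf 0) (.leaf 0))) (.node (.node (.leaf 0) (.leaf 0)) (.node (.leaf 0) (.leaf 0)))) (.node (.node (.node (.leaf 0) (.leaf 0)) (.node (.leaf 0) (.leaf 0))) (.node (.node (.leaf 0) (.leaf 0)) (.node (.leaf 0) (.leaf 0))))) (.node (.node (.node (.node (.leaf 0) (.leaf 0)) (.node (.leaf 0) (.leaf 0))) (.node (.node (.leaf 0) (.leaf 0)) (.node (.leaf 0) (.leaf 0)))) (.node (.node (.node (.leaf 0) (.leaf 0)) (.node (.leaf 0) (.leaf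 0))) (.node (.node (.leaf 0) (.leaf 0)) (.node (.leaf 0) (.leaf 0)))))) (.node (.node (.node (.node (.node (.leaf 0) (.leaf 0)) (.node (.leaf 0) (.leaf 0))) (.node (.node (.leaf 0) (.leaf 0)) (.node (.leaf 0) (.leaf 0)))) (.node (.node (.node (.leaf 0) (.leaf 0)) (.node (.leaf 0) (.leaf 0))) (.node (.node (.leaf 0) (.leaf 0)) (.node (.leaf 0) (.leaf 0))))) (.node (.node (.node (.node (.leaf 0) (.leaf 0)) (.node (.leaf 0) (.leaf 0))) (.node (.node (.leaf 0) (.leaf 0)) (.node (.leaf 0) (.leaf 0)))) (.node (.node (.node (.leaf 0) (.leaf 0)) (.node (.leaf 0) (.leaf 0))) (.node (.node (.leaf 0) (.leaf 0)) (.node (.leaf 0) (.leaf 0)))))))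

/-- A Schreier factor, part 791. -/
def facCodePart791 : Janko1.Tree ℕ := (.node (.node (.node (.node (.node (.node (.leaf 0) (.leaf 0)) (.node (.leaf 0) (.leaf 0))) (.node (.node (.leaf 0) (.leaf 0)) (.node (.leaf 0) (.leaf 0)))) (.node (.node (.node (.leaf 0) (.leaf 0)) (.node (.leaf 0) (.leaf 0))) (.node (.node (.leaf 0) (.leaf 0)) (.node (.leaf 0) (.leaf 0))))) (.node (.node (.node (.node (.leaf 0) (.leaf 0)) (.node (.leaf 0) (.leaf 0))) (.node (.node (.leaf 0) (.leaf 0)) (.node (.leaf 0) (.leaf 0)))) (.node (.node (.node (.leaf 0) (.leaf 0)) (.node (.leaf 0) (.leaf 0))) (.node (.node (.leaf 0) (.leaf 0)) (.node (.leaf 0) (.leaf 0)))))) (.node (.node (.node (.node (.node (.leaf 0) (.leaf 0)) (.node (.leaf 0) (.leaf 0))) (.node (.node (.leaf 0) (.leaf 0)) (.node (.leaf 0) (.leaf 0)))) (.node (.node (.node (.leaf 0) (.leaf 0)) (.node (.leaf 0) (.leaf 0))) (.node (.node (.leaf 0) (.leaf 0)) (.node (.leaf 0) (.leaf 0))))) (.node (.node (.node (.node (.leaf 0) (.leaf 0)) (.node (.leaf 0) (.leaf 0))) (.node (.node (.leaf 0) (.leaf 0)) (.node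 (.leaf 0) (.leaf 0)))) (.node (.node (.node (.leaf 0) (.leaf 0)) (.node (.leaf 0) (.leaf 0))) (.node (.node (.leaf 0) (.leaf 0)) (.node (.leaf 0) (.leaf 0)))))))

/-- A Schreier factor, part 792. -/
def facCodePart792 : Janko1.Tree ℕ := (.node (.node (.node (.node (.node (.node (.leaf 0) (.leaf 0)) (.node (.leaf 0) (.leaf 0))) (.node (.node (.leaf 0) (.leaf 0)) (.node (.leaf 0) (.leaf 0)))) (.node (.node (.node (.leaf 0) (.leaf 0)) (.node (.leaf 0) (.leaf 0))) (.node (.node (.leaf 0) (.leaf 0)) (.node (.leaf 0) (.leaf 0))))) (.node (.node (.node (.node (.leaf 0) (.leaf 0)) (.node (.leaf 0) (.leaf 0))) (.node (.node (.leaf 0) (.leaf 0)) (.node (.leaf 0) (.leaf 0)))) (.node (.node (.node (.leaf 0) (.leaf 0)) (.node (.leaf 0) (.leaf 0))) (.node (.node (.leaf 0) (.leaf 0)) (.node (.leaf 0) (.leaf 0)))))) (.node (.node (.node (.node (.node (.leaf 0) (.leaf 0)) (.node (.leaf 0) (.leaf 0))) (.node (.node (.leaf 0) (.leaf 0)) (.node (.leaf 0) (.leaf 0)))) (.node (.node (.node (.leaf 0) (.leaf 0)) (.node (.leaf 0) (.leaf 0))) (.node (.node (.leaf 0)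 (.leaf 0)) (.node (.leaf 0) (.leaf 0))))) (.node (.node (.node (.node (.leaf 0) (.leaf 0)) (.node (.leaf 0) (.leaf 0))) (.node (.node (.leaf 0) (.leaf 0)) (.node (.leaf 0) (.leaf 0)))) (.node (.node (.node (.leaf 0) (.leaf 0)) (.node (.leaf 0) (.leaf 0))) (.node (.node (.leaf 0) (.leaf 0)) (.node (.leaf 0) (.leaf 0)))))))

/-- A Schreier factor, part 793. -/
def facCodePart793 : Janko1.Tree ℕ := (.node (.node (.node (.node (.node (.node (.leaf 0) (.leaf 0)) (.node (.leaf 0) (.leaf 0))) (.node (.node (.leaf 0) (.leaf 0)) (.node (.leaf 0) (.leaf 0)))) (.node (.node (.node (.leaf 0) (.leaf 0)) (.node (.leaf 0) (.leaf 0))) (.node (.node (.leaf 0) (.leaf 0)) (.node (.leaf 0) (.leaf 0))))) (.node (.node (.node (.node (.leaf 0) (.leaf 0)) (.node (.leaf 0) (.leaf 0))) (.node (.node (.leaf 0) (.leaf 0)) (.node (.leaf 0) (.leaf 0)))) (.node (.node (.node (.leaf 0) (.leaf 0)) (.node (.leaf 0) (.leaf 0))) (.node (.node (.leaf 0) (.leaf 0)) (.node (.leaf 0) (.leaf 0)))))) (.node (.node (.node (.node (.node (.leaf 0) (.leaf 0)) (.node (.leaf 0) (.leaf 0)))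 (.node (.node (.leaf 0) (.leaf 0)) (.node (.leaf 0) (.leaf 0)))) (.node (.node (.node (.leaf 0) (.leaf 0)) (.node (.leaf 0) (.leaf 0))) (.node (.node (.leaf 0) (.leaf 0)) (.node (.leaf 0) (.leaf 0))))) (.node (.node (.node (.node (.leaf 0) (.leaf 0)) (.node (.leaf 0) (.leaf 0))) (.node (.node (.leaf 0) (.leaf 0)) (.node (.leaf 0) (.leaf 0)))) (.node (.node (.node (.leaf 0) (.leaf 0)) (.node (.leaf 0) (.leaf 0))) (.node (.node (.leaf 0) (.leaf 0)) (.node (.leaf 0) (.leaf 0)))))))

/-- A Schreier factor, part 794. -/
def facCodePart794 : Janko1.Tree ℕ := (.node (.node (.node (.node (.node (.node (.leaf 0) (.leaf 0)) (.node (.leaf 0) (.leaf 0))) (.node (.node (.leaf 0) (.leaf 0)) (.node (.leaf 0) (.leaf 0)))) (.node (.node (.node (.leaf 0) (.leaf 0)) (.node (.leaf 0) (.leaf 0))) (.node (.node (.leaf 0) (.leaf 0)) (.node (.leaf 0) (.leaf 0))))) (.node (.node (.node (.node (.leaf 0) (.leaf 0)) (.node (.leaf 0) (.leaf 0))) (.node (.node (.leaf 0) (.leaf 0)) (.node (.leaf 0) (.leaf 0)))) (.node (.node (.node (.leaf 0) (.leaf 0)) (.node (.leaf 0) (.leaf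 0))) (.node (.node (.leaf 0) (.leaf 0)) (.node (.leaf 0) (.leaf 0)))))) (.node (.node (.node (.node (.node (.leaf 0) (.leaf 0)) (.node (.leaf 0) (.leaf 0))) (.node (.node (.leaf 0) (.leaf 0)) (.node (.leaf 0) (.leaf 0)))) (.node (.node (.node (.leaf 0) (.leaf 0)) (.node (.leaf 0) (.leaf 0))) (.node (.node (.leaf 0) (.leaf 0)) (.node (.leaf 0) (.leaf 0))))) (.node (.node (.node (.node (.leaf 0) (.leaf 0)) (.node (.leaf 0) (.leaf 0))) (.node (.node (.leaf 0) (.leaf 0)) (.node (.leaf 0) (.leaf 0)))) (.node (.node (.node (.leaf 0) (.leaf 0)) (.node (.leaf 0) (.leaf 0))) (.node (.node (.leaf 0) (.leaf 0)) (.node (.leaf 0) (.leaf 0)))))))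

/-- A Schreier factor, part 795. -/
def facCodePart795 : Janko1.Tree ℕ := (.node (.node (.node (.node (.node (.node (.leaf 0) (.leaf 0)) (.node (.leaf 0) (.leaf 0))) (.node (.node (.leaf 0) (.leaf 0)) (.node (.leaf 0) (.leaf 0)))) (.node (.node (.node (.leaf 0) (.leaf 0)) (.node (.leaf 0) (.leaf 0))) (.node (.node (.leaf 0) (.leaf 0)) (.node (.leaf 0) (.leaf 0))))) (.node (.node (.node (.node (.leaf 0) (.leaf 0)) (.node (.leaf 0) (.leaf 0))) (.node (.node (.leaf 0) (.leaf 0)) (.node (.leaf 0) (.leaf 0)))) (.node (.node (.node (.leaf 0) (.leaf 0)) (.node (.leaf 0) (.leaf 0))) (.node (.node (.leaf 0) (.leaf 0)) (.node (.leaf 0) (.leaf 0)))))) (.node (.node (.node (.node (.node (.leaf 0) (.leaf 0)) (.node (.leaf 0) (.leaf 0))) (.node (.node (.leaf 0) (.leaf 0)) (.node (.leaf 0) (.leaf 0)))) (.node (.node (.node (.leaf 0) (.leaf 0)) (.node (.leaf 0) (.leaf 0))) (.node (.node (.leaf 0) (.leaf 0)) (.node (.leaf 0) (.leaf 0))))) (.node (.node (.node (.node (.leaf 0) (.leaf 0)) (.node (.leaf 0) (.leaf 0))) (.node (.node (.leaf 0) (.leaf 0)) (.node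 (.leaf 0) (.leaf 0)))) (.node (.node (.node (.leaf 0) (.leaf 0)) (.node (.leaf 0) (.leaf 0))) (.node (.node (.leaf 0) (.leaf 0)) (.node (.leaf 0) (.leaf 0)))))))

/-- A Schreier factor, part 796. -/
def facCodePart796 : Janko1.Tree ℕ := (.node (.node (.node (.node (.node (.node (.leaf 0) (.leaf 0)) (.node (.leaf 0) (.leaf 0))) (.node (.node (.leaf 0) (.leaf 0)) (.node (.leaf 0) (.leaf 0)))) (.node (.node (.node (.leaf 0) (.leaf 0)) (.node (.leaf 0) (.leaf 0))) (.node (.node (.leaf 0) (.leaf 0)) (.node (.leaf 0) (.leaf 0))))) (.node (.node (.node (.node (.leaf 0) (.leaf 0)) (.node (.leaf 0) (.leaf 0))) (.node (.node (.leaf 0) (.leaf 0)) (.node (.leaf 0) (.leaf 0)))) (.node (.node (.node (.leaf 0) (.leaf 0)) (.node (.leaf 0) (.leaf 0))) (.node (.node (.leaf 0) (.leaf 0)) (.node (.leaf 0) (.leaf 0)))))) (.node (.node (.node (.node (.node (.leaf 0) (.leaf 0)) (.node (.leaf 0) (.leaf 0))) (.node (.node (.leaf 0) (.leaf 0)) (.node (.leaf 0) (.leaf 0)))) (.node (.node (.node (.leaf 0) (.leaf 0)) (.node (.leaf 0) (.leaf 0))) (.node (.node (.leaf 0)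 (.leaf 0)) (.node (.leaf 0) (.leaf 0))))) (.node (.node (.node (.node (.leaf 0) (.leaf 0)) (.node (.leaf 0) (.leaf 0))) (.node (.node (.leaf 0) (.leaf 0)) (.node (.leaf 0) (.leaf 0)))) (.node (.node (.node (.leaf 0) (.leaf 0)) (.node (.leaf 0) (.leaf 0))) (.node (.node (.leaf 0) (.leaf 0)) (.node (.leaf 0) (.leaf 0)))))))

/-- A Schreier factor, part 797. -/
def facCodePart797 : Janko1.Tree ℕ := (.node (.node (.node (.node (.node (.node (.leaf 0) (.leaf 0)) (.node (.leaf 0) (.leaf 0))) (.node (.node (.leaf 0) (.leaf 0)) (.node (.leaf 0) (.leaf 0)))) (.node (.node (.node (.leaf 0) (.leaf 0)) (.node (.leaf 0) (.leaf 0))) (.node (.node (.leaf 0) (.leaf 0)) (.node (.leaf 0) (.leaf 0))))) (.node (.node (.node (.node (.leaf 0) (.leaf 0)) (.node (.leaf 0) (.leaf 0))) (.node (.node (.leaf 0) (.leaf 0)) (.node (.leaf 0) (.leaf 0)))) (.node (.node (.node (.leaf 0) (.leaf 0)) (.node (.leaf 0) (.leaf 0))) (.node (.node (.leaf 0) (.leaf 0)) (.node (.leaf 0) (.leaf 0)))))) (.node (.node (.node (.node (.node (.leaf 0) (.leaf 0)) (.node (.leaf 0) (.leaf 0)))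 (.node (.node (.leaf 0) (.leaf 0)) (.node (.leaf 0) (.leaf 0)))) (.node (.node (.node (.leaf 0) (.leaf 0)) (.node (.leaf 0) (.leaf 0))) (.node (.node (.leaf 0) (.leaf 0)) (.node (.leaf 0) (.leaf 0))))) (.node (.node (.node (.node (.leaf 0) (.leaf 0)) (.node (.leaf 0) (.leaf 0))) (.node (.node (.leaf 0) (.leaf 0)) (.node (.leaf 0) (.leaf 0)))) (.node (.node (.node (.leaf 0) (.leaf 0)) (.node (.leaf 0) (.leaf 0))) (.node (.node (.leaf 0) (.leaf 0)) (.node (.leaf 0) (.leaf 0)))))))

/-- A Schreier factor, part 798. -/
def facCodePart798 : Janko1.Tree ℕ := (.node (.node (.node (.node (.node (.node (.leaf 0) (.leaf 0)) (.node (.leaf 0) (.leaf 0))) (.node (.node (.leaf 0) (.leaf 0)) (.node (.leaf 0) (.leaf 0)))) (.node (.node (.node (.leaf 0) (.leaf 0)) (.node (.leaf 0) (.leaf 0))) (.node (.node (.leaf 0) (.leaf 0)) (.node (.leaf 0) (.leaf 0))))) (.node (.node (.node (.node (.leaf 0) (.leaf 0)) (.node (.leaf 0) (.leaf 0))) (.node (.node (.leaf 0) (.leaf 0)) (.node (.leaf 0) (.leaf 0)))) (.node (.node (.node (.leaf 0) (.leaf 0)) (.node (.leaf 0) (.leaf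 0))) (.node (.node (.leaf 0) (.leaf 0)) (.node (.leaf 0) (.leaf 0)))))) (.node (.node (.node (.node (.node (.leaf 0) (.leaf 0)) (.node (.leaf 0) (.leaf 0))) (.node (.node (.leaf 0) (.leaf 0)) (.node (.leaf 0) (.leaf 0)))) (.node (.node (.node (.leaf 0) (.leaf 0)) (.node (.leaf 0) (.leaf 0))) (.node (.node (.leaf 0) (.leaf 0)) (.node (.leaf 0) (.leaf 0))))) (.node (.node (.node (.node (.leaf 0) (.leaf 0)) (.node (.leaf 0) (.leaf 0))) (.node (.node (.leaf 0) (.leaf 0)) (.node (.leaf 0) (.leaf 0)))) (.node (.node (.node (.leaf 0) (.leaf 0)) (.node (.leaf 0) (.leaf 0))) (.node (.node (.leaf 0) (.leaf 0)) (.node (.leaf 0) (.leaf 0)))))))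

/-- A Schreier factor, part 799. -/
def facCodePart799 : Janko1.Tree ℕ := (.node (.node (.node (.node (.node (.node (.leaf 0) (.leaf 0)) (.node (.leaf 0) (.leaf 0))) (.node (.node (.leaf 0) (.leaf 0)) (.node (.leaf 0) (.leaf 0)))) (.node (.node (.node (.leaf 0) (.leaf 0)) (.node (.leaf 0) (.leaf 0))) (.node (.node (.leaf 0) (.leaf 0)) (.node (.leaf 0) (.leaf 0))))) (.node (.node (.node (.node (.leaf 0) (.leaf 0)) (.node (.leaf 0) (.leaf 0))) (.node (.node (.leaf 0) (.leaf 0)) (.node (.leaf 0) (.leaf 0)))) (.node (.node (.node (.leaf 0) (.leaf 0)) (.node (.leaf 0) (.leaf 0))) (.node (.node (.leaf 0) (.leaf 0)) (.node (.leaf 0) (.leaf 0)))))) (.node (.node (.node (.node (.node (.leaf 0) (.leaf 0)) (.node (.leaf 0) (.leaf 0))) (.node (.node (.leaf 0) (.leaf 0)) (.node (.leaf 0) (.leaf 0)))) (.node (.node (.node (.leaf 0) (.leaf 0)) (.node (.leaf 0) (.leaf 0))) (.node (.node (.leaf 0) (.leaf 0)) (.node (.leaf 0) (.leaf 0))))) (.node (.node (.node (.node (.leaf 0) (.leaf 0)) (.node (.leaf 0) (.leaf 0))) (.node (.node (.leaf 0) (.leaf 0)) (.node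 (.leaf 0) (.leaf 0)))) (.node (.node (.node (.leaf 0) (.leaf 0)) (.node (.leaf 0) (.leaf 0))) (.node (.node (.leaf 0) (.leaf 0)) (.node (.leaf 0) (.leaf 0)))))))

/-- A Schreier factor, part 800. -/
def facCodePart800 : Janko1.Tree ℕ := (.node (.node (.node (.node (.node (.node (.leaf 0) (.leaf 0)) (.node (.leaf 0) (.leaf 0))) (.node (.node (.leaf 0) (.leaf 0)) (.node (.leaf 0) (.leaf 0)))) (.node (.node (.node (.leaf 0) (.leaf 0)) (.node (.leaf 0) (.leaf 0))) (.node (.node (.leaf 0) (.leaf 0)) (.node (.leaf 0) (.leaf 0))))) (.node (.node (.node (.node (.leaf 0) (.leaf 0)) (.node (.leaf 0) (.leaf 0))) (.node (.node (.leaf 0) (.leaf 0)) (.node (.leaf 0) (.leaf 0)))) (.node (.node (.node (.leaf 0) (.leaf 0)) (.node (.leaf 0) (.leaf 0))) (.node (.node (.leaf 0) (.leaf 0)) (.node (.leaf 0) (.leaf 0)))))) (.node (.node (.node (.node (.node (.leaf 0) (.leaf 0)) (.node (.leaf 0) (.leaf 0))) (.node (.node (.leaf 0) (.leaf 0)) (.node (.leaf 0) (.leaf 0)))) (.node (.node (.node (.leaf 0) (.leaf 0)) (.node (.leaf 0) (.leaf 0))) (.node (.node (.leaf 0)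 (.leaf 0)) (.node (.leaf 0) (.leaf 0))))) (.node (.node (.node (.node (.leaf 0) (.leaf 0)) (.node (.leaf 0) (.leaf 0))) (.node (.node (.leaf 0) (.leaf 0)) (.node (.leaf 0) (.leaf 0)))) (.node (.node (.node (.leaf 0) (.leaf 0)) (.node (.leaf 0) (.leaf 0))) (.node (.node (.leaf 0) (.leaf 0)) (.node (.leaf 0) (.leaf 0)))))))

/-- A Schreier factor, part 801. -/
def facCodePart801 : Janko1.Tree ℕ := (.node (.node (.node (.node (.node (.node (.leaf 0) (.leaf 0)) (.node (.leaf 0) (.leaf 0))) (.node (.node (.leaf 0) (.leaf 0)) (.node (.leaf 0) (.leaf 0)))) (.node (.node (.node (.leaf 0) (.leaf 0)) (.node (.leaf 0) (.leaf 0))) (.node (.node (.leaf 0) (.leaf 0)) (.node (.leaf 0) (.leaf 0))))) (.node (.node (.node (.node (.leaf 0) (.leaf 0)) (.node (.leaf 0) (.leaf 0))) (.node (.node (.leaf 0) (.leaf 0)) (.node (.leaf 0) (.leaf 0)))) (.node (.node (.node (.leaf 0) (.leaf 0)) (.node (.leaf 0) (.leaf 0))) (.node (.node (.leaf 0) (.leaf 0)) (.node (.leaf 0) (.leaf 0)))))) (.node (.node (.node (.node (.node (.leaf 0) (.leaf 0)) (.node (.leaf 0) (.leaf 0)))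 (.node (.node (.leaf 0) (.leaf 0)) (.node (.leaf 0) (.leaf 0)))) (.node (.node (.node (.leaf 0) (.leaf 0)) (.node (.leaf 0) (.leaf 0))) (.node (.node (.leaf 0) (.leaf 0)) (.node (.leaf 0) (.leaf 0))))) (.node (.node (.node (.node (.leaf 0) (.leaf 0)) (.node (.leaf 0) (.leaf 0))) (.node (.node (.leaf 0) (.leaf 0)) (.node (.leaf 0) (.leaf 0)))) (.node (.node (.node (.leaf 0) (.leaf 0)) (.node (.leaf 0) (.leaf 0))) (.node (.node (.leaf 0) (.leaf 0)) (.node (.leaf 0) (.leaf 0)))))))

/-- A Schreier factor, part 802. -/
def facCodePart802 : Janko1.Tree ℕ := (.node (.node (.node (.node (.node (.node (.leaf 0) (.leaf 0)) (.node (.leaf 0) (.leaf 0))) (.node (.node (.leaf 0) (.leaf 0)) (.node (.leaf 0) (.leaf 0)))) (.node (.node (.node (.leaf 0) (.leaf 0)) (.node (.leaf 0) (.leaf 0))) (.node (.node (.leaf 0) (.leaf 0)) (.node (.leaf 0) (.leaf 0))))) (.node (.node (.node (.node (.leaf 0) (.leaf 0)) (.node (.leaf 0) (.leaf 0))) (.node (.node (.leaf 0) (.leaf 0)) (.node (.leaf 0) (.leaf 0)))) (.node (.node (.node (.leaf 0) (.leaf 0)) (.node (.leaf 0) (.leaf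 0))) (.node (.node (.leaf 0) (.leaf 0)) (.node (.leaf 0) (.leaf 0)))))) (.node (.node (.node (.node (.node (.leaf 0) (.leaf 0)) (.node (.leaf 0) (.leaf 0))) (.node (.node (.leaf 0) (.leaf 0)) (.node (.leaf 0) (.leaf 0)))) (.node (.node (.node (.leaf 0) (.leaf 0)) (.node (.leaf 0) (.leaf 0))) (.node (.node (.leaf 0) (.leaf 0)) (.node (.leaf 0) (.leaf 0))))) (.node (.node (.node (.node (.leaf 0) (.leaf 0)) (.node (.leaf 0) (.leaf 0))) (.node (.node (.leaf 0) (.leaf 0)) (.node (.leaf 0) (.leaf 0)))) (.node (.node (.node (.leaf 0) (.leaf 0)) (.node (.leaf 0) (.leaf 0))) (.node (.node (.leaf 0) (.leaf 0)) (.node (.leaf 0) (.leaf 0)))))))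

/-- A Schreier factor, part 803. -/
def facCodePart803 : Janko1.Tree ℕ := (.node (.node (.node (.node (.node (.node (.leaf 0) (.leaf 0)) (.node (.leaf 0) (.leaf 0))) (.node (.node (.leaf 0) (.leaf 0)) (.node (.leaf 0) (.leaf 0)))) (.node (.node (.node (.leaf 0) (.leaf 0)) (.node (.leaf 0) (.leaf 0))) (.node (.node (.leaf 0) (.leaf 0)) (.node (.leaf 0) (.leaf 0))))) (.node (.node (.node (.node (.leaf 0) (.leaf 0)) (.node (.leaf 0) (.leaf 0))) (.node (.node (.leaf 0) (.leaf 0)) (.node (.leaf 0) (.leaf 0)))) (.node (.node (.node (.leaf 0) (.leaf 0)) (.node (.leaf 0) (.leaf 0))) (.node (.node (.leaf 0) (.leaf 0)) (.node (.leaf 0) (.leaf 0)))))) (.node (.node (.node (.node (.node (.leaf 0) (.leaf 0)) (.node (.leaf 0) (.leaf 0))) (.node (.node (.leaf 0) (.leaf 0)) (.node (.leaf 0) (.leaf 0)))) (.node (.node (.node (.leaf 0) (.leaf 0)) (.node (.leaf 0) (.leaf 0))) (.node (.node (.leaf 0) (.leaf 0)) (.node (.leaf 0) (.leaf 0))))) (.node (.node (.node (.node (.leaf 0) (.leaf 0)) (.node (.leaf 0) (.leaf 0))) (.node (.node (.leaf 0) (.leaf 0)) (.node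 (.leaf 0) (.leaf 0)))) (.node (.node (.node (.leaf 0) (.leaf 0)) (.node (.leaf 0) (.leaf 0))) (.node (.node (.leaf 0) (.leaf 0)) (.node (.leaf 0) (.leaf 0)))))))

/-- A Schreier factor, part 804. -/
def facCodePart804 : Janko1.Tree ℕ := (.node (.node (.node (.node (.node (.node (.leaf 0) (.leaf 0)) (.node (.leaf 0) (.leaf 0))) (.node (.node (.leaf 0) (.leaf 0)) (.node (.leaf 0) (.leaf 0)))) (.node (.node (.node (.leaf 0) (.leaf 0)) (.node (.leaf 0) (.leaf 0))) (.node (.node (.leaf 0) (.leaf 0)) (.node (.leaf 0) (.leaf 0))))) (.node (.node (.node (.node (.leaf 0) (.leaf 0)) (.node (.leaf 0) (.leaf 0))) (.node (.node (.leaf 0) (.leaf 0)) (.node (.leaf 0) (.leaf 0)))) (.node (.node (.node (.leaf 0) (.leaf 0)) (.node (.leaf 0) (.leaf 0))) (.node (.node (.leaf 0) (.leaf 0)) (.node (.leaf 0) (.leaf 0)))))) (.node (.node (.node (.node (.node (.leaf 0) (.leaf 0)) (.node (.leaf 0) (.leaf 0))) (.node (.node (.leaf 0) (.leaf 0)) (.node (.leaf 0) (.leaf 0)))) (.node (.node (.node (.leaf 0) (.leaf 0)) (.node (.leaf 0) (.leaf 0))) (.node (.node (.leaf 0)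 (.leaf 0)) (.node (.leaf 0) (.leaf 0))))) (.node (.node (.node (.node (.leaf 0) (.leaf 0)) (.node (.leaf 0) (.leaf 0))) (.node (.node (.leaf 0) (.leaf 0)) (.node (.leaf 0) (.leaf 0)))) (.node (.node (.node (.leaf 0) (.leaf 0)) (.node (.leaf 0) (.leaf 0))) (.node (.node (.leaf 0) (.leaf 0)) (.node (.leaf 0) (.leaf 0)))))))

/-- A Schreier factor, part 805. -/
def facCodePart805 : Janko1.Tree ℕ := (.node (.node (.node (.node (.node (.node (.leaf 0) (.leaf 0)) (.node (.leaf 0) (.leaf 0))) (.node (.node (.leaf 0) (.leaf 0)) (.node (.leaf 0) (.leaf 0)))) (.node (.node (.node (.leaf 0) (.leaf 0)) (.node (.leaf 0) (.leaf 0))) (.node (.node (.leaf 0) (.leaf 0)) (.node (.leaf 0) (.leaf 0))))) (.node (.node (.node (.node (.leaf 0) (.leaf 0)) (.node (.leaf 0) (.leaf 0))) (.node (.node (.leaf 0) (.leaf 0)) (.node (.leaf 0) (.leaf 0)))) (.node (.node (.node (.leaf 0) (.leaf 0)) (.node (.leaf 0) (.leaf 0))) (.node (.node (.leaf 0) (.leaf 0)) (.node (.leaf 0) (.leaf 0)))))) (.node (.node (.node (.node (.node (.leaf 0) (.leaf 0)) (.node (.leaf 0) (.leaf 0)))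 (.node (.node (.leaf 0) (.leaf 0)) (.node (.leaf 0) (.leaf 0)))) (.node (.node (.node (.leaf 0) (.leaf 0)) (.node (.leaf 0) (.leaf 0))) (.node (.node (.leaf 0) (.leaf 0)) (.node (.leaf 0) (.leaf 0))))) (.node (.node (.node (.node (.leaf 0) (.leaf 0)) (.node (.leaf 0) (.leaf 0))) (.node (.node (.leaf 0) (.leaf 0)) (.node (.leaf 0) (.leaf 0)))) (.node (.node (.node (.leaf 0) (.leaf 0)) (.node (.leaf 0) (.leaf 0))) (.node (.node (.leaf 0) (.leaf 0)) (.node (.leaf 0) (.leaf 0)))))))

/-- A Schreier factor, part 806. -/
def facCodePart806 : Janko1.Tree ℕ := (.node (.node (.node (.node (.node (.node (.leaf 0) (.leaf 0)) (.node (.leaf 0) (.leaf 0))) (.node (.node (.leaf 0) (.leaf 0)) (.node (.leaf 0) (.leaf 0)))) (.node (.node (.node (.leaf 0) (.leaf 0)) (.node (.leaf 0) (.leaf 0))) (.node (.node (.leaf 0) (.leaf 0)) (.node (.leaf 0) (.leaf 0))))) (.node (.node (.node (.node (.leaf 0) (.leaf 0)) (.node (.leaf 0) (.leaf 0))) (.node (.node (.leaf 0) (.leaf 0)) (.node (.leaf 0) (.leaf 0)))) (.node (.node (.node (.leaf 0) (.leaf 0)) (.node (.leaf 0) (.leaf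 0))) (.node (.node (.leaf 0) (.leaf 0)) (.node (.leaf 0) (.leaf 0)))))) (.node (.node (.node (.node (.node (.leaf 0) (.leaf 0)) (.node (.leaf 0) (.leaf 0))) (.node (.node (.leaf 0) (.leaf 0)) (.node (.leaf 0) (.leaf 0)))) (.node (.node (.node (.leaf 0) (.leaf 0)) (.node (.leaf 0) (.leaf 0))) (.node (.node (.leaf 0) (.leaf 0)) (.node (.leaf 0) (.leaf 0))))) (.node (.node (.node (.node (.leaf 0) (.leaf 0)) (.node (.leaf 0) (.leaf 0))) (.node (.node (.leaf 0) (.leaf 0)) (.node (.leaf 0) (.leaf 0)))) (.node (.node (.node (.leaf 0) (.leaf 0)) (.node (.leaf 0) (.leaf 0))) (.node (.node (.leaf 0) (.leaf 0)) (.node (.leaf 0) (.leaf 0)))))))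

/-- A Schreier factor, part 807. -/
def facCodePart807 : Janko1.Tree ℕ := (.node (.node (.node (.node (.node (.node (.leaf 0) (.leaf 0)) (.node (.leaf 0) (.leaf 0))) (.node (.node (.leaf 0) (.leaf 0)) (.node (.leaf 0) (.leaf 0)))) (.node (.node (.node (.leaf 0) (.leaf 0)) (.node (.leaf 0) (.leaf 0))) (.node (.node (.leaf 0) (.leaf 0)) (.node (.leaf 0) (.leaf 0))))) (.node (.node (.node (.node (.leaf 0) (.leaf 0)) (.node (.leaf 0) (.leaf 0))) (.node (.node (.leaf 0) (.leaf 0)) (.node (.leaf 0) (.leaf 0)))) (.node (.node (.node (.leaf 0) (.leaf 0)) (.node (.leaf 0) (.leaf 0))) (.node (.node (.leaf 0) (.leaf 0)) (.node (.leaf 0) (.leaf 0)))))) (.node (.node (.node (.node (.node (.leaf 0) (.leaf 0)) (.node (.leaf 0) (.leaf 0))) (.node (.node (.leaf 0) (.leaf 0)) (.node (.leaf 0) (.leaf 0)))) (.node (.node (.node (.leaf 0) (.leaf 0)) (.node (.leaf 0) (.leaf 0))) (.node (.node (.leaf 0) (.leaf 0)) (.node (.leaf 0) (.leaf 0))))) (.node (.node (.node (.node (.leaf 0) (.leaf 0)) (.node (.leaf 0) (.leaf 0))) (.node (.node (.leaf 0) (.leaf 0)) (.node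 (.leaf 0) (.leaf 0)))) (.node (.node (.node (.leaf 0) (.leaf 0)) (.node (.leaf 0) (.leaf 0))) (.node (.node (.leaf 0) (.leaf 0)) (.node (.leaf 0) (.leaf 0)))))))

/-- A Schreier factor, part 808. -/
def facCodePart808 : Janko1.Tree ℕ := (.node (.node (.node (.node (.node (.node (.leaf 0) (.leaf 0)) (.node (.leaf 0) (.leaf 0))) (.node (.node (.leaf 0) (.leaf 0)) (.node (.leaf 0) (.leaf 0)))) (.node (.node (.node (.leaf 0) (.leaf 0)) (.node (.leaf 0) (.leaf 0))) (.node (.node (.leaf 0) (.leaf 0)) (.node (.leaf 0) (.leaf 0))))) (.node (.node (.node (.node (.leaf 0) (.leaf 0)) (.node (.leaf 0) (.leaf 0))) (.node (.node (.leaf 0) (.leaf 0)) (.node (.leaf 0) (.leaf 0)))) (.node (.node (.node (.leaf 0) (.leaf 0)) (.node (.leaf 0) (.leaf 0))) (.node (.node (.leaf 0) (.leaf 0)) (.node (.leaf 0) (.leaf 0)))))) (.node (.node (.node (.node (.node (.leaf 0) (.leaf 0)) (.node (.leaf 0) (.leaf 0))) (.node (.node (.leaf 0) (.leaf 0)) (.node (.leaf 0) (.leaf 0)))) (.node (.node (.node (.leaf 0) (.leaf 0)) (.node (.leaf 0) (.leaf 0))) (.node (.node (.leaf 0)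 (.leaf 0)) (.node (.leaf 0) (.leaf 0))))) (.node (.node (.node (.node (.leaf 0) (.leaf 0)) (.node (.leaf 0) (.leaf 0))) (.node (.node (.leaf 0) (.leaf 0)) (.node (.leaf 0) (.leaf 0)))) (.node (.node (.node (.leaf 0) (.leaf 0)) (.node (.leaf 0) (.leaf 0))) (.node (.node (.leaf 0) (.leaf 0)) (.node (.leaf 0) (.leaf 0)))))))

/-- A Schreier factor, part 809. -/
def facCodePart809 : Janko1.Tree ℕ := (.node (.node (.node (.node (.node (.node (.leaf 0) (.leaf 0)) (.node (.leaf 0) (.leaf 0))) (.node (.node (.leaf 0) (.leaf 0)) (.node (.leaf 0) (.leaf 0)))) (.node (.node (.node (.leaf 0) (.leaf 0)) (.node (.leaf 0) (.leaf 0))) (.node (.node (.leaf 0) (.leaf 0)) (.node (.leaf 0) (.leaf 0))))) (.node (.node (.node (.node (.leaf 0) (.leaf 0)) (.node (.leaf 0) (.leaf 0))) (.node (.node (.leaf 0) (.leaf 0)) (.node (.leaf 0) (.leaf 0)))) (.node (.node (.node (.leaf 0) (.leaf 0)) (.node (.leaf 0) (.leaf 0))) (.node (.node (.leaf 0) (.leaf 0)) (.node (.leaf 0) (.leaf 0)))))) (.node (.node (.node (.node (.node (.leaf 0) (.leaf 0)) (.node (.leaf 0) (.leaf 0)))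 (.node (.node (.leaf 0) (.leaf 0)) (.node (.leaf 0) (.leaf 0)))) (.node (.node (.node (.leaf 0) (.leaf 0)) (.node (.leaf 0) (.leaf 0))) (.node (.node (.leaf 0) (.leaf 0)) (.node (.leaf 0) (.leaf 0))))) (.node (.node (.node (.node (.leaf 0) (.leaf 0)) (.node (.leaf 0) (.leaf 0))) (.node (.node (.leaf 0) (.leaf 0)) (.node (.leaf 0) (.leaf 0)))) (.node (.node (.node (.leaf 0) (.leaf 0)) (.node (.leaf 0) (.leaf 0))) (.node (.node (.leaf 0) (.leaf 0)) (.node (.leaf 0) (.leaf 0)))))))

/-- A Schreier factor, part 810. -/
def facCodePart810 : Janko1.Tree ℕ := (.node (.node (.node (.node (.node (.node (.leaf 0) (.leaf 0)) (.node (.leaf 0) (.leaf 0))) (.node (.node (.leaf 0) (.leaf 0)) (.node (.leaf 0) (.leaf 0)))) (.node (.node (.node (.leaf 0) (.leaf 0)) (.node (.leaf 0) (.leaf 0))) (.node (.node (.leaf 0) (.leaf 0)) (.node (.leaf 0) (.leaf 0))))) (.node (.node (.node (.node (.leaf 0) (.leaf 0)) (.node (.leaf 0) (.leaf 0))) (.node (.node (.leaf 0) (.leaf 0)) (.node (.leaf 0) (.leaf 0)))) (.node (.node (.node (.leaf 0) (.leaf 0)) (.node (.leaf 0) (.leaf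 0))) (.node (.node (.leaf 0) (.leaf 0)) (.node (.leaf 0) (.leaf 0)))))) (.node (.node (.node (.node (.node (.leaf 0) (.leaf 0)) (.node (.leaf 0) (.leaf 0))) (.node (.node (.leaf 0) (.leaf 0)) (.node (.leaf 0) (.leaf 0)))) (.node (.node (.node (.leaf 0) (.leaf 0)) (.node (.leaf 0) (.leaf 0))) (.node (.node (.leaf 0) (.leaf 0)) (.node (.leaf 0) (.leaf 0))))) (.node (.node (.node (.node (.leaf 0) (.leaf 0)) (.node (.leaf 0) (.leaf 0))) (.node (.node (.leaf 0) (.leaf 0)) (.node (.leaf 0) (.leaf 0)))) (.node (.node (.node (.leaf 0) (.leaf 0)) (.node (.leaf 0) (.leaf 0))) (.node (.node (.leaf 0) (.leaf 0)) (.node (.leaf 0) (.leaf 0)))))))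

/-- A Schreier factor, part 811. -/
def facCodePart811 : Janko1.Tree ℕ := (.node (.node (.node (.node (.node (.node (.leaf 0) (.leaf 0)) (.node (.leaf 0) (.leaf 0))) (.node (.node (.leaf 0) (.leaf 0)) (.node (.leaf 0) (.leaf 0)))) (.node (.node (.node (.leaf 0) (.leaf 0)) (.node (.leaf 0) (.leaf 0))) (.node (.node (.leaf 0) (.leaf 0)) (.node (.leaf 0) (.leaf 0))))) (.node (.node (.node (.node (.leaf 0) (.leaf 0)) (.node (.leaf 0) (.leaf 0))) (.node (.node (.leaf 0) (.leaf 0)) (.node (.leaf 0) (.leaf 0)))) (.node (.node (.node (.leaf 0) (.leaf 0)) (.node (.leaf 0) (.leaf 0))) (.node (.node (.leaf 0) (.leaf 0)) (.node (.leaf 0) (.leaf 0)))))) (.node (.node (.node (.node (.node (.leaf 0) (.leaf 0)) (.node (.leaf 0) (.leaf 0))) (.node (.node (.leaf 0) (.leaf 0)) (.node (.leaf 0) (.leaf 0)))) (.node (.node (.node (.leaf 0) (.leaf 0)) (.node (.leaf 0) (.leaf 0))) (.node (.node (.leaf 0) (.leaf 0)) (.node (.leaf 0) (.leaf 0))))) (.node (.node (.node (.node (.leaf 0) (.leaf 0)) (.node (.leaf 0) (.leaf 0))) (.node (.node (.leaf 0) (.leaf 0)) (.node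 (.leaf 0) (.leaf 0)))) (.node (.node (.node (.leaf 0) (.leaf 0)) (.node (.leaf 0) (.leaf 0))) (.node (.node (.leaf 0) (.leaf 0)) (.node (.leaf 0) (.leaf 0)))))))

/-- A Schreier factor, part 812. -/
def facCodePart812 : Janko1.Tree ℕ := (.node (.node (.node (.node (.node (.node (.leaf 0) (.leaf 0)) (.node (.leaf 0) (.leaf 0))) (.node (.node (.leaf 0) (.leaf 0)) (.node (.leaf 0) (.leaf 0)))) (.node (.node (.node (.leaf 0) (.leaf 0)) (.node (.leaf 0) (.leaf 0))) (.node (.node (.leaf 0) (.leaf 0)) (.node (.leaf 0) (.leaf 0))))) (.node (.node (.node (.node (.leaf 0) (.leaf 0)) (.node (.leaf 0) (.leaf 0))) (.node (.node (.leaf 0) (.leaf 0)) (.node (.leaf 0) (.leaf 0)))) (.node (.node (.node (.leaf 0) (.leaf 0)) (.node (.leaf 0) (.leaf 0))) (.node (.node (.leaf 0) (.leaf 0)) (.node (.leaf 0) (.leaf 0)))))) (.node (.node (.node (.node (.node (.leaf 0) (.leaf 0)) (.node (.leaf 0) (.leaf 0))) (.node (.node (.leaf 0) (.leaf 0)) (.node (.leaf 0) (.leaf 0)))) (.node (.node (.node (.leaf 0) (.leaf 0)) (.node (.leaf 0) (.leaf 0))) (.node (.node (.leaf 0)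 (.leaf 0)) (.node (.leaf 0) (.leaf 0))))) (.node (.node (.node (.node (.leaf 0) (.leaf 0)) (.node (.leaf 0) (.leaf 0))) (.node (.node (.leaf 0) (.leaf 0)) (.node (.leaf 0) (.leaf 0)))) (.node (.node (.node (.leaf 0) (.leaf 0)) (.node (.leaf 0) (.leaf 0))) (.node (.node (.leaf 0) (.leaf 0)) (.node (.leaf 0) (.leaf 0)))))))

/-- A Schreier factor, part 813. -/
def facCodePart813 : Janko1.Tree ℕ := (.node (.node (.node (.node (.node (.node (.leaf 0) (.leaf 0)) (.node (.leaf 0) (.leaf 0))) (.node (.node (.leaf 0) (.leaf 0)) (.node (.leaf 0) (.leaf 0)))) (.node (.node (.node (.leaf 0) (.leaf 0)) (.node (.leaf 0) (.leaf 0))) (.node (.node (.leaf 0) (.leaf 0)) (.node (.leaf 0) (.leaf 0))))) (.node (.node (.node (.node (.leaf 0) (.leaf 0)) (.node (.leaf 0) (.leaf 0))) (.node (.node (.leaf 0) (.leaf 0)) (.node (.leaf 0) (.leaf 0)))) (.node (.node (.node (.leaf 0) (.leaf 0)) (.node (.leaf 0) (.leaf 0))) (.node (.node (.leaf 0) (.leaf 0)) (.node (.leaf 0) (.leaf 0)))))) (.node (.node (.node (.node (.node (.leaf 0) (.leaf 0)) (.node (.leaf 0) (.leaf 0)))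 (.node (.node (.leaf 0) (.leaf 0)) (.node (.leaf 0) (.leaf 0)))) (.node (.node (.node (.leaf 0) (.leaf 0)) (.node (.leaf 0) (.leaf 0))) (.node (.node (.leaf 0) (.leaf 0)) (.node (.leaf 0) (.leaf 0))))) (.node (.node (.node (.node (.leaf 0) (.leaf 0)) (.node (.leaf 0) (.leaf 0))) (.node (.node (.leaf 0) (.leaf 0)) (.node (.leaf 0) (.leaf 0)))) (.node (.node (.node (.leaf 0) (.leaf 0)) (.node (.leaf 0) (.leaf 0))) (.node (.node (.leaf 0) (.leaf 0)) (.node (.leaf 0) (.leaf 0)))))))

/-- A Schreier factor, part 814. -/
def facCodePart814 : Janko1.Tree ℕ := (.node (.node (.node (.node (.node (.node (.leaf 0) (.leaf 0)) (.node (.leaf 0) (.leaf 0))) (.node (.node (.leaf 0) (.leaf 0)) (.node (.leaf 0) (.leaf 0)))) (.node (.node (.node (.leaf 0) (.leaf 0)) (.node (.leaf 0) (.leaf 0))) (.node (.node (.leaf 0) (.leaf 0)) (.node (.leaf 0) (.leaf 0))))) (.node (.node (.node (.node (.leaf 0) (.leaf 0)) (.node (.leaf 0) (.leaf 0))) (.node (.node (.leaf 0) (.leaf 0)) (.node (.leaf 0) (.leaf 0)))) (.node (.node (.node (.leaf 0) (.leaf 0)) (.node (.leaf 0) (.leaf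 0))) (.node (.node (.leaf 0) (.leaf 0)) (.node (.leaf 0) (.leaf 0)))))) (.node (.node (.node (.node (.node (.leaf 0) (.leaf 0)) (.node (.leaf 0) (.leaf 0))) (.node (.node (.leaf 0) (.leaf 0)) (.node (.leaf 0) (.leaf 0)))) (.node (.node (.node (.leaf 0) (.leaf 0)) (.node (.leaf 0) (.leaf 0))) (.node (.node (.leaf 0) (.leaf 0)) (.node (.leaf 0) (.leaf 0))))) (.node (.node (.node (.node (.leaf 0) (.leaf 0)) (.node (.leaf 0) (.leaf 0))) (.node (.node (.leaf 0) (.leaf 0)) (.node (.leaf 0) (.leaf 0)))) (.node (.node (.node (.leaf 0) (.leaf 0)) (.node (.leaf 0) (.leaf 0))) (.node (.node (.leaf 0) (.leaf 0)) (.node (.leaf 0) (.leaf 0)))))))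

/-- A Schreier factor, part 815. -/
def facCodePart815 : Janko1.Tree ℕ := (.node (.node (.node (.node (.node (.node (.leaf 0) (.leaf 0)) (.node (.leaf 0) (.leaf 0))) (.node (.node (.leaf 0) (.leaf 0)) (.node (.leaf 0) (.leaf 0)))) (.node (.node (.node (.leaf 0) (.leaf 0)) (.node (.leaf 0) (.leaf 0))) (.node (.node (.leaf 0) (.leaf 0)) (.node (.leaf 0) (.leaf 0))))) (.node (.node (.node (.node (.leaf 0) (.leaf 0)) (.node (.leaf 0) (.leaf 0))) (.node (.node (.leaf 0) (.leaf 0)) (.node (.leaf 0) (.leaf 0)))) (.node (.node (.node (.leaf 0) (.leaf 0)) (.node (.leaf 0) (.leaf 0))) (.node (.node (.leaf 0) (.leaf 0)) (.node (.leaf 0) (.leaf 0)))))) (.node (.node (.node (.node (.node (.leaf 0) (.leaf 0)) (.node (.leaf 0) (.leaf 0))) (.node (.node (.leaf 0) (.leaf 0)) (.node (.leaf 0) (.leaf 0)))) (.node (.node (.node (.leaf 0) (.leaf 0)) (.node (.leaf 0) (.leaf 0))) (.node (.node (.leaf 0) (.leaf 0)) (.node (.leaf 0) (.leaf 0))))) (.node (.node (.node (.node (.leaf 0) (.leaf 0)) (.node (.leaf 0) (.leaf 0))) (.node (.node (.leaf 0) (.leaf 0)) (.node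 (.leaf 0) (.leaf 0)))) (.node (.node (.node (.leaf 0) (.leaf 0)) (.node (.leaf 0) (.leaf 0))) (.node (.node (.leaf 0) (.leaf 0)) (.node (.leaf 0) (.leaf 0)))))))

/-- A Schreier factor, part 816. -/
def facCodePart816 : Janko1.Tree ℕ := (.node (.node (.node (.node (.node (.node (.leaf 0) (.leaf 0)) (.node (.leaf 0) (.leaf 0))) (.node (.node (.leaf 0) (.leaf 0)) (.node (.leaf 0) (.leaf 0)))) (.node (.node (.node (.leaf 0) (.leaf 0)) (.node (.leaf 0) (.leaf 0))) (.node (.node (.leaf 0) (.leaf 0)) (.node (.leaf 0) (.leaf 0))))) (.node (.node (.node (.node (.leaf 0) (.leaf 0)) (.node (.leaf 0) (.leaf 0))) (.node (.node (.leaf 0) (.leaf 0)) (.node (.leaf 0) (.leaf 0)))) (.node (.node (.node (.leaf 0) (.leaf 0)) (.node (.leaf 0) (.leaf 0))) (.node (.node (.leaf 0) (.leaf 0)) (.node (.leaf 0) (.leaf 0)))))) (.node (.node (.node (.node (.node (.leaf 0) (.leaf 0)) (.node (.leaf 0) (.leaf 0))) (.node (.node (.leaf 0) (.leaf 0)) (.node (.leaf 0) (.leaf 0)))) (.node (.node (.node (.leaf 0) (.leaf 0)) (.node (.leaf 0) (.leaf 0))) (.node (.node (.leaf 0)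 (.leaf 0)) (.node (.leaf 0) (.leaf 0))))) (.node (.node (.node (.node (.leaf 0) (.leaf 0)) (.node (.leaf 0) (.leaf 0))) (.node (.node (.leaf 0) (.leaf 0)) (.node (.leaf 0) (.leaf 0)))) (.node (.node (.node (.leaf 0) (.leaf 0)) (.node (.leaf 0) (.leaf 0))) (.node (.node (.leaf 0) (.leaf 0)) (.node (.leaf 0) (.leaf 0)))))))

/-- A Schreier factor, part 817. -/
def facCodePart817 : Janko1.Tree ℕ := (.node (.node (.node (.node (.node (.node (.leaf 0) (.leaf 0)) (.node (.leaf 0) (.leaf 0))) (.node (.node (.leaf 0) (.leaf 0)) (.node (.leaf 0) (.leaf 0)))) (.node (.node (.node (.leaf 0) (.leaf 0)) (.node (.leaf 0) (.leaf 0))) (.node (.node (.leaf 0) (.leaf 0)) (.node (.leaf 0) (.leaf 0))))) (.node (.node (.node (.node (.leaf 0) (.leaf 0)) (.node (.leaf 0) (.leaf 0))) (.node (.node (.leaf 0) (.leaf 0)) (.node (.leaf 0) (.leaf 0)))) (.node (.node (.node (.leaf 0) (.leaf 0)) (.node (.leaf 0) (.leaf 0))) (.node (.node (.leaf 0) (.leaf 0)) (.node (.leaf 0) (.leaf 0)))))) (.node (.node (.node (.node (.node (.leaf 0) (.leaf 0)) (.node (.leaf 0) (.leaf 0)))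 (.node (.node (.leaf 0) (.leaf 0)) (.node (.leaf 0) (.leaf 0)))) (.node (.node (.node (.leaf 0) (.leaf 0)) (.node (.leaf 0) (.leaf 0))) (.node (.node (.leaf 0) (.leaf 0)) (.node (.leaf 0) (.leaf 0))))) (.node (.node (.node (.node (.leaf 0) (.leaf 0)) (.node (.leaf 0) (.leaf 0))) (.node (.node (.leaf 0) (.leaf 0)) (.node (.leaf 0) (.leaf 0)))) (.node (.node (.node (.leaf 0) (.leaf 0)) (.node (.leaf 0) (.leaf 0))) (.node (.node (.leaf 0) (.leaf 0)) (.node (.leaf 0) (.leaf 0)))))))

/-- A Schreier factor, part 818. -/
def facCodePart818 : Janko1.Tree ℕ := (.node (.node (.node (.node (.node (.node (.leaf 0) (.leaf 0)) (.node (.leaf 0) (.leaf 0))) (.node (.node (.leaf 0) (.leaf 0)) (.node (.leaf 0) (.leaf 0)))) (.node (.node (.node (.leaf 0) (.leaf 0)) (.node (.leaf 0) (.leaf 0))) (.node (.node (.leaf 0) (.leaf 0)) (.node (.leaf 0) (.leaf 0))))) (.node (.node (.node (.node (.leaf 0) (.leaf 0)) (.node (.leaf 0) (.leaf 0))) (.node (.node (.leaf 0) (.leaf 0)) (.node (.leaf 0) (.leaf 0)))) (.node (.node (.node (.leaf 0) (.leaf 0)) (.node (.leaf 0) (.leaf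 0))) (.node (.node (.leaf 0) (.leaf 0)) (.node (.leaf 0) (.leaf 0)))))) (.node (.node (.node (.node (.node (.leaf 0) (.leaf 0)) (.node (.leaf 0) (.leaf 0))) (.node (.node (.leaf 0) (.leaf 0)) (.node (.leaf 0) (.leaf 0)))) (.node (.node (.node (.leaf 0) (.leaf 0)) (.node (.leaf 0) (.leaf 0))) (.node (.node (.leaf 0) (.leaf 0)) (.node (.leaf 0) (.leaf 0))))) (.node (.node (.node (.node (.leaf 0) (.leaf 0)) (.node (.leaf 0) (.leaf 0))) (.node (.node (.leaf 0) (.leaf 0)) (.node (.leaf 0) (.leaf 0)))) (.node (.node (.node (.leaf 0) (.leaf 0)) (.node (.leaf 0) (.leaf 0))) (.node (.node (.leaf 0) (.leaf 0)) (.node (.leaf 0) (.leaf 0)))))))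

/-- A Schreier factor, part 819. -/
def facCodePart819 : Janko1.Tree ℕ := (.node (.node (.node (.node (.node (.node (.leaf 0) (.leaf 0)) (.node (.leaf 0) (.leaf 0))) (.node (.node (.leaf 0) (.leaf 0)) (.node (.leaf 0) (.leaf 0)))) (.node (.node (.node (.leaf 0) (.leaf 0)) (.node (.leaf 0) (.leaf 0))) (.node (.node (.leaf 0) (.leaf 0)) (.node (.leaf 0) (.leaf 0))))) (.node (.node (.node (.node (.leaf 0) (.leaf 0)) (.node (.leaf 0) (.leaf 0))) (.node (.node (.leaf 0) (.leaf 0)) (.node (.leaf 0) (.leaf 0)))) (.node (.node (.node (.leaf 0) (.leaf 0)) (.node (.leaf 0) (.leaf 0))) (.node (.node (.leaf 0) (.leaf 0)) (.node (.leaf 0) (.leaf 0)))))) (.node (.node (.node (.node (.node (.leaf 0) (.leaf 0)) (.node (.leaf 0) (.leaf 0))) (.node (.node (.leaf 0) (.leaf 0)) (.node (.leaf 0) (.leaf 0)))) (.node (.node (.node (.leaf 0) (.leaf 0)) (.node (.leaf 0) (.leaf 0))) (.node (.node (.leaf 0) (.leaf 0)) (.node (.leaf 0) (.leaf 0))))) (.node (.node (.node (.node (.leaf 0) (.leaf 0)) (.node (.leaf 0) (.leaf 0))) (.node (.node (.leaf 0) (.leaf 0)) (.node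 (.leaf 0) (.leaf 0)))) (.node (.node (.node (.leaf 0) (.leaf 0)) (.node (.leaf 0) (.leaf 0))) (.node (.node (.leaf 0) (.leaf 0)) (.node (.leaf 0) (.leaf 0)))))))

/-- A Schreier factor, part 820. -/
def facCodePart820 : Janko1.Tree ℕ := (.node (.node (.node (.node (.node (.node (.leaf 0) (.leaf 0)) (.node (.leaf 0) (.leaf 0))) (.node (.node (.leaf 0) (.leaf 0)) (.node (.leaf 0) (.leaf 0)))) (.node (.node (.node (.leaf 0) (.leaf 0)) (.node (.leaf 0) (.leaf 0))) (.node (.node (.leaf 0) (.leaf 0)) (.node (.leaf 0) (.leaf 0))))) (.node (.node (.node (.node (.leaf 0) (.leaf 0)) (.node (.leaf 0) (.leaf 0))) (.node (.node (.leaf 0) (.leaf 0)) (.node (.leaf 0) (.leaf 0)))) (.node (.node (.node (.leaf 0) (.leaf 0)) (.node (.leaf 0) (.leaf 0))) (.node (.node (.leaf 0) (.leaf 0)) (.node (.leaf 0) (.leaf 0)))))) (.node (.node (.node (.node (.node (.leaf 0) (.leaf 0)) (.node (.leaf 0) (.leaf 0))) (.node (.node (.leaf 0) (.leaf 0)) (.node (.leaf 0) (.leaf 0)))) (.node (.node (.node (.leaf 0) (.leaf 0)) (.node (.leaf 0) (.leaf 0))) (.node (.node (.leaf 0)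 (.leaf 0)) (.node (.leaf 0) (.leaf 0))))) (.node (.node (.node (.node (.leaf 0) (.leaf 0)) (.node (.leaf 0) (.leaf 0))) (.node (.node (.leaf 0) (.leaf 0)) (.node (.leaf 0) (.leaf 0)))) (.node (.node (.node (.leaf 0) (.leaf 0)) (.node (.leaf 0) (.leaf 0))) (.node (.node (.leaf 0) (.leaf 0)) (.node (.leaf 0) (.leaf 0)))))))

/-- A Schreier factor, part 821. -/
def facCodePart821 : Janko1.Tree ℕ := (.node (.node (.node (.node (.node (.node (.leaf 0) (.leaf 0)) (.node (.leaf 0) (.leaf 0))) (.node (.node (.leaf 0) (.leaf 0)) (.node (.leaf 0) (.leaf 0)))) (.node (.node (.node (.leaf 0) (.leaf 0)) (.node (.leaf 0) (.leaf 0))) (.node (.node (.leaf 0) (.leaf 0)) (.node (.leaf 0) (.leaf 0))))) (.node (.node (.node (.node (.leaf 0) (.leaf 0)) (.node (.leaf 0) (.leaf 0))) (.node (.node (.leaf 0) (.leaf 0)) (.node (.leaf 0) (.leaf 0)))) (.node (.node (.node (.leaf 0) (.leaf 0)) (.node (.leaf 0) (.leaf 0))) (.node (.node (.leaf 0) (.leaf 0)) (.node (.leaf 0) (.leaf 0)))))) (.node (.node (.node (.node (.node (.leaf 0) (.leaf 0)) (.node (.leaf 0) (.leaf 0)))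 (.node (.node (.leaf 0) (.leaf 0)) (.node (.leaf 0) (.leaf 0)))) (.node (.node (.node (.leaf 0) (.leaf 0)) (.node (.leaf 0) (.leaf 0))) (.node (.node (.leaf 0) (.leaf 0)) (.node (.leaf 0) (.leaf 0))))) (.node (.node (.node (.node (.leaf 0) (.leaf 0)) (.node (.leaf 0) (.leaf 0))) (.node (.node (.leaf 0) (.leaf 0)) (.node (.leaf 0) (.leaf 0)))) (.node (.node (.node (.leaf 0) (.leaf 0)) (.node (.leaf 0) (.leaf 0))) (.node (.node (.leaf 0) (.leaf 0)) (.node (.leaf 0) (.leaf 0)))))))

/-- A Schreier factor, part 822. -/
def facCodePart822 : Janko1.Tree ℕ := (.node (.node (.node (.node (.node (.node (.leaf 0) (.leaf 0)) (.node (.leaf 0) (.leaf 0))) (.node (.node (.leaf 0) (.leaf 0)) (.node (.leaf 0) (.leaf 0)))) (.node (.node (.node (.leaf 0) (.leaf 0)) (.node (.leaf 0) (.leaf 0))) (.node (.node (.leaf 0) (.leaf 0)) (.node (.leaf 0) (.leaf 0))))) (.node (.node (.node (.node (.leaf 0) (.leaf 0)) (.node (.leaf 0) (.leaf 0))) (.node (.node (.leaf 0) (.leaf 0)) (.node (.leaf 0) (.leaf 0)))) (.node (.node (.node (.leaf 0) (.leaf 0)) (.node (.leaf 0) (.leaf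 0))) (.node (.node (.leaf 0) (.leaf 0)) (.node (.leaf 0) (.leaf 0)))))) (.node (.node (.node (.node (.node (.leaf 0) (.leaf 0)) (.node (.leaf 0) (.leaf 0))) (.node (.node (.leaf 0) (.leaf 0)) (.node (.leaf 0) (.leaf 0)))) (.node (.node (.node (.leaf 0) (.leaf 0)) (.node (.leaf 0) (.leaf 0))) (.node (.node (.leaf 0) (.leaf 0)) (.node (.leaf 0) (.leaf 0))))) (.node (.node (.node (.node (.leaf 0) (.leaf 0)) (.node (.leaf 0) (.leaf 0))) (.node (.node (.leaf 0) (.leaf 0)) (.node (.leaf 0) (.leaf 0)))) (.node (.node (.node (.leaf 0) (.leaf 0)) (.node (.leaf 0) (.leaf 0))) (.node (.node (.leaf 0) (.leaf 0)) (.node (.leaf 0) (.leaf 0)))))))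

/-- A Schreier factor, part 823. -/
def facCodePart823 : Janko1.Tree ℕ := (.node (.node (.node (.node (.node (.node (.leaf 0) (.leaf 0)) (.node (.leaf 0) (.leaf 0))) (.node (.node (.leaf 0) (.leaf 0)) (.node (.leaf 0) (.leaf 0)))) (.node (.node (.node (.leaf 0) (.leaf 0)) (.node (.leaf 0) (.leaf 0))) (.node (.node (.leaf 0) (.leaf 0)) (.node (.leaf 0) (.leaf 0))))) (.node (.node (.node (.node (.leaf 0) (.leaf 0)) (.node (.leaf 0) (.leaf 0))) (.node (.node (.leaf 0) (.leaf 0)) (.node (.leaf 0) (.leaf 0)))) (.node (.node (.node (.leaf 0) (.leaf 0)) (.node (.leaf 0) (.leaf 0))) (.node (.node (.leaf 0) (.leaf 0)) (.node (.leaf 0) (.leaf 0)))))) (.node (.node (.node (.node (.node (.leaf 0) (.leaf 0)) (.node (.leaf 0) (.leaf 0))) (.node (.node (.leaf 0) (.leaf 0)) (.node (.leaf 0) (.leaf 0)))) (.node (.node (.node (.leaf 0) (.leaf 0)) (.node (.leaf 0) (.leaf 0))) (.node (.node (.leaf 0) (.leaf 0)) (.node (.leaf 0) (.leaf 0))))) (.node (.node (.node (.node (.leaf 0) (.leaf 0)) (.node (.leaf 0) (.leaf 0))) (.node (.node (.leaf 0) (.leaf 0)) (.node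 (.leaf 0) (.leaf 0)))) (.node (.node (.node (.leaf 0) (.leaf 0)) (.node (.leaf 0) (.leaf 0))) (.node (.node (.leaf 0) (.leaf 0)) (.node (.leaf 0) (.leaf 0)))))))

/-- A Schreier factor, part 824. -/
def facCodePart824 : Janko1.Tree ℕ := (.node (.node (.node (.node (.node (.node (.leaf 0) (.leaf 0)) (.node (.leaf 0) (.leaf 0))) (.node (.node (.leaf 0) (.leaf 0)) (.node (.leaf 0) (.leaf 0)))) (.node (.node (.node (.leaf 0) (.leaf 0)) (.node (.leaf 0) (.leaf 0))) (.node (.node (.leaf 0) (.leaf 0)) (.node (.leaf 0) (.leaf 0))))) (.node (.node (.node (.node (.leaf 0) (.leaf 0)) (.node (.leaf 0) (.leaf 0))) (.node (.node (.leaf 0) (.leaf 0)) (.node (.leaf 0) (.leaf 0)))) (.node (.node (.node (.leaf 0) (.leaf 0)) (.node (.leaf 0) (.leaf 0))) (.node (.node (.leaf 0) (.leaf 0)) (.node (.leaf 0) (.leaf 0)))))) (.node (.node (.node (.node (.node (.leaf 0) (.leaf 0)) (.node (.leaf 0) (.leaf 0))) (.node (.node (.leaf 0) (.leaf 0)) (.node (.leaf 0) (.leaf 0)))) (.node (.node (.node (.leaf 0) (.leaf 0)) (.node (.leaf 0) (.leaf 0))) (.node (.node (.leaf 0)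 (.leaf 0)) (.node (.leaf 0) (.leaf 0))))) (.node (.node (.node (.node (.leaf 0) (.leaf 0)) (.node (.leaf 0) (.leaf 0))) (.node (.node (.leaf 0) (.leaf 0)) (.node (.leaf 0) (.leaf 0)))) (.node (.node (.node (.leaf 0) (.leaf 0)) (.node (.leaf 0) (.leaf 0))) (.node (.node (.leaf 0) (.leaf 0)) (.node (.leaf 0) (.leaf 0)))))))

/-- A Schreier factor, part 825. -/
def facCodePart825 : Janko1.Tree ℕ := (.node (.node (.node (.node (.node (.node (.leaf 0) (.leaf 0)) (.node (.leaf 0) (.leaf 0))) (.node (.node (.leaf 0) (.leaf 0)) (.node (.leaf 0) (.leaf 0)))) (.node (.node (.node (.leaf 0) (.leaf 0)) (.node (.leaf 0) (.leaf 0))) (.node (.node (.leaf 0) (.leaf 0)) (.node (.leaf 0) (.leaf 0))))) (.node (.node (.node (.node (.leaf 0) (.leaf 0)) (.node (.leaf 0) (.leaf 0))) (.node (.node (.leaf 0) (.leaf 0)) (.node (.leaf 0) (.leaf 0)))) (.node (.node (.node (.leaf 0) (.leaf 0)) (.node (.leaf 0) (.leaf 0))) (.node (.node (.leaf 0) (.leaf 0)) (.node (.leaf 0) (.leaf 0)))))) (.node (.node (.node (.node (.node (.leaf 0) (.leaf 0)) (.node (.leaf 0) (.leaf 0)))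 (.node (.node (.leaf 0) (.leaf 0)) (.node (.leaf 0) (.leaf 0)))) (.node (.node (.node (.leaf 0) (.leaf 0)) (.node (.leaf 0) (.leaf 0))) (.node (.node (.leaf 0) (.leaf 0)) (.node (.leaf 0) (.leaf 0))))) (.node (.node (.node (.node (.leaf 0) (.leaf 0)) (.node (.leaf 0) (.leaf 0))) (.node (.node (.leaf 0) (.leaf 0)) (.node (.leaf 0) (.leaf 0)))) (.node (.node (.node (.leaf 0) (.leaf 0)) (.node (.leaf 0) (.leaf 0))) (.node (.node (.leaf 0) (.leaf 0)) (.node (.leaf 0) (.leaf 0)))))))

/-- A Schreier factor, part 826. -/
def facCodePart826 : Janko1.Tree ℕ := (.node (.node (.node (.node (.node (.node (.leaf 0) (.leaf 0)) (.node (.leaf 0) (.leaf 0))) (.node (.node (.leaf 0) (.leaf 0)) (.node (.leaf 0) (.leaf 0)))) (.node (.node (.node (.leaf 0) (.leaf 0)) (.node (.leaf 0) (.leaf 0))) (.node (.node (.leaf 0) (.leaf 0)) (.node (.leaf 0) (.leaf 0))))) (.node (.node (.node (.node (.leaf 0) (.leaf 0)) (.node (.leaf 0) (.leaf 0))) (.node (.node (.leaf 0) (.leaf 0)) (.node (.leaf 0) (.leaf 0)))) (.node (.node (.node (.leaf 0) (.leaf 0)) (.node (.leaf 0) (.leaf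 0))) (.node (.node (.leaf 0) (.leaf 0)) (.node (.leaf 0) (.leaf 0)))))) (.node (.node (.node (.node (.node (.leaf 0) (.leaf 0)) (.node (.leaf 0) (.leaf 0))) (.node (.node (.leaf 0) (.leaf 0)) (.node (.leaf 0) (.leaf 0)))) (.node (.node (.node (.leaf 0) (.leaf 0)) (.node (.leaf 0) (.leaf 0))) (.node (.node (.leaf 0) (.leaf 0)) (.node (.leaf 0) (.leaf 0))))) (.node (.node (.node (.node (.leaf 0) (.leaf 0)) (.node (.leaf 0) (.leaf 0))) (.node (.node (.leaf 0) (.leaf 0)) (.node (.leaf 0) (.leaf 0)))) (.node (.node (.node (.leaf 0) (.leaf 0)) (.node (.leaf 0) (.leaf 0))) (.node (.node (.leaf 0) (.leaf 0)) (.node (.leaf 0) (.leaf 0)))))))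

/-- A Schreier factor, part 827. -/
def facCodePart827 : Janko1.Tree ℕ := (.node (.node (.node (.node (.node (.node (.leaf 0) (.leaf 0)) (.node (.leaf 0) (.leaf 0))) (.node (.node (.leaf 0) (.leaf 0)) (.node (.leaf 0) (.leaf 0)))) (.node (.node (.node (.leaf 0) (.leaf 0)) (.node (.leaf 0) (.leaf 0))) (.node (.node (.leaf 0) (.leaf 0)) (.node (.leaf 0) (.leaf 0))))) (.node (.node (.node (.node (.leaf 0) (.leaf 0)) (.node (.leaf 0) (.leaf 0))) (.node (.node (.leaf 0) (.leaf 0)) (.node (.leaf 0) (.leaf 0)))) (.node (.node (.node (.leaf 0) (.leaf 0)) (.node (.leaf 0) (.leaf 0))) (.node (.node (.leaf 0) (.leaf 0)) (.node (.leaf 0) (.leaf 0)))))) (.node (.node (.node (.node (.node (.leaf 0) (.leaf 0)) (.node (.leaf 0) (.leaf 0))) (.node (.node (.leaf 0) (.leaf 0)) (.node (.leaf 0) (.leaf 0)))) (.node (.node (.node (.leaf 0) (.leaf 0)) (.node (.leaf 0) (.leaf 0))) (.node (.node (.leaf 0) (.leaf 0)) (.node (.leaf 0) (.leaf 0))))) (.node (.node (.node (.node (.leaf 0) (.leaf 0)) (.node (.leaf 0) (.leaf 0))) (.node (.node (.leaf 0) (.leaf 0)) (.node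 (.leaf 0) (.leaf 0)))) (.node (.node (.node (.leaf 0) (.leaf 0)) (.node (.leaf 0) (.leaf 0))) (.node (.node (.leaf 0) (.leaf 0)) (.node (.leaf 0) (.leaf 0)))))))

/-- A Schreier factor, part 828. -/
def facCodePart828 : Janko1.Tree ℕ := (.node (.node (.node (.node (.node (.node (.leaf 0) (.leaf 0)) (.node (.leaf 0) (.leaf 0))) (.node (.node (.leaf 0) (.leaf 0)) (.node (.leaf 0) (.leaf 0)))) (.node (.node (.node (.leaf 0) (.leaf 0)) (.node (.leaf 0) (.leaf 0))) (.node (.node (.leaf 0) (.leaf 0)) (.node (.leaf 0) (.leaf 0))))) (.node (.node (.node (.node (.leaf 0) (.leaf 0)) (.node (.leaf 0) (.leaf 0))) (.node (.node (.leaf 0) (.leaf 0)) (.node (.leaf 0) (.leaf 0)))) (.node (.node (.node (.leaf 0) (.leaf 0)) (.node (.leaf 0) (.leaf 0))) (.node (.node (.leaf 0) (.leaf 0)) (.node (.leaf 0) (.leaf 0)))))) (.node (.node (.node (.node (.node (.leaf 0) (.leaf 0)) (.node (.leaf 0) (.leaf 0))) (.node (.node (.leaf 0) (.leaf 0)) (.node (.leaf 0) (.leaf 0)))) (.node (.node (.node (.leaf 0) (.leaf 0)) (.node (.leaf 0) (.leaf 0))) (.node (.node (.leaf 0)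 (.leaf 0)) (.node (.leaf 0) (.leaf 0))))) (.node (.node (.node (.node (.leaf 0) (.leaf 0)) (.node (.leaf 0) (.leaf 0))) (.node (.node (.leaf 0) (.leaf 0)) (.node (.leaf 0) (.leaf 0)))) (.node (.node (.node (.leaf 0) (.leaf 0)) (.node (.leaf 0) (.leaf 0))) (.node (.node (.leaf 0) (.leaf 0)) (.node (.leaf 0) (.leaf 0)))))))

/-- A Schreier factor, part 829. -/
def facCodePart829 : Janko1.Tree ℕ := (.node (.node (.node (.node (.node (.node (.leaf 0) (.leaf 0)) (.node (.leaf 0) (.leaf 0))) (.node (.node (.leaf 0) (.leaf 0)) (.node (.leaf 0) (.leaf 0)))) (.node (.node (.node (.leaf 0) (.leaf 0)) (.node (.leaf 0) (.leaf 0))) (.node (.node (.leaf 0) (.leaf 0)) (.node (.leaf 0) (.leaf 0))))) (.node (.node (.node (.node (.leaf 0) (.leaf 0)) (.node (.leaf 0) (.leaf 0))) (.node (.node (.leaf 0) (.leaf 0)) (.node (.leaf 0) (.leaf 0)))) (.node (.node (.node (.leaf 0) (.leaf 0)) (.node (.leaf 0) (.leaf 0))) (.node (.node (.leaf 0) (.leaf 0)) (.node (.leaf 0) (.leaf 0)))))) (.node (.node (.node (.node (.node (.leaf 0) (.leaf 0)) (.node (.leaf 0) (.leaf 0)))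 (.node (.node (.leaf 0) (.leaf 0)) (.node (.leaf 0) (.leaf 0)))) (.node (.node (.node (.leaf 0) (.leaf 0)) (.node (.leaf 0) (.leaf 0))) (.node (.node (.leaf 0) (.leaf 0)) (.node (.leaf 0) (.leaf 0))))) (.node (.node (.node (.node (.leaf 0) (.leaf 0)) (.node (.leaf 0) (.leaf 0))) (.node (.node (.leaf 0) (.leaf 0)) (.node (.leaf 0) (.leaf 0)))) (.node (.node (.node (.leaf 0) (.leaf 0)) (.node (.leaf 0) (.leaf 0))) (.node (.node (.leaf 0) (.leaf 0)) (.node (.leaf 0) (.leaf 0)))))))

/-- A Schreier factor, part 830. -/
def facCodePart830 : Janko1.Tree ℕ := (.node (.node (.node (.node (.node (.node (.leaf 0) (.leaf 0)) (.node (.leaf 0) (.leaf 0))) (.node (.node (.leaf 0) (.leaf 0)) (.node (.leaf 0) (.leaf 0)))) (.node (.node (.node (.leaf 0) (.leaf 0)) (.node (.leaf 0) (.leaf 0))) (.node (.node (.leaf 0) (.leaf 0)) (.node (.leaf 0) (.leaf 0))))) (.node (.node (.node (.node (.leaf 0) (.leaf 0)) (.node (.leaf 0) (.leaf 0))) (.node (.node (.leaf 0) (.leaf 0)) (.node (.leaf 0) (.leaf 0)))) (.node (.node (.node (.leaf 0) (.leaf 0)) (.node (.leaf 0) (.leaf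 0))) (.node (.node (.leaf 0) (.leaf 0)) (.node (.leaf 0) (.leaf 0)))))) (.node (.node (.node (.node (.node (.leaf 0) (.leaf 0)) (.node (.leaf 0) (.leaf 0))) (.node (.node (.leaf 0) (.leaf 0)) (.node (.leaf 0) (.leaf 0)))) (.node (.node (.node (.leaf 0) (.leaf 0)) (.node (.leaf 0) (.leaf 0))) (.node (.node (.leaf 0) (.leaf 0)) (.node (.leaf 0) (.leaf 0))))) (.node (.node (.node (.node (.leaf 0) (.leaf 0)) (.node (.leaf 0) (.leaf 0))) (.node (.node (.leaf 0) (.leaf 0)) (.node (.leaf 0) (.leaf 0)))) (.node (.node (.node (.leaf 0) (.leaf 0)) (.node (.leaf 0) (.leaf 0))) (.node (.node (.leaf 0) (.leaf 0)) (.node (.leaf 0) (.leaf 0)))))))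

/-- A Schreier factor, part 831. -/
def facCodePart831 : Janko1.Tree ℕ := (.node (.node (.node (.node (.node (.node (.leaf 0) (.leaf 0)) (.node (.leaf 0) (.leaf 0))) (.node (.node (.leaf 0) (.leaf 0)) (.node (.leaf 0) (.leaf 0)))) (.node (.node (.node (.leaf 0) (.leaf 0)) (.node (.leaf 0) (.leaf 0))) (.node (.node (.leaf 0) (.leaf 0)) (.node (.leaf 0) (.leaf 0))))) (.node (.node (.node (.node (.leaf 0) (.leaf 0)) (.node (.leaf 0) (.leaf 0))) (.node (.node (.leaf 0) (.leaf 0)) (.node (.leaf 0) (.leaf 0)))) (.node (.node (.node (.leaf 0) (.leaf 0)) (.node (.leaf 0) (.leaf 0))) (.node (.node (.leaf 0) (.leaf 0)) (.node (.leaf 0) (.leaf 0)))))) (.node (.node (.node (.node (.node (.leaf 0) (.leaf 0)) (.node (.leaf 0) (.leaf 0))) (.node (.node (.leaf 0) (.leaf 0)) (.node (.leaf 0) (.leaf 0)))) (.node (.node (.node (.leaf 0) (.leaf 0)) (.node (.leaf 0) (.leaf 0))) (.node (.node (.leaf 0) (.leaf 0)) (.node (.leaf 0) (.leaf 0))))) (.node (.node (.node (.node (.leaf 0) (.leaf 0)) (.node (.leaf 0) (.leaf 0))) (.node (.node (.leaf 0) (.leaf 0)) (.node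 (.leaf 0) (.leaf 0)))) (.node (.node (.node (.leaf 0) (.leaf 0)) (.node (.leaf 0) (.leaf 0))) (.node (.node (.leaf 0) (.leaf 0)) (.node (.leaf 0) (.leaf 0)))))))

/-- A Schreier factor, part 832. -/
def facCodePart832 : Janko1.Tree ℕ := (.node (.node (.node (.node (.node (.node (.leaf 0) (.leaf 0)) (.node (.leaf 0) (.leaf 0))) (.node (.node (.leaf 0) (.leaf 0)) (.node (.leaf 0) (.leaf 0)))) (.node (.node (.node (.leaf 0) (.leaf 0)) (.node (.leaf 0) (.leaf 0))) (.node (.node (.leaf 0) (.leaf 0)) (.node (.leaf 0) (.leaf 0))))) (.node (.node (.node (.node (.leaf 0) (.leaf 0)) (.node (.leaf 0) (.leaf 0))) (.node (.node (.leaf 0) (.leaf 0)) (.node (.leaf 0) (.leaf 0)))) (.node (.node (.node (.leaf 0) (.leaf 0)) (.node (.leaf 0) (.leaf 0))) (.node (.node (.leaf 0) (.leaf 0)) (.node (.leaf 0) (.leaf 0)))))) (.node (.node (.node (.node (.node (.leaf 0) (.leaf 0)) (.node (.leaf 0) (.leaf 0))) (.node (.node (.leaf 0) (.leaf 0)) (.node (.leaf 0) (.leaf 0)))) (.node (.node (.node (.leaf 0) (.leaf 0)) (.node (.leaf 0) (.leaf 0))) (.node (.node (.leaf 0)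 (.leaf 0)) (.node (.leaf 0) (.leaf 0))))) (.node (.node (.node (.node (.leaf 0) (.leaf 0)) (.node (.leaf 0) (.leaf 0))) (.node (.node (.leaf 0) (.leaf 0)) (.node (.leaf 0) (.leaf 0)))) (.node (.node (.node (.leaf 0) (.leaf 0)) (.node (.leaf 0) (.leaf 0))) (.node (.node (.leaf 0) (.leaf 0)) (.node (.leaf 0) (.leaf 0)))))))

/-- A Schreier factor, part 833. -/
def facCodePart833 : Janko1.Tree ℕ := (.node (.node (.node (.node (.node (.node (.leaf 0) (.leaf 0)) (.node (.leaf 0) (.leaf 0))) (.node (.node (.leaf 0) (.leaf 0)) (.node (.leaf 0) (.leaf 0)))) (.node (.node (.node (.leaf 0) (.leaf 0)) (.node (.leaf 0) (.leaf 0))) (.node (.node (.leaf 0) (.leaf 0)) (.node (.leaf 0) (.leaf 0))))) (.node (.node (.node (.node (.leaf 0) (.leaf 0)) (.node (.leaf 0) (.leaf 0))) (.node (.node (.leaf 0) (.leaf 0)) (.node (.leaf 0) (.leaf 0)))) (.node (.node (.node (.leaf 0) (.leaf 0)) (.node (.leaf 0) (.leaf 0))) (.node (.node (.leaf 0) (.leaf 0)) (.node (.leaf 0) (.leaf 0)))))) (.node (.node (.node (.node (.node (.leaf 0) (.leaf 0)) (.node (.leaf 0) (.leaf 0)))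 (.node (.node (.leaf 0) (.leaf 0)) (.node (.leaf 0) (.leaf 0)))) (.node (.node (.node (.leaf 0) (.leaf 0)) (.node (.leaf 0) (.leaf 0))) (.node (.node (.leaf 0) (.leaf 0)) (.node (.leaf 0) (.leaf 0))))) (.node (.node (.node (.node (.leaf 0) (.leaf 0)) (.node (.leaf 0) (.leaf 0))) (.node (.node (.leaf 0) (.leaf 0)) (.node (.leaf 0) (.leaf 0)))) (.node (.node (.node (.leaf 0) (.leaf 0)) (.node (.leaf 0) (.leaf 0))) (.node (.node (.leaf 0) (.leaf 0)) (.node (.leaf 0) (.leaf 0)))))))

/-- A Schreier factor, part 834. -/
def facCodePart834 : Janko1.Tree ℕ := (.node (.node (.node (.node (.node (.node (.leaf 0) (.leaf 0)) (.node (.leaf 0) (.leaf 0))) (.node (.node (.leaf 0) (.leaf 0)) (.node (.leaf 0) (.leaf 0)))) (.node (.node (.node (.leaf 0) (.leaf 0)) (.node (.leaf 0) (.leaf 0))) (.node (.node (.leaf 0) (.leaf 0)) (.node (.leaf 0) (.leaf 0))))) (.node (.node (.node (.node (.leaf 0) (.leaf 0)) (.node (.leaf 0) (.leaf 0))) (.node (.node (.leaf 0) (.leaf 0)) (.node (.leaf 0) (.leaf 0)))) (.node (.node (.node (.leaf 0) (.leaf 0)) (.node (.leaf 0) (.leaf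 0))) (.node (.node (.leaf 0) (.leaf 0)) (.node (.leaf 0) (.leaf 0)))))) (.node (.node (.node (.node (.node (.leaf 0) (.leaf 0)) (.node (.leaf 0) (.leaf 0))) (.node (.node (.leaf 0) (.leaf 0)) (.node (.leaf 0) (.leaf 0)))) (.node (.node (.node (.leaf 0) (.leaf 0)) (.node (.leaf 0) (.leaf 0))) (.node (.node (.leaf 0) (.leaf 0)) (.node (.leaf 0) (.leaf 0))))) (.node (.node (.node (.node (.leaf 0) (.leaf 0)) (.node (.leaf 0) (.leaf 0))) (.node (.node (.leaf 0) (.leaf 0)) (.node (.leaf 0) (.leaf 0)))) (.node (.node (.node (.leaf 0) (.leaf 0)) (.node (.leaf 0) (.leaf 0))) (.node (.node (.leaf 0) (.leaf 0)) (.node (.leaf 0) (.leaf 0)))))))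

/-- A Schreier factor, part 835. -/
def facCodePart835 : Janko1.Tree ℕ := (.node (.node (.node (.node (.node (.node (.leaf 0) (.leaf 0)) (.node (.leaf 0) (.leaf 0))) (.node (.node (.leaf 0) (.leaf 0)) (.node (.leaf 0) (.leaf 0)))) (.node (.node (.node (.leaf 0) (.leaf 0)) (.node (.leaf 0) (.leaf 0))) (.node (.node (.leaf 0) (.leaf 0)) (.node (.leaf 0) (.leaf 0))))) (.node (.node (.node (.node (.leaf 0) (.leaf 0)) (.node (.leaf 0) (.leaf 0))) (.node (.node (.leaf 0) (.leaf 0)) (.node (.leaf 0) (.leaf 0)))) (.node (.node (.node (.leaf 0) (.leaf 0)) (.node (.leaf 0) (.leaf 0))) (.node (.node (.leaf 0) (.leaf 0)) (.node (.leaf 0) (.leaf 0)))))) (.node (.node (.node (.node (.node (.leaf 0) (.leaf 0)) (.node (.leaf 0) (.leaf 0))) (.node (.node (.leaf 0) (.leaf 0)) (.node (.leaf 0) (.leaf 0)))) (.node (.node (.node (.leaf 0) (.leaf 0)) (.node (.leaf 0) (.leaf 0))) (.node (.node (.leaf 0) (.leaf 0)) (.node (.leaf 0) (.leaf 0))))) (.node (.node (.node (.node (.leaf 0) (.leaf 0)) (.node (.leaf 0) (.leaf 0))) (.node (.node (.leaf 0) (.leaf 0)) (.node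 (.leaf 0) (.leaf 0)))) (.node (.node (.node (.leaf 0) (.leaf 0)) (.node (.leaf 0) (.leaf 0))) (.node (.node (.leaf 0) (.leaf 0)) (.node (.leaf 0) (.leaf 0)))))))

/-- A Schreier factor, part 836. -/
def facCodePart836 : Janko1.Tree ℕ := (.node (.node (.node (.node (.node (.node (.leaf 0) (.leaf 0)) (.node (.leaf 0) (.leaf 0))) (.node (.node (.leaf 0) (.leaf 0)) (.node (.leaf 0) (.leaf 0)))) (.node (.node (.node (.leaf 0) (.leaf 0)) (.node (.leaf 0) (.leaf 0))) (.node (.node (.leaf 0) (.leaf 0)) (.node (.leaf 0) (.leaf 0))))) (.node (.node (.node (.node (.leaf 0) (.leaf 0)) (.node (.leaf 0) (.leaf 0))) (.node (.node (.leaf 0) (.leaf 0)) (.node (.leaf 0) (.leaf 0)))) (.node (.node (.node (.leaf 0) (.leaf 0)) (.node (.leaf 0) (.leaf 0))) (.node (.node (.leaf 0) (.leaf 0)) (.node (.leaf 0) (.leaf 0)))))) (.node (.node (.node (.node (.node (.leaf 0) (.leaf 0)) (.node (.leaf 0) (.leaf 0))) (.node (.node (.leaf 0) (.leaf 0)) (.node (.leaf 0) (.leaf 0)))) (.node (.node (.node (.leaf 0) (.leaf 0)) (.node (.leaf 0) (.leaf 0))) (.node (.node (.leaf 0)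 (.leaf 0)) (.node (.leaf 0) (.leaf 0))))) (.node (.node (.node (.node (.leaf 0) (.leaf 0)) (.node (.leaf 0) (.leaf 0))) (.node (.node (.leaf 0) (.leaf 0)) (.node (.leaf 0) (.leaf 0)))) (.node (.node (.node (.leaf 0) (.leaf 0)) (.node (.leaf 0) (.leaf 0))) (.node (.node (.leaf 0) (.leaf 0)) (.node (.leaf 0) (.leaf 0)))))))

/-- A Schreier factor, part 837. -/
def facCodePart837 : Janko1.Tree ℕ := (.node (.node (.node (.node (.node (.node (.leaf 0) (.leaf 0)) (.node (.leaf 0) (.leaf 0))) (.node (.node (.leaf 0) (.leaf 0)) (.node (.leaf 0) (.leaf 0)))) (.node (.node (.node (.leaf 0) (.leaf 0)) (.node (.leaf 0) (.leaf 0))) (.node (.node (.leaf 0) (.leaf 0)) (.node (.leaf 0) (.leaf 0))))) (.node (.node (.node (.node (.leaf 0) (.leaf 0)) (.node (.leaf 0) (.leaf 0))) (.node (.node (.leaf 0) (.leaf 0)) (.node (.leaf 0) (.leaf 0)))) (.node (.node (.node (.leaf 0) (.leaf 0)) (.node (.leaf 0) (.leaf 0))) (.node (.node (.leaf 0) (.leaf 0)) (.node (.leaf 0) (.leaf 0)))))) (.node (.node (.node (.node (.node (.leaf 0) (.leaf 0)) (.node (.leaf 0) (.leaf 0)))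 (.node (.node (.leaf 0) (.leaf 0)) (.node (.leaf 0) (.leaf 0)))) (.node (.node (.node (.leaf 0) (.leaf 0)) (.node (.leaf 0) (.leaf 0))) (.node (.node (.leaf 0) (.leaf 0)) (.node (.leaf 0) (.leaf 0))))) (.node (.node (.node (.node (.leaf 0) (.leaf 0)) (.node (.leaf 0) (.leaf 0))) (.node (.node (.leaf 0) (.leaf 0)) (.node (.leaf 0) (.leaf 0)))) (.node (.node (.node (.leaf 0) (.leaf 0)) (.node (.leaf 0) (.leaf 0))) (.node (.node (.leaf 0) (.leaf 0)) (.node (.leaf 0) (.leaf 0)))))))

/-- A Schreier factor, part 838. -/
def facCodePart838 : Janko1.Tree ℕ := (.node (.node (.node (.node (.node (.node (.leaf 0) (.leaf 0)) (.node (.leaf 0) (.leaf 0))) (.node (.node (.leaf 0) (.leaf 0)) (.node (.leaf 0) (.leaf 0)))) (.node (.node (.node (.leaf 0) (.leaf 0)) (.node (.leaf 0) (.leaf 0))) (.node (.node (.leaf 0) (.leaf 0)) (.node (.leaf 0) (.leaf 0))))) (.node (.node (.node (.node (.leaf 0) (.leaf 0)) (.node (.leaf 0) (.leaf 0))) (.node (.node (.leaf 0) (.leaf 0)) (.node (.leaf 0) (.leaf 0)))) (.node (.node (.node (.leaf 0) (.leaf 0)) (.node (.leaf 0) (.leaf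 0))) (.node (.node (.leaf 0) (.leaf 0)) (.node (.leaf 0) (.leaf 0)))))) (.node (.node (.node (.node (.node (.leaf 0) (.leaf 0)) (.node (.leaf 0) (.leaf 0))) (.node (.node (.leaf 0) (.leaf 0)) (.node (.leaf 0) (.leaf 0)))) (.node (.node (.node (.leaf 0) (.leaf 0)) (.node (.leaf 0) (.leaf 0))) (.node (.node (.leaf 0) (.leaf 0)) (.node (.leaf 0) (.leaf 0))))) (.node (.node (.node (.node (.leaf 0) (.leaf 0)) (.node (.leaf 0) (.leaf 0))) (.node (.node (.leaf 0) (.leaf 0)) (.node (.leaf 0) (.leaf 0)))) (.node (.node (.node (.leaf 0) (.leaf 0)) (.node (.leaf 0) (.leaf 0))) (.node (.node (.leaf 0) (.leaf 0)) (.node (.leaf 0) (.leaf 0)))))))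

/-- A Schreier factor, part 839. -/
def facCodePart839 : Janko1.Tree ℕ := (.node (.node (.node (.node (.node (.node (.leaf 0) (.leaf 0)) (.node (.leaf 0) (.leaf 0))) (.node (.node (.leaf 0) (.leaf 0)) (.node (.leaf 0) (.leaf 0)))) (.node (.node (.node (.leaf 0) (.leaf 0)) (.node (.leaf 0) (.leaf 0))) (.node (.node (.leaf 0) (.leaf 0)) (.node (.leaf 0) (.leaf 0))))) (.node (.node (.node (.node (.leaf 0) (.leaf 0)) (.node (.leaf 0) (.leaf 0))) (.node (.node (.leaf 0) (.leaf 0)) (.node (.leaf 0) (.leaf 0)))) (.node (.node (.node (.leaf 0) (.leaf 0)) (.node (.leaf 0) (.leaf 0))) (.node (.node (.leaf 0) (.leaf 0)) (.node (.leaf 0) (.leaf 0)))))) (.node (.node (.node (.node (.node (.leaf 0) (.leaf 0)) (.node (.leaf 0) (.leaf 0))) (.node (.node (.leaf 0) (.leaf 0)) (.node (.leaf 0) (.leaf 0)))) (.node (.node (.node (.leaf 0) (.leaf 0)) (.node (.leaf 0) (.leaf 0))) (.node (.node (.leaf 0) (.leaf 0)) (.node (.leaf 0) (.leaf 0))))) (.node (.node (.node (.node (.leaf 0) (.leaf 0)) (.node (.leaf 0) (.leaf 0))) (.node (.node (.leaf 0) (.leaf 0)) (.node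 (.leaf 0) (.leaf 0)))) (.node (.node (.node (.leaf 0) (.leaf 0)) (.node (.leaf 0) (.leaf 0))) (.node (.node (.leaf 0) (.leaf 0)) (.node (.leaf 0) (.leaf 0)))))))

/-- A Schreier factor, part 840. -/
def facCodePart840 : Janko1.Tree ℕ := (.node (.node (.node (.node (.node (.node (.leaf 0) (.leaf 0)) (.node (.leaf 0) (.leaf 0))) (.node (.node (.leaf 0) (.leaf 0)) (.node (.leaf 0) (.leaf 0)))) (.node (.node (.node (.leaf 0) (.leaf 0)) (.node (.leaf 0) (.leaf 0))) (.node (.node (.leaf 0) (.leaf 0)) (.node (.leaf 0) (.leaf 0))))) (.node (.node (.node (.node (.leaf 0) (.leaf 0)) (.node (.leaf 0) (.leaf 0))) (.node (.node (.leaf 0) (.leaf 0)) (.node (.leaf 0) (.leaf 0)))) (.node (.node (.node (.leaf 0) (.leaf 0)) (.node (.leaf 0) (.leaf 0))) (.node (.node (.leaf 0) (.leaf 0)) (.node (.leaf 0) (.leaf 0)))))) (.node (.node (.node (.node (.node (.leaf 0) (.leaf 0)) (.node (.leaf 0) (.leaf 0))) (.node (.node (.leaf 0) (.leaf 0)) (.node (.leaf 0) (.leaf 0)))) (.node (.node (.node (.leaf 0) (.leaf 0)) (.node (.leaf 0) (.leaf 0))) (.node (.node (.leaf 0)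 (.leaf 0)) (.node (.leaf 0) (.leaf 0))))) (.node (.node (.node (.node (.leaf 0) (.leaf 0)) (.node (.leaf 0) (.leaf 0))) (.node (.node (.leaf 0) (.leaf 0)) (.node (.leaf 0) (.leaf 0)))) (.node (.node (.node (.leaf 0) (.leaf 0)) (.node (.leaf 0) (.leaf 0))) (.node (.node (.leaf 0) (.leaf 0)) (.node (.leaf 0) (.leaf 0)))))))

/-- A Schreier factor, part 841. -/
def facCodePart841 : Janko1.Tree ℕ := (.node (.node (.node (.node (.node (.node (.leaf 0) (.leaf 0)) (.node (.leaf 0) (.leaf 0))) (.node (.node (.leaf 0) (.leaf 0)) (.node (.leaf 0) (.leaf 0)))) (.node (.node (.node (.leaf 0) (.leaf 0)) (.node (.leaf 0) (.leaf 0))) (.node (.node (.leaf 0) (.leaf 0)) (.node (.leaf 0) (.leaf 0))))) (.node (.node (.node (.node (.leaf 0) (.leaf 0)) (.node (.leaf 0) (.leaf 0))) (.node (.node (.leaf 0) (.leaf 0)) (.node (.leaf 0) (.leaf 0)))) (.node (.node (.node (.leaf 0) (.leaf 0)) (.node (.leaf 0) (.leaf 0))) (.node (.node (.leaf 0) (.leaf 0)) (.node (.leaf 0) (.leaf 0)))))) (.node (.node (.node (.node (.node (.leaf 0) (.leaf 0)) (.node (.leaf 0) (.leaf 0)))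 (.node (.node (.leaf 0) (.leaf 0)) (.node (.leaf 0) (.leaf 0)))) (.node (.node (.node (.leaf 0) (.leaf 0)) (.node (.leaf 0) (.leaf 0))) (.node (.node (.leaf 0) (.leaf 0)) (.node (.leaf 0) (.leaf 0))))) (.node (.node (.node (.node (.leaf 0) (.leaf 0)) (.node (.leaf 0) (.leaf 0))) (.node (.node (.leaf 0) (.leaf 0)) (.node (.leaf 0) (.leaf 0)))) (.node (.node (.node (.leaf 0) (.leaf 0)) (.node (.leaf 0) (.leaf 0))) (.node (.node (.leaf 0) (.leaf 0)) (.node (.leaf 0) (.leaf 0)))))))

/-- A Schreier factor, part 842. -/
def facCodePart842 : Janko1.Tree ℕ := (.node (.node (.node (.node (.node (.node (.leaf 0) (.leaf 0)) (.node (.leaf 0) (.leaf 0))) (.node (.node (.leaf 0) (.leaf 0)) (.node (.leaf 0) (.leaf 0)))) (.node (.node (.node (.leaf 0) (.leaf 0)) (.node (.leaf 0) (.leaf 0))) (.node (.node (.leaf 0) (.leaf 0)) (.node (.leaf 0) (.leaf 0))))) (.node (.node (.node (.node (.leaf 0) (.leaf 0)) (.node (.leaf 0) (.leaf 0))) (.node (.node (.leaf 0) (.leaf 0)) (.node (.leaf 0) (.leaf 0)))) (.node (.node (.node (.leaf 0) (.leaf 0)) (.node (.leaf 0) (.leaf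 0))) (.node (.node (.leaf 0) (.leaf 0)) (.node (.leaf 0) (.leaf 0)))))) (.node (.node (.node (.node (.node (.leaf 0) (.leaf 0)) (.node (.leaf 0) (.leaf 0))) (.node (.node (.leaf 0) (.leaf 0)) (.node (.leaf 0) (.leaf 0)))) (.node (.node (.node (.leaf 0) (.leaf 0)) (.node (.leaf 0) (.leaf 0))) (.node (.node (.leaf 0) (.leaf 0)) (.node (.leaf 0) (.leaf 0))))) (.node (.node (.node (.node (.leaf 0) (.leaf 0)) (.node (.leaf 0) (.leaf 0))) (.node (.node (.leaf 0) (.leaf 0)) (.node (.leaf 0) (.leaf 0)))) (.node (.node (.node (.leaf 0) (.leaf 0)) (.node (.leaf 0) (.leaf 0))) (.node (.node (.leaf 0) (.leaf 0)) (.node (.leaf 0) (.leaf 0)))))))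

/-- A Schreier factor, part 843. -/
def facCodePart843 : Janko1.Tree ℕ := (.node (.node (.node (.node (.node (.node (.leaf 0) (.leaf 0)) (.node (.leaf 0) (.leaf 0))) (.node (.node (.leaf 0) (.leaf 0)) (.node (.leaf 0) (.leaf 0)))) (.node (.node (.node (.leaf 0) (.leaf 0)) (.node (.leaf 0) (.leaf 0))) (.node (.node (.leaf 0) (.leaf 0)) (.node (.leaf 0) (.leaf 0))))) (.node (.node (.node (.node (.leaf 0) (.leaf 0)) (.node (.leaf 0) (.leaf 0))) (.node (.node (.leaf 0) (.leaf 0)) (.node (.leaf 0) (.leaf 0)))) (.node (.node (.node (.leaf 0) (.leaf 0)) (.node (.leaf 0) (.leaf 0))) (.node (.node (.leaf 0) (.leaf 0)) (.node (.leaf 0) (.leaf 0)))))) (.node (.node (.node (.node (.node (.leaf 0) (.leaf 0)) (.node (.leaf 0) (.leaf 0))) (.node (.node (.leaf 0) (.leaf 0)) (.node (.leaf 0) (.leaf 0)))) (.node (.node (.node (.leaf 0) (.leaf 0)) (.node (.leaf 0) (.leaf 0))) (.node (.node (.leaf 0) (.leaf 0)) (.node (.leaf 0) (.leaf 0))))) (.node (.node (.node (.node (.leaf 0) (.leaf 0)) (.node (.leaf 0) (.leaf 0))) (.node (.node (.leaf 0) (.leaf 0)) (.node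 (.leaf 0) (.leaf 0)))) (.node (.node (.node (.leaf 0) (.leaf 0)) (.node (.leaf 0) (.leaf 0))) (.node (.node (.leaf 0) (.leaf 0)) (.node (.leaf 0) (.leaf 0)))))))

/-- A Schreier factor, part 844. -/
def facCodePart844 : Janko1.Tree ℕ := (.node (.node (.node (.node (.node (.node (.leaf 0) (.leaf 0)) (.node (.leaf 0) (.leaf 0))) (.node (.node (.leaf 0) (.leaf 0)) (.node (.leaf 0) (.leaf 0)))) (.node (.node (.node (.leaf 0) (.leaf 0)) (.node (.leaf 0) (.leaf 0))) (.node (.node (.leaf 0) (.leaf 0)) (.node (.leaf 0) (.leaf 0))))) (.node (.node (.node (.node (.leaf 0) (.leaf 0)) (.node (.leaf 0) (.leaf 0))) (.node (.node (.leaf 0) (.leaf 0)) (.node (.leaf 0) (.leaf 0)))) (.node (.node (.node (.leaf 0) (.leaf 0)) (.node (.leaf 0) (.leaf 0))) (.node (.node (.leaf 0) (.leaf 0)) (.node (.leaf 0) (.leaf 0)))))) (.node (.node (.node (.node (.node (.leaf 0) (.leaf 0)) (.node (.leaf 0) (.leaf 0))) (.node (.node (.leaf 0) (.leaf 0)) (.node (.leaf 0) (.leaf 0)))) (.node (.node (.node (.leaf 0) (.leaf 0)) (.node (.leaf 0) (.leaf 0))) (.node (.node (.leaf 0)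 (.leaf 0)) (.node (.leaf 0) (.leaf 0))))) (.node (.node (.node (.node (.leaf 0) (.leaf 0)) (.node (.leaf 0) (.leaf 0))) (.node (.node (.leaf 0) (.leaf 0)) (.node (.leaf 0) (.leaf 0)))) (.node (.node (.node (.leaf 0) (.leaf 0)) (.node (.leaf 0) (.leaf 0))) (.node (.node (.leaf 0) (.leaf 0)) (.node (.leaf 0) (.leaf 0)))))))

/-- A Schreier factor, part 845. -/
def facCodePart845 : Janko1.Tree ℕ := (.node (.node (.node (.node (.node (.node (.leaf 0) (.leaf 0)) (.node (.leaf 0) (.leaf 0))) (.node (.node (.leaf 0) (.leaf 0)) (.node (.leaf 0) (.leaf 0)))) (.node (.node (.node (.leaf 0) (.leaf 0)) (.node (.leaf 0) (.leaf 0))) (.node (.node (.leaf 0) (.leaf 0)) (.node (.leaf 0) (.leaf 0))))) (.node (.node (.node (.node (.leaf 0) (.leaf 0)) (.node (.leaf 0) (.leaf 0))) (.node (.node (.leaf 0) (.leaf 0)) (.node (.leaf 0) (.leaf 0)))) (.node (.node (.node (.leaf 0) (.leaf 0)) (.node (.leaf 0) (.leaf 0))) (.node (.node (.leaf 0) (.leaf 0)) (.node (.leaf 0) (.leaf 0)))))) (.node (.node (.node (.node (.node (.leaf 0) (.leaf 0)) (.node (.leaf 0) (.leaf 0)))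 (.node (.node (.leaf 0) (.leaf 0)) (.node (.leaf 0) (.leaf 0)))) (.node (.node (.node (.leaf 0) (.leaf 0)) (.node (.leaf 0) (.leaf 0))) (.node (.node (.leaf 0) (.leaf 0)) (.node (.leaf 0) (.leaf 0))))) (.node (.node (.node (.node (.leaf 0) (.leaf 0)) (.node (.leaf 0) (.leaf 0))) (.node (.node (.leaf 0) (.leaf 0)) (.node (.leaf 0) (.leaf 0)))) (.node (.node (.node (.leaf 0) (.leaf 0)) (.node (.leaf 0) (.leaf 0))) (.node (.node (.leaf 0) (.leaf 0)) (.node (.leaf 0) (.leaf 0)))))))

/-- A Schreier factor, part 846. -/
def facCodePart846 : Janko1.Tree ℕ := (.node (.node (.node (.node (.node (.node (.leaf 0) (.leaf 0)) (.node (.leaf 0) (.leaf 0))) (.node (.node (.leaf 0) (.leaf 0)) (.node (.leaf 0) (.leaf 0)))) (.node (.node (.node (.leaf 0) (.leaf 0)) (.node (.leaf 0) (.leaf 0))) (.node (.node (.leaf 0) (.leaf 0)) (.node (.leaf 0) (.leaf 0))))) (.node (.node (.node (.node (.leaf 0) (.leaf 0)) (.node (.leaf 0) (.leaf 0))) (.node (.node (.leaf 0) (.leaf 0)) (.node (.leaf 0) (.leaf 0)))) (.node (.node (.node (.leaf 0) (.leaf 0)) (.node (.leaf 0) (.leaf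 0))) (.node (.node (.leaf 0) (.leaf 0)) (.node (.leaf 0) (.leaf 0)))))) (.node (.node (.node (.node (.node (.leaf 0) (.leaf 0)) (.node (.leaf 0) (.leaf 0))) (.node (.node (.leaf 0) (.leaf 0)) (.node (.leaf 0) (.leaf 0)))) (.node (.node (.node (.leaf 0) (.leaf 0)) (.node (.leaf 0) (.leaf 0))) (.node (.node (.leaf 0) (.leaf 0)) (.node (.leaf 0) (.leaf 0))))) (.node (.node (.node (.node (.leaf 0) (.leaf 0)) (.node (.leaf 0) (.leaf 0))) (.node (.node (.leaf 0) (.leaf 0)) (.node (.leaf 0) (.leaf 0)))) (.node (.node (.node (.leaf 0) (.leaf 0)) (.node (.leaf 0) (.leaf 0))) (.node (.node (.leaf 0) (.leaf 0)) (.node (.leaf 0) (.leaf 0)))))))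

/-- A Schreier factor, part 847. -/
def facCodePart847 : Janko1.Tree ℕ := (.node (.node (.node (.node (.node (.node (.leaf 0) (.leaf 0)) (.node (.leaf 0) (.leaf 0))) (.node (.node (.leaf 0) (.leaf 0)) (.node (.leaf 0) (.leaf 0)))) (.node (.node (.node (.leaf 0) (.leaf 0)) (.node (.leaf 0) (.leaf 0))) (.node (.node (.leaf 0) (.leaf 0)) (.node (.leaf 0) (.leaf 0))))) (.node (.node (.node (.node (.leaf 0) (.leaf 0)) (.node (.leaf 0) (.leaf 0))) (.node (.node (.leaf 0) (.leaf 0)) (.node (.leaf 0) (.leaf 0)))) (.node (.node (.node (.leaf 0) (.leaf 0)) (.node (.leaf 0) (.leaf 0))) (.node (.node (.leaf 0) (.leaf 0)) (.node (.leaf 0) (.leaf 0)))))) (.node (.node (.node (.node (.node (.leaf 0) (.leaf 0)) (.node (.leaf 0) (.leaf 0))) (.node (.node (.leaf 0) (.leaf 0)) (.node (.leaf 0) (.leaf 0)))) (.node (.node (.node (.leaf 0) (.leaf 0)) (.node (.leaf 0) (.leaf 0))) (.node (.node (.leaf 0) (.leaf 0)) (.node (.leaf 0) (.leaf 0))))) (.node (.node (.node (.node (.leaf 0) (.leaf 0)) (.node (.leaf 0) (.leaf 0))) (.node (.node (.leaf 0) (.leaf 0)) (.node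 (.leaf 0) (.leaf 0)))) (.node (.node (.node (.leaf 0) (.leaf 0)) (.node (.leaf 0) (.leaf 0))) (.node (.node (.leaf 0) (.leaf 0)) (.node (.leaf 0) (.leaf 0)))))))

/-- A Schreier factor, part 848. -/
def facCodePart848 : Janko1.Tree ℕ := (.node (.node (.node (.node (.node (.node (.leaf 0) (.leaf 0)) (.node (.leaf 0) (.leaf 0))) (.node (.node (.leaf 0) (.leaf 0)) (.node (.leaf 0) (.leaf 0)))) (.node (.node (.node (.leaf 0) (.leaf 0)) (.node (.leaf 0) (.leaf 0))) (.node (.node (.leaf 0) (.leaf 0)) (.node (.leaf 0) (.leaf 0))))) (.node (.node (.node (.node (.leaf 0) (.leaf 0)) (.node (.leaf 0) (.leaf 0))) (.node (.node (.leaf 0) (.leaf 0)) (.node (.leaf 0) (.leaf 0)))) (.node (.node (.node (.leaf 0) (.leaf 0)) (.node (.leaf 0) (.leaf 0))) (.node (.node (.leaf 0) (.leaf 0)) (.node (.leaf 0) (.leaf 0)))))) (.node (.node (.node (.node (.node (.leaf 0) (.leaf 0)) (.node (.leaf 0) (.leaf 0))) (.node (.node (.leaf 0) (.leaf 0)) (.node (.leaf 0) (.leaf 0)))) (.node (.node (.node (.leaf 0) (.leaf 0)) (.node (.leaf 0) (.leaf 0))) (.node (.node (.leaf 0)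 (.leaf 0)) (.node (.leaf 0) (.leaf 0))))) (.node (.node (.node (.node (.leaf 0) (.leaf 0)) (.node (.leaf 0) (.leaf 0))) (.node (.node (.leaf 0) (.leaf 0)) (.node (.leaf 0) (.leaf 0)))) (.node (.node (.node (.leaf 0) (.leaf 0)) (.node (.leaf 0) (.leaf 0))) (.node (.node (.leaf 0) (.leaf 0)) (.node (.leaf 0) (.leaf 0)))))))

/-- A Schreier factor, part 849. -/
def facCodePart849 : Janko1.Tree ℕ := (.node (.node (.node (.node (.node (.node (.leaf 0) (.leaf 0)) (.node (.leaf 0) (.leaf 0))) (.node (.node (.leaf 0) (.leaf 0)) (.node (.leaf 0) (.leaf 0)))) (.node (.node (.node (.leaf 0) (.leaf 0)) (.node (.leaf 0) (.leaf 0))) (.node (.node (.leaf 0) (.leaf 0)) (.node (.leaf 0) (.leaf 0))))) (.node (.node (.node (.node (.leaf 0) (.leaf 0)) (.node (.leaf 0) (.leaf 0))) (.node (.node (.leaf 0) (.leaf 0)) (.node (.leaf 0) (.leaf 0)))) (.node (.node (.node (.leaf 0) (.leaf 0)) (.node (.leaf 0) (.leaf 0))) (.node (.node (.leaf 0) (.leaf 0)) (.node (.leaf 0) (.leaf 0)))))) (.node (.node (.node (.node (.node (.leaf 0) (.leaf 0)) (.node (.leaf 0) (.leaf 0)))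 (.node (.node (.leaf 0) (.leaf 0)) (.node (.leaf 0) (.leaf 0)))) (.node (.node (.node (.leaf 0) (.leaf 0)) (.node (.leaf 0) (.leaf 0))) (.node (.node (.leaf 0) (.leaf 0)) (.node (.leaf 0) (.leaf 0))))) (.node (.node (.node (.node (.leaf 0) (.leaf 0)) (.node (.leaf 0) (.leaf 0))) (.node (.node (.leaf 0) (.leaf 0)) (.node (.leaf 0) (.leaf 0)))) (.node (.node (.node (.leaf 0) (.leaf 0)) (.node (.leaf 0) (.leaf 0))) (.node (.node (.leaf 0) (.leaf 0)) (.node (.leaf 0) (.leaf 0)))))))

/-- A Schreier factor, part 850. -/
def facCodePart850 : Janko1.Tree ℕ := (.node (.node (.node (.node (.node (.node (.leaf 0) (.leaf 0)) (.node (.leaf 0) (.leaf 0))) (.node (.node (.leaf 0) (.leaf 0)) (.node (.leaf 0) (.leaf 0)))) (.node (.node (.node (.leaf 0) (.leaf 0)) (.node (.leaf 0) (.leaf 0))) (.node (.node (.leaf 0) (.leaf 0)) (.node (.leaf 0) (.leaf 0))))) (.node (.node (.node (.node (.leaf 0) (.leaf 0)) (.node (.leaf 0) (.leaf 0))) (.node (.node (.leaf 0) (.leaf 0)) (.node (.leaf 0) (.leaf 0)))) (.node (.node (.node (.leaf 0) (.leaf 0)) (.node (.leaf 0) (.leaf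 0))) (.node (.node (.leaf 0) (.leaf 0)) (.node (.leaf 0) (.leaf 0)))))) (.node (.node (.node (.node (.node (.leaf 0) (.leaf 0)) (.node (.leaf 0) (.leaf 0))) (.node (.node (.leaf 0) (.leaf 0)) (.node (.leaf 0) (.leaf 0)))) (.node (.node (.node (.leaf 0) (.leaf 0)) (.node (.leaf 0) (.leaf 0))) (.node (.node (.leaf 0) (.leaf 0)) (.node (.leaf 0) (.leaf 0))))) (.node (.node (.node (.node (.leaf 0) (.leaf 0)) (.node (.leaf 0) (.leaf 0))) (.node (.node (.leaf 0) (.leaf 0)) (.node (.leaf 0) (.leaf 0)))) (.node (.node (.node (.leaf 0) (.leaf 0)) (.node (.leaf 0) (.leaf 0))) (.node (.node (.leaf 0) (.leaf 0)) (.node (.leaf 0) (.leaf 0)))))))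

/-- A Schreier factor, part 851. -/
def facCodePart851 : Janko1.Tree ℕ := (.node (.node (.node (.node (.node (.node (.leaf 0) (.leaf 0)) (.node (.leaf 0) (.leaf 0))) (.node (.node (.leaf 0) (.leaf 0)) (.node (.leaf 0) (.leaf 0)))) (.node (.node (.node (.leaf 0) (.leaf 0)) (.node (.leaf 0) (.leaf 0))) (.node (.node (.leaf 0) (.leaf 0)) (.node (.leaf 0) (.leaf 0))))) (.node (.node (.node (.node (.leaf 0) (.leaf 0)) (.node (.leaf 0) (.leaf 0))) (.node (.node (.leaf 0) (.leaf 0)) (.node (.leaf 0) (.leaf 0)))) (.node (.node (.node (.leaf 0) (.leaf 0)) (.node (.leaf 0) (.leaf 0))) (.node (.node (.leaf 0) (.leaf 0)) (.node (.leaf 0) (.leaf 0)))))) (.node (.node (.node (.node (.node (.leaf 0) (.leaf 0)) (.node (.leaf 0) (.leaf 0))) (.node (.node (.leaf 0) (.leaf 0)) (.node (.leaf 0) (.leaf 0)))) (.node (.node (.node (.leaf 0) (.leaf 0)) (.node (.leaf 0) (.leaf 0))) (.node (.node (.leaf 0) (.leaf 0)) (.node (.leaf 0) (.leaf 0))))) (.node (.node (.node (.node (.leaf 0) (.leaf 0)) (.node (.leaf 0) (.leaf 0))) (.node (.node (.leaf 0) (.leaf 0)) (.node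 (.leaf 0) (.leaf 0)))) (.node (.node (.node (.leaf 0) (.leaf 0)) (.node (.leaf 0) (.leaf 0))) (.node (.node (.leaf 0) (.leaf 0)) (.node (.leaf 0) (.leaf 0)))))))

/-- A Schreier factor, part 852. -/
def facCodePart852 : Janko1.Tree ℕ := (.node (.node (.node (.node (.node (.node (.leaf 0) (.leaf 0)) (.node (.leaf 0) (.leaf 0))) (.node (.node (.leaf 0) (.leaf 0)) (.node (.leaf 0) (.leaf 0)))) (.node (.node (.node (.leaf 0) (.leaf 0)) (.node (.leaf 0) (.leaf 0))) (.node (.node (.leaf 0) (.leaf 0)) (.node (.leaf 0) (.leaf 0))))) (.node (.node (.node (.node (.leaf 0) (.leaf 0)) (.node (.leaf 0) (.leaf 0))) (.node (.node (.leaf 0) (.leaf 0)) (.node (.leaf 0) (.leaf 0)))) (.node (.node (.node (.leaf 0) (.leaf 0)) (.node (.leaf 0) (.leaf 0))) (.node (.node (.leaf 0) (.leaf 0)) (.node (.leaf 0) (.leaf 0)))))) (.node (.node (.node (.node (.node (.leaf 0) (.leaf 0)) (.node (.leaf 0) (.leaf 0))) (.node (.node (.leaf 0) (.leaf 0)) (.node (.leaf 0) (.leaf 0)))) (.node (.node (.node (.leaf 0) (.leaf 0)) (.node (.leaf 0) (.leaf 0))) (.node (.node (.leaf 0)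 (.leaf 0)) (.node (.leaf 0) (.leaf 0))))) (.node (.node (.node (.node (.leaf 0) (.leaf 0)) (.node (.leaf 0) (.leaf 0))) (.node (.node (.leaf 0) (.leaf 0)) (.node (.leaf 0) (.leaf 0)))) (.node (.node (.node (.leaf 0) (.leaf 0)) (.node (.leaf 0) (.leaf 0))) (.node (.node (.leaf 0) (.leaf 0)) (.node (.leaf 0) (.leaf 0)))))))

/-- A Schreier factor, part 853. -/
def facCodePart853 : Janko1.Tree ℕ := (.node (.node (.node (.node (.node (.node (.leaf 0) (.leaf 0)) (.node (.leaf 0) (.leaf 0))) (.node (.node (.leaf 0) (.leaf 0)) (.node (.leaf 0) (.leaf 0)))) (.node (.node (.node (.leaf 0) (.leaf 0)) (.node (.leaf 0) (.leaf 0))) (.node (.node (.leaf 0) (.leaf 0)) (.node (.leaf 0) (.leaf 0))))) (.node (.node (.node (.node (.leaf 0) (.leaf 0)) (.node (.leaf 0) (.leaf 0))) (.node (.node (.leaf 0) (.leaf 0)) (.node (.leaf 0) (.leaf 0)))) (.node (.node (.node (.leaf 0) (.leaf 0)) (.node (.leaf 0) (.leaf 0))) (.node (.node (.leaf 0) (.leaf 0)) (.node (.leaf 0) (.leaf 0)))))) (.node (.node (.node (.node (.node (.leaf 0) (.leaf 0)) (.node (.leaf 0) (.leaf 0)))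 (.node (.node (.leaf 0) (.leaf 0)) (.node (.leaf 0) (.leaf 0)))) (.node (.node (.node (.leaf 0) (.leaf 0)) (.node (.leaf 0) (.leaf 0))) (.node (.node (.leaf 0) (.leaf 0)) (.node (.leaf 0) (.leaf 0))))) (.node (.node (.node (.node (.leaf 0) (.leaf 0)) (.node (.leaf 0) (.leaf 0))) (.node (.node (.leaf 0) (.leaf 0)) (.node (.leaf 0) (.leaf 0)))) (.node (.node (.node (.leaf 0) (.leaf 0)) (.node (.leaf 0) (.leaf 0))) (.node (.node (.leaf 0) (.leaf 0)) (.node (.leaf 0) (.leaf 0)))))))

/-- A Schreier factor, part 854. -/
def facCodePart854 : Janko1.Tree ℕ := (.node (.node (.node (.node (.node (.node (.leaf 0) (.leaf 0)) (.node (.leaf 0) (.leaf 0))) (.node (.node (.leaf 0) (.leaf 0)) (.node (.leaf 0) (.leaf 0)))) (.node (.node (.node (.leaf 0) (.leaf 0)) (.node (.leaf 0) (.leaf 0))) (.node (.node (.leaf 0) (.leaf 0)) (.node (.leaf 0) (.leaf 0))))) (.node (.node (.node (.node (.leaf 0) (.leaf 0)) (.node (.leaf 0) (.leaf 0))) (.node (.node (.leaf 0) (.leaf 0)) (.node (.leaf 0) (.leaf 0)))) (.node (.node (.node (.leaf 0) (.leaf 0)) (.node (.leaf 0) (.leaf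 0))) (.node (.node (.leaf 0) (.leaf 0)) (.node (.leaf 0) (.leaf 0)))))) (.node (.node (.node (.node (.node (.leaf 0) (.leaf 0)) (.node (.leaf 0) (.leaf 0))) (.node (.node (.leaf 0) (.leaf 0)) (.node (.leaf 0) (.leaf 0)))) (.node (.node (.node (.leaf 0) (.leaf 0)) (.node (.leaf 0) (.leaf 0))) (.node (.node (.leaf 0) (.leaf 0)) (.node (.leaf 0) (.leaf 0))))) (.node (.node (.node (.node (.leaf 0) (.leaf 0)) (.node (.leaf 0) (.leaf 0))) (.node (.node (.leaf 0) (.leaf 0)) (.node (.leaf 0) (.leaf 0)))) (.node (.node (.node (.leaf 0) (.leaf 0)) (.node (.leaf 0) (.leaf 0))) (.node (.node (.leaf 0) (.leaf 0)) (.node (.leaf 0) (.leaf 0)))))))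

/-- A Schreier factor, part 855. -/
def facCodePart855 : Janko1.Tree ℕ := (.node (.node (.node (.node (.node (.node (.leaf 0) (.leaf 0)) (.node (.leaf 0) (.leaf 0))) (.node (.node (.leaf 0) (.leaf 0)) (.node (.leaf 0) (.leaf 0)))) (.node (.node (.node (.leaf 0) (.leaf 0)) (.node (.leaf 0) (.leaf 0))) (.node (.node (.leaf 0) (.leaf 0)) (.node (.leaf 0) (.leaf 0))))) (.node (.node (.node (.node (.leaf 0) (.leaf 0)) (.node (.leaf 0) (.leaf 0))) (.node (.node (.leaf 0) (.leaf 0)) (.node (.leaf 0) (.leaf 0)))) (.node (.node (.node (.leaf 0) (.leaf 0)) (.node (.leaf 0) (.leaf 0))) (.node (.node (.leaf 0) (.leaf 0)) (.node (.leaf 0) (.leaf 0)))))) (.node (.node (.node (.node (.node (.leaf 0) (.leaf 0)) (.node (.leaf 0) (.leaf 0))) (.node (.node (.leaf 0) (.leaf 0)) (.node (.leaf 0) (.leaf 0)))) (.node (.node (.node (.leaf 0) (.leaf 0)) (.node (.leaf 0) (.leaf 0))) (.node (.node (.leaf 0) (.leaf 0)) (.node (.leaf 0) (.leaf 0))))) (.node (.node (.node (.node (.leaf 0) (.leaf 0)) (.node (.leaf 0) (.leaf 0))) (.node (.node (.leaf 0) (.leaf 0)) (.node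 (.leaf 0) (.leaf 0)))) (.node (.node (.node (.leaf 0) (.leaf 0)) (.node (.leaf 0) (.leaf 0))) (.node (.node (.leaf 0) (.leaf 0)) (.node (.leaf 0) (.leaf 0)))))))

/-- A Schreier factor, part 856. -/
def facCodePart856 : Janko1.Tree ℕ := (.node (.node (.node (.node (.node (.node (.leaf 0) (.leaf 0)) (.node (.leaf 0) (.leaf 0))) (.node (.node (.leaf 0) (.leaf 0)) (.node (.leaf 0) (.leaf 0)))) (.node (.node (.node (.leaf 0) (.leaf 0)) (.node (.leaf 0) (.leaf 0))) (.node (.node (.leaf 0) (.leaf 0)) (.node (.leaf 0) (.leaf 0))))) (.node (.node (.node (.node (.leaf 0) (.leaf 0)) (.node (.leaf 0) (.leaf 0))) (.node (.node (.leaf 0) (.leaf 0)) (.node (.leaf 0) (.leaf 0)))) (.node (.node (.node (.leaf 0) (.leaf 0)) (.node (.leaf 0) (.leaf 0))) (.node (.node (.leaf 0) (.leaf 0)) (.node (.leaf 0) (.leaf 0)))))) (.node (.node (.node (.node (.node (.leaf 0) (.leaf 0)) (.node (.leaf 0) (.leaf 0))) (.node (.node (.leaf 0) (.leaf 0)) (.node (.leaf 0) (.leaf 0)))) (.node (.node (.node (.leaf 0) (.leaf 0)) (.node (.leaf 0) (.leaf 0))) (.node (.node (.leaf 0)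 (.leaf 0)) (.node (.leaf 0) (.leaf 0))))) (.node (.node (.node (.node (.leaf 0) (.leaf 0)) (.node (.leaf 0) (.leaf 0))) (.node (.node (.leaf 0) (.leaf 0)) (.node (.leaf 0) (.leaf 0)))) (.node (.node (.node (.leaf 0) (.leaf 0)) (.node (.leaf 0) (.leaf 0))) (.node (.node (.leaf 0) (.leaf 0)) (.node (.leaf 0) (.leaf 0)))))))

/-- A Schreier factor, part 857. -/
def facCodePart857 : Janko1.Tree ℕ := (.node (.node (.node (.node (.node (.node (.leaf 0) (.leaf 0)) (.node (.leaf 0) (.leaf 0))) (.node (.node (.leaf 0) (.leaf 0)) (.node (.leaf 0) (.leaf 0)))) (.node (.node (.node (.leaf 0) (.leaf 0)) (.node (.leaf 0) (.leaf 0))) (.node (.node (.leaf 0) (.leaf 0)) (.node (.leaf 0) (.leaf 0))))) (.node (.node (.node (.node (.leaf 0) (.leaf 0)) (.node (.leaf 0) (.leaf 0))) (.node (.node (.leaf 0) (.leaf 0)) (.node (.leaf 0) (.leaf 0)))) (.node (.node (.node (.leaf 0) (.leaf 0)) (.node (.leaf 0) (.leaf 0))) (.node (.node (.leaf 0) (.leaf 0)) (.node (.leaf 0) (.leaf 0)))))) (.node (.node (.node (.node (.node (.leaf 0) (.leaf 0)) (.node (.leaf 0) (.leaf 0)))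 (.node (.node (.leaf 0) (.leaf 0)) (.node (.leaf 0) (.leaf 0)))) (.node (.node (.node (.leaf 0) (.leaf 0)) (.node (.leaf 0) (.leaf 0))) (.node (.node (.leaf 0) (.leaf 0)) (.node (.leaf 0) (.leaf 0))))) (.node (.node (.node (.node (.leaf 0) (.leaf 0)) (.node (.leaf 0) (.leaf 0))) (.node (.node (.leaf 0) (.leaf 0)) (.node (.leaf 0) (.leaf 0)))) (.node (.node (.node (.leaf 0) (.leaf 0)) (.node (.leaf 0) (.leaf 0))) (.node (.node (.leaf 0) (.leaf 0)) (.node (.leaf 0) (.leaf 0)))))))

/-- A Schreier factor, part 858. -/
def facCodePart858 : Janko1.Tree ℕ := (.node (.node (.node (.node (.node (.node (.leaf 0) (.leaf 0)) (.node (.leaf 0) (.leaf 0))) (.node (.node (.leaf 0) (.leaf 0)) (.node (.leaf 0) (.leaf 0)))) (.node (.node (.node (.leaf 0) (.leaf 0)) (.node (.leaf 0) (.leaf 0))) (.node (.node (.leaf 0) (.leaf 0)) (.node (.leaf 0) (.leaf 0))))) (.node (.node (.node (.node (.leaf 0) (.leaf 0)) (.node (.leaf 0) (.leaf 0))) (.node (.node (.leaf 0) (.leaf 0)) (.node (.leaf 0) (.leaf 0)))) (.node (.node (.node (.leaf 0) (.leaf 0)) (.node (.leaf 0) (.leaf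 0))) (.node (.node (.leaf 0) (.leaf 0)) (.node (.leaf 0) (.leaf 0)))))) (.node (.node (.node (.node (.node (.leaf 0) (.leaf 0)) (.node (.leaf 0) (.leaf 0))) (.node (.node (.leaf 0) (.leaf 0)) (.node (.leaf 0) (.leaf 0)))) (.node (.node (.node (.leaf 0) (.leaf 0)) (.node (.leaf 0) (.leaf 0))) (.node (.node (.leaf 0) (.leaf 0)) (.node (.leaf 0) (.leaf 0))))) (.node (.node (.node (.node (.leaf 0) (.leaf 0)) (.node (.leaf 0) (.leaf 0))) (.node (.node (.leaf 0) (.leaf 0)) (.node (.leaf 0) (.leaf 0)))) (.node (.node (.node (.leaf 0) (.leaf 0)) (.node (.leaf 0) (.leaf 0))) (.node (.node (.leaf 0) (.leaf 0)) (.node (.leaf 0) (.leaf 0)))))))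

/-- A Schreier factor, part 859. -/
def facCodePart859 : Janko1.Tree ℕ := (.node (.node (.node (.node (.node (.node (.leaf 0) (.leaf 0)) (.node (.leaf 0) (.leaf 0))) (.node (.node (.leaf 0) (.leaf 0)) (.node (.leaf 0) (.leaf 0)))) (.node (.node (.node (.leaf 0) (.leaf 0)) (.node (.leaf 0) (.leaf 0))) (.node (.node (.leaf 0) (.leaf 0)) (.node (.leaf 0) (.leaf 0))))) (.node (.node (.node (.node (.leaf 0) (.leaf 0)) (.node (.leaf 0) (.leaf 0))) (.node (.node (.leaf 0) (.leaf 0)) (.node (.leaf 0) (.leaf 0)))) (.node (.node (.node (.leaf 0) (.leaf 0)) (.node (.leaf 0) (.leaf 0))) (.node (.node (.leaf 0) (.leaf 0)) (.node (.leaf 0) (.leaf 0)))))) (.node (.node (.node (.node (.node (.leaf 0) (.leaf 0)) (.node (.leaf 0) (.leaf 0))) (.node (.node (.leaf 0) (.leaf 0)) (.node (.leaf 0) (.leaf 0)))) (.node (.node (.node (.leaf 0) (.leaf 0)) (.node (.leaf 0) (.leaf 0))) (.node (.node (.leaf 0) (.leaf 0)) (.node (.leaf 0) (.leaf 0))))) (.node (.node (.node (.node (.leaf 0) (.leaf 0)) (.node (.leaf 0) (.leaf 0))) (.node (.node (.leaf 0) (.leaf 0)) (.node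 (.leaf 0) (.leaf 0)))) (.node (.node (.node (.leaf 0) (.leaf 0)) (.node (.leaf 0) (.leaf 0))) (.node (.node (.leaf 0) (.leaf 0)) (.node (.leaf 0) (.leaf 0)))))))

/-- A Schreier factor, part 860. -/
def facCodePart860 : Janko1.Tree ℕ := (.node (.node (.node (.node (.node (.node (.leaf 0) (.leaf 0)) (.node (.leaf 0) (.leaf 0))) (.node (.node (.leaf 0) (.leaf 0)) (.node (.leaf 0) (.leaf 0)))) (.node (.node (.node (.leaf 0) (.leaf 0)) (.node (.leaf 0) (.leaf 0))) (.node (.node (.leaf 0) (.leaf 0)) (.node (.leaf 0) (.leaf 0))))) (.node (.node (.node (.node (.leaf 0) (.leaf 0)) (.node (.leaf 0) (.leaf 0))) (.node (.node (.leaf 0) (.leaf 0)) (.node (.leaf 0) (.leaf 0)))) (.node (.node (.node (.leaf 0) (.leaf 0)) (.node (.leaf 0) (.leaf 0))) (.node (.node (.leaf 0) (.leaf 0)) (.node (.leaf 0) (.leaf 0)))))) (.node (.node (.node (.node (.node (.leaf 0) (.leaf 0)) (.node (.leaf 0) (.leaf 0))) (.node (.node (.leaf 0) (.leaf 0)) (.node (.leaf 0) (.leaf 0)))) (.node (.node (.node (.leaf 0) (.leaf 0)) (.node (.leaf 0) (.leaf 0))) (.node (.node (.leaf 0)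 (.leaf 0)) (.node (.leaf 0) (.leaf 0))))) (.node (.node (.node (.node (.leaf 0) (.leaf 0)) (.node (.leaf 0) (.leaf 0))) (.node (.node (.leaf 0) (.leaf 0)) (.node (.leaf 0) (.leaf 0)))) (.node (.node (.node (.leaf 0) (.leaf 0)) (.node (.leaf 0) (.leaf 0))) (.node (.node (.leaf 0) (.leaf 0)) (.node (.leaf 0) (.leaf 0)))))))

/-- A Schreier factor, part 861. -/
def facCodePart861 : Janko1.Tree ℕ := (.node (.node (.node (.node (.node (.node (.leaf 0) (.leaf 0)) (.node (.leaf 0) (.leaf 0))) (.node (.node (.leaf 0) (.leaf 0)) (.node (.leaf 0) (.leaf 0)))) (.node (.node (.node (.leaf 0) (.leaf 0)) (.node (.leaf 0) (.leaf 0))) (.node (.node (.leaf 0) (.leaf 0)) (.node (.leaf 0) (.leaf 0))))) (.node (.node (.node (.node (.leaf 0) (.leaf 0)) (.node (.leaf 0) (.leaf 0))) (.node (.node (.leaf 0) (.leaf 0)) (.node (.leaf 0) (.leaf 0)))) (.node (.node (.node (.leaf 0) (.leaf 0)) (.node (.leaf 0) (.leaf 0))) (.node (.node (.leaf 0) (.leaf 0)) (.node (.leaf 0) (.leaf 0)))))) (.node (.node (.node (.node (.node (.leaf 0) (.leaf 0)) (.node (.leaf 0) (.leaf 0)))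 (.node (.node (.leaf 0) (.leaf 0)) (.node (.leaf 0) (.leaf 0)))) (.node (.node (.node (.leaf 0) (.leaf 0)) (.node (.leaf 0) (.leaf 0))) (.node (.node (.leaf 0) (.leaf 0)) (.node (.leaf 0) (.leaf 0))))) (.node (.node (.node (.node (.leaf 0) (.leaf 0)) (.node (.leaf 0) (.leaf 0))) (.node (.node (.leaf 0) (.leaf 0)) (.node (.leaf 0) (.leaf 0)))) (.node (.node (.node (.leaf 0) (.leaf 0)) (.node (.leaf 0) (.leaf 0))) (.node (.node (.leaf 0) (.leaf 0)) (.node (.leaf 0) (.leaf 0)))))))

/-- A Schreier factor, part 862. -/
def facCodePart862 : Janko1.Tree ℕ := (.node (.node (.node (.node (.node (.node (.leaf 0) (.leaf 0)) (.node (.leaf 0) (.leaf 0))) (.node (.node (.leaf 0) (.leaf 0)) (.node (.leaf 0) (.leaf 0)))) (.node (.node (.node (.leaf 0) (.leaf 0)) (.node (.leaf 0) (.leaf 0))) (.node (.node (.leaf 0) (.leaf 0)) (.node (.leaf 0) (.leaf 0))))) (.node (.node (.node (.node (.leaf 0) (.leaf 0)) (.node (.leaf 0) (.leaf 0))) (.node (.node (.leaf 0) (.leaf 0)) (.node (.leaf 0) (.leaf 0)))) (.node (.node (.node (.leaf 0) (.leaf 0)) (.node (.leaf 0) (.leaf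 0))) (.node (.node (.leaf 0) (.leaf 0)) (.node (.leaf 0) (.leaf 0)))))) (.node (.node (.node (.node (.node (.leaf 0) (.leaf 0)) (.node (.leaf 0) (.leaf 0))) (.node (.node (.leaf 0) (.leaf 0)) (.node (.leaf 0) (.leaf 0)))) (.node (.node (.node (.leaf 0) (.leaf 0)) (.node (.leaf 0) (.leaf 0))) (.node (.node (.leaf 0) (.leaf 0)) (.node (.leaf 0) (.leaf 0))))) (.node (.node (.node (.node (.leaf 0) (.leaf 0)) (.node (.leaf 0) (.leaf 0))) (.node (.node (.leaf 0) (.leaf 0)) (.node (.leaf 0) (.leaf 0)))) (.node (.node (.node (.leaf 0) (.leaf 0)) (.node (.leaf 0) (.leaf 0))) (.node (.node (.leaf 0) (.leaf 0)) (.node (.leaf 0) (.leaf 0)))))))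

/-- A Schreier factor, part 863. -/
def facCodePart863 : Janko1.Tree ℕ := (.node (.node (.node (.node (.node (.node (.leaf 0) (.leaf 0)) (.node (.leaf 0) (.leaf 0))) (.node (.node (.leaf 0) (.leaf 0)) (.node (.leaf 0) (.leaf 0)))) (.node (.node (.node (.leaf 0) (.leaf 0)) (.node (.leaf 0) (.leaf 0))) (.node (.node (.leaf 0) (.leaf 0)) (.node (.leaf 0) (.leaf 0))))) (.node (.node (.node (.node (.leaf 0) (.leaf 0)) (.node (.leaf 0) (.leaf 0))) (.node (.node (.leaf 0) (.leaf 0)) (.node (.leaf 0) (.leaf 0)))) (.node (.node (.node (.leaf 0) (.leaf 0)) (.node (.leaf 0) (.leaf 0))) (.node (.node (.leaf 0) (.leaf 0)) (.node (.leaf 0) (.leaf 0)))))) (.node (.node (.node (.node (.node (.leaf 0) (.leaf 0)) (.node (.leaf 0) (.leaf 0))) (.node (.node (.leaf 0) (.leaf 0)) (.node (.leaf 0) (.leaf 0)))) (.node (.node (.node (.leaf 0) (.leaf 0)) (.node (.leaf 0) (.leaf 0))) (.node (.node (.leaf 0) (.leaf 0)) (.node (.leaf 0) (.leaf 0))))) (.node (.node (.node (.node (.leaf 0) (.leaf 0)) (.node (.leaf 0) (.leaf 0))) (.node (.node (.leaf 0) (.leaf 0)) (.node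 (.leaf 0) (.leaf 0)))) (.node (.node (.node (.leaf 0) (.leaf 0)) (.node (.leaf 0) (.leaf 0))) (.node (.node (.leaf 0) (.leaf 0)) (.node (.leaf 0) (.leaf 0)))))))

/-- A Schreier factor, part 864. -/
def facCodePart864 : Janko1.Tree ℕ := (.node (.node (.node (.node (.node (.node (.leaf 0) (.leaf 0)) (.node (.leaf 0) (.leaf 0))) (.node (.node (.leaf 0) (.leaf 0)) (.node (.leaf 0) (.leaf 0)))) (.node (.node (.node (.leaf 0) (.leaf 0)) (.node (.leaf 0) (.leaf 0))) (.node (.node (.leaf 0) (.leaf 0)) (.node (.leaf 0) (.leaf 0))))) (.node (.node (.node (.node (.leaf 0) (.leaf 0)) (.node (.leaf 0) (.leaf 0))) (.node (.node (.leaf 0) (.leaf 0)) (.node (.leaf 0) (.leaf 0)))) (.node (.node (.node (.leaf 0) (.leaf 0)) (.node (.leaf 0) (.leaf 0))) (.node (.node (.leaf 0) (.leaf 0)) (.node (.leaf 0) (.leaf 0)))))) (.node (.node (.node (.node (.node (.leaf 0) (.leaf 0)) (.node (.leaf 0) (.leaf 0))) (.node (.node (.leaf 0) (.leaf 0)) (.node (.leaf 0) (.leaf 0)))) (.node (.node (.node (.leaf 0) (.leaf 0)) (.node (.leaf 0) (.leaf 0))) (.node (.node (.leaf 0)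 (.leaf 0)) (.node (.leaf 0) (.leaf 0))))) (.node (.node (.node (.node (.leaf 0) (.leaf 0)) (.node (.leaf 0) (.leaf 0))) (.node (.node (.leaf 0) (.leaf 0)) (.node (.leaf 0) (.leaf 0)))) (.node (.node (.node (.leaf 0) (.leaf 0)) (.node (.leaf 0) (.leaf 0))) (.node (.node (.leaf 0) (.leaf 0)) (.node (.leaf 0) (.leaf 0)))))))

/-- A Schreier factor, part 865. -/
def facCodePart865 : Janko1.Tree ℕ := (.node (.node (.node (.node (.node (.node (.leaf 0) (.leaf 0)) (.node (.leaf 0) (.leaf 0))) (.node (.node (.leaf 0) (.leaf 0)) (.node (.leaf 0) (.leaf 0)))) (.node (.node (.node (.leaf 0) (.leaf 0)) (.node (.leaf 0) (.leaf 0))) (.node (.node (.leaf 0) (.leaf 0)) (.node (.leaf 0) (.leaf 0))))) (.node (.node (.node (.node (.leaf 0) (.leaf 0)) (.node (.leaf 0) (.leaf 0))) (.node (.node (.leaf 0) (.leaf 0)) (.node (.leaf 0) (.leaf 0)))) (.node (.node (.node (.leaf 0) (.leaf 0)) (.node (.leaf 0) (.leaf 0))) (.node (.node (.leaf 0) (.leaf 0)) (.node (.leaf 0) (.leaf 0)))))) (.node (.node (.node (.node (.node (.leaf 0) (.leaf 0)) (.node (.leaf 0) (.leaf 0)))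 (.node (.node (.leaf 0) (.leaf 0)) (.node (.leaf 0) (.leaf 0)))) (.node (.node (.node (.leaf 0) (.leaf 0)) (.node (.leaf 0) (.leaf 0))) (.node (.node (.leaf 0) (.leaf 0)) (.node (.leaf 0) (.leaf 0))))) (.node (.node (.node (.node (.leaf 0) (.leaf 0)) (.node (.leaf 0) (.leaf 0))) (.node (.node (.leaf 0) (.leaf 0)) (.node (.leaf 0) (.leaf 0)))) (.node (.node (.node (.leaf 0) (.leaf 0)) (.node (.leaf 0) (.leaf 0))) (.node (.node (.leaf 0) (.leaf 0)) (.node (.leaf 0) (.leaf 0)))))))

/-- A Schreier factor, part 866. -/
def facCodePart866 : Janko1.Tree ℕ := (.node (.node (.node (.node (.node (.node (.leaf 0) (.leaf 0)) (.node (.leaf 0) (.leaf 0))) (.node (.node (.leaf 0) (.leaf 0)) (.node (.leaf 0) (.leaf 0)))) (.node (.node (.node (.leaf 0) (.leaf 0)) (.node (.leaf 0) (.leaf 0))) (.node (.node (.leaf 0) (.leaf 0)) (.node (.leaf 0) (.leaf 0))))) (.node (.node (.node (.node (.leaf 0) (.leaf 0)) (.node (.leaf 0) (.leaf 0))) (.node (.node (.leaf 0) (.leaf 0)) (.node (.leaf 0) (.leaf 0)))) (.node (.node (.node (.leaf 0) (.leaf 0)) (.node (.leaf 0) (.leaf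 0))) (.node (.node (.leaf 0) (.leaf 0)) (.node (.leaf 0) (.leaf 0)))))) (.node (.node (.node (.node (.node (.leaf 0) (.leaf 0)) (.node (.leaf 0) (.leaf 0))) (.node (.node (.leaf 0) (.leaf 0)) (.node (.leaf 0) (.leaf 0)))) (.node (.node (.node (.leaf 0) (.leaf 0)) (.node (.leaf 0) (.leaf 0))) (.node (.node (.leaf 0) (.leaf 0)) (.node (.leaf 0) (.leaf 0))))) (.node (.node (.node (.node (.leaf 0) (.leaf 0)) (.node (.leaf 0) (.leaf 0))) (.node (.node (.leaf 0) (.leaf 0)) (.node (.leaf 0) (.leaf 0)))) (.node (.node (.node (.leaf 0) (.leaf 0)) (.node (.leaf 0) (.leaf 0))) (.node (.node (.leaf 0) (.leaf 0)) (.node (.leaf 0) (.leaf 0)))))))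

/-- A Schreier factor, part 867. -/
def facCodePart867 : Janko1.Tree ℕ := (.node (.node (.node (.node (.node (.node (.leaf 0) (.leaf 0)) (.node (.leaf 0) (.leaf 0))) (.node (.node (.leaf 0) (.leaf 0)) (.node (.leaf 0) (.leaf 0)))) (.node (.node (.node (.leaf 0) (.leaf 0)) (.node (.leaf 0) (.leaf 0))) (.node (.node (.leaf 0) (.leaf 0)) (.node (.leaf 0) (.leaf 0))))) (.node (.node (.node (.node (.leaf 0) (.leaf 0)) (.node (.leaf 0) (.leaf 0))) (.node (.node (.leaf 0) (.leaf 0)) (.node (.leaf 0) (.leaf 0)))) (.node (.node (.node (.leaf 0) (.leaf 0)) (.node (.leaf 0) (.leaf 0))) (.node (.node (.leaf 0) (.leaf 0)) (.node (.leaf 0) (.leaf 0)))))) (.node (.node (.node (.node (.node (.leaf 0) (.leaf 0)) (.node (.leaf 0) (.leaf 0))) (.node (.node (.leaf 0) (.leaf 0)) (.node (.leaf 0) (.leaf 0)))) (.node (.node (.node (.leaf 0) (.leaf 0)) (.node (.leaf 0) (.leaf 0))) (.node (.node (.leaf 0) (.leaf 0)) (.node (.leaf 0) (.leaf 0))))) (.node (.node (.node (.node (.leaf 0) (.leaf 0)) (.node (.leaf 0) (.leaf 0))) (.node (.node (.leaf 0) (.leaf 0)) (.node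 (.leaf 0) (.leaf 0)))) (.node (.node (.node (.leaf 0) (.leaf 0)) (.node (.leaf 0) (.leaf 0))) (.node (.node (.leaf 0) (.leaf 0)) (.node (.leaf 0) (.leaf 0)))))))

/-- A Schreier factor, part 868. -/
def facCodePart868 : Janko1.Tree ℕ := (.node (.node (.node (.node (.node (.node (.leaf 0) (.leaf 0)) (.node (.leaf 0) (.leaf 0))) (.node (.node (.leaf 0) (.leaf 0)) (.node (.leaf 0) (.leaf 0)))) (.node (.node (.node (.leaf 0) (.leaf 0)) (.node (.leaf 0) (.leaf 0))) (.node (.node (.leaf 0) (.leaf 0)) (.node (.leaf 0) (.leaf 0))))) (.node (.node (.node (.node (.leaf 0) (.leaf 0)) (.node (.leaf 0) (.leaf 0))) (.node (.node (.leaf 0) (.leaf 0)) (.node (.leaf 0) (.leaf 0)))) (.node (.node (.node (.leaf 0) (.leaf 0)) (.node (.leaf 0) (.leaf 0))) (.node (.node (.leaf 0) (.leaf 0)) (.node (.leaf 0) (.leaf 0)))))) (.node (.node (.node (.node (.node (.leaf 0) (.leaf 0)) (.node (.leaf 0) (.leaf 0))) (.node (.node (.leaf 0) (.leaf 0)) (.node (.leaf 0) (.leaf 0)))) (.node (.node (.node (.leaf 0) (.leaf 0)) (.node (.leaf 0) (.leaf 0))) (.node (.node (.leaf 0)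 (.leaf 0)) (.node (.leaf 0) (.leaf 0))))) (.node (.node (.node (.node (.leaf 0) (.leaf 0)) (.node (.leaf 0) (.leaf 0))) (.node (.node (.leaf 0) (.leaf 0)) (.node (.leaf 0) (.leaf 0)))) (.node (.node (.node (.leaf 0) (.leaf 0)) (.node (.leaf 0) (.leaf 0))) (.node (.node (.leaf 0) (.leaf 0)) (.node (.leaf 0) (.leaf 0)))))))

/-- A Schreier factor, part 869. -/
def facCodePart869 : Janko1.Tree ℕ := (.node (.node (.node (.node (.node (.node (.leaf 0) (.leaf 0)) (.node (.leaf 0) (.leaf 0))) (.node (.node (.leaf 0) (.leaf 0)) (.node (.leaf 0) (.leaf 0)))) (.node (.node (.node (.leaf 0) (.leaf 0)) (.node (.leaf 0) (.leaf 0))) (.node (.node (.leaf 0) (.leaf 0)) (.node (.leaf 0) (.leaf 0))))) (.node (.node (.node (.node (.leaf 0) (.leaf 0)) (.node (.leaf 0) (.leaf 0))) (.node (.node (.leaf 0) (.leaf 0)) (.node (.leaf 0) (.leaf 0)))) (.node (.node (.node (.leaf 0) (.leaf 0)) (.node (.leaf 0) (.leaf 0))) (.node (.node (.leaf 0) (.leaf 0)) (.node (.leaf 0) (.leaf 0)))))) (.node (.node (.node (.node (.node (.leaf 0) (.leaf 0)) (.node (.leaf 0) (.leaf 0)))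 (.node (.node (.leaf 0) (.leaf 0)) (.node (.leaf 0) (.leaf 0)))) (.node (.node (.node (.leaf 0) (.leaf 0)) (.node (.leaf 0) (.leaf 0))) (.node (.node (.leaf 0) (.leaf 0)) (.node (.leaf 0) (.leaf 0))))) (.node (.node (.node (.node (.leaf 0) (.leaf 0)) (.node (.leaf 0) (.leaf 0))) (.node (.node (.leaf 0) (.leaf 0)) (.node (.leaf 0) (.leaf 0)))) (.node (.node (.node (.leaf 0) (.leaf 0)) (.node (.leaf 0) (.leaf 0))) (.node (.node (.leaf 0) (.leaf 0)) (.node (.leaf 0) (.leaf 0)))))))

/-- A Schreier factor, part 870. -/
def facCodePart870 : Janko1.Tree ℕ := (.node (.node (.node (.node (.node (.node (.leaf 0) (.leaf 0)) (.node (.leaf 0) (.leaf 0))) (.node (.node (.leaf 0) (.leaf 0)) (.node (.leaf 0) (.leaf 0)))) (.node (.node (.node (.leaf 0) (.leaf 0)) (.node (.leaf 0) (.leaf 0))) (.node (.node (.leaf 0) (.leaf 0)) (.node (.leaf 0) (.leaf 0))))) (.node (.node (.node (.node (.leaf 0) (.leaf 0)) (.node (.leaf 0) (.leaf 0))) (.node (.node (.leaf 0) (.leaf 0)) (.node (.leaf 0) (.leaf 0)))) (.node (.node (.node (.leaf 0) (.leaf 0)) (.node (.leaf 0) (.leaf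 0))) (.node (.node (.leaf 0) (.leaf 0)) (.node (.leaf 0) (.leaf 0)))))) (.node (.node (.node (.node (.node (.leaf 0) (.leaf 0)) (.node (.leaf 0) (.leaf 0))) (.node (.node (.leaf 0) (.leaf 0)) (.node (.leaf 0) (.leaf 0)))) (.node (.node (.node (.leaf 0) (.leaf 0)) (.node (.leaf 0) (.leaf 0))) (.node (.node (.leaf 0) (.leaf 0)) (.node (.leaf 0) (.leaf 0))))) (.node (.node (.node (.node (.leaf 0) (.leaf 0)) (.node (.leaf 0) (.leaf 0))) (.node (.node (.leaf 0) (.leaf 0)) (.node (.leaf 0) (.leaf 0)))) (.node (.node (.node (.leaf 0) (.leaf 0)) (.node (.leaf 0) (.leaf 0))) (.node (.node (.leaf 0) (.leaf 0)) (.node (.leaf 0) (.leaf 0)))))))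

/-- A Schreier factor, part 871. -/
def facCodePart871 : Janko1.Tree ℕ := (.node (.node (.node (.node (.node (.node (.leaf 0) (.leaf 0)) (.node (.leaf 0) (.leaf 0))) (.node (.node (.leaf 0) (.leaf 0)) (.node (.leaf 0) (.leaf 0)))) (.node (.node (.node (.leaf 0) (.leaf 0)) (.node (.leaf 0) (.leaf 0))) (.node (.node (.leaf 0) (.leaf 0)) (.node (.leaf 0) (.leaf 0))))) (.node (.node (.node (.node (.leaf 0) (.leaf 0)) (.node (.leaf 0) (.leaf 0))) (.node (.node (.leaf 0) (.leaf 0)) (.node (.leaf 0) (.leaf 0)))) (.node (.node (.node (.leaf 0) (.leaf 0)) (.node (.leaf 0) (.leaf 0))) (.node (.node (.leaf 0) (.leaf 0)) (.node (.leaf 0) (.leaf 0)))))) (.node (.node (.node (.node (.node (.leaf 0) (.leaf 0)) (.node (.leaf 0) (.leaf 0))) (.node (.node (.leaf 0) (.leaf 0)) (.node (.leaf 0) (.leaf 0)))) (.node (.node (.node (.leaf 0) (.leaf 0)) (.node (.leaf 0) (.leaf 0))) (.node (.node (.leaf 0) (.leaf 0)) (.node (.leaf 0) (.leaf 0))))) (.node (.node (.node (.node (.leaf 0) (.leaf 0)) (.node (.leaf 0) (.leaf 0))) (.node (.node (.leaf 0) (.leaf 0)) (.node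 (.leaf 0) (.leaf 0)))) (.node (.node (.node (.leaf 0) (.leaf 0)) (.node (.leaf 0) (.leaf 0))) (.node (.node (.leaf 0) (.leaf 0)) (.node (.leaf 0) (.leaf 0)))))))

/-- A Schreier factor, part 872. -/
def facCodePart872 : Janko1.Tree ℕ := (.node (.node (.node (.node (.node (.node (.leaf 0) (.leaf 0)) (.node (.leaf 0) (.leaf 0))) (.node (.node (.leaf 0) (.leaf 0)) (.node (.leaf 0) (.leaf 0)))) (.node (.node (.node (.leaf 0) (.leaf 0)) (.node (.leaf 0) (.leaf 0))) (.node (.node (.leaf 0) (.leaf 0)) (.node (.leaf 0) (.leaf 0))))) (.node (.node (.node (.node (.leaf 0) (.leaf 0)) (.node (.leaf 0) (.leaf 0))) (.node (.node (.leaf 0) (.leaf 0)) (.node (.leaf 0) (.leaf 0)))) (.node (.node (.node (.leaf 0) (.leaf 0)) (.node (.leaf 0) (.leaf 0))) (.node (.node (.leaf 0) (.leaf 0)) (.node (.leaf 0) (.leaf 0)))))) (.node (.node (.node (.node (.node (.leaf 0) (.leaf 0)) (.node (.leaf 0) (.leaf 0))) (.node (.node (.leaf 0) (.leaf 0)) (.node (.leaf 0) (.leaf 0)))) (.node (.node (.node (.leaf 0) (.leaf 0)) (.node (.leaf 0) (.leaf 0))) (.node (.node (.leaf 0)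 (.leaf 0)) (.node (.leaf 0) (.leaf 0))))) (.node (.node (.node (.node (.leaf 0) (.leaf 0)) (.node (.leaf 0) (.leaf 0))) (.node (.node (.leaf 0) (.leaf 0)) (.node (.leaf 0) (.leaf 0)))) (.node (.node (.node (.leaf 0) (.leaf 0)) (.node (.leaf 0) (.leaf 0))) (.node (.node (.leaf 0) (.leaf 0)) (.node (.leaf 0) (.leaf 0)))))))

/-- A Schreier factor, part 873. -/
def facCodePart873 : Janko1.Tree ℕ := (.node (.node (.node (.node (.node (.node (.leaf 0) (.leaf 0)) (.node (.leaf 0) (.leaf 0))) (.node (.node (.leaf 0) (.leaf 0)) (.node (.leaf 0) (.leaf 0)))) (.node (.node (.node (.leaf 0) (.leaf 0)) (.node (.leaf 0) (.leaf 0))) (.node (.node (.leaf 0) (.leaf 0)) (.node (.leaf 0) (.leaf 0))))) (.node (.node (.node (.node (.leaf 0) (.leaf 0)) (.node (.leaf 0) (.leaf 0))) (.node (.node (.leaf 0) (.leaf 0)) (.node (.leaf 0) (.leaf 0)))) (.node (.node (.node (.leaf 0) (.leaf 0)) (.node (.leaf 0) (.leaf 0))) (.node (.node (.leaf 0) (.leaf 0)) (.node (.leaf 0) (.leaf 0)))))) (.node (.node (.node (.node (.node (.leaf 0) (.leaf 0)) (.node (.leaf 0) (.leaf 0)))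 (.node (.node (.leaf 0) (.leaf 0)) (.node (.leaf 0) (.leaf 0)))) (.node (.node (.node (.leaf 0) (.leaf 0)) (.node (.leaf 0) (.leaf 0))) (.node (.node (.leaf 0) (.leaf 0)) (.node (.leaf 0) (.leaf 0))))) (.node (.node (.node (.node (.leaf 0) (.leaf 0)) (.node (.leaf 0) (.leaf 0))) (.node (.node (.leaf 0) (.leaf 0)) (.node (.leaf 0) (.leaf 0)))) (.node (.node (.node (.leaf 0) (.leaf 0)) (.node (.leaf 0) (.leaf 0))) (.node (.node (.leaf 0) (.leaf 0)) (.node (.leaf 0) (.leaf 0)))))))

/-- A Schreier factor, part 874. -/
def facCodePart874 : Janko1.Tree ℕ := (.node (.node (.node (.node (.node (.node (.leaf 0) (.leaf 0)) (.node (.leaf 0) (.leaf 0))) (.node (.node (.leaf 0) (.leaf 0)) (.node (.leaf 0) (.leaf 0)))) (.node (.node (.node (.leaf 0) (.leaf 0)) (.node (.leaf 0) (.leaf 0))) (.node (.node (.leaf 0) (.leaf 0)) (.node (.leaf 0) (.leaf 0))))) (.node (.node (.node (.node (.leaf 0) (.leaf 0)) (.node (.leaf 0) (.leaf 0))) (.node (.node (.leaf 0) (.leaf 0)) (.node (.leaf 0) (.leaf 0)))) (.node (.node (.node (.leaf 0) (.leaf 0)) (.node (.leaf 0) (.leaf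 0))) (.node (.node (.leaf 0) (.leaf 0)) (.node (.leaf 0) (.leaf 0)))))) (.node (.node (.node (.node (.node (.leaf 0) (.leaf 0)) (.node (.leaf 0) (.leaf 0))) (.node (.node (.leaf 0) (.leaf 0)) (.node (.leaf 0) (.leaf 0)))) (.node (.node (.node (.leaf 0) (.leaf 0)) (.node (.leaf 0) (.leaf 0))) (.node (.node (.leaf 0) (.leaf 0)) (.node (.leaf 0) (.leaf 0))))) (.node (.node (.node (.node (.leaf 0) (.leaf 0)) (.node (.leaf 0) (.leaf 0))) (.node (.node (.leaf 0) (.leaf 0)) (.node (.leaf 0) (.leaf 0)))) (.node (.node (.node (.leaf 0) (.leaf 0)) (.node (.leaf 0) (.leaf 0))) (.node (.node (.leaf 0) (.leaf 0)) (.node (.leaf 0) (.leaf 0)))))))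

/-- A Schreier factor, part 875. -/
def facCodePart875 : Janko1.Tree ℕ := (.node (.node (.node (.node (.node (.node (.leaf 0) (.leaf 0)) (.node (.leaf 0) (.leaf 0))) (.node (.node (.leaf 0) (.leaf 0)) (.node (.leaf 0) (.leaf 0)))) (.node (.node (.node (.leaf 0) (.leaf 0)) (.node (.leaf 0) (.leaf 0))) (.node (.node (.leaf 0) (.leaf 0)) (.node (.leaf 0) (.leaf 0))))) (.node (.node (.node (.node (.leaf 0) (.leaf 0)) (.node (.leaf 0) (.leaf 0))) (.node (.node (.leaf 0) (.leaf 0)) (.node (.leaf 0) (.leaf 0)))) (.node (.node (.node (.leaf 0) (.leaf 0)) (.node (.leaf 0) (.leaf 0))) (.node (.node (.leaf 0) (.leaf 0)) (.node (.leaf 0) (.leaf 0)))))) (.node (.node (.node (.node (.node (.leaf 0) (.leaf 0)) (.node (.leaf 0) (.leaf 0))) (.node (.node (.leaf 0) (.leaf 0)) (.node (.leaf 0) (.leaf 0)))) (.node (.node (.node (.leaf 0) (.leaf 0)) (.node (.leaf 0) (.leaf 0))) (.node (.node (.leaf 0) (.leaf 0)) (.node (.leaf 0) (.leaf 0))))) (.node (.node (.node (.node (.leaf 0) (.leaf 0)) (.node (.leaf 0) (.leaf 0))) (.node (.node (.leaf 0) (.leaf 0)) (.node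 (.leaf 0) (.leaf 0)))) (.node (.node (.node (.leaf 0) (.leaf 0)) (.node (.leaf 0) (.leaf 0))) (.node (.node (.leaf 0) (.leaf 0)) (.node (.leaf 0) (.leaf 0)))))))

/-- A Schreier factor, part 876. -/
def facCodePart876 : Janko1.Tree ℕ := (.node (.node (.node (.node (.node (.node (.leaf 0) (.leaf 0)) (.node (.leaf 0) (.leaf 0))) (.node (.node (.leaf 0) (.leaf 0)) (.node (.leaf 0) (.leaf 0)))) (.node (.node (.node (.leaf 0) (.leaf 0)) (.node (.leaf 0) (.leaf 0))) (.node (.node (.leaf 0) (.leaf 0)) (.node (.leaf 0) (.leaf 0))))) (.node (.node (.node (.node (.leaf 0) (.leaf 0)) (.node (.leaf 0) (.leaf 0))) (.node (.node (.leaf 0) (.leaf 0)) (.node (.leaf 0) (.leaf 0)))) (.node (.node (.node (.leaf 0) (.leaf 0)) (.node (.leaf 0) (.leaf 0))) (.node (.node (.leaf 0) (.leaf 0)) (.node (.leaf 0) (.leaf 0)))))) (.node (.node (.node (.node (.node (.leaf 0) (.leaf 0)) (.node (.leaf 0) (.leaf 0))) (.node (.node (.leaf 0) (.leaf 0)) (.node (.leaf 0) (.leaf 0)))) (.node (.node (.node (.leaf 0) (.leaf 0)) (.node (.leaf 0) (.leaf 0))) (.node (.node (.leaf 0)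 (.leaf 0)) (.node (.leaf 0) (.leaf 0))))) (.node (.node (.node (.node (.leaf 0) (.leaf 0)) (.node (.leaf 0) (.leaf 0))) (.node (.node (.leaf 0) (.leaf 0)) (.node (.leaf 0) (.leaf 0)))) (.node (.node (.node (.leaf 0) (.leaf 0)) (.node (.leaf 0) (.leaf 0))) (.node (.node (.leaf 0) (.leaf 0)) (.node (.leaf 0) (.leaf 0)))))))

/-- A Schreier factor, part 877. -/
def facCodePart877 : Janko1.Tree ℕ := (.node (.node (.node (.node (.node (.node (.leaf 0) (.leaf 0)) (.node (.leaf 0) (.leaf 0))) (.node (.node (.leaf 0) (.leaf 0)) (.node (.leaf 0) (.leaf 0)))) (.node (.node (.node (.leaf 0) (.leaf 0)) (.node (.leaf 0) (.leaf 0))) (.node (.node (.leaf 0) (.leaf 0)) (.node (.leaf 0) (.leaf 0))))) (.node (.node (.node (.node (.leaf 0) (.leaf 0)) (.node (.leaf 0) (.leaf 0))) (.node (.node (.leaf 0) (.leaf 0)) (.node (.leaf 0) (.leaf 0)))) (.node (.node (.node (.leaf 0) (.leaf 0)) (.node (.leaf 0) (.leaf 0))) (.node (.node (.leaf 0) (.leaf 0)) (.node (.leaf 0) (.leaf 0)))))) (.node (.node (.node (.node (.node (.leaf 0) (.leaf 0)) (.node (.leaf 0) (.leaf 0)))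 (.node (.node (.leaf 0) (.leaf 0)) (.node (.leaf 0) (.leaf 0)))) (.node (.node (.node (.leaf 0) (.leaf 0)) (.node (.leaf 0) (.leaf 0))) (.node (.node (.leaf 0) (.leaf 0)) (.node (.leaf 0) (.leaf 0))))) (.node (.node (.node (.node (.leaf 0) (.leaf 0)) (.node (.leaf 0) (.leaf 0))) (.node (.node (.leaf 0) (.leaf 0)) (.node (.leaf 0) (.leaf 0)))) (.node (.node (.node (.leaf 0) (.leaf 0)) (.node (.leaf 0) (.leaf 0))) (.node (.node (.leaf 0) (.leaf 0)) (.node (.leaf 0) (.leaf 0)))))))

/-- A Schreier factor, part 878. -/
def facCodePart878 : Janko1.Tree ℕ := (.node (.node (.node (.node (.node (.node (.leaf 0) (.leaf 0)) (.node (.leaf 0) (.leaf 0))) (.node (.node (.leaf 0) (.leaf 0)) (.node (.leaf 0) (.leaf 0)))) (.node (.node (.node (.leaf 0) (.leaf 0)) (.node (.leaf 0) (.leaf 0))) (.node (.node (.leaf 0) (.leaf 0)) (.node (.leaf 0) (.leaf 0))))) (.node (.node (.node (.node (.leaf 0) (.leaf 0)) (.node (.leaf 0) (.leaf 0))) (.node (.node (.leaf 0) (.leaf 0)) (.node (.leaf 0) (.leaf 0)))) (.node (.node (.node (.leaf 0) (.leaf 0)) (.node (.leaf 0) (.leaf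 0))) (.node (.node (.leaf 0) (.leaf 0)) (.node (.leaf 0) (.leaf 0)))))) (.node (.node (.node (.node (.node (.leaf 0) (.leaf 0)) (.node (.leaf 0) (.leaf 0))) (.node (.node (.leaf 0) (.leaf 0)) (.node (.leaf 0) (.leaf 0)))) (.node (.node (.node (.leaf 0) (.leaf 0)) (.node (.leaf 0) (.leaf 0))) (.node (.node (.leaf 0) (.leaf 0)) (.node (.leaf 0) (.leaf 0))))) (.node (.node (.node (.node (.leaf 0) (.leaf 0)) (.node (.leaf 0) (.leaf 0))) (.node (.node (.leaf 0) (.leaf 0)) (.node (.leaf 0) (.leaf 0)))) (.node (.node (.node (.leaf 0) (.leaf 0)) (.node (.leaf 0) (.leaf 0))) (.node (.node (.leaf 0) (.leaf 0)) (.node (.leaf 0) (.leaf 0)))))))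

/-- A Schreier factor, part 879. -/
def facCodePart879 : Janko1.Tree ℕ := (.node (.node (.node (.node (.node (.node (.leaf 0) (.leaf 0)) (.node (.leaf 0) (.leaf 0))) (.node (.node (.leaf 0) (.leaf 0)) (.node (.leaf 0) (.leaf 0)))) (.node (.node (.node (.leaf 0) (.leaf 0)) (.node (.leaf 0) (.leaf 0))) (.node (.node (.leaf 0) (.leaf 0)) (.node (.leaf 0) (.leaf 0))))) (.node (.node (.node (.node (.leaf 0) (.leaf 0)) (.node (.leaf 0) (.leaf 0))) (.node (.node (.leaf 0) (.leaf 0)) (.node (.leaf 0) (.leaf 0)))) (.node (.node (.node (.leaf 0) (.leaf 0)) (.node (.leaf 0) (.leaf 0))) (.node (.node (.leaf 0) (.leaf 0)) (.node (.leaf 0) (.leaf 0)))))) (.node (.node (.node (.node (.node (.leaf 0) (.leaf 0)) (.node (.leaf 0) (.leaf 0))) (.node (.node (.leaf 0) (.leaf 0)) (.node (.leaf 0) (.leaf 0)))) (.node (.node (.node (.leaf 0) (.leaf 0)) (.node (.leaf 0) (.leaf 0))) (.node (.node (.leaf 0) (.leaf 0)) (.node (.leaf 0) (.leaf 0))))) (.node (.node (.node (.node (.leaf 0) (.leaf 0)) (.node (.leaf 0) (.leaf 0))) (.node (.node (.leaf 0) (.leaf 0)) (.node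 (.leaf 0) (.leaf 0)))) (.node (.node (.node (.leaf 0) (.leaf 0)) (.node (.leaf 0) (.leaf 0))) (.node (.node (.leaf 0) (.leaf 0)) (.node (.leaf 0) (.leaf 0)))))))

/-- A Schreier factor, part 880. -/
def facCodePart880 : Janko1.Tree ℕ := (.node (.node (.node (.node (.node (.node (.leaf 0) (.leaf 0)) (.node (.leaf 0) (.leaf 0))) (.node (.node (.leaf 0) (.leaf 0)) (.node (.leaf 0) (.leaf 0)))) (.node (.node (.node (.leaf 0) (.leaf 0)) (.node (.leaf 0) (.leaf 0))) (.node (.node (.leaf 0) (.leaf 0)) (.node (.leaf 0) (.leaf 0))))) (.node (.node (.node (.node (.leaf 0) (.leaf 0)) (.node (.leaf 0) (.leaf 0))) (.node (.node (.leaf 0) (.leaf 0)) (.node (.leaf 0) (.leaf 0)))) (.node (.node (.node (.leaf 0) (.leaf 0)) (.node (.leaf 0) (.leaf 0))) (.node (.node (.leaf 0) (.leaf 0)) (.node (.leaf 0) (.leaf 0)))))) (.node (.node (.node (.node (.node (.leaf 0) (.leaf 0)) (.node (.leaf 0) (.leaf 0))) (.node (.node (.leaf 0) (.leaf 0)) (.node (.leaf 0) (.leaf 0)))) (.node (.node (.node (.leaf 0) (.leaf 0)) (.node (.leaf 0) (.leaf 0))) (.node (.node (.leaf 0)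 (.leaf 0)) (.node (.leaf 0) (.leaf 0))))) (.node (.node (.node (.node (.leaf 0) (.leaf 0)) (.node (.leaf 0) (.leaf 0))) (.node (.node (.leaf 0) (.leaf 0)) (.node (.leaf 0) (.leaf 0)))) (.node (.node (.node (.leaf 0) (.leaf 0)) (.node (.leaf 0) (.leaf 0))) (.node (.node (.leaf 0) (.leaf 0)) (.node (.leaf 0) (.leaf 0)))))))

/-- A Schreier factor, part 881. -/
def facCodePart881 : Janko1.Tree ℕ := (.node (.node (.node (.node (.node (.node (.leaf 0) (.leaf 0)) (.node (.leaf 0) (.leaf 0))) (.node (.node (.leaf 0) (.leaf 0)) (.node (.leaf 0) (.leaf 0)))) (.node (.node (.node (.leaf 0) (.leaf 0)) (.node (.leaf 0) (.leaf 0))) (.node (.node (.leaf 0) (.leaf 0)) (.node (.leaf 0) (.leaf 0))))) (.node (.node (.node (.node (.leaf 0) (.leaf 0)) (.node (.leaf 0) (.leaf 0))) (.node (.node (.leaf 0) (.leaf 0)) (.node (.leaf 0) (.leaf 0)))) (.node (.node (.node (.leaf 0) (.leaf 0)) (.node (.leaf 0) (.leaf 0))) (.node (.node (.leaf 0) (.leaf 0)) (.node (.leaf 0) (.leaf 0)))))) (.node (.node (.node (.node (.node (.leaf 0) (.leaf 0)) (.node (.leaf 0) (.leaf 0)))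 (.node (.node (.leaf 0) (.leaf 0)) (.node (.leaf 0) (.leaf 0)))) (.node (.node (.node (.leaf 0) (.leaf 0)) (.node (.leaf 0) (.leaf 0))) (.node (.node (.leaf 0) (.leaf 0)) (.node (.leaf 0) (.leaf 0))))) (.node (.node (.node (.node (.leaf 0) (.leaf 0)) (.node (.leaf 0) (.leaf 0))) (.node (.node (.leaf 0) (.leaf 0)) (.node (.leaf 0) (.leaf 0)))) (.node (.node (.node (.leaf 0) (.leaf 0)) (.node (.leaf 0) (.leaf 0))) (.node (.node (.leaf 0) (.leaf 0)) (.node (.leaf 0) (.leaf 0)))))))

/-- A Schreier factor, part 882. -/
def facCodePart882 : Janko1.Tree ℕ := (.node (.node (.node (.node (.node (.node (.leaf 0) (.leaf 0)) (.node (.leaf 0) (.leaf 0))) (.node (.node (.leaf 0) (.leaf 0)) (.node (.leaf 0) (.leaf 0)))) (.node (.node (.node (.leaf 0) (.leaf 0)) (.node (.leaf 0) (.leaf 0))) (.node (.node (.leaf 0) (.leaf 0)) (.node (.leaf 0) (.leaf 0))))) (.node (.node (.node (.node (.leaf 0) (.leaf 0)) (.node (.leaf 0) (.leaf 0))) (.node (.node (.leaf 0) (.leaf 0)) (.node (.leaf 0) (.leaf 0)))) (.node (.node (.node (.leaf 0) (.leaf 0)) (.node (.leaf 0) (.leaf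 0))) (.node (.node (.leaf 0) (.leaf 0)) (.node (.leaf 0) (.leaf 0)))))) (.node (.node (.node (.node (.node (.leaf 0) (.leaf 0)) (.node (.leaf 0) (.leaf 0))) (.node (.node (.leaf 0) (.leaf 0)) (.node (.leaf 0) (.leaf 0)))) (.node (.node (.node (.leaf 0) (.leaf 0)) (.node (.leaf 0) (.leaf 0))) (.node (.node (.leaf 0) (.leaf 0)) (.node (.leaf 0) (.leaf 0))))) (.node (.node (.node (.node (.leaf 0) (.leaf 0)) (.node (.leaf 0) (.leaf 0))) (.node (.node (.leaf 0) (.leaf 0)) (.node (.leaf 0) (.leaf 0)))) (.node (.node (.node (.leaf 0) (.leaf 0)) (.node (.leaf 0) (.leaf 0))) (.node (.node (.leaf 0) (.leaf 0)) (.node (.leaf 0) (.leaf 0)))))))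

/-- A Schreier factor, part 883. -/
def facCodePart883 : Janko1.Tree ℕ := (.node (.node (.node (.node (.node (.node (.leaf 0) (.leaf 0)) (.node (.leaf 0) (.leaf 0))) (.node (.node (.leaf 0) (.leaf 0)) (.node (.leaf 0) (.leaf 0)))) (.node (.node (.node (.leaf 0) (.leaf 0)) (.node (.leaf 0) (.leaf 0))) (.node (.node (.leaf 0) (.leaf 0)) (.node (.leaf 0) (.leaf 0))))) (.node (.node (.node (.node (.leaf 0) (.leaf 0)) (.node (.leaf 0) (.leaf 0))) (.node (.node (.leaf 0) (.leaf 0)) (.node (.leaf 0) (.leaf 0)))) (.node (.node (.node (.leaf 0) (.leaf 0)) (.node (.leaf 0) (.leaf 0))) (.node (.node (.leaf 0) (.leaf 0)) (.node (.leaf 0) (.leaf 0)))))) (.node (.node (.node (.node (.node (.leaf 0) (.leaf 0)) (.node (.leaf 0) (.leaf 0))) (.node (.node (.leaf 0) (.leaf 0)) (.node (.leaf 0) (.leaf 0)))) (.node (.node (.node (.leaf 0) (.leaf 0)) (.node (.leaf 0) (.leaf 0))) (.node (.node (.leaf 0) (.leaf 0)) (.node (.leaf 0) (.leaf 0))))) (.node (.node (.node (.node (.leaf 0) (.leaf 0)) (.node (.leaf 0) (.leaf 0))) (.node (.node (.leaf 0) (.leaf 0)) (.node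 (.leaf 0) (.leaf 0)))) (.node (.node (.node (.leaf 0) (.leaf 0)) (.node (.leaf 0) (.leaf 0))) (.node (.node (.leaf 0) (.leaf 0)) (.node (.leaf 0) (.leaf 0)))))))

/-- A Schreier factor, part 884. -/
def facCodePart884 : Janko1.Tree ℕ := (.node (.node (.node (.node (.node (.node (.leaf 0) (.leaf 0)) (.node (.leaf 0) (.leaf 0))) (.node (.node (.leaf 0) (.leaf 0)) (.node (.leaf 0) (.leaf 0)))) (.node (.node (.node (.leaf 0) (.leaf 0)) (.node (.leaf 0) (.leaf 0))) (.node (.node (.leaf 0) (.leaf 0)) (.node (.leaf 0) (.leaf 0))))) (.node (.node (.node (.node (.leaf 0) (.leaf 0)) (.node (.leaf 0) (.leaf 0))) (.node (.node (.leaf 0) (.leaf 0)) (.node (.leaf 0) (.leaf 0)))) (.node (.node (.node (.leaf 0) (.leaf 0)) (.node (.leaf 0) (.leaf 0))) (.node (.node (.leaf 0) (.leaf 0)) (.node (.leaf 0) (.leaf 0)))))) (.node (.node (.node (.node (.node (.leaf 0) (.leaf 0)) (.node (.leaf 0) (.leaf 0))) (.node (.node (.leaf 0) (.leaf 0)) (.node (.leaf 0) (.leaf 0)))) (.node (.node (.node (.leaf 0) (.leaf 0)) (.node (.leaf 0) (.leaf 0))) (.node (.node (.leaf 0)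 (.leaf 0)) (.node (.leaf 0) (.leaf 0))))) (.node (.node (.node (.node (.leaf 0) (.leaf 0)) (.node (.leaf 0) (.leaf 0))) (.node (.node (.leaf 0) (.leaf 0)) (.node (.leaf 0) (.leaf 0)))) (.node (.node (.node (.leaf 0) (.leaf 0)) (.node (.leaf 0) (.leaf 0))) (.node (.node (.leaf 0) (.leaf 0)) (.node (.leaf 0) (.leaf 0)))))))

/-- A Schreier factor, part 885. -/
def facCodePart885 : Janko1.Tree ℕ := (.node (.node (.node (.node (.node (.node (.leaf 0) (.leaf 0)) (.node (.leaf 0) (.leaf 0))) (.node (.node (.leaf 0) (.leaf 0)) (.node (.leaf 0) (.leaf 0)))) (.node (.node (.node (.leaf 0) (.leaf 0)) (.node (.leaf 0) (.leaf 0))) (.node (.node (.leaf 0) (.leaf 0)) (.node (.leaf 0) (.leaf 0))))) (.node (.node (.node (.node (.leaf 0) (.leaf 0)) (.node (.leaf 0) (.leaf 0))) (.node (.node (.leaf 0) (.leaf 0)) (.node (.leaf 0) (.leaf 0)))) (.node (.node (.node (.leaf 0) (.leaf 0)) (.node (.leaf 0) (.leaf 0))) (.node (.node (.leaf 0) (.leaf 0)) (.node (.leaf 0) (.leaf 0)))))) (.node (.node (.node (.node (.node (.leaf 0) (.leaf 0)) (.node (.leaf 0) (.leaf 0)))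 (.node (.node (.leaf 0) (.leaf 0)) (.node (.leaf 0) (.leaf 0)))) (.node (.node (.node (.leaf 0) (.leaf 0)) (.node (.leaf 0) (.leaf 0))) (.node (.node (.leaf 0) (.leaf 0)) (.node (.leaf 0) (.leaf 0))))) (.node (.node (.node (.node (.leaf 0) (.leaf 0)) (.node (.leaf 0) (.leaf 0))) (.node (.node (.leaf 0) (.leaf 0)) (.node (.leaf 0) (.leaf 0)))) (.node (.node (.node (.leaf 0) (.leaf 0)) (.node (.leaf 0) (.leaf 0))) (.node (.node (.leaf 0) (.leaf 0)) (.node (.leaf 0) (.leaf 0)))))))

/-- A Schreier factor, part 886. -/
def facCodePart886 : Janko1.Tree ℕ := (.node (.node (.node (.node (.node (.node (.leaf 0) (.leaf 0)) (.node (.leaf 0) (.leaf 0))) (.node (.node (.leaf 0) (.leaf 0)) (.node (.leaf 0) (.leaf 0)))) (.node (.node (.node (.leaf 0) (.leaf 0)) (.node (.leaf 0) (.leaf 0))) (.node (.node (.leaf 0) (.leaf 0)) (.node (.leaf 0) (.leaf 0))))) (.node (.node (.node (.node (.leaf 0) (.leaf 0)) (.node (.leaf 0) (.leaf 0))) (.node (.node (.leaf 0) (.leaf 0)) (.node (.leaf 0) (.leaf 0)))) (.node (.node (.node (.leaf 0) (.leaf 0)) (.node (.leaf 0) (.leaf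 0))) (.node (.node (.leaf 0) (.leaf 0)) (.node (.leaf 0) (.leaf 0)))))) (.node (.node (.node (.node (.node (.leaf 0) (.leaf 0)) (.node (.leaf 0) (.leaf 0))) (.node (.node (.leaf 0) (.leaf 0)) (.node (.leaf 0) (.leaf 0)))) (.node (.node (.node (.leaf 0) (.leaf 0)) (.node (.leaf 0) (.leaf 0))) (.node (.node (.leaf 0) (.leaf 0)) (.node (.leaf 0) (.leaf 0))))) (.node (.node (.node (.node (.leaf 0) (.leaf 0)) (.node (.leaf 0) (.leaf 0))) (.node (.node (.leaf 0) (.leaf 0)) (.node (.leaf 0) (.leaf 0)))) (.node (.node (.node (.leaf 0) (.leaf 0)) (.node (.leaf 0) (.leaf 0))) (.node (.node (.leaf 0) (.leaf 0)) (.node (.leaf 0) (.leaf 0)))))))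

/-- A Schreier factor, part 887. -/
def facCodePart887 : Janko1.Tree ℕ := (.node (.node (.node (.node (.node (.node (.leaf 0) (.leaf 0)) (.node (.leaf 0) (.leaf 0))) (.node (.node (.leaf 0) (.leaf 0)) (.node (.leaf 0) (.leaf 0)))) (.node (.node (.node (.leaf 0) (.leaf 0)) (.node (.leaf 0) (.leaf 0))) (.node (.node (.leaf 0) (.leaf 0)) (.node (.leaf 0) (.leaf 0))))) (.node (.node (.node (.node (.leaf 0) (.leaf 0)) (.node (.leaf 0) (.leaf 0))) (.node (.node (.leaf 0) (.leaf 0)) (.node (.leaf 0) (.leaf 0)))) (.node (.node (.node (.leaf 0) (.leaf 0)) (.node (.leaf 0) (.leaf 0))) (.node (.node (.leaf 0) (.leaf 0)) (.node (.leaf 0) (.leaf 0)))))) (.node (.node (.node (.node (.node (.leaf 0) (.leaf 0)) (.node (.leaf 0) (.leaf 0))) (.node (.node (.leaf 0) (.leaf 0)) (.node (.leaf 0) (.leaf 0)))) (.node (.node (.node (.leaf 0) (.leaf 0)) (.node (.leaf 0) (.leaf 0))) (.node (.node (.leaf 0) (.leaf 0)) (.node (.leaf 0) (.leaf 0))))) (.node (.node (.node (.node (.leaf 0) (.leaf 0)) (.node (.leaf 0) (.leaf 0))) (.node (.node (.leaf 0) (.leaf 0)) (.node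 (.leaf 0) (.leaf 0)))) (.node (.node (.node (.leaf 0) (.leaf 0)) (.node (.leaf 0) (.leaf 0))) (.node (.node (.leaf 0) (.leaf 0)) (.node (.leaf 0) (.leaf 0)))))))

/-- A Schreier factor, part 888. -/
def facCodePart888 : Janko1.Tree ℕ := (.node (.node (.node (.node (.node (.node (.leaf 0) (.leaf 0)) (.node (.leaf 0) (.leaf 0))) (.node (.node (.leaf 0) (.leaf 0)) (.node (.leaf 0) (.leaf 0)))) (.node (.node (.node (.leaf 0) (.leaf 0)) (.node (.leaf 0) (.leaf 0))) (.node (.node (.leaf 0) (.leaf 0)) (.node (.leaf 0) (.leaf 0))))) (.node (.node (.node (.node (.leaf 0) (.leaf 0)) (.node (.leaf 0) (.leaf 0))) (.node (.node (.leaf 0) (.leaf 0)) (.node (.leaf 0) (.leaf 0)))) (.node (.node (.node (.leaf 0) (.leaf 0)) (.node (.leaf 0) (.leaf 0))) (.node (.node (.leaf 0) (.leaf 0)) (.node (.leaf 0) (.leaf 0)))))) (.node (.node (.node (.node (.node (.leaf 0) (.leaf 0)) (.node (.leaf 0) (.leaf 0))) (.node (.node (.leaf 0) (.leaf 0)) (.node (.leaf 0) (.leaf 0)))) (.node (.node (.node (.leaf 0) (.leaf 0)) (.node (.leaf 0) (.leaf 0))) (.node (.node (.leaf 0)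 (.leaf 0)) (.node (.leaf 0) (.leaf 0))))) (.node (.node (.node (.node (.leaf 0) (.leaf 0)) (.node (.leaf 0) (.leaf 0))) (.node (.node (.leaf 0) (.leaf 0)) (.node (.leaf 0) (.leaf 0)))) (.node (.node (.node (.leaf 0) (.leaf 0)) (.node (.leaf 0) (.leaf 0))) (.node (.node (.leaf 0) (.leaf 0)) (.node (.leaf 0) (.leaf 0)))))))

/-- A Schreier factor, part 889. -/
def facCodePart889 : Janko1.Tree ℕ := (.node (.node (.node (.node (.node (.node (.leaf 0) (.leaf 0)) (.node (.leaf 0) (.leaf 0))) (.node (.node (.leaf 0) (.leaf 0)) (.node (.leaf 0) (.leaf 0)))) (.node (.node (.node (.leaf 0) (.leaf 0)) (.node (.leaf 0) (.leaf 0))) (.node (.node (.leaf 0) (.leaf 0)) (.node (.leaf 0) (.leaf 0))))) (.node (.node (.node (.node (.leaf 0) (.leaf 0)) (.node (.leaf 0) (.leaf 0))) (.node (.node (.leaf 0) (.leaf 0)) (.node (.leaf 0) (.leaf 0)))) (.node (.node (.node (.leaf 0) (.leaf 0)) (.node (.leaf 0) (.leaf 0))) (.node (.node (.leaf 0) (.leaf 0)) (.node (.leaf 0) (.leaf 0)))))) (.node (.node (.node (.node (.node (.leaf 0) (.leaf 0)) (.node (.leaf 0) (.leaf 0)))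 (.node (.node (.leaf 0) (.leaf 0)) (.node (.leaf 0) (.leaf 0)))) (.node (.node (.node (.leaf 0) (.leaf 0)) (.node (.leaf 0) (.leaf 0))) (.node (.node (.leaf 0) (.leaf 0)) (.node (.leaf 0) (.leaf 0))))) (.node (.node (.node (.node (.leaf 0) (.leaf 0)) (.node (.leaf 0) (.leaf 0))) (.node (.node (.leaf 0) (.leaf 0)) (.node (.leaf 0) (.leaf 0)))) (.node (.node (.node (.leaf 0) (.leaf 0)) (.node (.leaf 0) (.leaf 0))) (.node (.node (.leaf 0) (.leaf 0)) (.node (.leaf 0) (.leaf 0)))))))

/-- A Schreier factor, part 890. -/
def facCodePart890 : Janko1.Tree ℕ := (.node (.node (.node (.node (.node (.node (.leaf 0) (.leaf 0)) (.node (.leaf 0) (.leaf 0))) (.node (.node (.leaf 0) (.leaf 0)) (.node (.leaf 0) (.leaf 0)))) (.node (.node (.node (.leaf 0) (.leaf 0)) (.node (.leaf 0) (.leaf 0))) (.node (.node (.leaf 0) (.leaf 0)) (.node (.leaf 0) (.leaf 0))))) (.node (.node (.node (.node (.leaf 0) (.leaf 0)) (.node (.leaf 0) (.leaf 0))) (.node (.node (.leaf 0) (.leaf 0)) (.node (.leaf 0) (.leaf 0)))) (.node (.node (.node (.leaf 0) (.leaf 0)) (.node (.leaf 0) (.leaf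 0))) (.node (.node (.leaf 0) (.leaf 0)) (.node (.leaf 0) (.leaf 0)))))) (.node (.node (.node (.node (.node (.leaf 0) (.leaf 0)) (.node (.leaf 0) (.leaf 0))) (.node (.node (.leaf 0) (.leaf 0)) (.node (.leaf 0) (.leaf 0)))) (.node (.node (.node (.leaf 0) (.leaf 0)) (.node (.leaf 0) (.leaf 0))) (.node (.node (.leaf 0) (.leaf 0)) (.node (.leaf 0) (.leaf 0))))) (.node (.node (.node (.node (.leaf 0) (.leaf 0)) (.node (.leaf 0) (.leaf 0))) (.node (.node (.leaf 0) (.leaf 0)) (.node (.leaf 0) (.leaf 0)))) (.node (.node (.node (.leaf 0) (.leaf 0)) (.node (.leaf 0) (.leaf 0))) (.node (.node (.leaf 0) (.leaf 0)) (.node (.leaf 0) (.leaf 0)))))))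

/-- A Schreier factor, part 891. -/
def facCodePart891 : Janko1.Tree ℕ := (.node (.node (.node (.node (.node (.node (.leaf 0) (.leaf 0)) (.node (.leaf 0) (.leaf 0))) (.node (.node (.leaf 0) (.leaf 0)) (.node (.leaf 0) (.leaf 0)))) (.node (.node (.node (.leaf 0) (.leaf 0)) (.node (.leaf 0) (.leaf 0))) (.node (.node (.leaf 0) (.leaf 0)) (.node (.leaf 0) (.leaf 0))))) (.node (.node (.node (.node (.leaf 0) (.leaf 0)) (.node (.leaf 0) (.leaf 0))) (.node (.node (.leaf 0) (.leaf 0)) (.node (.leaf 0) (.leaf 0)))) (.node (.node (.node (.leaf 0) (.leaf 0)) (.node (.leaf 0) (.leaf 0))) (.node (.node (.leaf 0) (.leaf 0)) (.node (.leaf 0) (.leaf 0)))))) (.node (.node (.node (.node (.node (.leaf 0) (.leaf 0)) (.node (.leaf 0) (.leaf 0))) (.node (.node (.leaf 0) (.leaf 0)) (.node (.leaf 0) (.leaf 0)))) (.node (.node (.node (.leaf 0) (.leaf 0)) (.node (.leaf 0) (.leaf 0))) (.node (.node (.leaf 0) (.leaf 0)) (.node (.leaf 0) (.leaf 0))))) (.node (.node (.node (.node (.leaf 0) (.leaf 0)) (.node (.leaf 0) (.leaf 0))) (.node (.node (.leaf 0) (.leaf 0)) (.node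 (.leaf 0) (.leaf 0)))) (.node (.node (.node (.leaf 0) (.leaf 0)) (.node (.leaf 0) (.leaf 0))) (.node (.node (.leaf 0) (.leaf 0)) (.node (.leaf 0) (.leaf 0)))))))

/-- A Schreier factor, part 892. -/
def facCodePart892 : Janko1.Tree ℕ := (.node (.node (.node (.node (.node (.node (.leaf 0) (.leaf 0)) (.node (.leaf 0) (.leaf 0))) (.node (.node (.leaf 0) (.leaf 0)) (.node (.leaf 0) (.leaf 0)))) (.node (.node (.node (.leaf 0) (.leaf 0)) (.node (.leaf 0) (.leaf 0))) (.node (.node (.leaf 0) (.leaf 0)) (.node (.leaf 0) (.leaf 0))))) (.node (.node (.node (.node (.leaf 0) (.leaf 0)) (.node (.leaf 0) (.leaf 0))) (.node (.node (.leaf 0) (.leaf 0)) (.node (.leaf 0) (.leaf 0)))) (.node (.node (.node (.leaf 0) (.leaf 0)) (.node (.leaf 0) (.leaf 0))) (.node (.node (.leaf 0) (.leaf 0)) (.node (.leaf 0) (.leaf 0)))))) (.node (.node (.node (.node (.node (.leaf 0) (.leaf 0)) (.node (.leaf 0) (.leaf 0))) (.node (.node (.leaf 0) (.leaf 0)) (.node (.leaf 0) (.leaf 0)))) (.node (.node (.node (.leaf 0) (.leaf 0)) (.node (.leaf 0) (.leaf 0))) (.node (.node (.leaf 0)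 (.leaf 0)) (.node (.leaf 0) (.leaf 0))))) (.node (.node (.node (.node (.leaf 0) (.leaf 0)) (.node (.leaf 0) (.leaf 0))) (.node (.node (.leaf 0) (.leaf 0)) (.node (.leaf 0) (.leaf 0)))) (.node (.node (.node (.leaf 0) (.leaf 0)) (.node (.leaf 0) (.leaf 0))) (.node (.node (.leaf 0) (.leaf 0)) (.node (.leaf 0) (.leaf 0)))))))

/-- A Schreier factor, part 893. -/
def facCodePart893 : Janko1.Tree ℕ := (.node (.node (.node (.node (.node (.node (.leaf 0) (.leaf 0)) (.node (.leaf 0) (.leaf 0))) (.node (.node (.leaf 0) (.leaf 0)) (.node (.leaf 0) (.leaf 0)))) (.node (.node (.node (.leaf 0) (.leaf 0)) (.node (.leaf 0) (.leaf 0))) (.node (.node (.leaf 0) (.leaf 0)) (.node (.leaf 0) (.leaf 0))))) (.node (.node (.node (.node (.leaf 0) (.leaf 0)) (.node (.leaf 0) (.leaf 0))) (.node (.node (.leaf 0) (.leaf 0)) (.node (.leaf 0) (.leaf 0)))) (.node (.node (.node (.leaf 0) (.leaf 0)) (.node (.leaf 0) (.leaf 0))) (.node (.node (.leaf 0) (.leaf 0)) (.node (.leaf 0) (.leaf 0)))))) (.node (.node (.node (.node (.node (.leaf 0) (.leaf 0)) (.node (.leaf 0) (.leaf 0)))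 (.node (.node (.leaf 0) (.leaf 0)) (.node (.leaf 0) (.leaf 0)))) (.node (.node (.node (.leaf 0) (.leaf 0)) (.node (.leaf 0) (.leaf 0))) (.node (.node (.leaf 0) (.leaf 0)) (.node (.leaf 0) (.leaf 0))))) (.node (.node (.node (.node (.leaf 0) (.leaf 0)) (.node (.leaf 0) (.leaf 0))) (.node (.node (.leaf 0) (.leaf 0)) (.node (.leaf 0) (.leaf 0)))) (.node (.node (.node (.leaf 0) (.leaf 0)) (.node (.leaf 0) (.leaf 0))) (.node (.node (.leaf 0) (.leaf 0)) (.node (.leaf 0) (.leaf 0)))))))

/-- A Schreier factor, part 894. -/
def facCodePart894 : Janko1.Tree ℕ := (.node (.node (.node (.node (.node (.node (.leaf 0) (.leaf 0)) (.node (.leaf 0) (.leaf 0))) (.node (.node (.leaf 0) (.leaf 0)) (.node (.leaf 0) (.leaf 0)))) (.node (.node (.node (.leaf 0) (.leaf 0)) (.node (.leaf 0) (.leaf 0))) (.node (.node (.leaf 0) (.leaf 0)) (.node (.leaf 0) (.leaf 0))))) (.node (.node (.node (.node (.leaf 0) (.leaf 0)) (.node (.leaf 0) (.leaf 0))) (.node (.node (.leaf 0) (.leaf 0)) (.node (.leaf 0) (.leaf 0)))) (.node (.node (.node (.leaf 0) (.leaf 0)) (.node (.leaf 0) (.leaf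 0))) (.node (.node (.leaf 0) (.leaf 0)) (.node (.leaf 0) (.leaf 0)))))) (.node (.node (.node (.node (.node (.leaf 0) (.leaf 0)) (.node (.leaf 0) (.leaf 0))) (.node (.node (.leaf 0) (.leaf 0)) (.node (.leaf 0) (.leaf 0)))) (.node (.node (.node (.leaf 0) (.leaf 0)) (.node (.leaf 0) (.leaf 0))) (.node (.node (.leaf 0) (.leaf 0)) (.node (.leaf 0) (.leaf 0))))) (.node (.node (.node (.node (.leaf 0) (.leaf 0)) (.node (.leaf 0) (.leaf 0))) (.node (.node (.leaf 0) (.leaf 0)) (.node (.leaf 0) (.leaf 0)))) (.node (.node (.node (.leaf 0) (.leaf 0)) (.node (.leaf 0) (.leaf 0))) (.node (.node (.leaf 0) (.leaf 0)) (.node (.leaf 0) (.leaf 0)))))))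

/-- A Schreier factor, part 895. -/
def facCodePart895 : Janko1.Tree ℕ := (.node (.node (.node (.node (.node (.node (.leaf 0) (.leaf 0)) (.node (.leaf 0) (.leaf 0))) (.node (.node (.leaf 0) (.leaf 0)) (.node (.leaf 0) (.leaf 0)))) (.node (.node (.node (.leaf 0) (.leaf 0)) (.node (.leaf 0) (.leaf 0))) (.node (.node (.leaf 0) (.leaf 0)) (.node (.leaf 0) (.leaf 0))))) (.node (.node (.node (.node (.leaf 0) (.leaf 0)) (.node (.leaf 0) (.leaf 0))) (.node (.node (.leaf 0) (.leaf 0)) (.node (.leaf 0) (.leaf 0)))) (.node (.node (.node (.leaf 0) (.leaf 0)) (.node (.leaf 0) (.leaf 0))) (.node (.node (.leaf 0) (.leaf 0)) (.node (.leaf 0) (.leaf 0)))))) (.node (.node (.node (.node (.node (.leaf 0) (.leaf 0)) (.node (.leaf 0) (.leaf 0))) (.node (.node (.leaf 0) (.leaf 0)) (.node (.leaf 0) (.leaf 0)))) (.node (.node (.node (.leaf 0) (.leaf 0)) (.node (.leaf 0) (.leaf 0))) (.node (.node (.leaf 0) (.leaf 0)) (.node (.leaf 0) (.leaf 0))))) (.node (.node (.node (.node (.leaf 0) (.leaf 0)) (.node (.leaf 0) (.leaf 0))) (.node (.node (.leaf 0) (.leaf 0)) (.node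 (.leaf 0) (.leaf 0)))) (.node (.node (.node (.leaf 0) (.leaf 0)) (.node (.leaf 0) (.leaf 0))) (.node (.node (.leaf 0) (.leaf 0)) (.node (.leaf 0) (.leaf 0)))))))

/-- A Schreier factor, part 896. -/
def facCodePart896 : Janko1.Tree ℕ := (.node (.node (.node (.node (.node (.node (.leaf 0) (.leaf 0)) (.node (.leaf 0) (.leaf 0))) (.node (.node (.leaf 0) (.leaf 0)) (.node (.leaf 0) (.leaf 0)))) (.node (.node (.node (.leaf 0) (.leaf 0)) (.node (.leaf 0) (.leaf 0))) (.node (.node (.leaf 0) (.leaf 0)) (.node (.leaf 0) (.leaf 0))))) (.node (.node (.node (.node (.leaf 0) (.leaf 0)) (.node (.leaf 0) (.leaf 0))) (.node (.node (.leaf 0) (.leaf 0)) (.node (.leaf 0) (.leaf 0)))) (.node (.node (.node (.leaf 0) (.leaf 0)) (.node (.leaf 0) (.leaf 0))) (.node (.node (.leaf 0) (.leaf 0)) (.node (.leaf 0) (.leaf 0)))))) (.node (.node (.node (.node (.node (.leaf 0) (.leaf 0)) (.node (.leaf 0) (.leaf 0))) (.node (.node (.leaf 0) (.leaf 0)) (.node (.leaf 0) (.leaf 0)))) (.node (.node (.node (.leaf 0) (.leaf 0)) (.node (.leaf 0) (.leaf 0))) (.node (.node (.leaf 0)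 (.leaf 0)) (.node (.leaf 0) (.leaf 0))))) (.node (.node (.node (.node (.leaf 0) (.leaf 0)) (.node (.leaf 0) (.leaf 0))) (.node (.node (.leaf 0) (.leaf 0)) (.node (.leaf 0) (.leaf 0)))) (.node (.node (.node (.leaf 0) (.leaf 0)) (.node (.leaf 0) (.leaf 0))) (.node (.node (.leaf 0) (.leaf 0)) (.node (.leaf 0) (.leaf 0)))))))

/-- A Schreier factor, part 897. -/
def facCodePart897 : Janko1.Tree ℕ := (.node (.node (.node (.node (.node (.node (.leaf 0) (.leaf 0)) (.node (.leaf 0) (.leaf 0))) (.node (.node (.leaf 0) (.leaf 0)) (.node (.leaf 0) (.leaf 0)))) (.node (.node (.node (.leaf 0) (.leaf 0)) (.node (.leaf 0) (.leaf 0))) (.node (.node (.leaf 0) (.leaf 0)) (.node (.leaf 0) (.leaf 0))))) (.node (.node (.node (.node (.leaf 0) (.leaf 0)) (.node (.leaf 0) (.leaf 0))) (.node (.node (.leaf 0) (.leaf 0)) (.node (.leaf 0) (.leaf 0)))) (.node (.node (.node (.leaf 0) (.leaf 0)) (.node (.leaf 0) (.leaf 0))) (.node (.node (.leaf 0) (.leaf 0)) (.node (.leaf 0) (.leaf 0)))))) (.node (.node (.node (.node (.node (.leaf 0) (.leaf 0)) (.node (.leaf 0) (.leaf 0)))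 (.node (.node (.leaf 0) (.leaf 0)) (.node (.leaf 0) (.leaf 0)))) (.node (.node (.node (.leaf 0) (.leaf 0)) (.node (.leaf 0) (.leaf 0))) (.node (.node (.leaf 0) (.leaf 0)) (.node (.leaf 0) (.leaf 0))))) (.node (.node (.node (.node (.leaf 0) (.leaf 0)) (.node (.leaf 0) (.leaf 0))) (.node (.node (.leaf 0) (.leaf 0)) (.node (.leaf 0) (.leaf 0)))) (.node (.node (.node (.leaf 0) (.leaf 0)) (.node (.leaf 0) (.leaf 0))) (.node (.node (.leaf 0) (.leaf 0)) (.node (.leaf 0) (.leaf 0)))))))

/-- A Schreier factor, part 898. -/
def facCodePart898 : Janko1.Tree ℕ := (.node (.node (.node (.node (.node (.node (.leaf 0) (.leaf 0)) (.node (.leaf 0) (.leaf 0))) (.node (.node (.leaf 0) (.leaf 0)) (.node (.leaf 0) (.leaf 0)))) (.node (.node (.node (.leaf 0) (.leaf 0)) (.node (.leaf 0) (.leaf 0))) (.node (.node (.leaf 0) (.leaf 0)) (.node (.leaf 0) (.leaf 0))))) (.node (.node (.node (.node (.leaf 0) (.leaf 0)) (.node (.leaf 0) (.leaf 0))) (.node (.node (.leaf 0) (.leaf 0)) (.node (.leaf 0) (.leaf 0)))) (.node (.node (.node (.leaf 0) (.leaf 0)) (.node (.leaf 0) (.leaf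 0))) (.node (.node (.leaf 0) (.leaf 0)) (.node (.leaf 0) (.leaf 0)))))) (.node (.node (.node (.node (.node (.leaf 0) (.leaf 0)) (.node (.leaf 0) (.leaf 0))) (.node (.node (.leaf 0) (.leaf 0)) (.node (.leaf 0) (.leaf 0)))) (.node (.node (.node (.leaf 0) (.leaf 0)) (.node (.leaf 0) (.leaf 0))) (.node (.node (.leaf 0) (.leaf 0)) (.node (.leaf 0) (.leaf 0))))) (.node (.node (.node (.node (.leaf 0) (.leaf 0)) (.node (.leaf 0) (.leaf 0))) (.node (.node (.leaf 0) (.leaf 0)) (.node (.leaf 0) (.leaf 0)))) (.node (.node (.node (.leaf 0) (.leaf 0)) (.node (.leaf 0) (.leaf 0))) (.node (.node (.leaf 0) (.leaf 0)) (.node (.leaf 0) (.leaf 0)))))))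

/-- A Schreier factor, part 899. -/
def facCodePart899 : Janko1.Tree ℕ := (.node (.node (.node (.node (.node (.node (.leaf 0) (.leaf 0)) (.node (.leaf 0) (.leaf 0))) (.node (.node (.leaf 0) (.leaf 0)) (.node (.leaf 0) (.leaf 0)))) (.node (.node (.node (.leaf 0) (.leaf 0)) (.node (.leaf 0) (.leaf 0))) (.node (.node (.leaf 0) (.leaf 0)) (.node (.leaf 0) (.leaf 0))))) (.node (.node (.node (.node (.leaf 0) (.leaf 0)) (.node (.leaf 0) (.leaf 0))) (.node (.node (.leaf 0) (.leaf 0)) (.node (.leaf 0) (.leaf 0)))) (.node (.node (.node (.leaf 0) (.leaf 0)) (.node (.leaf 0) (.leaf 0))) (.node (.node (.leaf 0) (.leaf 0)) (.node (.leaf 0) (.leaf 0)))))) (.node (.node (.node (.node (.node (.leaf 0) (.leaf 0)) (.node (.leaf 0) (.leaf 0))) (.node (.node (.leaf 0) (.leaf 0)) (.node (.leaf 0) (.leaf 0)))) (.node (.node (.node (.leaf 0) (.leaf 0)) (.node (.leaf 0) (.leaf 0))) (.node (.node (.leaf 0) (.leaf 0)) (.node (.leaf 0) (.leaf 0))))) (.node (.node (.node (.node (.leaf 0) (.leaf 0)) (.node (.leaf 0) (.leaf 0))) (.node (.node (.leaf 0) (.leaf 0)) (.node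 (.leaf 0) (.leaf 0)))) (.node (.node (.node (.leaf 0) (.leaf 0)) (.node (.leaf 0) (.leaf 0))) (.node (.node (.leaf 0) (.leaf 0)) (.node (.leaf 0) (.leaf 0)))))))

/-- A Schreier factor, part 900. -/
def facCodePart900 : Janko1.Tree ℕ := (.node (.node (.node (.node (.node (.node (.leaf 0) (.leaf 0)) (.node (.leaf 0) (.leaf 0))) (.node (.node (.leaf 0) (.leaf 0)) (.node (.leaf 0) (.leaf 0)))) (.node (.node (.node (.leaf 0) (.leaf 0)) (.node (.leaf 0) (.leaf 0))) (.node (.node (.leaf 0) (.leaf 0)) (.node (.leaf 0) (.leaf 0))))) (.node (.node (.node (.node (.leaf 0) (.leaf 0)) (.node (.leaf 0) (.leaf 0))) (.node (.node (.leaf 0) (.leaf 0)) (.node (.leaf 0) (.leaf 0)))) (.node (.node (.node (.leaf 0) (.leaf 0)) (.node (.leaf 0) (.leaf 0))) (.node (.node (.leaf 0) (.leaf 0)) (.node (.leaf 0) (.leaf 0)))))) (.node (.node (.node (.node (.node (.leaf 0) (.leaf 0)) (.node (.leaf 0) (.leaf 0))) (.node (.node (.leaf 0) (.leaf 0)) (.node (.leaf 0) (.leaf 0)))) (.node (.node (.node (.leaf 0) (.leaf 0)) (.node (.leaf 0) (.leaf 0))) (.node (.node (.leaf 0)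 (.leaf 0)) (.node (.leaf 0) (.leaf 0))))) (.node (.node (.node (.node (.leaf 0) (.leaf 0)) (.node (.leaf 0) (.leaf 0))) (.node (.node (.leaf 0) (.leaf 0)) (.node (.leaf 0) (.leaf 0)))) (.node (.node (.node (.leaf 0) (.leaf 0)) (.node (.leaf 0) (.leaf 0))) (.node (.node (.leaf 0) (.leaf 0)) (.node (.leaf 0) (.leaf 0)))))))

/-- A Schreier factor, part 901. -/
def facCodePart901 : Janko1.Tree ℕ := (.node (.node (.node (.node (.node (.node (.leaf 0) (.leaf 0)) (.node (.leaf 0) (.leaf 0))) (.node (.node (.leaf 0) (.leaf 0)) (.node (.leaf 0) (.leaf 0)))) (.node (.node (.node (.leaf 0) (.leaf 0)) (.node (.leaf 0) (.leaf 0))) (.node (.node (.leaf 0) (.leaf 0)) (.node (.leaf 0) (.leaf 0))))) (.node (.node (.node (.node (.leaf 0) (.leaf 0)) (.node (.leaf 0) (.leaf 0))) (.node (.node (.leaf 0) (.leaf 0)) (.node (.leaf 0) (.leaf 0)))) (.node (.node (.node (.leaf 0) (.leaf 0)) (.node (.leaf 0) (.leaf 0))) (.node (.node (.leaf 0) (.leaf 0)) (.node (.leaf 0) (.leaf 0)))))) (.node (.node (.node (.node (.node (.leaf 0) (.leaf 0)) (.node (.leaf 0) (.leaf 0)))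 (.node (.node (.leaf 0) (.leaf 0)) (.node (.leaf 0) (.leaf 0)))) (.node (.node (.node (.leaf 0) (.leaf 0)) (.node (.leaf 0) (.leaf 0))) (.node (.node (.leaf 0) (.leaf 0)) (.node (.leaf 0) (.leaf 0))))) (.node (.node (.node (.node (.leaf 0) (.leaf 0)) (.node (.leaf 0) (.leaf 0))) (.node (.node (.leaf 0) (.leaf 0)) (.node (.leaf 0) (.leaf 0)))) (.node (.node (.node (.leaf 0) (.leaf 0)) (.node (.leaf 0) (.leaf 0))) (.node (.node (.leaf 0) (.leaf 0)) (.node (.leaf 0) (.leaf 0)))))))

/-- A Schreier factor, part 902. -/
def facCodePart902 : Janko1.Tree ℕ := (.node (.node (.node (.node (.node (.node (.leaf 0) (.leaf 0)) (.node (.leaf 0) (.leaf 0))) (.node (.node (.leaf 0) (.leaf 0)) (.node (.leaf 0) (.leaf 0)))) (.node (.node (.node (.leaf 0) (.leaf 0)) (.node (.leaf 0) (.leaf 0))) (.node (.node (.leaf 0) (.leaf 0)) (.node (.leaf 0) (.leaf 0))))) (.node (.node (.node (.node (.leaf 0) (.leaf 0)) (.node (.leaf 0) (.leaf 0))) (.node (.node (.leaf 0) (.leaf 0)) (.node (.leaf 0) (.leaf 0)))) (.node (.node (.node (.leaf 0) (.leaf 0)) (.node (.leaf 0) (.leaf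 0))) (.node (.node (.leaf 0) (.leaf 0)) (.node (.leaf 0) (.leaf 0)))))) (.node (.node (.node (.node (.node (.leaf 0) (.leaf 0)) (.node (.leaf 0) (.leaf 0))) (.node (.node (.leaf 0) (.leaf 0)) (.node (.leaf 0) (.leaf 0)))) (.node (.node (.node (.leaf 0) (.leaf 0)) (.node (.leaf 0) (.leaf 0))) (.node (.node (.leaf 0) (.leaf 0)) (.node (.leaf 0) (.leaf 0))))) (.node (.node (.node (.node (.leaf 0) (.leaf 0)) (.node (.leaf 0) (.leaf 0))) (.node (.node (.leaf 0) (.leaf 0)) (.node (.leaf 0) (.leaf 0)))) (.node (.node (.node (.leaf 0) (.leaf 0)) (.node (.leaf 0) (.leaf 0))) (.node (.node (.leaf 0) (.leaf 0)) (.node (.leaf 0) (.leaf 0)))))))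

/-- A Schreier factor, part 903. -/
def facCodePart903 : Janko1.Tree ℕ := (.node (.node (.node (.node (.node (.node (.leaf 0) (.leaf 0)) (.node (.leaf 0) (.leaf 0))) (.node (.node (.leaf 0) (.leaf 0)) (.node (.leaf 0) (.leaf 0)))) (.node (.node (.node (.leaf 0) (.leaf 0)) (.node (.leaf 0) (.leaf 0))) (.node (.node (.leaf 0) (.leaf 0)) (.node (.leaf 0) (.leaf 0))))) (.node (.node (.node (.node (.leaf 0) (.leaf 0)) (.node (.leaf 0) (.leaf 0))) (.node (.node (.leaf 0) (.leaf 0)) (.node (.leaf 0) (.leaf 0)))) (.node (.node (.node (.leaf 0) (.leaf 0)) (.node (.leaf 0) (.leaf 0))) (.node (.node (.leaf 0) (.leaf 0)) (.node (.leaf 0) (.leaf 0)))))) (.node (.node (.node (.node (.node (.leaf 0) (.leaf 0)) (.node (.leaf 0) (.leaf 0))) (.node (.node (.leaf 0) (.leaf 0)) (.node (.leaf 0) (.leaf 0)))) (.node (.node (.node (.leaf 0) (.leaf 0)) (.node (.leaf 0) (.leaf 0))) (.node (.node (.leaf 0) (.leaf 0)) (.node (.leaf 0) (.leaf 0))))) (.node (.node (.node (.node (.leaf 0) (.leaf 0)) (.node (.leaf 0) (.leaf 0))) (.node (.node (.leaf 0) (.leaf 0)) (.node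 (.leaf 0) (.leaf 0)))) (.node (.node (.node (.leaf 0) (.leaf 0)) (.node (.leaf 0) (.leaf 0))) (.node (.node (.leaf 0) (.leaf 0)) (.node (.leaf 0) (.leaf 0)))))))

/-- A Schreier factor, part 904. -/
def facCodePart904 : Janko1.Tree ℕ := (.node (.node (.node (.node (.node (.node (.leaf 0) (.leaf 0)) (.node (.leaf 0) (.leaf 0))) (.node (.node (.leaf 0) (.leaf 0)) (.node (.leaf 0) (.leaf 0)))) (.node (.node (.node (.leaf 0) (.leaf 0)) (.node (.leaf 0) (.leaf 0))) (.node (.node (.leaf 0) (.leaf 0)) (.node (.leaf 0) (.leaf 0))))) (.node (.node (.node (.node (.leaf 0) (.leaf 0)) (.node (.leaf 0) (.leaf 0))) (.node (.node (.leaf 0) (.leaf 0)) (.node (.leaf 0) (.leaf 0)))) (.node (.node (.node (.leaf 0) (.leaf 0)) (.node (.leaf 0) (.leaf 0))) (.node (.node (.leaf 0) (.leaf 0)) (.node (.leaf 0) (.leaf 0)))))) (.node (.node (.node (.node (.node (.leaf 0) (.leaf 0)) (.node (.leaf 0) (.leaf 0))) (.node (.node (.leaf 0) (.leaf 0)) (.node (.leaf 0) (.leaf 0)))) (.node (.node (.node (.leaf 0) (.leaf 0)) (.node (.leaf 0) (.leaf 0))) (.node (.node (.leaf 0)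 (.leaf 0)) (.node (.leaf 0) (.leaf 0))))) (.node (.node (.node (.node (.leaf 0) (.leaf 0)) (.node (.leaf 0) (.leaf 0))) (.node (.node (.leaf 0) (.leaf 0)) (.node (.leaf 0) (.leaf 0)))) (.node (.node (.node (.leaf 0) (.leaf 0)) (.node (.leaf 0) (.leaf 0))) (.node (.node (.leaf 0) (.leaf 0)) (.node (.leaf 0) (.leaf 0)))))))

/-- A Schreier factor, part 905. -/
def facCodePart905 : Janko1.Tree ℕ := (.node (.node (.node (.node (.node (.node (.leaf 0) (.leaf 0)) (.node (.leaf 0) (.leaf 0))) (.node (.node (.leaf 0) (.leaf 0)) (.node (.leaf 0) (.leaf 0)))) (.node (.node (.node (.leaf 0) (.leaf 0)) (.node (.leaf 0) (.leaf 0))) (.node (.node (.leaf 0) (.leaf 0)) (.node (.leaf 0) (.leaf 0))))) (.node (.node (.node (.node (.leaf 0) (.leaf 0)) (.node (.leaf 0) (.leaf 0))) (.node (.node (.leaf 0) (.leaf 0)) (.node (.leaf 0) (.leaf 0)))) (.node (.node (.node (.leaf 0) (.leaf 0)) (.node (.leaf 0) (.leaf 0))) (.node (.node (.leaf 0) (.leaf 0)) (.node (.leaf 0) (.leaf 0)))))) (.node (.node (.node (.node (.node (.leaf 0) (.leaf 0)) (.node (.leaf 0) (.leaf 0)))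 (.node (.node (.leaf 0) (.leaf 0)) (.node (.leaf 0) (.leaf 0)))) (.node (.node (.node (.leaf 0) (.leaf 0)) (.node (.leaf 0) (.leaf 0))) (.node (.node (.leaf 0) (.leaf 0)) (.node (.leaf 0) (.leaf 0))))) (.node (.node (.node (.node (.leaf 0) (.leaf 0)) (.node (.leaf 0) (.leaf 0))) (.node (.node (.leaf 0) (.leaf 0)) (.node (.leaf 0) (.leaf 0)))) (.node (.node (.node (.leaf 0) (.leaf 0)) (.node (.leaf 0) (.leaf 0))) (.node (.node (.leaf 0) (.leaf 0)) (.node (.leaf 0) (.leaf 0)))))))

/-- A Schreier factor, part 906. -/
def facCodePart906 : Janko1.Tree ℕ := (.node (.node (.node (.node (.node (.node (.leaf 0) (.leaf 0)) (.node (.leaf 0) (.leaf 0))) (.node (.node (.leaf 0) (.leaf 0)) (.node (.leaf 0) (.leaf 0)))) (.node (.node (.node (.leaf 0) (.leaf 0)) (.node (.leaf 0) (.leaf 0))) (.node (.node (.leaf 0) (.leaf 0)) (.node (.leaf 0) (.leaf 0))))) (.node (.node (.node (.node (.leaf 0) (.leaf 0)) (.node (.leaf 0) (.leaf 0))) (.node (.node (.leaf 0) (.leaf 0)) (.node (.leaf 0) (.leaf 0)))) (.node (.node (.node (.leaf 0) (.leaf 0)) (.node (.leaf 0) (.leaf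 0))) (.node (.node (.leaf 0) (.leaf 0)) (.node (.leaf 0) (.leaf 0)))))) (.node (.node (.node (.node (.node (.leaf 0) (.leaf 0)) (.node (.leaf 0) (.leaf 0))) (.node (.node (.leaf 0) (.leaf 0)) (.node (.leaf 0) (.leaf 0)))) (.node (.node (.node (.leaf 0) (.leaf 0)) (.node (.leaf 0) (.leaf 0))) (.node (.node (.leaf 0) (.leaf 0)) (.node (.leaf 0) (.leaf 0))))) (.node (.node (.node (.node (.leaf 0) (.leaf 0)) (.node (.leaf 0) (.leaf 0))) (.node (.node (.leaf 0) (.leaf 0)) (.node (.leaf 0) (.leaf 0)))) (.node (.node (.node (.leaf 0) (.leaf 0)) (.node (.leaf 0) (.leaf 0))) (.node (.node (.leaf 0) (.leaf 0)) (.node (.leaf 0) (.leaf 0)))))))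

/-- A Schreier factor, part 907. -/
def facCodePart907 : Janko1.Tree ℕ := (.node (.node (.node (.node (.node (.node (.leaf 0) (.leaf 0)) (.node (.leaf 0) (.leaf 0))) (.node (.node (.leaf 0) (.leaf 0)) (.node (.leaf 0) (.leaf 0)))) (.node (.node (.node (.leaf 0) (.leaf 0)) (.node (.leaf 0) (.leaf 0))) (.node (.node (.leaf 0) (.leaf 0)) (.node (.leaf 0) (.leaf 0))))) (.node (.node (.node (.node (.leaf 0) (.leaf 0)) (.node (.leaf 0) (.leaf 0))) (.node (.node (.leaf 0) (.leaf 0)) (.node (.leaf 0) (.leaf 0)))) (.node (.node (.node (.leaf 0) (.leaf 0)) (.node (.leaf 0) (.leaf 0))) (.node (.node (.leaf 0) (.leaf 0)) (.node (.leaf 0) (.leaf 0)))))) (.node (.node (.node (.node (.node (.leaf 0) (.leaf 0)) (.node (.leaf 0) (.leaf 0))) (.node (.node (.leaf 0) (.leaf 0)) (.node (.leaf 0) (.leaf 0)))) (.node (.node (.node (.leaf 0) (.leaf 0)) (.node (.leaf 0) (.leaf 0))) (.node (.node (.leaf 0) (.leaf 0)) (.node (.leaf 0) (.leaf 0))))) (.node (.node (.node (.node (.leaf 0) (.leaf 0)) (.node (.leaf 0) (.leaf 0))) (.node (.node (.leaf 0) (.leaf 0)) (.node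 (.leaf 0) (.leaf 0)))) (.node (.node (.node (.leaf 0) (.leaf 0)) (.node (.leaf 0) (.leaf 0))) (.node (.node (.leaf 0) (.leaf 0)) (.node (.leaf 0) (.leaf 0)))))))

/-- A Schreier factor, part 908. -/
def facCodePart908 : Janko1.Tree ℕ := (.node (.node (.node (.node (.node (.node (.leaf 0) (.leaf 0)) (.node (.leaf 0) (.leaf 0))) (.node (.node (.leaf 0) (.leaf 0)) (.node (.leaf 0) (.leaf 0)))) (.node (.node (.node (.leaf 0) (.leaf 0)) (.node (.leaf 0) (.leaf 0))) (.node (.node (.leaf 0) (.leaf 0)) (.node (.leaf 0) (.leaf 0))))) (.node (.node (.node (.node (.leaf 0) (.leaf 0)) (.node (.leaf 0) (.leaf 0))) (.node (.node (.leaf 0) (.leaf 0)) (.node (.leaf 0) (.leaf 0)))) (.node (.node (.node (.leaf 0) (.leaf 0)) (.node (.leaf 0) (.leaf 0))) (.node (.node (.leaf 0) (.leaf 0)) (.node (.leaf 0) (.leaf 0)))))) (.node (.node (.node (.node (.node (.leaf 0) (.leaf 0)) (.node (.leaf 0) (.leaf 0))) (.node (.node (.leaf 0) (.leaf 0)) (.node (.leaf 0) (.leaf 0)))) (.node (.node (.node (.leaf 0) (.leaf 0)) (.node (.leaf 0) (.leaf 0))) (.node (.node (.leaf 0)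 (.leaf 0)) (.node (.leaf 0) (.leaf 0))))) (.node (.node (.node (.node (.leaf 0) (.leaf 0)) (.node (.leaf 0) (.leaf 0))) (.node (.node (.leaf 0) (.leaf 0)) (.node (.leaf 0) (.leaf 0)))) (.node (.node (.node (.leaf 0) (.leaf 0)) (.node (.leaf 0) (.leaf 0))) (.node (.node (.leaf 0) (.leaf 0)) (.node (.leaf 0) (.leaf 0)))))))

/-- A Schreier factor, part 909. -/
def facCodePart909 : Janko1.Tree ℕ := (.node (.node (.node (.node (.node (.node (.leaf 0) (.leaf 0)) (.node (.leaf 0) (.leaf 0))) (.node (.node (.leaf 0) (.leaf 0)) (.node (.leaf 0) (.leaf 0)))) (.node (.node (.node (.leaf 0) (.leaf 0)) (.node (.leaf 0) (.leaf 0))) (.node (.node (.leaf 0) (.leaf 0)) (.node (.leaf 0) (.leaf 0))))) (.node (.node (.node (.node (.leaf 0) (.leaf 0)) (.node (.leaf 0) (.leaf 0))) (.node (.node (.leaf 0) (.leaf 0)) (.node (.leaf 0) (.leaf 0)))) (.node (.node (.node (.leaf 0) (.leaf 0)) (.node (.leaf 0) (.leaf 0))) (.node (.node (.leaf 0) (.leaf 0)) (.node (.leaf 0) (.leaf 0)))))) (.node (.node (.node (.node (.node (.leaf 0) (.leaf 0)) (.node (.leaf 0) (.leaf 0)))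 (.node (.node (.leaf 0) (.leaf 0)) (.node (.leaf 0) (.leaf 0)))) (.node (.node (.node (.leaf 0) (.leaf 0)) (.node (.leaf 0) (.leaf 0))) (.node (.node (.leaf 0) (.leaf 0)) (.node (.leaf 0) (.leaf 0))))) (.node (.node (.node (.node (.leaf 0) (.leaf 0)) (.node (.leaf 0) (.leaf 0))) (.node (.node (.leaf 0) (.leaf 0)) (.node (.leaf 0) (.leaf 0)))) (.node (.node (.node (.leaf 0) (.leaf 0)) (.node (.leaf 0) (.leaf 0))) (.node (.node (.leaf 0) (.leaf 0)) (.node (.leaf 0) (.leaf 0)))))))

/-- A Schreier factor, part 910. -/
def facCodePart910 : Janko1.Tree ℕ := (.node (.node (.node (.node (.node (.node (.leaf 0) (.leaf 0)) (.node (.leaf 0) (.leaf 0))) (.node (.node (.leaf 0) (.leaf 0)) (.node (.leaf 0) (.leaf 0)))) (.node (.node (.node (.leaf 0) (.leaf 0)) (.node (.leaf 0) (.leaf 0))) (.node (.node (.leaf 0) (.leaf 0)) (.node (.leaf 0) (.leaf 0))))) (.node (.node (.node (.node (.leaf 0) (.leaf 0)) (.node (.leaf 0) (.leaf 0))) (.node (.node (.leaf 0) (.leaf 0)) (.node (.leaf 0) (.leaf 0)))) (.node (.node (.node (.leaf 0) (.leaf 0)) (.node (.leaf 0) (.leaf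 0))) (.node (.node (.leaf 0) (.leaf 0)) (.node (.leaf 0) (.leaf 0)))))) (.node (.node (.node (.node (.node (.leaf 0) (.leaf 0)) (.node (.leaf 0) (.leaf 0))) (.node (.node (.leaf 0) (.leaf 0)) (.node (.leaf 0) (.leaf 0)))) (.node (.node (.node (.leaf 0) (.leaf 0)) (.node (.leaf 0) (.leaf 0))) (.node (.node (.leaf 0) (.leaf 0)) (.node (.leaf 0) (.leaf 0))))) (.node (.node (.node (.node (.leaf 0) (.leaf 0)) (.node (.leaf 0) (.leaf 0))) (.node (.node (.leaf 0) (.leaf 0)) (.node (.leaf 0) (.leaf 0)))) (.node (.node (.node (.leaf 0) (.leaf 0)) (.node (.leaf 0) (.leaf 0))) (.node (.node (.leaf 0) (.leaf 0)) (.node (.leaf 0) (.leaf 0)))))))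

/-- A Schreier factor, part 911. -/
def facCodePart911 : Janko1.Tree ℕ := (.node (.node (.node (.node (.node (.node (.leaf 0) (.leaf 0)) (.node (.leaf 0) (.leaf 0))) (.node (.node (.leaf 0) (.leaf 0)) (.node (.leaf 0) (.leaf 0)))) (.node (.node (.node (.leaf 0) (.leaf 0)) (.node (.leaf 0) (.leaf 0))) (.node (.node (.leaf 0) (.leaf 0)) (.node (.leaf 0) (.leaf 0))))) (.node (.node (.node (.node (.leaf 0) (.leaf 0)) (.node (.leaf 0) (.leaf 0))) (.node (.node (.leaf 0) (.leaf 0)) (.node (.leaf 0) (.leaf 0)))) (.node (.node (.node (.leaf 0) (.leaf 0)) (.node (.leaf 0) (.leaf 0))) (.node (.node (.leaf 0) (.leaf 0)) (.node (.leaf 0) (.leaf 0)))))) (.node (.node (.node (.node (.node (.leaf 0) (.leaf 0)) (.node (.leaf 0) (.leaf 0))) (.node (.node (.leaf 0) (.leaf 0)) (.node (.leaf 0) (.leaf 0)))) (.node (.node (.node (.leaf 0) (.leaf 0)) (.node (.leaf 0) (.leaf 0))) (.node (.node (.leaf 0) (.leaf 0)) (.node (.leaf 0) (.leaf 0))))) (.node (.node (.node (.node (.leaf 0) (.leaf 0)) (.node (.leaf 0) (.leaf 0))) (.node (.node (.leaf 0) (.leaf 0)) (.node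 (.leaf 0) (.leaf 0)))) (.node (.node (.node (.leaf 0) (.leaf 0)) (.node (.leaf 0) (.leaf 0))) (.node (.node (.leaf 0) (.leaf 0)) (.node (.leaf 0) (.leaf 0)))))))

/-- A Schreier factor, part 912. -/
def facCodePart912 : Janko1.Tree ℕ := (.node (.node (.node (.node (.node (.node (.leaf 0) (.leaf 0)) (.node (.leaf 0) (.leaf 0))) (.node (.node (.leaf 0) (.leaf 0)) (.node (.leaf 0) (.leaf 0)))) (.node (.node (.node (.leaf 0) (.leaf 0)) (.node (.leaf 0) (.leaf 0))) (.node (.node (.leaf 0) (.leaf 0)) (.node (.leaf 0) (.leaf 0))))) (.node (.node (.node (.node (.leaf 0) (.leaf 0)) (.node (.leaf 0) (.leaf 0))) (.node (.node (.leaf 0) (.leaf 0)) (.node (.leaf 0) (.leaf 0)))) (.node (.node (.node (.leaf 0) (.leaf 0)) (.node (.leaf 0) (.leaf 0))) (.node (.node (.leaf 0) (.leaf 0)) (.node (.leaf 0) (.leaf 0)))))) (.node (.node (.node (.node (.node (.leaf 0) (.leaf 0)) (.node (.leaf 0) (.leaf 0))) (.node (.node (.leaf 0) (.leaf 0)) (.node (.leaf 0) (.leaf 0)))) (.node (.node (.node (.leaf 0) (.leaf 0)) (.node (.leaf 0) (.leaf 0))) (.node (.node (.leaf 0)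 (.leaf 0)) (.node (.leaf 0) (.leaf 0))))) (.node (.node (.node (.node (.leaf 0) (.leaf 0)) (.node (.leaf 0) (.leaf 0))) (.node (.node (.leaf 0) (.leaf 0)) (.node (.leaf 0) (.leaf 0)))) (.node (.node (.node (.leaf 0) (.leaf 0)) (.node (.leaf 0) (.leaf 0))) (.node (.node (.leaf 0) (.leaf 0)) (.node (.leaf 0) (.leaf 0)))))))

/-- A Schreier factor, part 913. -/
def facCodePart913 : Janko1.Tree ℕ := (.node (.node (.node (.node (.node (.node (.leaf 0) (.leaf 0)) (.node (.leaf 0) (.leaf 0))) (.node (.node (.leaf 0) (.leaf 0)) (.node (.leaf 0) (.leaf 0)))) (.node (.node (.node (.leaf 0) (.leaf 0)) (.node (.leaf 0) (.leaf 0))) (.node (.node (.leaf 0) (.leaf 0)) (.node (.leaf 0) (.leaf 0))))) (.node (.node (.node (.node (.leaf 0) (.leaf 0)) (.node (.leaf 0) (.leaf 0))) (.node (.node (.leaf 0) (.leaf 0)) (.node (.leaf 0) (.leaf 0)))) (.node (.node (.node (.leaf 0) (.leaf 0)) (.node (.leaf 0) (.leaf 0))) (.node (.node (.leaf 0) (.leaf 0)) (.node (.leaf 0) (.leaf 0)))))) (.node (.node (.node (.node (.node (.leaf 0) (.leaf 0)) (.node (.leaf 0) (.leaf 0)))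 (.node (.node (.leaf 0) (.leaf 0)) (.node (.leaf 0) (.leaf 0)))) (.node (.node (.node (.leaf 0) (.leaf 0)) (.node (.leaf 0) (.leaf 0))) (.node (.node (.leaf 0) (.leaf 0)) (.node (.leaf 0) (.leaf 0))))) (.node (.node (.node (.node (.leaf 0) (.leaf 0)) (.node (.leaf 0) (.leaf 0))) (.node (.node (.leaf 0) (.leaf 0)) (.node (.leaf 0) (.leaf 0)))) (.node (.node (.node (.leaf 0) (.leaf 0)) (.node (.leaf 0) (.leaf 0))) (.node (.node (.leaf 0) (.leaf 0)) (.node (.leaf 0) (.leaf 0)))))))

/-- A Schreier factor, part 914. -/
def facCodePart914 : Janko1.Tree ℕ := (.node (.node (.node (.node (.node (.node (.leaf 0) (.leaf 0)) (.node (.leaf 0) (.leaf 0))) (.node (.node (.leaf 0) (.leaf 0)) (.node (.leaf 0) (.leaf 0)))) (.node (.node (.node (.leaf 0) (.leaf 0)) (.node (.leaf 0) (.leaf 0))) (.node (.node (.leaf 0) (.leaf 0)) (.node (.leaf 0) (.leaf 0))))) (.node (.node (.node (.node (.leaf 0) (.leaf 0)) (.node (.leaf 0) (.leaf 0))) (.node (.node (.leaf 0) (.leaf 0)) (.node (.leaf 0) (.leaf 0)))) (.node (.node (.node (.leaf 0) (.leaf 0)) (.node (.leaf 0) (.leaf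 0))) (.node (.node (.leaf 0) (.leaf 0)) (.node (.leaf 0) (.leaf 0)))))) (.node (.node (.node (.node (.node (.leaf 0) (.leaf 0)) (.node (.leaf 0) (.leaf 0))) (.node (.node (.leaf 0) (.leaf 0)) (.node (.leaf 0) (.leaf 0)))) (.node (.node (.node (.leaf 0) (.leaf 0)) (.node (.leaf 0) (.leaf 0))) (.node (.node (.leaf 0) (.leaf 0)) (.node (.leaf 0) (.leaf 0))))) (.node (.node (.node (.node (.leaf 0) (.leaf 0)) (.node (.leaf 0) (.leaf 0))) (.node (.node (.leaf 0) (.leaf 0)) (.node (.leaf 0) (.leaf 0)))) (.node (.node (.node (.leaf 0) (.leaf 0)) (.node (.leaf 0) (.leaf 0))) (.node (.node (.leaf 0) (.leaf 0)) (.node (.leaf 0) (.leaf 0)))))))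

/-- A Schreier factor, part 915. -/
def facCodePart915 : Janko1.Tree ℕ := (.node (.node (.node (.node (.node (.node (.leaf 0) (.leaf 0)) (.node (.leaf 0) (.leaf 0))) (.node (.node (.leaf 0) (.leaf 0)) (.node (.leaf 0) (.leaf 0)))) (.node (.node (.node (.leaf 0) (.leaf 0)) (.node (.leaf 0) (.leaf 0))) (.node (.node (.leaf 0) (.leaf 0)) (.node (.leaf 0) (.leaf 0))))) (.node (.node (.node (.node (.leaf 0) (.leaf 0)) (.node (.leaf 0) (.leaf 0))) (.node (.node (.leaf 0) (.leaf 0)) (.node (.leaf 0) (.leaf 0)))) (.node (.node (.node (.leaf 0) (.leaf 0)) (.node (.leaf 0) (.leaf 0))) (.node (.node (.leaf 0) (.leaf 0)) (.node (.leaf 0) (.leaf 0)))))) (.node (.node (.node (.node (.node (.leaf 0) (.leaf 0)) (.node (.leaf 0) (.leaf 0))) (.node (.node (.leaf 0) (.leaf 0)) (.node (.leaf 0) (.leaf 0)))) (.node (.node (.node (.leaf 0) (.leaf 0)) (.node (.leaf 0) (.leaf 0))) (.node (.node (.leaf 0) (.leaf 0)) (.node (.leaf 0) (.leaf 0))))) (.node (.node (.node (.node (.leaf 0) (.leaf 0)) (.node (.leaf 0) (.leaf 0))) (.node (.node (.leaf 0) (.leaf 0)) (.node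 (.leaf 0) (.leaf 0)))) (.node (.node (.node (.leaf 0) (.leaf 0)) (.node (.leaf 0) (.leaf 0))) (.node (.node (.leaf 0) (.leaf 0)) (.node (.leaf 0) (.leaf 0)))))))

/-- A Schreier factor, part 916. -/
def facCodePart916 : Janko1.Tree ℕ := (.node (.node (.node (.node (.node (.node (.leaf 0) (.leaf 0)) (.node (.leaf 0) (.leaf 0))) (.node (.node (.leaf 0) (.leaf 0)) (.node (.leaf 0) (.leaf 0)))) (.node (.node (.node (.leaf 0) (.leaf 0)) (.node (.leaf 0) (.leaf 0))) (.node (.node (.leaf 0) (.leaf 0)) (.node (.leaf 0) (.leaf 0))))) (.node (.node (.node (.node (.leaf 0) (.leaf 0)) (.node (.leaf 0) (.leaf 0))) (.node (.node (.leaf 0) (.leaf 0)) (.node (.leaf 0) (.leaf 0)))) (.node (.node (.node (.leaf 0) (.leaf 0)) (.node (.leaf 0) (.leaf 0))) (.node (.node (.leaf 0) (.leaf 0)) (.node (.leaf 0) (.leaf 0)))))) (.node (.node (.node (.node (.node (.leaf 0) (.leaf 0)) (.node (.leaf 0) (.leaf 0))) (.node (.node (.leaf 0) (.leaf 0)) (.node (.leaf 0) (.leaf 0)))) (.node (.node (.node (.leaf 0) (.leaf 0)) (.node (.leaf 0) (.leaf 0))) (.node (.node (.leaf 0)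 (.leaf 0)) (.node (.leaf 0) (.leaf 0))))) (.node (.node (.node (.node (.leaf 0) (.leaf 0)) (.node (.leaf 0) (.leaf 0))) (.node (.node (.leaf 0) (.leaf 0)) (.node (.leaf 0) (.leaf 0)))) (.node (.node (.node (.leaf 0) (.leaf 0)) (.node (.leaf 0) (.leaf 0))) (.node (.node (.leaf 0) (.leaf 0)) (.node (.leaf 0) (.leaf 0)))))))

/-- A Schreier factor, part 917. -/
def facCodePart917 : Janko1.Tree ℕ := (.node (.node (.node (.node (.node (.node (.leaf 0) (.leaf 0)) (.node (.leaf 0) (.leaf 0))) (.node (.node (.leaf 0) (.leaf 0)) (.node (.leaf 0) (.leaf 0)))) (.node (.node (.node (.leaf 0) (.leaf 0)) (.node (.leaf 0) (.leaf 0))) (.node (.node (.leaf 0) (.leaf 0)) (.node (.leaf 0) (.leaf 0))))) (.node (.node (.node (.node (.leaf 0) (.leaf 0)) (.node (.leaf 0) (.leaf 0))) (.node (.node (.leaf 0) (.leaf 0)) (.node (.leaf 0) (.leaf 0)))) (.node (.node (.node (.leaf 0) (.leaf 0)) (.node (.leaf 0) (.leaf 0))) (.node (.node (.leaf 0) (.leaf 0)) (.node (.leaf 0) (.leaf 0)))))) (.node (.node (.node (.node (.node (.leaf 0) (.leaf 0)) (.node (.leaf 0) (.leaf 0)))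 (.node (.node (.leaf 0) (.leaf 0)) (.node (.leaf 0) (.leaf 0)))) (.node (.node (.node (.leaf 0) (.leaf 0)) (.node (.leaf 0) (.leaf 0))) (.node (.node (.leaf 0) (.leaf 0)) (.node (.leaf 0) (.leaf 0))))) (.node (.node (.node (.node (.leaf 0) (.leaf 0)) (.node (.leaf 0) (.leaf 0))) (.node (.node (.leaf 0) (.leaf 0)) (.node (.leaf 0) (.leaf 0)))) (.node (.node (.node (.leaf 0) (.leaf 0)) (.node (.leaf 0) (.leaf 0))) (.node (.node (.leaf 0) (.leaf 0)) (.node (.leaf 0) (.leaf 0)))))))

/-- A Schreier factor, part 918. -/
def facCodePart918 : Janko1.Tree ℕ := (.node (.node (.node (.node (.node (.node (.leaf 0) (.leaf 0)) (.node (.leaf 0) (.leaf 0))) (.node (.node (.leaf 0) (.leaf 0)) (.node (.leaf 0) (.leaf 0)))) (.node (.node (.node (.leaf 0) (.leaf 0)) (.node (.leaf 0) (.leaf 0))) (.node (.node (.leaf 0) (.leaf 0)) (.node (.leaf 0) (.leaf 0))))) (.node (.node (.node (.node (.leaf 0) (.leaf 0)) (.node (.leaf 0) (.leaf 0))) (.node (.node (.leaf 0) (.leaf 0)) (.node (.leaf 0) (.leaf 0)))) (.node (.node (.node (.leaf 0) (.leaf 0)) (.node (.leaf 0) (.leaf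 0))) (.node (.node (.leaf 0) (.leaf 0)) (.node (.leaf 0) (.leaf 0)))))) (.node (.node (.node (.node (.node (.leaf 0) (.leaf 0)) (.node (.leaf 0) (.leaf 0))) (.node (.node (.leaf 0) (.leaf 0)) (.node (.leaf 0) (.leaf 0)))) (.node (.node (.node (.leaf 0) (.leaf 0)) (.node (.leaf 0) (.leaf 0))) (.node (.node (.leaf 0) (.leaf 0)) (.node (.leaf 0) (.leaf 0))))) (.node (.node (.node (.node (.leaf 0) (.leaf 0)) (.node (.leaf 0) (.leaf 0))) (.node (.node (.leaf 0) (.leaf 0)) (.node (.leaf 0) (.leaf 0)))) (.node (.node (.node (.leaf 0) (.leaf 0)) (.node (.leaf 0) (.leaf 0))) (.node (.node (.leaf 0) (.leaf 0)) (.node (.leaf 0) (.leaf 0)))))))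

/-- A Schreier factor, part 919. -/
def facCodePart919 : Janko1.Tree ℕ := (.node (.node (.node (.node (.node (.node (.leaf 0) (.leaf 0)) (.node (.leaf 0) (.leaf 0))) (.node (.node (.leaf 0) (.leaf 0)) (.node (.leaf 0) (.leaf 0)))) (.node (.node (.node (.leaf 0) (.leaf 0)) (.node (.leaf 0) (.leaf 0))) (.node (.node (.leaf 0) (.leaf 0)) (.node (.leaf 0) (.leaf 0))))) (.node (.node (.node (.node (.leaf 0) (.leaf 0)) (.node (.leaf 0) (.leaf 0))) (.node (.node (.leaf 0) (.leaf 0)) (.node (.leaf 0) (.leaf 0)))) (.node (.node (.node (.leaf 0) (.leaf 0)) (.node (.leaf 0) (.leaf 0))) (.node (.node (.leaf 0) (.leaf 0)) (.node (.leaf 0) (.leaf 0)))))) (.node (.node (.node (.node (.node (.leaf 0) (.leaf 0)) (.node (.leaf 0) (.leaf 0))) (.node (.node (.leaf 0) (.leaf 0)) (.node (.leaf 0) (.leaf 0)))) (.node (.node (.node (.leaf 0) (.leaf 0)) (.node (.leaf 0) (.leaf 0))) (.node (.node (.leaf 0) (.leaf 0)) (.node (.leaf 0) (.leaf 0))))) (.node (.node (.node (.node (.leaf 0) (.leaf 0)) (.node (.leaf 0) (.leaf 0))) (.node (.node (.leaf 0) (.leaf 0)) (.node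 (.leaf 0) (.leaf 0)))) (.node (.node (.node (.leaf 0) (.leaf 0)) (.node (.leaf 0) (.leaf 0))) (.node (.node (.leaf 0) (.leaf 0)) (.node (.leaf 0) (.leaf 0)))))))

/-- A Schreier factor, part 920. -/
def facCodePart920 : Janko1.Tree ℕ := (.node (.node (.node (.node (.node (.node (.leaf 0) (.leaf 0)) (.node (.leaf 0) (.leaf 0))) (.node (.node (.leaf 0) (.leaf 0)) (.node (.leaf 0) (.leaf 0)))) (.node (.node (.node (.leaf 0) (.leaf 0)) (.node (.leaf 0) (.leaf 0))) (.node (.node (.leaf 0) (.leaf 0)) (.node (.leaf 0) (.leaf 0))))) (.node (.node (.node (.node (.leaf 0) (.leaf 0)) (.node (.leaf 0) (.leaf 0))) (.node (.node (.leaf 0) (.leaf 0)) (.node (.leaf 0) (.leaf 0)))) (.node (.node (.node (.leaf 0) (.leaf 0)) (.node (.leaf 0) (.leaf 0))) (.node (.node (.leaf 0) (.leaf 0)) (.node (.leaf 0) (.leaf 0)))))) (.node (.node (.node (.node (.node (.leaf 0) (.leaf 0)) (.node (.leaf 0) (.leaf 0))) (.node (.node (.leaf 0) (.leaf 0)) (.node (.leaf 0) (.leaf 0)))) (.node (.node (.node (.leaf 0) (.leaf 0)) (.node (.leaf 0) (.leaf 0))) (.node (.node (.leaf 0)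 (.leaf 0)) (.node (.leaf 0) (.leaf 0))))) (.node (.node (.node (.node (.leaf 0) (.leaf 0)) (.node (.leaf 0) (.leaf 0))) (.node (.node (.leaf 0) (.leaf 0)) (.node (.leaf 0) (.leaf 0)))) (.node (.node (.node (.leaf 0) (.leaf 0)) (.node (.leaf 0) (.leaf 0))) (.node (.node (.leaf 0) (.leaf 0)) (.node (.leaf 0) (.leaf 0)))))))

/-- A Schreier factor, part 921. -/
def facCodePart921 : Janko1.Tree ℕ := (.node (.node (.node (.node (.node (.node (.leaf 0) (.leaf 0)) (.node (.leaf 0) (.leaf 0))) (.node (.node (.leaf 0) (.leaf 0)) (.node (.leaf 0) (.leaf 0)))) (.node (.node (.node (.leaf 0) (.leaf 0)) (.node (.leaf 0) (.leaf 0))) (.node (.node (.leaf 0) (.leaf 0)) (.node (.leaf 0) (.leaf 0))))) (.node (.node (.node (.node (.leaf 0) (.leaf 0)) (.node (.leaf 0) (.leaf 0))) (.node (.node (.leaf 0) (.leaf 0)) (.node (.leaf 0) (.leaf 0)))) (.node (.node (.node (.leaf 0) (.leaf 0)) (.node (.leaf 0) (.leaf 0))) (.node (.node (.leaf 0) (.leaf 0)) (.node (.leaf 0) (.leaf 0)))))) (.node (.node (.node (.node (.node (.leaf 0) (.leaf 0)) (.node (.leaf 0) (.leaf 0)))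 (.node (.node (.leaf 0) (.leaf 0)) (.node (.leaf 0) (.leaf 0)))) (.node (.node (.node (.leaf 0) (.leaf 0)) (.node (.leaf 0) (.leaf 0))) (.node (.node (.leaf 0) (.leaf 0)) (.node (.leaf 0) (.leaf 0))))) (.node (.node (.node (.node (.leaf 0) (.leaf 0)) (.node (.leaf 0) (.leaf 0))) (.node (.node (.leaf 0) (.leaf 0)) (.node (.leaf 0) (.leaf 0)))) (.node (.node (.node (.leaf 0) (.leaf 0)) (.node (.leaf 0) (.leaf 0))) (.node (.node (.leaf 0) (.leaf 0)) (.node (.leaf 0) (.leaf 0)))))))

/-- A Schreier factor, part 922. -/
def facCodePart922 : Janko1.Tree ℕ := (.node (.node (.node (.node (.node (.node (.leaf 0) (.leaf 0)) (.node (.leaf 0) (.leaf 0))) (.node (.node (.leaf 0) (.leaf 0)) (.node (.leaf 0) (.leaf 0)))) (.node (.node (.node (.leaf 0) (.leaf 0)) (.node (.leaf 0) (.leaf 0))) (.node (.node (.leaf 0) (.leaf 0)) (.node (.leaf 0) (.leaf 0))))) (.node (.node (.node (.node (.leaf 0) (.leaf 0)) (.node (.leaf 0) (.leaf 0))) (.node (.node (.leaf 0) (.leaf 0)) (.node (.leaf 0) (.leaf 0)))) (.node (.node (.node (.leaf 0) (.leaf 0)) (.node (.leaf 0) (.leaf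 0))) (.node (.node (.leaf 0) (.leaf 0)) (.node (.leaf 0) (.leaf 0)))))) (.node (.node (.node (.node (.node (.leaf 0) (.leaf 0)) (.node (.leaf 0) (.leaf 0))) (.node (.node (.leaf 0) (.leaf 0)) (.node (.leaf 0) (.leaf 0)))) (.node (.node (.node (.leaf 0) (.leaf 0)) (.node (.leaf 0) (.leaf 0))) (.node (.node (.leaf 0) (.leaf 0)) (.node (.leaf 0) (.leaf 0))))) (.node (.node (.node (.node (.leaf 0) (.leaf 0)) (.node (.leaf 0) (.leaf 0))) (.node (.node (.leaf 0) (.leaf 0)) (.node (.leaf 0) (.leaf 0)))) (.node (.node (.node (.leaf 0) (.leaf 0)) (.node (.leaf 0) (.leaf 0))) (.node (.node (.leaf 0) (.leaf 0)) (.node (.leaf 0) (.leaf 0)))))))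

/-- A Schreier factor, part 923. -/
def facCodePart923 : Janko1.Tree ℕ := (.node (.node (.node (.node (.node (.node (.leaf 0) (.leaf 0)) (.node (.leaf 0) (.leaf 0))) (.node (.node (.leaf 0) (.leaf 0)) (.node (.leaf 0) (.leaf 0)))) (.node (.node (.node (.leaf 0) (.leaf 0)) (.node (.leaf 0) (.leaf 0))) (.node (.node (.leaf 0) (.leaf 0)) (.node (.leaf 0) (.leaf 0))))) (.node (.node (.node (.node (.leaf 0) (.leaf 0)) (.node (.leaf 0) (.leaf 0))) (.node (.node (.leaf 0) (.leaf 0)) (.node (.leaf 0) (.leaf 0)))) (.node (.node (.node (.leaf 0) (.leaf 0)) (.node (.leaf 0) (.leaf 0))) (.node (.node (.leaf 0) (.leaf 0)) (.node (.leaf 0) (.leaf 0)))))) (.node (.node (.node (.node (.node (.leaf 0) (.leaf 0)) (.node (.leaf 0) (.leaf 0))) (.node (.node (.leaf 0) (.leaf 0)) (.node (.leaf 0) (.leaf 0)))) (.node (.node (.node (.leaf 0) (.leaf 0)) (.node (.leaf 0) (.leaf 0))) (.node (.node (.leaf 0) (.leaf 0)) (.node (.leaf 0) (.leaf 0))))) (.node (.node (.node (.node (.leaf 0) (.leaf 0)) (.node (.leaf 0) (.leaf 0))) (.node (.node (.leaf 0) (.leaf 0)) (.node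 (.leaf 0) (.leaf 0)))) (.node (.node (.node (.leaf 0) (.leaf 0)) (.node (.leaf 0) (.leaf 0))) (.node (.node (.leaf 0) (.leaf 0)) (.node (.leaf 0) (.leaf 0)))))))

/-- A Schreier factor, part 924. -/
def facCodePart924 : Janko1.Tree ℕ := (.node (.node (.node (.node (.node (.node (.leaf 0) (.leaf 0)) (.node (.leaf 0) (.leaf 0))) (.node (.node (.leaf 0) (.leaf 0)) (.node (.leaf 0) (.leaf 0)))) (.node (.node (.node (.leaf 0) (.leaf 0)) (.node (.leaf 0) (.leaf 0))) (.node (.node (.leaf 0) (.leaf 0)) (.node (.leaf 0) (.leaf 0))))) (.node (.node (.node (.node (.leaf 0) (.leaf 0)) (.node (.leaf 0) (.leaf 0))) (.node (.node (.leaf 0) (.leaf 0)) (.node (.leaf 0) (.leaf 0)))) (.node (.node (.node (.leaf 0) (.leaf 0)) (.node (.leaf 0) (.leaf 0))) (.node (.node (.leaf 0) (.leaf 0)) (.node (.leaf 0) (.leaf 0)))))) (.node (.node (.node (.node (.node (.leaf 0) (.leaf 0)) (.node (.leaf 0) (.leaf 0))) (.node (.node (.leaf 0) (.leaf 0)) (.node (.leaf 0) (.leaf 0)))) (.node (.node (.node (.leaf 0) (.leaf 0)) (.node (.leaf 0) (.leaf 0))) (.node (.node (.leaf 0)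 (.leaf 0)) (.node (.leaf 0) (.leaf 0))))) (.node (.node (.node (.node (.leaf 0) (.leaf 0)) (.node (.leaf 0) (.leaf 0))) (.node (.node (.leaf 0) (.leaf 0)) (.node (.leaf 0) (.leaf 0)))) (.node (.node (.node (.leaf 0) (.leaf 0)) (.node (.leaf 0) (.leaf 0))) (.node (.node (.leaf 0) (.leaf 0)) (.node (.leaf 0) (.leaf 0)))))))

/-- A Schreier factor, part 925. -/
def facCodePart925 : Janko1.Tree ℕ := (.node (.node (.node (.node (.node (.node (.leaf 0) (.leaf 0)) (.node (.leaf 0) (.leaf 0))) (.node (.node (.leaf 0) (.leaf 0)) (.node (.leaf 0) (.leaf 0)))) (.node (.node (.node (.leaf 0) (.leaf 0)) (.node (.leaf 0) (.leaf 0))) (.node (.node (.leaf 0) (.leaf 0)) (.node (.leaf 0) (.leaf 0))))) (.node (.node (.node (.node (.leaf 0) (.leaf 0)) (.node (.leaf 0) (.leaf 0))) (.node (.node (.leaf 0) (.leaf 0)) (.node (.leaf 0) (.leaf 0)))) (.node (.node (.node (.leaf 0) (.leaf 0)) (.node (.leaf 0) (.leaf 0))) (.node (.node (.leaf 0) (.leaf 0)) (.node (.leaf 0) (.leaf 0)))))) (.node (.node (.node (.node (.node (.leaf 0) (.leaf 0)) (.node (.leaf 0) (.leaf 0)))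 (.node (.node (.leaf 0) (.leaf 0)) (.node (.leaf 0) (.leaf 0)))) (.node (.node (.node (.leaf 0) (.leaf 0)) (.node (.leaf 0) (.leaf 0))) (.node (.node (.leaf 0) (.leaf 0)) (.node (.leaf 0) (.leaf 0))))) (.node (.node (.node (.node (.leaf 0) (.leaf 0)) (.node (.leaf 0) (.leaf 0))) (.node (.node (.leaf 0) (.leaf 0)) (.node (.leaf 0) (.leaf 0)))) (.node (.node (.node (.leaf 0) (.leaf 0)) (.node (.leaf 0) (.leaf 0))) (.node (.node (.leaf 0) (.leaf 0)) (.node (.leaf 0) (.leaf 0)))))))

/-- A Schreier factor, part 926. -/
def facCodePart926 : Janko1.Tree ℕ := (.node (.node (.node (.node (.node (.node (.leaf 0) (.leaf 0)) (.node (.leaf 0) (.leaf 0))) (.node (.node (.leaf 0) (.leaf 0)) (.node (.leaf 0) (.leaf 0)))) (.node (.node (.node (.leaf 0) (.leaf 0)) (.node (.leaf 0) (.leaf 0))) (.node (.node (.leaf 0) (.leaf 0)) (.node (.leaf 0) (.leaf 0))))) (.node (.node (.node (.node (.leaf 0) (.leaf 0)) (.node (.leaf 0) (.leaf 0))) (.node (.node (.leaf 0) (.leaf 0)) (.node (.leaf 0) (.leaf 0)))) (.node (.node (.node (.leaf 0) (.leaf 0)) (.node (.leaf 0) (.leaf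 0))) (.node (.node (.leaf 0) (.leaf 0)) (.node (.leaf 0) (.leaf 0)))))) (.node (.node (.node (.node (.node (.leaf 0) (.leaf 0)) (.node (.leaf 0) (.leaf 0))) (.node (.node (.leaf 0) (.leaf 0)) (.node (.leaf 0) (.leaf 0)))) (.node (.node (.node (.leaf 0) (.leaf 0)) (.node (.leaf 0) (.leaf 0))) (.node (.node (.leaf 0) (.leaf 0)) (.node (.leaf 0) (.leaf 0))))) (.node (.node (.node (.node (.leaf 0) (.leaf 0)) (.node (.leaf 0) (.leaf 0))) (.node (.node (.leaf 0) (.leaf 0)) (.node (.leaf 0) (.leaf 0)))) (.node (.node (.node (.leaf 0) (.leaf 0)) (.node (.leaf 0) (.leaf 0))) (.node (.node (.leaf 0) (.leaf 0)) (.node (.leaf 0) (.leaf 0)))))))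

/-- A Schreier factor, part 927. -/
def facCodePart927 : Janko1.Tree ℕ := (.node (.node (.node (.node (.node (.node (.leaf 0) (.leaf 0)) (.node (.leaf 0) (.leaf 0))) (.node (.node (.leaf 0) (.leaf 0)) (.node (.leaf 0) (.leaf 0)))) (.node (.node (.node (.leaf 0) (.leaf 0)) (.node (.leaf 0) (.leaf 0))) (.node (.node (.leaf 0) (.leaf 0)) (.node (.leaf 0) (.leaf 0))))) (.node (.node (.node (.node (.leaf 0) (.leaf 0)) (.node (.leaf 0) (.leaf 0))) (.node (.node (.leaf 0) (.leaf 0)) (.node (.leaf 0) (.leaf 0)))) (.node (.node (.node (.leaf 0) (.leaf 0)) (.node (.leaf 0) (.leaf 0))) (.node (.node (.leaf 0) (.leaf 0)) (.node (.leaf 0) (.leaf 0)))))) (.node (.node (.node (.node (.node (.leaf 0) (.leaf 0)) (.node (.leaf 0) (.leaf 0))) (.node (.node (.leaf 0) (.leaf 0)) (.node (.leaf 0) (.leaf 0)))) (.node (.node (.node (.leaf 0) (.leaf 0)) (.node (.leaf 0) (.leaf 0))) (.node (.node (.leaf 0) (.leaf 0)) (.node (.leaf 0) (.leaf 0))))) (.node (.node (.node (.node (.leaf 0) (.leaf 0)) (.node (.leaf 0) (.leaf 0))) (.node (.node (.leaf 0) (.leaf 0)) (.node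 (.leaf 0) (.leaf 0)))) (.node (.node (.node (.leaf 0) (.leaf 0)) (.node (.leaf 0) (.leaf 0))) (.node (.node (.leaf 0) (.leaf 0)) (.node (.leaf 0) (.leaf 0)))))))

/-- A Schreier factor, part 928. -/
def facCodePart928 : Janko1.Tree ℕ := (.node (.node (.node (.node (.node (.node (.leaf 0) (.leaf 0)) (.node (.leaf 0) (.leaf 0))) (.node (.node (.leaf 0) (.leaf 0)) (.node (.leaf 0) (.leaf 0)))) (.node (.node (.node (.leaf 0) (.leaf 0)) (.node (.leaf 0) (.leaf 0))) (.node (.node (.leaf 0) (.leaf 0)) (.node (.leaf 0) (.leaf 0))))) (.node (.node (.node (.node (.leaf 0) (.leaf 0)) (.node (.leaf 0) (.leaf 0))) (.node (.node (.leaf 0) (.leaf 0)) (.node (.leaf 0) (.leaf 0)))) (.node (.node (.node (.leaf 0) (.leaf 0)) (.node (.leaf 0) (.leaf 0))) (.node (.node (.leaf 0) (.leaf 0)) (.node (.leaf 0) (.leaf 0)))))) (.node (.node (.node (.node (.node (.leaf 0) (.leaf 0)) (.node (.leaf 0) (.leaf 0))) (.node (.node (.leaf 0) (.leaf 0)) (.node (.leaf 0) (.leaf 0)))) (.node (.node (.node (.leaf 0) (.leaf 0)) (.node (.leaf 0) (.leaf 0))) (.node (.node (.leaf 0)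 (.leaf 0)) (.node (.leaf 0) (.leaf 0))))) (.node (.node (.node (.node (.leaf 0) (.leaf 0)) (.node (.leaf 0) (.leaf 0))) (.node (.node (.leaf 0) (.leaf 0)) (.node (.leaf 0) (.leaf 0)))) (.node (.node (.node (.leaf 0) (.leaf 0)) (.node (.leaf 0) (.leaf 0))) (.node (.node (.leaf 0) (.leaf 0)) (.node (.leaf 0) (.leaf 0)))))))

/-- A Schreier factor, part 929. -/
def facCodePart929 : Janko1.Tree ℕ := (.node (.node (.node (.node (.node (.node (.leaf 0) (.leaf 0)) (.node (.leaf 0) (.leaf 0))) (.node (.node (.leaf 0) (.leaf 0)) (.node (.leaf 0) (.leaf 0)))) (.node (.node (.node (.leaf 0) (.leaf 0)) (.node (.leaf 0) (.leaf 0))) (.node (.node (.leaf 0) (.leaf 0)) (.node (.leaf 0) (.leaf 0))))) (.node (.node (.node (.node (.leaf 0) (.leaf 0)) (.node (.leaf 0) (.leaf 0))) (.node (.node (.leaf 0) (.leaf 0)) (.node (.leaf 0) (.leaf 0)))) (.node (.node (.node (.leaf 0) (.leaf 0)) (.node (.leaf 0) (.leaf 0))) (.node (.node (.leaf 0) (.leaf 0)) (.node (.leaf 0) (.leaf 0)))))) (.node (.node (.node (.node (.node (.leaf 0) (.leaf 0)) (.node (.leaf 0) (.leaf 0)))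 (.node (.node (.leaf 0) (.leaf 0)) (.node (.leaf 0) (.leaf 0)))) (.node (.node (.node (.leaf 0) (.leaf 0)) (.node (.leaf 0) (.leaf 0))) (.node (.node (.leaf 0) (.leaf 0)) (.node (.leaf 0) (.leaf 0))))) (.node (.node (.node (.node (.leaf 0) (.leaf 0)) (.node (.leaf 0) (.leaf 0))) (.node (.node (.leaf 0) (.leaf 0)) (.node (.leaf 0) (.leaf 0)))) (.node (.node (.node (.leaf 0) (.leaf 0)) (.node (.leaf 0) (.leaf 0))) (.node (.node (.leaf 0) (.leaf 0)) (.node (.leaf 0) (.leaf 0)))))))

/-- A Schreier factor, part 930. -/
def facCodePart930 : Janko1.Tree ℕ := (.node (.node (.node (.node (.node (.node (.leaf 0) (.leaf 0)) (.node (.leaf 0) (.leaf 0))) (.node (.node (.leaf 0) (.leaf 0)) (.node (.leaf 0) (.leaf 0)))) (.node (.node (.node (.leaf 0) (.leaf 0)) (.node (.leaf 0) (.leaf 0))) (.node (.node (.leaf 0) (.leaf 0)) (.node (.leaf 0) (.leaf 0))))) (.node (.node (.node (.node (.leaf 0) (.leaf 0)) (.node (.leaf 0) (.leaf 0))) (.node (.node (.leaf 0) (.leaf 0)) (.node (.leaf 0) (.leaf 0)))) (.node (.node (.node (.leaf 0) (.leaf 0)) (.node (.leaf 0) (.leaf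 0))) (.node (.node (.leaf 0) (.leaf 0)) (.node (.leaf 0) (.leaf 0)))))) (.node (.node (.node (.node (.node (.leaf 0) (.leaf 0)) (.node (.leaf 0) (.leaf 0))) (.node (.node (.leaf 0) (.leaf 0)) (.node (.leaf 0) (.leaf 0)))) (.node (.node (.node (.leaf 0) (.leaf 0)) (.node (.leaf 0) (.leaf 0))) (.node (.node (.leaf 0) (.leaf 0)) (.node (.leaf 0) (.leaf 0))))) (.node (.node (.node (.node (.leaf 0) (.leaf 0)) (.node (.leaf 0) (.leaf 0))) (.node (.node (.leaf 0) (.leaf 0)) (.node (.leaf 0) (.leaf 0)))) (.node (.node (.node (.leaf 0) (.leaf 0)) (.node (.leaf 0) (.leaf 0))) (.node (.node (.leaf 0) (.leaf 0)) (.node (.leaf 0) (.leaf 0)))))))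

/-- A Schreier factor, part 931. -/
def facCodePart931 : Janko1.Tree ℕ := (.node (.node (.node (.node (.node (.node (.leaf 0) (.leaf 0)) (.node (.leaf 0) (.leaf 0))) (.node (.node (.leaf 0) (.leaf 0)) (.node (.leaf 0) (.leaf 0)))) (.node (.node (.node (.leaf 0) (.leaf 0)) (.node (.leaf 0) (.leaf 0))) (.node (.node (.leaf 0) (.leaf 0)) (.node (.leaf 0) (.leaf 0))))) (.node (.node (.node (.node (.leaf 0) (.leaf 0)) (.node (.leaf 0) (.leaf 0))) (.node (.node (.leaf 0) (.leaf 0)) (.node (.leaf 0) (.leaf 0)))) (.node (.node (.node (.leaf 0) (.leaf 0)) (.node (.leaf 0) (.leaf 0))) (.node (.node (.leaf 0) (.leaf 0)) (.node (.leaf 0) (.leaf 0)))))) (.node (.node (.node (.node (.node (.leaf 0) (.leaf 0)) (.node (.leaf 0) (.leaf 0))) (.node (.node (.leaf 0) (.leaf 0)) (.node (.leaf 0) (.leaf 0)))) (.node (.node (.node (.leaf 0) (.leaf 0)) (.node (.leaf 0) (.leaf 0))) (.node (.node (.leaf 0) (.leaf 0)) (.node (.leaf 0) (.leaf 0))))) (.node (.node (.node (.node (.leaf 0) (.leaf 0)) (.node (.leaf 0) (.leaf 0))) (.node (.node (.leaf 0) (.leaf 0)) (.node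 (.leaf 0) (.leaf 0)))) (.node (.node (.node (.leaf 0) (.leaf 0)) (.node (.leaf 0) (.leaf 0))) (.node (.node (.leaf 0) (.leaf 0)) (.node (.leaf 0) (.leaf 0)))))))

/-- A Schreier factor, part 932. -/
def facCodePart932 : Janko1.Tree ℕ := (.node (.node (.node (.node (.node (.node (.leaf 0) (.leaf 0)) (.node (.leaf 0) (.leaf 0))) (.node (.node (.leaf 0) (.leaf 0)) (.node (.leaf 0) (.leaf 0)))) (.node (.node (.node (.leaf 0) (.leaf 0)) (.node (.leaf 0) (.leaf 0))) (.node (.node (.leaf 0) (.leaf 0)) (.node (.leaf 0) (.leaf 0))))) (.node (.node (.node (.node (.leaf 0) (.leaf 0)) (.node (.leaf 0) (.leaf 0))) (.node (.node (.leaf 0) (.leaf 0)) (.node (.leaf 0) (.leaf 0)))) (.node (.node (.node (.leaf 0) (.leaf 0)) (.node (.leaf 0) (.leaf 0))) (.node (.node (.leaf 0) (.leaf 0)) (.node (.leaf 0) (.leaf 0)))))) (.node (.node (.node (.node (.node (.leaf 0) (.leaf 0)) (.node (.leaf 0) (.leaf 0))) (.node (.node (.leaf 0) (.leaf 0)) (.node (.leaf 0) (.leaf 0)))) (.node (.node (.node (.leaf 0) (.leaf 0)) (.node (.leaf 0) (.leaf 0))) (.node (.node (.leaf 0)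 (.leaf 0)) (.node (.leaf 0) (.leaf 0))))) (.node (.node (.node (.node (.leaf 0) (.leaf 0)) (.node (.leaf 0) (.leaf 0))) (.node (.node (.leaf 0) (.leaf 0)) (.node (.leaf 0) (.leaf 0)))) (.node (.node (.node (.leaf 0) (.leaf 0)) (.node (.leaf 0) (.leaf 0))) (.node (.node (.leaf 0) (.leaf 0)) (.node (.leaf 0) (.leaf 0)))))))

/-- A Schreier factor, part 933. -/
def facCodePart933 : Janko1.Tree ℕ := (.node (.node (.node (.node (.node (.node (.leaf 0) (.leaf 0)) (.node (.leaf 0) (.leaf 0))) (.node (.node (.leaf 0) (.leaf 0)) (.node (.leaf 0) (.leaf 0)))) (.node (.node (.node (.leaf 0) (.leaf 0)) (.node (.leaf 0) (.leaf 0))) (.node (.node (.leaf 0) (.leaf 0)) (.node (.leaf 0) (.leaf 0))))) (.node (.node (.node (.node (.leaf 0) (.leaf 0)) (.node (.leaf 0) (.leaf 0))) (.node (.node (.leaf 0) (.leaf 0)) (.node (.leaf 0) (.leaf 0)))) (.node (.node (.node (.leaf 0) (.leaf 0)) (.node (.leaf 0) (.leaf 0))) (.node (.node (.leaf 0) (.leaf 0)) (.node (.leaf 0) (.leaf 0)))))) (.node (.node (.node (.node (.node (.leaf 0) (.leaf 0)) (.node (.leaf 0) (.leaf 0)))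 (.node (.node (.leaf 0) (.leaf 0)) (.node (.leaf 0) (.leaf 0)))) (.node (.node (.node (.leaf 0) (.leaf 0)) (.node (.leaf 0) (.leaf 0))) (.node (.node (.leaf 0) (.leaf 0)) (.node (.leaf 0) (.leaf 0))))) (.node (.node (.node (.node (.leaf 0) (.leaf 0)) (.node (.leaf 0) (.leaf 0))) (.node (.node (.leaf 0) (.leaf 0)) (.node (.leaf 0) (.leaf 0)))) (.node (.node (.node (.leaf 0) (.leaf 0)) (.node (.leaf 0) (.leaf 0))) (.node (.node (.leaf 0) (.leaf 0)) (.node (.leaf 0) (.leaf 0)))))))

/-- A Schreier factor, part 934. -/
def facCodePart934 : Janko1.Tree ℕ := (.node (.node (.node (.node (.node (.node (.leaf 0) (.leaf 0)) (.node (.leaf 0) (.leaf 0))) (.node (.node (.leaf 0) (.leaf 0)) (.node (.leaf 0) (.leaf 0)))) (.node (.node (.node (.leaf 0) (.leaf 0)) (.node (.leaf 0) (.leaf 0))) (.node (.node (.leaf 0) (.leaf 0)) (.node (.leaf 0) (.leaf 0))))) (.node (.node (.node (.node (.leaf 0) (.leaf 0)) (.node (.leaf 0) (.leaf 0))) (.node (.node (.leaf 0) (.leaf 0)) (.node (.leaf 0) (.leaf 0)))) (.node (.node (.node (.leaf 0) (.leaf 0)) (.node (.leaf 0) (.leaf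 0))) (.node (.node (.leaf 0) (.leaf 0)) (.node (.leaf 0) (.leaf 0)))))) (.node (.node (.node (.node (.node (.leaf 0) (.leaf 0)) (.node (.leaf 0) (.leaf 0))) (.node (.node (.leaf 0) (.leaf 0)) (.node (.leaf 0) (.leaf 0)))) (.node (.node (.node (.leaf 0) (.leaf 0)) (.node (.leaf 0) (.leaf 0))) (.node (.node (.leaf 0) (.leaf 0)) (.node (.leaf 0) (.leaf 0))))) (.node (.node (.node (.node (.leaf 0) (.leaf 0)) (.node (.leaf 0) (.leaf 0))) (.node (.node (.leaf 0) (.leaf 0)) (.node (.leaf 0) (.leaf 0)))) (.node (.node (.node (.leaf 0) (.leaf 0)) (.node (.leaf 0) (.leaf 0))) (.node (.node (.leaf 0) (.leaf 0)) (.node (.leaf 0) (.leaf 0)))))))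

/-- A Schreier factor, part 935. -/
def facCodePart935 : Janko1.Tree ℕ := (.node (.node (.node (.node (.node (.node (.leaf 0) (.leaf 0)) (.node (.leaf 0) (.leaf 0))) (.node (.node (.leaf 0) (.leaf 0)) (.node (.leaf 0) (.leaf 0)))) (.node (.node (.node (.leaf 0) (.leaf 0)) (.node (.leaf 0) (.leaf 0))) (.node (.node (.leaf 0) (.leaf 0)) (.node (.leaf 0) (.leaf 0))))) (.node (.node (.node (.node (.leaf 0) (.leaf 0)) (.node (.leaf 0) (.leaf 0))) (.node (.node (.leaf 0) (.leaf 0)) (.node (.leaf 0) (.leaf 0)))) (.node (.node (.node (.leaf 0) (.leaf 0)) (.node (.leaf 0) (.leaf 0))) (.node (.node (.leaf 0) (.leaf 0)) (.node (.leaf 0) (.leaf 0)))))) (.node (.node (.node (.node (.node (.leaf 0) (.leaf 0)) (.node (.leaf 0) (.leaf 0))) (.node (.node (.leaf 0) (.leaf 0)) (.node (.leaf 0) (.leaf 0)))) (.node (.node (.node (.leaf 0) (.leaf 0)) (.node (.leaf 0) (.leaf 0))) (.node (.node (.leaf 0) (.leaf 0)) (.node (.leaf 0) (.leaf 0))))) (.node (.node (.node (.node (.leaf 0) (.leaf 0)) (.node (.leaf 0) (.leaf 0))) (.node (.node (.leaf 0) (.leaf 0)) (.node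 (.leaf 0) (.leaf 0)))) (.node (.node (.node (.leaf 0) (.leaf 0)) (.node (.leaf 0) (.leaf 0))) (.node (.node (.leaf 0) (.leaf 0)) (.node (.leaf 0) (.leaf 0)))))))

/-- A Schreier factor, part 936. -/
def facCodePart936 : Janko1.Tree ℕ := (.node (.node (.node (.node (.node (.node (.leaf 0) (.leaf 0)) (.node (.leaf 0) (.leaf 0))) (.node (.node (.leaf 0) (.leaf 0)) (.node (.leaf 0) (.leaf 0)))) (.node (.node (.node (.leaf 0) (.leaf 0)) (.node (.leaf 0) (.leaf 0))) (.node (.node (.leaf 0) (.leaf 0)) (.node (.leaf 0) (.leaf 0))))) (.node (.node (.node (.node (.leaf 0) (.leaf 0)) (.node (.leaf 0) (.leaf 0))) (.node (.node (.leaf 0) (.leaf 0)) (.node (.leaf 0) (.leaf 0)))) (.node (.node (.node (.leaf 0) (.leaf 0)) (.node (.leaf 0) (.leaf 0))) (.node (.node (.leaf 0) (.leaf 0)) (.node (.leaf 0) (.leaf 0)))))) (.node (.node (.node (.node (.node (.leaf 0) (.leaf 0)) (.node (.leaf 0) (.leaf 0))) (.node (.node (.leaf 0) (.leaf 0)) (.node (.leaf 0) (.leaf 0)))) (.node (.node (.node (.leaf 0) (.leaf 0)) (.node (.leaf 0) (.leaf 0))) (.node (.node (.leaf 0)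 (.leaf 0)) (.node (.leaf 0) (.leaf 0))))) (.node (.node (.node (.node (.leaf 0) (.leaf 0)) (.node (.leaf 0) (.leaf 0))) (.node (.node (.leaf 0) (.leaf 0)) (.node (.leaf 0) (.leaf 0)))) (.node (.node (.node (.leaf 0) (.leaf 0)) (.node (.leaf 0) (.leaf 0))) (.node (.node (.leaf 0) (.leaf 0)) (.node (.leaf 0) (.leaf 0)))))))

/-- A Schreier factor, part 937. -/
def facCodePart937 : Janko1.Tree ℕ := (.node (.node (.node (.node (.node (.node (.leaf 0) (.leaf 0)) (.node (.leaf 0) (.leaf 0))) (.node (.node (.leaf 0) (.leaf 0)) (.node (.leaf 0) (.leaf 0)))) (.node (.node (.node (.leaf 0) (.leaf 0)) (.node (.leaf 0) (.leaf 0))) (.node (.node (.leaf 0) (.leaf 0)) (.node (.leaf 0) (.leaf 0))))) (.node (.node (.node (.node (.leaf 0) (.leaf 0)) (.node (.leaf 0) (.leaf 0))) (.node (.node (.leaf 0) (.leaf 0)) (.node (.leaf 0) (.leaf 0)))) (.node (.node (.node (.leaf 0) (.leaf 0)) (.node (.leaf 0) (.leaf 0))) (.node (.node (.leaf 0) (.leaf 0)) (.node (.leaf 0) (.leaf 0)))))) (.node (.node (.node (.node (.node (.leaf 0) (.leaf 0)) (.node (.leaf 0) (.leaf 0)))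 (.node (.node (.leaf 0) (.leaf 0)) (.node (.leaf 0) (.leaf 0)))) (.node (.node (.node (.leaf 0) (.leaf 0)) (.node (.leaf 0) (.leaf 0))) (.node (.node (.leaf 0) (.leaf 0)) (.node (.leaf 0) (.leaf 0))))) (.node (.node (.node (.node (.leaf 0) (.leaf 0)) (.node (.leaf 0) (.leaf 0))) (.node (.node (.leaf 0) (.leaf 0)) (.node (.leaf 0) (.leaf 0)))) (.node (.node (.node (.leaf 0) (.leaf 0)) (.node (.leaf 0) (.leaf 0))) (.node (.node (.leaf 0) (.leaf 0)) (.node (.leaf 0) (.leaf 0)))))))

/-- A Schreier factor, part 938. -/
def facCodePart938 : Janko1.Tree ℕ := (.node (.node (.node (.node (.node (.node (.leaf 0) (.leaf 0)) (.node (.leaf 0) (.leaf 0))) (.node (.node (.leaf 0) (.leaf 0)) (.node (.leaf 0) (.leaf 0)))) (.node (.node (.node (.leaf 0) (.leaf 0)) (.node (.leaf 0) (.leaf 0))) (.node (.node (.leaf 0) (.leaf 0)) (.node (.leaf 0) (.leaf 0))))) (.node (.node (.node (.node (.leaf 0) (.leaf 0)) (.node (.leaf 0) (.leaf 0))) (.node (.node (.leaf 0) (.leaf 0)) (.node (.leaf 0) (.leaf 0)))) (.node (.node (.node (.leaf 0) (.leaf 0)) (.node (.leaf 0) (.leaf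 0))) (.node (.node (.leaf 0) (.leaf 0)) (.node (.leaf 0) (.leaf 0)))))) (.node (.node (.node (.node (.node (.leaf 0) (.leaf 0)) (.node (.leaf 0) (.leaf 0))) (.node (.node (.leaf 0) (.leaf 0)) (.node (.leaf 0) (.leaf 0)))) (.node (.node (.node (.leaf 0) (.leaf 0)) (.node (.leaf 0) (.leaf 0))) (.node (.node (.leaf 0) (.leaf 0)) (.node (.leaf 0) (.leaf 0))))) (.node (.node (.node (.node (.leaf 0) (.leaf 0)) (.node (.leaf 0) (.leaf 0))) (.node (.node (.leaf 0) (.leaf 0)) (.node (.leaf 0) (.leaf 0)))) (.node (.node (.node (.leaf 0) (.leaf 0)) (.node (.leaf 0) (.leaf 0))) (.node (.node (.leaf 0) (.leaf 0)) (.node (.leaf 0) (.leaf 0)))))))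

/-- A Schreier factor, part 939. -/
def facCodePart939 : Janko1.Tree ℕ := (.node (.node (.node (.node (.node (.node (.leaf 0) (.leaf 0)) (.node (.leaf 0) (.leaf 0))) (.node (.node (.leaf 0) (.leaf 0)) (.node (.leaf 0) (.leaf 0)))) (.node (.node (.node (.leaf 0) (.leaf 0)) (.node (.leaf 0) (.leaf 0))) (.node (.node (.leaf 0) (.leaf 0)) (.node (.leaf 0) (.leaf 0))))) (.node (.node (.node (.node (.leaf 0) (.leaf 0)) (.node (.leaf 0) (.leaf 0))) (.node (.node (.leaf 0) (.leaf 0)) (.node (.leaf 0) (.leaf 0)))) (.node (.node (.node (.leaf 0) (.leaf 0)) (.node (.leaf 0) (.leaf 0))) (.node (.node (.leaf 0) (.leaf 0)) (.node (.leaf 0) (.leaf 0)))))) (.node (.node (.node (.node (.node (.leaf 0) (.leaf 0)) (.node (.leaf 0) (.leaf 0))) (.node (.node (.leaf 0) (.leaf 0)) (.node (.leaf 0) (.leaf 0)))) (.node (.node (.node (.leaf 0) (.leaf 0)) (.node (.leaf 0) (.leaf 0))) (.node (.node (.leaf 0) (.leaf 0)) (.node (.leaf 0) (.leaf 0))))) (.node (.node (.node (.node (.leaf 0) (.leaf 0)) (.node (.leaf 0) (.leaf 0))) (.node (.node (.leaf 0) (.leaf 0)) (.node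 (.leaf 0) (.leaf 0)))) (.node (.node (.node (.leaf 0) (.leaf 0)) (.node (.leaf 0) (.leaf 0))) (.node (.node (.leaf 0) (.leaf 0)) (.node (.leaf 0) (.leaf 0)))))))

/-- A Schreier factor, part 940. -/
def facCodePart940 : Janko1.Tree ℕ := (.node (.node (.node (.node (.node (.node (.leaf 0) (.leaf 0)) (.node (.leaf 0) (.leaf 0))) (.node (.node (.leaf 0) (.leaf 0)) (.node (.leaf 0) (.leaf 0)))) (.node (.node (.node (.leaf 0) (.leaf 0)) (.node (.leaf 0) (.leaf 0))) (.node (.node (.leaf 0) (.leaf 0)) (.node (.leaf 0) (.leaf 0))))) (.node (.node (.node (.node (.leaf 0) (.leaf 0)) (.node (.leaf 0) (.leaf 0))) (.node (.node (.leaf 0) (.leaf 0)) (.node (.leaf 0) (.leaf 0)))) (.node (.node (.node (.leaf 0) (.leaf 0)) (.node (.leaf 0) (.leaf 0))) (.node (.node (.leaf 0) (.leaf 0)) (.node (.leaf 0) (.leaf 0)))))) (.node (.node (.node (.node (.node (.leaf 0) (.leaf 0)) (.node (.leaf 0) (.leaf 0))) (.node (.node (.leaf 0) (.leaf 0)) (.node (.leaf 0) (.leaf 0)))) (.node (.node (.node (.leaf 0) (.leaf 0)) (.node (.leaf 0) (.leaf 0))) (.node (.node (.leaf 0)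 (.leaf 0)) (.node (.leaf 0) (.leaf 0))))) (.node (.node (.node (.node (.leaf 0) (.leaf 0)) (.node (.leaf 0) (.leaf 0))) (.node (.node (.leaf 0) (.leaf 0)) (.node (.leaf 0) (.leaf 0)))) (.node (.node (.node (.leaf 0) (.leaf 0)) (.node (.leaf 0) (.leaf 0))) (.node (.node (.leaf 0) (.leaf 0)) (.node (.leaf 0) (.leaf 0)))))))

/-- A Schreier factor, part 941. -/
def facCodePart941 : Janko1.Tree ℕ := (.node (.node (.node (.node (.node (.node (.leaf 0) (.leaf 0)) (.node (.leaf 0) (.leaf 0))) (.node (.node (.leaf 0) (.leaf 0)) (.node (.leaf 0) (.leaf 0)))) (.node (.node (.node (.leaf 0) (.leaf 0)) (.node (.leaf 0) (.leaf 0))) (.node (.node (.leaf 0) (.leaf 0)) (.node (.leaf 0) (.leaf 0))))) (.node (.node (.node (.node (.leaf 0) (.leaf 0)) (.node (.leaf 0) (.leaf 0))) (.node (.node (.leaf 0) (.leaf 0)) (.node (.leaf 0) (.leaf 0)))) (.node (.node (.node (.leaf 0) (.leaf 0)) (.node (.leaf 0) (.leaf 0))) (.node (.node (.leaf 0) (.leaf 0)) (.node (.leaf 0) (.leaf 0)))))) (.node (.node (.node (.node (.node (.leaf 0) (.leaf 0)) (.node (.leaf 0) (.leaf 0)))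 (.node (.node (.leaf 0) (.leaf 0)) (.node (.leaf 0) (.leaf 0)))) (.node (.node (.node (.leaf 0) (.leaf 0)) (.node (.leaf 0) (.leaf 0))) (.node (.node (.leaf 0) (.leaf 0)) (.node (.leaf 0) (.leaf 0))))) (.node (.node (.node (.node (.leaf 0) (.leaf 0)) (.node (.leaf 0) (.leaf 0))) (.node (.node (.leaf 0) (.leaf 0)) (.node (.leaf 0) (.leaf 0)))) (.node (.node (.node (.leaf 0) (.leaf 0)) (.node (.leaf 0) (.leaf 0))) (.node (.node (.leaf 0) (.leaf 0)) (.node (.leaf 0) (.leaf 0)))))))

/-- A Schreier factor, part 942. -/
def facCodePart942 : Janko1.Tree ℕ := (.node (.node (.node (.node (.node (.node (.leaf 0) (.leaf 0)) (.node (.leaf 0) (.leaf 0))) (.node (.node (.leaf 0) (.leaf 0)) (.node (.leaf 0) (.leaf 0)))) (.node (.node (.node (.leaf 0) (.leaf 0)) (.node (.leaf 0) (.leaf 0))) (.node (.node (.leaf 0) (.leaf 0)) (.node (.leaf 0) (.leaf 0))))) (.node (.node (.node (.node (.leaf 0) (.leaf 0)) (.node (.leaf 0) (.leaf 0))) (.node (.node (.leaf 0) (.leaf 0)) (.node (.leaf 0) (.leaf 0)))) (.node (.node (.node (.leaf 0) (.leaf 0)) (.node (.leaf 0) (.leaf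 0))) (.node (.node (.leaf 0) (.leaf 0)) (.node (.leaf 0) (.leaf 0)))))) (.node (.node (.node (.node (.node (.leaf 0) (.leaf 0)) (.node (.leaf 0) (.leaf 0))) (.node (.node (.leaf 0) (.leaf 0)) (.node (.leaf 0) (.leaf 0)))) (.node (.node (.node (.leaf 0) (.leaf 0)) (.node (.leaf 0) (.leaf 0))) (.node (.node (.leaf 0) (.leaf 0)) (.node (.leaf 0) (.leaf 0))))) (.node (.node (.node (.node (.leaf 0) (.leaf 0)) (.node (.leaf 0) (.leaf 0))) (.node (.node (.leaf 0) (.leaf 0)) (.node (.leaf 0) (.leaf 0)))) (.node (.node (.node (.leaf 0) (.leaf 0)) (.node (.leaf 0) (.leaf 0))) (.node (.node (.leaf 0) (.leaf 0)) (.node (.leaf 0) (.leaf 0)))))))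

/-- A Schreier factor, part 943. -/
def facCodePart943 : Janko1.Tree ℕ := (.node (.node (.node (.node (.node (.node (.leaf 0) (.leaf 0)) (.node (.leaf 0) (.leaf 0))) (.node (.node (.leaf 0) (.leaf 0)) (.node (.leaf 0) (.leaf 0)))) (.node (.node (.node (.leaf 0) (.leaf 0)) (.node (.leaf 0) (.leaf 0))) (.node (.node (.leaf 0) (.leaf 0)) (.node (.leaf 0) (.leaf 0))))) (.node (.node (.node (.node (.leaf 0) (.leaf 0)) (.node (.leaf 0) (.leaf 0))) (.node (.node (.leaf 0) (.leaf 0)) (.node (.leaf 0) (.leaf 0)))) (.node (.node (.node (.leaf 0) (.leaf 0)) (.node (.leaf 0) (.leaf 0))) (.node (.node (.leaf 0) (.leaf 0)) (.node (.leaf 0) (.leaf 0)))))) (.node (.node (.node (.node (.node (.leaf 0) (.leaf 0)) (.node (.leaf 0) (.leaf 0))) (.node (.node (.leaf 0) (.leaf 0)) (.node (.leaf 0) (.leaf 0)))) (.node (.node (.node (.leaf 0) (.leaf 0)) (.node (.leaf 0) (.leaf 0))) (.node (.node (.leaf 0) (.leaf 0)) (.node (.leaf 0) (.leaf 0))))) (.node (.node (.node (.node (.leaf 0) (.leaf 0)) (.node (.leaf 0) (.leaf 0))) (.node (.node (.leaf 0) (.leaf 0)) (.node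 (.leaf 0) (.leaf 0)))) (.node (.node (.node (.leaf 0) (.leaf 0)) (.node (.leaf 0) (.leaf 0))) (.node (.node (.leaf 0) (.leaf 0)) (.node (.leaf 0) (.leaf 0)))))))

/-- A Schreier factor, part 944. -/
def facCodePart944 : Janko1.Tree ℕ := (.node (.node (.node (.node (.node (.node (.leaf 0) (.leaf 0)) (.node (.leaf 0) (.leaf 0))) (.node (.node (.leaf 0) (.leaf 0)) (.node (.leaf 0) (.leaf 0)))) (.node (.node (.node (.leaf 0) (.leaf 0)) (.node (.leaf 0) (.leaf 0))) (.node (.node (.leaf 0) (.leaf 0)) (.node (.leaf 0) (.leaf 0))))) (.node (.node (.node (.node (.leaf 0) (.leaf 0)) (.node (.leaf 0) (.leaf 0))) (.node (.node (.leaf 0) (.leaf 0)) (.node (.leaf 0) (.leaf 0)))) (.node (.node (.node (.leaf 0) (.leaf 0)) (.node (.leaf 0) (.leaf 0))) (.node (.node (.leaf 0) (.leaf 0)) (.node (.leaf 0) (.leaf 0)))))) (.node (.node (.node (.node (.node (.leaf 0) (.leaf 0)) (.node (.leaf 0) (.leaf 0))) (.node (.node (.leaf 0) (.leaf 0)) (.node (.leaf 0) (.leaf 0)))) (.node (.node (.node (.leaf 0) (.leaf 0)) (.node (.leaf 0) (.leaf 0))) (.node (.node (.leaf 0)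 (.leaf 0)) (.node (.leaf 0) (.leaf 0))))) (.node (.node (.node (.node (.leaf 0) (.leaf 0)) (.node (.leaf 0) (.leaf 0))) (.node (.node (.leaf 0) (.leaf 0)) (.node (.leaf 0) (.leaf 0)))) (.node (.node (.node (.leaf 0) (.leaf 0)) (.node (.leaf 0) (.leaf 0))) (.node (.node (.leaf 0) (.leaf 0)) (.node (.leaf 0) (.leaf 0)))))))

/-- A Schreier factor, part 945. -/
def facCodePart945 : Janko1.Tree ℕ := (.node (.node (.node (.node (.node (.node (.leaf 0) (.leaf 0)) (.node (.leaf 0) (.leaf 0))) (.node (.node (.leaf 0) (.leaf 0)) (.node (.leaf 0) (.leaf 0)))) (.node (.node (.node (.leaf 0) (.leaf 0)) (.node (.leaf 0) (.leaf 0))) (.node (.node (.leaf 0) (.leaf 0)) (.node (.leaf 0) (.leaf 0))))) (.node (.node (.node (.node (.leaf 0) (.leaf 0)) (.node (.leaf 0) (.leaf 0))) (.node (.node (.leaf 0) (.leaf 0)) (.node (.leaf 0) (.leaf 0)))) (.node (.node (.node (.leaf 0) (.leaf 0)) (.node (.leaf 0) (.leaf 0))) (.node (.node (.leaf 0) (.leaf 0)) (.node (.leaf 0) (.leaf 0)))))) (.node (.node (.node (.node (.node (.leaf 0) (.leaf 0)) (.node (.leaf 0) (.leaf 0)))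 (.node (.node (.leaf 0) (.leaf 0)) (.node (.leaf 0) (.leaf 0)))) (.node (.node (.node (.leaf 0) (.leaf 0)) (.node (.leaf 0) (.leaf 0))) (.node (.node (.leaf 0) (.leaf 0)) (.node (.leaf 0) (.leaf 0))))) (.node (.node (.node (.node (.leaf 0) (.leaf 0)) (.node (.leaf 0) (.leaf 0))) (.node (.node (.leaf 0) (.leaf 0)) (.node (.leaf 0) (.leaf 0)))) (.node (.node (.node (.leaf 0) (.leaf 0)) (.node (.leaf 0) (.leaf 0))) (.node (.node (.leaf 0) (.leaf 0)) (.node (.leaf 0) (.leaf 0)))))))

/-- A Schreier factor, part 946. -/
def facCodePart946 : Janko1.Tree ℕ := (.node (.node (.node (.node (.node (.node (.leaf 0) (.leaf 0)) (.node (.leaf 0) (.leaf 0))) (.node (.node (.leaf 0) (.leaf 0)) (.node (.leaf 0) (.leaf 0)))) (.node (.node (.node (.leaf 0) (.leaf 0)) (.node (.leaf 0) (.leaf 0))) (.node (.node (.leaf 0) (.leaf 0)) (.node (.leaf 0) (.leaf 0))))) (.node (.node (.node (.node (.leaf 0) (.leaf 0)) (.node (.leaf 0) (.leaf 0))) (.node (.node (.leaf 0) (.leaf 0)) (.node (.leaf 0) (.leaf 0)))) (.node (.node (.node (.leaf 0) (.leaf 0)) (.node (.leaf 0) (.leaf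 0))) (.node (.node (.leaf 0) (.leaf 0)) (.node (.leaf 0) (.leaf 0)))))) (.node (.node (.node (.node (.node (.leaf 0) (.leaf 0)) (.node (.leaf 0) (.leaf 0))) (.node (.node (.leaf 0) (.leaf 0)) (.node (.leaf 0) (.leaf 0)))) (.node (.node (.node (.leaf 0) (.leaf 0)) (.node (.leaf 0) (.leaf 0))) (.node (.node (.leaf 0) (.leaf 0)) (.node (.leaf 0) (.leaf 0))))) (.node (.node (.node (.node (.leaf 0) (.leaf 0)) (.node (.leaf 0) (.leaf 0))) (.node (.node (.leaf 0) (.leaf 0)) (.node (.leaf 0) (.leaf 0)))) (.node (.node (.node (.leaf 0) (.leaf 0)) (.node (.leaf 0) (.leaf 0))) (.node (.node (.leaf 0) (.leaf 0)) (.node (.leaf 0) (.leaf 0)))))))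

/-- A Schreier factor, part 947. -/
def facCodePart947 : Janko1.Tree ℕ := (.node (.node (.node (.node (.node (.node (.leaf 0) (.leaf 0)) (.node (.leaf 0) (.leaf 0))) (.node (.node (.leaf 0) (.leaf 0)) (.node (.leaf 0) (.leaf 0)))) (.node (.node (.node (.leaf 0) (.leaf 0)) (.node (.leaf 0) (.leaf 0))) (.node (.node (.leaf 0) (.leaf 0)) (.node (.leaf 0) (.leaf 0))))) (.node (.node (.node (.node (.leaf 0) (.leaf 0)) (.node (.leaf 0) (.leaf 0))) (.node (.node (.leaf 0) (.leaf 0)) (.node (.leaf 0) (.leaf 0)))) (.node (.node (.node (.leaf 0) (.leaf 0)) (.node (.leaf 0) (.leaf 0))) (.node (.node (.leaf 0) (.leaf 0)) (.node (.leaf 0) (.leaf 0)))))) (.node (.node (.node (.node (.node (.leaf 0) (.leaf 0)) (.node (.leaf 0) (.leaf 0))) (.node (.node (.leaf 0) (.leaf 0)) (.node (.leaf 0) (.leaf 0)))) (.node (.node (.node (.leaf 0) (.leaf 0)) (.node (.leaf 0) (.leaf 0))) (.node (.node (.leaf 0) (.leaf 0)) (.node (.leaf 0) (.leaf 0))))) (.node (.node (.node (.node (.leaf 0) (.leaf 0)) (.node (.leaf 0) (.leaf 0))) (.node (.node (.leaf 0) (.leaf 0)) (.node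 (.leaf 0) (.leaf 0)))) (.node (.node (.node (.leaf 0) (.leaf 0)) (.node (.leaf 0) (.leaf 0))) (.node (.node (.leaf 0) (.leaf 0)) (.node (.leaf 0) (.leaf 0)))))))

/-- A Schreier factor, part 948. -/
def facCodePart948 : Janko1.Tree ℕ := (.node (.node (.node (.node (.node (.node (.leaf 0) (.leaf 0)) (.node (.leaf 0) (.leaf 0))) (.node (.node (.leaf 0) (.leaf 0)) (.node (.leaf 0) (.leaf 0)))) (.node (.node (.node (.leaf 0) (.leaf 0)) (.node (.leaf 0) (.leaf 0))) (.node (.node (.leaf 0) (.leaf 0)) (.node (.leaf 0) (.leaf 0))))) (.node (.node (.node (.node (.leaf 0) (.leaf 0)) (.node (.leaf 0) (.leaf 0))) (.node (.node (.leaf 0) (.leaf 0)) (.node (.leaf 0) (.leaf 0)))) (.node (.node (.node (.leaf 0) (.leaf 0)) (.node (.leaf 0) (.leaf 0))) (.node (.node (.leaf 0) (.leaf 0)) (.node (.leaf 0) (.leaf 0)))))) (.node (.node (.node (.node (.node (.leaf 0) (.leaf 0)) (.node (.leaf 0) (.leaf 0))) (.node (.node (.leaf 0) (.leaf 0)) (.node (.leaf 0) (.leaf 0)))) (.node (.node (.node (.leaf 0) (.leaf 0)) (.node (.leaf 0) (.leaf 0))) (.node (.node (.leaf 0)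 (.leaf 0)) (.node (.leaf 0) (.leaf 0))))) (.node (.node (.node (.node (.leaf 0) (.leaf 0)) (.node (.leaf 0) (.leaf 0))) (.node (.node (.leaf 0) (.leaf 0)) (.node (.leaf 0) (.leaf 0)))) (.node (.node (.node (.leaf 0) (.leaf 0)) (.node (.leaf 0) (.leaf 0))) (.node (.node (.leaf 0) (.leaf 0)) (.node (.leaf 0) (.leaf 0)))))))

/-- A Schreier factor, part 949. -/
def facCodePart949 : Janko1.Tree ℕ := (.node (.node (.node (.node (.node (.node (.leaf 0) (.leaf 0)) (.node (.leaf 0) (.leaf 0))) (.node (.node (.leaf 0) (.leaf 0)) (.node (.leaf 0) (.leaf 0)))) (.node (.node (.node (.leaf 0) (.leaf 0)) (.node (.leaf 0) (.leaf 0))) (.node (.node (.leaf 0) (.leaf 0)) (.node (.leaf 0) (.leaf 0))))) (.node (.node (.node (.node (.leaf 0) (.leaf 0)) (.node (.leaf 0) (.leaf 0))) (.node (.node (.leaf 0) (.leaf 0)) (.node (.leaf 0) (.leaf 0)))) (.node (.node (.node (.leaf 0) (.leaf 0)) (.node (.leaf 0) (.leaf 0))) (.node (.node (.leaf 0) (.leaf 0)) (.node (.leaf 0) (.leaf 0)))))) (.node (.node (.node (.node (.node (.leaf 0) (.leaf 0)) (.node (.leaf 0) (.leaf 0)))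 (.node (.node (.leaf 0) (.leaf 0)) (.node (.leaf 0) (.leaf 0)))) (.node (.node (.node (.leaf 0) (.leaf 0)) (.node (.leaf 0) (.leaf 0))) (.node (.node (.leaf 0) (.leaf 0)) (.node (.leaf 0) (.leaf 0))))) (.node (.node (.node (.node (.leaf 0) (.leaf 0)) (.node (.leaf 0) (.leaf 0))) (.node (.node (.leaf 0) (.leaf 0)) (.node (.leaf 0) (.leaf 0)))) (.node (.node (.node (.leaf 0) (.leaf 0)) (.node (.leaf 0) (.leaf 0))) (.node (.node (.leaf 0) (.leaf 0)) (.node (.leaf 0) (.leaf 0)))))))

/-- A Schreier factor, part 950. -/
def facCodePart950 : Janko1.Tree ℕ := (.node (.node (.node (.node (.node (.node (.leaf 0) (.leaf 0)) (.node (.leaf 0) (.leaf 0))) (.node (.node (.leaf 0) (.leaf 0)) (.node (.leaf 0) (.leaf 0)))) (.node (.node (.node (.leaf 0) (.leaf 0)) (.node (.leaf 0) (.leaf 0))) (.node (.node (.leaf 0) (.leaf 0)) (.node (.leaf 0) (.leaf 0))))) (.node (.node (.node (.node (.leaf 0) (.leaf 0)) (.node (.leaf 0) (.leaf 0))) (.node (.node (.leaf 0) (.leaf 0)) (.node (.leaf 0) (.leaf 0)))) (.node (.node (.node (.leaf 0) (.leaf 0)) (.node (.leaf 0) (.leaf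 0))) (.node (.node (.leaf 0) (.leaf 0)) (.node (.leaf 0) (.leaf 0)))))) (.node (.node (.node (.node (.node (.leaf 0) (.leaf 0)) (.node (.leaf 0) (.leaf 0))) (.node (.node (.leaf 0) (.leaf 0)) (.node (.leaf 0) (.leaf 0)))) (.node (.node (.node (.leaf 0) (.leaf 0)) (.node (.leaf 0) (.leaf 0))) (.node (.node (.leaf 0) (.leaf 0)) (.node (.leaf 0) (.leaf 0))))) (.node (.node (.node (.node (.leaf 0) (.leaf 0)) (.node (.leaf 0) (.leaf 0))) (.node (.node (.leaf 0) (.leaf 0)) (.node (.leaf 0) (.leaf 0)))) (.node (.node (.node (.leaf 0) (.leaf 0)) (.node (.leaf 0) (.leaf 0))) (.node (.node (.leaf 0) (.leaf 0)) (.node (.leaf 0) (.leaf 0)))))))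

/-- A Schreier factor, part 951. -/
def facCodePart951 : Janko1.Tree ℕ := (.node (.node (.node (.node (.node (.node (.leaf 0) (.leaf 0)) (.node (.leaf 0) (.leaf 0))) (.node (.node (.leaf 0) (.leaf 0)) (.node (.leaf 0) (.leaf 0)))) (.node (.node (.node (.leaf 0) (.leaf 0)) (.node (.leaf 0) (.leaf 0))) (.node (.node (.leaf 0) (.leaf 0)) (.node (.leaf 0) (.leaf 0))))) (.node (.node (.node (.node (.leaf 0) (.leaf 0)) (.node (.leaf 0) (.leaf 0))) (.node (.node (.leaf 0) (.leaf 0)) (.node (.leaf 0) (.leaf 0)))) (.node (.node (.node (.leaf 0) (.leaf 0)) (.node (.leaf 0) (.leaf 0))) (.node (.node (.leaf 0) (.leaf 0)) (.node (.leaf 0) (.leaf 0)))))) (.node (.node (.node (.node (.node (.leaf 0) (.leaf 0)) (.node (.leaf 0) (.leaf 0))) (.node (.node (.leaf 0) (.leaf 0)) (.node (.leaf 0) (.leaf 0)))) (.node (.node (.node (.leaf 0) (.leaf 0)) (.node (.leaf 0) (.leaf 0))) (.node (.node (.leaf 0) (.leaf 0)) (.node (.leaf 0) (.leaf 0))))) (.node (.node (.node (.node (.leaf 0) (.leaf 0)) (.node (.leaf 0) (.leaf 0))) (.node (.node (.leaf 0) (.leaf 0)) (.node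 (.leaf 0) (.leaf 0)))) (.node (.node (.node (.leaf 0) (.leaf 0)) (.node (.leaf 0) (.leaf 0))) (.node (.node (.leaf 0) (.leaf 0)) (.node (.leaf 0) (.leaf 0)))))))

/-- A Schreier factor, part 952. -/
def facCodePart952 : Janko1.Tree ℕ := (.node (.node (.node (.node (.node (.node (.leaf 0) (.leaf 0)) (.node (.leaf 0) (.leaf 0))) (.node (.node (.leaf 0) (.leaf 0)) (.node (.leaf 0) (.leaf 0)))) (.node (.node (.node (.leaf 0) (.leaf 0)) (.node (.leaf 0) (.leaf 0))) (.node (.node (.leaf 0) (.leaf 0)) (.node (.leaf 0) (.leaf 0))))) (.node (.node (.node (.node (.leaf 0) (.leaf 0)) (.node (.leaf 0) (.leaf 0))) (.node (.node (.leaf 0) (.leaf 0)) (.node (.leaf 0) (.leaf 0)))) (.node (.node (.node (.leaf 0) (.leaf 0)) (.node (.leaf 0) (.leaf 0))) (.node (.node (.leaf 0) (.leaf 0)) (.node (.leaf 0) (.leaf 0)))))) (.node (.node (.node (.node (.node (.leaf 0) (.leaf 0)) (.node (.leaf 0) (.leaf 0))) (.node (.node (.leaf 0) (.leaf 0)) (.node (.leaf 0) (.leaf 0)))) (.node (.node (.node (.leaf 0) (.leaf 0)) (.node (.leaf 0) (.leaf 0))) (.node (.node (.leaf 0)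 (.leaf 0)) (.node (.leaf 0) (.leaf 0))))) (.node (.node (.node (.node (.leaf 0) (.leaf 0)) (.node (.leaf 0) (.leaf 0))) (.node (.node (.leaf 0) (.leaf 0)) (.node (.leaf 0) (.leaf 0)))) (.node (.node (.node (.leaf 0) (.leaf 0)) (.node (.leaf 0) (.leaf 0))) (.node (.node (.leaf 0) (.leaf 0)) (.node (.leaf 0) (.leaf 0)))))))

/-- A Schreier factor, part 953. -/
def facCodePart953 : Janko1.Tree ℕ := (.node (.node (.node (.node (.node (.node (.leaf 0) (.leaf 0)) (.node (.leaf 0) (.leaf 0))) (.node (.node (.leaf 0) (.leaf 0)) (.node (.leaf 0) (.leaf 0)))) (.node (.node (.node (.leaf 0) (.leaf 0)) (.node (.leaf 0) (.leaf 0))) (.node (.node (.leaf 0) (.leaf 0)) (.node (.leaf 0) (.leaf 0))))) (.node (.node (.node (.node (.leaf 0) (.leaf 0)) (.node (.leaf 0) (.leaf 0))) (.node (.node (.leaf 0) (.leaf 0)) (.node (.leaf 0) (.leaf 0)))) (.node (.node (.node (.leaf 0) (.leaf 0)) (.node (.leaf 0) (.leaf 0))) (.node (.node (.leaf 0) (.leaf 0)) (.node (.leaf 0) (.leaf 0)))))) (.node (.node (.node (.node (.node (.leaf 0) (.leaf 0)) (.node (.leaf 0) (.leaf 0)))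 (.node (.node (.leaf 0) (.leaf 0)) (.node (.leaf 0) (.leaf 0)))) (.node (.node (.node (.leaf 0) (.leaf 0)) (.node (.leaf 0) (.leaf 0))) (.node (.node (.leaf 0) (.leaf 0)) (.node (.leaf 0) (.leaf 0))))) (.node (.node (.node (.node (.leaf 0) (.leaf 0)) (.node (.leaf 0) (.leaf 0))) (.node (.node (.leaf 0) (.leaf 0)) (.node (.leaf 0) (.leaf 0)))) (.node (.node (.node (.leaf 0) (.leaf 0)) (.node (.leaf 0) (.leaf 0))) (.node (.node (.leaf 0) (.leaf 0)) (.node (.leaf 0) (.leaf 0)))))))

/-- A Schreier factor, part 954. -/
def facCodePart954 : Janko1.Tree ℕ := (.node (.node (.node (.node (.node (.node (.leaf 0) (.leaf 0)) (.node (.leaf 0) (.leaf 0))) (.node (.node (.leaf 0) (.leaf 0)) (.node (.leaf 0) (.leaf 0)))) (.node (.node (.node (.leaf 0) (.leaf 0)) (.node (.leaf 0) (.leaf 0))) (.node (.node (.leaf 0) (.leaf 0)) (.node (.leaf 0) (.leaf 0))))) (.node (.node (.node (.node (.leaf 0) (.leaf 0)) (.node (.leaf 0) (.leaf 0))) (.node (.node (.leaf 0) (.leaf 0)) (.node (.leaf 0) (.leaf 0)))) (.node (.node (.node (.leaf 0) (.leaf 0)) (.node (.leaf 0) (.leaf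 0))) (.node (.node (.leaf 0) (.leaf 0)) (.node (.leaf 0) (.leaf 0)))))) (.node (.node (.node (.node (.node (.leaf 0) (.leaf 0)) (.node (.leaf 0) (.leaf 0))) (.node (.node (.leaf 0) (.leaf 0)) (.node (.leaf 0) (.leaf 0)))) (.node (.node (.node (.leaf 0) (.leaf 0)) (.node (.leaf 0) (.leaf 0))) (.node (.node (.leaf 0) (.leaf 0)) (.node (.leaf 0) (.leaf 0))))) (.node (.node (.node (.node (.leaf 0) (.leaf 0)) (.node (.leaf 0) (.leaf 0))) (.node (.node (.leaf 0) (.leaf 0)) (.node (.leaf 0) (.leaf 0)))) (.node (.node (.node (.leaf 0) (.leaf 0)) (.node (.leaf 0) (.leaf 0))) (.node (.node (.leaf 0) (.leaf 0)) (.node (.leaf 0) (.leaf 0)))))))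

/-- A Schreier factor, part 955. -/
def facCodePart955 : Janko1.Tree ℕ := (.node (.node (.node (.node (.node (.node (.leaf 0) (.leaf 0)) (.node (.leaf 0) (.leaf 0))) (.node (.node (.leaf 0) (.leaf 0)) (.node (.leaf 0) (.leaf 0)))) (.node (.node (.node (.leaf 0) (.leaf 0)) (.node (.leaf 0) (.leaf 0))) (.node (.node (.leaf 0) (.leaf 0)) (.node (.leaf 0) (.leaf 0))))) (.node (.node (.node (.node (.leaf 0) (.leaf 0)) (.node (.leaf 0) (.leaf 0))) (.node (.node (.leaf 0) (.leaf 0)) (.node (.leaf 0) (.leaf 0)))) (.node (.node (.node (.leaf 0) (.leaf 0)) (.node (.leaf 0) (.leaf 0))) (.node (.node (.leaf 0) (.leaf 0)) (.node (.leaf 0) (.leaf 0)))))) (.node (.node (.node (.node (.node (.leaf 0) (.leaf 0)) (.node (.leaf 0) (.leaf 0))) (.node (.node (.leaf 0) (.leaf 0)) (.node (.leaf 0) (.leaf 0)))) (.node (.node (.node (.leaf 0) (.leaf 0)) (.node (.leaf 0) (.leaf 0))) (.node (.node (.leaf 0) (.leaf 0)) (.node (.leaf 0) (.leaf 0))))) (.node (.node (.node (.node (.leaf 0) (.leaf 0)) (.node (.leaf 0) (.leaf 0))) (.node (.node (.leaf 0) (.leaf 0)) (.node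 (.leaf 0) (.leaf 0)))) (.node (.node (.node (.leaf 0) (.leaf 0)) (.node (.leaf 0) (.leaf 0))) (.node (.node (.leaf 0) (.leaf 0)) (.node (.leaf 0) (.leaf 0)))))))

/-- A Schreier factor, part 956. -/
def facCodePart956 : Janko1.Tree ℕ := (.node (.node (.node (.node (.node (.node (.leaf 0) (.leaf 0)) (.node (.leaf 0) (.leaf 0))) (.node (.node (.leaf 0) (.leaf 0)) (.node (.leaf 0) (.leaf 0)))) (.node (.node (.node (.leaf 0) (.leaf 0)) (.node (.leaf 0) (.leaf 0))) (.node (.node (.leaf 0) (.leaf 0)) (.node (.leaf 0) (.leaf 0))))) (.node (.node (.node (.node (.leaf 0) (.leaf 0)) (.node (.leaf 0) (.leaf 0))) (.node (.node (.leaf 0) (.leaf 0)) (.node (.leaf 0) (.leaf 0)))) (.node (.node (.node (.leaf 0) (.leaf 0)) (.node (.leaf 0) (.leaf 0))) (.node (.node (.leaf 0) (.leaf 0)) (.node (.leaf 0) (.leaf 0)))))) (.node (.node (.node (.node (.node (.leaf 0) (.leaf 0)) (.node (.leaf 0) (.leaf 0))) (.node (.node (.leaf 0) (.leaf 0)) (.node (.leaf 0) (.leaf 0)))) (.node (.node (.node (.leaf 0) (.leaf 0)) (.node (.leaf 0) (.leaf 0))) (.node (.node (.leaf 0)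 (.leaf 0)) (.node (.leaf 0) (.leaf 0))))) (.node (.node (.node (.node (.leaf 0) (.leaf 0)) (.node (.leaf 0) (.leaf 0))) (.node (.node (.leaf 0) (.leaf 0)) (.node (.leaf 0) (.leaf 0)))) (.node (.node (.node (.leaf 0) (.leaf 0)) (.node (.leaf 0) (.leaf 0))) (.node (.node (.leaf 0) (.leaf 0)) (.node (.leaf 0) (.leaf 0)))))))

/-- A Schreier factor, part 957. -/
def facCodePart957 : Janko1.Tree ℕ := (.node (.node (.node (.node (.node (.node (.leaf 0) (.leaf 0)) (.node (.leaf 0) (.leaf 0))) (.node (.node (.leaf 0) (.leaf 0)) (.node (.leaf 0) (.leaf 0)))) (.node (.node (.node (.leaf 0) (.leaf 0)) (.node (.leaf 0) (.leaf 0))) (.node (.node (.leaf 0) (.leaf 0)) (.node (.leaf 0) (.leaf 0))))) (.node (.node (.node (.node (.leaf 0) (.leaf 0)) (.node (.leaf 0) (.leaf 0))) (.node (.node (.leaf 0) (.leaf 0)) (.node (.leaf 0) (.leaf 0)))) (.node (.node (.node (.leaf 0) (.leaf 0)) (.node (.leaf 0) (.leaf 0))) (.node (.node (.leaf 0) (.leaf 0)) (.node (.leaf 0) (.leaf 0)))))) (.node (.node (.node (.node (.node (.leaf 0) (.leaf 0)) (.node (.leaf 0) (.leaf 0)))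 (.node (.node (.leaf 0) (.leaf 0)) (.node (.leaf 0) (.leaf 0)))) (.node (.node (.node (.leaf 0) (.leaf 0)) (.node (.leaf 0) (.leaf 0))) (.node (.node (.leaf 0) (.leaf 0)) (.node (.leaf 0) (.leaf 0))))) (.node (.node (.node (.node (.leaf 0) (.leaf 0)) (.node (.leaf 0) (.leaf 0))) (.node (.node (.leaf 0) (.leaf 0)) (.node (.leaf 0) (.leaf 0)))) (.node (.node (.node (.leaf 0) (.leaf 0)) (.node (.leaf 0) (.leaf 0))) (.node (.node (.leaf 0) (.leaf 0)) (.node (.leaf 0) (.leaf 0)))))))

/-- A Schreier factor, part 958. -/
def facCodePart958 : Janko1.Tree ℕ := (.node (.node (.node (.node (.node (.node (.leaf 0) (.leaf 0)) (.node (.leaf 0) (.leaf 0))) (.node (.node (.leaf 0) (.leaf 0)) (.node (.leaf 0) (.leaf 0)))) (.node (.node (.node (.leaf 0) (.leaf 0)) (.node (.leaf 0) (.leaf 0))) (.node (.node (.leaf 0) (.leaf 0)) (.node (.leaf 0) (.leaf 0))))) (.node (.node (.node (.node (.leaf 0) (.leaf 0)) (.node (.leaf 0) (.leaf 0))) (.node (.node (.leaf 0) (.leaf 0)) (.node (.leaf 0) (.leaf 0)))) (.node (.node (.node (.leaf 0) (.leaf 0)) (.node (.leaf 0) (.leaf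 0))) (.node (.node (.leaf 0) (.leaf 0)) (.node (.leaf 0) (.leaf 0)))))) (.node (.node (.node (.node (.node (.leaf 0) (.leaf 0)) (.node (.leaf 0) (.leaf 0))) (.node (.node (.leaf 0) (.leaf 0)) (.node (.leaf 0) (.leaf 0)))) (.node (.node (.node (.leaf 0) (.leaf 0)) (.node (.leaf 0) (.leaf 0))) (.node (.node (.leaf 0) (.leaf 0)) (.node (.leaf 0) (.leaf 0))))) (.node (.node (.node (.node (.leaf 0) (.leaf 0)) (.node (.leaf 0) (.leaf 0))) (.node (.node (.leaf 0) (.leaf 0)) (.node (.leaf 0) (.leaf 0)))) (.node (.node (.node (.leaf 0) (.leaf 0)) (.node (.leaf 0) (.leaf 0))) (.node (.node (.leaf 0) (.leaf 0)) (.node (.leaf 0) (.leaf 0)))))))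

/-- A Schreier factor, part 959. -/
def facCodePart959 : Janko1.Tree ℕ := (.node (.node (.node (.node (.node (.node (.leaf 0) (.leaf 0)) (.node (.leaf 0) (.leaf 0))) (.node (.node (.leaf 0) (.leaf 0)) (.node (.leaf 0) (.leaf 0)))) (.node (.node (.node (.leaf 0) (.leaf 0)) (.node (.leaf 0) (.leaf 0))) (.node (.node (.leaf 0) (.leaf 0)) (.node (.leaf 0) (.leaf 0))))) (.node (.node (.node (.node (.leaf 0) (.leaf 0)) (.node (.leaf 0) (.leaf 0))) (.node (.node (.leaf 0) (.leaf 0)) (.node (.leaf 0) (.leaf 0)))) (.node (.node (.node (.leaf 0) (.leaf 0)) (.node (.leaf 0) (.leaf 0))) (.node (.node (.leaf 0) (.leaf 0)) (.node (.leaf 0) (.leaf 0)))))) (.node (.node (.node (.node (.node (.leaf 0) (.leaf 0)) (.node (.leaf 0) (.leaf 0))) (.node (.node (.leaf 0) (.leaf 0)) (.node (.leaf 0) (.leaf 0)))) (.node (.node (.node (.leaf 0) (.leaf 0)) (.node (.leaf 0) (.leaf 0))) (.node (.node (.leaf 0) (.leaf 0)) (.node (.leaf 0) (.leaf 0))))) (.node (.node (.node (.node (.leaf 0) (.leaf 0)) (.node (.leaf 0) (.leaf 0))) (.node (.node (.leaf 0) (.leaf 0)) (.node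 (.leaf 0) (.leaf 0)))) (.node (.node (.node (.leaf 0) (.leaf 0)) (.node (.leaf 0) (.leaf 0))) (.node (.node (.leaf 0) (.leaf 0)) (.node (.leaf 0) (.leaf 0)))))))

/-- A Schreier factor, part 960. -/
def facCodePart960 : Janko1.Tree ℕ := (.node (.node (.node (.node (.node (.node (.leaf 0) (.leaf 0)) (.node (.leaf 0) (.leaf 0))) (.node (.node (.leaf 0) (.leaf 0)) (.node (.leaf 0) (.leaf 0)))) (.node (.node (.node (.leaf 0) (.leaf 0)) (.node (.leaf 0) (.leaf 0))) (.node (.node (.leaf 0) (.leaf 0)) (.node (.leaf 0) (.leaf 0))))) (.node (.node (.node (.node (.leaf 0) (.leaf 0)) (.node (.leaf 0) (.leaf 0))) (.node (.node (.leaf 0) (.leaf 0)) (.node (.leaf 0) (.leaf 0)))) (.node (.node (.node (.leaf 0) (.leaf 0)) (.node (.leaf 0) (.leaf 0))) (.node (.node (.leaf 0) (.leaf 0)) (.node (.leaf 0) (.leaf 0)))))) (.node (.node (.node (.node (.node (.leaf 0) (.leaf 0)) (.node (.leaf 0) (.leaf 0))) (.node (.node (.leaf 0) (.leaf 0)) (.node (.leaf 0) (.leaf 0)))) (.node (.node (.node (.leaf 0) (.leaf 0)) (.node (.leaf 0) (.leaf 0))) (.node (.node (.leaf 0)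 (.leaf 0)) (.node (.leaf 0) (.leaf 0))))) (.node (.node (.node (.node (.leaf 0) (.leaf 0)) (.node (.leaf 0) (.leaf 0))) (.node (.node (.leaf 0) (.leaf 0)) (.node (.leaf 0) (.leaf 0)))) (.node (.node (.node (.leaf 0) (.leaf 0)) (.node (.leaf 0) (.leaf 0))) (.node (.node (.leaf 0) (.leaf 0)) (.node (.leaf 0) (.leaf 0)))))))

/-- A Schreier factor, part 961. -/
def facCodePart961 : Janko1.Tree ℕ := (.node (.node (.node (.node (.node (.node (.leaf 0) (.leaf 0)) (.node (.leaf 0) (.leaf 0))) (.node (.node (.leaf 0) (.leaf 0)) (.node (.leaf 0) (.leaf 0)))) (.node (.node (.node (.leaf 0) (.leaf 0)) (.node (.leaf 0) (.leaf 0))) (.node (.node (.leaf 0) (.leaf 0)) (.node (.leaf 0) (.leaf 0))))) (.node (.node (.node (.node (.leaf 0) (.leaf 0)) (.node (.leaf 0) (.leaf 0))) (.node (.node (.leaf 0) (.leaf 0)) (.node (.leaf 0) (.leaf 0)))) (.node (.node (.node (.leaf 0) (.leaf 0)) (.node (.leaf 0) (.leaf 0))) (.node (.node (.leaf 0) (.leaf 0)) (.node (.leaf 0) (.leaf 0)))))) (.node (.node (.node (.node (.node (.leaf 0) (.leaf 0)) (.node (.leaf 0) (.leaf 0)))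 (.node (.node (.leaf 0) (.leaf 0)) (.node (.leaf 0) (.leaf 0)))) (.node (.node (.node (.leaf 0) (.leaf 0)) (.node (.leaf 0) (.leaf 0))) (.node (.node (.leaf 0) (.leaf 0)) (.node (.leaf 0) (.leaf 0))))) (.node (.node (.node (.node (.leaf 0) (.leaf 0)) (.node (.leaf 0) (.leaf 0))) (.node (.node (.leaf 0) (.leaf 0)) (.node (.leaf 0) (.leaf 0)))) (.node (.node (.node (.leaf 0) (.leaf 0)) (.node (.leaf 0) (.leaf 0))) (.node (.node (.leaf 0) (.leaf 0)) (.node (.leaf 0) (.leaf 0)))))))

/-- A Schreier factor, part 962. -/
def facCodePart962 : Janko1.Tree ℕ := (.node (.node (.node (.node (.node (.node (.leaf 0) (.leaf 0)) (.node (.leaf 0) (.leaf 0))) (.node (.node (.leaf 0) (.leaf 0)) (.node (.leaf 0) (.leaf 0)))) (.node (.node (.node (.leaf 0) (.leaf 0)) (.node (.leaf 0) (.leaf 0))) (.node (.node (.leaf 0) (.leaf 0)) (.node (.leaf 0) (.leaf 0))))) (.node (.node (.node (.node (.leaf 0) (.leaf 0)) (.node (.leaf 0) (.leaf 0))) (.node (.node (.leaf 0) (.leaf 0)) (.node (.leaf 0) (.leaf 0)))) (.node (.node (.node (.leaf 0) (.leaf 0)) (.node (.leaf 0) (.leaf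 0))) (.node (.node (.leaf 0) (.leaf 0)) (.node (.leaf 0) (.leaf 0)))))) (.node (.node (.node (.node (.node (.leaf 0) (.leaf 0)) (.node (.leaf 0) (.leaf 0))) (.node (.node (.leaf 0) (.leaf 0)) (.node (.leaf 0) (.leaf 0)))) (.node (.node (.node (.leaf 0) (.leaf 0)) (.node (.leaf 0) (.leaf 0))) (.node (.node (.leaf 0) (.leaf 0)) (.node (.leaf 0) (.leaf 0))))) (.node (.node (.node (.node (.leaf 0) (.leaf 0)) (.node (.leaf 0) (.leaf 0))) (.node (.node (.leaf 0) (.leaf 0)) (.node (.leaf 0) (.leaf 0)))) (.node (.node (.node (.leaf 0) (.leaf 0)) (.node (.leaf 0) (.leaf 0))) (.node (.node (.leaf 0) (.leaf 0)) (.node (.leaf 0) (.leaf 0)))))))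

/-- A Schreier factor, part 963. -/
def facCodePart963 : Janko1.Tree ℕ := (.node (.node (.node (.node (.node (.node (.leaf 0) (.leaf 0)) (.node (.leaf 0) (.leaf 0))) (.node (.node (.leaf 0) (.leaf 0)) (.node (.leaf 0) (.leaf 0)))) (.node (.node (.node (.leaf 0) (.leaf 0)) (.node (.leaf 0) (.leaf 0))) (.node (.node (.leaf 0) (.leaf 0)) (.node (.leaf 0) (.leaf 0))))) (.node (.node (.node (.node (.leaf 0) (.leaf 0)) (.node (.leaf 0) (.leaf 0))) (.node (.node (.leaf 0) (.leaf 0)) (.node (.leaf 0) (.leaf 0)))) (.node (.node (.node (.leaf 0) (.leaf 0)) (.node (.leaf 0) (.leaf 0))) (.node (.node (.leaf 0) (.leaf 0)) (.node (.leaf 0) (.leaf 0)))))) (.node (.node (.node (.node (.node (.leaf 0) (.leaf 0)) (.node (.leaf 0) (.leaf 0))) (.node (.node (.leaf 0) (.leaf 0)) (.node (.leaf 0) (.leaf 0)))) (.node (.node (.node (.leaf 0) (.leaf 0)) (.node (.leaf 0) (.leaf 0))) (.node (.node (.leaf 0) (.leaf 0)) (.node (.leaf 0) (.leaf 0))))) (.node (.node (.node (.node (.leaf 0) (.leaf 0)) (.node (.leaf 0) (.leaf 0))) (.node (.node (.leaf 0) (.leaf 0)) (.node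 (.leaf 0) (.leaf 0)))) (.node (.node (.node (.leaf 0) (.leaf 0)) (.node (.leaf 0) (.leaf 0))) (.node (.node (.leaf 0) (.leaf 0)) (.node (.leaf 0) (.leaf 0)))))))

/-- A Schreier factor, part 964. -/
def facCodePart964 : Janko1.Tree ℕ := (.node (.node (.node (.node (.node (.node (.leaf 0) (.leaf 0)) (.node (.leaf 0) (.leaf 0))) (.node (.node (.leaf 0) (.leaf 0)) (.node (.leaf 0) (.leaf 0)))) (.node (.node (.node (.leaf 0) (.leaf 0)) (.node (.leaf 0) (.leaf 0))) (.node (.node (.leaf 0) (.leaf 0)) (.node (.leaf 0) (.leaf 0))))) (.node (.node (.node (.node (.leaf 0) (.leaf 0)) (.node (.leaf 0) (.leaf 0))) (.node (.node (.leaf 0) (.leaf 0)) (.node (.leaf 0) (.leaf 0)))) (.node (.node (.node (.leaf 0) (.leaf 0)) (.node (.leaf 0) (.leaf 0))) (.node (.node (.leaf 0) (.leaf 0)) (.node (.leaf 0) (.leaf 0)))))) (.node (.node (.node (.node (.node (.leaf 0) (.leaf 0)) (.node (.leaf 0) (.leaf 0))) (.node (.node (.leaf 0) (.leaf 0)) (.node (.leaf 0) (.leaf 0)))) (.node (.node (.node (.leaf 0) (.leaf 0)) (.node (.leaf 0) (.leaf 0))) (.node (.node (.leaf 0)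 (.leaf 0)) (.node (.leaf 0) (.leaf 0))))) (.node (.node (.node (.node (.leaf 0) (.leaf 0)) (.node (.leaf 0) (.leaf 0))) (.node (.node (.leaf 0) (.leaf 0)) (.node (.leaf 0) (.leaf 0)))) (.node (.node (.node (.leaf 0) (.leaf 0)) (.node (.leaf 0) (.leaf 0))) (.node (.node (.leaf 0) (.leaf 0)) (.node (.leaf 0) (.leaf 0)))))))

/-- A Schreier factor, part 965. -/
def facCodePart965 : Janko1.Tree ℕ := (.node (.node (.node (.node (.node (.node (.leaf 0) (.leaf 0)) (.node (.leaf 0) (.leaf 0))) (.node (.node (.leaf 0) (.leaf 0)) (.node (.leaf 0) (.leaf 0)))) (.node (.node (.node (.leaf 0) (.leaf 0)) (.node (.leaf 0) (.leaf 0))) (.node (.node (.leaf 0) (.leaf 0)) (.node (.leaf 0) (.leaf 0))))) (.node (.node (.node (.node (.leaf 0) (.leaf 0)) (.node (.leaf 0) (.leaf 0))) (.node (.node (.leaf 0) (.leaf 0)) (.node (.leaf 0) (.leaf 0)))) (.node (.node (.node (.leaf 0) (.leaf 0)) (.node (.leaf 0) (.leaf 0))) (.node (.node (.leaf 0) (.leaf 0)) (.node (.leaf 0) (.leaf 0)))))) (.node (.node (.node (.node (.node (.leaf 0) (.leaf 0)) (.node (.leaf 0) (.leaf 0)))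 (.node (.node (.leaf 0) (.leaf 0)) (.node (.leaf 0) (.leaf 0)))) (.node (.node (.node (.leaf 0) (.leaf 0)) (.node (.leaf 0) (.leaf 0))) (.node (.node (.leaf 0) (.leaf 0)) (.node (.leaf 0) (.leaf 0))))) (.node (.node (.node (.node (.leaf 0) (.leaf 0)) (.node (.leaf 0) (.leaf 0))) (.node (.node (.leaf 0) (.leaf 0)) (.node (.leaf 0) (.leaf 0)))) (.node (.node (.node (.leaf 0) (.leaf 0)) (.node (.leaf 0) (.leaf 0))) (.node (.node (.leaf 0) (.leaf 0)) (.node (.leaf 0) (.leaf 0)))))))

/-- A Schreier factor, part 966. -/
def facCodePart966 : Janko1.Tree ℕ := (.node (.node (.node (.node (.node (.node (.leaf 0) (.leaf 0)) (.node (.leaf 0) (.leaf 0))) (.node (.node (.leaf 0) (.leaf 0)) (.node (.leaf 0) (.leaf 0)))) (.node (.node (.node (.leaf 0) (.leaf 0)) (.node (.leaf 0) (.leaf 0))) (.node (.node (.leaf 0) (.leaf 0)) (.node (.leaf 0) (.leaf 0))))) (.node (.node (.node (.node (.leaf 0) (.leaf 0)) (.node (.leaf 0) (.leaf 0))) (.node (.node (.leaf 0) (.leaf 0)) (.node (.leaf 0) (.leaf 0)))) (.node (.node (.node (.leaf 0) (.leaf 0)) (.node (.leaf 0) (.leaf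 0))) (.node (.node (.leaf 0) (.leaf 0)) (.node (.leaf 0) (.leaf 0)))))) (.node (.node (.node (.node (.node (.leaf 0) (.leaf 0)) (.node (.leaf 0) (.leaf 0))) (.node (.node (.leaf 0) (.leaf 0)) (.node (.leaf 0) (.leaf 0)))) (.node (.node (.node (.leaf 0) (.leaf 0)) (.node (.leaf 0) (.leaf 0))) (.node (.node (.leaf 0) (.leaf 0)) (.node (.leaf 0) (.leaf 0))))) (.node (.node (.node (.node (.leaf 0) (.leaf 0)) (.node (.leaf 0) (.leaf 0))) (.node (.node (.leaf 0) (.leaf 0)) (.node (.leaf 0) (.leaf 0)))) (.node (.node (.node (.leaf 0) (.leaf 0)) (.node (.leaf 0) (.leaf 0))) (.node (.node (.leaf 0) (.leaf 0)) (.node (.leaf 0) (.leaf 0)))))))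

/-- A Schreier factor, part 967. -/
def facCodePart967 : Janko1.Tree ℕ := (.node (.node (.node (.node (.node (.node (.leaf 0) (.leaf 0)) (.node (.leaf 0) (.leaf 0))) (.node (.node (.leaf 0) (.leaf 0)) (.node (.leaf 0) (.leaf 0)))) (.node (.node (.node (.leaf 0) (.leaf 0)) (.node (.leaf 0) (.leaf 0))) (.node (.node (.leaf 0) (.leaf 0)) (.node (.leaf 0) (.leaf 0))))) (.node (.node (.node (.node (.leaf 0) (.leaf 0)) (.node (.leaf 0) (.leaf 0))) (.node (.node (.leaf 0) (.leaf 0)) (.node (.leaf 0) (.leaf 0)))) (.node (.node (.node (.leaf 0) (.leaf 0)) (.node (.leaf 0) (.leaf 0))) (.node (.node (.leaf 0) (.leaf 0)) (.node (.leaf 0) (.leaf 0)))))) (.node (.node (.node (.node (.node (.leaf 0) (.leaf 0)) (.node (.leaf 0) (.leaf 0))) (.node (.node (.leaf 0) (.leaf 0)) (.node (.leaf 0) (.leaf 0)))) (.node (.node (.node (.leaf 0) (.leaf 0)) (.node (.leaf 0) (.leaf 0))) (.node (.node (.leaf 0) (.leaf 0)) (.node (.leaf 0) (.leaf 0))))) (.node (.node (.node (.node (.leaf 0) (.leaf 0)) (.node (.leaf 0) (.leaf 0))) (.node (.node (.leaf 0) (.leaf 0)) (.node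 (.leaf 0) (.leaf 0)))) (.node (.node (.node (.leaf 0) (.leaf 0)) (.node (.leaf 0) (.leaf 0))) (.node (.node (.leaf 0) (.leaf 0)) (.node (.leaf 0) (.leaf 0)))))))

/-- A Schreier factor, part 968. -/
def facCodePart968 : Janko1.Tree ℕ := (.node (.node (.node (.node (.node (.node (.leaf 0) (.leaf 0)) (.node (.leaf 0) (.leaf 0))) (.node (.node (.leaf 0) (.leaf 0)) (.node (.leaf 0) (.leaf 0)))) (.node (.node (.node (.leaf 0) (.leaf 0)) (.node (.leaf 0) (.leaf 0))) (.node (.node (.leaf 0) (.leaf 0)) (.node (.leaf 0) (.leaf 0))))) (.node (.node (.node (.node (.leaf 0) (.leaf 0)) (.node (.leaf 0) (.leaf 0))) (.node (.node (.leaf 0) (.leaf 0)) (.node (.leaf 0) (.leaf 0)))) (.node (.node (.node (.leaf 0) (.leaf 0)) (.node (.leaf 0) (.leaf 0))) (.node (.node (.leaf 0) (.leaf 0)) (.node (.leaf 0) (.leaf 0)))))) (.node (.node (.node (.node (.node (.leaf 0) (.leaf 0)) (.node (.leaf 0) (.leaf 0))) (.node (.node (.leaf 0) (.leaf 0)) (.node (.leaf 0) (.leaf 0)))) (.node (.node (.node (.leaf 0) (.leaf 0)) (.node (.leaf 0) (.leaf 0))) (.node (.node (.leaf 0)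 (.leaf 0)) (.node (.leaf 0) (.leaf 0))))) (.node (.node (.node (.node (.leaf 0) (.leaf 0)) (.node (.leaf 0) (.leaf 0))) (.node (.node (.leaf 0) (.leaf 0)) (.node (.leaf 0) (.leaf 0)))) (.node (.node (.node (.leaf 0) (.leaf 0)) (.node (.leaf 0) (.leaf 0))) (.node (.node (.leaf 0) (.leaf 0)) (.node (.leaf 0) (.leaf 0)))))))

/-- A Schreier factor, part 969. -/
def facCodePart969 : Janko1.Tree ℕ := (.node (.node (.node (.node (.node (.node (.leaf 0) (.leaf 0)) (.node (.leaf 0) (.leaf 0))) (.node (.node (.leaf 0) (.leaf 0)) (.node (.leaf 0) (.leaf 0)))) (.node (.node (.node (.leaf 0) (.leaf 0)) (.node (.leaf 0) (.leaf 0))) (.node (.node (.leaf 0) (.leaf 0)) (.node (.leaf 0) (.leaf 0))))) (.node (.node (.node (.node (.leaf 0) (.leaf 0)) (.node (.leaf 0) (.leaf 0))) (.node (.node (.leaf 0) (.leaf 0)) (.node (.leaf 0) (.leaf 0)))) (.node (.node (.node (.leaf 0) (.leaf 0)) (.node (.leaf 0) (.leaf 0))) (.node (.node (.leaf 0) (.leaf 0)) (.node (.leaf 0) (.leaf 0)))))) (.node (.node (.node (.node (.node (.leaf 0) (.leaf 0)) (.node (.leaf 0) (.leaf 0)))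 (.node (.node (.leaf 0) (.leaf 0)) (.node (.leaf 0) (.leaf 0)))) (.node (.node (.node (.leaf 0) (.leaf 0)) (.node (.leaf 0) (.leaf 0))) (.node (.node (.leaf 0) (.leaf 0)) (.node (.leaf 0) (.leaf 0))))) (.node (.node (.node (.node (.leaf 0) (.leaf 0)) (.node (.leaf 0) (.leaf 0))) (.node (.node (.leaf 0) (.leaf 0)) (.node (.leaf 0) (.leaf 0)))) (.node (.node (.node (.leaf 0) (.leaf 0)) (.node (.leaf 0) (.leaf 0))) (.node (.node (.leaf 0) (.leaf 0)) (.node (.leaf 0) (.leaf 0)))))))

/-- A Schreier factor, part 970. -/
def facCodePart970 : Janko1.Tree ℕ := (.node (.node (.node (.node (.node (.node (.leaf 0) (.leaf 0)) (.node (.leaf 0) (.leaf 0))) (.node (.node (.leaf 0) (.leaf 0)) (.node (.leaf 0) (.leaf 0)))) (.node (.node (.node (.leaf 0) (.leaf 0)) (.node (.leaf 0) (.leaf 0))) (.node (.node (.leaf 0) (.leaf 0)) (.node (.leaf 0) (.leaf 0))))) (.node (.node (.node (.node (.leaf 0) (.leaf 0)) (.node (.leaf 0) (.leaf 0))) (.node (.node (.leaf 0) (.leaf 0)) (.node (.leaf 0) (.leaf 0)))) (.node (.node (.node (.leaf 0) (.leaf 0)) (.node (.leaf 0) (.leaf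 0))) (.node (.node (.leaf 0) (.leaf 0)) (.node (.leaf 0) (.leaf 0)))))) (.node (.node (.node (.node (.node (.leaf 0) (.leaf 0)) (.node (.leaf 0) (.leaf 0))) (.node (.node (.leaf 0) (.leaf 0)) (.node (.leaf 0) (.leaf 0)))) (.node (.node (.node (.leaf 0) (.leaf 0)) (.node (.leaf 0) (.leaf 0))) (.node (.node (.leaf 0) (.leaf 0)) (.node (.leaf 0) (.leaf 0))))) (.node (.node (.node (.node (.leaf 0) (.leaf 0)) (.node (.leaf 0) (.leaf 0))) (.node (.node (.leaf 0) (.leaf 0)) (.node (.leaf 0) (.leaf 0)))) (.node (.node (.node (.leaf 0) (.leaf 0)) (.node (.leaf 0) (.leaf 0))) (.node (.node (.leaf 0) (.leaf 0)) (.node (.leaf 0) (.leaf 0)))))))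

/-- A Schreier factor, part 971. -/
def facCodePart971 : Janko1.Tree ℕ := (.node (.node (.node (.node (.node (.node (.leaf 0) (.leaf 0)) (.node (.leaf 0) (.leaf 0))) (.node (.node (.leaf 0) (.leaf 0)) (.node (.leaf 0) (.leaf 0)))) (.node (.node (.node (.leaf 0) (.leaf 0)) (.node (.leaf 0) (.leaf 0))) (.node (.node (.leaf 0) (.leaf 0)) (.node (.leaf 0) (.leaf 0))))) (.node (.node (.node (.node (.leaf 0) (.leaf 0)) (.node (.leaf 0) (.leaf 0))) (.node (.node (.leaf 0) (.leaf 0)) (.node (.leaf 0) (.leaf 0)))) (.node (.node (.node (.leaf 0) (.leaf 0)) (.node (.leaf 0) (.leaf 0))) (.node (.node (.leaf 0) (.leaf 0)) (.node (.leaf 0) (.leaf 0)))))) (.node (.node (.node (.node (.node (.leaf 0) (.leaf 0)) (.node (.leaf 0) (.leaf 0))) (.node (.node (.leaf 0) (.leaf 0)) (.node (.leaf 0) (.leaf 0)))) (.node (.node (.node (.leaf 0) (.leaf 0)) (.node (.leaf 0) (.leaf 0))) (.node (.node (.leaf 0) (.leaf 0)) (.node (.leaf 0) (.leaf 0))))) (.node (.node (.node (.node (.leaf 0) (.leaf 0)) (.node (.leaf 0) (.leaf 0))) (.node (.node (.leaf 0) (.leaf 0)) (.node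 (.leaf 0) (.leaf 0)))) (.node (.node (.node (.leaf 0) (.leaf 0)) (.node (.leaf 0) (.leaf 0))) (.node (.node (.leaf 0) (.leaf 0)) (.node (.leaf 0) (.leaf 0)))))))

/-- A Schreier factor, part 972. -/
def facCodePart972 : Janko1.Tree ℕ := (.node (.node (.node (.node (.node (.node (.leaf 0) (.leaf 0)) (.node (.leaf 0) (.leaf 0))) (.node (.node (.leaf 0) (.leaf 0)) (.node (.leaf 0) (.leaf 0)))) (.node (.node (.node (.leaf 0) (.leaf 0)) (.node (.leaf 0) (.leaf 0))) (.node (.node (.leaf 0) (.leaf 0)) (.node (.leaf 0) (.leaf 0))))) (.node (.node (.node (.node (.leaf 0) (.leaf 0)) (.node (.leaf 0) (.leaf 0))) (.node (.node (.leaf 0) (.leaf 0)) (.node (.leaf 0) (.leaf 0)))) (.node (.node (.node (.leaf 0) (.leaf 0)) (.node (.leaf 0) (.leaf 0))) (.node (.node (.leaf 0) (.leaf 0)) (.node (.leaf 0) (.leaf 0)))))) (.node (.node (.node (.node (.node (.leaf 0) (.leaf 0)) (.node (.leaf 0) (.leaf 0))) (.node (.node (.leaf 0) (.leaf 0)) (.node (.leaf 0) (.leaf 0)))) (.node (.node (.node (.leaf 0) (.leaf 0)) (.node (.leaf 0) (.leaf 0))) (.node (.node (.leaf 0)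 (.leaf 0)) (.node (.leaf 0) (.leaf 0))))) (.node (.node (.node (.node (.leaf 0) (.leaf 0)) (.node (.leaf 0) (.leaf 0))) (.node (.node (.leaf 0) (.leaf 0)) (.node (.leaf 0) (.leaf 0)))) (.node (.node (.node (.leaf 0) (.leaf 0)) (.node (.leaf 0) (.leaf 0))) (.node (.node (.leaf 0) (.leaf 0)) (.node (.leaf 0) (.leaf 0)))))))

/-- A Schreier factor, part 973. -/
def facCodePart973 : Janko1.Tree ℕ := (.node (.node (.node (.node (.node (.node (.leaf 0) (.leaf 0)) (.node (.leaf 0) (.leaf 0))) (.node (.node (.leaf 0) (.leaf 0)) (.node (.leaf 0) (.leaf 0)))) (.node (.node (.node (.leaf 0) (.leaf 0)) (.node (.leaf 0) (.leaf 0))) (.node (.node (.leaf 0) (.leaf 0)) (.node (.leaf 0) (.leaf 0))))) (.node (.node (.node (.node (.leaf 0) (.leaf 0)) (.node (.leaf 0) (.leaf 0))) (.node (.node (.leaf 0) (.leaf 0)) (.node (.leaf 0) (.leaf 0)))) (.node (.node (.node (.leaf 0) (.leaf 0)) (.node (.leaf 0) (.leaf 0))) (.node (.node (.leaf 0) (.leaf 0)) (.node (.leaf 0) (.leaf 0)))))) (.node (.node (.node (.node (.node (.leaf 0) (.leaf 0)) (.node (.leaf 0) (.leaf 0)))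 (.node (.node (.leaf 0) (.leaf 0)) (.node (.leaf 0) (.leaf 0)))) (.node (.node (.node (.leaf 0) (.leaf 0)) (.node (.leaf 0) (.leaf 0))) (.node (.node (.leaf 0) (.leaf 0)) (.node (.leaf 0) (.leaf 0))))) (.node (.node (.node (.node (.leaf 0) (.leaf 0)) (.node (.leaf 0) (.leaf 0))) (.node (.node (.leaf 0) (.leaf 0)) (.node (.leaf 0) (.leaf 0)))) (.node (.node (.node (.leaf 0) (.leaf 0)) (.node (.leaf 0) (.leaf 0))) (.node (.node (.leaf 0) (.leaf 0)) (.node (.leaf 0) (.leaf 0)))))))

/-- A Schreier factor, part 974. -/
def facCodePart974 : Janko1.Tree ℕ := (.node (.node (.node (.node (.node (.node (.leaf 0) (.leaf 0)) (.node (.leaf 0) (.leaf 0))) (.node (.node (.leaf 0) (.leaf 0)) (.node (.leaf 0) (.leaf 0)))) (.node (.node (.node (.leaf 0) (.leaf 0)) (.node (.leaf 0) (.leaf 0))) (.node (.node (.leaf 0) (.leaf 0)) (.node (.leaf 0) (.leaf 0))))) (.node (.node (.node (.node (.leaf 0) (.leaf 0)) (.node (.leaf 0) (.leaf 0))) (.node (.node (.leaf 0) (.leaf 0)) (.node (.leaf 0) (.leaf 0)))) (.node (.node (.node (.leaf 0) (.leaf 0)) (.node (.leaf 0) (.leaf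 0))) (.node (.node (.leaf 0) (.leaf 0)) (.node (.leaf 0) (.leaf 0)))))) (.node (.node (.node (.node (.node (.leaf 0) (.leaf 0)) (.node (.leaf 0) (.leaf 0))) (.node (.node (.leaf 0) (.leaf 0)) (.node (.leaf 0) (.leaf 0)))) (.node (.node (.node (.leaf 0) (.leaf 0)) (.node (.leaf 0) (.leaf 0))) (.node (.node (.leaf 0) (.leaf 0)) (.node (.leaf 0) (.leaf 0))))) (.node (.node (.node (.node (.leaf 0) (.leaf 0)) (.node (.leaf 0) (.leaf 0))) (.node (.node (.leaf 0) (.leaf 0)) (.node (.leaf 0) (.leaf 0)))) (.node (.node (.node (.leaf 0) (.leaf 0)) (.node (.leaf 0) (.leaf 0))) (.node (.node (.leaf 0) (.leaf 0)) (.node (.leaf 0) (.leaf 0)))))))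

/-- A Schreier factor, part 975. -/
def facCodePart975 : Janko1.Tree ℕ := (.node (.node (.node (.node (.node (.node (.leaf 0) (.leaf 0)) (.node (.leaf 0) (.leaf 0))) (.node (.node (.leaf 0) (.leaf 0)) (.node (.leaf 0) (.leaf 0)))) (.node (.node (.node (.leaf 0) (.leaf 0)) (.node (.leaf 0) (.leaf 0))) (.node (.node (.leaf 0) (.leaf 0)) (.node (.leaf 0) (.leaf 0))))) (.node (.node (.node (.node (.leaf 0) (.leaf 0)) (.node (.leaf 0) (.leaf 0))) (.node (.node (.leaf 0) (.leaf 0)) (.node (.leaf 0) (.leaf 0)))) (.node (.node (.node (.leaf 0) (.leaf 0)) (.node (.leaf 0) (.leaf 0))) (.node (.node (.leaf 0) (.leaf 0)) (.node (.leaf 0) (.leaf 0)))))) (.node (.node (.node (.node (.node (.leaf 0) (.leaf 0)) (.node (.leaf 0) (.leaf 0))) (.node (.node (.leaf 0) (.leaf 0)) (.node (.leaf 0) (.leaf 0)))) (.node (.node (.node (.leaf 0) (.leaf 0)) (.node (.leaf 0) (.leaf 0))) (.node (.node (.leaf 0) (.leaf 0)) (.node (.leaf 0) (.leaf 0))))) (.node (.node (.node (.node (.leaf 0) (.leaf 0)) (.node (.leaf 0) (.leaf 0))) (.node (.node (.leaf 0) (.leaf 0)) (.node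 (.leaf 0) (.leaf 0)))) (.node (.node (.node (.leaf 0) (.leaf 0)) (.node (.leaf 0) (.leaf 0))) (.node (.node (.leaf 0) (.leaf 0)) (.node (.leaf 0) (.leaf 0)))))))

/-- A Schreier factor, part 976. -/
def facCodePart976 : Janko1.Tree ℕ := (.node (.node (.node (.node (.node (.node (.leaf 0) (.leaf 0)) (.node (.leaf 0) (.leaf 0))) (.node (.node (.leaf 0) (.leaf 0)) (.node (.leaf 0) (.leaf 0)))) (.node (.node (.node (.leaf 0) (.leaf 0)) (.node (.leaf 0) (.leaf 0))) (.node (.node (.leaf 0) (.leaf 0)) (.node (.leaf 0) (.leaf 0))))) (.node (.node (.node (.node (.leaf 0) (.leaf 0)) (.node (.leaf 0) (.leaf 0))) (.node (.node (.leaf 0) (.leaf 0)) (.node (.leaf 0) (.leaf 0)))) (.node (.node (.node (.leaf 0) (.leaf 0)) (.node (.leaf 0) (.leaf 0))) (.node (.node (.leaf 0) (.leaf 0)) (.node (.leaf 0) (.leaf 0)))))) (.node (.node (.node (.node (.node (.leaf 0) (.leaf 0)) (.node (.leaf 0) (.leaf 0))) (.node (.node (.leaf 0) (.leaf 0)) (.node (.leaf 0) (.leaf 0)))) (.node (.node (.node (.leaf 0) (.leaf 0)) (.node (.leaf 0) (.leaf 0))) (.node (.node (.leaf 0)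 (.leaf 0)) (.node (.leaf 0) (.leaf 0))))) (.node (.node (.node (.node (.leaf 0) (.leaf 0)) (.node (.leaf 0) (.leaf 0))) (.node (.node (.leaf 0) (.leaf 0)) (.node (.leaf 0) (.leaf 0)))) (.node (.node (.node (.leaf 0) (.leaf 0)) (.node (.leaf 0) (.leaf 0))) (.node (.node (.leaf 0) (.leaf 0)) (.node (.leaf 0) (.leaf 0)))))))

/-- A Schreier factor, part 977. -/
def facCodePart977 : Janko1.Tree ℕ := (.node (.node (.node (.node (.node (.node (.leaf 0) (.leaf 0)) (.node (.leaf 0) (.leaf 0))) (.node (.node (.leaf 0) (.leaf 0)) (.node (.leaf 0) (.leaf 0)))) (.node (.node (.node (.leaf 0) (.leaf 0)) (.node (.leaf 0) (.leaf 0))) (.node (.node (.leaf 0) (.leaf 0)) (.node (.leaf 0) (.leaf 0))))) (.node (.node (.node (.node (.leaf 0) (.leaf 0)) (.node (.leaf 0) (.leaf 0))) (.node (.node (.leaf 0) (.leaf 0)) (.node (.leaf 0) (.leaf 0)))) (.node (.node (.node (.leaf 0) (.leaf 0)) (.node (.leaf 0) (.leaf 0))) (.node (.node (.leaf 0) (.leaf 0)) (.node (.leaf 0) (.leaf 0)))))) (.node (.node (.node (.node (.node (.leaf 0) (.leaf 0)) (.node (.leaf 0) (.leaf 0)))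 (.node (.node (.leaf 0) (.leaf 0)) (.node (.leaf 0) (.leaf 0)))) (.node (.node (.node (.leaf 0) (.leaf 0)) (.node (.leaf 0) (.leaf 0))) (.node (.node (.leaf 0) (.leaf 0)) (.node (.leaf 0) (.leaf 0))))) (.node (.node (.node (.node (.leaf 0) (.leaf 0)) (.node (.leaf 0) (.leaf 0))) (.node (.node (.leaf 0) (.leaf 0)) (.node (.leaf 0) (.leaf 0)))) (.node (.node (.node (.leaf 0) (.leaf 0)) (.node (.leaf 0) (.leaf 0))) (.node (.node (.leaf 0) (.leaf 0)) (.node (.leaf 0) (.leaf 0)))))))

/-- A Schreier factor, part 978. -/
def facCodePart978 : Janko1.Tree ℕ := (.node (.node (.node (.node (.node (.node (.leaf 0) (.leaf 0)) (.node (.leaf 0) (.leaf 0))) (.node (.node (.leaf 0) (.leaf 0)) (.node (.leaf 0) (.leaf 0)))) (.node (.node (.node (.leaf 0) (.leaf 0)) (.node (.leaf 0) (.leaf 0))) (.node (.node (.leaf 0) (.leaf 0)) (.node (.leaf 0) (.leaf 0))))) (.node (.node (.node (.node (.leaf 0) (.leaf 0)) (.node (.leaf 0) (.leaf 0))) (.node (.node (.leaf 0) (.leaf 0)) (.node (.leaf 0) (.leaf 0)))) (.node (.node (.node (.leaf 0) (.leaf 0)) (.node (.leaf 0) (.leaf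 0))) (.node (.node (.leaf 0) (.leaf 0)) (.node (.leaf 0) (.leaf 0)))))) (.node (.node (.node (.node (.node (.leaf 0) (.leaf 0)) (.node (.leaf 0) (.leaf 0))) (.node (.node (.leaf 0) (.leaf 0)) (.node (.leaf 0) (.leaf 0)))) (.node (.node (.node (.leaf 0) (.leaf 0)) (.node (.leaf 0) (.leaf 0))) (.node (.node (.leaf 0) (.leaf 0)) (.node (.leaf 0) (.leaf 0))))) (.node (.node (.node (.node (.leaf 0) (.leaf 0)) (.node (.leaf 0) (.leaf 0))) (.node (.node (.leaf 0) (.leaf 0)) (.node (.leaf 0) (.leaf 0)))) (.node (.node (.node (.leaf 0) (.leaf 0)) (.node (.leaf 0) (.leaf 0))) (.node (.node (.leaf 0) (.leaf 0)) (.node (.leaf 0) (.leaf 0)))))))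

/-- A Schreier factor, part 979. -/
def facCodePart979 : Janko1.Tree ℕ := (.node (.node (.node (.node (.node (.node (.leaf 0) (.leaf 0)) (.node (.leaf 0) (.leaf 0))) (.node (.node (.leaf 0) (.leaf 0)) (.node (.leaf 0) (.leaf 0)))) (.node (.node (.node (.leaf 0) (.leaf 0)) (.node (.leaf 0) (.leaf 0))) (.node (.node (.leaf 0) (.leaf 0)) (.node (.leaf 0) (.leaf 0))))) (.node (.node (.node (.node (.leaf 0) (.leaf 0)) (.node (.leaf 0) (.leaf 0))) (.node (.node (.leaf 0) (.leaf 0)) (.node (.leaf 0) (.leaf 0)))) (.node (.node (.node (.leaf 0) (.leaf 0)) (.node (.leaf 0) (.leaf 0))) (.node (.node (.leaf 0) (.leaf 0)) (.node (.leaf 0) (.leaf 0)))))) (.node (.node (.node (.node (.node (.leaf 0) (.leaf 0)) (.node (.leaf 0) (.leaf 0))) (.node (.node (.leaf 0) (.leaf 0)) (.node (.leaf 0) (.leaf 0)))) (.node (.node (.node (.leaf 0) (.leaf 0)) (.node (.leaf 0) (.leaf 0))) (.node (.node (.leaf 0) (.leaf 0)) (.node (.leaf 0) (.leaf 0))))) (.node (.node (.node (.node (.leaf 0) (.leaf 0)) (.node (.leaf 0) (.leaf 0))) (.node (.node (.leaf 0) (.leaf 0)) (.node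 (.leaf 0) (.leaf 0)))) (.node (.node (.node (.leaf 0) (.leaf 0)) (.node (.leaf 0) (.leaf 0))) (.node (.node (.leaf 0) (.leaf 0)) (.node (.leaf 0) (.leaf 0)))))))

/-- A Schreier factor, part 980. -/
def facCodePart980 : Janko1.Tree ℕ := (.node (.node (.node (.node (.node (.node (.leaf 0) (.leaf 0)) (.node (.leaf 0) (.leaf 0))) (.node (.node (.leaf 0) (.leaf 0)) (.node (.leaf 0) (.leaf 0)))) (.node (.node (.node (.leaf 0) (.leaf 0)) (.node (.leaf 0) (.leaf 0))) (.node (.node (.leaf 0) (.leaf 0)) (.node (.leaf 0) (.leaf 0))))) (.node (.node (.node (.node (.leaf 0) (.leaf 0)) (.node (.leaf 0) (.leaf 0))) (.node (.node (.leaf 0) (.leaf 0)) (.node (.leaf 0) (.leaf 0)))) (.node (.node (.node (.leaf 0) (.leaf 0)) (.node (.leaf 0) (.leaf 0))) (.node (.node (.leaf 0) (.leaf 0)) (.node (.leaf 0) (.leaf 0)))))) (.node (.node (.node (.node (.node (.leaf 0) (.leaf 0)) (.node (.leaf 0) (.leaf 0))) (.node (.node (.leaf 0) (.leaf 0)) (.node (.leaf 0) (.leaf 0)))) (.node (.node (.node (.leaf 0) (.leaf 0)) (.node (.leaf 0) (.leaf 0))) (.node (.node (.leaf 0)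 (.leaf 0)) (.node (.leaf 0) (.leaf 0))))) (.node (.node (.node (.node (.leaf 0) (.leaf 0)) (.node (.leaf 0) (.leaf 0))) (.node (.node (.leaf 0) (.leaf 0)) (.node (.leaf 0) (.leaf 0)))) (.node (.node (.node (.leaf 0) (.leaf 0)) (.node (.leaf 0) (.leaf 0))) (.node (.node (.leaf 0) (.leaf 0)) (.node (.leaf 0) (.leaf 0)))))))

/-- A Schreier factor, part 981. -/
def facCodePart981 : Janko1.Tree ℕ := (.node (.node (.node (.node (.node (.node (.leaf 0) (.leaf 0)) (.node (.leaf 0) (.leaf 0))) (.node (.node (.leaf 0) (.leaf 0)) (.node (.leaf 0) (.leaf 0)))) (.node (.node (.node (.leaf 0) (.leaf 0)) (.node (.leaf 0) (.leaf 0))) (.node (.node (.leaf 0) (.leaf 0)) (.node (.leaf 0) (.leaf 0))))) (.node (.node (.node (.node (.leaf 0) (.leaf 0)) (.node (.leaf 0) (.leaf 0))) (.node (.node (.leaf 0) (.leaf 0)) (.node (.leaf 0) (.leaf 0)))) (.node (.node (.node (.leaf 0) (.leaf 0)) (.node (.leaf 0) (.leaf 0))) (.node (.node (.leaf 0) (.leaf 0)) (.node (.leaf 0) (.leaf 0)))))) (.node (.node (.node (.node (.node (.leaf 0) (.leaf 0)) (.node (.leaf 0) (.leaf 0)))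 (.node (.node (.leaf 0) (.leaf 0)) (.node (.leaf 0) (.leaf 0)))) (.node (.node (.node (.leaf 0) (.leaf 0)) (.node (.leaf 0) (.leaf 0))) (.node (.node (.leaf 0) (.leaf 0)) (.node (.leaf 0) (.leaf 0))))) (.node (.node (.node (.node (.leaf 0) (.leaf 0)) (.node (.leaf 0) (.leaf 0))) (.node (.node (.leaf 0) (.leaf 0)) (.node (.leaf 0) (.leaf 0)))) (.node (.node (.node (.leaf 0) (.leaf 0)) (.node (.leaf 0) (.leaf 0))) (.node (.node (.leaf 0) (.leaf 0)) (.node (.leaf 0) (.leaf 0)))))))

/-- A Schreier factor, part 982. -/
def facCodePart982 : Janko1.Tree ℕ := (.node (.node (.node (.node (.node (.node (.leaf 0) (.leaf 0)) (.node (.leaf 0) (.leaf 0))) (.node (.node (.leaf 0) (.leaf 0)) (.node (.leaf 0) (.leaf 0)))) (.node (.node (.node (.leaf 0) (.leaf 0)) (.node (.leaf 0) (.leaf 0))) (.node (.node (.leaf 0) (.leaf 0)) (.node (.leaf 0) (.leaf 0))))) (.node (.node (.node (.node (.leaf 0) (.leaf 0)) (.node (.leaf 0) (.leaf 0))) (.node (.node (.leaf 0) (.leaf 0)) (.node (.leaf 0) (.leaf 0)))) (.node (.node (.node (.leaf 0) (.leaf 0)) (.node (.leaf 0) (.leaf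 0))) (.node (.node (.leaf 0) (.leaf 0)) (.node (.leaf 0) (.leaf 0)))))) (.node (.node (.node (.node (.node (.leaf 0) (.leaf 0)) (.node (.leaf 0) (.leaf 0))) (.node (.node (.leaf 0) (.leaf 0)) (.node (.leaf 0) (.leaf 0)))) (.node (.node (.node (.leaf 0) (.leaf 0)) (.node (.leaf 0) (.leaf 0))) (.node (.node (.leaf 0) (.leaf 0)) (.node (.leaf 0) (.leaf 0))))) (.node (.node (.node (.node (.leaf 0) (.leaf 0)) (.node (.leaf 0) (.leaf 0))) (.node (.node (.leaf 0) (.leaf 0)) (.node (.leaf 0) (.leaf 0)))) (.node (.node (.node (.leaf 0) (.leaf 0)) (.node (.leaf 0) (.leaf 0))) (.node (.node (.leaf 0) (.leaf 0)) (.node (.leaf 0) (.leaf 0)))))))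

/-- A Schreier factor, part 983. -/
def facCodePart983 : Janko1.Tree ℕ := (.node (.node (.node (.node (.node (.node (.leaf 0) (.leaf 0)) (.node (.leaf 0) (.leaf 0))) (.node (.node (.leaf 0) (.leaf 0)) (.node (.leaf 0) (.leaf 0)))) (.node (.node (.node (.leaf 0) (.leaf 0)) (.node (.leaf 0) (.leaf 0))) (.node (.node (.leaf 0) (.leaf 0)) (.node (.leaf 0) (.leaf 0))))) (.node (.node (.node (.node (.leaf 0) (.leaf 0)) (.node (.leaf 0) (.leaf 0))) (.node (.node (.leaf 0) (.leaf 0)) (.node (.leaf 0) (.leaf 0)))) (.node (.node (.node (.leaf 0) (.leaf 0)) (.node (.leaf 0) (.leaf 0))) (.node (.node (.leaf 0) (.leaf 0)) (.node (.leaf 0) (.leaf 0)))))) (.node (.node (.node (.node (.node (.leaf 0) (.leaf 0)) (.node (.leaf 0) (.leaf 0))) (.node (.node (.leaf 0) (.leaf 0)) (.node (.leaf 0) (.leaf 0)))) (.node (.node (.node (.leaf 0) (.leaf 0)) (.node (.leaf 0) (.leaf 0))) (.node (.node (.leaf 0) (.leaf 0)) (.node (.leaf 0) (.leaf 0))))) (.node (.node (.node (.node (.leaf 0) (.leaf 0)) (.node (.leaf 0) (.leaf 0))) (.node (.node (.leaf 0) (.leaf 0)) (.node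 (.leaf 0) (.leaf 0)))) (.node (.node (.node (.leaf 0) (.leaf 0)) (.node (.leaf 0) (.leaf 0))) (.node (.node (.leaf 0) (.leaf 0)) (.node (.leaf 0) (.leaf 0)))))))

/-- A Schreier factor, part 984. -/
def facCodePart984 : Janko1.Tree ℕ := (.node (.node (.node (.node (.node (.node (.leaf 0) (.leaf 0)) (.node (.leaf 0) (.leaf 0))) (.node (.node (.leaf 0) (.leaf 0)) (.node (.leaf 0) (.leaf 0)))) (.node (.node (.node (.leaf 0) (.leaf 0)) (.node (.leaf 0) (.leaf 0))) (.node (.node (.leaf 0) (.leaf 0)) (.node (.leaf 0) (.leaf 0))))) (.node (.node (.node (.node (.leaf 0) (.leaf 0)) (.node (.leaf 0) (.leaf 0))) (.node (.node (.leaf 0) (.leaf 0)) (.node (.leaf 0) (.leaf 0)))) (.node (.node (.node (.leaf 0) (.leaf 0)) (.node (.leaf 0) (.leaf 0))) (.node (.node (.leaf 0) (.leaf 0)) (.node (.leaf 0) (.leaf 0)))))) (.node (.node (.node (.node (.node (.leaf 0) (.leaf 0)) (.node (.leaf 0) (.leaf 0))) (.node (.node (.leaf 0) (.leaf 0)) (.node (.leaf 0) (.leaf 0)))) (.node (.node (.node (.leaf 0) (.leaf 0)) (.node (.leaf 0) (.leaf 0))) (.node (.node (.leaf 0)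 (.leaf 0)) (.node (.leaf 0) (.leaf 0))))) (.node (.node (.node (.node (.leaf 0) (.leaf 0)) (.node (.leaf 0) (.leaf 0))) (.node (.node (.leaf 0) (.leaf 0)) (.node (.leaf 0) (.leaf 0)))) (.node (.node (.node (.leaf 0) (.leaf 0)) (.node (.leaf 0) (.leaf 0))) (.node (.node (.leaf 0) (.leaf 0)) (.node (.leaf 0) (.leaf 0)))))))

/-- A Schreier factor, part 985. -/
def facCodePart985 : Janko1.Tree ℕ := (.node (.node (.node (.node (.node (.node (.leaf 0) (.leaf 0)) (.node (.leaf 0) (.leaf 0))) (.node (.node (.leaf 0) (.leaf 0)) (.node (.leaf 0) (.leaf 0)))) (.node (.node (.node (.leaf 0) (.leaf 0)) (.node (.leaf 0) (.leaf 0))) (.node (.node (.leaf 0) (.leaf 0)) (.node (.leaf 0) (.leaf 0))))) (.node (.node (.node (.node (.leaf 0) (.leaf 0)) (.node (.leaf 0) (.leaf 0))) (.node (.node (.leaf 0) (.leaf 0)) (.node (.leaf 0) (.leaf 0)))) (.node (.node (.node (.leaf 0) (.leaf 0)) (.node (.leaf 0) (.leaf 0))) (.node (.node (.leaf 0) (.leaf 0)) (.node (.leaf 0) (.leaf 0)))))) (.node (.node (.node (.node (.node (.leaf 0) (.leaf 0)) (.node (.leaf 0) (.leaf 0)))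 (.node (.node (.leaf 0) (.leaf 0)) (.node (.leaf 0) (.leaf 0)))) (.node (.node (.node (.leaf 0) (.leaf 0)) (.node (.leaf 0) (.leaf 0))) (.node (.node (.leaf 0) (.leaf 0)) (.node (.leaf 0) (.leaf 0))))) (.node (.node (.node (.node (.leaf 0) (.leaf 0)) (.node (.leaf 0) (.leaf 0))) (.node (.node (.leaf 0) (.leaf 0)) (.node (.leaf 0) (.leaf 0)))) (.node (.node (.node (.leaf 0) (.leaf 0)) (.node (.leaf 0) (.leaf 0))) (.node (.node (.leaf 0) (.leaf 0)) (.node (.leaf 0) (.leaf 0)))))))

/-- A Schreier factor, part 986. -/
def facCodePart986 : Janko1.Tree ℕ := (.node (.node (.node (.node (.node (.node (.leaf 0) (.leaf 0)) (.node (.leaf 0) (.leaf 0))) (.node (.node (.leaf 0) (.leaf 0)) (.node (.leaf 0) (.leaf 0)))) (.node (.node (.node (.leaf 0) (.leaf 0)) (.node (.leaf 0) (.leaf 0))) (.node (.node (.leaf 0) (.leaf 0)) (.node (.leaf 0) (.leaf 0))))) (.node (.node (.node (.node (.leaf 0) (.leaf 0)) (.node (.leaf 0) (.leaf 0))) (.node (.node (.leaf 0) (.leaf 0)) (.node (.leaf 0) (.leaf 0)))) (.node (.node (.node (.leaf 0) (.leaf 0)) (.node (.leaf 0) (.leaf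 0))) (.node (.node (.leaf 0) (.leaf 0)) (.node (.leaf 0) (.leaf 0)))))) (.node (.node (.node (.node (.node (.leaf 0) (.leaf 0)) (.node (.leaf 0) (.leaf 0))) (.node (.node (.leaf 0) (.leaf 0)) (.node (.leaf 0) (.leaf 0)))) (.node (.node (.node (.leaf 0) (.leaf 0)) (.node (.leaf 0) (.leaf 0))) (.node (.node (.leaf 0) (.leaf 0)) (.node (.leaf 0) (.leaf 0))))) (.node (.node (.node (.node (.leaf 0) (.leaf 0)) (.node (.leaf 0) (.leaf 0))) (.node (.node (.leaf 0) (.leaf 0)) (.node (.leaf 0) (.leaf 0)))) (.node (.node (.node (.leaf 0) (.leaf 0)) (.node (.leaf 0) (.leaf 0))) (.node (.node (.leaf 0) (.leaf 0)) (.node (.leaf 0) (.leaf 0)))))))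

/-- A Schreier factor, part 987. -/
def facCodePart987 : Janko1.Tree ℕ := (.node (.node (.node (.node (.node (.node (.leaf 0) (.leaf 0)) (.node (.leaf 0) (.leaf 0))) (.node (.node (.leaf 0) (.leaf 0)) (.node (.leaf 0) (.leaf 0)))) (.node (.node (.node (.leaf 0) (.leaf 0)) (.node (.leaf 0) (.leaf 0))) (.node (.node (.leaf 0) (.leaf 0)) (.node (.leaf 0) (.leaf 0))))) (.node (.node (.node (.node (.leaf 0) (.leaf 0)) (.node (.leaf 0) (.leaf 0))) (.node (.node (.leaf 0) (.leaf 0)) (.node (.leaf 0) (.leaf 0)))) (.node (.node (.node (.leaf 0) (.leaf 0)) (.node (.leaf 0) (.leaf 0))) (.node (.node (.leaf 0) (.leaf 0)) (.node (.leaf 0) (.leaf 0)))))) (.node (.node (.node (.node (.node (.leaf 0) (.leaf 0)) (.node (.leaf 0) (.leaf 0))) (.node (.node (.leaf 0) (.leaf 0)) (.node (.leaf 0) (.leaf 0)))) (.node (.node (.node (.leaf 0) (.leaf 0)) (.node (.leaf 0) (.leaf 0))) (.node (.node (.leaf 0) (.leaf 0)) (.node (.leaf 0) (.leaf 0))))) (.node (.node (.node (.node (.leaf 0) (.leaf 0)) (.node (.leaf 0) (.leaf 0))) (.node (.node (.leaf 0) (.leaf 0)) (.node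 (.leaf 0) (.leaf 0)))) (.node (.node (.node (.leaf 0) (.leaf 0)) (.node (.leaf 0) (.leaf 0))) (.node (.node (.leaf 0) (.leaf 0)) (.node (.leaf 0) (.leaf 0)))))))

/-- A Schreier factor, part 988. -/
def facCodePart988 : Janko1.Tree ℕ := (.node (.node (.node (.node (.node (.node (.leaf 0) (.leaf 0)) (.node (.leaf 0) (.leaf 0))) (.node (.node (.leaf 0) (.leaf 0)) (.node (.leaf 0) (.leaf 0)))) (.node (.node (.node (.leaf 0) (.leaf 0)) (.node (.leaf 0) (.leaf 0))) (.node (.node (.leaf 0) (.leaf 0)) (.node (.leaf 0) (.leaf 0))))) (.node (.node (.node (.node (.leaf 0) (.leaf 0)) (.node (.leaf 0) (.leaf 0))) (.node (.node (.leaf 0) (.leaf 0)) (.node (.leaf 0) (.leaf 0)))) (.node (.node (.node (.leaf 0) (.leaf 0)) (.node (.leaf 0) (.leaf 0))) (.node (.node (.leaf 0) (.leaf 0)) (.node (.leaf 0) (.leaf 0)))))) (.node (.node (.node (.node (.node (.leaf 0) (.leaf 0)) (.node (.leaf 0) (.leaf 0))) (.node (.node (.leaf 0) (.leaf 0)) (.node (.leaf 0) (.leaf 0)))) (.node (.node (.node (.leaf 0) (.leaf 0)) (.node (.leaf 0) (.leaf 0))) (.node (.node (.leaf 0)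 (.leaf 0)) (.node (.leaf 0) (.leaf 0))))) (.node (.node (.node (.node (.leaf 0) (.leaf 0)) (.node (.leaf 0) (.leaf 0))) (.node (.node (.leaf 0) (.leaf 0)) (.node (.leaf 0) (.leaf 0)))) (.node (.node (.node (.leaf 0) (.leaf 0)) (.node (.leaf 0) (.leaf 0))) (.node (.node (.leaf 0) (.leaf 0)) (.node (.leaf 0) (.leaf 0)))))))

/-- A Schreier factor, part 989. -/
def facCodePart989 : Janko1.Tree ℕ := (.node (.node (.node (.node (.node (.node (.leaf 0) (.leaf 0)) (.node (.leaf 0) (.leaf 0))) (.node (.node (.leaf 0) (.leaf 0)) (.node (.leaf 0) (.leaf 0)))) (.node (.node (.node (.leaf 0) (.leaf 0)) (.node (.leaf 0) (.leaf 0))) (.node (.node (.leaf 0) (.leaf 0)) (.node (.leaf 0) (.leaf 0))))) (.node (.node (.node (.node (.leaf 0) (.leaf 0)) (.node (.leaf 0) (.leaf 0))) (.node (.node (.leaf 0) (.leaf 0)) (.node (.leaf 0) (.leaf 0)))) (.node (.node (.node (.leaf 0) (.leaf 0)) (.node (.leaf 0) (.leaf 0))) (.node (.node (.leaf 0) (.leaf 0)) (.node (.leaf 0) (.leaf 0)))))) (.node (.node (.node (.node (.node (.leaf 0) (.leaf 0)) (.node (.leaf 0) (.leaf 0)))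 (.node (.node (.leaf 0) (.leaf 0)) (.node (.leaf 0) (.leaf 0)))) (.node (.node (.node (.leaf 0) (.leaf 0)) (.node (.leaf 0) (.leaf 0))) (.node (.node (.leaf 0) (.leaf 0)) (.node (.leaf 0) (.leaf 0))))) (.node (.node (.node (.node (.leaf 0) (.leaf 0)) (.node (.leaf 0) (.leaf 0))) (.node (.node (.leaf 0) (.leaf 0)) (.node (.leaf 0) (.leaf 0)))) (.node (.node (.node (.leaf 0) (.leaf 0)) (.node (.leaf 0) (.leaf 0))) (.node (.node (.leaf 0) (.leaf 0)) (.node (.leaf 0) (.leaf 0)))))))

/-- A Schreier factor, part 990. -/
def facCodePart990 : Janko1.Tree ℕ := (.node (.node (.node (.node (.node (.node (.leaf 0) (.leaf 0)) (.node (.leaf 0) (.leaf 0))) (.node (.node (.leaf 0) (.leaf 0)) (.node (.leaf 0) (.leaf 0)))) (.node (.node (.node (.leaf 0) (.leaf 0)) (.node (.leaf 0) (.leaf 0))) (.node (.node (.leaf 0) (.leaf 0)) (.node (.leaf 0) (.leaf 0))))) (.node (.node (.node (.node (.leaf 0) (.leaf 0)) (.node (.leaf 0) (.leaf 0))) (.node (.node (.leaf 0) (.leaf 0)) (.node (.leaf 0) (.leaf 0)))) (.node (.node (.node (.leaf 0) (.leaf 0)) (.node (.leaf 0) (.leaf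 0))) (.node (.node (.leaf 0) (.leaf 0)) (.node (.leaf 0) (.leaf 0)))))) (.node (.node (.node (.node (.node (.leaf 0) (.leaf 0)) (.node (.leaf 0) (.leaf 0))) (.node (.node (.leaf 0) (.leaf 0)) (.node (.leaf 0) (.leaf 0)))) (.node (.node (.node (.leaf 0) (.leaf 0)) (.node (.leaf 0) (.leaf 0))) (.node (.node (.leaf 0) (.leaf 0)) (.node (.leaf 0) (.leaf 0))))) (.node (.node (.node (.node (.leaf 0) (.leaf 0)) (.node (.leaf 0) (.leaf 0))) (.node (.node (.leaf 0) (.leaf 0)) (.node (.leaf 0) (.leaf 0)))) (.node (.node (.node (.leaf 0) (.leaf 0)) (.node (.leaf 0) (.leaf 0))) (.node (.node (.leaf 0) (.leaf 0)) (.node (.leaf 0) (.leaf 0)))))))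

/-- A Schreier factor, part 991. -/
def facCodePart991 : Janko1.Tree ℕ := (.node (.node (.node (.node (.node (.node (.leaf 0) (.leaf 0)) (.node (.leaf 0) (.leaf 0))) (.node (.node (.leaf 0) (.leaf 0)) (.node (.leaf 0) (.leaf 0)))) (.node (.node (.node (.leaf 0) (.leaf 0)) (.node (.leaf 0) (.leaf 0))) (.node (.node (.leaf 0) (.leaf 0)) (.node (.leaf 0) (.leaf 0))))) (.node (.node (.node (.node (.leaf 0) (.leaf 0)) (.node (.leaf 0) (.leaf 0))) (.node (.node (.leaf 0) (.leaf 0)) (.node (.leaf 0) (.leaf 0)))) (.node (.node (.node (.leaf 0) (.leaf 0)) (.node (.leaf 0) (.leaf 0))) (.node (.node (.leaf 0) (.leaf 0)) (.node (.leaf 0) (.leaf 0)))))) (.node (.node (.node (.node (.node (.leaf 0) (.leaf 0)) (.node (.leaf 0) (.leaf 0))) (.node (.node (.leaf 0) (.leaf 0)) (.node (.leaf 0) (.leaf 0)))) (.node (.node (.node (.leaf 0) (.leaf 0)) (.node (.leaf 0) (.leaf 0))) (.node (.node (.leaf 0) (.leaf 0)) (.node (.leaf 0) (.leaf 0))))) (.node (.node (.node (.node (.leaf 0) (.leaf 0)) (.node (.leaf 0) (.leaf 0))) (.node (.node (.leaf 0) (.leaf 0)) (.node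 (.leaf 0) (.leaf 0)))) (.node (.node (.node (.leaf 0) (.leaf 0)) (.node (.leaf 0) (.leaf 0))) (.node (.node (.leaf 0) (.leaf 0)) (.node (.leaf 0) (.leaf 0)))))))

/-- A Schreier factor, part 992. -/
def facCodePart992 : Janko1.Tree ℕ := (.node (.node (.node (.node (.node (.node (.leaf 0) (.leaf 0)) (.node (.leaf 0) (.leaf 0))) (.node (.node (.leaf 0) (.leaf 0)) (.node (.leaf 0) (.leaf 0)))) (.node (.node (.node (.leaf 0) (.leaf 0)) (.node (.leaf 0) (.leaf 0))) (.node (.node (.leaf 0) (.leaf 0)) (.node (.leaf 0) (.leaf 0))))) (.node (.node (.node (.node (.leaf 0) (.leaf 0)) (.node (.leaf 0) (.leaf 0))) (.node (.node (.leaf 0) (.leaf 0)) (.node (.leaf 0) (.leaf 0)))) (.node (.node (.node (.leaf 0) (.leaf 0)) (.node (.leaf 0) (.leaf 0))) (.node (.node (.leaf 0) (.leaf 0)) (.node (.leaf 0) (.leaf 0)))))) (.node (.node (.node (.node (.node (.leaf 0) (.leaf 0)) (.node (.leaf 0) (.leaf 0))) (.node (.node (.leaf 0) (.leaf 0)) (.node (.leaf 0) (.leaf 0)))) (.node (.node (.node (.leaf 0) (.leaf 0)) (.node (.leaf 0) (.leaf 0))) (.node (.node (.leaf 0)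 (.leaf 0)) (.node (.leaf 0) (.leaf 0))))) (.node (.node (.node (.node (.leaf 0) (.leaf 0)) (.node (.leaf 0) (.leaf 0))) (.node (.node (.leaf 0) (.leaf 0)) (.node (.leaf 0) (.leaf 0)))) (.node (.node (.node (.leaf 0) (.leaf 0)) (.node (.leaf 0) (.leaf 0))) (.node (.node (.leaf 0) (.leaf 0)) (.node (.leaf 0) (.leaf 0)))))))

/-- A Schreier factor, part 993. -/
def facCodePart993 : Janko1.Tree ℕ := (.node (.node (.node (.node (.node (.node (.leaf 0) (.leaf 0)) (.node (.leaf 0) (.leaf 0))) (.node (.node (.leaf 0) (.leaf 0)) (.node (.leaf 0) (.leaf 0)))) (.node (.node (.node (.leaf 0) (.leaf 0)) (.node (.leaf 0) (.leaf 0))) (.node (.node (.leaf 0) (.leaf 0)) (.node (.leaf 0) (.leaf 0))))) (.node (.node (.node (.node (.leaf 0) (.leaf 0)) (.node (.leaf 0) (.leaf 0))) (.node (.node (.leaf 0) (.leaf 0)) (.node (.leaf 0) (.leaf 0)))) (.node (.node (.node (.leaf 0) (.leaf 0)) (.node (.leaf 0) (.leaf 0))) (.node (.node (.leaf 0) (.leaf 0)) (.node (.leaf 0) (.leaf 0)))))) (.node (.node (.node (.node (.node (.leaf 0) (.leaf 0)) (.node (.leaf 0) (.leaf 0)))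 (.node (.node (.leaf 0) (.leaf 0)) (.node (.leaf 0) (.leaf 0)))) (.node (.node (.node (.leaf 0) (.leaf 0)) (.node (.leaf 0) (.leaf 0))) (.node (.node (.leaf 0) (.leaf 0)) (.node (.leaf 0) (.leaf 0))))) (.node (.node (.node (.node (.leaf 0) (.leaf 0)) (.node (.leaf 0) (.leaf 0))) (.node (.node (.leaf 0) (.leaf 0)) (.node (.leaf 0) (.leaf 0)))) (.node (.node (.node (.leaf 0) (.leaf 0)) (.node (.leaf 0) (.leaf 0))) (.node (.node (.leaf 0) (.leaf 0)) (.node (.leaf 0) (.leaf 0)))))))

/-- A Schreier factor, part 994. -/
def facCodePart994 : Janko1.Tree ℕ := (.node (.node (.node (.node (.node (.node (.leaf 0) (.leaf 0)) (.node (.leaf 0) (.leaf 0))) (.node (.node (.leaf 0) (.leaf 0)) (.node (.leaf 0) (.leaf 0)))) (.node (.node (.node (.leaf 0) (.leaf 0)) (.node (.leaf 0) (.leaf 0))) (.node (.node (.leaf 0) (.leaf 0)) (.node (.leaf 0) (.leaf 0))))) (.node (.node (.node (.node (.leaf 0) (.leaf 0)) (.node (.leaf 0) (.leaf 0))) (.node (.node (.leaf 0) (.leaf 0)) (.node (.leaf 0) (.leaf 0)))) (.node (.node (.node (.leaf 0) (.leaf 0)) (.node (.leaf 0) (.leaf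 0))) (.node (.node (.leaf 0) (.leaf 0)) (.node (.leaf 0) (.leaf 0)))))) (.node (.node (.node (.node (.node (.leaf 0) (.leaf 0)) (.node (.leaf 0) (.leaf 0))) (.node (.node (.leaf 0) (.leaf 0)) (.node (.leaf 0) (.leaf 0)))) (.node (.node (.node (.leaf 0) (.leaf 0)) (.node (.leaf 0) (.leaf 0))) (.node (.node (.leaf 0) (.leaf 0)) (.node (.leaf 0) (.leaf 0))))) (.node (.node (.node (.node (.leaf 0) (.leaf 0)) (.node (.leaf 0) (.leaf 0))) (.node (.node (.leaf 0) (.leaf 0)) (.node (.leaf 0) (.leaf 0)))) (.node (.node (.node (.leaf 0) (.leaf 0)) (.node (.leaf 0) (.leaf 0))) (.node (.node (.leaf 0) (.leaf 0)) (.node (.leaf 0) (.leaf 0)))))))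

/-- A Schreier factor, part 995. -/
def facCodePart995 : Janko1.Tree ℕ := (.node (.node (.node (.node (.node (.node (.leaf 0) (.leaf 0)) (.node (.leaf 0) (.leaf 0))) (.node (.node (.leaf 0) (.leaf 0)) (.node (.leaf 0) (.leaf 0)))) (.node (.node (.node (.leaf 0) (.leaf 0)) (.node (.leaf 0) (.leaf 0))) (.node (.node (.leaf 0) (.leaf 0)) (.node (.leaf 0) (.leaf 0))))) (.node (.node (.node (.node (.leaf 0) (.leaf 0)) (.node (.leaf 0) (.leaf 0))) (.node (.node (.leaf 0) (.leaf 0)) (.node (.leaf 0) (.leaf 0)))) (.node (.node (.node (.leaf 0) (.leaf 0)) (.node (.leaf 0) (.leaf 0))) (.node (.node (.leaf 0) (.leaf 0)) (.node (.leaf 0) (.leaf 0)))))) (.node (.node (.node (.node (.node (.leaf 0) (.leaf 0)) (.node (.leaf 0) (.leaf 0))) (.node (.node (.leaf 0) (.leaf 0)) (.node (.leaf 0) (.leaf 0)))) (.node (.node (.node (.leaf 0) (.leaf 0)) (.node (.leaf 0) (.leaf 0))) (.node (.node (.leaf 0) (.leaf 0)) (.node (.leaf 0) (.leaf 0))))) (.node (.node (.node (.node (.leaf 0) (.leaf 0)) (.node (.leaf 0) (.leaf 0))) (.node (.node (.leaf 0) (.leaf 0)) (.node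 (.leaf 0) (.leaf 0)))) (.node (.node (.node (.leaf 0) (.leaf 0)) (.node (.leaf 0) (.leaf 0))) (.node (.node (.leaf 0) (.leaf 0)) (.node (.leaf 0) (.leaf 0)))))))

/-- A Schreier factor, part 996. -/
def facCodePart996 : Janko1.Tree ℕ := (.node (.node (.node (.node (.node (.node (.leaf 0) (.leaf 0)) (.node (.leaf 0) (.leaf 0))) (.node (.node (.leaf 0) (.leaf 0)) (.node (.leaf 0) (.leaf 0)))) (.node (.node (.node (.leaf 0) (.leaf 0)) (.node (.leaf 0) (.leaf 0))) (.node (.node (.leaf 0) (.leaf 0)) (.node (.leaf 0) (.leaf 0))))) (.node (.node (.node (.node (.leaf 0) (.leaf 0)) (.node (.leaf 0) (.leaf 0))) (.node (.node (.leaf 0) (.leaf 0)) (.node (.leaf 0) (.leaf 0)))) (.node (.node (.node (.leaf 0) (.leaf 0)) (.node (.leaf 0) (.leaf 0))) (.node (.node (.leaf 0) (.leaf 0)) (.node (.leaf 0) (.leaf 0)))))) (.node (.node (.node (.node (.node (.leaf 0) (.leaf 0)) (.node (.leaf 0) (.leaf 0))) (.node (.node (.leaf 0) (.leaf 0)) (.node (.leaf 0) (.leaf 0)))) (.node (.node (.node (.leaf 0) (.leaf 0)) (.node (.leaf 0) (.leaf 0))) (.node (.node (.leaf 0)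 (.leaf 0)) (.node (.leaf 0) (.leaf 0))))) (.node (.node (.node (.node (.leaf 0) (.leaf 0)) (.node (.leaf 0) (.leaf 0))) (.node (.node (.leaf 0) (.leaf 0)) (.node (.leaf 0) (.leaf 0)))) (.node (.node (.node (.leaf 0) (.leaf 0)) (.node (.leaf 0) (.leaf 0))) (.node (.node (.leaf 0) (.leaf 0)) (.node (.leaf 0) (.leaf 0)))))))

/-- A Schreier factor, part 997. -/
def facCodePart997 : Janko1.Tree ℕ := (.node (.node (.node (.node (.node (.node (.leaf 0) (.leaf 0)) (.node (.leaf 0) (.leaf 0))) (.node (.node (.leaf 0) (.leaf 0)) (.node (.leaf 0) (.leaf 0)))) (.node (.node (.node (.leaf 0) (.leaf 0)) (.node (.leaf 0) (.leaf 0))) (.node (.node (.leaf 0) (.leaf 0)) (.node (.leaf 0) (.leaf 0))))) (.node (.node (.node (.node (.leaf 0) (.leaf 0)) (.node (.leaf 0) (.leaf 0))) (.node (.node (.leaf 0) (.leaf 0)) (.node (.leaf 0) (.leaf 0)))) (.node (.node (.node (.leaf 0) (.leaf 0)) (.node (.leaf 0) (.leaf 0))) (.node (.node (.leaf 0) (.leaf 0)) (.node (.leaf 0) (.leaf 0)))))) (.node (.node (.node (.node (.node (.leaf 0) (.leaf 0)) (.node (.leaf 0) (.leaf 0)))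 (.node (.node (.leaf 0) (.leaf 0)) (.node (.leaf 0) (.leaf 0)))) (.node (.node (.node (.leaf 0) (.leaf 0)) (.node (.leaf 0) (.leaf 0))) (.node (.node (.leaf 0) (.leaf 0)) (.node (.leaf 0) (.leaf 0))))) (.node (.node (.node (.node (.leaf 0) (.leaf 0)) (.node (.leaf 0) (.leaf 0))) (.node (.node (.leaf 0) (.leaf 0)) (.node (.leaf 0) (.leaf 0)))) (.node (.node (.node (.leaf 0) (.leaf 0)) (.node (.leaf 0) (.leaf 0))) (.node (.node (.leaf 0) (.leaf 0)) (.node (.leaf 0) (.leaf 0)))))))

/-- A Schreier factor, part 998. -/
def facCodePart998 : Janko1.Tree ℕ := (.node (.node (.node (.node (.node (.node (.leaf 0) (.leaf 0)) (.node (.leaf 0) (.leaf 0))) (.node (.node (.leaf 0) (.leaf 0)) (.node (.leaf 0) (.leaf 0)))) (.node (.node (.node (.leaf 0) (.leaf 0)) (.node (.leaf 0) (.leaf 0))) (.node (.node (.leaf 0) (.leaf 0)) (.node (.leaf 0) (.leaf 0))))) (.node (.node (.node (.node (.leaf 0) (.leaf 0)) (.node (.leaf 0) (.leaf 0))) (.node (.node (.leaf 0) (.leaf 0)) (.node (.leaf 0) (.leaf 0)))) (.node (.node (.node (.leaf 0) (.leaf 0)) (.node (.leaf 0) (.leaf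 0))) (.node (.node (.leaf 0) (.leaf 0)) (.node (.leaf 0) (.leaf 0)))))) (.node (.node (.node (.node (.node (.leaf 0) (.leaf 0)) (.node (.leaf 0) (.leaf 0))) (.node (.node (.leaf 0) (.leaf 0)) (.node (.leaf 0) (.leaf 0)))) (.node (.node (.node (.leaf 0) (.leaf 0)) (.node (.leaf 0) (.leaf 0))) (.node (.node (.leaf 0) (.leaf 0)) (.node (.leaf 0) (.leaf 0))))) (.node (.node (.node (.node (.leaf 0) (.leaf 0)) (.node (.leaf 0) (.leaf 0))) (.node (.node (.leaf 0) (.leaf 0)) (.node (.leaf 0) (.leaf 0)))) (.node (.node (.node (.leaf 0) (.leaf 0)) (.node (.leaf 0) (.leaf 0))) (.node (.node (.leaf 0) (.leaf 0)) (.node (.leaf 0) (.leaf 0)))))))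

/-- A Schreier factor, part 999. -/
def facCodePart999 : Janko1.Tree ℕ := (.node (.node (.node (.node (.node (.node (.leaf 0) (.leaf 0)) (.node (.leaf 0) (.leaf 0))) (.node (.node (.leaf 0) (.leaf 0)) (.node (.leaf 0) (.leaf 0)))) (.node (.node (.node (.leaf 0) (.leaf 0)) (.node (.leaf 0) (.leaf 0))) (.node (.node (.leaf 0) (.leaf 0)) (.node (.leaf 0) (.leaf 0))))) (.node (.node (.node (.node (.leaf 0) (.leaf 0)) (.node (.leaf 0) (.leaf 0))) (.node (.node (.leaf 0) (.leaf 0)) (.node (.leaf 0) (.leaf 0)))) (.node (.node (.node (.leaf 0) (.leaf 0)) (.node (.leaf 0) (.leaf 0))) (.node (.node (.leaf 0) (.leaf 0)) (.node (.leaf 0) (.leaf 0)))))) (.node (.node (.node (.node (.node (.leaf 0) (.leaf 0)) (.node (.leaf 0) (.leaf 0))) (.node (.node (.leaf 0) (.leaf 0)) (.node (.leaf 0) (.leaf 0)))) (.node (.node (.node (.leaf 0) (.leaf 0)) (.node (.leaf 0) (.leaf 0))) (.node (.node (.leaf 0) (.leaf 0)) (.node (.leaf 0) (.leaf 0))))) (.node (.node (.node (.node (.leaf 0) (.leaf 0)) (.node (.leaf 0) (.leaf 0))) (.node (.node (.leaf 0) (.leaf 0)) (.node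 (.leaf 0) (.leaf 0)))) (.node (.node (.node (.leaf 0) (.leaf 0)) (.node (.leaf 0) (.leaf 0))) (.node (.node (.leaf 0) (.leaf 0)) (.node (.leaf 0) (.leaf 0)))))))

/-- A Schreier factor, part 1000. -/
def facCodePart1000 : Janko1.Tree ℕ := (.node (.node (.node (.node (.node (.node (.leaf 0) (.leaf 0)) (.node (.leaf 0) (.leaf 0))) (.node (.node (.leaf 0) (.leaf 0)) (.node (.leaf 0) (.leaf 0)))) (.node (.node (.node (.leaf 0) (.leaf 0)) (.node (.leaf 0) (.leaf 0))) (.node (.node (.leaf 0) (.leaf 0)) (.node (.leaf 0) (.leaf 0))))) (.node (.node (.node (.node (.leaf 0) (.leaf 0)) (.node (.leaf 0) (.leaf 0))) (.node (.node (.leaf 0) (.leaf 0)) (.node (.leaf 0) (.leaf 0)))) (.node (.node (.node (.leaf 0) (.leaf 0)) (.node (.leaf 0) (.leaf 0))) (.node (.node (.leaf 0) (.leaf 0)) (.node (.leaf 0) (.leaf 0)))))) (.node (.node (.node (.node (.node (.leaf 0) (.leaf 0)) (.node (.leaf 0) (.leaf 0))) (.node (.node (.leaf 0) (.leaf 0)) (.node (.leaf 0) (.leaf 0)))) (.node (.node (.node (.leaf 0) (.leaf 0)) (.node (.leaf 0) (.leaf 0))) (.node (.node (.leaf 0)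 (.leaf 0)) (.node (.leaf 0) (.leaf 0))))) (.node (.node (.node (.node (.leaf 0) (.leaf 0)) (.node (.leaf 0) (.leaf 0))) (.node (.node (.leaf 0) (.leaf 0)) (.node (.leaf 0) (.leaf 0)))) (.node (.node (.node (.leaf 0) (.leaf 0)) (.node (.leaf 0) (.leaf 0))) (.node (.node (.leaf 0) (.leaf 0)) (.node (.leaf 0) (.leaf 0)))))))

/-- A Schreier factor, part 1001. -/
def facCodePart1001 : Janko1.Tree ℕ := (.node (.node (.node (.node (.node (.node (.leaf 0) (.leaf 0)) (.node (.leaf 0) (.leaf 0))) (.node (.node (.leaf 0) (.leaf 0)) (.node (.leaf 0) (.leaf 0)))) (.node (.node (.node (.leaf 0) (.leaf 0)) (.node (.leaf 0) (.leaf 0))) (.node (.node (.leaf 0) (.leaf 0)) (.node (.leaf 0) (.leaf 0))))) (.node (.node (.node (.node (.leaf 0) (.leaf 0)) (.node (.leaf 0) (.leaf 0))) (.node (.node (.leaf 0) (.leaf 0)) (.node (.leaf 0) (.leaf 0)))) (.node (.node (.node (.leaf 0) (.leaf 0)) (.node (.leaf 0) (.leaf 0))) (.node (.node (.leaf 0) (.leaf 0)) (.node (.leaf 0) (.leaf 0)))))) (.node (.node (.node (.node (.node (.leaf 0) (.leaf 0)) (.node (.leaf 0) (.leaf 0)))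 (.node (.node (.leaf 0) (.leaf 0)) (.node (.leaf 0) (.leaf 0)))) (.node (.node (.node (.leaf 0) (.leaf 0)) (.node (.leaf 0) (.leaf 0))) (.node (.node (.leaf 0) (.leaf 0)) (.node (.leaf 0) (.leaf 0))))) (.node (.node (.node (.node (.leaf 0) (.leaf 0)) (.node (.leaf 0) (.leaf 0))) (.node (.node (.leaf 0) (.leaf 0)) (.node (.leaf 0) (.leaf 0)))) (.node (.node (.node (.leaf 0) (.leaf 0)) (.node (.leaf 0) (.leaf 0))) (.node (.node (.leaf 0) (.leaf 0)) (.node (.leaf 0) (.leaf 0)))))))

/-- A Schreier factor, part 1002. -/
def facCodePart1002 : Janko1.Tree ℕ := (.node (.node (.node (.node (.node (.node (.leaf 0) (.leaf 0)) (.node (.leaf 0) (.leaf 0))) (.node (.node (.leaf 0) (.leaf 0)) (.node (.leaf 0) (.leaf 0)))) (.node (.node (.node (.leaf 0) (.leaf 0)) (.node (.leaf 0) (.leaf 0))) (.node (.node (.leaf 0) (.leaf 0)) (.node (.leaf 0) (.leaf 0))))) (.node (.node (.node (.node (.leaf 0) (.leaf 0)) (.node (.leaf 0) (.leaf 0))) (.node (.node (.leaf 0) (.leaf 0)) (.node (.leaf 0) (.leaf 0)))) (.node (.node (.node (.leaf 0) (.leaf 0)) (.node (.leaf 0)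 (.leaf 0))) (.node (.node (.leaf 0) (.leaf 0)) (.node (.leaf 0) (.leaf 0)))))) (.node (.node (.node (.node (.node (.leaf 0) (.leaf 0)) (.node (.leaf 0) (.leaf 0))) (.node (.node (.leaf 0) (.leaf 0)) (.node (.leaf 0) (.leaf 0)))) (.node (.node (.node (.leaf 0) (.leaf 0)) (.node (.leaf 0) (.leaf 0))) (.node (.node (.leaf 0) (.leaf 0)) (.node (.leaf 0) (.leaf 0))))) (.node (.node (.node (.node (.leaf 0) (.leaf 0)) (.node (.leaf 0) (.leaf 0))) (.node (.node (.leaf 0) (.leaf 0)) (.node (.leaf 0) (.leaf 0)))) (.node (.node (.node (.leaf 0) (.leaf 0)) (.node (.leaf 0) (.leaf 0))) (.node (.node (.leaf 0) (.leaf 0)) (.node (.leaf 0) (.leaf 0)))))))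

/-- A Schreier factor, part 1003. -/
def facCodePart1003 : Janko1.Tree ℕ := (.node (.node (.node (.node (.node (.node (.leaf 0) (.leaf 0)) (.node (.leaf 0) (.leaf 0))) (.node (.node (.leaf 0) (.leaf 0)) (.node (.leaf 0) (.leaf 0)))) (.node (.node (.node (.leaf 0) (.leaf 0)) (.node (.leaf 0) (.leaf 0))) (.node (.node (.leaf 0) (.leaf 0)) (.node (.leaf 0) (.leaf 0))))) (.node (.node (.node (.node (.leaf 0) (.leaf 0)) (.node (.leaf 0) (.leaf 0))) (.node (.node (.leaf 0) (.leaf 0)) (.node (.leaf 0) (.leaf 0)))) (.node (.node (.node (.leaf 0) (.leaf 0)) (.node (.leaf 0) (.leaf 0))) (.node (.node (.leaf 0) (.leaf 0)) (.node (.leaf 0) (.leaf 0)))))) (.node (.node (.node (.node (.node (.leaf 0) (.leaf 0)) (.node (.leaf 0) (.leaf 0))) (.node (.node (.leaf 0) (.leaf 0)) (.node (.leaf 0) (.leaf 0)))) (.node (.node (.node (.leaf 0) (.leaf 0)) (.node (.leaf 0) (.leaf 0))) (.node (.node (.leaf 0) (.leaf 0)) (.node (.leaf 0) (.leaf 0))))) (.node (.node (.node (.node (.leaf 0) (.leaf 0)) (.node (.leaf 0) (.leaf 0))) (.node (.node (.leaf 0) (.leaf 0)) (.node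 (.leaf 0) (.leaf 0)))) (.node (.node (.node (.leaf 0) (.leaf 0)) (.node (.leaf 0) (.leaf 0))) (.node (.node (.leaf 0) (.leaf 0)) (.node (.leaf 0) (.leaf 0)))))))

/-- A Schreier factor, part 1004. -/
def facCodePart1004 : Janko1.Tree ℕ := (.node (.node (.node (.node (.node (.node (.leaf 0) (.leaf 0)) (.node (.leaf 0) (.leaf 0))) (.node (.node (.leaf 0) (.leaf 0)) (.node (.leaf 0) (.leaf 0)))) (.node (.node (.node (.leaf 0) (.leaf 0)) (.node (.leaf 0) (.leaf 0))) (.node (.node (.leaf 0) (.leaf 0)) (.node (.leaf 0) (.leaf 0))))) (.node (.node (.node (.node (.leaf 0) (.leaf 0)) (.node (.leaf 0) (.leaf 0))) (.node (.node (.leaf 0) (.leaf 0)) (.node (.leaf 0) (.leaf 0)))) (.node (.node (.node (.leaf 0) (.leaf 0)) (.node (.leaf 0) (.leaf 0))) (.node (.node (.leaf 0) (.leaf 0)) (.node (.leaf 0) (.leaf 0)))))) (.node (.node (.node (.node (.node (.leaf 0) (.leaf 0)) (.node (.leaf 0) (.leaf 0))) (.node (.node (.leaf 0) (.leaf 0)) (.node (.leaf 0) (.leaf 0)))) (.node (.node (.node (.leaf 0) (.leaf 0)) (.node (.leaf 0) (.leaf 0))) (.node (.node (.leaf 0)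 (.leaf 0)) (.node (.leaf 0) (.leaf 0))))) (.node (.node (.node (.node (.leaf 0) (.leaf 0)) (.node (.leaf 0) (.leaf 0))) (.node (.node (.leaf 0) (.leaf 0)) (.node (.leaf 0) (.leaf 0)))) (.node (.node (.node (.leaf 0) (.leaf 0)) (.node (.leaf 0) (.leaf 0))) (.node (.node (.leaf 0) (.leaf 0)) (.node (.leaf 0) (.leaf 0)))))))

/-- A Schreier factor, part 1005. -/
def facCodePart1005 : Janko1.Tree ℕ := (.node (.node (.node (.node (.node (.node (.leaf 0) (.leaf 0)) (.node (.leaf 0) (.leaf 0))) (.node (.node (.leaf 0) (.leaf 0)) (.node (.leaf 0) (.leaf 0)))) (.node (.node (.node (.leaf 0) (.leaf 0)) (.node (.leaf 0) (.leaf 0))) (.node (.node (.leaf 0) (.leaf 0)) (.node (.leaf 0) (.leaf 0))))) (.node (.node (.node (.node (.leaf 0) (.leaf 0)) (.node (.leaf 0) (.leaf 0))) (.node (.node (.leaf 0) (.leaf 0)) (.node (.leaf 0) (.leaf 0)))) (.node (.node (.node (.leaf 0) (.leaf 0)) (.node (.leaf 0) (.leaf 0))) (.node (.node (.leaf 0) (.leaf 0)) (.node (.leaf 0) (.leaf 0)))))) (.node (.node (.node (.node (.node (.leaf 0) (.leaf 0)) (.node (.leaf 0) (.leaf 0)))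 (.node (.node (.leaf 0) (.leaf 0)) (.node (.leaf 0) (.leaf 0)))) (.node (.node (.node (.leaf 0) (.leaf 0)) (.node (.leaf 0) (.leaf 0))) (.node (.node (.leaf 0) (.leaf 0)) (.node (.leaf 0) (.leaf 0))))) (.node (.node (.node (.node (.leaf 0) (.leaf 0)) (.node (.leaf 0) (.leaf 0))) (.node (.node (.leaf 0) (.leaf 0)) (.node (.leaf 0) (.leaf 0)))) (.node (.node (.node (.leaf 0) (.leaf 0)) (.node (.leaf 0) (.leaf 0))) (.node (.node (.leaf 0) (.leaf 0)) (.node (.leaf 0) (.leaf 0)))))))

/-- A Schreier factor, part 1006. -/
def facCodePart1006 : Janko1.Tree ℕ := (.node (.node (.node (.node (.node (.node (.leaf 0) (.leaf 0)) (.node (.leaf 0) (.leaf 0))) (.node (.node (.leaf 0) (.leaf 0)) (.node (.leaf 0) (.leaf 0)))) (.node (.node (.node (.leaf 0) (.leaf 0)) (.node (.leaf 0) (.leaf 0))) (.node (.node (.leaf 0) (.leaf 0)) (.node (.leaf 0) (.leaf 0))))) (.node (.node (.node (.node (.leaf 0) (.leaf 0)) (.node (.leaf 0) (.leaf 0))) (.node (.node (.leaf 0) (.leaf 0)) (.node (.leaf 0) (.leaf 0)))) (.node (.node (.node (.leaf 0) (.leaf 0)) (.node (.leaf 0)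 (.leaf 0))) (.node (.node (.leaf 0) (.leaf 0)) (.node (.leaf 0) (.leaf 0)))))) (.node (.node (.node (.node (.node (.leaf 0) (.leaf 0)) (.node (.leaf 0) (.leaf 0))) (.node (.node (.leaf 0) (.leaf 0)) (.node (.leaf 0) (.leaf 0)))) (.node (.node (.node (.leaf 0) (.leaf 0)) (.node (.leaf 0) (.leaf 0))) (.node (.node (.leaf 0) (.leaf 0)) (.node (.leaf 0) (.leaf 0))))) (.node (.node (.node (.node (.leaf 0) (.leaf 0)) (.node (.leaf 0) (.leaf 0))) (.node (.node (.leaf 0) (.leaf 0)) (.node (.leaf 0) (.leaf 0)))) (.node (.node (.node (.leaf 0) (.leaf 0)) (.node (.leaf 0) (.leaf 0))) (.node (.node (.leaf 0) (.leaf 0)) (.node (.leaf 0) (.leaf 0)))))))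

/-- A Schreier factor, part 1007. -/
def facCodePart1007 : Janko1.Tree ℕ := (.node (.node (.node (.node (.node (.node (.leaf 0) (.leaf 0)) (.node (.leaf 0) (.leaf 0))) (.node (.node (.leaf 0) (.leaf 0)) (.node (.leaf 0) (.leaf 0)))) (.node (.node (.node (.leaf 0) (.leaf 0)) (.node (.leaf 0) (.leaf 0))) (.node (.node (.leaf 0) (.leaf 0)) (.node (.leaf 0) (.leaf 0))))) (.node (.node (.node (.node (.leaf 0) (.leaf 0)) (.node (.leaf 0) (.leaf 0))) (.node (.node (.leaf 0) (.leaf 0)) (.node (.leaf 0) (.leaf 0)))) (.node (.node (.node (.leaf 0) (.leaf 0)) (.node (.leaf 0) (.leaf 0))) (.node (.node (.leaf 0) (.leaf 0)) (.node (.leaf 0) (.leaf 0)))))) (.node (.node (.node (.node (.node (.leaf 0) (.leaf 0)) (.node (.leaf 0) (.leaf 0))) (.node (.node (.leaf 0) (.leaf 0)) (.node (.leaf 0) (.leaf 0)))) (.node (.node (.node (.leaf 0) (.leaf 0)) (.node (.leaf 0) (.leaf 0))) (.node (.node (.leaf 0) (.leaf 0)) (.node (.leaf 0) (.leaf 0))))) (.node (.node (.node (.node (.leaf 0) (.leaf 0)) (.node (.leaf 0) (.leaf 0))) (.node (.node (.leaf 0) (.leaf 0)) (.node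 (.leaf 0) (.leaf 0)))) (.node (.node (.node (.leaf 0) (.leaf 0)) (.node (.leaf 0) (.leaf 0))) (.node (.node (.leaf 0) (.leaf 0)) (.node (.leaf 0) (.leaf 0)))))))

/-- A Schreier factor, part 1008. -/
def facCodePart1008 : Janko1.Tree ℕ := (.node (.node (.node (.node (.node (.node (.leaf 0) (.leaf 0)) (.node (.leaf 0) (.leaf 0))) (.node (.node (.leaf 0) (.leaf 0)) (.node (.leaf 0) (.leaf 0)))) (.node (.node (.node (.leaf 0) (.leaf 0)) (.node (.leaf 0) (.leaf 0))) (.node (.node (.leaf 0) (.leaf 0)) (.node (.leaf 0) (.leaf 0))))) (.node (.node (.node (.node (.leaf 0) (.leaf 0)) (.node (.leaf 0) (.leaf 0))) (.node (.node (.leaf 0) (.leaf 0)) (.node (.leaf 0) (.leaf 0)))) (.node (.node (.node (.leaf 0) (.leaf 0)) (.node (.leaf 0) (.leaf 0))) (.node (.node (.leaf 0) (.leaf 0)) (.node (.leaf 0) (.leaf 0)))))) (.node (.node (.node (.node (.node (.leaf 0) (.leaf 0)) (.node (.leaf 0) (.leaf 0))) (.node (.node (.leaf 0) (.leaf 0)) (.node (.leaf 0) (.leaf 0)))) (.node (.node (.node (.leaf 0) (.leaf 0)) (.node (.leaf 0) (.leaf 0))) (.node (.node (.leaf 0)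 (.leaf 0)) (.node (.leaf 0) (.leaf 0))))) (.node (.node (.node (.node (.leaf 0) (.leaf 0)) (.node (.leaf 0) (.leaf 0))) (.node (.node (.leaf 0) (.leaf 0)) (.node (.leaf 0) (.leaf 0)))) (.node (.node (.node (.leaf 0) (.leaf 0)) (.node (.leaf 0) (.leaf 0))) (.node (.node (.leaf 0) (.leaf 0)) (.node (.leaf 0) (.leaf 0)))))))

/-- A Schreier factor, part 1009. -/
def facCodePart1009 : Janko1.Tree ℕ := (.node (.node (.node (.node (.node (.node (.leaf 0) (.leaf 0)) (.node (.leaf 0) (.leaf 0))) (.node (.node (.leaf 0) (.leaf 0)) (.node (.leaf 0) (.leaf 0)))) (.node (.node (.node (.leaf 0) (.leaf 0)) (.node (.leaf 0) (.leaf 0))) (.node (.node (.leaf 0) (.leaf 0)) (.node (.leaf 0) (.leaf 0))))) (.node (.node (.node (.node (.leaf 0) (.leaf 0)) (.node (.leaf 0) (.leaf 0))) (.node (.node (.leaf 0) (.leaf 0)) (.node (.leaf 0) (.leaf 0)))) (.node (.node (.node (.leaf 0) (.leaf 0)) (.node (.leaf 0) (.leaf 0))) (.node (.node (.leaf 0) (.leaf 0)) (.node (.leaf 0) (.leaf 0)))))) (.node (.node (.node (.node (.node (.leaf 0) (.leaf 0)) (.node (.leaf 0) (.leaf 0)))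 (.node (.node (.leaf 0) (.leaf 0)) (.node (.leaf 0) (.leaf 0)))) (.node (.node (.node (.leaf 0) (.leaf 0)) (.node (.leaf 0) (.leaf 0))) (.node (.node (.leaf 0) (.leaf 0)) (.node (.leaf 0) (.leaf 0))))) (.node (.node (.node (.node (.leaf 0) (.leaf 0)) (.node (.leaf 0) (.leaf 0))) (.node (.node (.leaf 0) (.leaf 0)) (.node (.leaf 0) (.leaf 0)))) (.node (.node (.node (.leaf 0) (.leaf 0)) (.node (.leaf 0) (.leaf 0))) (.node (.node (.leaf 0) (.leaf 0)) (.node (.leaf 0) (.leaf 0)))))))

/-- A Schreier factor, part 1010. -/
def facCodePart1010 : Janko1.Tree ℕ := (.node (.node (.node (.node (.node (.node (.leaf 0) (.leaf 0)) (.node (.leaf 0) (.leaf 0))) (.node (.node (.leaf 0) (.leaf 0)) (.node (.leaf 0) (.leaf 0)))) (.node (.node (.node (.leaf 0) (.leaf 0)) (.node (.leaf 0) (.leaf 0))) (.node (.node (.leaf 0) (.leaf 0)) (.node (.leaf 0) (.leaf 0))))) (.node (.node (.node (.node (.leaf 0) (.leaf 0)) (.node (.leaf 0) (.leaf 0))) (.node (.node (.leaf 0) (.leaf 0)) (.node (.leaf 0) (.leaf 0)))) (.node (.node (.node (.leaf 0) (.leaf 0)) (.node (.leaf 0)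 (.leaf 0))) (.node (.node (.leaf 0) (.leaf 0)) (.node (.leaf 0) (.leaf 0)))))) (.node (.node (.node (.node (.node (.leaf 0) (.leaf 0)) (.node (.leaf 0) (.leaf 0))) (.node (.node (.leaf 0) (.leaf 0)) (.node (.leaf 0) (.leaf 0)))) (.node (.node (.node (.leaf 0) (.leaf 0)) (.node (.leaf 0) (.leaf 0))) (.node (.node (.leaf 0) (.leaf 0)) (.node (.leaf 0) (.leaf 0))))) (.node (.node (.node (.node (.leaf 0) (.leaf 0)) (.node (.leaf 0) (.leaf 0))) (.node (.node (.leaf 0) (.leaf 0)) (.node (.leaf 0) (.leaf 0)))) (.node (.node (.node (.leaf 0) (.leaf 0)) (.node (.leaf 0) (.leaf 0))) (.node (.node (.leaf 0) (.leaf 0)) (.node (.leaf 0) (.leaf 0)))))))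

/-- A Schreier factor, part 1011. -/
def facCodePart1011 : Janko1.Tree ℕ := (.node (.node (.node (.node (.node (.node (.leaf 0) (.leaf 0)) (.node (.leaf 0) (.leaf 0))) (.node (.node (.leaf 0) (.leaf 0)) (.node (.leaf 0) (.leaf 0)))) (.node (.node (.node (.leaf 0) (.leaf 0)) (.node (.leaf 0) (.leaf 0))) (.node (.node (.leaf 0) (.leaf 0)) (.node (.leaf 0) (.leaf 0))))) (.node (.node (.node (.node (.leaf 0) (.leaf 0)) (.node (.leaf 0) (.leaf 0))) (.node (.node (.leaf 0) (.leaf 0)) (.node (.leaf 0) (.leaf 0)))) (.node (.node (.node (.leaf 0) (.leaf 0)) (.node (.leaf 0) (.leaf 0))) (.node (.node (.leaf 0) (.leaf 0)) (.node (.leaf 0) (.leaf 0)))))) (.node (.node (.node (.node (.node (.leaf 0) (.leaf 0)) (.node (.leaf 0) (.leaf 0))) (.node (.node (.leaf 0) (.leaf 0)) (.node (.leaf 0) (.leaf 0)))) (.node (.node (.node (.leaf 0) (.leaf 0)) (.node (.leaf 0) (.leaf 0))) (.node (.node (.leaf 0) (.leaf 0)) (.node (.leaf 0) (.leaf 0))))) (.node (.node (.node (.node (.leaf 0) (.leaf 0)) (.node (.leaf 0) (.leaf 0))) (.node (.node (.leaf 0) (.leaf 0)) (.node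 (.leaf 0) (.leaf 0)))) (.node (.node (.node (.leaf 0) (.leaf 0)) (.node (.leaf 0) (.leaf 0))) (.node (.node (.leaf 0) (.leaf 0)) (.node (.leaf 0) (.leaf 0)))))))

/-- A Schreier factor, part 1012. -/
def facCodePart1012 : Janko1.Tree ℕ := (.node (.node (.node (.node (.node (.node (.leaf 0) (.leaf 0)) (.node (.leaf 0) (.leaf 0))) (.node (.node (.leaf 0) (.leaf 0)) (.node (.leaf 0) (.leaf 0)))) (.node (.node (.node (.leaf 0) (.leaf 0)) (.node (.leaf 0) (.leaf 0))) (.node (.node (.leaf 0) (.leaf 0)) (.node (.leaf 0) (.leaf 0))))) (.node (.node (.node (.node (.leaf 0) (.leaf 0)) (.node (.leaf 0) (.leaf 0))) (.node (.node (.leaf 0) (.leaf 0)) (.node (.leaf 0) (.leaf 0)))) (.node (.node (.node (.leaf 0) (.leaf 0)) (.node (.leaf 0) (.leaf 0))) (.node (.node (.leaf 0) (.leaf 0)) (.node (.leaf 0) (.leaf 0)))))) (.node (.node (.node (.node (.node (.leaf 0) (.leaf 0)) (.node (.leaf 0) (.leaf 0))) (.node (.node (.leaf 0) (.leaf 0)) (.node (.leaf 0) (.leaf 0)))) (.node (.node (.node (.leaf 0) (.leaf 0)) (.node (.leaf 0) (.leaf 0))) (.node (.node (.leaf 0)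 (.leaf 0)) (.node (.leaf 0) (.leaf 0))))) (.node (.node (.node (.node (.leaf 0) (.leaf 0)) (.node (.leaf 0) (.leaf 0))) (.node (.node (.leaf 0) (.leaf 0)) (.node (.leaf 0) (.leaf 0)))) (.node (.node (.node (.leaf 0) (.leaf 0)) (.node (.leaf 0) (.leaf 0))) (.node (.node (.leaf 0) (.leaf 0)) (.node (.leaf 0) (.leaf 0)))))))

/-- A Schreier factor, part 1013. -/
def facCodePart1013 : Janko1.Tree ℕ := (.node (.node (.node (.node (.node (.node (.leaf 0) (.leaf 0)) (.node (.leaf 0) (.leaf 0))) (.node (.node (.leaf 0) (.leaf 0)) (.node (.leaf 0) (.leaf 0)))) (.node (.node (.node (.leaf 0) (.leaf 0)) (.node (.leaf 0) (.leaf 0))) (.node (.node (.leaf 0) (.leaf 0)) (.node (.leaf 0) (.leaf 0))))) (.node (.node (.node (.node (.leaf 0) (.leaf 0)) (.node (.leaf 0) (.leaf 0))) (.node (.node (.leaf 0) (.leaf 0)) (.node (.leaf 0) (.leaf 0)))) (.node (.node (.node (.leaf 0) (.leaf 0)) (.node (.leaf 0) (.leaf 0))) (.node (.node (.leaf 0) (.leaf 0)) (.node (.leaf 0) (.leaf 0)))))) (.node (.node (.node (.node (.node (.leaf 0) (.leaf 0)) (.node (.leaf 0) (.leaf 0)))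 (.node (.node (.leaf 0) (.leaf 0)) (.node (.leaf 0) (.leaf 0)))) (.node (.node (.node (.leaf 0) (.leaf 0)) (.node (.leaf 0) (.leaf 0))) (.node (.node (.leaf 0) (.leaf 0)) (.node (.leaf 0) (.leaf 0))))) (.node (.node (.node (.node (.leaf 0) (.leaf 0)) (.node (.leaf 0) (.leaf 0))) (.node (.node (.leaf 0) (.leaf 0)) (.node (.leaf 0) (.leaf 0)))) (.node (.node (.node (.leaf 0) (.leaf 0)) (.node (.leaf 0) (.leaf 0))) (.node (.node (.leaf 0) (.leaf 0)) (.node (.leaf 0) (.leaf 0)))))))

/-- A Schreier factor, part 1014. -/
def facCodePart1014 : Janko1.Tree ℕ := (.node (.node (.node (.node (.node (.node (.leaf 0) (.leaf 0)) (.node (.leaf 0) (.leaf 0))) (.node (.node (.leaf 0) (.leaf 0)) (.node (.leaf 0) (.leaf 0)))) (.node (.node (.node (.leaf 0) (.leaf 0)) (.node (.leaf 0) (.leaf 0))) (.node (.node (.leaf 0) (.leaf 0)) (.node (.leaf 0) (.leaf 0))))) (.node (.node (.node (.node (.leaf 0) (.leaf 0)) (.node (.leaf 0) (.leaf 0))) (.node (.node (.leaf 0) (.leaf 0)) (.node (.leaf 0) (.leaf 0)))) (.node (.node (.node (.leaf 0) (.leaf 0)) (.node (.leaf 0)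 (.leaf 0))) (.node (.node (.leaf 0) (.leaf 0)) (.node (.leaf 0) (.leaf 0)))))) (.node (.node (.node (.node (.node (.leaf 0) (.leaf 0)) (.node (.leaf 0) (.leaf 0))) (.node (.node (.leaf 0) (.leaf 0)) (.node (.leaf 0) (.leaf 0)))) (.node (.node (.node (.leaf 0) (.leaf 0)) (.node (.leaf 0) (.leaf 0))) (.node (.node (.leaf 0) (.leaf 0)) (.node (.leaf 0) (.leaf 0))))) (.node (.node (.node (.node (.leaf 0) (.leaf 0)) (.node (.leaf 0) (.leaf 0))) (.node (.node (.leaf 0) (.leaf 0)) (.node (.leaf 0) (.leaf 0)))) (.node (.node (.node (.leaf 0) (.leaf 0)) (.node (.leaf 0) (.leaf 0))) (.node (.node (.leaf 0) (.leaf 0)) (.node (.leaf 0) (.leaf 0)))))))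

/-- A Schreier factor, part 1015. -/
def facCodePart1015 : Janko1.Tree ℕ := (.node (.node (.node (.node (.node (.node (.leaf 0) (.leaf 0)) (.node (.leaf 0) (.leaf 0))) (.node (.node (.leaf 0) (.leaf 0)) (.node (.leaf 0) (.leaf 0)))) (.node (.node (.node (.leaf 0) (.leaf 0)) (.node (.leaf 0) (.leaf 0))) (.node (.node (.leaf 0) (.leaf 0)) (.node (.leaf 0) (.leaf 0))))) (.node (.node (.node (.node (.leaf 0) (.leaf 0)) (.node (.leaf 0) (.leaf 0))) (.node (.node (.leaf 0) (.leaf 0)) (.node (.leaf 0) (.leaf 0)))) (.node (.node (.node (.leaf 0) (.leaf 0)) (.node (.leaf 0) (.leaf 0))) (.node (.node (.leaf 0) (.leaf 0)) (.node (.leaf 0) (.leaf 0)))))) (.node (.node (.node (.node (.node (.leaf 0) (.leaf 0)) (.node (.leaf 0) (.leaf 0))) (.node (.node (.leaf 0) (.leaf 0)) (.node (.leaf 0) (.leaf 0)))) (.node (.node (.node (.leaf 0) (.leaf 0)) (.node (.leaf 0) (.leaf 0))) (.node (.node (.leaf 0) (.leaf 0)) (.node (.leaf 0) (.leaf 0))))) (.node (.node (.node (.node (.leaf 0) (.leaf 0)) (.node (.leaf 0) (.leaf 0))) (.node (.node (.leaf 0) (.leaf 0)) (.node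 (.leaf 0) (.leaf 0)))) (.node (.node (.node (.leaf 0) (.leaf 0)) (.node (.leaf 0) (.leaf 0))) (.node (.node (.leaf 0) (.leaf 0)) (.node (.leaf 0) (.leaf 0)))))))

/-- A Schreier factor, part 1016. -/
def facCodePart1016 : Janko1.Tree ℕ := (.node (.node (.node (.node (.node (.node (.leaf 0) (.leaf 0)) (.node (.leaf 0) (.leaf 0))) (.node (.node (.leaf 0) (.leaf 0)) (.node (.leaf 0) (.leaf 0)))) (.node (.node (.node (.leaf 0) (.leaf 0)) (.node (.leaf 0) (.leaf 0))) (.node (.node (.leaf 0) (.leaf 0)) (.node (.leaf 0) (.leaf 0))))) (.node (.node (.node (.node (.leaf 0) (.leaf 0)) (.node (.leaf 0) (.leaf 0))) (.node (.node (.leaf 0) (.leaf 0)) (.node (.leaf 0) (.leaf 0)))) (.node (.node (.node (.leaf 0) (.leaf 0)) (.node (.leaf 0) (.leaf 0))) (.node (.node (.leaf 0) (.leaf 0)) (.node (.leaf 0) (.leaf 0)))))) (.node (.node (.node (.node (.node (.leaf 0) (.leaf 0)) (.node (.leaf 0) (.leaf 0))) (.node (.node (.leaf 0) (.leaf 0)) (.node (.leaf 0) (.leaf 0)))) (.node (.node (.node (.leaf 0) (.leaf 0)) (.node (.leaf 0) (.leaf 0))) (.node (.node (.leaf 0)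 (.leaf 0)) (.node (.leaf 0) (.leaf 0))))) (.node (.node (.node (.node (.leaf 0) (.leaf 0)) (.node (.leaf 0) (.leaf 0))) (.node (.node (.leaf 0) (.leaf 0)) (.node (.leaf 0) (.leaf 0)))) (.node (.node (.node (.leaf 0) (.leaf 0)) (.node (.leaf 0) (.leaf 0))) (.node (.node (.leaf 0) (.leaf 0)) (.node (.leaf 0) (.leaf 0)))))))

/-- A Schreier factor, part 1017. -/
def facCodePart1017 : Janko1.Tree ℕ := (.node (.node (.node (.node (.node (.node (.leaf 0) (.leaf 0)) (.node (.leaf 0) (.leaf 0))) (.node (.node (.leaf 0) (.leaf 0)) (.node (.leaf 0) (.leaf 0)))) (.node (.node (.node (.leaf 0) (.leaf 0)) (.node (.leaf 0) (.leaf 0))) (.node (.node (.leaf 0) (.leaf 0)) (.node (.leaf 0) (.leaf 0))))) (.node (.node (.node (.node (.leaf 0) (.leaf 0)) (.node (.leaf 0) (.leaf 0))) (.node (.node (.leaf 0) (.leaf 0)) (.node (.leaf 0) (.leaf 0)))) (.node (.node (.node (.leaf 0) (.leaf 0)) (.node (.leaf 0) (.leaf 0))) (.node (.node (.leaf 0) (.leaf 0)) (.node (.leaf 0) (.leaf 0)))))) (.node (.node (.node (.node (.node (.leaf 0) (.leaf 0)) (.node (.leaf 0) (.leaf 0)))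 (.node (.node (.leaf 0) (.leaf 0)) (.node (.leaf 0) (.leaf 0)))) (.node (.node (.node (.leaf 0) (.leaf 0)) (.node (.leaf 0) (.leaf 0))) (.node (.node (.leaf 0) (.leaf 0)) (.node (.leaf 0) (.leaf 0))))) (.node (.node (.node (.node (.leaf 0) (.leaf 0)) (.node (.leaf 0) (.leaf 0))) (.node (.node (.leaf 0) (.leaf 0)) (.node (.leaf 0) (.leaf 0)))) (.node (.node (.node (.leaf 0) (.leaf 0)) (.node (.leaf 0) (.leaf 0))) (.node (.node (.leaf 0) (.leaf 0)) (.node (.leaf 0) (.leaf 0)))))))

/-- A Schreier factor, part 1018. -/
def facCodePart1018 : Janko1.Tree ℕ := (.node (.node (.node (.node (.node (.node (.leaf 0) (.leaf 0)) (.node (.leaf 0) (.leaf 0))) (.node (.node (.leaf 0) (.leaf 0)) (.node (.leaf 0) (.leaf 0)))) (.node (.node (.node (.leaf 0) (.leaf 0)) (.node (.leaf 0) (.leaf 0))) (.node (.node (.leaf 0) (.leaf 0)) (.node (.leaf 0) (.leaf 0))))) (.node (.node (.node (.node (.leaf 0) (.leaf 0)) (.node (.leaf 0) (.leaf 0))) (.node (.node (.leaf 0) (.leaf 0)) (.node (.leaf 0) (.leaf 0)))) (.node (.node (.node (.leaf 0) (.leaf 0)) (.node (.leaf 0)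 (.leaf 0))) (.node (.node (.leaf 0) (.leaf 0)) (.node (.leaf 0) (.leaf 0)))))) (.node (.node (.node (.node (.node (.leaf 0) (.leaf 0)) (.node (.leaf 0) (.leaf 0))) (.node (.node (.leaf 0) (.leaf 0)) (.node (.leaf 0) (.leaf 0)))) (.node (.node (.node (.leaf 0) (.leaf 0)) (.node (.leaf 0) (.leaf 0))) (.node (.node (.leaf 0) (.leaf 0)) (.node (.leaf 0) (.leaf 0))))) (.node (.node (.node (.node (.leaf 0) (.leaf 0)) (.node (.leaf 0) (.leaf 0))) (.node (.node (.leaf 0) (.leaf 0)) (.node (.leaf 0) (.leaf 0)))) (.node (.node (.node (.leaf 0) (.leaf 0)) (.node (.leaf 0) (.leaf 0))) (.node (.node (.leaf 0) (.leaf 0)) (.node (.leaf 0) (.leaf 0)))))))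

/-- A Schreier factor, part 1019. -/
def facCodePart1019 : Janko1.Tree ℕ := (.node (.node (.node (.node (.node (.node (.leaf 0) (.leaf 0)) (.node (.leaf 0) (.leaf 0))) (.node (.node (.leaf 0) (.leaf 0)) (.node (.leaf 0) (.leaf 0)))) (.node (.node (.node (.leaf 0) (.leaf 0)) (.node (.leaf 0) (.leaf 0))) (.node (.node (.leaf 0) (.leaf 0)) (.node (.leaf 0) (.leaf 0))))) (.node (.node (.node (.node (.leaf 0) (.leaf 0)) (.node (.leaf 0) (.leaf 0))) (.node (.node (.leaf 0) (.leaf 0)) (.node (.leaf 0) (.leaf 0)))) (.node (.node (.node (.leaf 0) (.leaf 0)) (.node (.leaf 0) (.leaf 0))) (.node (.node (.leaf 0) (.leaf 0)) (.node (.leaf 0) (.leaf 0)))))) (.node (.node (.node (.node (.node (.leaf 0) (.leaf 0)) (.node (.leaf 0) (.leaf 0))) (.node (.node (.leaf 0) (.leaf 0)) (.node (.leaf 0) (.leaf 0)))) (.node (.node (.node (.leaf 0) (.leaf 0)) (.node (.leaf 0) (.leaf 0))) (.node (.node (.leaf 0) (.leaf 0)) (.node (.leaf 0) (.leaf 0))))) (.node (.node (.node (.node (.leaf 0) (.leaf 0)) (.node (.leaf 0) (.leaf 0))) (.node (.node (.leaf 0) (.leaf 0)) (.node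 (.leaf 0) (.leaf 0)))) (.node (.node (.node (.leaf 0) (.leaf 0)) (.node (.leaf 0) (.leaf 0))) (.node (.node (.leaf 0) (.leaf 0)) (.node (.leaf 0) (.leaf 0)))))))

/-- A Schreier factor, part 1020. -/
def facCodePart1020 : Janko1.Tree ℕ := (.node (.node (.node (.node (.node (.node (.leaf 0) (.leaf 0)) (.node (.leaf 0) (.leaf 0))) (.node (.node (.leaf 0) (.leaf 0)) (.node (.leaf 0) (.leaf 0)))) (.node (.node (.node (.leaf 0) (.leaf 0)) (.node (.leaf 0) (.leaf 0))) (.node (.node (.leaf 0) (.leaf 0)) (.node (.leaf 0) (.leaf 0))))) (.node (.node (.node (.node (.leaf 0) (.leaf 0)) (.node (.leaf 0) (.leaf 0))) (.node (.node (.leaf 0) (.leaf 0)) (.node (.leaf 0) (.leaf 0)))) (.node (.node (.node (.leaf 0) (.leaf 0)) (.node (.leaf 0) (.leaf 0))) (.node (.node (.leaf 0) (.leaf 0)) (.node (.leaf 0) (.leaf 0)))))) (.node (.node (.node (.node (.node (.leaf 0) (.leaf 0)) (.node (.leaf 0) (.leaf 0))) (.node (.node (.leaf 0) (.leaf 0)) (.node (.leaf 0) (.leaf 0)))) (.node (.node (.node (.leaf 0) (.leaf 0)) (.node (.leaf 0) (.leaf 0))) (.node (.node (.leaf 0)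 (.leaf 0)) (.node (.leaf 0) (.leaf 0))))) (.node (.node (.node (.node (.leaf 0) (.leaf 0)) (.node (.leaf 0) (.leaf 0))) (.node (.node (.leaf 0) (.leaf 0)) (.node (.leaf 0) (.leaf 0)))) (.node (.node (.node (.leaf 0) (.leaf 0)) (.node (.leaf 0) (.leaf 0))) (.node (.node (.leaf 0) (.leaf 0)) (.node (.leaf 0) (.leaf 0)))))))

/-- A Schreier factor, part 1021. -/
def facCodePart1021 : Janko1.Tree ℕ := (.node (.node (.node (.node (.node (.node (.leaf 0) (.leaf 0)) (.node (.leaf 0) (.leaf 0))) (.node (.node (.leaf 0) (.leaf 0)) (.node (.leaf 0) (.leaf 0)))) (.node (.node (.node (.leaf 0) (.leaf 0)) (.node (.leaf 0) (.leaf 0))) (.node (.node (.leaf 0) (.leaf 0)) (.node (.leaf 0) (.leaf 0))))) (.node (.node (.node (.node (.leaf 0) (.leaf 0)) (.node (.leaf 0) (.leaf 0))) (.node (.node (.leaf 0) (.leaf 0)) (.node (.leaf 0) (.leaf 0)))) (.node (.node (.node (.leaf 0) (.leaf 0)) (.node (.leaf 0) (.leaf 0))) (.node (.node (.leaf 0) (.leaf 0)) (.node (.leaf 0) (.leaf 0)))))) (.node (.node (.node (.node (.node (.leaf 0) (.leaf 0)) (.node (.leaf 0) (.leaf 0)))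 (.node (.node (.leaf 0) (.leaf 0)) (.node (.leaf 0) (.leaf 0)))) (.node (.node (.node (.leaf 0) (.leaf 0)) (.node (.leaf 0) (.leaf 0))) (.node (.node (.leaf 0) (.leaf 0)) (.node (.leaf 0) (.leaf 0))))) (.node (.node (.node (.node (.leaf 0) (.leaf 0)) (.node (.leaf 0) (.leaf 0))) (.node (.node (.leaf 0) (.leaf 0)) (.node (.leaf 0) (.leaf 0)))) (.node (.node (.node (.leaf 0) (.leaf 0)) (.node (.leaf 0) (.leaf 0))) (.node (.node (.leaf 0) (.leaf 0)) (.node (.leaf 0) (.leaf 0)))))))

/-- A Schreier factor, part 1022. -/
def facCodePart1022 : Janko1.Tree ℕ := (.node (.node (.node (.node (.node (.node (.leaf 0) (.leaf 0)) (.node (.leaf 0) (.leaf 0))) (.node (.node (.leaf 0) (.leaf 0)) (.node (.leaf 0) (.leaf 0)))) (.node (.node (.node (.leaf 0) (.leaf 0)) (.node (.leaf 0) (.leaf 0))) (.node (.node (.leaf 0) (.leaf 0)) (.node (.leaf 0) (.leaf 0))))) (.node (.node (.node (.node (.leaf 0) (.leaf 0)) (.node (.leaf 0) (.leaf 0))) (.node (.node (.leaf 0) (.leaf 0)) (.node (.leaf 0) (.leaf 0)))) (.node (.node (.node (.leaf 0) (.leaf 0)) (.node (.leaf 0)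 (.leaf 0))) (.node (.node (.leaf 0) (.leaf 0)) (.node (.leaf 0) (.leaf 0)))))) (.node (.node (.node (.node (.node (.leaf 0) (.leaf 0)) (.node (.leaf 0) (.leaf 0))) (.node (.node (.leaf 0) (.leaf 0)) (.node (.leaf 0) (.leaf 0)))) (.node (.node (.node (.leaf 0) (.leaf 0)) (.node (.leaf 0) (.leaf 0))) (.node (.node (.leaf 0) (.leaf 0)) (.node (.leaf 0) (.leaf 0))))) (.node (.node (.node (.node (.leaf 0) (.leaf 0)) (.node (.leaf 0) (.leaf 0))) (.node (.node (.leaf 0) (.leaf 0)) (.node (.leaf 0) (.leaf 0)))) (.node (.node (.node (.leaf 0) (.leaf 0)) (.node (.leaf 0) (.leaf 0))) (.node (.node (.leaf 0) (.leaf 0)) (.node (.leaf 0) (.leaf 0)))))))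

/-- A Schreier factor, part 1023. -/
def facCodePart1023 : Janko1.Tree ℕ := (.node (.node (.node (.node (.node (.node (.leaf 0) (.leaf 0)) (.node (.leaf 0) (.leaf 0))) (.node (.node (.leaf 0) (.leaf 0)) (.node (.leaf 0) (.leaf 0)))) (.node (.node (.node (.leaf 0) (.leaf 0)) (.node (.leaf 0) (.leaf 0))) (.node (.node (.leaf 0) (.leaf 0)) (.node (.leaf 0) (.leaf 0))))) (.node (.node (.node (.node (.leaf 0) (.leaf 0)) (.node (.leaf 0) (.leaf 0))) (.node (.node (.leaf 0) (.leaf 0)) (.node (.leaf 0) (.leaf 0)))) (.node (.node (.node (.leaf 0) (.leaf 0)) (.node (.leaf 0) (.leaf 0))) (.node (.node (.leaf 0) (.leaf 0)) (.node (.leaf 0) (.leaf 0)))))) (.node (.node (.node (.node (.node (.leaf 0) (.leaf 0)) (.node (.leaf 0) (.leaf 0))) (.node (.node (.leaf 0) (.leaf 0)) (.node (.leaf 0) (.leaf 0)))) (.node (.node (.node (.leaf 0) (.leaf 0)) (.node (.leaf 0) (.leaf 0))) (.node (.node (.leaf 0) (.leaf 0)) (.node (.leaf 0) (.leaf 0))))) (.node (.node (.node (.node (.leaf 0) (.leaf 0)) (.node (.leaf 0) (.leaf 0))) (.node (.node (.leaf 0) (.leaf 0)) (.node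 (.leaf 0) (.leaf 0)))) (.node (.node (.node (.leaf 0) (.leaf 0)) (.node (.leaf 0) (.leaf 0))) (.node (.node (.leaf 0) (.leaf 0)) (.node (.leaf 0) (.leaf 0)))))))

/-- A Schreier factor, block 0. -/
def facCodeBlock0 : Janko1.Tree ℕ := (.node (.node (.node (.node (.node facCodePart0 facCodePart1) (.node facCodePart2 facCodePart3)) (.node (.node facCodePart4 facCodePart5) (.node facCodePart6 facCodePart7))) (.node (.node (.node facCodePart8 facCodePart9) (.node facCodePart10 facCodePart11)) (.node (.node facCodePart12 facCodePart13) (.node facCodePart14 facCodePart15)))) (.node (.node (.node (.node facCodePart16 facCodePart17) (.node facCodePart18 facCodePart19)) (.node (.node facCodePart20 facCodePart21) (.node facCodePart22 facCodePart23))) (.node (.node (.node facCodePart24 facCodePart25) (.node facCodePart26 facCodePart27)) (.node (.node facCodePart28 facCodePart29) (.node facCodePart30 facCodePart31)))))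

/-- A Schreier factor, block 1. -/
def facCodeBlock1 : Janko1.Tree ℕ := (.node (.node (.node (.node (.node facCodePart32 facCodePart33) (.node facCodePart34 facCodePart35)) (.node (.node facCodePart36 facCodePart37) (.node facCodePart38 facCodePart39))) (.node (.node (.node facCodePart40 facCodePart41) (.node facCodePart42 facCodePart43)) (.node (.node facCodePart44 facCodePart45) (.node facCodePart46 facCodePart47)))) (.node (.node (.node (.node facCodePart48 facCodePart49) (.node facCodePart50 facCodePart51)) (.node (.node facCodePart52 facCodePart53) (.node facCodePart54 facCodePart55))) (.node (.node (.node facCodePart56 facCodePart57) (.node facCodePart58 facCodePart59)) (.node (.node facCodePart60 facCodePart61) (.node facCodePart62 facCodePart63)))))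

/-- A Schreier factor, block 2. -/
def facCodeBlock2 : Janko1.Tree ℕ := (.node (.node (.node (.node (.node facCodePart64 facCodePart65) (.node facCodePart66 facCodePart67)) (.node (.node facCodePart68 facCodePart69) (.node facCodePart70 facCodePart71))) (.node (.node (.node facCodePart72 facCodePart73) (.node facCodePart74 facCodePart75)) (.node (.node facCodePart76 facCodePart77) (.node facCodePart78 facCodePart79)))) (.node (.node (.node (.node facCodePart80 facCodePart81) (.node facCodePart82 facCodePart83)) (.node (.node facCodePart84 facCodePart85) (.node facCodePart86 facCodePart87))) (.node (.node (.node facCodePart88 facCodePart89) (.node facCodePart90 facCodePart91)) (.node (.node facCodePart92 facCodePart93) (.node facCodePart94 facCodePart95)))))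

/-- A Schreier factor, block 3. -/
def facCodeBlock3 : Janko1.Tree ℕ := (.node (.node (.node (.node (.node facCodePart96 facCodePart97) (.node facCodePart98 facCodePart99)) (.node (.node facCodePart100 facCodePart101) (.node facCodePart102 facCodePart103))) (.node (.node (.node facCodePart104 facCodePart105) (.node facCodePart106 facCodePart107)) (.node (.node facCodePart108 facCodePart109) (.node facCodePart110 facCodePart111)))) (.node (.node (.node (.node facCodePart112 facCodePart113) (.node facCodePart114 facCodePart115)) (.node (.node facCodePart116 facCodePart117) (.node facCodePart118 facCodePart119))) (.node (.node (.node facCodePart120 facCodePart121) (.node facCodePart122 facCodePart123)) (.node (.node facCodePart124 facCodePart125) (.node facCodePart126 facCodePart127)))))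

/-- A Schreier factor, block 4. -/
def facCodeBlock4 : Janko1.Tree ℕ := (.node (.node (.node (.node (.node facCodePart128 facCodePart129) (.node facCodePart130 facCodePart131)) (.node (.node facCodePart132 facCodePart133) (.node facCodePart134 facCodePart135))) (.node (.node (.node facCodePart136 facCodePart137) (.node facCodePart138 facCodePart139)) (.node (.node facCodePart140 facCodePart141) (.node facCodePart142 facCodePart143)))) (.node (.node (.node (.node facCodePart144 facCodePart145) (.node facCodePart146 facCodePart147)) (.node (.node facCodePart148 facCodePart149) (.node facCodePart150 facCodePart151))) (.node (.node (.node facCodePart152 facCodePart153) (.node facCodePart154 facCodePart155)) (.node (.node facCodePart156 facCodePart157) (.node facCodePart158 facCodePart159)))))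

/-- A Schreier factor, block 5. -/
def facCodeBlock5 : Janko1.Tree ℕ := (.node (.node (.node (.node (.node facCodePart160 facCodePart161) (.node facCodePart162 facCodePart163)) (.node (.node facCodePart164 facCodePart165) (.node facCodePart166 facCodePart167))) (.node (.node (.node facCodePart168 facCodePart169) (.node facCodePart170 facCodePart171)) (.node (.node facCodePart172 facCodePart173) (.node facCodePart174 facCodePart175)))) (.node (.node (.node (.node facCodePart176 facCodePart177) (.node facCodePart178 facCodePart179)) (.node (.node facCodePart180 facCodePart181) (.node facCodePart182 facCodePart183))) (.node (.node (.node facCodePart184 facCodePart185) (.node facCodePart186 facCodePart187)) (.node (.node facCodePart188 facCodePart189) (.node facCodePart190 facCodePart191)))))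

/-- A Schreier factor, block 6. -/
def facCodeBlock6 : Janko1.Tree ℕ := (.node (.node (.node (.node (.node facCodePart192 facCodePart193) (.node facCodePart194 facCodePart195)) (.node (.node facCodePart196 facCodePart197) (.node facCodePart198 facCodePart199))) (.node (.node (.node facCodePart200 facCodePart201) (.node facCodePart202 facCodePart203)) (.node (.node facCodePart204 facCodePart205) (.node facCodePart206 facCodePart207)))) (.node (.node (.node (.node facCodePart208 facCodePart209) (.node facCodePart210 facCodePart211)) (.node (.node facCodePart212 facCodePart213) (.node facCodePart214 facCodePart215))) (.node (.node (.node facCodePart216 facCodePart217) (.node facCodePart218 facCodePart219)) (.node (.node facCodePart220 facCodePart221) (.node facCodePart222 facCodePart223)))))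

/-- A Schreier factor, block 7. -/
def facCodeBlock7 : Janko1.Tree ℕ := (.node (.node (.node (.node (.node facCodePart224 facCodePart225) (.node facCodePart226 facCodePart227)) (.node (.node facCodePart228 facCodePart229) (.node facCodePart230 facCodePart231))) (.node (.node (.node facCodePart232 facCodePart233) (.node facCodePart234 facCodePart235)) (.node (.node facCodePart236 facCodePart237) (.node facCodePart238 facCodePart239)))) (.node (.node (.node (.node facCodePart240 facCodePart241) (.node facCodePart242 facCodePart243)) (.node (.node facCodePart244 facCodePart245) (.node facCodePart246 facCodePart247))) (.node (.node (.node facCodePart248 facCodePart249) (.node facCodePart250 facCodePart251)) (.node (.node facCodePart252 facCodePart253) (.node facCodePart254 facCodePart255)))))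

/-- A Schreier factor, block 8. -/
def facCodeBlock8 : Janko1.Tree ℕ := (.node (.node (.node (.node (.node facCodePart256 facCodePart257) (.node facCodePart258 facCodePart259)) (.node (.node facCodePart260 facCodePart261) (.node facCodePart262 facCodePart263))) (.node (.node (.node facCodePart264 facCodePart265) (.node facCodePart266 facCodePart267)) (.node (.node facCodePart268 facCodePart269) (.node facCodePart270 facCodePart271)))) (.node (.node (.node (.node facCodePart272 facCodePart273) (.node facCodePart274 facCodePart275)) (.node (.node facCodePart276 facCodePart277) (.node facCodePart278 facCodePart279))) (.node (.node (.node facCodePart280 facCodePart281) (.node facCodePart282 facCodePart283)) (.node (.node facCodePart284 facCodePart285) (.node facCodePart286 facCodePart287)))))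

/-- A Schreier factor, block 9. -/
def facCodeBlock9 : Janko1.Tree ℕ := (.node (.node (.node (.node (.node facCodePart288 facCodePart289) (.node facCodePart290 facCodePart291)) (.node (.node facCodePart292 facCodePart293) (.node facCodePart294 facCodePart295))) (.node (.node (.node facCodePart296 facCodePart297) (.node facCodePart298 facCodePart299)) (.node (.node facCodePart300 facCodePart301) (.node facCodePart302 facCodePart303)))) (.node (.node (.node (.node facCodePart304 facCodePart305) (.node facCodePart306 facCodePart307)) (.node (.node facCodePart308 facCodePart309) (.node facCodePart310 facCodePart311))) (.node (.node (.node facCodePart312 facCodePart313) (.node facCodePart314 facCodePart315)) (.node (.node facCodePart316 facCodePart317) (.node facCodePart318 facCodePart319)))))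

/-- A Schreier factor, block 10. -/
def facCodeBlock10 : Janko1.Tree ℕ := (.node (.node (.node (.node (.node facCodePart320 facCodePart321) (.node facCodePart322 facCodePart323)) (.node (.node facCodePart324 facCodePart325) (.node facCodePart326 facCodePart327))) (.node (.node (.node facCodePart328 facCodePart329) (.node facCodePart330 facCodePart331)) (.node (.node facCodePart332 facCodePart333) (.node facCodePart334 facCodePart335)))) (.node (.node (.node (.node facCodePart336 facCodePart337) (.node facCodePart338 facCodePart339)) (.node (.node facCodePart340 facCodePart341) (.node facCodePart342 facCodePart343))) (.node (.node (.node facCodePart344 facCodePart345) (.node facCodePart346 facCodePart347)) (.node (.node facCodePart348 facCodePart349) (.node facCodePart350 facCodePart351)))))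

/-- A Schreier factor, block 11. -/
def facCodeBlock11 : Janko1.Tree ℕ := (.node (.node (.node (.node (.node facCodePart352 facCodePart353) (.node facCodePart354 facCodePart355)) (.node (.node facCodePart356 facCodePart357) (.node facCodePart358 facCodePart359))) (.node (.node (.node facCodePart360 facCodePart361) (.node facCodePart362 facCodePart363)) (.node (.node facCodePart364 facCodePart365) (.node facCodePart366 facCodePart367)))) (.node (.node (.node (.node facCodePart368 facCodePart369) (.node facCodePart370 facCodePart371)) (.node (.node facCodePart372 facCodePart373) (.node facCodePart374 facCodePart375))) (.node (.node (.node facCodePart376 facCodePart377) (.node facCodePart378 facCodePart379)) (.node (.node facCodePart380 facCodePart381) (.node facCodePart382 facCodePart383)))))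

/-- A Schreier factor, block 12. -/
def facCodeBlock12 : Janko1.Tree ℕ := (.node (.node (.node (.node (.node facCodePart384 facCodePart385) (.node facCodePart386 facCodePart387)) (.node (.node facCodePart388 facCodePart389) (.node facCodePart390 facCodePart391))) (.node (.node (.node facCodePart392 facCodePart393) (.node facCodePart394 facCodePart395)) (.node (.node facCodePart396 facCodePart397) (.node facCodePart398 facCodePart399)))) (.node (.node (.node (.node facCodePart400 facCodePart401) (.node facCodePart402 facCodePart403)) (.node (.node facCodePart404 facCodePart405) (.node facCodePart406 facCodePart407))) (.node (.node (.node facCodePart408 facCodePart409) (.node facCodePart410 facCodePart411)) (.node (.node facCodePart412 facCodePart413) (.node facCodePart414 facCodePart415)))))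

/-- A Schreier factor, block 13. -/
def facCodeBlock13 : Janko1.Tree ℕ := (.node (.node (.node (.node (.node facCodePart416 facCodePart417) (.node facCodePart418 facCodePart419)) (.node (.node facCodePart420 facCodePart421) (.node facCodePart422 facCodePart423))) (.node (.node (.node facCodePart424 facCodePart425) (.node facCodePart426 facCodePart427)) (.node (.node facCodePart428 facCodePart429) (.node facCodePart430 facCodePart431)))) (.node (.node (.node (.node facCodePart432 facCodePart433) (.node facCodePart434 facCodePart435)) (.node (.node facCodePart436 facCodePart437) (.node facCodePart438 facCodePart439))) (.node (.node (.node facCodePart440 facCodePart441) (.node facCodePart442 facCodePart443)) (.node (.node facCodePart444 facCodePart445) (.node facCodePart446 facCodePart447)))))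

/-- A Schreier factor, block 14. -/
def facCodeBlock14 : Janko1.Tree ℕ := (.node (.node (.node (.node (.node facCodePart448 facCodePart449) (.node facCodePart450 facCodePart451)) (.node (.node facCodePart452 facCodePart453) (.node facCodePart454 facCodePart455))) (.node (.node (.node facCodePart456 facCodePart457) (.node facCodePart458 facCodePart459)) (.node (.node facCodePart460 facCodePart461) (.node facCodePart462 facCodePart463)))) (.node (.node (.node (.node facCodePart464 facCodePart465) (.node facCodePart466 facCodePart467)) (.node (.node facCodePart468 facCodePart469) (.node facCodePart470 facCodePart471))) (.node (.node (.node facCodePart472 facCodePart473) (.node facCodePart474 facCodePart475)) (.node (.node facCodePart476 facCodePart477) (.node facCodePart478 facCodePart479)))))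

/-- A Schreier factor, block 15. -/
def facCodeBlock15 : Janko1.Tree ℕ := (.node (.node (.node (.node (.node facCodePart480 facCodePart481) (.node facCodePart482 facCodePart483)) (.node (.node facCodePart484 facCodePart485) (.node facCodePart486 facCodePart487))) (.node (.node (.node facCodePart488 facCodePart489) (.node facCodePart490 facCodePart491)) (.node (.node facCodePart492 facCodePart493) (.node facCodePart494 facCodePart495)))) (.node (.node (.node (.node facCodePart496 facCodePart497) (.node facCodePart498 facCodePart499)) (.node (.node facCodePart500 facCodePart501) (.node facCodePart502 facCodePart503))) (.node (.node (.node facCodePart504 facCodePart505) (.node facCodePart506 facCodePart507)) (.node (.node facCodePart508 facCodePart509) (.node facCodePart510 facCodePart511)))))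

/-- A Schreier factor, block 16. -/
def facCodeBlock16 : Janko1.Tree ℕ := (.node (.node (.node (.node (.node facCodePart512 facCodePart513) (.node facCodePart514 facCodePart515)) (.node (.node facCodePart516 facCodePart517) (.node facCodePart518 facCodePart519))) (.node (.node (.node facCodePart520 facCodePart521) (.node facCodePart522 facCodePart523)) (.node (.node facCodePart524 facCodePart525) (.node facCodePart526 facCodePart527)))) (.node (.node (.node (.node facCodePart528 facCodePart529) (.node facCodePart530 facCodePart531)) (.node (.node facCodePart532 facCodePart533) (.node facCodePart534 facCodePart535))) (.node (.node (.node facCodePart536 facCodePart537) (.node facCodePart538 facCodePart539)) (.node (.node facCodePart540 facCodePart541) (.node facCodePart542 facCodePart543)))))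

/-- A Schreier factor, block 17. -/
def facCodeBlock17 : Janko1.Tree ℕ := (.node (.node (.node (.node (.node facCodePart544 facCodePart545) (.node facCodePart546 facCodePart547)) (.node (.node facCodePart548 facCodePart549) (.node facCodePart550 facCodePart551))) (.node (.node (.node facCodePart552 facCodePart553) (.node facCodePart554 facCodePart555)) (.node (.node facCodePart556 facCodePart557) (.node facCodePart558 facCodePart559)))) (.node (.node (.node (.node facCodePart560 facCodePart561) (.node facCodePart562 facCodePart563)) (.node (.node facCodePart564 facCodePart565) (.node facCodePart566 facCodePart567))) (.node (.node (.node facCodePart568 facCodePart569) (.node facCodePart570 facCodePart571)) (.node (.node facCodePart572 facCodePart573) (.node facCodePart574 facCodePart575)))))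

/-- A Schreier factor, block 18. -/
def facCodeBlock18 : Janko1.Tree ℕ := (.node (.node (.node (.node (.node facCodePart576 facCodePart577) (.node facCodePart578 facCodePart579)) (.node (.node facCodePart580 facCodePart581) (.node facCodePart582 facCodePart583))) (.node (.node (.node facCodePart584 facCodePart585) (.node facCodePart586 facCodePart587)) (.node (.node facCodePart588 facCodePart589) (.node facCodePart590 facCodePart591)))) (.node (.node (.node (.node facCodePart592 facCodePart593) (.node facCodePart594 facCodePart595)) (.node (.node facCodePart596 facCodePart597) (.node facCodePart598 facCodePart599))) (.node (.node (.node facCodePart600 facCodePart601) (.node facCodePart602 facCodePart603)) (.node (.node facCodePart604 facCodePart605) (.node facCodePart606 facCodePart607)))))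

/-- A Schreier factor, block 19. -/
def facCodeBlock19 : Janko1.Tree ℕ := (.node (.node (.node (.node (.node facCodePart608 facCodePart609) (.node facCodePart610 facCodePart611)) (.node (.node facCodePart612 facCodePart613) (.node facCodePart614 facCodePart615))) (.node (.node (.node facCodePart616 facCodePart617) (.node facCodePart618 facCodePart619)) (.node (.node facCodePart620 facCodePart621) (.node facCodePart622 facCodePart623)))) (.node (.node (.node (.node facCodePart624 facCodePart625) (.node facCodePart626 facCodePart627)) (.node (.node facCodePart628 facCodePart629) (.node facCodePart630 facCodePart631))) (.node (.node (.node facCodePart632 facCodePart633) (.node facCodePart634 facCodePart635)) (.node (.node facCodePart636 facCodePart637) (.node facCodePart638 facCodePart639)))))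

/-- A Schreier factor, block 20. -/
def facCodeBlock20 : Janko1.Tree ℕ := (.node (.node (.node (.node (.node facCodePart640 facCodePart641) (.node facCodePart642 facCodePart643)) (.node (.node facCodePart644 facCodePart645) (.node facCodePart646 facCodePart647))) (.node (.node (.node facCodePart648 facCodePart649) (.node facCodePart650 facCodePart651)) (.node (.node facCodePart652 facCodePart653) (.node facCodePart654 facCodePart655)))) (.node (.node (.node (.node facCodePart656 facCodePart657) (.node facCodePart658 facCodePart659)) (.node (.node facCodePart660 facCodePart661) (.node facCodePart662 facCodePart663))) (.node (.node (.node facCodePart664 facCodePart665) (.node facCodePart666 facCodePart667)) (.node (.node facCodePart668 facCodePart669) (.node facCodePart670 facCodePart671)))))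

/-- A Schreier factor, block 21. -/
def facCodeBlock21 : Janko1.Tree ℕ := (.node (.node (.node (.node (.node facCodePart672 facCodePart673) (.node facCodePart674 facCodePart675)) (.node (.node facCodePart676 facCodePart677) (.node facCodePart678 facCodePart679))) (.node (.node (.node facCodePart680 facCodePart681) (.node facCodePart682 facCodePart683)) (.node (.node facCodePart684 facCodePart685) (.node facCodePart686 facCodePart687)))) (.node (.node (.node (.node facCodePart688 facCodePart689) (.node facCodePart690 facCodePart691)) (.node (.node facCodePart692 facCodePart693) (.node facCodePart694 facCodePart695))) (.node (.node (.node facCodePart696 facCodePart697) (.node facCodePart698 facCodePart699)) (.node (.node facCodePart700 facCodePart701) (.node facCodePart702 facCodePart703)))))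

/-- A Schreier factor, block 22. -/
def facCodeBlock22 : Janko1.Tree ℕ := (.node (.node (.node (.node (.node facCodePart704 facCodePart705) (.node facCodePart706 facCodePart707)) (.node (.node facCodePart708 facCodePart709) (.node facCodePart710 facCodePart711))) (.node (.node (.node facCodePart712 facCodePart713) (.node facCodePart714 facCodePart715)) (.node (.node facCodePart716 facCodePart717) (.node facCodePart718 facCodePart719)))) (.node (.node (.node (.node facCodePart720 facCodePart721) (.node facCodePart722 facCodePart723)) (.node (.node facCodePart724 facCodePart725) (.node facCodePart726 facCodePart727))) (.node (.node (.node facCodePart728 facCodePart729) (.node facCodePart730 facCodePart731)) (.node (.node facCodePart732 facCodePart733) (.node facCodePart734 facCodePart735)))))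

/-- A Schreier factor, block 23. -/
def facCodeBlock23 : Janko1.Tree ℕ := (.node (.node (.node (.node (.node facCodePart736 facCodePart737) (.node facCodePart738 facCodePart739)) (.node (.node facCodePart740 facCodePart741) (.node facCodePart742 facCodePart743))) (.node (.node (.node facCodePart744 facCodePart745) (.node facCodePart746 facCodePart747)) (.node (.node facCodePart748 facCodePart749) (.node facCodePart750 facCodePart751)))) (.node (.node (.node (.node facCodePart752 facCodePart753) (.node facCodePart754 facCodePart755)) (.node (.node facCodePart756 facCodePart757) (.node facCodePart758 facCodePart759))) (.node (.node (.node facCodePart760 facCodePart761) (.node facCodePart762 facCodePart763)) (.node (.node facCodePart764 facCodePart765) (.node facCodePart766 facCodePart767)))))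

/-- A Schreier factor, block 24. -/
def facCodeBlock24 : Janko1.Tree ℕ := (.node (.node (.node (.node (.node facCodePart768 facCodePart769) (.node facCodePart770 facCodePart771)) (.node (.node facCodePart772 facCodePart773) (.node facCodePart774 facCodePart775))) (.node (.node (.node facCodePart776 facCodePart777) (.node facCodePart778 facCodePart779)) (.node (.node facCodePart780 facCodePart781) (.node facCodePart782 facCodePart783)))) (.node (.node (.node (.node facCodePart784 facCodePart785) (.node facCodePart786 facCodePart787)) (.node (.node facCodePart788 facCodePart789) (.node facCodePart790 facCodePart791))) (.node (.node (.node facCodePart792 facCodePart793) (.node facCodePart794 facCodePart795)) (.node (.node facCodePart796 facCodePart797) (.node facCodePart798 facCodePart799)))))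

/-- A Schreier factor, block 25. -/
def facCodeBlock25 : Janko1.Tree ℕ := (.node (.node (.node (.node (.node facCodePart800 facCodePart801) (.node facCodePart802 facCodePart803)) (.node (.node facCodePart804 facCodePart805) (.node facCodePart806 facCodePart807))) (.node (.node (.node facCodePart808 facCodePart809) (.node facCodePart810 facCodePart811)) (.node (.node facCodePart812 facCodePart813) (.node facCodePart814 facCodePart815)))) (.node (.node (.node (.node facCodePart816 facCodePart817) (.node facCodePart818 facCodePart819)) (.node (.node facCodePart820 facCodePart821) (.node facCodePart822 facCodePart823))) (.node (.node (.node facCodePart824 facCodePart825) (.node facCodePart826 facCodePart827)) (.node (.node facCodePart828 facCodePart829) (.node facCodePart830 facCodePart831)))))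

/-- A Schreier factor, block 26. -/
def facCodeBlock26 : Janko1.Tree ℕ := (.node (.node (.node (.node (.node facCodePart832 facCodePart833) (.node facCodePart834 facCodePart835)) (.node (.node facCodePart836 facCodePart837) (.node facCodePart838 facCodePart839))) (.node (.node (.node facCodePart840 facCodePart841) (.node facCodePart842 facCodePart843)) (.node (.node facCodePart844 facCodePart845) (.node facCodePart846 facCodePart847)))) (.node (.node (.node (.node facCodePart848 facCodePart849) (.node facCodePart850 facCodePart851)) (.node (.node facCodePart852 facCodePart853) (.node facCodePart854 facCodePart855))) (.node (.node (.node facCodePart856 facCodePart857) (.node facCodePart858 facCodePart859)) (.node (.node facCodePart860 facCodePart861) (.node facCodePart862 facCodePart863)))))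

/-- A Schreier factor, block 27. -/
def facCodeBlock27 : Janko1.Tree ℕ := (.node (.node (.node (.node (.node facCodePart864 facCodePart865) (.node facCodePart866 facCodePart867)) (.node (.node facCodePart868 facCodePart869) (.node facCodePart870 facCodePart871))) (.node (.node (.node facCodePart872 facCodePart873) (.node facCodePart874 facCodePart875)) (.node (.node facCodePart876 facCodePart877) (.node facCodePart878 facCodePart879)))) (.node (.node (.node (.node facCodePart880 facCodePart881) (.node facCodePart882 facCodePart883)) (.node (.node facCodePart884 facCodePart885) (.node facCodePart886 facCodePart887))) (.node (.node (.node facCodePart888 facCodePart889) (.node facCodePart890 facCodePart891)) (.node (.node facCodePart892 facCodePart893) (.node facCodePart894 facCodePart895)))))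

/-- A Schreier factor, block 28. -/
def facCodeBlock28 : Janko1.Tree ℕ := (.node (.node (.node (.node (.node facCodePart896 facCodePart897) (.node facCodePart898 facCodePart899)) (.node (.node facCodePart900 facCodePart901) (.node facCodePart902 facCodePart903))) (.node (.node (.node facCodePart904 facCodePart905) (.node facCodePart906 facCodePart907)) (.node (.node facCodePart908 facCodePart909) (.node facCodePart910 facCodePart911)))) (.node (.node (.node (.node facCodePart912 facCodePart913) (.node facCodePart914 facCodePart915)) (.node (.node facCodePart916 facCodePart917) (.node facCodePart918 facCodePart919))) (.node (.node (.node facCodePart920 facCodePart921) (.node facCodePart922 facCodePart923)) (.node (.node facCodePart924 facCodePart925) (.node facCodePart926 facCodePart927)))))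

/-- A Schreier factor, block 29. -/
def facCodeBlock29 : Janko1.Tree ℕ := (.node (.node (.node (.node (.node facCodePart928 facCodePart929) (.node facCodePart930 facCodePart931)) (.node (.node facCodePart932 facCodePart933) (.node facCodePart934 facCodePart935))) (.node (.node (.node facCodePart936 facCodePart937) (.node facCodePart938 facCodePart939)) (.node (.node facCodePart940 facCodePart941) (.node facCodePart942 facCodePart943)))) (.node (.node (.node (.node facCodePart944 facCodePart945) (.node facCodePart946 facCodePart947)) (.node (.node facCodePart948 facCodePart949) (.node facCodePart950 facCodePart951))) (.node (.node (.node facCodePart952 facCodePart953) (.node facCodePart954 facCodePart955)) (.node (.node facCodePart956 facCodePart957) (.node facCodePart958 facCodePart959)))))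

/-- A Schreier factor, block 30. -/
def facCodeBlock30 : Janko1.Tree ℕ := (.node (.node (.node (.node (.node facCodePart960 facCodePart961) (.node facCodePart962 facCodePart963)) (.node (.node facCodePart964 facCodePart965) (.node facCodePart966 facCodePart967))) (.node (.node (.node facCodePart968 facCodePart969) (.node facCodePart970 facCodePart971)) (.node (.node facCodePart972 facCodePart973) (.node facCodePart974 facCodePart975)))) (.node (.node (.node (.node facCodePart976 facCodePart977) (.node facCodePart978 facCodePart979)) (.node (.node facCodePart980 facCodePart981) (.node facCodePart982 facCodePart983))) (.node (.node (.node facCodePart984 facCodePart985) (.node facCodePart986 facCodePart987)) (.node (.node facCodePart988 facCodePart989) (.node facCodePart990 facCodePart991)))))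

/-- A Schreier factor, block 31. -/
def facCodeBlock31 : Janko1.Tree ℕ := (.node (.node (.node (.node (.node facCodePart992 facCodePart993) (.node facCodePart994 facCodePart995)) (.node (.node facCodePart996 facCodePart997) (.node facCodePart998 facCodePart999))) (.node (.node (.node facCodePart1000 facCodePart1001) (.node facCodePart1002 facCodePart1003)) (.node (.node facCodePart1004 facCodePart1005) (.node facCodePart1006 facCodePart1007)))) (.node (.node (.node (.node facCodePart1008 facCodePart1009) (.node facCodePart1010 facCodePart1011)) (.node (.node facCodePart1012 facCodePart1013) (.node facCodePart1014 facCodePart1015))) (.node (.node (.node facCodePart1016 facCodePart1017) (.node facCodePart1018 facCodePart1019)) (.node (.node facCodePart1020 facCodePart1021) (.node facCodePart1022 facCodePart1023)))))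

/-- A Schreier factor. -/
def facCodeTree : Janko1.Tree ℕ := (.node (.node (.node (.node (.node facCodeBlock0 facCodeBlock1) (.node facCodeBlock2 facCodeBlock3)) (.node (.node facCodeBlock4 facCodeBlock5) (.node facCodeBlock6 facCodeBlock7))) (.node (.node (.node facCodeBlock8 facCodeBlock9) (.node facCodeBlock10 facCodeBlock11)) (.node (.node facCodeBlock12 facCodeBlock13) (.node facCodeBlock14 facCodeBlock15)))) (.node (.node (.node (.node facCodeBlock16 facCodeBlock17) (.node facCodeBlock18 facCodeBlock19)) (.node (.node facCodeBlock20 facCodeBlock21) (.node facCodeBlock22 facCodeBlock23))) (.node (.node (.node facCodeBlock24 facCodeBlock25) (.node facCodeBlock26 facCodeBlock27)) (.node (.node facCodeBlock28 facCodeBlock29) (.node facCodeBlock30 facCodeBlock31)))))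

/-- A Schreier factor, by index. -/
def facCode (i : ℕ) : ℕ := facCodeTree.get 16 i

/-- A suborbit and a mover, part 0. -/
def redCodePart0 : Janko1.Tree ℕ := (.node (.node (.node (.node (.node (.node (.leaf 0) (.leaf 1537)) (.node (.leaf 513) (.leaf 641))) (.node (.node (.leaf 1538) (.leaf 642)) (.node (.leaf 1409) (.leaf 129)))) (.node (.node (.node (.leaf 1539) (.leaf 1540)) (.node (.leaf 1541) (.leaf 4))) (.node (.node (.leaf 1542) (.leaf 1543)) (.node (.leaf 257) (.leaf 259))))) (.node (.node (.node (.node (.leaf 772) (.leaf 1544)) (.node (.leaf 643) (.leaf 1545))) (.node (.node (.leaf 646) (.leaf 130)) (.node (.leaf 137) (.leaf 775)))) (.node (.node (.node (.leaf 1281) (.leaf 1282)) (.node (.leaf 514) (.leaf 1921))) (.node (.node (.leaf 1793) (.leaf 1665)) (.node (.leaf 131) (.leaf 1289)))))) (.node (.node (.node (.node (.node (.leaf 394) (.leaf 1288)) (.node (.leaf 1035) (.leaf 644))) (.node (.node (.leaf 647) (.leaf 395)) (.node (.leaf 645) (.leaf 650)))) (.node (.node (.node (.leaf 134) (.leaf 390)) (.node (.leaf 1159) (.leaf 393)))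 (.node (.node (.leaf 769) (.leaf 260)) (.node (.leaf 771) (.leaf 520))))) (.node (.node (.node (.node (.leaf 1284) (.leaf 1287)) (.node (.leaf 907) (.leaf 770))) (.node (.node (.leaf 774) (.leaf 7)) (.node (.leaf 1033) (.leaf 261)))) (.node (.node (.node (.leaf 773) (.leaf 264)) (.node (.leaf 901) (.leaf 1153))) (.node (.node (.leaf 266) (.leaf 1800)) (.node (.leaf 11) (.leaf 1926)))))))

/-- A suborbit and a mover, part 1. -/
def redCodePart1 : Janko1.Tree ℕ := (.node (.node (.node (.node (.node (.node (.leaf 1801) (.leaf 1924)) (.node (.leaf 1283) (.leaf 1286))) (.node (.node (.leaf 521) (.leaf 1285)) (.node (.leaf 1034) (.leaf 777)))) (.node (.node (.node (.leaf 391) (.leaf 1030)) (.node (.leaf 776) (.leaf 389))) (.node (.node (.leaf 904) (.leaf 392)) (.node (.leaf 524) (.leaf 1927))))) (.node (.node (.node (.node (.leaf 1923) (.leaf 1925)) (.node (.leaf 1155) (.leaf 1028))) (.node (.node (.leaf 1) (.leaf 516)) (.node (.leaf 515) (.leaf 517)))) (.node (.node (.node (.leaf 3) (.leaf 649)) (.node (.leaf 522) (.leaf 136))) (.node (.node (.leaf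 8) (.leaf 5)) (.node (.leaf 1032) (.leaf 258)))))) (.node (.node (.node (.node (.node (.leaf 262) (.leaf 265)) (.node (.leaf 903) (.leaf 897))) (.node (.node (.leaf 779) (.leaf 1797)) (.node (.leaf 10) (.leaf 1799)))) (.node (.node (.node (.leaf 1798) (.leaf 899)) (.node (.leaf 132) (.leaf 519))) (.node (.node (.leaf 518) (.leaf 648)) (.node (.leaf 523) (.leaf 133))))) (.node (.node (.node (.node (.leaf 1160) (.leaf 1157)) (.node (.leaf 1029) (.leaf 652))) (.node (.node (.leaf 135) (.leaf 1161)) (.node (.leaf 1158) (.leaf 1417)))) (.node (.node (.node (.leaf 388) (.leaf 1416)) (.node (.leaf 1795) (.leaf 1796))) (.node (.node (.leaf 2) (.leaf 263)) (.node (.leaf 9) (.leaf 6)))))))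

/-- A suborbit and a mover, part 2. -/
def redCodePart2 : Janko1.Tree ℕ := (.node (.node (.node (.node (.node (.node (.leaf 902) (.leaf 385)) (.node (.leaf 267) (.leaf 1669))) (.node (.node (.leaf 1929) (.leaf 900)) (.node (.leaf 1025) (.leaf 778)))) (.node (.node (.node (.leaf 1672) (.leaf 1415)) (.node (.leaf 1411) (.leaf 12))) (.node (.node (.leaf 905) (.leaf 1031)) (.node (.leaf 138) (.leaf 1670))))) (.node (.node (.node (.node (.leaf 1671) (.leaf 387)) (.node (.leaf 1928) (.leaf 1668))) (.node (.node (.leaf 1667) (.leaf 139)) (.node (.leaf 1673) (.leaf 1414)))) (.node (.node (.node (.leaf 1412) (.leaf 1413)) (.node (.leaf 1156) (.leaf 1027))) (.node (.node (.leaf 268) (.leaf 72524)) (.node (.leaf 10818) (.leaf 10914)))))) (.node (.node (.node (.node (.node (.leaf 6978) (.leaf 7074)) (.node (.leaf 11043) (.leaf 11203))) (.node (.node (.leaf 11044) (.leaf 11204)) (.node (.leaf 3652) (.leaf 3748)))) (.node (.node (.node (.leaf 909) (.leaf 14115)) (.node (.leaf 14275) (.leaf 10276))) (.node (.node (.leaf 10436) (.leaf 3139)) (.node (.leaf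 3235) (.leaf 1038))))) (.node (.node (.node (.node (.leaf 2626) (.leaf 2722)) (.node (.leaf 399) (.leaf 1168))) (.node (.node (.leaf 6210) (.leaf 6306)) (.node (.leaf 7746) (.leaf 7842)))) (.node (.node (.node (.leaf 32643) (.leaf 32515)) (.node (.leaf 401) (.leaf 910))) (.node (.node (.leaf 1042) (.leaf 46084)) (.node (.leaf 46212) (.leaf 402)))))))

/-- A suborbit and a mover, part 3. -/
def redCodePart3 : Janko1.Tree ℕ := (.node (.node (.node (.node (.node (.node (.leaf 657) (.leaf 653)) (.node (.leaf 143) (.leaf 784))) (.node (.node (.leaf 1555) (.leaf 1556)) (.node (.leaf 212243) (.leaf 212244)))) (.node (.node (.node (.leaf 14340) (.leaf 14468)) (.node (.leaf 10499) (.leaf 10627))) (.node (.node (.leaf 28324) (.leaf 28228)) (.node (.leaf 914) (.leaf 10114))))) (.node (.node (.node (.node (.leaf 9986) (.leaf 1299)) (.node (.leaf 1300) (.leaf 400))) (.node (.node (.leaf 16) (.leaf 405)) (.node (.leaf 406) (.leaf 19)))) (.node (.node (.node (.leaf 20) (.leaf 273)) (.node (.leaf 781) (.leaf 18))) (.node (.node (.leaf 188324) (.leaf 188228))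 (.node (.leaf 5251) (.leaf 5123)))))) (.node (.node (.node (.node (.node (.leaf 526) (.leaf 1165)) (.node (.leaf 1041) (.leaf 1039))) (.node (.node (.leaf 783) (.leaf 229651)) (.node (.leaf 229652) (.leaf 147)))) (.node (.node (.node (.leaf 148) (.leaf 277)) (.node (.leaf 278) (.leaf 782))) (.node (.node (.leaf 188323) (.leaf 188227)) (.node (.leaf 77603) (.leaf 77763))))) (.node (.node (.node (.node (.leaf 126628) (.leaf 126532)) (.node (.leaf 8196) (.leaf 8324))) (.node (.node (.leaf 8195) (.leaf 8323)) (.node (.leaf 23043) (.leaf 23171)))) (.node (.node (.node (.leaf 529) (.leaf 21)) (.node (.leaf 22) (.leaf 275))) (.node (.node (.leaf 276) (.leaf 13954)) (.node (.leaf 13826) (.leaf 659)))))))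

/-- A suborbit and a mover, part 4. -/
def redCodePart4 : Janko1.Tree ℕ := (.node (.node (.node (.node (.node (.node (.leaf 660) (.leaf 271)) (.node (.leaf 655) (.leaf 142))) (.node (.node (.leaf 786) (.leaf 17)) (.node (.leaf 83715) (.leaf 83843)))) (.node (.node (.node (.leaf 2692) (.leaf 2564)) (.node (.leaf 397) (.leaf 530))) (.node (.node (.leaf 398) (.leaf 787)) (.node (.leaf 788) (.leaf 661))))) (.node (.node (.node (.node (.leaf 662) (.leaf 144)) (.node (.leaf 656) (.leaf 203603))) (.node (.node (.leaf 203604) (.leaf 141)) (.node (.leaf 64772) (.leaf 64900)))) (.node (.node (.node (.leaf 166051) (.leaf 165955)) (.node (.leaf 166052) (.leaf 165956))) (.node (.node (.leaf 3714) (.leaf 3586)) (.node (.leaf 272) (.leaf 15)))))) (.node (.node (.node (.node (.node (.leaf 274) (.leaf 14)) (.node (.leaf 13) (.leaf 61572))) (.node (.node (.leaf 61444) (.leaf 269)) (.node (.leaf 785) (.leaf 270)))) (.node (.node (.node (.leaf 202371) (.leaf 202243)) (.node (.leaf 112659) (.leaf 112660))) (.node (.node (.leaf 158003) (.leaf 158004)) (.node (.leaf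 528) (.leaf 527))))) (.node (.node (.node (.node (.leaf 531) (.leaf 532)) (.node (.leaf 168787) (.leaf 168788))) (.node (.node (.leaf 145) (.leaf 64163)) (.node (.leaf 64067) (.leaf 196740)))) (.node (.node (.node (.leaf 196612) (.leaf 172099)) (.node (.leaf 172195) (.leaf 146))) (.node (.node (.leaf 179364) (.leaf 179268)) (.node (.leaf 130692) (.leaf 130564)))))))

/-- A suborbit and a mover, part 5. -/
def redCodePart5 : Janko1.Tree ℕ := (.node (.node (.node (.node (.node (.node (.leaf 56995) (.leaf 56899)) (.node (.leaf 151603) (.leaf 151604))) (.node (.node (.leaf 118035) (.leaf 118036)) (.node (.leaf 11138) (.leaf 11010)))) (.node (.node (.node (.leaf 50977) (.leaf 51137)) (.node (.leaf 11427) (.leaf 11331))) (.node (.node (.leaf 41541) (.leaf 41637)) (.node (.leaf 3398) (.leaf 3494))))) (.node (.node (.node (.node (.leaf 40461) (.leaf 14499)) (.node (.leaf 14403) (.leaf 41768))) (.node (.node (.leaf 41928) (.leaf 3401)) (.node (.leaf 3497) (.leaf 2633)))) (.node (.node (.node (.leaf 2729) (.leaf 1559)) (.node (.leaf 3407) (.leaf 1560)))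 (.node (.node (.leaf 6818) (.leaf 6722)) (.node (.leaf 48897) (.leaf 49025)))))) (.node (.node (.node (.node (.node (.leaf 53121) (.leaf 52993)) (.node (.leaf 166850) (.leaf 166690))) (.node (.node (.leaf 6825) (.leaf 6729)) (.node (.leaf 38865) (.leaf 28750)))) (.node (.node (.node (.leaf 87064) (.leaf 39090)) (.node (.leaf 25361) (.leaf 135736))) (.node (.node (.leaf 213304) (.leaf 214232)) (.node (.leaf 160912) (.leaf 14212))))) (.node (.node (.node (.node (.leaf 14084) (.leaf 30024)) (.node (.leaf 30120) (.leaf 6535))) (.node (.node (.leaf 6407) (.leaf 29266)) (.node (.leaf 28752) (.leaf 13080)))) (.node (.node (.node (.leaf 13829) (.leaf 13957)) (.node (.leaf 32086) (.leaf 32181))) (.node (.node (.leaf 14103) (.leaf 12433)) (.node (.leaf 115480) (.leaf 122634)))))))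

/-- A suborbit and a mover, part 6. -/
def redCodePart6 : Janko1.Tree ℕ := (.node (.node (.node (.node (.node (.node (.leaf 122762) (.leaf 5254)) (.node (.leaf 5126) (.leaf 27566))) (.node (.node (.leaf 26541) (.leaf 160088)) (.node (.leaf 28847) (.leaf 211384)))) (.node (.node (.node (.leaf 1561) (.leaf 53081)) (.node (.leaf 34388) (.leaf 34483))) (.node (.node (.leaf 38981) (.leaf 39077)) (.node (.leaf 121751) (.leaf 152024))))) (.node (.node (.node (.node (.leaf 101553) (.leaf 126385)) (.node (.leaf 159448) (.leaf 8068))) (.node (.node (.leaf 7940) (.leaf 30469)) (.node (.leaf 30597) (.leaf 31249)))) (.node (.node (.node (.leaf 9224) (.leaf 9352)) (.node (.leaf 24342) (.leaf 24469))) (.node (.node (.leaf 22036) (.leaf 22163)) (.node (.leaf 35848) (.leaf 35976)))))) (.node (.node (.node (.node (.node (.leaf 13830) (.leaf 13958)) (.node (.leaf 46867) (.leaf 46996))) (.node (.node (.leaf 20751) (.leaf 204472)) (.node (.leaf 9230) (.leaf 108216)))) (.node (.node (.node (.leaf 142990) (.leaf 4743)) (.node (.leaf 4615) (.leaf 25490))) (.node (.node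 (.leaf 57752) (.leaf 32791)) (.node (.leaf 134999) (.leaf 32400))))) (.node (.node (.node (.node (.leaf 49432) (.leaf 25478)) (.node (.leaf 25350) (.leaf 1562))) (.node (.node (.leaf 1563) (.leaf 32408)) (.node (.leaf 70232) (.leaf 2183)))) (.node (.node (.node (.leaf 2055) (.leaf 7959)) (.node (.leaf 166744) (.leaf 11538))) (.node (.node (.leaf 37848) (.leaf 123442)) (.node (.leaf 13197) (.leaf 14104)))))))

/-- A suborbit and a mover, part 7. -/
def redCodePart7 : Janko1.Tree ℕ := (.node (.node (.node (.node (.node (.node (.leaf 68310) (.leaf 68149)) (.node (.leaf 37175) (.leaf 69829))) (.node (.node (.leaf 69669) (.leaf 2832)) (.node (.leaf 4632) (.leaf 9112)))) (.node (.node (.node (.leaf 60239) (.leaf 144696)) (.node (.leaf 102955) (.leaf 103115))) (.node (.node (.leaf 126290) (.leaf 100152)) (.node (.leaf 17336) (.leaf 102157))))) (.node (.node (.node (.node (.leaf 94232) (.leaf 150039)) (.node (.leaf 86600) (.leaf 86696))) (.node (.node (.leaf 94356) (.leaf 94227)) (.node (.leaf 3394) (.leaf 11298)))) (.node (.node (.node (.leaf 11458)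 (.leaf 3490)) (.node (.leaf 3395) (.leaf 10755))) (.node (.node (.leaf 10883) (.leaf 3491)) (.node (.leaf 40589) (.leaf 2115)))))) (.node (.node (.node (.node (.node (.leaf 13827) (.leaf 13955)) (.node (.leaf 2211) (.leaf 34862))) (.node (.node (.leaf 35022) (.leaf 11063)) (.node (.leaf 11223) (.leaf 3503)))) (.node (.node (.node (.leaf 5250) (.leaf 6466)) (.node (.leaf 6562) (.leaf 5122))) (.node (.node (.leaf 168098) (.leaf 168834)) (.node (.leaf 168706) (.leaf 168002))))) (.node (.node (.node (.node (.leaf 38705) (.leaf 38698)) (.node (.leaf 38858) (.leaf 28846))) (.node (.node (.leaf 38987) (.leaf 38994)) (.node (.leaf 39083) (.leaf 25489)))) (.node (.node (.node (.leaf 25482) (.leaf 25354)) (.node (.leaf 9903) (.leaf 9807))) (.node (.node (.leaf 160784) (.leaf 2180)) (.node (.leaf 13828) (.leaf 13956)))))))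

/-- A suborbit and a mover, part 8. -/
def redCodePart8 : Janko1.Tree ℕ := (.node (.node (.node (.node (.node (.node (.leaf 2052) (.leaf 29259)) (.node (.leaf 29355) (.leaf 29362))) (.node (.node (.leaf 27731) (.leaf 27732)) (.node (.leaf 27827) (.leaf 27828)))) (.node (.node (.node (.leaf 28848) (.leaf 32085)) (.node (.leaf 32182) (.leaf 22455))) (.node (.node (.leaf 21847) (.leaf 12305)) (.node (.leaf 12298) (.leaf 12426))))) (.node (.node (.node (.node (.leaf 122641) (.leaf 122769)) (.node (.leaf 27470) (.leaf 26445))) (.node (.node (.leaf 28751) (.leaf 31162)) (.node (.leaf 11547) (.leaf 11674)))) (.node (.node (.node (.leaf 31067) (.leaf 34387)) (.node (.leaf 34484) (.leaf 93495))) (.node (.node (.leaf 58583) (.leaf 101457)) (.node (.leaf 101450) (.leaf 101546)))))) (.node (.node (.node (.node (.node (.leaf 126289) (.leaf 126282)) (.node (.leaf 126378) (.leaf 4740))) (.node (.node (.leaf 7684) (.leaf 7812)) (.node (.leaf 4612) (.leaf 31242)))) (.node (.node (.node (.leaf 31377) (.leaf 31370)) (.node (.leaf 24341) (.leaf 24470))) (.node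 (.node (.leaf 22035) (.leaf 22164)) (.node (.leaf 46868) (.leaf 46995))))) (.node (.node (.node (.node (.leaf 20879) (.leaf 9358)) (.node (.leaf 142862) (.leaf 30477))) (.node (.node (.leaf 30605) (.leaf 25483)) (.node (.leaf 25355) (.leaf 25362)))) (.node (.node (.node (.leaf 2711) (.leaf 32407)) (.node (.leaf 67127) (.leaf 149911))) (.node (.node (.leaf 32272) (.leaf 53915)) (.node (.leaf 30105) (.leaf 11673)))))))

/-- A suborbit and a mover, part 9. -/
def redCodePart9 : Janko1.Tree ℕ := (.node (.node (.node (.node (.node (.node (.leaf 53786) (.leaf 81870)) (.node (.leaf 81710) (.leaf 90670))) (.node (.node (.leaf 90830) (.leaf 7831)) (.node (.leaf 4631) (.leaf 8848)))) (.node (.node (.node (.leaf 8720) (.leaf 11531)) (.node (.leaf 11659) (.leaf 11666))) (.node (.node (.leaf 123435) (.leaf 123595)) (.node (.leaf 123602) (.leaf 13069))))) (.node (.node (.node (.node (.leaf 122637) (.leaf 122765)) (.node (.leaf 68309) (.leaf 68150))) (.node (.node (.leaf 112343) (.leaf 101911)) (.node (.leaf 2960) (.leaf 60335)))) (.node (.node (.node (.leaf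 102962) (.leaf 103122)) (.node (.leaf 126283) (.leaf 126379))) (.node (.node (.leaf 126386) (.leaf 102285)) (.node (.leaf 124461) (.leaf 124621)))))) (.node (.node (.node (.node (.node (.leaf 36567) (.leaf 143287)) (.node (.leaf 94355) (.leaf 94228))) (.node (.node (.leaf 7298) (.leaf 51361)) (.node (.leaf 7170) (.leaf 51265)))) (.node (.node (.node (.leaf 11428) (.leaf 41861)) (.node (.leaf 11332) (.leaf 41733))) (.node (.node (.leaf 3399) (.leaf 3495)) (.node (.leaf 10660) (.leaf 42152))))) (.node (.node (.node (.node (.leaf 10564) (.leaf 42056)) (.node (.leaf 3142) (.leaf 3238))) (.node (.node (.leaf 35150) (.leaf 2375)) (.node (.leaf 2471) (.leaf 11351)))) (.node (.node (.node (.leaf 3504) (.leaf 3512)) (.node (.leaf 8354) (.leaf 48769))) (.node (.node (.leaf 8258) (.leaf 48641)) (.node (.leaf 43777) (.leaf 172610)))))))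

/-- A suborbit and a mover, part 10. -/
def redCodePart10 : Janko1.Tree ℕ := (.node (.node (.node (.node (.node (.node (.leaf 43905) (.leaf 172706)) (.node (.leaf 37265) (.leaf 35666))) (.node (.node (.leaf 90936) (.leaf 7591)) (.node (.leaf 38610) (.leaf 7495)))) (.node (.node (.node (.leaf 34573) (.leaf 128824)) (.node (.leaf 213784) (.leaf 88239))) (.node (.node (.leaf 11992) (.leaf 10371)) (.node (.leaf 30632) (.leaf 10243))))) (.node (.node (.node (.node (.leaf 30536) (.leaf 28242)) (.node (.leaf 9990) (.leaf 28595))) (.node (.node (.leaf 10118) (.leaf 28500)) (.node (.leaf 24144) (.leaf 50872)))) (.node (.node (.node (.leaf 9989) (.leaf 30646)) (.node (.leaf 10117) (.leaf 30549))) (.node (.node (.leaf 23732) (.leaf 39845)) (.node (.leaf 23635) (.leaf 39749)))))) (.node (.node (.node (.node (.node (.leaf 10125) (.leaf 109485)) (.node (.leaf 16856) (.leaf 4745))) (.node (.node (.leaf 4617) (.leaf 161592)) (.node (.leaf 28849) (.leaf 228248)))) (.node (.node (.node (.leaf 19631) (.leaf 35654)) (.node (.leaf 538) (.leaf 35750))) (.node (.node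 (.leaf 539) (.leaf 10583)) (.node (.leaf 123351) (.leaf 10584))))) (.node (.node (.node (.node (.leaf 75160) (.leaf 8067)) (.node (.leaf 30341) (.leaf 7939))) (.node (.node (.leaf 30213) (.leaf 7305)) (.node (.leaf 7177) (.leaf 31761)))) (.node (.node (.node (.leaf 15368) (.leaf 23446)) (.node (.leaf 15496) (.leaf 23317))) (.node (.node (.leaf 25303) (.leaf 25359)) (.node (.leaf 190648) (.leaf 8466)))))))

/-- A suborbit and a mover, part 11. -/
def redCodePart11 : Janko1.Tree ℕ := (.node (.node (.node (.node (.node (.node (.leaf 154904) (.leaf 110283)) (.node (.leaf 110123) (.leaf 4742))) (.node (.node (.leaf 30349) (.leaf 4614)) (.node (.leaf 37006) (.leaf 62360)))) (.node (.node (.node (.leaf 18836) (.leaf 25736)) (.node (.leaf 18707) (.leaf 25608))) (.node (.node (.leaf 163927) (.leaf 39312)) (.node (.leaf 12312) (.leaf 537))))) (.node (.node (.node (.node (.leaf 44953) (.leaf 39992)) (.node (.leaf 121906) (.leaf 148530))) (.node (.node (.leaf 97112) (.leaf 3721)) (.node (.leaf 535) (.leaf 3593)))) (.node (.node (.node (.leaf 167768) (.leaf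 12302)) (.node (.leaf 24152) (.leaf 10129))) (.node (.node (.leaf 157592) (.leaf 108561)) (.node (.leaf 71222) (.leaf 71381)))))) (.node (.node (.node (.node (.node (.leaf 63400) (.leaf 156983)) (.node (.leaf 63304) (.leaf 4239))) (.node (.node (.leaf 536) (.leaf 166584)) (.node (.leaf 126896) (.leaf 104984)))) (.node (.node (.node (.leaf 155534) (.leaf 79576)) (.node (.leaf 120330) (.leaf 111320))) (.node (.node (.leaf 120458) (.leaf 148689)) (.node (.leaf 125848) (.leaf 40631))))) (.node (.node (.node (.node (.leaf 71621) (.leaf 71461)) (.node (.leaf 75028) (.leaf 75155))) (.node (.node (.leaf 3138) (.leaf 7458)) (.node (.leaf 7618) (.leaf 3234)))) (.node (.node (.node (.leaf 3396) (.leaf 10756)) (.node (.leaf 10884) (.leaf 3492))) (.node (.node (.leaf 41421) (.leaf 41261)) (.node (.leaf 2372) (.leaf 9988)))))))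

/-- A suborbit and a mover, part 12. -/
def redCodePart12 : Janko1.Tree ℕ := (.node (.node (.node (.node (.node (.node (.leaf 10116) (.leaf 2468)) (.node (.leaf 35246) (.leaf 10903))) (.node (.node (.leaf 3511) (.leaf 3408)) (.node (.leaf 4738) (.leaf 8002)))) (.node (.node (.node (.leaf 8098) (.leaf 4610)) (.node (.leaf 171042) (.leaf 174082))) (.node (.node (.leaf 174210) (.leaf 171202)) (.node (.leaf 37258) (.leaf 37137))))) (.node (.node (.node (.node (.leaf 37130) (.leaf 35659)) (.node (.leaf 35755) (.leaf 35762))) (.node (.node (.leaf 38603) (.leaf 38443)) (.node (.leaf 38450) (.leaf 34701)))) (.node (.node (.node (.leaf 10672) (.leaf 10576)) (.node (.leaf 88143) (.leaf 2435))) (.node (.node (.leaf 9987) (.leaf 10115)) (.node (.leaf 2307) (.leaf 28331)))))) (.node (.node (.node (.node (.node (.leaf 28338) (.leaf 28235)) (.node (.leaf 28596) (.leaf 28499))) (.node (.node (.leaf 24240) (.leaf 30645)) (.node (.leaf 30550) (.leaf 23731)))) (.node (.node (.node (.leaf 23636) (.leaf 9997)) (.node (.leaf 109389) (.leaf 26798))) (.node (.node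 (.leaf 26702) (.leaf 28753)) (.node (.leaf 28746) (.leaf 28842))))) (.node (.node (.node (.node (.leaf 19535) (.leaf 44635)) (.node (.leaf 42585) (.leaf 8601))) (.node (.node (.leaf 44730) (.leaf 20023)) (.node (.leaf 18583) (.leaf 74423)))) (.node (.node (.node (.leaf 91671) (.leaf 120333)) (.node (.leaf 120461) (.leaf 150541))) (.node (.node (.leaf 150669) (.leaf 4739)) (.node (.leaf 7683) (.leaf 7811)))))))

/-- A suborbit and a mover, part 13. -/
def redCodePart13 : Janko1.Tree ℕ := (.node (.node (.node (.node (.node (.node (.leaf 4611) (.leaf 31889)) (.node (.leaf 31882) (.leaf 31754))) (.node (.node (.leaf 23445) (.leaf 23318)) (.node (.leaf 3671) (.leaf 24151)))) (.node (.node (.node (.leaf 47251) (.leaf 47252)) (.node (.leaf 47123) (.leaf 47124))) (.node (.node (.leaf 25487) (.leaf 8459)) (.node (.leaf 8587) (.leaf 8594))))) (.node (.node (.node (.node (.leaf 110290) (.leaf 110130)) (.node (.leaf 30221) (.leaf 36878))) (.node (.node (.leaf 18835) (.leaf 18708)) (.node (.leaf 82103) (.leaf 125079)))) (.node (.node (.node (.leaf 39184)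 (.leaf 41498)) (.node (.leaf 8475) (.leaf 8602))) (.node (.node (.leaf 41627) (.leaf 121899)) (.node (.leaf 122059) (.leaf 122066)))))) (.node (.node (.node (.node (.node (.leaf 148523) (.leaf 148683)) (.node (.leaf 148690) (.leaf 8215))) (.node (.node (.leaf 8343) (.leaf 8847)) (.node (.leaf 8719) (.leaf 12430)))) (.node (.node (.node (.leaf 67374) (.leaf 67534)) (.node (.leaf 10001) (.leaf 9994))) (.node (.node (.leaf 10122) (.leaf 108689)) (.node (.leaf 108682) (.leaf 108554))))) (.node (.node (.node (.node (.leaf 71221) (.leaf 71382)) (.node (.leaf 27159) (.leaf 155863))) (.node (.node (.leaf 4111) (.leaf 126800)) (.node (.leaf 155406) (.leaf 58030)))) (.node (.node (.node (.leaf 57934) (.leaf 120337)) (.node (.leaf 120465) (.leaf 148529))) (.node (.node (.leaf 148522) (.leaf 148682)) (.node (.leaf 117783) (.leaf 109015)))))))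

/-- A suborbit and a mover, part 14. -/
def redCodePart14 : Janko1.Tree ℕ := (.node (.node (.node (.node (.node (.node (.leaf 75027) (.leaf 75156)) (.node (.leaf 5441) (.leaf 50689))) (.node (.node (.leaf 50817) (.leaf 5537)) (.node (.leaf 3397) (.leaf 42021)))) (.node (.node (.node (.leaf 42181) (.leaf 3493)) (.node (.leaf 3405) (.leaf 40365))) (.node (.node (.leaf 3400) (.leaf 41480)) (.node (.leaf 41608) (.leaf 3496))))) (.node (.node (.node (.node (.leaf 34702) (.leaf 2990)) (.node (.leaf 11447) (.leaf 3416))) (.node (.node (.leaf 5761) (.leaf 48385)) (.node (.leaf 48513) (.leaf 5633)))) (.node (.node (.node (.leaf 177282) (.leaf 177154)) (.node (.leaf 11434) (.leaf 38065))) (.node (.node (.leaf 11338) (.leaf 94808)) (.node (.leaf 7595) (.leaf 37010)))))) (.node (.node (.node (.node (.node (.leaf 7499) (.leaf 138040)) (.node (.leaf 15270) (.leaf 212056))) (.node (.node (.leaf 15174) (.leaf 7609)) (.node (.leaf 212919) (.leaf 13753)))) (.node (.node (.node (.leaf 4744) (.leaf 30280)) (.node (.leaf 30376) (.leaf 4616))) (.node (.node (.leaf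 6539) (.leaf 28754)) (.node (.leaf 6411) (.leaf 6163))))) (.node (.node (.node (.node (.leaf 28755) (.leaf 28852)) (.node (.leaf 6292) (.leaf 51544))) (.node (.node (.leaf 35657) (.leaf 35753)) (.node (.leaf 7701) (.leaf 7830)))) (.node (.node (.node (.leaf 8456) (.leaf 8584)) (.node (.leaf 59819) (.leaf 149262))) (.node (.node (.leaf 59723) (.leaf 26446)) (.node (.leaf 3854) (.leaf 153880)))))))

/-- A suborbit and a mover, part 15. -/
def redCodePart15 : Janko1.Tree ℕ := (.node (.node (.node (.node (.node (.node (.leaf 37959) (.leaf 38055)) (.node (.leaf 232920) (.leaf 43866))) (.node (.node (.leaf 208979) (.leaf 209076)) (.node (.leaf 43963) (.leaf 66484)))) (.node (.node (.node (.leaf 66387) (.leaf 160398)) (.node (.leaf 58802) (.leaf 237864))) (.node (.node (.leaf 238024) (.leaf 81304)) (.node (.leaf 4741) (.leaf 29957))))) (.node (.node (.node (.node (.leaf 30085) (.leaf 4613)) (.node (.leaf 8074) (.leaf 29969))) (.node (.node (.leaf 7946) (.leaf 8469)) (.node (.leaf 8598) (.leaf 6931)))) (.node (.node (.node (.leaf 46100) (.leaf 46227))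 (.node (.leaf 7060) (.leaf 39175))) (.node (.node (.leaf 39303) (.leaf 200888)) (.node (.leaf 8453) (.leaf 8581)))))) (.node (.node (.node (.node (.node (.leaf 59818) (.leaf 91597)) (.node (.leaf 59722) (.leaf 4493))) (.node (.node (.leaf 29965) (.leaf 71576)) (.node (.leaf 113812) (.leaf 113683)))) (.node (.node (.node (.leaf 49304) (.leaf 25353)) (.node (.leaf 25481) (.leaf 54170))) (.node (.node (.leaf 188340) (.leaf 188243)) (.node (.leaf 54043) (.leaf 58065))))) (.node (.node (.node (.node (.leaf 90029) (.leaf 132664)) (.node (.leaf 239365) (.leaf 239493))) (.node (.node (.leaf 8087) (.leaf 18054)) (.node (.leaf 168280) (.leaf 17926)))) (.node (.node (.node (.leaf 11525) (.leaf 11653)) (.node (.leaf 90705) (.leaf 61741))) (.node (.node (.leaf 11528) (.leaf 11656)) (.node (.leaf 128462) (.leaf 91442)))))))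

/-- A suborbit and a mover, part 16. -/
def redCodePart16 : Janko1.Tree ℕ := (.node (.node (.node (.node (.node (.node (.leaf 4760) (.leaf 6553)) (.node (.leaf 167607) (.leaf 12697))) (.node (.node (.leaf 87594) (.leaf 58701)) (.node (.leaf 87754) (.leaf 146712)))) (.node (.node (.node (.leaf 173221) (.leaf 173125)) (.node (.leaf 87595) (.leaf 127534))) (.node (.node (.leaf 87755) (.leaf 170632)) (.node (.leaf 170504) (.leaf 68184))))) (.node (.node (.node (.node (.leaf 40269) (.leaf 3501)) (.node (.leaf 2894) (.leaf 34574))) (.node (.node (.leaf 3415) (.leaf 10775)) (.node (.leaf 175810) (.leaf 176546)))) (.node (.node (.node (.leaf 176450) (.leaf 175650)) (.node (.leaf 11441) (.leaf 37969))) (.node (.node (.leaf 37962) (.leaf 38058)) (.node (.leaf 11345) (.leaf 7602)))))) (.node (.node (.node (.node (.node (.leaf 36875) (.leaf 36882)) (.node (.leaf 37003) (.leaf 7506))) (.node (.node (.leaf 5210) (.leaf 5819)) (.node (.leaf 212055) (.leaf 11543)))) (.node (.node (.node (.leaf 5722) (.leaf 5307)) (.node (.leaf 6546) (.leaf 28747))) (.node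 (.node (.leaf 28843) (.leaf 28850)) (.node (.leaf 6418) (.leaf 6164))))) (.node (.node (.node (.node (.leaf 28756) (.leaf 28851)) (.node (.leaf 6291) (.leaf 7702))) (.node (.node (.leaf 31829) (.leaf 31830)) (.node (.leaf 31925) (.leaf 31926)))) (.node (.node (.node (.leaf 7829) (.leaf 59826)) (.node (.leaf 149390) (.leaf 59730))) (.node (.node (.leaf 3982) (.leaf 26542)) (.node (.leaf 31163) (.leaf 53945)))))))

/-- A suborbit and a mover, part 17. -/
def redCodePart17 : Janko1.Tree ℕ := (.node (.node (.node (.node (.node (.node (.leaf 208980) (.leaf 209075)) (.node (.leaf 42681) (.leaf 31066))) (.node (.node (.leaf 66483) (.leaf 103861)) (.node (.leaf 103862) (.leaf 103765)))) (.node (.node (.node (.leaf 103766) (.leaf 66388)) (.node (.leaf 58795) (.leaf 58699))) (.node (.node (.leaf 58706) (.leaf 160270)) (.node (.leaf 8081) (.leaf 29962))))) (.node (.node (.node (.node (.leaf 30097) (.leaf 30090)) (.node (.leaf 7953) (.leaf 8470))) (.node (.node (.leaf 24597) (.leaf 24598)) (.node (.leaf 24725) (.leaf 24726)))) (.node (.node (.node (.leaf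 8597) (.leaf 6932)) (.node (.leaf 46099) (.leaf 46228))) (.node (.node (.leaf 7059) (.leaf 59825)) (.node (.leaf 91437) (.leaf 59729)))))) (.node (.node (.node (.node (.node (.leaf 30093) (.leaf 4365)) (.node (.leaf 113811) (.leaf 143669))) (.node (.node (.leaf 143670) (.leaf 143829)) (.node (.leaf 143830) (.leaf 113684)))) (.node (.node (.node (.leaf 41499) (.leaf 44569)) (.node (.leaf 188339) (.leaf 188244))) (.node (.node (.leaf 29977) (.leaf 41626)) (.node (.leaf 89933) (.leaf 58058))))) (.node (.node (.node (.node (.leaf 57905) (.leaf 57898)) (.node (.leaf 4759) (.leaf 7703))) (.node (.node (.leaf 61901) (.leaf 90801)) (.node (.leaf 90794) (.leaf 90698)))) (.node (.node (.node (.leaf 91595) (.leaf 91602)) (.node (.leaf 91435) (.leaf 128302))) (.node (.node (.leaf 9228) (.leaf 69845)) (.node (.leaf 69846) (.leaf 69685)))))))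

/-- A suborbit and a mover, part 18. -/
def redCodePart18 : Janko1.Tree ℕ := (.node (.node (.node (.node (.node (.node (.leaf 69686) (.leaf 9356)) (.node (.leaf 3226) (.leaf 5403))) (.node (.node (.leaf 168279) (.leaf 8471)) (.node (.leaf 5530) (.leaf 3099)))) (.node (.node (.node (.leaf 87601) (.leaf 58797)) (.node (.leaf 87761) (.leaf 87602))) (.node (.node (.leaf 127694) (.leaf 87762)) (.node (.leaf 137237) (.leaf 137238))))) (.node (.node (.node (.node (.leaf 137365) (.leaf 137366)) (.node (.leaf 15940) (.leaf 11046))) (.node (.node (.leaf 11047) (.leaf 11053)) (.node (.leaf 16036) (.leaf 11206)))) (.node (.node (.node (.leaf 11207) (.leaf 7491)) (.node (.leaf 11049) (.leaf 7206))) (.node (.node (.leaf 7587) (.leaf 11209)) (.node (.leaf 7366) (.leaf 11214)))))) (.node (.node (.node (.node (.node (.leaf 11055) (.leaf 11216)) (.node (.leaf 53377) (.leaf 44289))) (.node (.node (.leaf 175298) (.leaf 53249)) (.node (.leaf 44417) (.leaf 175138)))) (.node (.node (.node (.leaf 6728) (.leaf 36402)) (.node (.leaf 95288) (.leaf 6824))) (.node (.node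 (.leaf 27918) (.leaf 7493)) (.node (.leaf 36685) (.leaf 7589))))) (.node (.node (.node (.node (.leaf 26929) (.leaf 137048)) (.node (.leaf 212920) (.leaf 665))) (.node (.node (.leaf 11544) (.leaf 13657)) (.node (.leaf 27812) (.leaf 6791)))) (.node (.node (.node (.leaf 6802) (.leaf 27716)) (.node (.leaf 6663) (.leaf 15367))) (.node (.node (.leaf 15495) (.leaf 28592)) (.node (.leaf 51800) (.leaf 13832)))))))

/-- A suborbit and a mover, part 19. -/
def redCodePart19 : Janko1.Tree ℕ := (.node (.node (.node (.node (.node (.node (.leaf 22199) (.leaf 25172)) (.node (.leaf 13960) (.leaf 25267))) (.node (.node (.leaf 12306) (.leaf 113176)) (.node (.leaf 4056) (.leaf 61778)))) (.node (.node (.node (.leaf 5125) (.leaf 29777)) (.node (.leaf 5253) (.leaf 154136))) (.node (.node (.leaf 146959) (.leaf 27735)) (.node (.leaf 28600) (.leaf 228120))))) (.node (.node (.node (.node (.leaf 20566) (.leaf 38984)) (.node (.leaf 73655) (.leaf 20661))) (.node (.node (.leaf 39080) (.leaf 156203)) (.node (.leaf 69266) (.leaf 63192)))) (.node (.node (.node (.leaf 156363)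 (.leaf 23555)) (.node (.leaf 7561) (.leaf 23683))) (.node (.node (.leaf 7433) (.leaf 8209)) (.node (.leaf 15365) (.leaf 21140)))))) (.node (.node (.node (.node (.node (.leaf 15493) (.leaf 21011)) (.node (.leaf 23127) (.leaf 13833))) (.node (.node (.leaf 26255) (.leaf 199096)) (.node (.leaf 13961) (.leaf 8593)))) (.node (.node (.node (.leaf 107448) (.leaf 155672)) (.node (.leaf 61873) (.leaf 3080))) (.node (.node (.leaf 72088) (.leaf 3208)) (.node (.leaf 25618) (.leaf 25750))))) (.node (.node (.node (.node (.leaf 25733) (.leaf 25621)) (.node (.leaf 25605) (.leaf 85431))) (.node (.node (.leaf 663) (.leaf 199768)) (.node (.leaf 664) (.leaf 94640)))) (.node (.node (.node (.leaf 67530) (.leaf 154801)) (.node (.leaf 67370) (.leaf 96152))) (.node (.node (.leaf 3590) (.leaf 9104)) (.node (.leaf 18310) (.leaf 3718)))))))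

/-- A suborbit and a mover, part 20. -/
def redCodePart20 : Janko1.Tree ℕ := (.node (.node (.node (.node (.node (.node (.leaf 8975) (.leaf 18182)) (.node (.leaf 11661) (.leaf 37080))) (.node (.node (.leaf 23128) (.leaf 11534)) (.node (.leaf 14488) (.leaf 158360)))) (.node (.node (.node (.leaf 25879) (.leaf 102679)) (.node (.leaf 4627) (.leaf 166840))) (.node (.node (.leaf 666) (.leaf 4756)) (.node (.leaf 8856) (.leaf 667))))) (.node (.node (.node (.node (.leaf 155405) (.leaf 132568)) (.node (.leaf 116632) (.leaf 102286))) (.node (.node (.leaf 132630) (.leaf 71208)) (.node (.leaf 66373) (.leaf 72084)))) (.node (.node (.node (.leaf 132757) (.leaf 71368)) (.node (.leaf 66469) (.leaf 71955))) (.node (.node (.leaf 15652) (.leaf 15364)) (.node (.leaf 15492) (.leaf 15812)))))) (.node (.node (.node (.node (.node (.leaf 11213) (.leaf 7203)) (.node (.leaf 6915) (.leaf 11054))) (.node (.node (.leaf 7043) (.leaf 7363)) (.node (.leaf 11056) (.leaf 11215)))) (.node (.node (.node (.leaf 176034) (.leaf 176770)) (.node (.leaf 176642) (.leaf 175938))) (.node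 (.node (.leaf 28046) (.leaf 36395)) (.node (.leaf 36555) (.leaf 36562))))) (.node (.node (.node (.node (.leaf 27089) (.leaf 27082)) (.node (.leaf 26922) (.leaf 36781))) (.node (.node (.leaf 11347) (.leaf 11348)) (.node (.leaf 6458) (.leaf 12315)))) (.node (.node (.node (.leaf 11443) (.leaf 11444)) (.node (.leaf 12442) (.leaf 6619))) (.node (.node (.leaf 27972) (.leaf 5124)) (.node (.leaf 6795) (.leaf 5252)))))))

/-- A suborbit and a mover, part 21. -/
def redCodePart21 : Janko1.Tree ℕ := (.node (.node (.node (.node (.node (.node (.leaf 28068) (.leaf 6667)) (.node (.leaf 6674) (.leaf 28496))) (.node (.node (.leaf 23216) (.leaf 23120)) (.node (.leaf 21591) (.leaf 14487)))) (.node (.node (.node (.leaf 25171) (.leaf 25268)) (.node (.leaf 12299) (.leaf 61771))) (.node (.node (.leaf 12427) (.leaf 12434)) (.node (.leaf 61867) (.leaf 61874))))) (.node (.node (.node (.node (.leaf 26797) (.leaf 29770)) (.node (.leaf 26701) (.leaf 29873))) (.node (.node (.leaf 29866) (.leaf 6295)) (.node (.leaf 28599) (.leaf 147087)))) (.node (.node (.node (.leaf 20565)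 (.leaf 115159)) (.node (.leaf 80663) (.leaf 20662))) (.node (.node (.leaf 156210) (.leaf 69259)) (.node (.leaf 156370) (.leaf 69131)))))) (.node (.node (.node (.node (.node (.leaf 69138) (.leaf 23427)) (.node (.leaf 3587) (.leaf 8337))) (.node (.node (.leaf 8330) (.leaf 3715)) (.node (.leaf 23299) (.leaf 8202)))) (.node (.node (.node (.leaf 21139) (.leaf 21012)) (.node (.leaf 25047) (.leaf 15831))) (.node (.node (.leaf 21775) (.leaf 21903)) (.node (.leaf 26127) (.leaf 8465))))) (.node (.node (.node (.node (.leaf 8458) (.leaf 61777)) (.node (.leaf 61770) (.leaf 8586))) (.node (.node (.leaf 61866) (.leaf 25739)) (.node (.leaf 25746) (.leaf 37390)))) (.node (.node (.node (.leaf 25611) (.leaf 37518)) (.node (.leaf 25749) (.leaf 25622))) (.node (.node (.leaf 131735) (.leaf 153431)) (.node (.leaf 46103) (.leaf 46231)))))))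

/-- A suborbit and a mover, part 22. -/
def redCodePart22 : Janko1.Tree ℕ := (.node (.node (.node (.node (.node (.node (.leaf 94544) (.leaf 154705)) (.node (.leaf 154698) (.leaf 67537))) (.node (.node (.leaf 154794) (.leaf 67377)) (.node (.leaf 9103) (.leaf 8976)))) (.node (.node (.node (.leaf 11533) (.leaf 60973)) (.node (.leaf 61133) (.leaf 125230))) (.node (.node (.leaf 11662) (.leaf 125390)) (.node (.leaf 156631) (.leaf 158519))))) (.node (.node (.node (.node (.leaf 38455) (.leaf 115671)) (.node (.leaf 4628) (.leaf 5531))) (.node (.node (.leaf 6809) (.leaf 4755)) (.node (.leaf 12441) (.leaf 5402)))) (.node (.node (.node (.leaf 67533) (.leaf 155533)) (.node (.leaf 67373) (.leaf 122766))) (.node (.node (.leaf 102158) (.leaf 122638)) (.node (.leaf 132629) (.leaf 72083)))))) (.node (.node (.node (.node (.node (.leaf 132758) (.leaf 71956)) (.node (.leaf 10758) (.leaf 11334))) (.node (.node (.leaf 11430) (.leaf 10886)) (.node (.leaf 41165) (.leaf 10761)))) (.node (.node (.node (.leaf 11337) (.leaf 11433)) (.node (.leaf 10889) (.leaf 35342)))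 (.node (.node (.leaf 36782) (.leaf 11064)) (.node (.leaf 10895) (.leaf 11224))))) (.node (.node (.node (.node (.leaf 53505) (.leaf 4865)) (.node (.leaf 170786) (.leaf 4993))) (.node (.node (.leaf 53633) (.leaf 170946)) (.node (.leaf 29486) (.leaf 89432)))) (.node (.node (.node (.leaf 27473) (.leaf 7498)) (.node (.leaf 125208) (.leaf 7594))) (.node (.node (.leaf 16711) (.leaf 90255)) (.node (.leaf 16807) (.leaf 212376)))))))

/-- A suborbit and a mover, part 23. -/
def redCodePart23 : Janko1.Tree ℕ := (.node (.node (.node (.node (.node (.node (.leaf 214231) (.leaf 6151)) (.node (.leaf 5127) (.leaf 27819))) (.node (.node (.leaf 5255) (.leaf 6279)) (.node (.leaf 27723) (.leaf 29874)))) (.node (.node (.node (.leaf 6160) (.leaf 51640)) (.node (.leaf 34729) (.leaf 34633))) (.node (.node (.leaf 41285) (.leaf 20823)) (.node (.leaf 41381) (.leaf 12294))))) (.node (.node (.node (.node (.leaf 110157) (.leaf 112152)) (.node (.leaf 12422) (.leaf 27469))) (.node (.node (.leaf 161336) (.leaf 3981)) (.node (.leaf 229783) (.leaf 62480)))) (.node (.node (.node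 (.leaf 27736) (.leaf 6296)) (.node (.leaf 41288) (.leaf 41384))) (.node (.node (.leaf 87895) (.leaf 190534)) (.node (.leaf 110254) (.leaf 190630)))))) (.node (.node (.node (.node (.node (.leaf 30474) (.leaf 30865)) (.node (.leaf 30602) (.leaf 13843))) (.node (.node (.leaf 13972) (.leaf 21647)) (.node (.leaf 40071) (.leaf 12431)))) (.node (.node (.node (.leaf 39943) (.leaf 188344)) (.node (.leaf 8455) (.leaf 106680))) (.node (.node (.leaf 108594) (.leaf 88365)) (.node (.leaf 8583) (.leaf 25867))))) (.node (.node (.node (.node (.leaf 3858) (.leaf 25995)) (.node (.leaf 62616) (.leaf 150486))) (.node (.node (.leaf 150325) (.leaf 203608)) (.node (.leaf 188248) (.leaf 49559)))) (.node (.node (.node (.leaf 159499) (.leaf 167591)) (.node (.leaf 159627) (.leaf 82477))) (.node (.node (.leaf 167495) (.leaf 8464)) (.node (.leaf 2064) (.leaf 167512)))))))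

/-- A suborbit and a mover, part 24. -/
def redCodePart24 : Janko1.Tree ℕ := (.node (.node (.node (.node (.node (.node (.leaf 168536) (.leaf 12297)) (.node (.leaf 38104) (.leaf 70606))) (.node (.node (.leaf 91466) (.leaf 12425)) (.node (.leaf 91562) (.leaf 109322)))) (.node (.node (.node (.leaf 2200) (.leaf 88530)) (.node (.leaf 109450) (.leaf 114067))) (.node (.node (.leaf 113367) (.leaf 65608)) (.node (.leaf 113940) (.leaf 65704))))) (.node (.node (.node (.node (.leaf 8600) (.leaf 4105)) (.node (.leaf 168791) (.leaf 4233))) (.node (.node (.leaf 61902) (.leaf 190537)) (.node (.leaf 82481) (.leaf 190633)))) (.node (.node (.node (.leaf 79019) (.leaf 160465)) (.node (.leaf 78923) (.leaf 83525))) (.node (.node (.leaf 116374) (.leaf 92055)) (.node (.leaf 83621) (.leaf 116245)))))) (.node (.node (.node (.node (.node (.leaf 41005) (.leaf 39341)) (.node (.leaf 39245) (.leaf 36686))) (.node (.node (.leaf 35470) (.leaf 10767)) (.node (.leaf 11343) (.leaf 11439)))) (.node (.node (.node (.leaf 173570) (.leaf 172354)) (.node (.leaf 172450) (.leaf 173698)))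 (.node (.node (.leaf 6734) (.leaf 6830)) (.node (.leaf 29646) (.leaf 27466))))) (.node (.node (.node (.node (.leaf 7505) (.leaf 7601)) (.node (.leaf 27569) (.leaf 27562))) (.node (.node (.leaf 90127) (.leaf 213783)) (.node (.leaf 6071) (.leaf 29771)))) (.node (.node (.node (.leaf 29778) (.leaf 27826)) (.node (.leaf 27730) (.leaf 29867))) (.node (.node (.leaf 27824) (.leaf 27728)) (.node (.leaf 6288) (.leaf 2199)))))))

/-- A suborbit and a mover, part 25. -/
def redCodePart25 : Janko1.Tree ℕ := (.node (.node (.node (.node (.node (.node (.leaf 21175) (.leaf 150670)) (.node (.leaf 150542) (.leaf 110253))) (.node (.node (.leaf 3853) (.leaf 27565)) (.node (.leaf 230711) (.leaf 51799)))) (.node (.node (.node (.leaf 62608) (.leaf 32076)) (.node (.leaf 62615) (.leaf 96951))) (.node (.node (.leaf 32172) (.leaf 110158)) (.node (.leaf 159501) (.leaf 159629))))) (.node (.node (.node (.node (.leaf 30481) (.leaf 30858)) (.node (.leaf 30737) (.leaf 30730))) (.node (.node (.leaf 30609) (.leaf 13844)) (.node (.leaf 22291) (.leaf 22292)))) (.node (.node (.node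 (.leaf 22419) (.leaf 22420)) (.node (.leaf 13971) (.leaf 12303))) (.node (.node (.leaf 21519) (.leaf 108587)) (.node (.leaf 88525) (.leaf 108747)))))) (.node (.node (.node (.node (.node (.leaf 108754) (.leaf 25874)) (.node (.leaf 3851) (.leaf 3979))) (.node (.node (.leaf 3986) (.leaf 26002)) (.node (.leaf 150485) (.leaf 98323)))) (.node (.node (.node (.leaf 98324) (.leaf 98451)) (.node (.leaf 98452) (.leaf 150326))) (.node (.node (.leaf 127663) (.leaf 127567)) (.node (.leaf 202935) (.leaf 200791))))) (.node (.node (.node (.node (.leaf 82637) (.leaf 159506)) (.node (.leaf 159634) (.leaf 2192))) (.node (.node (.leaf 8592) (.leaf 91473)) (.node (.leaf 91569) (.leaf 70446)))) (.node (.node (.node (.leaf 109329) (.leaf 88363)) (.node (.leaf 88370) (.leaf 88523))) (.node (.node (.leaf 109457) (.leaf 114068)) (.node (.leaf 103447) (.leaf 38199)))))))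

/-- A suborbit and a mover, part 26. -/
def redCodePart26 : Janko1.Tree ℕ := (.node (.node (.node (.node (.node (.node (.leaf 113939) (.leaf 8983)) (.node (.leaf 167863) (.leaf 126032))) (.node (.node (.leaf 126128) (.leaf 82641)) (.node (.leaf 82634) (.leaf 61742)))) (.node (.node (.node (.leaf 82474) (.leaf 79026)) (.node (.leaf 160305) (.leaf 160298))) (.node (.node (.leaf 160458) (.leaf 78930)) (.node (.leaf 116373) (.leaf 74071))))) (.node (.node (.node (.node (.leaf 123447) (.leaf 116246)) (.node (.leaf 10759) (.leaf 39565))) (.node (.node (.leaf 11335) (.leaf 40013)) (.node (.leaf 11431) (.leaf 10887)))) (.node (.node (.node (.leaf 6918) (.leaf 36302)) (.node (.leaf 7494) (.leaf 7590))) (.node (.node (.leaf 7046) (.leaf 10768)) (.node (.leaf 11352) (.leaf 10904)))))) (.node (.node (.node (.node (.node (.leaf 44161) (.leaf 5889)) (.node (.leaf 167586) (.leaf 6017))) (.node (.node (.leaf 167490) (.leaf 44033)) (.node (.leaf 11339) (.leaf 11435)))) (.node (.node (.node (.leaf 85816) (.leaf 34834)) (.node (.leaf 133656) (.leaf 36141))) (.node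 (.node (.leaf 6072) (.leaf 212375)) (.node (.leaf 15177) (.leaf 15273))))) (.node (.node (.node (.node (.leaf 159920) (.leaf 29099)) (.node (.leaf 28594) (.leaf 29003))) (.node (.node (.leaf 13072) (.leaf 13208)) (.node (.leaf 35401) (.leaf 23984)))) (.node (.node (.node (.leaf 35497) (.leaf 15379)) (.node (.leaf 15508) (.leaf 8457))) (.node (.node (.leaf 16472) (.leaf 148622)) (.node (.leaf 8585) (.leaf 123409)))))))

/-- A suborbit and a mover, part 27. -/
def redCodePart27 : Janko1.Tree ℕ := (.node (.node (.node (.node (.node (.node (.leaf 29098) (.leaf 159832)) (.node (.leaf 2961) (.leaf 29002))) (.node (.node (.leaf 229655) (.leaf 211288)) (.node (.leaf 232760) (.leaf 116118)))) (.node (.node (.node (.leaf 115989) (.leaf 121102)) (.node (.leaf 126122) (.leaf 167593))) (.node (.node (.leaf 126026) (.leaf 167497)) (.node (.leaf 6921) (.leaf 30353))))) (.node (.node (.node (.node (.leaf 3081) (.leaf 30986)) (.node (.leaf 3209) (.leaf 31114))) (.node (.node (.leaf 7049) (.leaf 34952)) (.node (.leaf 15959) (.leaf 34824)))) (.node (.node (.node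 (.leaf 40199) (.leaf 40327)) (.node (.leaf 7055) (.leaf 203704))) (.node (.node (.leaf 8454) (.leaf 156440)) (.node (.leaf 8582) (.leaf 143630)))))) (.node (.node (.node (.node (.node (.leaf 3086) (.leaf 58008)) (.node (.leaf 37134) (.leaf 34949))) (.node (.node (.leaf 129175) (.leaf 34821)) (.node (.leaf 46104) (.leaf 46232)))) (.node (.node (.node (.leaf 130639) (.leaf 199095)) (.node (.leaf 143757) (.leaf 167590))) (.node (.node (.leaf 167494) (.leaf 168792)) (.node (.leaf 3727) (.leaf 165976))))) (.node (.node (.node (.node (.leaf 8591) (.leaf 124363)) (.node (.leaf 23896) (.leaf 88497))) (.node (.node (.leaf 124203) (.leaf 13063)) (.node (.leaf 90827) (.leaf 156824)))) (.node (.node (.node (.leaf 90667) (.leaf 13191)) (.node (.leaf 123405) (.leaf 157235))) (.node (.node (.leaf 68133) (.leaf 155095)) (.node (.leaf 157396) (.leaf 68293)))))))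

/-- A suborbit and a mover, part 28. -/
def redCodePart28 : Janko1.Tree ℕ := (.node (.node (.node (.node (.node (.node (.leaf 2823) (.leaf 2951)) (.node (.leaf 166072) (.leaf 8727))) (.node (.node (.leaf 143018) (.leaf 128466)) (.node (.leaf 142922) (.leaf 144594)))) (.node (.node (.node (.leaf 178599) (.leaf 128301)) (.node (.leaf 178503) (.leaf 73160))) (.node (.node (.leaf 66486) (.leaf 135383)) (.node (.leaf 73000) (.leaf 66389))))) (.node (.node (.node (.node (.leaf 40109) (.leaf 39437)) (.node (.leaf 35598) (.leaf 35726))) (.node (.node (.leaf 36142) (.leaf 11344)) (.node (.leaf 11440) (.leaf 10896)))) (.node (.node (.node (.leaf 168322) (.leaf 166082)) (.node (.leaf 165922) (.leaf 168194))) (.node (.node (.leaf 34955) (.leaf 34962)) (.node (.leaf 11346) (.leaf 11442)))))) (.node (.node (.node (.node (.node (.leaf 34827) (.leaf 36301)) (.node (.leaf 7501) (.leaf 7597))) (.node (.node (.leaf 213303) (.leaf 11991)) (.node (.leaf 159824) (.leaf 29106)))) (.node (.node (.node (.leaf 28491) (.leaf 28498)) (.node (.leaf 28587) (.leaf 29010)))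 (.node (.node (.leaf 23888) (.leaf 13200)) (.node (.leaf 15380) (.leaf 25011))))) (.node (.node (.node (.node (.leaf 25012) (.leaf 24915)) (.node (.leaf 24916) (.leaf 15507))) (.node (.node (.leaf 123537) (.leaf 123530)) (.node (.leaf 148494) (.leaf 123402)))) (.node (.node (.node (.leaf 29105) (.leaf 2833)) (.node (.leaf 2826) (.leaf 2954))) (.node (.node (.leaf 29009) (.leaf 51895)) (.node (.leaf 230871) (.leaf 58672)))))))

/-- A suborbit and a mover, part 29. -/
def redCodePart29 : Janko1.Tree ℕ := (.node (.node (.node (.node (.node (.node (.leaf 58832) (.leaf 116117)) (.node (.leaf 67379) (.leaf 67380))) (.node (.node (.leaf 67539) (.leaf 67540)) (.node (.leaf 115990) (.leaf 126129)))) (.node (.node (.node (.leaf 126033) (.leaf 121230)) (.node (.leaf 30346) (.leaf 30993))) (.node (.node (.leaf 31121) (.leaf 30225)) (.node (.leaf 30218) (.leaf 23895))))) (.node (.node (.node (.node (.leaf 23767) (.leaf 6927)) (.node (.leaf 26383) (.leaf 26511))) (.node (.node (.leaf 143758) (.leaf 90829)) (.node (.leaf 90669) (.leaf 37262)))) (.node (.node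 (.node (.leaf 3214) (.leaf 28044)) (.node (.leaf 159831) (.leaf 76983))) (.node (.node (.leaf 27916) (.leaf 130735)) (.node (.leaf 204375) (.leaf 49175)))))) (.node (.node (.node (.node (.node (.leaf 88750) (.leaf 88654)) (.node (.leaf 143629) (.leaf 8463))) (.node (.node (.leaf 3599) (.leaf 124370)) (.node (.leaf 88490) (.leaf 88401)))) (.node (.node (.node (.leaf 88394) (.leaf 124210)) (.node (.leaf 123533) (.leaf 90834))) (.node (.node (.leaf 90674) (.leaf 157236)) (.node (.leaf 157751) (.leaf 27415))))) (.node (.node (.node (.node (.leaf 157395) (.leaf 59727)) (.node (.leaf 59823) (.leaf 168119))) (.node (.node (.leaf 168535) (.leaf 143025)) (.node (.leaf 128459) (.leaf 128299)))) (.node (.node (.node (.leaf 128306) (.leaf 142929)) (.node (.leaf 144587) (.leaf 128461))) (.node (.node (.leaf 144427) (.leaf 144434)) (.node (.leaf 66485) (.leaf 148791)))))))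

/-- A suborbit and a mover, part 30. -/
def redCodePart30 : Janko1.Tree ℕ := (.node (.node (.node (.node (.node (.node (.leaf 69271) (.leaf 66390)) (.node (.leaf 39725) (.leaf 10893))) (.node (.node (.leaf 10766) (.leaf 35886)) (.node (.leaf 10776) (.leaf 11448)))) (.node (.node (.node (.leaf 176194) (.leaf 173186)) (.node (.leaf 168450) (.leaf 168578))) (.node (.node (.leaf 173058) (.leaf 176290)) (.node (.leaf 91416) (.leaf 83800))))) (.node (.node (.node (.node (.leaf 96536) (.leaf 135960)) (.node (.leaf 134744) (.leaf 126552))) (.node (.node (.leaf 1433) (.leaf 159696)) (.node (.leaf 88783) (.leaf 7513)))) (.node (.node (.node (.leaf 6162) (.leaf 29611)) (.node (.leaf 4114) (.leaf 29515))) (.node (.node (.leaf 28082) (.leaf 16905)) (.node (.leaf 50776) (.leaf 51896)))))) (.node (.node (.node (.node (.node (.leaf 1432) (.leaf 17033)) (.node (.leaf 17669) (.leaf 41125))) (.node (.node (.leaf 41029) (.leaf 17797)) (.node (.leaf 190628) (.leaf 61106)))) (.node (.node (.node (.leaf 124305) (.leaf 190532)) (.node (.leaf 153624) (.leaf 160344)))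 (.node (.node (.leaf 161848) (.leaf 1431)) (.node (.leaf 148687) (.leaf 73392))))) (.node (.node (.node (.node (.leaf 56211) (.leaf 83799)) (.node (.leaf 101430) (.leaf 101589))) (.node (.node (.leaf 56084) (.leaf 71127)) (.node (.leaf 187559) (.leaf 236709)))) (.node (.node (.node (.leaf 236613) (.leaf 187463)) (.node (.leaf 119736) (.leaf 31498))) (.node (.node (.leaf 32145) (.leaf 4241)) (.node (.leaf 31626) (.leaf 7825)))))))

/-- A suborbit and a mover, part 31. -/
def redCodePart31 : Janko1.Tree ℕ := (.node (.node (.node (.node (.node (.node (.leaf 16904) (.leaf 36104)) (.node (.leaf 36232) (.leaf 17032))) (.node (.node (.leaf 17671) (.leaf 202936)) (.node (.leaf 187576) (.leaf 199864)))) (.node (.node (.node (.leaf 17799) (.leaf 84739)) (.node (.leaf 109522) (.leaf 61009))) (.node (.node (.leaf 84867) (.leaf 62872)) (.node (.leaf 58264) (.leaf 71832))))) (.node (.node (.node (.node (.leaf 147351) (.leaf 99219)) (.node (.leaf 141878) (.leaf 142037))) (.node (.node (.leaf 99092) (.leaf 55351)) (.node (.leaf 133039) (.leaf 88400)))) (.node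 (.node (.node (.leaf 190551) (.leaf 145880)) (.node (.leaf 201129) (.leaf 177672))) (.node (.node (.leaf 177800) (.leaf 201033)) (.node (.leaf 17670) (.leaf 166488)))))) (.node (.node (.node (.node (.node (.leaf 4102) (.leaf 4230)) (.node (.leaf 168024) (.leaf 17798))) (.node (.node (.leaf 59268) (.leaf 69166)) (.node (.leaf 59853) (.leaf 122834)))) (.node (.node (.node (.leaf 59140) (.leaf 201091)) (.node (.leaf 110225) (.leaf 125998))) (.node (.node (.leaf 124301) (.leaf 200963)) (.node (.leaf 71365) (.leaf 66472))))) (.node (.node (.node (.node (.leaf 66376) (.leaf 71205)) (.node (.leaf 1434) (.leaf 59311))) (.node (.node (.leaf 168371) (.leaf 168276)) (.node (.leaf 126544) (.leaf 1435)))) (.node (.node (.node (.leaf 72504) (.leaf 172198)) (.node (.leaf 170567) (.leaf 235912))) (.node (.node (.leaf 235784) (.leaf 170663)) (.node (.leaf 172102) (.leaf 173193)))))))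

/-- A suborbit and a mover, part 32. -/
def redCodePart32 : Janko1.Tree ℕ := (.node (.node (.node (.node (.node (.node (.leaf 198534) (.leaf 179269)) (.node (.leaf 179365) (.leaf 198406))) (.node (.node (.leaf 173065) (.leaf 83000)) (.node (.leaf 96660) (.leaf 124695)))) (.node (.node (.node (.leaf 71638) (.leaf 71477)) (.node (.leaf 121143) (.leaf 96531))) (.node (.node (.leaf 10765) (.leaf 40717)) (.node (.leaf 39885) (.leaf 11341))))) (.node (.node (.node (.node (.leaf 11437) (.leaf 40845)) (.node (.leaf 36526) (.leaf 11342))) (.node (.node (.leaf 11438) (.leaf 36430)) (.node (.leaf 36046) (.leaf 10894)))) (.node (.node (.node (.leaf 175394) (.leaf 176898)) (.node (.leaf 170690) (.leaf 172194))) (.node (.node (.leaf 167746) (.leaf 166338)) (.node (.leaf 166178) (.leaf 167842)))))) (.node (.node (.node (.node (.node (.leaf 172098) (.leaf 170530)) (.node (.leaf 177026) (.leaf 175554))) (.node (.node (.leaf 12602) (.leaf 6171)) (.node (.leaf 88623) (.leaf 212819)))) (.node (.node (.node (.leaf 212820) (.leaf 212915)) (.node (.leaf 212916) (.leaf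 159536))) (.node (.node (.leaf 6298) (.leaf 12763)) (.node (.leaf 6155) (.leaf 27979))))) (.node (.node (.node (.node (.leaf 27986) (.leaf 29618)) (.node (.leaf 4107) (.leaf 4235))) (.node (.node (.leaf 4242) (.leaf 29522)) (.node (.leaf 28075) (.leaf 6283)))) (.node (.node (.node (.leaf 6290) (.leaf 187460)) (.node (.leaf 12292) (.leaf 124177))) (.node (.node (.leaf 124170) (.leaf 108717)) (.node (.leaf 61099) (.leaf 61003)))))))

/-- A suborbit and a mover, part 33. -/
def redCodePart33 : Janko1.Tree ℕ := (.node (.node (.node (.node (.node (.node (.leaf 61010) (.leaf 108621)) (.node (.leaf 124298) (.leaf 12420))) (.node (.node (.leaf 187556) (.leaf 73296)) (.node (.leaf 139343) (.leaf 148527)))) (.node (.node (.node (.leaf 209079) (.leaf 208983)) (.node (.leaf 139439) (.leaf 56212))) (.node (.node (.leaf 100791) (.leaf 60823)) (.node (.leaf 101429) (.leaf 101590))))) (.node (.node (.node (.node (.leaf 56083) (.leaf 95799)) (.node (.leaf 114327) (.leaf 7697))) (.node (.node (.leaf 7690) (.leaf 31505)) (.node (.leaf 32138) (.leaf 4113)))) (.node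 (.node (.node (.leaf 4106) (.leaf 4234)) (.node (.leaf 32017) (.leaf 32010))) (.node (.node (.leaf 31633) (.leaf 7818)) (.node (.leaf 86915) (.leaf 17667)))))) (.node (.node (.node (.node (.node (.leaf 144398) (.leaf 109515)) (.node (.leaf 61105) (.leaf 61098))) (.node (.node (.leaf 61002) (.leaf 109355)) (.node (.leaf 109362) (.leaf 144526)))) (.node (.node (.node (.leaf 17795) (.leaf 86787)) (.node (.leaf 136791) (.leaf 63799))) (.node (.node (.leaf 99220) (.leaf 141877)) (.node (.leaf 142038) (.leaf 99091))))) (.node (.node (.node (.node (.leaf 140183) (.leaf 126551)) (.node (.leaf 83792) (.leaf 12439))) (.node (.node (.leaf 187575) (.leaf 83888)) (.node (.leaf 88496) (.leaf 132943)))) (.node (.node (.node (.leaf 60676) (.leaf 17668)) (.node (.leaf 122667) (.leaf 122674))) (.node (.node (.leaf 59693) (.leaf 69326)) (.node (.leaf 122827) (.leaf 17796)))))))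

/-- A suborbit and a mover, part 34. -/
def redCodePart34 : Janko1.Tree ℕ := (.node (.node (.node (.node (.node (.node (.leaf 60804) (.leaf 198403)) (.node (.leaf 13059) (.leaf 124173))) (.node (.node (.leaf 110218) (.leaf 126158)) (.node (.leaf 110097) (.leaf 110090)))) (.node (.node (.node (.leaf 13187) (.leaf 198531)) (.node (.leaf 3227) (.leaf 12953))) (.node (.node (.leaf 126640) (.leaf 168372)) (.node (.leaf 168275) (.leaf 59215))))) (.node (.node (.node (.node (.leaf 6297) (.leaf 3098)) (.node (.leaf 96659) (.leaf 81751))) (.node (.node (.leaf 164279) (.leaf 71637)) (.node (.leaf 71478) (.leaf 60503)))) (.node (.node (.node (.leaf 93847) (.leaf 96532)) (.node (.leaf 32546) (.leaf 32841))) (.node (.node (.leaf 18727) (.leaf 32706)) (.node (.leaf 32937) (.leaf 18887)))))) (.node (.node (.node (.node (.node (.leaf 41943) (.leaf 37551)) (.node (.leaf 41944) (.leaf 32899))) (.node (.node (.leaf 6313) (.leaf 6312)) (.node (.leaf 6318) (.leaf 10930)))) (.node (.node (.node (.leaf 32771) (.leaf 6217)) (.node (.leaf 10833) (.leaf 6216))) (.node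 (.node (.leaf 32262) (.leaf 33839)) (.node (.leaf 41492) (.leaf 218072))))) (.node (.node (.node (.node (.leaf 45656) (.leaf 44823)) (.node (.leaf 32390) (.leaf 20656))) (.node (.node (.leaf 214360) (.leaf 41619)) (.node (.leaf 10370) (.leaf 10502)))) (.node (.node (.node (.leaf 6676) (.leaf 15751)) (.node (.leaf 28240) (.leaf 10242))) (.node (.node (.leaf 10630) (.leaf 6803)) (.node (.leaf 15623) (.leaf 24656)))))))

/-- A suborbit and a mover, part 35. -/
def redCodePart35 : Janko1.Tree ℕ := (.node (.node (.node (.node (.node (.node (.leaf 51032) (.leaf 25921)) (.node (.leaf 20557) (.leaf 23634))) (.node (.node (.leaf 48966) (.leaf 26017)) (.node (.leaf 21425) (.leaf 49062)))) (.node (.node (.node (.leaf 26776) (.leaf 2313)) (.node (.leaf 20559) (.leaf 6551))) (.node (.node (.leaf 28248) (.leaf 211800)) (.node (.leaf 2441) (.leaf 233432))))) (.node (.node (.node (.node (.leaf 209751) (.leaf 143032)) (.node (.leaf 56914) (.leaf 20654))) (.node (.node (.leaf 107025) (.leaf 9736)) (.node (.leaf 15880) (.leaf 8982)))) (.node (.node (.node (.leaf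 15749) (.leaf 22675)) (.node (.leaf 9864) (.leaf 16008))) (.node (.node (.leaf 9109) (.leaf 15621)) (.node (.leaf 22548) (.leaf 23511)))))) (.node (.node (.node (.node (.node (.leaf 39169) (.leaf 19218)) (.node (.leaf 23057) (.leaf 116152))) (.node (.node (.leaf 39297) (.leaf 157208)) (.node (.leaf 2565) (.leaf 151)))) (.node (.node (.node (.leaf 25366) (.leaf 141526)) (.node (.leaf 2693) (.leaf 25493))) (.node (.node (.leaf 141365) (.leaf 32269)) (.node (.leaf 152) (.leaf 62506))))) (.node (.node (.node (.node (.leaf 50696) (.leaf 138706)) (.node (.leaf 242565) (.leaf 17848))) (.node (.node (.leaf 62666) (.leaf 50824)) (.node (.leaf 84942) (.leaf 242437)))) (.node (.node (.node (.leaf 4353) (.leaf 12037)) (.node (.leaf 59181) (.leaf 4481))) (.node (.node (.leaf 12178) (.leaf 12942)) (.node (.leaf 12165) (.leaf 39128)))))))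

/-- A suborbit and a mover, part 36. -/
def redCodePart36 : Janko1.Tree ℕ := (.node (.node (.node (.node (.node (.node (.leaf 24664) (.leaf 64546)) (.node (.leaf 218776) (.leaf 270040))) (.node (.node (.leaf 154) (.leaf 158895)) (.node (.leaf 64706) (.leaf 170967)))) (.node (.node (.node (.leaf 196152) (.leaf 155)) (.node (.leaf 221592) (.leaf 144440))) (.node (.node (.leaf 104472) (.leaf 128555)) (.node (.leaf 236296) (.leaf 2705))))) (.node (.node (.node (.node (.leaf 88017) (.leaf 128715)) (.node (.leaf 236424) (.leaf 153))) (.node (.node (.leaf 216727) (.leaf 194616)) (.node (.leaf 258904) (.leaf 218772)))) (.node (.node (.node (.leaf 246680) (.leaf 147792)) (.node (.leaf 26009) (.leaf 271160))) (.node (.node (.leaf 218643) (.leaf 32258)) (.node (.leaf 32834) (.leaf 37455)))))) (.node (.node (.node (.node (.node (.leaf 25648) (.leaf 32930)) (.node (.leaf 32386) (.leaf 42391))) (.node (.node (.leaf 43703) (.leaf 25808)) (.node (.leaf 32259) (.leaf 2563)))) (.node (.node (.node (.leaf 10929) (.leaf 10922)) (.node (.leaf 10923) (.leaf 2691)))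 (.node (.node (.leaf 32387) (.leaf 10826)) (.node (.leaf 6222) (.leaf 10827))))) (.node (.node (.node (.node (.leaf 10834) (.leaf 20560)) (.node (.leaf 41491) (.leaf 215991))) (.node (.node (.leaf 222039) (.leaf 33999)) (.node (.leaf 41620) (.leaf 10498)))) (.node (.node (.node (.leaf 2306) (.leaf 6675)) (.node (.leaf 24752) (.leaf 2434))) (.node (.node (.leaf 10626) (.leaf 6804)) (.node (.leaf 28336) (.leaf 21329)))))))

/-- A suborbit and a mover, part 37. -/
def redCodePart37 : Janko1.Tree ℕ := (.node (.node (.node (.node (.node (.node (.leaf 21322) (.leaf 23627)) (.node (.leaf 104589) (.leaf 21418))) (.node (.node (.leaf 20653) (.leaf 23723)) (.node (.leaf 23730) (.leaf 104461)))) (.node (.node (.node (.leaf 29103) (.leaf 29367)) (.node (.leaf 28247) (.leaf 29007))) (.node (.node (.leaf 20655) (.leaf 5527)) (.node (.leaf 210103) (.leaf 20558))))) (.node (.node (.node (.node (.leaf 107153) (.leaf 107146)) (.node (.leaf 104590) (.leaf 56907))) (.node (.node (.leaf 107018) (.leaf 104462)) (.node (.leaf 57003) (.leaf 57010)))) (.node (.node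 (.node (.leaf 8981) (.leaf 22676)) (.node (.leaf 9110) (.leaf 22547))) (.node (.node (.leaf 15447) (.leaf 24663)) (.node (.leaf 33294) (.leaf 19211)))))) (.node (.node (.node (.node (.node (.leaf 23050) (.leaf 86829)) (.node (.leaf 33422) (.leaf 19339))) (.node (.node (.leaf 19346) (.leaf 23185)) (.node (.leaf 23178) (.leaf 86989)))) (.node (.node (.node (.leaf 32663) (.leaf 32535)) (.node (.leaf 19091) (.leaf 19092))) (.node (.node (.leaf 25365) (.leaf 141525)) (.node (.leaf 18963) (.leaf 18964))))) (.node (.node (.node (.node (.leaf 25494) (.leaf 141366)) (.node (.leaf 62513) (.leaf 84782))) (.node (.node (.leaf 138699) (.leaf 32397)) (.node (.leaf 62673) (.leaf 138539)))) (.node (.node (.node (.leaf 138546) (.leaf 12043)) (.node (.leaf 12050) (.leaf 12814))) (.node (.node (.leaf 11917) (.leaf 12171)) (.node (.leaf 11789) (.leaf 59341)))))))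

/-- A suborbit and a mover, part 38. -/
def redCodePart38 : Janko1.Tree ℕ := (.node (.node (.node (.node (.node (.node (.leaf 62242) (.leaf 63170)) (.node (.leaf 27163) (.leaf 23641))) (.node (.node (.leaf 63010) (.leaf 62402)) (.node (.leaf 223895) (.leaf 196919)))) (.node (.node (.node (.leaf 16985) (.leaf 27290)) (.node (.leaf 158799) (.leaf 2577))) (.node (.node (.leaf 2570) (.leaf 87857)) (.node (.leaf 87850) (.leaf 61486))))) (.node (.node (.node (.node (.leaf 128562) (.leaf 2698)) (.node (.leaf 88010) (.leaf 61646))) (.node (.node (.leaf 128722) (.leaf 147888)) (.node (.leaf 25178) (.leaf 17083)))) (.node (.node (.node (.leaf 191799) (.leaf 173527)) (.node (.leaf 218771) (.leaf 16986))) (.node (.node (.leaf 25275) (.leaf 218644)) (.node (.leaf 32553) (.leaf 32265)))))) (.node (.node (.node (.node (.node (.leaf 41783) (.leaf 36879)) (.node (.leaf 41784) (.leaf 32393))) (.node (.node (.leaf 32713) (.leaf 6473)) (.node (.leaf 5129) (.leaf 38993)))) (.node (.node (.node (.leaf 37514) (.leaf 85048)) (.node (.leaf 5257) (.leaf 6569))) (.node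 (.node (.leaf 37386) (.leaf 27790)) (.node (.leaf 84056) (.leaf 34383))))) (.node (.node (.node (.node (.leaf 32271) (.leaf 38982)) (.node (.leaf 225048) (.leaf 25351))) (.node (.node (.leaf 27963) (.leaf 39078)) (.node (.leaf 25479) (.leaf 225752)))) (.node (.node (.node (.leaf 28122) (.leaf 29780)) (.node (.leaf 29364) (.leaf 52152))) (.node (.node (.leaf 36265) (.leaf 29267)) (.node (.leaf 29875) (.leaf 29264)))))))

/-- A suborbit and a mover, part 39. -/
def redCodePart39 : Janko1.Tree ℕ := (.node (.node (.node (.node (.node (.node (.leaf 36169) (.leaf 22865)) (.node (.leaf 22602) (.leaf 55112))) (.node (.node (.leaf 108120) (.leaf 68242)) (.node (.leaf 22698) (.leaf 55208)))) (.node (.node (.node (.leaf 103224) (.leaf 146606)) (.node (.leaf 29775) (.leaf 38983))) (.node (.node (.leaf 228504) (.leaf 6552)) (.node (.leaf 29368) (.leaf 58576))))) (.node (.node (.node (.node (.leaf 2959) (.leaf 39079)) (.node (.leaf 50503) (.leaf 203299))) (.node (.node (.leaf 116010) (.leaf 153037)) (.node (.leaf 199302) (.leaf 141720)))) (.node (.node (.node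 (.leaf 50599) (.leaf 116170)) (.node (.leaf 203459) (.leaf 156754))) (.node (.node (.leaf 199174) (.leaf 69016)) (.node (.leaf 9608) (.leaf 2568)))))) (.node (.node (.node (.node (.node (.leaf 23829) (.leaf 20756)) (.node (.leaf 2696) (.leaf 9480))) (.node (.node (.leaf 23958) (.leaf 20883)) (.node (.leaf 33038) (.leaf 53765)))) (.node (.node (.node (.leaf 52999) (.leaf 74065)) (.node (.leaf 32398) (.leaf 53893))) (.node (.node (.leaf 53127) (.leaf 103608)) (.node (.leaf 118994) (.leaf 25992))))) (.node (.node (.node (.node (.leaf 25349) (.leaf 32919)) (.node (.leaf 25864) (.leaf 25477))) (.node (.node (.leaf 77495) (.leaf 116690)) (.node (.leaf 184387) (.leaf 32280)))) (.node (.node (.node (.leaf 80717) (.leaf 184483)) (.node (.leaf 95278) (.leaf 120152))) (.node (.node (.leaf 130360) (.leaf 11915)) (.node (.leaf 2066) (.leaf 12681)))))))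

/-- A suborbit and a mover, part 40. -/
def redCodePart40 : Janko1.Tree ℕ := (.node (.node (.node (.node (.node (.node (.leaf 37336) (.leaf 89425)) (.node (.leaf 11787) (.leaf 12553))) (.node (.node (.leaf 216728) (.leaf 215704)) (.node (.leaf 191796) (.leaf 115760)))) (.node (.node (.node (.leaf 92038) (.leaf 74887)) (.node (.leaf 191955) (.leaf 259799))) (.node (.node (.leaf 74759) (.leaf 91910)) (.node (.leaf 5894) (.leaf 58541))))) (.node (.node (.node (.node (.leaf 82218) (.leaf 155277)) (.node (.leaf 170919) (.leaf 6022))) (.node (.node (.leaf 144952) (.leaf 82378)) (.node (.leaf 170823) (.leaf 15194)))) (.node (.node (.node (.leaf 223768) (.leaf 171736)) (.node (.leaf 76752) (.leaf 149072))) (.node (.node (.leaf 15291) (.leaf 144143)) (.node (.leaf 262104) (.leaf 43607)))))) (.node (.node (.node (.node (.node (.leaf 42263) (.leaf 37167)) (.node (.leaf 37007) (.leaf 37327))) (.node (.node (.leaf 38986) (.leaf 37521)) (.node (.leaf 28622) (.leaf 27662)))) (.node (.node (.node (.leaf 37393) (.leaf 39089)) (.node (.leaf 39082) (.leaf 28462)))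 (.node (.node (.leaf 52281) (.leaf 48986)) (.node (.leaf 92751) (.leaf 32399))))) (.node (.node (.node (.node (.leaf 34479) (.leaf 92847)) (.node (.leaf 49083) (.leaf 48313))) (.node (.node (.leaf 29779) (.leaf 29363)) (.node (.leaf 6544) (.leaf 29360)))) (.node (.node (.node (.leaf 29268) (.leaf 29876)) (.node (.leaf 6416) (.leaf 22858))) (.node (.node (.leaf 22609) (.leaf 68235)) (.node (.leaf 146510) (.leaf 22705)))))))

/-- A suborbit and a mover, part 41. -/
def redCodePart41 : Janko1.Tree ℕ := (.node (.node (.node (.node (.node (.node (.leaf 22961) (.leaf 22954)) (.node (.leaf 68107) (.leaf 68114))) (.node (.node (.leaf 2831) (.leaf 148431)) (.node (.leaf 29871) (.leaf 58416)))) (.node (.node (.node (.leaf 148271) (.leaf 50499)) (.node (.leaf 201603) (.leaf 116017))) (.node (.node (.leaf 156843) (.leaf 156850)) (.node (.leaf 116177) (.leaf 201475))))) (.node (.node (.node (.node (.leaf 50595) (.leaf 152877)) (.node (.leaf 156747) (.leaf 23830))) (.node (.node (.leaf 23701) (.leaf 23702)) (.node (.leaf 14227) (.leaf 14228)))) (.node (.node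 (.node (.leaf 20755) (.leaf 23573)) (.node (.leaf 23574) (.leaf 23957))) (.node (.node (.leaf 20884) (.leaf 14099)) (.node (.leaf 14100) (.leaf 32270)))))) (.node (.node (.node (.node (.node (.leaf 74058) (.leaf 118827)) (.node (.leaf 118834) (.leaf 33166))) (.node (.node (.leaf 118987) (.leaf 74161)) (.node (.leaf 74154) (.leaf 99347)))) (.node (.node (.node (.leaf 99348) (.leaf 32279)) (.node (.leaf 2583) (.leaf 129687))) (.node (.node (.leaf 160087) (.leaf 99475)) (.node (.leaf 99476) (.leaf 80813))))) (.node (.node (.node (.node (.leaf 116683) (.leaf 95438)) (.node (.leaf 52995) (.leaf 179875))) (.node (.node (.leaf 116523) (.leaf 116530)) (.node (.leaf 179779) (.leaf 53123)))) (.node (.node (.node (.leaf 11922) (.leaf 2059)) (.node (.leaf 69070) (.leaf 89418))) (.node (.node (.leaf 2187) (.leaf 2194)) (.node (.leaf 11794) (.leaf 89521)))))))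

/-- A suborbit and a mover, part 42. -/
def redCodePart42 : Janko1.Tree ℕ := (.node (.node (.node (.node (.node (.node (.leaf 89514) (.leaf 68910)) (.node (.leaf 191795) (.leaf 107311))) (.node (.node (.leaf 191956) (.leaf 248215)) (.node (.leaf 261303) (.leaf 107471)))) (.node (.node (.node (.leaf 115920) (.leaf 155662)) (.node (.leaf 82225) (.leaf 155790))) (.node (.node (.leaf 58445) (.leaf 155149)) (.node (.leaf 82385) (.leaf 144271))))) (.node (.node (.node (.node (.leaf 18459) (.leaf 40281)) (.node (.leaf 2201) (.leaf 18586))) (.node (.node (.leaf 149168) (.leaf 76592)) (.node (.leaf 18439) (.leaf 43351)))) (.node (.node (.node (.leaf 19015) (.leaf 41496)) (.node (.leaf 25936) (.leaf 19111))) (.node (.node (.leaf 18567) (.leaf 25488)) (.node (.leaf 38314) (.leaf 38449)))))) (.node (.node (.node (.node (.node (.leaf 35531) (.leaf 88920)) (.node (.leaf 38218) (.leaf 35371))) (.node (.node (.leaf 34706) (.leaf 91672)) (.node (.leaf 223288) (.leaf 38438)))) (.node (.node (.node (.leaf 36873) (.leaf 165136)) (.node (.leaf 48699) (.leaf 20176)))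 (.node (.node (.leaf 38598) (.leaf 18576)) (.node (.leaf 45272) (.leaf 48858))))) (.node (.node (.node (.node (.leaf 37001) (.leaf 10374)) (.node (.leaf 2310) (.leaf 28243))) (.node (.node (.leaf 5400) (.leaf 23632)) (.node (.leaf 35145) (.leaf 2438)))) (.node (.node (.node (.leaf 28340) (.leaf 10246)) (.node (.leaf 35241) (.leaf 53576))) (.node (.node (.leaf 26168) (.leaf 118061)) (.node (.leaf 53577) (.leaf 200068)))))))

/-- A suborbit and a mover, part 43. -/
def redCodePart43 : Janko1.Tree ℕ := (.node (.node (.node (.node (.node (.node (.leaf 19117) (.leaf 53672)) (.node (.leaf 53673) (.leaf 199940))) (.node (.node (.leaf 38311) (.leaf 211640)) (.node (.leaf 233272) (.leaf 228632)))) (.node (.node (.node (.leaf 2447) (.leaf 38215)) (.node (.leaf 139087) (.leaf 73099))) (.node (.node (.leaf 20024) (.leaf 161614)) (.node (.leaf 137777) (.leaf 110798))))) (.node (.node (.node (.node (.leaf 122520) (.leaf 18584)) (.node (.leaf 72971) (.leaf 15752))) (.node (.node (.leaf 24981) (.leaf 3592)) (.node (.leaf 36488) (.leaf 24023)))) (.node (.node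 (.node (.leaf 3720) (.leaf 15624)) (.node (.leaf 24854) (.leaf 36360))) (.node (.node (.leaf 19467) (.leaf 54021)) (.node (.leaf 52998) (.leaf 147470)))))) (.node (.node (.node (.node (.node (.leaf 162584) (.leaf 68017)) (.node (.leaf 19595) (.leaf 54149))) (.node (.node (.leaf 18578) (.leaf 53126)) (.node (.leaf 18452) (.leaf 2323)))) (.node (.node (.node (.leaf 34565) (.leaf 139927)) (.node (.leaf 98707) (.leaf 2452))) (.node (.node (.leaf 18579) (.leaf 98580)) (.node (.leaf 34693) (.leaf 50697))))) (.node (.node (.node (.node (.leaf 40376) (.leaf 184388)) (.node (.leaf 57176) (.leaf 145451))) (.node (.node (.leaf 127288) (.leaf 50825)) (.node (.leaf 85294) (.leaf 145611)))) (.node (.node (.node (.leaf 184484) (.leaf 3598)) (.node (.leaf 23640) (.leaf 91729))) (.node (.node (.leaf 122418) (.leaf 267736)) (.node (.leaf 271320) (.leaf 14235)))))))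

/-- A suborbit and a mover, part 44. -/
def redCodePart44 : Janko1.Tree ℕ := (.node (.node (.node (.node (.node (.node (.leaf 258104) (.leaf 246679)) (.node (.leaf 215576) (.leaf 14106))) (.node (.node (.leaf 5895) (.leaf 103474)) (.node (.leaf 172614) (.leaf 190889)))) (.node (.node (.node (.leaf 6023) (.leaf 104728)) (.node (.leaf 67021) (.leaf 190793))) (.node (.node (.leaf 143537) (.leaf 172710)) (.node (.leaf 79369) (.leaf 118959))))) (.node (.node (.node (.node (.leaf 197080) (.leaf 63174)) (.node (.leaf 82703) (.leaf 79497))) (.node (.node (.leaf 63014) (.leaf 63695)) (.node (.leaf 41495) (.leaf 42807)))) (.node (.node (.node (.leaf 25360) (.leaf 26032)) (.node (.leaf 38321) (.leaf 38442))) (.node (.node (.leaf 34571) (.leaf 34578)) (.node (.leaf 35538) (.leaf 38609)))))) (.node (.node (.node (.node (.node (.leaf 38602) (.leaf 38225)) (.node (.leaf 35378) (.leaf 34699))) (.node (.node (.leaf 18448) (.leaf 20016)) (.node (.leaf 47673) (.leaf 28250)))) (.node (.node (.node (.leaf 28347) (.leaf 52921)) (.node (.leaf 165264) (.leaf 29107)))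 (.node (.node (.leaf 29108) (.leaf 28244)) (.node (.leaf 13456) (.leaf 28339))))) (.node (.node (.node (.node (.leaf 29011) (.leaf 29012)) (.node (.leaf 23728) (.leaf 13328))) (.node (.node (.leaf 20301) (.leaf 19021)) (.node (.leaf 204068) (.leaf 48964)))) (.node (.node (.node (.leaf 20397) (.leaf 49060)) (.node (.leaf 204228) (.leaf 118221))) (.node (.node (.leaf 19887) (.leaf 2319)) (.node (.leaf 139183) (.leaf 62352)))))))

/-- A suborbit and a mover, part 45. -/
def redCodePart45 : Janko1.Tree ℕ := (.node (.node (.node (.node (.node (.node (.leaf 19791) (.leaf 62224)) (.node (.leaf 73106) (.leaf 137770))) (.node (.node (.leaf 161710) (.leaf 72978)) (.node (.leaf 110638) (.leaf 137937)))) (.node (.node (.node (.leaf 137930) (.leaf 24982)) (.node (.leaf 24085) (.leaf 24086))) (.node (.node (.leaf 16087) (.leaf 23639)) (.node (.leaf 24213) (.leaf 24214))))) (.node (.node (.node (.node (.leaf 24853) (.leaf 18443)) (.node (.leaf 18450) (.leaf 19474))) (.node (.node (.leaf 68010) (.leaf 19602)) (.node (.leaf 18571) (.leaf 67921)))) (.node (.node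 (.node (.leaf 67914) (.leaf 147598)) (.node (.leaf 18451) (.leaf 2324))) (.node (.node (.leaf 126807) (.leaf 55607)) (.node (.leaf 98708) (.leaf 2451)))))) (.node (.node (.node (.node (.node (.leaf 18580) (.leaf 98579)) (.node (.leaf 85454) (.leaf 93773))) (.node (.node (.leaf 52996) (.leaf 179876)) (.node (.leaf 145458) (.leaf 93869)))) (.node (.node (.node (.leaf 145618) (.leaf 179780)) (.node (.leaf 53124) (.leaf 12686))) (.node (.node (.leaf 122571) (.leaf 122578)) (.node (.leaf 91825) (.leaf 91818))))) (.node (.node (.node (.node (.leaf 3726) (.leaf 12558)) (.node (.leaf 91722) (.leaf 122411))) (.node (.node (.leaf 194611) (.leaf 194612)) (.node (.leaf 4441) (.leaf 40282)))) (.node (.node (.node (.leaf 165008) (.leaf 258999)) (.node (.leaf 258263) (.leaf 194771))) (.node (.node (.leaf 194772) (.leaf 164880)) (.node (.leaf 40379) (.leaf 18585)))))))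

/-- A suborbit and a mover, part 46. -/
def redCodePart46 : Janko1.Tree ℕ := (.node (.node (.node (.node (.node (.node (.leaf 58957) (.leaf 103467)) (.node (.leaf 143441) (.leaf 143434))) (.node (.node (.leaf 66861) (.leaf 103627)) (.node (.leaf 103634) (.leaf 59053)))) (.node (.node (.node (.leaf 143530) (.leaf 110512)) (.node (.leaf 63535) (.leaf 118863))) (.node (.node (.leaf 110416) (.leaf 82831)) (.node (.leaf 42519) (.leaf 42072))))) (.node (.node (.node (.node (.leaf 42647) (.leaf 43447)) (.node (.leaf 42168) (.leaf 41624))) (.node (.node (.leaf 36881) (.leaf 37834)) (.node (.leaf 96280) (.leaf 3473)))) (.node (.node (.node (.leaf 37674) (.leaf 11185)) (.node (.leaf 95544) (.leaf 36870))) (.node (.node (.leaf 222040) (.leaf 214676)) (.node (.leaf 217624) (.leaf 36998)))))) (.node (.node (.node (.node (.node (.leaf 217144) (.leaf 79695)) (.node (.leaf 214359) (.leaf 214547))) (.node (.node (.leaf 28083) (.leaf 5139)) (.node (.leaf 17289) (.leaf 52824)))) (.node (.node (.node (.leaf 5268) (.leaf 27988)) (.node (.leaf 52664) (.leaf 13720)))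 (.node (.node (.leaf 17161) (.leaf 54856)) (.node (.leaf 73778) (.leaf 54952))))) (.node (.node (.node (.node (.leaf 99377) (.leaf 113073)) (.node (.leaf 233176) (.leaf 4359))) (.node (.node (.leaf 146831) (.leaf 4487)) (.node (.leaf 211896) (.leaf 228760)))) (.node (.node (.node (.leaf 52055) (.leaf 231895)) (.node (.leaf 73040) (.leaf 97869))) (.node (.node (.leaf 115405) (.leaf 62770)) (.node (.leaf 184873) (.leaf 244773)))))))

/-- A suborbit and a mover, part 47. -/
def redCodePart47 : Janko1.Tree ℕ := (.node (.node (.node (.node (.node (.node (.leaf 204839) (.leaf 204999)) (.node (.leaf 244933) (.leaf 185033))) (.node (.node (.leaf 23062) (.leaf 25238)) (.node (.leaf 2581) (.leaf 17288)))) (.node (.node (.node (.leaf 34568) (.leaf 2710)) (.node (.leaf 25109) (.leaf 23189))) (.node (.node (.leaf 34696) (.leaf 17160)) (.node (.leaf 52997) (.leaf 88451))))) (.node (.node (.node (.node (.leaf 53125) (.leaf 105522)) (.node (.leaf 96045) (.leaf 88323))) (.node (.node (.leaf 25352) (.leaf 3848)) (.node (.leaf 150070) (.leaf 131991)))) (.node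 (.node (.node (.leaf 3976) (.leaf 25480)) (.node (.leaf 150229) (.leaf 63287))) (.node (.node (.leaf 60036) (.leaf 98859)) (.node (.leaf 248581) (.leaf 111704)))))) (.node (.node (.node (.node (.node (.leaf 99019) (.leaf 71729)) (.node (.leaf 59908) (.leaf 77262))) (.node (.node (.leaf 248709) (.leaf 66392)) (.node (.leaf 11909) (.leaf 5893)))) (.node (.node (.node (.leaf 18052) (.leaf 123698)) (.node (.leaf 6021) (.leaf 11781))) (.node (.node (.leaf 61229) (.leaf 17924)) (.node (.leaf 195379) (.leaf 66249))))) (.node (.node (.node (.node (.leaf 224919) (.leaf 195540)) (.node (.leaf 260023) (.leaf 197687))) (.node (.node (.leaf 66089) (.leaf 246040)) (.node (.leaf 170968) (.leaf 103378)))) (.node (.node (.node (.leaf 63651) (.leaf 132824)) (.node (.leaf 63555) (.leaf 155150))) (.node (.node (.leaf 88113) (.leaf 72248)) (.node (.leaf 62246) (.leaf 79143)))))))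

/-- A suborbit and a mover, part 48. -/
def redCodePart48 : Janko1.Tree ℕ := (.node (.node (.node (.node (.node (.node (.leaf 194776) (.leaf 79303)) (.node (.leaf 261304) (.leaf 62406))) (.node (.node (.leaf 244503) (.leaf 117039)) (.node (.leaf 43063) (.leaf 42071)))) (.node (.node (.node (.leaf 42167) (.leaf 43223)) (.node (.leaf 42967) (.leaf 41623))) (.node (.node (.leaf 11089) (.leaf 11082)) (.node (.leaf 36874) (.leaf 37841))))) (.node (.node (.node (.node (.leaf 3345) (.leaf 3338)) (.node (.leaf 3466) (.leaf 37681))) (.node (.node (.leaf 37009) (.leaf 37002)) (.node (.leaf 11178) (.leaf 154000)))) (.node (.node (.node (.leaf 214675) (.leaf 79791)) (.node (.leaf 44695) (.leaf 222903))) (.node (.node (.leaf 214548) (.leaf 153872)) (.node (.leaf 6547) (.leaf 6548)))))) (.node (.node (.node (.node (.node (.leaf 29523) (.leaf 29524)) (.node (.leaf 28084) (.leaf 5140))) (.node (.node (.leaf 5267) (.leaf 27987)) (.node (.leaf 29619) (.leaf 29620)))) (.node (.node (.node (.leaf 6419) (.leaf 6420)) (.node (.leaf 139214) (.leaf 73771))) (.node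 (.node (.leaf 112977) (.leaf 112970)) (.node (.leaf 99537) (.leaf 99530))))) (.node (.node (.node (.node (.leaf 99370) (.leaf 113066)) (.node (.leaf 73931) (.leaf 73938))) (.node (.node (.leaf 139054) (.leaf 73136)) (.node (.leaf 146703) (.leaf 230295)))) (.node (.node (.node (.leaf 230967) (.leaf 229911)) (.node (.leaf 52919) (.leaf 153806))) (.node (.node (.leaf 62763) (.leaf 62923)) (.node (.leaf 62930) (.leaf 115245)))))))

/-- A suborbit and a mover, part 49. -/
def redCodePart49 : Janko1.Tree ℕ := (.node (.node (.node (.node (.node (.node (.leaf 153646) (.leaf 97965)) (.node (.leaf 8853) (.leaf 8854))) (.node (.node (.leaf 23061) (.leaf 25237)) (.node (.leaf 2582) (.leaf 2709)))) (.node (.node (.node (.leaf 25110) (.leaf 23190)) (.node (.leaf 8725) (.leaf 8726))) (.node (.node (.leaf 140686) (.leaf 39171)) (.node (.leaf 94467) (.leaf 96205))))) (.node (.node (.node (.node (.leaf 105675) (.leaf 105682)) (.node (.leaf 105515) (.leaf 94595))) (.node (.node (.leaf 39299) (.leaf 140558)) (.node (.leaf 27660) (.leaf 150069)))) (.node (.node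 (.node (.leaf 153175) (.leaf 85687)) (.node (.leaf 150230) (.leaf 27788))) (.node (.node (.leaf 146839) (.leaf 137303)) (.node (.leaf 77102) (.leaf 36868)))))) (.node (.node (.node (.node (.node (.leaf 73220) (.leaf 71889)) (.node (.leaf 71882) (.leaf 98866))) (.node (.node (.leaf 99026) (.leaf 71722)) (.node (.leaf 73348) (.leaf 36996)))) (.node (.node (.node (.leaf 61060) (.leaf 60164)) (.node (.leaf 123691) (.leaf 69934))) (.node (.node (.leaf 61389) (.leaf 70094)) (.node (.leaf 123851) (.leaf 123858))))) (.node (.node (.node (.node (.leaf 60292) (.leaf 60932)) (.node (.leaf 195380) (.leaf 196151))) (.node (.node (.leaf 172503) (.leaf 195539)) (.node (.leaf 262103) (.leaf 247447)))) (.node (.node (.node (.leaf 173783) (.leaf 221591)) (.node (.leaf 88273) (.leaf 88266))) (.node (.node (.leaf 155278) (.leaf 103371)) (.node (.leaf 64323) (.leaf 4355)))))))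

/-- A suborbit and a mover, part 50. -/
def redCodePart50 : Janko1.Tree ℕ := (.node (.node (.node (.node (.node (.node (.leaf 4483) (.leaf 64419)) (.node (.leaf 103211) (.leaf 103218))) (.node (.node (.leaf 88106) (.leaf 117199)) (.node (.leaf 171731) (.leaf 171732)))) (.node (.node (.node (.leaf 119120) (.leaf 119216)) (.node (.leaf 269879) (.leaf 272983))) (.node (.node (.leaf 171571) (.leaf 171572)) (.node (.leaf 38447) (.leaf 26128))))) (.node (.node (.node (.node (.leaf 42392) (.leaf 27568)) (.node (.leaf 43704) (.leaf 5128))) (.node (.node (.leaf 94552) (.leaf 6472)) (.node (.leaf 35211) (.leaf 6568)))) (.node (.node (.node (.leaf 29390) (.leaf 35083)) (.node (.leaf 96024) (.leaf 5256))) (.node (.node (.leaf 36786) (.leaf 43604)) (.node (.leaf 38985) (.leaf 43060)))))) (.node (.node (.node (.node (.node (.leaf 26919) (.leaf 43219)) (.node (.leaf 27079) (.leaf 44472))) (.node (.node (.leaf 79919) (.leaf 43699)) (.node (.leaf 222360) (.leaf 39081)))) (.node (.node (.node (.leaf 3591) (.leaf 52568)) (.node (.leaf 15879) (.leaf 17417))) (.node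 (.node (.leaf 16007) (.leaf 6800)) (.node (.leaf 13712) (.leaf 17545))))) (.node (.node (.node (.node (.leaf 3719) (.leaf 25264)) (.node (.leaf 107352) (.leaf 55113))) (.node (.node (.leaf 100305) (.leaf 24907)) (.node (.leaf 26424) (.leaf 25003)))) (.node (.node (.node (.leaf 102456) (.leaf 138286)) (.node (.leaf 25266) (.leaf 55209))) (.node (.node (.leaf 36678) (.leaf 31419)) (.node (.leaf 29623) (.leaf 6808)))))))

/-- A suborbit and a mover, part 51. -/
def redCodePart51 : Janko1.Tree ℕ := (.node (.node (.node (.node (.node (.node (.leaf 233016) (.leaf 36774)) (.node (.leaf 31322) (.leaf 50501))) (.node (.node (.leaf 138020) (.leaf 153528)) (.node (.leaf 165197) (.leaf 63435)))) (.node (.node (.node (.leaf 204070) (.leaf 63275)) (.node (.leaf 204230) (.leaf 50597))) (.node (.node (.leaf 133137) (.leaf 138180)) (.node (.leaf 3589) (.leaf 3799))))) (.node (.node (.node (.node (.leaf 15877) (.leaf 14356)) (.node (.leaf 17416) (.leaf 16005))) (.node (.node (.leaf 14483) (.leaf 17544)) (.node (.leaf 3717) (.leaf 24074)))) (.node (.node (.node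 (.leaf 54023) (.leaf 165400)) (.node (.leaf 104907) (.leaf 53766))) (.node (.node (.leaf 23953) (.leaf 102072)) (.node (.leaf 53894) (.leaf 142094)))))) (.node (.node (.node (.node (.node (.leaf 24202) (.leaf 54151)) (.node (.leaf 104747) (.leaf 2837))) (.node (.node (.leaf 35205) (.leaf 137047)) (.node (.leaf 35077) (.leaf 2966)))) (.node (.node (.node (.leaf 194729) (.leaf 152594)) (.node (.leaf 79950) (.leaf 194633))) (.node (.node (.leaf 38616) (.leaf 25176)) (.node (.leaf 62157) (.leaf 12045))))) (.node (.node (.node (.node (.leaf 12809) (.leaf 61188)) (.node (.leaf 12937) (.leaf 61316))) (.node (.node (.leaf 3725) (.leaf 162448)) (.node (.leaf 39258) (.leaf 197688)))) (.node (.node (.node (.leaf 39355) (.leaf 172504)) (.node (.leaf 196920) (.leaf 106703))) (.node (.node (.leaf 5640) (.leaf 57774)) (.node (.leaf 146968) (.leaf 82897)))))))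

/-- A suborbit and a mover, part 52. -/
def redCodePart52 : Janko1.Tree ℕ := (.node (.node (.node (.node (.node (.node (.leaf 72760) (.leaf 143185)) (.node (.leaf 5768) (.leaf 127410))) (.node (.node (.leaf 273847) (.leaf 81926)) (.node (.leaf 245400) (.leaf 172340)))) (.node (.node (.node (.leaf 92041) (.leaf 172499)) (.node (.leaf 91913) (.leaf 171576))) (.node (.node (.leaf 153519) (.leaf 82054)) (.node (.leaf 63023) (.leaf 37903))))) (.node (.node (.node (.node (.leaf 27472) (.leaf 38607)) (.node (.leaf 26256) (.leaf 38031))) (.node (.node (.leaf 29102) (.leaf 36683)) (.node (.leaf 36690) (.leaf 29230)))) (.node (.node (.node (.leaf 35218) (.leaf 35090)) (.node (.leaf 29006) (.leaf 36779))) (.node (.node (.leaf 43603) (.leaf 152784)) (.node (.leaf 43059) (.leaf 80079)))))) (.node (.node (.node (.node (.node (.leaf 43220) (.leaf 43700)) (.node (.leaf 152624) (.leaf 29104))) (.node (.node (.leaf 25168) (.leaf 6672)) (.node (.leaf 13584) (.leaf 29008)))) (.node (.node (.node (.leaf 25163) (.leaf 25170)) (.node (.leaf 100298) (.leaf 24914)))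 (.node (.node (.leaf 138446) (.leaf 25010)) (.node (.leaf 25259) (.leaf 100145))))) (.node (.node (.node (.node (.leaf 100138) (.leaf 54713)) (.node (.leaf 44378) (.leaf 73552))) (.node (.node (.leaf 27991) (.leaf 6807)) (.node (.leaf 73648) (.leaf 44475)))) (.node (.node (.node (.leaf 43705) (.leaf 133265)) (.node (.leaf 133258) (.leaf 36676))) (.node (.node (.leaf 133764) (.leaf 63442)) (.node (.leaf 165293) (.leaf 63282)))))))

/-- A suborbit and a mover, part 53. -/
def redCodePart53 : Janko1.Tree ℕ := (.node (.node (.node (.node (.node (.node (.leaf 133130) (.leaf 133636)) (.node (.leaf 36772) (.leaf 21779))) (.node (.node (.leaf 21780) (.leaf 25175)) (.node (.leaf 24279) (.leaf 14355)))) (.node (.node (.node (.leaf 14484) (.leaf 21907)) (.node (.leaf 21908) (.leaf 24081))) (.node (.node (.leaf 104914) (.leaf 23825)) (.node (.leaf 23818) (.leaf 142222))))) (.node (.node (.node (.node (.leaf 23946) (.leaf 24209)) (.node (.leaf 104754) (.leaf 2838))) (.node (.node (.leaf 113043) (.leaf 113044)) (.node (.leaf 26005) (.leaf 26006)))) (.node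 (.node (.node (.leaf 63031) (.leaf 147095)) (.node (.leaf 25877) (.leaf 25878))) (.node (.node (.leaf 2965) (.leaf 112915)) (.node (.leaf 112916) (.leaf 86477)))))) (.node (.node (.node (.node (.node (.leaf 80046) (.leaf 152715)) (.node (.leaf 152722) (.leaf 150029))) (.node (.node (.leaf 152587) (.leaf 150157)) (.node (.leaf 86317) (.leaf 3597)))) (.node (.node (.node (.leaf 18180) (.leaf 59780)) (.node (.leaf 12173) (.leaf 59652))) (.node (.node (.leaf 18308) (.leaf 61997)) (.node (.leaf 106543) (.leaf 112432))))) (.node (.node (.node (.node (.leaf 14363) (.leaf 15065)) (.node (.leaf 112592) (.leaf 19353))) (.node (.node (.leaf 14490) (.leaf 162320)) (.node (.leaf 127307) (.leaf 127314)))) (.node (.node (.node (.leaf 82890) (.leaf 143281)) (.node (.leaf 143274) (.leaf 82737))) (.node (.node (.leaf 82730) (.leaf 143178)) (.node (.leaf 127403) (.leaf 57678)))))))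

/-- A suborbit and a mover, part 54. -/
def redCodePart54 : Janko1.Tree ℕ := (.node (.node (.node (.node (.node (.node (.leaf 267735) (.leaf 246167)) (.node (.leaf 63183) (.leaf 172339))) (.node (.node (.leaf 153423) (.leaf 172500)) (.node (.leaf 38991) (.leaf 43608)))) (.node (.node (.node (.leaf 42264) (.leaf 37775)) (.node (.leaf 38351) (.leaf 4110))) (.node (.node (.leaf 6478) (.leaf 91928)) (.node (.leaf 29870) (.leaf 91192))))) (.node (.node (.node (.node (.leaf 27463) (.leaf 215992)) (.node (.leaf 218068) (.leaf 163664))) (.node (.node (.leaf 214680) (.leaf 50267)) (.node (.leaf 222904) (.leaf 217143)))) (.node (.node (.node (.leaf 50362) (.leaf 27559)) (.node (.leaf 217907) (.leaf 4368))) (.node (.node (.leaf 36681) (.leaf 28080)) (.node (.leaf 13464) (.leaf 5528)))))) (.node (.node (.node (.node (.node (.leaf 29872) (.leaf 51384)) (.node (.leaf 36777) (.leaf 50502))) (.node (.node (.leaf 203300) (.leaf 118353)) (.node (.leaf 106584) (.leaf 50246)))) (.node (.node (.node (.leaf 74539) (.leaf 50342)) (.node (.leaf 111565) (.leaf 74699)))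 (.node (.node (.leaf 101688) (.leaf 50598)) (.node (.leaf 203460) (.leaf 210004))))) (.node (.node (.node (.node (.leaf 45659) (.leaf 52151)) (.node (.leaf 29624) (.leaf 27992))) (.node (.node (.leaf 139695) (.leaf 45754)) (.node (.leaf 210099) (.leaf 79011)))) (.node (.node (.node (.leaf 129578) (.leaf 111406)) (.node (.leaf 57528) (.leaf 163474))) (.node (.node (.leaf 129738) (.leaf 78915)) (.node (.leaf 164504) (.leaf 22932)))))))

/-- A suborbit and a mover, part 55. -/
def redCodePart55 : Janko1.Tree ℕ := (.node (.node (.node (.node (.node (.node (.leaf 2067) (.leaf 21523)) (.node (.leaf 35336) (.leaf 35208))) (.node (.node (.leaf 21652) (.leaf 35080)) (.node (.leaf 35464) (.leaf 2196)))) (.node (.node (.node (.leaf 22803) (.leaf 112824)) (.node (.leaf 69546) (.leaf 95437))) (.node (.node (.leaf 53767) (.leaf 114104)) (.node (.leaf 96003) (.leaf 53895))))) (.node (.node (.node (.node (.leaf 96131) (.leaf 102840)) (.node (.leaf 69450) (.leaf 3845))) (.node (.node (.leaf 144181) (.leaf 81591)) (.node (.leaf 25989) (.leaf 28300)))) (.node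 (.node (.node (.leaf 25861) (.leaf 28172)) (.node (.leaf 126039) (.leaf 3973))) (.node (.node (.leaf 144342) (.leaf 162378)) (.node (.leaf 171528) (.leaf 180646)))))) (.node (.node (.node (.node (.node (.leaf 157009) (.leaf 78029)) (.node (.leaf 138968) (.leaf 162474))) (.node (.node (.leaf 161938) (.leaf 180550)) (.node (.leaf 171656) (.leaf 5641)))) (.node (.node (.node (.leaf 91057) (.leaf 66862)) (.node (.leaf 38360) (.leaf 122155))) (.node (.node (.leaf 124114) (.leaf 37592)) (.node (.leaf 122315) (.leaf 5769))))) (.node (.node (.node (.node (.leaf 38872) (.leaf 25883)) (.node (.leaf 65481) (.leaf 108079))) (.node (.node (.leaf 24921) (.leaf 261944)) (.node (.leaf 17113) (.leaf 244504)))) (.node (.node (.node (.leaf 113616) (.leaf 26010)) (.node (.leaf 65321) (.leaf 218648))) (.node (.node (.leaf 127147) (.leaf 197252)) (.node (.leaf 173733) (.leaf 78552)))))))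

/-- A suborbit and a mover, part 56. -/
def redCodePart56 : Janko1.Tree ℕ := (.node (.node (.node (.node (.node (.node (.leaf 172454) (.leaf 61998)) (.node (.leaf 172358) (.leaf 197124))) (.node (.node (.leaf 127051) (.leaf 173637)) (.node (.leaf 170808) (.leaf 248088)))) (.node (.node (.node (.leaf 261939) (.leaf 78279)) (.node (.leaf 273752) (.leaf 78119))) (.node (.node (.leaf 262100) (.leaf 38191)) (.node (.leaf 37647) (.leaf 38735))))) (.node (.node (.node (.node (.leaf 38831) (.leaf 39087)) (.node (.leaf 29774) (.leaf 28302))) (.node (.node (.leaf 28174) (.leaf 6574)) (.node (.leaf 4238) (.leaf 218067)))) (.node (.node (.node (.leaf 48217) (.leaf 28442)) (.node (.leaf 45271) (.leaf 222359))) (.node (.node (.leaf 28571) (.leaf 50841)) (.node (.leaf 163760) (.leaf 217908)))))) (.node (.node (.node (.node (.node (.leaf 29776) (.leaf 29520)) (.node (.leaf 29616) (.leaf 27984))) (.node (.node (.leaf 4496) (.leaf 50500)) (.node (.leaf 201604) (.leaf 118346)))) (.node (.node (.node (.leaf 74546) (.leaf 111405)) (.node (.leaf 74706) (.leaf 118449)))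 (.node (.node (.leaf 118442) (.leaf 201476)) (.node (.leaf 50596) (.leaf 210003))))) (.node (.node (.node (.node (.leaf 43609) (.leaf 4634)) (.node (.leaf 139599) (.leaf 231127))) (.node (.node (.leaf 230167) (.leaf 4763)) (.node (.leaf 9113) (.leaf 210100)))) (.node (.node (.node (.leaf 27459) (.leaf 85507)) (.node (.leaf 129585) (.leaf 163339))) (.node (.node (.leaf 163346) (.leaf 111566)) (.node (.leaf 163467) (.leaf 129745)))))))

/-- A suborbit and a mover, part 57. -/
def redCodePart57 : Janko1.Tree ℕ := (.node (.node (.node (.node (.node (.node (.leaf 85635) (.leaf 27555)) (.node (.leaf 22931) (.leaf 2068))) (.node (.node (.leaf 21524) (.leaf 21395)) (.node (.leaf 21396) (.leaf 21267)))) (.node (.node (.node (.leaf 21268) (.leaf 21651)) (.node (.leaf 2195) (.leaf 22804))) (.node (.node (.leaf 69553) (.leaf 90755)) (.node (.leaf 39939) (.leaf 150030))))) (.node (.node (.node (.node (.leaf 150158) (.leaf 40067)) (.node (.leaf 90627) (.leaf 95277))) (.node (.node (.leaf 69457) (.leaf 144182)) (.node (.leaf 124567) (.leaf 163671)))) (.node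 (.node (.node (.leaf 55863) (.leaf 140439)) (.node (.leaf 144341) (.leaf 161803))) (.node (.node (.leaf 161810) (.leaf 162385)) (.node (.leaf 77869) (.leaf 157105)))))) (.node (.node (.node (.node (.node (.leaf 157098) (.leaf 157002)) (.node (.leaf 162481) (.leaf 161931))) (.node (.node (.leaf 91050) (.leaf 122162)) (.node (.leaf 124107) (.leaf 123947)))) (.node (.node (.node (.leaf 123954) (.leaf 122322)) (.node (.leaf 67022) (.leaf 90961))) (.node (.node (.leaf 90954) (.leaf 25177)) (.node (.leaf 9242) (.leaf 113456))))) (.node (.node (.node (.node (.leaf 9370) (.leaf 27419)) (.node (.leaf 27546) (.leaf 9243))) (.node (.node (.leaf 108239) (.leaf 9371)) (.node (.leaf 1113) (.leaf 127154)))) (.node (.node (.node (.leaf 196868) (.leaf 5892)) (.node (.leaf 62158) (.leaf 155661))) (.node (.node (.leaf 155789) (.leaf 6020)) (.node (.leaf 196996) (.leaf 127058)))))))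

/-- A suborbit and a mover, part 58. -/
def redCodePart58 : Janko1.Tree ℕ := (.node (.node (.node (.node (.node (.node (.leaf 261940) (.leaf 92047)) (.node (.leaf 74896) (.leaf 74768))) (.node (.node (.leaf 91919) (.leaf 262099)) (.node (.leaf 26672) (.leaf 42808)))) (.node (.node (.node (.leaf 43352) (.leaf 27088)) (.node (.leaf 36011) (.leaf 2834))) (.node (.node (.leaf 11090) (.leaf 84312)) (.node (.leaf 36306) (.leaf 87320))))) (.node (.node (.node (.node (.leaf 35915) (.leaf 44088)) (.node (.leaf 28699) (.leaf 44824))) (.node (.node (.leaf 38441) (.leaf 215988)) (.node (.leaf 38601) (.leaf 215891)))) (.node (.node (.node (.leaf 28826) (.leaf 44696)) (.node (.leaf 217623) (.leaf 36009))) (.node (.node (.leaf 3600) (.leaf 23472)) (.node (.leaf 52408) (.leaf 52920)))))) (.node (.node (.node (.node (.node (.leaf 13336) (.leaf 35913)) (.node (.leaf 25400) (.leaf 54857))) (.node (.node (.leaf 116810) (.leaf 71307)) (.node (.leaf 25752) (.leaf 71179)))) (.node (.node (.node (.leaf 54953) (.leaf 116906)) (.node (.leaf 75474) (.leaf 27032))) (.node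 (.node (.leaf 36006) (.leaf 2822)) (.node (.leaf 31418) (.leaf 148783))))) (.node (.node (.node (.node (.leaf 231735) (.leaf 228376)) (.node (.leaf 211544) (.leaf 2950))) (.node (.node (.leaf 31323) (.leaf 35910)) (.node (.leaf 146509) (.leaf 248328)))) (.node (.node (.node (.leaf 138445) (.leaf 93400)) (.node (.leaf 200071) (.leaf 134289))) (.node (.node (.leaf 243077) (.leaf 242949)) (.node (.leaf 199943) (.leaf 248456)))))))

/-- A suborbit and a mover, part 59. -/
def redCodePart59 : Janko1.Tree ℕ := (.node (.node (.node (.node (.node (.node (.leaf 35592) (.leaf 24919)) (.node (.leaf 15575) (.leaf 35720))) (.node (.node (.leaf 24407) (.leaf 111147)) (.node (.leaf 54022) (.leaf 40195)))) (.node (.node (.node (.leaf 163352) (.leaf 158744)) (.node (.leaf 74929) (.leaf 54150))) (.node (.node (.leaf 40323) (.leaf 157976)) (.node (.leaf 111307) (.leaf 144085))))) (.node (.node (.node (.node (.leaf 2821) (.leaf 67383)) (.node (.leaf 99732) (.leaf 99603))) (.node (.node (.leaf 2949) (.leaf 143926)) (.node (.leaf 63953) (.leaf 148952)))) (.node (.node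 (.node (.leaf 55857) (.leaf 185159)) (.node (.leaf 181640) (.leaf 93102))) (.node (.node (.leaf 181512) (.leaf 185255)) (.node (.leaf 141325) (.leaf 91210)))))) (.node (.node (.node (.node (.node (.leaf 24920) (.leaf 23384)) (.node (.leaf 70190) (.leaf 68558))) (.node (.node (.leaf 123090) (.leaf 24408)) (.node (.leaf 91306) (.leaf 75655)))) (.node (.node (.node (.leaf 15193) (.leaf 63177)) (.node (.leaf 89478) (.leaf 158031))) (.node (.node (.leaf 89350) (.leaf 163088)) (.node (.leaf 63017) (.leaf 19609))))) (.node (.node (.node (.node (.leaf 245272) (.leaf 75527)) (.node (.leaf 58190) (.leaf 174149))) (.node (.node (.leaf 172611) (.leaf 100408)) (.node (.leaf 171079) (.leaf 67117)))) (.node (.node (.node (.leaf 128818) (.leaf 171175)) (.node (.leaf 172707) (.leaf 174245))) (.node (.node (.leaf 273080) (.leaf 64553)) (.node (.leaf 58522) (.leaf 65799)))))))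

/-- A suborbit and a mover, part 60. -/
def redCodePart60 : Janko1.Tree ℕ := (.node (.node (.node (.node (.node (.node (.leaf 170807) (.leaf 65927)) (.node (.leaf 64713) (.leaf 58395))) (.node (.node (.leaf 120784) (.leaf 216599)) (.node (.leaf 26384) (.leaf 27216)))) (.node (.node (.node (.leaf 26928) (.leaf 27312)) (.node (.leaf 26512) (.leaf 26832))) (.node (.node (.leaf 36018) (.leaf 2827)) (.node (.leaf 11083) (.leaf 36139))))) (.node (.node (.node (.node (.leaf 36146) (.leaf 36299)) (.node (.leaf 11179) (.leaf 11186))) (.node (.node (.leaf 2955) (.leaf 2962)) (.node (.leaf 35922) (.leaf 50713)))) (.node (.node (.node (.leaf 49722) (.leaf 93967)) (.node (.leaf 215987) (.leaf 215892))) (.node (.node (.leaf 94095) (.leaf 49883)) (.node (.leaf 47833) (.leaf 44471)))))) (.node (.node (.node (.node (.node (.leaf 225751) (.leaf 24496)) (.node (.leaf 24912) (.leaf 23376))) (.node (.node (.leaf 25008) (.leaf 3728)) (.node (.leaf 24400) (.leaf 145742)))) (.node (.node (.node (.leaf 75307) (.leaf 75314)) (.node (.leaf 116817) (.leaf 71314))) (.node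 (.node (.leaf 71186) (.leaf 116913)) (.node (.leaf 75467) (.leaf 145838))))) (.node (.node (.node (.node (.leaf 209843) (.leaf 209844)) (.node (.leaf 12059) (.leaf 3353))) (.node (.node (.leaf 52823) (.leaf 230039)) (.node (.leaf 148943) (.leaf 53337)))) (.node (.node (.node (.leaf 12186) (.leaf 209747)) (.node (.leaf 209748) (.leaf 98638))) (.node (.node (.leaf 134282) (.leaf 134161)) (.node (.leaf 134154) (.leaf 98734)))))))

/-- A suborbit and a mover, part 61. -/
def redCodePart61 : Janko1.Tree ℕ := (.node (.node (.node (.node (.node (.node (.leaf 138285) (.leaf 146605)) (.node (.leaf 23255) (.leaf 15703))) (.node (.node (.leaf 23383) (.leaf 24791)) (.node (.leaf 24535) (.leaf 87)))) (.node (.node (.node (.leaf 111154) (.leaf 95235)) (.node (.leaf 91523) (.leaf 94669))) (.node (.node (.leaf 74833) (.leaf 74826)) (.node (.leaf 74922) (.leaf 94509))))) (.node (.node (.node (.node (.leaf 91395) (.leaf 95363)) (.node (.leaf 111314) (.leaf 144086))) (.node (.node (.leaf 151191) (.leaf 134487)) (.node (.leaf 99731) (.leaf 150997)))) (.node (.node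 (.node (.leaf 150998) (.leaf 150837)) (.node (.leaf 150838) (.leaf 99604))) (.node (.node (.leaf 143925) (.leaf 63946)) (.node (.leaf 141453) (.leaf 55850)))))) (.node (.node (.node (.node (.node (.leaf 93006) (.leaf 56017)) (.node (.leaf 56010) (.leaf 63793))) (.node (.node (.leaf 63786) (.leaf 91217)) (.node (.leaf 122923) (.leaf 122930)))) (.node (.node (.node (.leaf 68398) (.leaf 70350)) (.node (.leaf 123083) (.leaf 91313))) (.node (.node (.leaf 157359) (.leaf 40026)) (.node (.leaf 2075) (.leaf 163216))))) (.node (.node (.node (.node (.leaf 158127) (.leaf 2202)) (.node (.leaf 40123) (.leaf 157263))) (.node (.node (.leaf 172451) (.leaf 5891)) (.node (.leaf 128971) (.leaf 128978)))) (.node (.node (.node (.leaf 67277) (.leaf 128811)) (.node (.leaf 6019) (.leaf 172355))) (.node (.node (.leaf 58286) (.leaf 120624)) (.node (.leaf 125339) (.leaf 69529)))))))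

/-- A suborbit and a mover, part 62. -/
def redCodePart62 : Janko1.Tree ℕ := (.node (.node (.node (.node (.node (.node (.leaf 197079) (.leaf 223767)) (.node (.leaf 130489) (.leaf 125210))) (.node (.node (.leaf 173367) (.leaf 191959)) (.node (.leaf 42520) (.leaf 43064)))) (.node (.node (.node (.leaf 43224) (.leaf 43448)) (.node (.leaf 42648) (.leaf 42968))) (.node (.node (.leaf 90680) (.leaf 86808)) (.node (.leaf 95800) (.leaf 88408))))) (.node (.node (.node (.node (.leaf 84792) (.leaf 95064)) (.node (.leaf 49435) (.leaf 45655))) (.node (.node (.leaf 44087) (.leaf 29531)) (.node (.leaf 161840) (.leaf 29626)))) (.node (.node (.node (.leaf 49562) (.leaf 80911)) (.node (.leaf 51128) (.leaf 13592))) (.node (.node (.leaf 2825) (.leaf 51288)) (.node (.leaf 36425) (.leaf 34985)))))) (.node (.node (.node (.node (.node (.leaf 52056) (.leaf 34889)) (.node (.leaf 36521) (.leaf 2953))) (.node (.node (.leaf 52312) (.leaf 139982)) (.node (.leaf 101066) (.leaf 50244)))) (.node (.node (.node (.leaf 147278) (.leaf 105357)) (.node (.leaf 50340) (.leaf 100906)))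 (.node (.node (.leaf 69650) (.leaf 103693)) (.node (.leaf 42937) (.leaf 8857))))) (.node (.node (.node (.node (.leaf 11930) (.leaf 230035)) (.node (.leaf 209847) (.leaf 58928))) (.node (.node (.leaf 62864) (.leaf 229908)) (.node (.leaf 11803) (.leaf 42841)))) (.node (.node (.node (.leaf 54969) (.leaf 61656)) (.node (.leaf 241320) (.leaf 182409))) (.node (.node (.leaf 182281) (.leaf 100056)) (.node (.leaf 241224) (.leaf 87736)))))))

/-- A suborbit and a mover, part 63. -/
def redCodePart63 : Janko1.Tree ℕ := (.node (.node (.node (.node (.node (.node (.leaf 68024) (.leaf 36744)) (.node (.leaf 2824) (.leaf 2952))) (.node (.node (.leaf 36616) (.leaf 75594)) (.node (.leaf 141454) (.leaf 104146)))) (.node (.node (.node (.leaf 117810) (.leaf 84781)) (.node (.leaf 70993) (.leaf 151438))) (.node (.node (.leaf 75690) (.leaf 83917)) (.node (.leaf 114196) (.leaf 160343))))) (.node (.node (.node (.node (.leaf 98835) (.leaf 152919)) (.node (.leaf 98964) (.leaf 150679))) (.node (.node (.leaf 124823) (.leaf 114323)) (.node (.leaf 180647) (.leaf 86936)))) (.node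 (.node (.node (.leaf 206153) (.leaf 185158)) (.node (.leaf 185254) (.leaf 206249))) (.node (.node (.leaf 91544) (.leaf 180551)) (.node (.leaf 67278) (.leaf 123339)))))) (.node (.node (.node (.node (.node (.leaf 61828) (.leaf 89002)) (.node (.leaf 60877) (.leaf 92081))) (.node (.node (.leaf 88906) (.leaf 61700)) (.node (.leaf 123179) (.leaf 91270)))) (.node (.node (.node (.leaf 259640) (.leaf 74119)) (.node (.leaf 223896) (.leaf 73991))) (.node (.node (.leaf 216600) (.leaf 173784)) (.node (.leaf 91142) (.leaf 224920))))) (.node (.node (.node (.node (.leaf 236168) (.leaf 191049)) (.node (.leaf 132312) (.leaf 191145))) (.node (.node (.leaf 236040) (.leaf 99896)) (.node (.leaf 79064) (.leaf 147224)))) (.node (.node (.node (.leaf 197076) (.leaf 259927)) (.node (.leaf 58521) (.leaf 128281))) (.node (.node (.leaf 135631) (.leaf 196915)) (.node (.leaf 81039) (.leaf 46105)))))))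

/-- A suborbit and a mover, part 64. -/
def redCodePart64 : Janko1.Tree ℕ := (.node (.node (.node (.node (.node (.node (.leaf 28986) (.leaf 92975)) (.node (.leaf 214679) (.leaf 223287))) (.node (.node (.leaf 218071) (.leaf 225047)) (.node (.leaf 52825) (.leaf 49178)))) (.node (.node (.node (.leaf 153008) (.leaf 152912)) (.node (.leaf 162000) (.leaf 49307))) (.node (.node (.leaf 46233) (.leaf 93135)) (.node (.leaf 29147) (.leaf 52441))))) (.node (.node (.node (.node (.leaf 103821) (.leaf 69771)) (.node (.leaf 69778) (.leaf 119341))) (.node (.node (.leaf 101073) (.leaf 199300)) (.node (.leaf 204836) (.leaf 105229)))) (.node (.node (.node (.leaf 147374) (.leaf 204996)) (.node (.leaf 199172) (.leaf 100913))) (.node (.node (.leaf 139822) (.leaf 119501)) (.node (.leaf 69643) (.leaf 32090)))))) (.node (.node (.node (.node (.node (.leaf 44219) (.leaf 45498)) (.node (.leaf 4635) (.leaf 32091))) (.node (.node (.leaf 53593) (.leaf 230036)) (.node (.leaf 210007) (.leaf 5399)))) (.node (.node (.node (.leaf 62736) (.leaf 147215)) (.node (.leaf 147343) (.leaf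 59088))) (.node (.node (.leaf 229907) (.leaf 3481)) (.node (.leaf 32186) (.leaf 4762))))) (.node (.node (.node (.node (.leaf 45403) (.leaf 44122)) (.node (.leaf 32187) (.leaf 83757))) (.node (.node (.leaf 75601) (.leaf 151310)) (.node (.leaf 104139) (.leaf 71089)))) (.node (.node (.node (.leaf 71082) (.leaf 117803)) (.node (.leaf 84941) (.leaf 117963))) (.node (.node (.leaf 117970) (.leaf 70986)) (.node (.leaf 103979) (.leaf 103986)))))))

/-- A suborbit and a mover, part 65. -/
def redCodePart65 : Janko1.Tree ℕ := (.node (.node (.node (.node (.node (.node (.leaf 141326) (.leaf 75697)) (.node (.leaf 114195) (.leaf 3084))) (.node (.node (.leaf 141621) (.leaf 141622)) (.node (.leaf 77239) (.leaf 129431)))) (.node (.node (.node (.leaf 98836) (.leaf 84663)) (.node (.leaf 131479) (.leaf 98963))) (.node (.node (.leaf 141781) (.leaf 141782)) (.node (.leaf 3212) (.leaf 134743))))) (.node (.node (.node (.node (.leaf 66871) (.leaf 164183)) (.node (.leaf 81847) (.leaf 114324))) (.node (.node (.leaf 61485) (.leaf 123346)) (.node (.leaf 61956) (.leaf 4100))))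 (.node (.node (.node (.leaf 60365) (.leaf 89009)) (.node (.leaf 91985) (.leaf 91978))) (.node (.node (.leaf 60717) (.leaf 92074)) (.node (.leaf 88913) (.leaf 60205)))))) (.node (.node (.node (.node (.node (.leaf 4228) (.leaf 62084)) (.node (.leaf 123186) (.leaf 67118))) (.node (.node (.leaf 61645) (.leaf 65808)) (.node (.leaf 97455) (.leaf 130096)))) (.node (.node (.node (.leaf 197075) (.leaf 247319)) (.node (.leaf 261943) (.leaf 135471))) (.node (.node (.leaf 71066) (.leaf 130395)) (.node (.leaf 80176) (.leaf 80336))))) (.node (.node (.node (.node (.leaf 130490) (.leaf 70939)) (.node (.leaf 196916) (.leaf 130256))) (.node (.node (.leaf 97359) (.leaf 65936)) (.node (.leaf 46596) (.leaf 7079)))) (.node (.node (.node (.leaf 7090) (.leaf 7077)) (.node (.leaf 32646) (.leaf 32655))) (.node (.node (.leaf 217368) (.leaf 42676)) (.node (.leaf 46724) (.leaf 6983)))))))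

/-- A suborbit and a mover, part 66. -/
def redCodePart66 : Janko1.Tree ℕ := (.node (.node (.node (.node (.node (.node (.leaf 6981) (.leaf 6993)) (.node (.leaf 6989) (.leaf 32518))) (.node (.node (.leaf 20272) (.leaf 42579)) (.node (.leaf 217272) (.leaf 44344)))) (.node (.node (.node (.leaf 222775) (.leaf 14341)) (.node (.leaf 10501) (.leaf 8214))) (.node (.node (.leaf 14216) (.leaf 279)) (.node (.leaf 24659) (.leaf 25505))))) (.node (.node (.node (.node (.leaf 101432) (.leaf 14469)) (.node (.leaf 10629) (.leaf 8341))) (.node (.node (.leaf 14088) (.leaf 24756)) (.node (.leaf 25409) (.leaf 21585)))) (.node (.node (.node (.leaf 24146) (.leaf 25656)) (.node (.leaf 2312) (.leaf 19638))) (.node (.node (.leaf 101846) (.leaf 141976)) (.node (.leaf 62667) (.leaf 49573)))))) (.node (.node (.node (.node (.node (.leaf 138541) (.leaf 241736)) (.node (.leaf 2440) (.leaf 19095))) (.node (.node (.leaf 19541) (.leaf 101685)) (.node (.leaf 19534) (.leaf 20280)))) (.node (.node (.node (.leaf 62507) (.leaf 49477)) (.node (.leaf 129073) (.leaf 241832))) (.node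 (.node (.leaf 14210) (.leaf 14342)) (.node (.leaf 7444) (.leaf 14217))))) (.node (.node (.node (.node (.leaf 22543) (.leaf 200120)) (.node (.leaf 39553) (.leaf 19858))) (.node (.node (.leaf 102328) (.leaf 54406)) (.node (.leaf 14082) (.leaf 14470)))) (.node (.node (.node (.leaf 7571) (.leaf 14089)) (.node (.leaf 26639) (.leaf 39425))) (.node (.node (.leaf 32526) (.leaf 24337)) (.node (.leaf 54278) (.leaf 2567)))))))

/-- A suborbit and a mover, part 67. -/
def redCodePart67 : Janko1.Tree ℕ := (.node (.node (.node (.node (.node (.node (.leaf 50072) (.leaf 12695)) (.node (.leaf 32653) (.leaf 98514))) (.node (.node (.leaf 2695) (.leaf 32528)) (.node (.leaf 46743) (.leaf 189272)))) (.node (.node (.node (.leaf 46744) (.leaf 41400)) (.node (.leaf 162129) (.leaf 2817))) (.node (.node (.leaf 13581) (.leaf 10513)) (.node (.leaf 12040) (.leaf 280))))) (.node (.node (.node (.node (.leaf 157336) (.leaf 63266)) (.node (.leaf 196407) (.leaf 197176))) (.node (.node (.leaf 282) (.leaf 174296)) (.node (.leaf 2945) (.leaf 12168)))) (.node (.node (.node (.leaf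 126670) (.leaf 63426)) (.node (.leaf 215192) (.leaf 270552))) (.node (.node (.leaf 113968) (.leaf 283)) (.node (.leaf 2578) (.leaf 87858)))))) (.node (.node (.node (.node (.node (.leaf 159946) (.leaf 179621)) (.node (.leaf 246936) (.leaf 281))) (.node (.node (.leaf 119375) (.leaf 194520)) (.node (.leaf 197172) (.leaf 17080)))) (.node (.node (.node (.leaf 111576) (.leaf 159786)) (.node (.leaf 179525) (.leaf 40537))) (.node (.node (.leaf 245911) (.leaf 248344)) (.node (.leaf 272824) (.leaf 197331))))) (.node (.node (.node (.node (.leaf 46468) (.leaf 3076)) (.node (.leaf 7083) (.leaf 7089))) (.node (.node (.leaf 7082) (.leaf 7085)) (.node (.leaf 20432) (.leaf 42675)))) (.node (.node (.node (.leaf 3204) (.leaf 46340)) (.node (.leaf 6987) (.leaf 6994))) (.node (.node (.leaf 6986) (.leaf 32527)) (.node (.leaf 42580) (.leaf 44631)))))))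

/-- A suborbit and a mover, part 68. -/
def redCodePart68 : Janko1.Tree ℕ := (.node (.node (.node (.node (.node (.node (.leaf 214423) (.leaf 8213)) (.node (.leaf 21431) (.leaf 21335))) (.node (.node (.leaf 24660) (.leaf 21681)) (.node (.leaf 21674) (.leaf 18605)))) (.node (.node (.node (.leaf 24235) (.leaf 24242)) (.node (.leaf 140078) (.leaf 8342))) (.node (.node (.leaf 24755) (.leaf 21578)) (.node (.leaf 18509) (.leaf 24139))))) (.node (.node (.node (.node (.leaf 140238) (.leaf 33619)) (.node (.leaf 33620) (.leaf 19637))) (.node (.node (.leaf 101845) (.leaf 19630)) (.node (.leaf 62674) (.leaf 129233)))) (.node (.node (.node (.leaf 129226) (.leaf 33715)) (.node (.leaf 33716) (.leaf 10071))) (.node (.node (.leaf 20279) (.leaf 19542)) (.node (.leaf 101686) (.leaf 62514)))))) (.node (.node (.node (.node (.node (.leaf 129066) (.leaf 138701)) (.node (.leaf 14338) (.leaf 2050))) (.node (.node (.leaf 7443) (.leaf 26767)) (.node (.leaf 32654) (.leaf 19851)))) (.node (.node (.node (.leaf 24465) (.leaf 24458)) (.node (.leaf 141838) (.leaf 2178))) (.node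 (.node (.leaf 14466) (.leaf 7572)) (.node (.leaf 22671) (.leaf 19723))))) (.node (.node (.node (.node (.leaf 19730) (.leaf 24330)) (.node (.leaf 141966) (.leaf 32656))) (.node (.node (.leaf 39696) (.leaf 187831)) (.node (.leaf 191063) (.leaf 98507)))) (.node (.node (.node (.leaf 162225) (.leaf 162218)) (.node (.leaf 141837) (.leaf 39824))) (.node (.node (.leaf 3223) (.leaf 46359)) (.node (.leaf 32525) (.leaf 98347)))))))

/-- A suborbit and a mover, part 69. -/
def redCodePart69 : Janko1.Tree ℕ := (.node (.node (.node (.node (.node (.node (.leaf 98354) (.leaf 162122)) (.node (.leaf 141965) (.leaf 10506))) (.node (.node (.leaf 11918) (.leaf 126510)) (.node (.leaf 62914) (.leaf 65218)))) (.node (.node (.node (.leaf 172759) (.leaf 225431)) (.node (.leaf 114128) (.leaf 40891))) (.node (.node (.leaf 19865) (.leaf 13709)) (.node (.leaf 10641) (.leaf 10634))))) (.node (.node (.node (.node (.leaf 11790) (.leaf 65058)) (.node (.leaf 62754) (.leaf 14681))) (.node (.node (.leaf 40794) (.leaf 2571)) (.node (.leaf 87851) (.leaf 159953)))) (.node (.node (.node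 (.leaf 128557) (.leaf 18842)) (.node (.leaf 14779) (.leaf 197171))) (.node (.node (.leaf 2699) (.leaf 2706)) (.node (.leaf 88011) (.leaf 88018)))))) (.node (.node (.node (.node (.node (.leaf 159793) (.leaf 128717)) (.node (.leaf 14682) (.leaf 18715))) (.node (.node (.leaf 119471) (.leaf 273591)) (.node (.leaf 267479) (.leaf 197332)))) (.node (.node (.node (.leaf 37387) (.leaf 26545)) (.node (.leaf 26154) (.leaf 135000))) (.node (.node (.leaf 33455) (.leaf 34255)) (.node (.leaf 38854) (.leaf 26535))))) (.node (.node (.node (.node (.leaf 222616) (.leaf 50651)) (.node (.leaf 38706) (.leaf 37515))) (.node (.node (.leaf 26314) (.leaf 134168)) (.node (.leaf 38694) (.leaf 222296)))) (.node (.node (.node (.leaf 26439) (.leaf 50490)) (.node (.leaf 93487) (.leaf 14213))) (.node (.node (.leaf 2053) (.leaf 31573)) (.node (.leaf 40773) (.leaf 21937)))))))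

/-- A suborbit and a mover, part 70. -/
def redCodePart70 : Janko1.Tree ℕ := (.node (.node (.node (.node (.node (.node (.leaf 20906) (.leaf 53160)) (.node (.leaf 49574) (.leaf 2181))) (.node (.node (.leaf 14085) (.leaf 31670)) (.node (.leaf 14231) (.leaf 40869)))) (.node (.node (.node (.leaf 20810) (.leaf 53064)) (.node (.leaf 106840) (.leaf 49478))) (.node (.node (.leaf 75570) (.leaf 118829)) (.node (.leaf 33460) (.leaf 2579))))) (.node (.node (.node (.node (.leaf 40360) (.leaf 67283)) (.node (.leaf 49575) (.leaf 116525))) (.node (.node (.leaf 84611) (.leaf 132874)) (.node (.leaf 2708) (.leaf 33363)))) (.node (.node (.node (.leaf 40264) (.leaf 67124)) (.node (.leaf 61335) (.leaf 143544))) (.node (.node (.leaf 49479) (.leaf 133002)) (.node (.leaf 84483) (.leaf 93656)))))) (.node (.node (.node (.node (.node (.leaf 62168) (.leaf 14214)) (.node (.leaf 2054) (.leaf 47507))) (.node (.node (.leaf 40583) (.leaf 33678)) (.node (.leaf 54405) (.leaf 54407)))) (.node (.node (.node (.leaf 91907) (.leaf 2182)) (.node (.leaf 14086) (.leaf 47380))) (.node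 (.node (.leaf 22031) (.leaf 40455)) (.node (.leaf 188088) (.leaf 54277))))) (.node (.node (.node (.node (.leaf 54279) (.leaf 112568)) (.node (.leaf 92035) (.leaf 151566))) (.node (.node (.leaf 2576) (.leaf 25865)) (.node (.leaf 84144) (.leaf 32792)))) (.node (.node (.node (.leaf 71978) (.leaf 12568)) (.node (.leaf 25993) (.leaf 200024))) (.node (.node (.leaf 203864) (.leaf 2712)) (.node (.leaf 94285) (.leaf 72138)))))))

/-- A suborbit and a mover, part 71. -/
def redCodePart71 : Janko1.Tree ℕ := (.node (.node (.node (.node (.node (.node (.leaf 86221) (.leaf 161298)) (.node (.leaf 148440) (.leaf 110353))) (.node (.node (.leaf 91186) (.leaf 259511)) (.node (.leaf 9627) (.leaf 245016)))) (.node (.node (.node (.leaf 2189) (.leaf 14232)) (.node (.leaf 218264) (.leaf 216216))) (.node (.node (.leaf 9498) (.leaf 260408)) (.node (.leaf 17592) (.leaf 5897))))) (.node (.node (.node (.node (.leaf 78418) (.leaf 122126)) (.node (.leaf 198662) (.leaf 178247))) (.node (.node (.leaf 78791) (.leaf 81542)) (.node (.leaf 130512) (.leaf 6025)))) (.node (.node (.node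 (.leaf 120209) (.leaf 178343)) (.node (.leaf 198790) (.leaf 147632))) (.node (.node (.leaf 78631) (.leaf 81414)) (.node (.leaf 171064) (.leaf 120880)))))) (.node (.node (.node (.node (.node (.leaf 37394) (.leaf 38859)) (.node (.leaf 38866) (.leaf 26538))) (.node (.node (.leaf 26161) (.leaf 93647)) (.node (.leaf 48089) (.leaf 29082)))) (.node (.node (.node (.leaf 38699) (.leaf 37522)) (.node (.leaf 26321) (.leaf 26449))) (.node (.node (.leaf 26442) (.leaf 34095)) (.node (.leaf 33359) (.leaf 28955))))) (.node (.node (.node (.node (.leaf 50969) (.leaf 31574)) (.node (.leaf 30133) (.leaf 30134))) (.node (.node (.leaf 21930) (.leaf 20913)) (.node (.leaf 118989) (.leaf 75723)))) (.node (.node (.node (.leaf 75730) (.leaf 30037)) (.node (.leaf 30038) (.leaf 31669))) (.node (.node (.leaf 21943) (.leaf 22359)) (.node (.leaf 20817) (.leaf 21841)))))))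

/-- A suborbit and a mover, part 72. -/
def redCodePart72 : Janko1.Tree ℕ := (.node (.node (.node (.node (.node (.node (.leaf 21834) (.leaf 75563)) (.node (.leaf 33459) (.leaf 2580))) (.node (.node (.leaf 67284) (.leaf 161966)) (.node (.leaf 26531) (.leaf 78403)))) (.node (.node (.node (.leaf 132881) (.leaf 2707)) (.node (.leaf 33364) (.leaf 67123))) (.node (.node (.leaf 84055) (.leaf 101047)) (.node (.leaf 161870) (.leaf 116685))))) (.node (.node (.node (.node (.leaf 133009) (.leaf 78499)) (.node (.leaf 26435) (.leaf 46611))) (.node (.node (.leaf 46612) (.leaf 47508)) (.node (.leaf 12687) (.leaf 22159)))) (.node (.node (.node (.leaf 33934) (.leaf 151694)) (.node (.leaf 95619) (.leaf 40579))) (.node (.node (.leaf 47379) (.leaf 46739)) (.node (.leaf 46740) (.leaf 12559)))))) (.node (.node (.node (.node (.node (.leaf 33550) (.leaf 33806)) (.node (.leaf 40451) (.leaf 95491))) (.node (.node (.leaf 32784) (.leaf 131151)) (.node (.leaf 71985) (.leaf 94381)))) (.node (.node (.node (.leaf 161419) (.leaf 161426)) (.node (.leaf 86061) (.leaf 2704)))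 (.node (.node (.leaf 32912) (.leaf 131247)) (.node (.leaf 84048) (.leaf 72145))))) (.node (.node (.node (.node (.leaf 161291) (.leaf 13453)) (.node (.leaf 2061) (.leaf 110346))) (.node (.node (.leaf 91179) (.leaf 195283)) (.node (.leaf 195284) (.leaf 258519)))) (.node (.node (.node (.leaf 246935) (.leaf 2905)) (.node (.leaf 25498) (.leaf 106191))) (.node (.node (.leaf 13325) (.leaf 91339)) (.node (.leaf 91346) (.leaf 110481)))))))

/-- A suborbit and a mover, part 73. -/
def redCodePart73 : Janko1.Tree ℕ := (.node (.node (.node (.node (.node (.node (.leaf 110474) (.leaf 195123)) (.node (.leaf 195124) (.leaf 106031))) (.node (.node (.leaf 25371) (.leaf 24153)) (.node (.leaf 127950) (.leaf 120081)))) (.node (.node (.node (.leaf 120074) (.leaf 78411)) (.node (.leaf 143887) (.leaf 147536))) (.node (.node (.leaf 121040) (.leaf 120202)) (.node (.leaf 127790) (.leaf 122254))))) (.node (.node (.node (.node (.leaf 78507) (.leaf 78514)) (.node (.leaf 144015) (.leaf 130352))) (.node (.node (.leaf 7239) (.leaf 3079)) (.node (.leaf 38219) (.leaf 126808))))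 (.node (.node (.node (.leaf 35757) (.leaf 37254)) (.node (.leaf 45464) (.leaf 29915))) (.node (.node (.leaf 38057) (.leaf 3207)) (.node (.leaf 38315) (.leaf 7335)))))) (.node (.node (.node (.node (.node (.leaf 37138) (.leaf 125720)) (.node (.leaf 19536) (.leaf 225560))) (.node (.node (.leaf 18704) (.leaf 37126)) (.node (.leaf 37961) (.leaf 29754)))) (.node (.node (.node (.leaf 10373) (.leaf 30901)) (.node (.leaf 2309) (.leaf 24244))) (.node (.node (.leaf 53928) (.leaf 19629)) (.node (.leaf 27288) (.leaf 54185))))) (.node (.node (.node (.node (.leaf 119729) (.leaf 2437)) (.node (.leaf 10245) (.leaf 30806))) (.node (.node (.leaf 24147) (.leaf 19277)) (.node (.leaf 53832) (.leaf 54089)))) (.node (.node (.node (.leaf 69522) (.leaf 19255)) (.node (.leaf 38213) (.leaf 38056))) (.node (.node (.leaf 62359) (.leaf 18840)) (.node (.leaf 154158) (.leaf 146349)))))))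

/-- A suborbit and a mover, part 74. -/
def redCodePart74 : Janko1.Tree ℕ := (.node (.node (.node (.node (.node (.node (.leaf 88248) (.leaf 133892)) (.node (.leaf 165272) (.leaf 38309))) (.node (.node (.leaf 37960) (.leaf 115505)) (.node (.leaf 134020) (.leaf 46484)))) (.node (.node (.node (.leaf 47892) (.leaf 27151)) (.node (.leaf 40967) (.leaf 53381))) (.node (.node (.leaf 20107) (.leaf 157464)) (.node (.leaf 95789) (.leaf 48019))))) (.node (.node (.node (.node (.leaf 46355) (.leaf 41095)) (.node (.leaf 203448) (.leaf 19979))) (.node (.node (.leaf 18706) (.leaf 53253)) (.node (.leaf 164888) (.leaf 75857)))) (.node (.node (.node (.leaf 25737) (.leaf 3088)) (.node (.leaf 51081) (.leaf 73092))) (.node (.node (.leaf 18104) (.leaf 116267)) (.node (.leaf 63025) (.leaf 91800)))))) (.node (.node (.node (.node (.node (.leaf 181318) (.leaf 49688)) (.node (.leaf 39440) (.leaf 25609))) (.node (.node (.leaf 3224) (.leaf 128175)) (.node (.leaf 46360) (.leaf 116427)))) (.node (.node (.node (.leaf 50953) (.leaf 72964)) (.node (.leaf 80302) (.leaf 181414)))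 (.node (.node (.leaf 10378) (.leaf 13447)) (.node (.leaf 262359) (.leaf 191444))))) (.node (.node (.node (.node (.leaf 90886) (.leaf 65577)) (.node (.leaf 2449) (.leaf 10250))) (.node (.node (.leaf 158616) (.leaf 88882)) (.node (.leaf 13319) (.leaf 269784)))) (.node (.node (.node (.leaf 191283) (.leaf 267480)) (.node (.leaf 65737) (.leaf 156847))) (.node (.node (.leaf 91014) (.leaf 111064)) (.node (.leaf 5382) (.leaf 144939)))))))

/-- A suborbit and a mover, part 75. -/
def redCodePart75 : Janko1.Tree ℕ := (.node (.node (.node (.node (.node (.node (.leaf 174089) (.leaf 109904)) (.node (.leaf 261816) (.leaf 17498))) (.node (.node (.leaf 5510) (.leaf 128206)) (.node (.leaf 102414) (.leaf 145099)))) (.node (.node (.node (.leaf 174217) (.leaf 17595)) (.node (.leaf 224024) (.leaf 245144))) (.node (.node (.leaf 91791) (.leaf 97199)) (.node (.leaf 37259) (.leaf 37266))))) (.node (.node (.node (.node (.leaf 38226) (.leaf 35373)) (.node (.leaf 18832) (.leaf 19632))) (.node (.node (.leaf 52697) (.leaf 49818)) (.node (.leaf 164016) (.leaf 38322)))) (.node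 (.node (.node (.leaf 37131) (.leaf 35661)) (.node (.leaf 35533) (.leaf 163920))) (.node (.node (.leaf 49691) (.leaf 46361)) (.node (.leaf 30902) (.leaf 31317)))))) (.node (.node (.node (.node (.node (.leaf 31318) (.leaf 15763)) (.node (.leaf 15764) (.leaf 24243))) (.node (.node (.leaf 19373) (.leaf 69387)) (.node (.leaf 69394) (.leaf 119722)))) (.node (.node (.node (.leaf 31413) (.leaf 31414)) (.node (.leaf 30805) (.leaf 24148))) (.node (.node (.leaf 15635) (.leaf 15636)) (.node (.leaf 19533) (.leaf 119633))))) (.node (.node (.node (.node (.leaf 119626) (.leaf 69515)) (.node (.leaf 18839) (.leaf 10327))) (.node (.node (.leaf 56339) (.leaf 56340)) (.node (.leaf 97207) (.leaf 88151)))) (.node (.node (.node (.leaf 115665) (.leaf 115658)) (.node (.leaf 35748) (.leaf 137924))) (.node (.node (.leaf 56467) (.leaf 56468)) (.node (.leaf 115498) (.leaf 154318)))))))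

/-- A suborbit and a mover, part 76. -/
def redCodePart76 : Janko1.Tree ℕ := (.node (.node (.node (.node (.node (.node (.leaf 137764) (.leaf 35652)) (.node (.leaf 146253) (.leaf 46483))) (.node (.node (.leaf 47891) (.leaf 7311)) (.node (.leaf 18827) (.leaf 18834)))) (.node (.node (.node (.leaf 20114) (.leaf 75953)) (.node (.leaf 75946) (.leaf 48020))) (.node (.node (.leaf 46356) (.leaf 27279)) (.node (.leaf 7183) (.leaf 19986))))) (.node (.node (.node (.node (.leaf 18699) (.leaf 95949)) (.node (.leaf 75850) (.leaf 39568))) (.node (.node (.leaf 89008) (.leaf 128079)) (.node (.leaf 37252) (.leaf 60420)))) (.node (.node (.node (.leaf 116274) (.leaf 63018)) (.node (.leaf 80206) (.leaf 3216))) (.node (.node (.leaf 88912) (.leaf 116434)) (.node (.leaf 60548) (.leaf 37124)))))) (.node (.node (.node (.node (.node (.leaf 63185) (.leaf 63178)) (.node (.leaf 10385) (.leaf 2321))) (.node (.node (.leaf 2314) (.leaf 124045)) (.node (.leaf 89035) (.leaf 89042)))) (.node (.node (.node (.leaf 247703) (.leaf 261047)) (.node (.leaf 191443) (.leaf 156751))) (.node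 (.node (.leaf 162576) (.leaf 2442)) (.node (.leaf 10257) (.leaf 88875))))) (.node (.node (.node (.node (.leaf 123917) (.leaf 191284)) (.node (.leaf 162704) (.leaf 128046))) (.node (.node (.leaf 102669) (.leaf 144946)) (.node (.leaf 102542) (.leaf 24251)))) (.node (.node (.node (.leaf 25497) (.leaf 97103)) (.node (.leaf 91663) (.leaf 102797))) (.node (.node (.leaf 145106) (.leaf 2713)) (.node (.leaf 24154) (.leaf 110000)))))))

/-- A suborbit and a mover, part 77. -/
def redCodePart77 : Janko1.Tree ℕ := (.node (.node (.node (.node (.node (.node (.leaf 7250) (.leaf 37675)) (.node (.leaf 3090) (.leaf 137304))) (.node (.node (.leaf 216888) (.leaf 38054)) (.node (.leaf 214872) (.leaf 43959)))) (.node (.node (.node (.leaf 217652) (.leaf 152368)) (.node (.leaf 37970) (.leaf 37835))) (.node (.node (.leaf 136472) (.leaf 37958)) (.node (.leaf 222776) (.leaf 217811))))) (.node (.node (.node (.node (.leaf 30294) (.leaf 31158)) (.node (.leaf 3349) (.leaf 18053))) (.node (.node (.leaf 40357) (.leaf 54184)) (.node (.leaf 145582) (.leaf 200708)))) (.node (.node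 (.node (.leaf 100401) (.leaf 3478)) (.node (.leaf 31061) (.leaf 30389))) (.node (.node (.leaf 40261) (.leaf 17925)) (.node (.leaf 54088) (.leaf 200836)))))) (.node (.node (.node (.node (.node (.leaf 38053) (.leaf 4357)) (.node (.leaf 95543) (.leaf 115734))) (.node (.node (.leaf 98221) (.leaf 73234)) (.node (.leaf 200707) (.leaf 106762)))) (.node (.node (.node (.leaf 68280) (.leaf 248712)) (.node (.leaf 4485) (.leaf 37957))) (.node (.node (.leaf 81175) (.leaf 115861)) (.node (.leaf 106890) (.leaf 200835))))) (.node (.node (.node (.node (.leaf 153272) (.leaf 248584)) (.node (.leaf 48147) (.leaf 3091))) (.node (.node (.leaf 18055) (.leaf 203960)) (.node (.leaf 189368) (.leaf 54661)))) (.node (.node (.node (.leaf 111058) (.leaf 105010)) (.node (.leaf 3220) (.leaf 48276))) (.node (.node (.leaf 199608) (.leaf 17927)) (.node (.leaf 54533) (.leaf 68785)))))))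

/-- A suborbit and a mover, part 78. -/
def redCodePart78 : Janko1.Tree ℕ := (.node (.node (.node (.node (.node (.node (.leaf 12824) (.leaf 50456)) (.node (.leaf 3849) (.leaf 133455))) (.node (.node (.leaf 204887) (.leaf 203191)) (.node (.leaf 181319) (.leaf 171912)))) (.node (.node (.node (.leaf 194889) (.leaf 3977)) (.node (.leaf 50328) (.leaf 94800))) (.node (.node (.leaf 62257) (.leaf 84686)) (.node (.leaf 77358) (.leaf 194985))))) (.node (.node (.node (.node (.leaf 171784) (.leaf 181415)) (.node (.leaf 11912) (.leaf 5896))) (.node (.node (.leaf 13443) (.leaf 125902)) (.node (.leaf 174295) (.leaf 194515)))) (.node (.node (.node (.leaf 248471) (.leaf 224151)) (.node (.leaf 225432) (.leaf 75271))) (.node (.node (.leaf 218136) (.leaf 6024)) (.node (.leaf 11784) (.leaf 109073)))))) (.node (.node (.node (.node (.node (.leaf 13315) (.leaf 194356)) (.node (.leaf 75399) (.leaf 88274))) (.node (.node (.leaf 102541) (.leaf 179620)) (.node (.leaf 83512) (.leaf 62918)))) (.node (.node (.node (.leaf 78473) (.leaf 262360)) (.node (.leaf 270392) (.leaf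 65680))) (.node (.node (.leaf 172855) (.leaf 179524)) (.node (.leaf 119825) (.leaf 116376))))) (.node (.node (.node (.node (.leaf 78345) (.leaf 62758)) (.node (.leaf 7243) (.leaf 37682))) (.node (.node (.leaf 38059) (.leaf 38066)) (.node (.leaf 3083) (.leaf 81167)))) (.node (.node (.node (.leaf 224471) (.leaf 217367)) (.node (.leaf 217651) (.leaf 3211))) (.node (.node (.leaf 3218) (.leaf 37963)) (.node (.leaf 37842) (.leaf 7339)))))))

/-- A suborbit and a mover, part 79. -/
def redCodePart79 : Janko1.Tree ℕ := (.node (.node (.node (.node (.node (.node (.leaf 7346) (.leaf 152528)) (.node (.leaf 217812) (.leaf 81295))) (.node (.node (.leaf 8085) (.leaf 8086)) (.node (.leaf 30293) (.leaf 31157)))) (.node (.node (.node (.leaf 3350) (.leaf 103949)) (.node (.leaf 49572) (.leaf 202948))) (.node (.node (.leaf 100394) (.leaf 3477)) (.node (.leaf 31062) (.leaf 30390))))) (.node (.node (.node (.node (.leaf 7957) (.leaf 7958)) (.node (.leaf 100561) (.leaf 100554))) (.node (.node (.leaf 202788) (.leaf 49476)) (.node (.leaf 145486) (.leaf 104077)))) (.node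 (.node (.node (.leaf 113815) (.leaf 71383)) (.node (.leaf 115733) (.leaf 31148))) (.node (.node (.leaf 73227) (.leaf 49571)) (.node (.leaf 202947) (.leaf 106769)))))) (.node (.node (.node (.node (.node (.leaf 73143) (.leaf 114903)) (.node (.leaf 31052) (.leaf 115862))) (.node (.node (.leaf 106897) (.leaf 202787)) (.node (.leaf 49475) (.leaf 73355)))) (.node (.node (.node (.leaf 73362) (.leaf 98125)) (.node (.leaf 7315) (.leaf 7316))) (.node (.node (.leaf 48148) (.leaf 47763)) (.node (.leaf 47764) (.leaf 3092))))) (.node (.node (.node (.node (.leaf 84173) (.leaf 111051)) (.node (.leaf 68689) (.leaf 68682))) (.node (.node (.leaf 105003) (.leaf 3219)) (.node (.leaf 47635) (.leaf 47636)))) (.node (.node (.node (.leaf 48275) (.leaf 7187)) (.node (.leaf 7188) (.leaf 105163))) (.node (.node (.leaf 105170) (.leaf 68778)) (.node (.leaf 110891) (.leaf 110898)))))))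

/-- A suborbit and a mover, part 80. -/
def redCodePart80 : Janko1.Tree ℕ := (.node (.node (.node (.node (.node (.node (.leaf 84013) (.leaf 50199)) (.node (.leaf 199351) (.leaf 201815))) (.node (.node (.leaf 49815) (.leaf 94896)) (.node (.leaf 77518) (.leaf 84526)))) (.node (.node (.node (.leaf 80973) (.leaf 62417)) (.node (.leaf 62410) (.leaf 133551))) (.node (.node (.leaf 62250) (.leaf 81069)) (.node (.leaf 198275) (.leaf 201219))))) (.node (.node (.node (.node (.leaf 122893) (.leaf 109201)) (.node (.leaf 109194) (.leaf 221847))) (.node (.node (.leaf 197943) (.leaf 194516)) (.node (.leaf 261815) (.leaf 260567)))) (.node (.node (.node (.leaf 197175) (.leaf 171223)) (.node (.leaf 125742) (.leaf 109066))) (.node (.node (.leaf 123021) (.leaf 201347)) (.node (.leaf 198147) (.leaf 194355)))))) (.node (.node (.node (.node (.node (.leaf 88267) (.leaf 119953)) (.node (.leaf 119946) (.leaf 179012))) (.node (.node (.leaf 5380) (.leaf 191447)) (.node (.leaf 216087) (.leaf 262355)))) (.node (.node (.node (.leaf 262356) (.leaf 63279)) (.node (.leaf 5508)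 (.leaf 179108))) (.node (.node (.leaf 102413) (.leaf 119818)) (.node (.leaf 88107) (.leaf 88114))))) (.node (.node (.node (.node (.leaf 63439) (.leaf 262195)) (.node (.leaf 262196) (.leaf 65552))) (.node (.node (.leaf 3077) (.leaf 25745)) (.node (.leaf 7237) (.leaf 26698)))) (.node (.node (.node (.leaf 36557) (.leaf 136216)) (.node (.leaf 41876) (.leaf 25735))) (.node (.node (.leaf 46040) (.leaf 43476)) (.node (.leaf 223160) (.leaf 38857)))))))

/-- A suborbit and a mover, part 81. -/
def redCodePart81 : Janko1.Tree ℕ := (.node (.node (.node (.node (.node (.node (.leaf 153424) (.leaf 7333)) (.node (.leaf 26794) (.leaf 3205))) (.node (.node (.leaf 137784) (.leaf 43315)) (.node (.leaf 38697) (.leaf 41747)))) (.node (.node (.node (.leaf 25607) (.leaf 2056)) (.node (.leaf 14344) (.leaf 15892))) (.node (.node (.leaf 18181) (.leaf 23211)) (.node (.leaf 53161) (.leaf 99626))))) (.node (.node (.node (.node (.leaf 23986) (.leaf 49318)) (.node (.leaf 26008) (.leaf 105485))) (.node (.node (.leaf 14472) (.leaf 16019)) (.node (.leaf 18309) (.leaf 2184))))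 (.node (.node (.node (.leaf 22103) (.leaf 49222)) (.node (.leaf 23115) (.leaf 107608))) (.node (.node (.leaf 53065) (.leaf 99786)) (.node (.leaf 2069) (.leaf 40520)))))) (.node (.node (.node (.node (.node (.leaf 153389) (.leaf 204487)) (.node (.leaf 133649) (.leaf 40616))) (.node (.node (.leaf 113047) (.leaf 2198)) (.node (.leaf 204327) (.leaf 2057)))) (.node (.node (.node (.leaf 21135) (.leaf 14345)) (.node (.leaf 12815) (.leaf 7439))) (.node (.node (.leaf 18183) (.leaf 23441)) (.node (.leaf 53383) (.leaf 24714))))) (.node (.node (.node (.node (.leaf 158232) (.leaf 85197)) (.node (.leaf 14473) (.leaf 18311))) (.node (.node (.leaf 2185) (.leaf 201912)) (.node (.leaf 24586) (.leaf 113592)))) (.node (.node (.node (.leaf 53255) (.leaf 162328)) (.node (.leaf 105938) (.leaf 25734))) (.node (.node (.leaf 42011) (.leaf 46615)) (.node (.leaf 204120) (.leaf 46616)))))))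

/-- A suborbit and a mover, part 82. -/
def redCodePart82 : Janko1.Tree ℕ := (.node (.node (.node (.node (.node (.node (.leaf 51080) (.leaf 180291)) (.node (.leaf 145362) (.leaf 157258))) (.node (.node (.leaf 185510) (.leaf 25606)) (.node (.leaf 42138) (.leaf 157354)))) (.node (.node (.node (.leaf 93518) (.leaf 185414)) (.node (.leaf 50952) (.leaf 180387))) (.node (.node (.leaf 111960) (.leaf 2062)) (.node (.leaf 13575) (.leaf 198659))))) (.node (.node (.node (.node (.leaf 196408) (.leaf 165392)) (.node (.leaf 197944) (.leaf 26522))) (.node (.node (.leaf 224152) (.leaf 12174)) (.node (.leaf 13703) (.leaf 198787)))) (.node (.node (.node (.leaf 14360) (.leaf 157848)) (.node (.leaf 128814) (.leaf 26395))) (.node (.node (.leaf 106799) (.leaf 5381)) (.node (.leaf 148785) (.leaf 79538)))))) (.node (.node (.node (.node (.node (.leaf 63270) (.leaf 118448)) (.node (.leaf 172756) (.leaf 273496))) (.node (.node (.leaf 65671) (.leaf 80080)) (.node (.leaf 144690) (.leaf 83256)))) (.node (.node (.node (.leaf 5509) (.leaf 125133)) (.node (.leaf 67672) (.leaf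 172595))) (.node (.node (.leaf 65543) (.leaf 173015)) (.node (.leaf 171480) (.leaf 63430))))) (.node (.node (.node (.node (.leaf 25738) (.leaf 35085)) (.node (.leaf 26705) (.leaf 41875))) (.node (.node (.leaf 78671) (.leaf 43475)) (.node (.leaf 26801) (.leaf 36397)))) (.node (.node (.node (.leaf 25617) (.leaf 25610)) (.node (.leaf 35213) (.leaf 43316))) (.node (.node (.leaf 153520) (.leaf 41748)) (.node (.leaf 78767) (.leaf 23219)))))))

/-- A suborbit and a mover, part 83. -/
def redCodePart83 : Janko1.Tree ℕ := (.node (.node (.node (.node (.node (.node (.leaf 23220) (.leaf 15891)) (.node (.leaf 23218) (.leaf 99633))) (.node (.node (.leaf 23979) (.leaf 16020)) (.node (.leaf 14359) (.leaf 21687)))) (.node (.node (.node (.leaf 23123) (.leaf 23124)) (.node (.leaf 23883) (.leaf 23890))) (.node (.node (.leaf 105613) (.leaf 23122)) (.node (.leaf 99793) (.leaf 2070))))) (.node (.node (.node (.node (.leaf 66227) (.leaf 66228)) (.node (.leaf 19797) (.leaf 19798))) (.node (.node (.leaf 111918) (.leaf 111310)) (.node (.leaf 133642) (.leaf 19893)))) (.node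 (.node (.node (.leaf 19894) (.leaf 70871)) (.node (.leaf 95287) (.leaf 2197))) (.node (.node (.leaf 66131) (.leaf 66132)) (.node (.leaf 111150) (.leaf 133777)))))) (.node (.node (.node (.node (.node (.leaf 133770) (.leaf 153549)) (.node (.leaf 112078) (.leaf 25871))) (.node (.node (.leaf 23434) (.leaf 105771)) (.node (.leaf 105778) (.leaf 24721)))) (.node (.node (.node (.leaf 12943) (.leaf 7567)) (.node (.leaf 21007) (.leaf 25999))) (.node (.node (.leaf 24593) (.leaf 85037)) (.node (.leaf 23313) (.leaf 23306))))) (.node (.node (.node (.node (.leaf 105931) (.leaf 45593)) (.node (.leaf 54426) (.leaf 46487))) (.node (.node (.leaf 3095) (.leaf 133295)) (.node (.leaf 53379) (.leaf 184739)))) (.node (.node (.node (.leaf 145355) (.leaf 157265)) (.node (.leaf 93614) (.leaf 133199))) (.node (.node (.leaf 54299) (.leaf 30233)) (.node (.leaf 157361) (.leaf 184643)))))))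

/-- A suborbit and a mover, part 84. -/
def redCodePart84 : Janko1.Tree ℕ := (.node (.node (.node (.node (.node (.node (.leaf 53251) (.leaf 145195)) (.node (.leaf 145202) (.leaf 128974))) (.node (.node (.leaf 12046) (.leaf 13571)) (.node (.leaf 200579) (.leaf 106959)))) (.node (.node (.node (.leaf 9755) (.leaf 17369)) (.node (.leaf 157519) (.leaf 200451))) (.node (.node (.leaf 13699) (.leaf 2190)) (.node (.leaf 23897) (.leaf 9882))))) (.node (.node (.node (.node (.leaf 157615) (.leaf 165520)) (.node (.leaf 124973) (.leaf 148778))) (.node (.node (.leaf 79531) (.leaf 144843)) (.node (.leaf 144850) (.leaf 172755)))) (.node (.node (.node (.leaf 79435) (.leaf 79442)) (.node (.leaf 144683) (.leaf 148945))) (.node (.node (.leaf 148938) (.leaf 172596)) (.node (.leaf 79920) (.leaf 216215)))))) (.node (.node (.node (.node (.node (.leaf 191287) (.leaf 118352)) (.node (.leaf 25866) (.leaf 128312))) (.node (.node (.leaf 27345) (.leaf 224472)) (.node (.leaf 45463) (.leaf 27835)))) (.node (.node (.node (.leaf 27335) (.leaf 217172)) (.node (.leaf 7345) (.leaf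 126040))) (.node (.node (.leaf 3217) (.leaf 25994)) (.node (.leaf 27175) (.leaf 214424))))) (.node (.node (.node (.node (.leaf 217267) (.leaf 217816)) (.node (.leaf 27738) (.leaf 22711))) (.node (.node (.leaf 39333) (.leaf 22615)) (.node (.leaf 102968) (.leaf 48550)))) (.node (.node (.node (.leaf 114346) (.leaf 48548)) (.node (.leaf 102200) (.leaf 70930))) (.node (.node (.leaf 20919) (.leaf 39237)) (.node (.leaf 106072) (.leaf 48454)))))))

/-- A suborbit and a mover, part 85. -/
def redCodePart85 : Janko1.Tree ℕ := (.node (.node (.node (.node (.node (.node (.leaf 48452) (.leaf 114250)) (.node (.leaf 4104) (.leaf 104373))) (.node (.node (.leaf 56724) (.leaf 104718)) (.node (.leaf 165805) (.leaf 182025)))) (.node (.node (.node (.leaf 242693) (.leaf 56595)) (.node (.leaf 4232) (.leaf 91927))) (.node (.node (.leaf 104278) (.leaf 163090)) (.node (.leaf 242821) (.leaf 182153))))) (.node (.node (.node (.node (.leaf 157106) (.leaf 122776)) (.node (.leaf 39687) (.leaf 190904))) (.node (.node (.leaf 203192) (.leaf 103096)) (.node (.leaf 67665) (.leaf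 54663)))) (.node (.node (.node (.leaf 101560) (.leaf 117707)) (.node (.leaf 75178) (.leaf 22927))) (.node (.node (.leaf 204216) (.leaf 2191)) (.node (.leaf 39815) (.leaf 54535)))))) (.node (.node (.node (.node (.node (.leaf 75082) (.leaf 117547)) (.node (.leaf 115896) (.leaf 25862))) (.node (.node (.leaf 3846) (.leaf 42010)) (.node (.leaf 189528) (.leaf 200280)))) (.node (.node (.node (.leaf 248197) (.leaf 205993)) (.node (.leaf 180744) (.leaf 49943))) (.node (.node (.leaf 89520) (.leaf 3974)) (.node (.leaf 25990) (.leaf 42139))))) (.node (.node (.node (.node (.leaf 152466) (.leaf 180872)) (.node (.leaf 205897) (.leaf 85038))) (.node (.node (.leaf 95950) (.leaf 126264)) (.node (.leaf 248069) (.leaf 13848)))) (.node (.node (.node (.leaf 91851) (.leaf 108433)) (.node (.leaf 13976) (.leaf 123661))) (.node (.node (.leaf 123277) (.leaf 17497)) (.node (.leaf 66345) (.leaf 215064)))))))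

/-- A suborbit and a mover, part 86. -/
def redCodePart86 : Janko1.Tree ℕ := (.node (.node (.node (.node (.node (.node (.leaf 107727) (.leaf 112848)) (.node (.leaf 73735) (.leaf 88838))) (.node (.node (.leaf 2072) (.leaf 91691)) (.node (.leaf 88966) (.leaf 73863)))) (.node (.node (.node (.leaf 23129) (.leaf 66505)) (.node (.leaf 130948) (.leaf 170888))) (.node (.node (.leaf 160049) (.leaf 122510)) (.node (.leaf 173705) (.leaf 269623))))) (.node (.node (.node (.node (.leaf 82319) (.leaf 77863)) (.node (.leaf 91657) (.leaf 129978))) (.node (.node (.leaf 173577) (.leaf 130820)) (.node (.leaf 124717) (.leaf 125336)))) (.node (.node (.node (.leaf 170760) (.leaf 91785)) (.node (.leaf 78023) (.leaf 224023))) (.node (.node (.leaf 129883) (.leaf 194360)) (.node (.leaf 25873) (.leaf 3089)))))) (.node (.node (.node (.node (.node (.leaf 3082) (.leaf 7249)) (.node (.leaf 7242) (.leaf 27338))) (.node (.node (.leaf 223159) (.leaf 214871)) (.node (.leaf 51897) (.leaf 49114)))) (.node (.node (.node (.leaf 161488) (.leaf 217171)) (.node (.leaf 27185) (.leaf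 27178))) (.node (.node (.leaf 7338) (.leaf 3210)) (.node (.leaf 26001) (.leaf 217268))))) (.node (.node (.node (.node (.leaf 161328) (.leaf 48955)) (.node (.leaf 47929) (.leaf 22871))) (.node (.node (.leaf 13847) (.leaf 13975)) (.node (.leaf 22967) (.leaf 114353)))) (.node (.node (.node (.leaf 203716) (.leaf 199684)) (.node (.leaf 147118) (.leaf 70923))) (.node (.node (.leaf 21079) (.leaf 2071)) (.node (.leaf 71051) (.leaf 71058)))))))

/-- A suborbit and a mover, part 87. -/
def redCodePart87 : Janko1.Tree ℕ := (.node (.node (.node (.node (.node (.node (.leaf 147022) (.leaf 199812)) (.node (.leaf 203556) (.leaf 114257))) (.node (.node (.leaf 104374) (.leaf 56723)) (.node (.leaf 115605) (.leaf 115606)))) (.node (.node (.node (.leaf 157003) (.leaf 157010)) (.node (.leaf 163211) (.leaf 163218))) (.node (.node (.leaf 115477) (.leaf 115478)) (.node (.leaf 56596) (.leaf 123607))))) (.node (.node (.node (.node (.leaf 74167) (.leaf 104277)) (.node (.leaf 165709) (.leaf 163083))) (.node (.node (.leaf 104846) (.leaf 157099)) (.node (.leaf 21263) (.leaf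 2063)))) (.node (.node (.node (.leaf 22415) (.leaf 22799)) (.node (.leaf 96557) (.leaf 67658))) (.node (.node (.leaf 117714) (.leaf 75185)) (.node (.leaf 22287) (.leaf 21391)))))) (.node (.node (.node (.node (.node (.leaf 75089) (.leaf 117554)) (.node (.leaf 67761) (.leaf 67754))) (.node (.node (.leaf 96717) (.leaf 189363)) (.node (.leaf 189364) (.leaf 8987)))) (.node (.node (.node (.leaf 4633) (.leaf 89424)) (.node (.leaf 95790) (.leaf 85198))) (.node (.node (.leaf 78285) (.leaf 152331)) (.node (.leaf 152338) (.leaf 199607))))) (.node (.node (.node (.node (.leaf 204631) (.leaf 45977)) (.node (.leaf 9114) (.leaf 189267))) (.node (.node (.leaf 189268) (.leaf 152459)) (.node (.leaf 78125) (.leaf 91858)))) (.node (.node (.node (.leaf 108426) (.leaf 116176)) (.node (.leaf 26266) (.leaf 2587))) (.node (.node (.leaf 123149) (.leaf 123789)) (.node (.leaf 108305) (.leaf 108298)))))))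

/-- A suborbit and a mover, part 88. -/
def redCodePart88 : Janko1.Tree ℕ := (.node (.node (.node (.node (.node (.node (.leaf 91698) (.leaf 112688)) (.node (.leaf 107567) (.leaf 2714))) (.node (.node (.leaf 26139) (.leaf 116016)) (.node (.leaf 124877) (.leaf 131076)))) (.node (.node (.node (.leaf 3844) (.leaf 160042)) (.node (.leaf 272727) (.leaf 244247))) (.node (.node (.leaf 70683) (.leaf 128537)) (.node (.leaf 122382) (.leaf 160209))))) (.node (.node (.node (.node (.leaf 160202) (.leaf 3972)) (.node (.leaf 131204) (.leaf 171063))) (.node (.node (.leaf 197335) (.leaf 58777)) (.node (.leaf 70810) (.leaf 82191)))) (.node (.node (.node (.leaf 34957) (.leaf 135224)) (.node (.leaf 37257) (.leaf 214292))) (.node (.node (.leaf 50075) (.leaf 43960)) (.node (.leaf 46039) (.leaf 7341)))))) (.node (.node (.node (.node (.node (.leaf 134488) (.leaf 2957)) (.node (.leaf 45080) (.leaf 49946))) (.node (.node (.leaf 44632) (.leaf 92495)) (.node (.leaf 37129) (.leaf 214419)))) (.node (.node (.node (.leaf 23380) (.leaf 3603)) (.node (.leaf 23987) (.leaf 40101)))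 (.node (.node (.leaf 40517) (.leaf 74187)) (.node (.leaf 27544) (.leaf 53929))))) (.node (.node (.node (.node (.leaf 204484) (.leaf 40613)) (.node (.leaf 23892) (.leaf 40005))) (.node (.node (.leaf 3732) (.leaf 23475)) (.node (.leaf 26680) (.leaf 53833)))) (.node (.node (.node (.leaf 204324) (.leaf 146254)) (.node (.leaf 26936) (.leaf 74027))) (.node (.node (.leaf 104021) (.leaf 4360)) (.node (.leaf 101303) (.leaf 38216)))))))

/-- A suborbit and a mover, part 89. -/
def redCodePart89 : Janko1.Tree ℕ := (.node (.node (.node (.node (.node (.node (.leaf 31308) (.leaf 137681)) (.node (.leaf 244421) (.leaf 57515))) (.node (.node (.leaf 198918) (.leaf 98990)) (.node (.leaf 100568) (.leaf 63794)))) (.node (.node (.node (.leaf 38312) (.leaf 31404)) (.node (.leaf 4488) (.leaf 58839))) (.node (.node (.leaf 104118) (.leaf 57419)) (.node (.leaf 199046) (.leaf 244261))))) (.node (.node (.node (.node (.leaf 25743) (.leaf 39559)) (.node (.leaf 204728) (.leaf 187832))) (.node (.node (.leaf 53382) (.leaf 94851)) (.node (.leaf 156696) (.leaf 70730)))) (.node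 (.node (.node (.leaf 54662) (.leaf 150414)) (.node (.leaf 189624) (.leaf 27535))) (.node (.node (.leaf 3215) (.leaf 39431)) (.node (.leaf 54534) (.leaf 163096)))))) (.node (.node (.node (.node (.node (.leaf 70826) (.leaf 118578)) (.node (.leaf 53254) (.leaf 94723))) (.node (.node (.leaf 189524) (.leaf 54683)) (.node (.leaf 46488) (.leaf 84304)))) (.node (.node (.node (.leaf 3096) (.leaf 180292)) (.node (.leaf 138795) (.leaf 119896))) (.node (.node (.leaf 55761) (.leaf 201559)) (.node (.leaf 54554) (.leaf 189619))))) (.node (.node (.node (.node (.leaf 150285) (.leaf 87448)) (.node (.leaf 138955) (.leaf 180388))) (.node (.node (.leaf 158104) (.leaf 5383)) (.node (.leaf 109962) (.leaf 158872)))) (.node (.node (.node (.leaf 40635) (.leaf 245784)) (.node (.leaf 158287) (.leaf 74503))) (.node (.node (.leaf 216088) (.leaf 20121)) (.node (.leaf 109713) (.leaf 157080)))))))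

/-- A suborbit and a mover, part 90. -/
def redCodePart90 : Janko1.Tree ℕ := (.node (.node (.node (.node (.node (.node (.leaf 109834) (.leaf 5511)) (.node (.leaf 122253) (.leaf 92114))) (.node (.node (.leaf 14809) (.leaf 262200)) (.node (.leaf 163472) (.leaf 74631)))) (.node (.node (.node (.leaf 40538) (.leaf 148426)) (.node (.leaf 171016) (.leaf 57507))) (.node (.node (.leaf 128973) (.leaf 198278)) (.node (.leaf 171315) (.leaf 65225))))) (.node (.node (.node (.node (.leaf 171320) (.leaf 198150)) (.node (.leaf 57411) (.leaf 93976))) (.node (.node (.leaf 148266) (.leaf 171144)) (.node (.leaf 65065) (.leaf 259416)))) (.node (.node (.node (.leaf 197336) (.leaf 171476)) (.node (.leaf 2829) (.leaf 7245))) (.node (.node (.leaf 35917) (.leaf 214291)) (.node (.leaf 92591) (.leaf 46489)))))) (.node (.node (.node (.node (.node (.leaf 28602) (.leaf 222615)) (.node (.leaf 216887) (.leaf 36013))) (.node (.node (.leaf 34829) (.leaf 28507)) (.node (.leaf 51801) (.leaf 214420)))) (.node (.node (.node (.leaf 23379) (.leaf 3604)) (.node (.leaf 23988) (.leaf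 24403))) (.node (.node (.leaf 24404) (.leaf 74194)) (.node (.leaf 146350) (.leaf 198916))))) (.node (.node (.node (.node (.leaf 49316) (.leaf 111309)) (.node (.leaf 24499) (.leaf 24500))) (.node (.node (.leaf 23891) (.leaf 3731)) (.node (.leaf 23476) (.leaf 111149)))) (.node (.node (.node (.leaf 49220) (.leaf 199044)) (.node (.leaf 74034) (.leaf 104022))) (.node (.node (.leaf 61079) (.leaf 84311)) (.node (.leaf 137674) (.leaf 57522)))))))

/-- A suborbit and a mover, part 91. -/
def redCodePart91 : Janko1.Tree ℕ := (.node (.node (.node (.node (.node (.node (.leaf 63787) (.leaf 121495)) (.node (.leaf 93239) (.leaf 104117))) (.node (.node (.leaf 63947) (.leaf 63954)) (.node (.leaf 98894) (.leaf 57426)))) (.node (.node (.node (.leaf 137521) (.leaf 137514)) (.node (.leaf 3087) (.leaf 27407))) (.node (.node (.leaf 27023) (.leaf 39555)) (.node (.leaf 89347) (.leaf 118731))))) (.node (.node (.node (.node (.leaf 118738) (.leaf 70737)) (.node (.leaf 26895) (.leaf 25615))) (.node (.node (.leaf 150286) (.leaf 70833)) (.node (.leaf 118571) (.leaf 89475))))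 (.node (.node (.node (.leaf 39427) (.leaf 189523)) (.node (.leaf 30361) (.leaf 3354))) (.node (.node (.leaf 53380) (.leaf 184740)) (.node (.leaf 138802) (.leaf 55754)))))) (.node (.node (.node (.node (.node (.leaf 150413) (.leaf 50583)) (.node (.leaf 203447) (.leaf 84400))) (.node (.node (.leaf 3483) (.leaf 12185)) (.node (.leaf 189620) (.leaf 55601)))) (.node (.node (.node (.leaf 55594) (.leaf 138962)) (.node (.leaf 184644) (.leaf 53252))) (.node (.node (.leaf 91947) (.leaf 91954)) (.node (.leaf 122125) (.leaf 109969))))) (.node (.node (.node (.node (.leaf 109585) (.leaf 109578)) (.node (.leaf 18841) (.leaf 13850))) (.node (.node (.leaf 163344) (.leaf 13978)) (.node (.leaf 39611) (.leaf 109706)))) (.node (.node (.node (.leaf 109841) (.leaf 92107)) (.node (.leaf 39514) (.leaf 13851))) (.node (.node (.leaf 158383) (.leaf 13979)) (.node (.leaf 473) (.leaf 148433)))))))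

/-- A suborbit and a mover, part 92. -/
def redCodePart92 : Janko1.Tree ℕ := (.node (.node (.node (.node (.node (.node (.leaf 57155) (.leaf 2819)) (.node (.leaf 102670) (.leaf 171316))) (.node (.node (.leaf 149680) (.leaf 135375)) (.node (.leaf 102798) (.leaf 128813)))) (.node (.node (.node (.leaf 2947) (.leaf 57251)) (.node (.leaf 148273) (.leaf 135215))) (.node (.node (.leaf 149584) (.leaf 171475)) (.node (.leaf 137528) (.leaf 133912))))) (.node (.node (.node (.node (.leaf 125464) (.leaf 153616)) (.node (.leaf 48571) (.leaf 29339))) (.node (.node (.leaf 136792) (.leaf 135480)) (.node (.leaf 128568) (.leaf 29210)))) (.node (.node (.node (.leaf 93711) (.leaf 225559)) (.node (.leaf 222295) (.leaf 48474))) (.node (.node (.leaf 39493) (.leaf 4101)) (.node (.leaf 139310) (.leaf 117965)))))) (.node (.node (.node (.node (.node (.leaf 67851) (.leaf 74962)) (.node (.leaf 4229) (.leaf 39589))) (.node (.node (.leaf 138702) (.leaf 117329)) (.node (.leaf 101329) (.leaf 104845)))) (.node (.node (.node (.leaf 67979) (.leaf 66644)) (.node (.leaf 73911) (.leaf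 92983))) (.node (.node (.leaf 66867) (.leaf 114647)) (.node (.leaf 184521) (.leaf 68504))))) (.node (.node (.node (.node (.leaf 199687) (.leaf 203718)) (.node (.leaf 97463) (.leaf 67028))) (.node (.node (.leaf 66739) (.leaf 203558)) (.node (.leaf 57016) (.leaf 199815)))) (.node (.node (.node (.leaf 184361) (.leaf 201656)) (.node (.leaf 4103) (.leaf 41223))) (.node (.node (.leaf 40839) (.leaf 199352)) (.node (.leaf 141070) (.leaf 74417)))))))

/-- A suborbit and a mover, part 93. -/
def redCodePart93 : Janko1.Tree ℕ := (.node (.node (.node (.node (.node (.node (.leaf 104235) (.leaf 40835)) (.node (.leaf 40711) (.leaf 41351))) (.node (.node (.leaf 200376) (.leaf 4231)) (.node (.leaf 204984) (.leaf 191160)))) (.node (.node (.node (.leaf 142734) (.leaf 40707)) (.node (.leaf 95181) (.leaf 104395))) (.node (.node (.leaf 87085) (.leaf 30489)) (.node (.leaf 8858) (.leaf 11929))))) (.node (.node (.node (.node (.leaf 203955) (.leaf 130991)) (.node (.leaf 66648) (.leaf 130104))) (.node (.node (.leaf 242181) (.leaf 185511)) (.node (.leaf 138712) (.leaf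 127823)))) (.node (.node (.node (.leaf 188087) (.leaf 203860)) (.node (.leaf 30617) (.leaf 8731))) (.node (.node (.leaf 45337) (.leaf 185415)) (.node (.leaf 242309) (.leaf 56920)))))) (.node (.node (.node (.node (.node (.leaf 108810) (.leaf 202115)) (.node (.leaf 91090) (.leaf 89387))) (.node (.node (.leaf 125486) (.leaf 171224)) (.node (.leaf 91654) (.leaf 221848)))) (.node (.node (.node (.leaf 63273) (.leaf 244248)) (.node (.leaf 172760) (.leaf 89547))) (.node (.node (.leaf 201987) (.leaf 122381)) (.node (.leaf 108938) (.leaf 63433))))) (.node (.node (.node (.node (.leaf 91782) (.leaf 258360)) (.node (.leaf 67928) (.leaf 125592))) (.node (.node (.leaf 93720) (.leaf 179013)) (.node (.leaf 178855) (.leaf 115352)))) (.node (.node (.node (.leaf 218132) (.leaf 129977)) (.node (.leaf 74512) (.leaf 178759))) (.node (.node (.leaf 179109) (.leaf 68761)) (.node (.leaf 262199) (.leaf 218259)))))))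

/-- A suborbit and a mover, part 94. -/
def redCodePart94 : Janko1.Tree ℕ := (.node (.node (.node (.node (.node (.node (.leaf 165776) (.leaf 47289)) (.node (.leaf 28378) (.leaf 93839))) (.node (.node (.leaf 51097) (.leaf 49338)) (.node (.leaf 80175) (.leaf 80335)))) (.node (.node (.node (.leaf 49243) (.leaf 47193)) (.node (.leaf 44343) (.leaf 217815))) (.node (.node (.leaf 45079) (.leaf 217271)) (.node (.leaf 28219) (.leaf 52537))))) (.node (.node (.node (.node (.leaf 165648) (.leaf 153744)) (.node (.leaf 67858) (.leaf 104717))) (.node (.node (.leaf 101169) (.leaf 101162)) (.node (.leaf 117425) (.leaf 117418)))) (.node (.node (.node (.leaf 74955) (.leaf 138542)) (.node (.leaf 74795) (.leaf 74802))) (.node (.node (.leaf 117322) (.leaf 101322)) (.node (.leaf 67986) (.leaf 117805)))))) (.node (.node (.node (.node (.node (.leaf 139470) (.leaf 66643)) (.node (.leaf 91415) (.leaf 123095))) (.node (.node (.leaf 59095) (.leaf 122007)) (.node (.leaf 3340) (.leaf 101941)))) (.node (.node (.node (.leaf 101942) (.leaf 66868)) (.node (.leaf 80919) (.leaf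 73399))) (.node (.node (.leaf 87639) (.leaf 62871)) (.node (.leaf 67027) (.leaf 102101))))) (.node (.node (.node (.node (.leaf 102102) (.leaf 3468)) (.node (.leaf 66740) (.leaf 147854))) (.node (.node (.leaf 74410) (.leaf 87245)) (.node (.leaf 104242) (.leaf 95021)))) (.node (.node (.node (.leaf 91139) (.leaf 96387)) (.node (.leaf 142606) (.leaf 96259))) (.node (.node (.leaf 91267) (.leaf 104402)) (.node (.leaf 74321) (.leaf 74314)))))))

/-- A suborbit and a mover, part 95. -/
def redCodePart95 : Janko1.Tree ℕ := (.node (.node (.node (.node (.node (.node (.leaf 147726) (.leaf 141198)) (.node (.leaf 41882) (.leaf 55067))) (.node (.node (.leaf 41883) (.leaf 45209)) (.node (.leaf 54810) (.leaf 3355)))) (.node (.node (.node (.leaf 203956) (.leaf 127919)) (.node (.leaf 95056) (.leaf 95152))) (.node (.node (.leaf 130895) (.leaf 190807)) (.node (.leaf 12951) (.leaf 203859))))) (.node (.node (.node (.node (.leaf 3482) (.leaf 54939)) (.node (.leaf 4761) (.leaf 41754))) (.node (.node (.leaf 55194) (.leaf 41755)) (.node (.leaf 128558) (.leaf 108817))))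 (.node (.node (.node (.leaf 122509) (.leaf 202499)) (.node (.leaf 5379) (.leaf 126926))) (.node (.node (.leaf 91083) (.leaf 89394)) (.node (.leaf 125646) (.leaf 89554)))))) (.node (.node (.node (.node (.node (.leaf 90923) (.leaf 90930)) (.node (.leaf 126766) (.leaf 5507))) (.node (.node (.leaf 202627) (.leaf 108945)) (.node (.leaf 128718) (.leaf 117295)))) (.node (.node (.node (.leaf 64463) (.leaf 76336)) (.node (.leaf 218131) (.leaf 125466))) (.node (.node (.leaf 58651) (.leaf 153007)) (.node (.leaf 152911) (.leaf 74640))))) (.node (.node (.node (.node (.leaf 58778) (.leaf 125595)) (.node (.leaf 260951) (.leaf 247575))) (.node (.node (.leaf 218260) (.leaf 76496)) (.node (.leaf 64303) (.leaf 117455)))) (.node (.node (.node (.leaf 2566) (.leaf 10160)) (.node (.leaf 14758) (.leaf 10931))) (.node (.node (.leaf 16295) (.leaf 14761)) (.node (.leaf 213171) (.leaf 32774)))))))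

/-- A suborbit and a mover, part 96. -/
def redCodePart96 : Janko1.Tree ℕ := (.node (.node (.node (.node (.node (.node (.leaf 214936) (.leaf 45848)) (.node (.leaf 217559) (.leaf 32902))) (.node (.node (.leaf 215864) (.leaf 2694)) (.node (.leaf 9295) (.leaf 14662)))) (.node (.node (.node (.leaf 10836) (.leaf 16199)) (.node (.leaf 14665) (.leaf 213076))) (.node (.node (.leaf 3841) (.leaf 12817)) (.node (.leaf 10509) (.leaf 8968))))) (.node (.node (.node (.node (.leaf 12683) (.leaf 112664)) (.node (.leaf 16216) (.leaf 60747))) (.node (.node (.leaf 25665) (.leaf 22090)) (.node (.leaf 24658) (.leaf 106328)))) (.node (.node (.node (.leaf 54601) (.leaf 25761)) (.node (.leaf 22186) (.leaf 20141))) (.node (.node (.leaf 54697) (.leaf 100657)) (.node (.leaf 3969) (.leaf 9096)))))) (.node (.node (.node (.node (.node (.leaf 12555) (.leaf 60843)) (.node (.leaf 2318) (.leaf 237125))) (.node (.node (.leaf 49735) (.leaf 162827)) (.node (.leaf 98382) (.leaf 49831)))) (.node (.node (.node (.leaf 19096) (.leaf 162955)) (.node (.leaf 151768) (.leaf 10072))) (.node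 (.node (.leaf 159758) (.leaf 158989)) (.node (.leaf 126641) (.leaf 237221))))) (.node (.node (.node (.node (.leaf 4097) (.leaf 8965)) (.node (.leaf 8842) (.leaf 60746))) (.node (.node (.leaf 39681) (.leaf 18955)) (.node (.leaf 24849) (.leaf 54791)))) (.node (.node (.node (.leaf 162840) (.leaf 39809)) (.node (.leaf 34190) (.leaf 19083))) (.node (.node (.leaf 54919) (.leaf 103730)) (.node (.leaf 4225) (.leaf 9870)))))))

/-- A suborbit and a mover, part 97. -/
def redCodePart97 : Janko1.Tree ℕ := (.node (.node (.node (.node (.node (.node (.leaf 9106) (.leaf 9093)) (.node (.leaf 8714) (.leaf 106424))) (.node (.node (.leaf 156184) (.leaf 60842)) (.node (.leaf 32664) (.leaf 41016)))) (.node (.node (.node (.leaf 90189) (.leaf 159122)) (.node (.leaf 89166) (.leaf 178056))) (.node (.node (.leaf 51209) (.leaf 77613)) (.node (.leaf 55338) (.leaf 32536))))) (.node (.node (.node (.node (.leaf 51337) (.leaf 55498)) (.node (.leaf 2701) (.leaf 177928))) (.node (.node (.leaf 158007) (.leaf 62498)) (.node (.leaf 216472) (.leaf 267992)))) (.node (.node (.node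 (.leaf 62658) (.leaf 221335)) (.node (.leaf 197432) (.leaf 38967))) (.node (.node (.leaf 118039) (.leaf 132246)) (.node (.leaf 71734) (.leaf 143759)))))) (.node (.node (.node (.node (.node (.leaf 110256) (.leaf 62502)) (.node (.leaf 77767) (.leaf 64809))) (.node (.node (.leaf 247831) (.leaf 247192)) (.node (.leaf 62662) (.leaf 77607)))) (.node (.node (.node (.leaf 64969) (.leaf 143031)) (.node (.leaf 132117) (.leaf 71893))) (.node (.node (.leaf 9391) (.leaf 10932)) (.node (.leaf 213172) (.leaf 33615))))) (.node (.node (.node (.node (.leaf 18960) (.leaf 42291)) (.node (.leaf 42292) (.leaf 224279))) (.node (.node (.leaf 43831) (.leaf 33711)) (.node (.leaf 19088) (.leaf 42451)))) (.node (.node (.node (.leaf 42452) (.leaf 10064)) (.node (.leaf 10835) (.leaf 213075))) (.node (.node (.leaf 12810) (.leaf 12690)) (.node (.leaf 60754) (.leaf 22097)))))))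

/-- A suborbit and a mover, part 98. -/
def redCodePart98 : Janko1.Tree ℕ := (.node (.node (.node (.node (.node (.node (.leaf 20045) (.leaf 24651)) (.node (.leaf 100817) (.leaf 100810))) (.node (.node (.leaf 22193) (.leaf 24747)) (.node (.leaf 24754) (.leaf 100650)))) (.node (.node (.node (.leaf 12945) (.leaf 12938)) (.node (.leaf 10637) (.leaf 12562))) (.node (.node (.leaf 60850) (.leaf 159886)) (.node (.leaf 159117) (.leaf 126545))))) (.node (.node (.node (.node (.leaf 126538) (.leaf 19790)) (.node (.leaf 97613) (.leaf 162834))) (.node (.node (.leaf 19886) (.leaf 97709)) (.node (.leaf 162962) (.leaf 98478)))) (.node (.node (.node (.leaf 2446) (.leaf 126634)) (.node (.leaf 9742) (.leaf 8971))) (.node (.node (.leaf 8978) (.leaf 8849)) (.node (.leaf 60753) (.leaf 34062)))))) (.node (.node (.node (.node (.node (.leaf 18962) (.leaf 24842)) (.node (.leaf 103883) (.leaf 103890))) (.node (.node (.leaf 19090) (.leaf 24977)) (.node (.leaf 24970) (.leaf 103723)))) (.node (.node (.node (.leaf 9099) (.leaf 8721)) (.node (.leaf 60849) (.leaf 2573))) (.node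 (.node (.leaf 159115) (.leaf 32781)) (.node (.leaf 76846) (.leaf 55345))))) (.node (.node (.node (.node (.leaf 32909) (.leaf 77006)) (.node (.leaf 77773) (.leaf 55505))) (.node (.node (.leaf 90285) (.leaf 158987)) (.node (.leaf 158994) (.leaf 89262)))) (.node (.node (.node (.leaf 9740) (.leaf 26647)) (.node (.leaf 154839) (.leaf 63938))) (.node (.node (.leaf 64802) (.leaf 107823)) (.node (.leaf 162960) (.leaf 64962)))))))

/-- A suborbit and a mover, part 99. -/
def redCodePart99 : Janko1.Tree ℕ := (.node (.node (.node (.node (.node (.node (.leaf 63778) (.leaf 197431)) (.node (.leaf 173271) (.leaf 107983))) (.node (.node (.leaf 162832) (.leaf 9868)) (.node (.leaf 114135) (.leaf 102935)))) (.node (.node (.node (.leaf 108759) (.leaf 41399)) (.node (.leaf 132245) (.leaf 71733))) (.node (.node (.leaf 172083) (.leaf 172084)) (.node (.leaf 262455) (.leaf 260183))))) (.node (.node (.node (.node (.leaf 143631) (.leaf 110160)) (.node (.leaf 172243) (.leaf 172244))) (.node (.node (.leaf 150295) (.leaf 36311)) (.node (.leaf 132118) (.leaf 71894)))) (.node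 (.node (.node (.leaf 212568) (.leaf 212632)) (.node (.leaf 37382) (.leaf 223032))) (.node (.node (.leaf 26151) (.leaf 52057)) (.node (.leaf 37510) (.leaf 26311)))))) (.node (.node (.node (.node (.node (.leaf 223416) (.leaf 94351)) (.node (.leaf 46745) (.leaf 2703))) (.node (.node (.leaf 9647) (.leaf 214040)) (.node (.leaf 213432) (.leaf 160080)))) (.node (.node (.node (.leaf 12682) (.leaf 12678)) (.node (.leaf 21073) (.leaf 54600))) (.node (.node (.leaf 49990) (.leaf 199556)) (.node (.leaf 22449) (.leaf 54696))))) (.node (.node (.node (.node (.leaf 102712) (.leaf 50086)) (.node (.leaf 117169) (.leaf 199428))) (.node (.node (.leaf 2193) (.leaf 12554)) (.node (.leaf 113432) (.leaf 12550)))) (.node (.node (.node (.leaf 148238) (.leaf 108973)) (.node (.leaf 151512) (.leaf 5639))) (.node (.node (.leaf 156114) (.leaf 168009)) (.node (.leaf 143288) (.leaf 154062)))))))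

/-- A suborbit and a mover, part 100. -/
def redCodePart100 : Janko1.Tree ℕ := (.node (.node (.node (.node (.node (.node (.leaf 73618) (.leaf 200327)) (.node (.leaf 141464) (.leaf 111054))) (.node (.node (.leaf 200199) (.leaf 100312)) (.node (.leaf 5767) (.leaf 120205)))) (.node (.node (.node (.leaf 58450) (.leaf 109902)) (.node (.leaf 168105) (.leaf 2574))) (.node (.node (.leaf 8839) (.leaf 106936)) (.node (.leaf 109611) (.leaf 34318))))) (.node (.node (.node (.node (.leaf 53509) (.leaf 113336)) (.node (.leaf 71345) (.leaf 53637))) (.node (.node (.leaf 101816) (.leaf 94765)) (.node (.leaf 8711) (.leaf 91341)))) (.node (.node (.node (.leaf 109771) (.leaf 57802)) (.node (.leaf 154538) (.leaf 201289))) (.node (.node (.leaf 168006) (.leaf 2584)) (.node (.leaf 37380) (.leaf 156849)))))) (.node (.node (.node (.node (.node (.leaf 152203) (.leaf 87192)) (.node (.leaf 185671) (.leaf 37508))) (.node (.node (.leaf 152075) (.leaf 185767)) (.node (.leaf 32920) (.leaf 121810)))) (.node (.node (.node (.leaf 57642) (.leaf 154442)) (.node (.leaf 168102) (.leaf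 201385))) (.node (.node (.leaf 68821) (.leaf 37687)) (.node (.leaf 66632) (.leaf 215448))))) (.node (.node (.node (.node (.leaf 218520) (.leaf 194867)) (.node (.leaf 9626) (.leaf 112176))) (.node (.node (.leaf 63945) (.leaf 195028)) (.node (.leaf 247959) (.leaf 9499)))) (.node (.node (.node (.leaf 63785) (.leaf 216344)) (.node (.leaf 68662) (.leaf 66728))) (.node (.node (.leaf 35543) (.leaf 151347)) (.node (.leaf 72133) (.leaf 83109)))))))

/-- A suborbit and a mover, part 101. -/
def redCodePart101 : Janko1.Tree ℕ := (.node (.node (.node (.node (.node (.node (.leaf 70856) (.leaf 59479)) (.node (.leaf 148279) (.leaf 18971))) (.node (.node (.leaf 78857) (.leaf 91529)) (.node (.leaf 135727) (.leaf 125851)))) (.node (.node (.node (.leaf 19098) (.leaf 78985)) (.node (.leaf 261560) (.leaf 91401))) (.node (.node (.leaf 274008) (.leaf 125722)) (.node (.leaf 151508) (.leaf 71973))))) (.node (.node (.node (.node (.leaf 70696) (.leaf 83013)) (.node (.leaf 9551) (.leaf 2575))) (.node (.node (.leaf 159280) (.leaf 160176)) (.node (.leaf 32783) (.leaf 33071))))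 (.node (.node (.node (.leaf 50202) (.leaf 29275)) (.node (.leaf 94223) (.leaf 33231))) (.node (.node (.leaf 32911) (.leaf 29370)) (.node (.leaf 50331) (.leaf 159440)))))) (.node (.node (.node (.node (.node (.leaf 12689) (.leaf 2065)) (.node (.leaf 2058) (.leaf 108877))) (.node (.node (.leaf 148366) (.leaf 22353)) (.node (.leaf 22346) (.leaf 21066)))) (.node (.node (.node (.leaf 204580) (.leaf 49988)) (.node (.leaf 117073) (.leaf 117066))) (.node (.node (.leaf 21169) (.leaf 21162)) (.node (.leaf 22442) (.leaf 117162))))) (.node (.node (.node (.node (.leaf 50084) (.leaf 204740)) (.node (.leaf 2186) (.leaf 12561))) (.node (.node (.leaf 58539) (.leaf 58546)) (.node (.leaf 120077) (.leaf 109998)))) (.node (.node (.node (.leaf 156107) (.leaf 73611)) (.node (.leaf 110894) (.leaf 164429))) (.node (.node (.leaf 73483) (.leaf 73490)) (.node (.leaf 153902) (.leaf 164525)))))))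

/-- A suborbit and a mover, part 102. -/
def redCodePart102 : Janko1.Tree ℕ := (.node (.node (.node (.node (.node (.node (.leaf 58443) (.leaf 155947)) (.node (.leaf 155954) (.leaf 9614))) (.node (.node (.leaf 109618) (.leaf 91181)) (.node (.leaf 32782) (.leaf 71338)))) (.node (.node (.node (.leaf 94925) (.leaf 34446)) (.node (.leaf 32910) (.leaf 71249))) (.node (.node (.leaf 71242) (.leaf 2702)) (.node (.leaf 9486) (.leaf 109778))))) (.node (.node (.node (.node (.leaf 57809) (.leaf 121643)) (.node (.leaf 121650) (.leaf 82221))) (.node (.node (.leaf 154545) (.leaf 73476)) (.node (.leaf 59524) (.leaf 85710)))) (.node (.node (.node (.leaf 156842) (.leaf 152210)) (.node (.leaf 85550) (.leaf 59396))) (.node (.node (.leaf 73604) (.leaf 152082)) (.node (.leaf 156753) (.leaf 156746)))))) (.node (.node (.node (.node (.node (.leaf 121803) (.leaf 57649)) (.node (.leaf 154449) (.leaf 82381))) (.node (.node (.leaf 68822) (.leaf 70965)) (.node (.leaf 70966) (.leaf 113427)))) (.node (.node (.node (.leaf 113428) (.leaf 115927)) (.node (.leaf 102423) (.leaf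 194868))) (.node (.node (.leaf 26651) (.leaf 24665)) (.node (.leaf 195027) (.leaf 260279))))) (.node (.node (.node (.node (.leaf 262615) (.leaf 112336)) (.node (.leaf 17625) (.leaf 26778))) (.node (.node (.leaf 71125) (.leaf 71126)) (.node (.leaf 68661) (.leaf 113555)))) (.node (.node (.node (.leaf 113556) (.leaf 143543)) (.node (.leaf 150807) (.leaf 151348))) (.node (.node (.leaf 94359) (.leaf 120887)) (.node (.leaf 69015) (.leaf 135895)))))))

/-- A suborbit and a mover, part 103. -/
def redCodePart103 : Janko1.Tree ℕ := (.node (.node (.node (.node (.node (.node (.leaf 41305) (.leaf 14938)) (.node (.leaf 148144) (.leaf 69785))) (.node (.node (.leaf 59034) (.leaf 148048)) (.node (.leaf 15035) (.leaf 2073)))) (.node (.node (.node (.leaf 58907) (.leaf 130233)) (.node (.leaf 135887) (.leaf 151507))) (.node (.node (.leaf 10320) (.leaf 2320)) (.node (.leaf 213048) (.leaf 12056))))) (.node (.node (.node (.node (.leaf 90383) (.leaf 222552)) (.node (.leaf 38214) (.leaf 37673))) (.node (.node (.leaf 47449) (.leaf 38310)) (.node (.leaf 44216) (.leaf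 51353)))) (.node (.node (.node (.leaf 37833) (.leaf 161744)) (.node (.leaf 212312) (.leaf 5944))) (.node (.node (.leaf 8841) (.leaf 124042)) (.node (.leaf 151054) (.leaf 18765)))))) (.node (.node (.node (.node (.node (.leaf 54344) (.leaf 27448)) (.node (.leaf 75058) (.leaf 54440))) (.node (.node (.leaf 25496) (.leaf 146862)) (.node (.leaf 2445) (.leaf 3928)))) (.node (.node (.node (.leaf 8713) (.leaf 123914)) (.node (.leaf 10328) (.leaf 58955))) (.node (.node (.leaf 101969) (.leaf 187975)) (.node (.leaf 68363) (.leaf 190886))))) (.node (.node (.node (.node (.leaf 19256) (.leaf 49731)) (.node (.leaf 134026) (.leaf 182665))) (.node (.node (.leaf 63186) (.leaf 57272)) (.node (.leaf 49827) (.leaf 133898)))) (.node (.node (.node (.leaf 182537) (.leaf 59051)) (.node (.leaf 68491) (.leaf 190790))) (.node (.node (.leaf 188071) (.leaf 8843)) (.node (.leaf 2322) (.leaf 8838)))))))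

/-- A suborbit and a mover, part 104. -/
def redCodePart104 : Janko1.Tree ℕ := (.node (.node (.node (.node (.node (.node (.leaf 144782) (.leaf 155160)) (.node (.leaf 89037) (.leaf 20498))) (.node (.node (.leaf 54789) (.leaf 54790)) (.node (.leaf 91011) (.leaf 20370)))) (.node (.node (.node (.leaf 54917) (.leaf 54918)) (.node (.leaf 90883) (.leaf 158488))) (.node (.node (.leaf 118226) (.leaf 8715)) (.node (.leaf 8710) (.leaf 58161))))) (.node (.node (.node (.node (.leaf 5385) (.leaf 82126)) (.node (.leaf 144141) (.leaf 168007))) (.node (.node (.leaf 40632) (.leaf 71633)) (.node (.leaf 81325) (.leaf 206409)))) (.node (.node (.node (.leaf 18360) (.leaf 150925)) (.node (.leaf 138456) (.leaf 206505))) (.node (.node (.leaf 5513) (.leaf 40760)) (.node (.leaf 67025) (.leaf 168103)))))) (.node (.node (.node (.node (.node (.leaf 69429) (.leaf 70949)) (.node (.leaf 271832) (.leaf 195636))) (.node (.node (.leaf 270296) (.leaf 157871)) (.node (.leaf 74375) (.leaf 14107)))) (.node (.node (.node (.leaf 261559) (.leaf 195795)) (.node (.leaf 14234) (.leaf 244760)))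 (.node (.node (.leaf 74247) (.leaf 69590)) (.node (.leaf 158263) (.leaf 71109))))) (.node (.node (.node (.node (.leaf 117523) (.leaf 86344)) (.node (.leaf 73256) (.leaf 66213))) (.node (.node (.leaf 79655) (.leaf 24410)) (.node (.leaf 65287) (.leaf 71322)))) (.node (.node (.node (.leaf 75152) (.leaf 24507)) (.node (.leaf 262616) (.leaf 79815))) (.node (.node (.leaf 171832) (.leaf 65415)) (.node (.leaf 71195) (.leaf 117652)))))))

/-- A suborbit and a mover, part 105. -/
def redCodePart105 : Janko1.Tree ℕ := (.node (.node (.node (.node (.node (.node (.leaf 86440) (.leaf 108503)) (.node (.leaf 66117) (.leaf 123191))) (.node (.node (.leaf 73416) (.leaf 164023)) (.node (.leaf 89807) (.leaf 19248)))) (.node (.node (.node (.leaf 19792) (.leaf 161584)) (.node (.leaf 29466) (.leaf 50011))) (.node (.node (.leaf 19888) (.leaf 19408)) (.node (.leaf 50106) (.leaf 29595))))) (.node (.node (.node (.node (.leaf 2448) (.leaf 10416)) (.node (.leaf 90511) (.leaf 89647))) (.node (.node (.leaf 10381) (.leaf 2317)) (.node (.leaf 124049) (.leaf 19789)))) (.node (.node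 (.node (.leaf 146766) (.leaf 75051)) (.node (.leaf 19885) (.leaf 18861))) (.node (.node (.leaf 75211) (.leaf 75218)) (.node (.leaf 10253) (.leaf 151182)))))) (.node (.node (.node (.node (.node (.leaf 123921) (.leaf 58962)) (.node (.leaf 101962) (.leaf 120718))) (.node (.node (.leaf 68370) (.leaf 116429)) (.node (.leaf 201859) (.leaf 203043)))) (.node (.node (.node (.leaf 134033) (.leaf 63179)) (.node (.leaf 203203) (.leaf 201731))) (.node (.node (.leaf 116269) (.leaf 63019)) (.node (.leaf 63026) (.leaf 133905))))) (.node (.node (.node (.node (.leaf 102065) (.leaf 102058)) (.node (.leaf 59058) (.leaf 68498))) (.node (.node (.leaf 120590) (.leaf 8850)) (.node (.leaf 2315) (.leaf 20491)))) (.node (.node (.node (.leaf 20235) (.leaf 20242)) (.node (.leaf 118059) (.leaf 118066))) (.node (.node (.leaf 40963) (.leaf 96515)) (.node (.leaf 20363) (.leaf 20619)))))))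

/-- A suborbit and a mover, part 106. -/
def redCodePart106 : Janko1.Tree ℕ := (.node (.node (.node (.node (.node (.node (.leaf 20626) (.leaf 96643)) (.node (.leaf 41091) (.leaf 118219))) (.node (.node (.leaf 2443) (.leaf 2450)) (.node (.leaf 8722) (.leaf 88877)))) (.node (.node (.node (.leaf 144654) (.leaf 58154)) (.node (.leaf 66865) (.leaf 66858))) (.node (.node (.leaf 71626) (.leaf 93262)) (.node (.leaf 150797) (.leaf 81229))))) (.node (.node (.node (.node (.leaf 71473) (.leaf 71466)) (.node (.leaf 93358) (.leaf 81966))) (.node (.node (.leaf 58321) (.leaf 58314)) (.node (.leaf 67018) (.leaf 144269)))) (.node (.node (.node (.leaf 69430) (.leaf 67797)) (.node (.leaf 67798) (.leaf 157139))) (.node (.node (.leaf 157140) (.leaf 195635)) (.node (.leaf 15321) (.leaf 39770)))))) (.node (.node (.node (.node (.node (.leaf 260823) (.leaf 248727)) (.node (.leaf 195796) (.leaf 39867))) (.node (.node (.leaf 20377) (.leaf 157775)) (.node (.leaf 67637) (.leaf 67638)))) (.node (.node (.node (.leaf 69589) (.leaf 25367)) (.node (.leaf 156119) (.leaf 156979)))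 (.node (.node (.leaf 156980) (.leaf 117524)) (.node (.leaf 118703) (.leaf 17339))))) (.node (.node (.node (.node (.leaf 2585) (.leaf 130139)) (.node (.leaf 59033) (.leaf 25753))) (.node (.node (.leaf 17242) (.leaf 118607)) (.node (.leaf 75024) (.leaf 128793)))) (.node (.node (.node (.leaf 130234) (.leaf 117651)) (.node (.leaf 40375) (.leaf 117527))) (.node (.node (.leaf 91799) (.leaf 74327)) (.node (.leaf 124951) (.leaf 82007)))))))

/-- A suborbit and a mover, part 107. -/
def redCodePart107 : Janko1.Tree ℕ := (.node (.node (.node (.node (.node (.node (.leaf 14918) (.leaf 213528)) (.node (.leaf 4358) (.leaf 6554))) (.node (.node (.leaf 213527) (.leaf 12698)) (.node (.leaf 37670) (.leaf 224280)))) (.node (.node (.node (.leaf 153264) (.leaf 80591)) (.node (.leaf 214616) (.leaf 37830))) (.node (.node (.leaf 217880) (.leaf 222103)) (.node (.leaf 4486) (.leaf 212792))))) (.node (.node (.node (.node (.leaf 15014) (.leaf 12571)) (.node (.leaf 11735) (.leaf 6427))) (.node (.node (.leaf 8840) (.leaf 4872)) (.node (.leaf 12676) (.leaf 122890)))) (.node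 (.node (.node (.leaf 109997) (.leaf 62123)) (.node (.leaf 53320) (.leaf 70802))) (.node (.node (.leaf 110893) (.leaf 53416)) (.node (.leaf 5000) (.leaf 8712)))))) (.node (.node (.node (.node (.node (.leaf 62027) (.leaf 123018)) (.node (.leaf 12548) (.leaf 101802))) (.node (.node (.leaf 189347) (.leaf 119224)) (.node (.leaf 107409) (.leaf 243333)))) (.node (.node (.node (.leaf 203814) (.leaf 115921)) (.node (.leaf 161454) (.leaf 62418))) (.node (.node (.leaf 203974) (.leaf 243205)) (.node (.leaf 189251) (.leaf 101706))))) (.node (.node (.node (.node (.leaf 119821) (.leaf 63448)) (.node (.leaf 8837) (.leaf 4869))) (.node (.node (.leaf 18051) (.leaf 108491)) (.node (.leaf 62122) (.leaf 55045)))) (.node (.node (.node (.leaf 74577) (.leaf 150798)) (.node (.leaf 55173) (.leaf 4997))) (.node (.node (.leaf 8709) (.leaf 62026)) (.node (.leaf 108331) (.leaf 144270)))))))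

/-- A suborbit and a mover, part 108. -/
def redCodePart108 : Janko1.Tree ℕ := (.node (.node (.node (.node (.node (.node (.leaf 17923) (.leaf 121547)) (.node (.leaf 81454) (.leaf 65028))) (.node (.node (.leaf 96408) (.leaf 98610)) (.node (.leaf 185670) (.leaf 181896)))) (.node (.node (.node (.leaf 62929) (.leaf 115250)) (.node (.leaf 94125) (.leaf 181768))) (.node (.node (.leaf 185766) (.leaf 65156)) (.node (.leaf 121387) (.leaf 145368))))) (.node (.node (.node (.node (.leaf 9612) (.leaf 70870)) (.node (.leaf 67894) (.leaf 67781))) (.node (.node (.leaf 65448) (.leaf 88454)) (.node (.leaf 262456) (.leaf 196663)))) (.node (.node (.node (.leaf 258775) (.leaf 172247)) (.node (.leaf 172248) (.leaf 88326))) (.node (.node (.leaf 223640) (.leaf 68053)) (.node (.leaf 70709) (.leaf 9484)))))) (.node (.node (.node (.node (.node (.leaf 65352) (.leaf 67621)) (.node (.leaf 71717) (.leaf 86184))) (.node (.node (.leaf 96276) (.leaf 66646)) (.node (.leaf 115222) (.leaf 71444)))) (.node (.node (.node (.leaf 223512) (.leaf 80432)) (.node (.leaf 196823) (.leaf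 153167))) (.node (.node (.leaf 271672) (.leaf 195032)) (.node (.leaf 86088) (.leaf 71877))))) (.node (.node (.node (.node (.leaf 71571) (.leaf 115349)) (.node (.leaf 66741) (.leaf 96403))) (.node (.node (.leaf 13019) (.leaf 7257)) (.node (.leaf 1719) (.leaf 213719)))) (.node (.node (.node (.leaf 6875) (.leaf 13401)) (.node (.leaf 217011) (.leaf 217012))) (.node (.node (.leaf 80431) (.leaf 215863)) (.node (.leaf 45015) (.leaf 216915)))))))

/-- A suborbit and a mover, part 109. -/
def redCodePart109 : Janko1.Tree ℕ := (.node (.node (.node (.node (.node (.node (.leaf 216916) (.leaf 153168)) (.node (.leaf 3225) (.leaf 6714))) (.node (.node (.leaf 212119) (.leaf 212791)) (.node (.leaf 5529) (.leaf 12858)))) (.node (.node (.node (.leaf 187812) (.leaf 191044)) (.node (.leaf 122897) (.leaf 62130))) (.node (.node (.leaf 105869) (.leaf 70795)) (.node (.leaf 138958) (.leaf 138798))))) (.node (.node (.node (.node (.leaf 111053) (.leaf 70667)) (.node (.leaf 70674) (.leaf 105741))) (.node (.node (.leaf 62034) (.leaf 109901)) (.node (.leaf 123025) (.leaf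 191140)))) (.node (.node (.node (.leaf 187716) (.leaf 160014)) (.node (.leaf 119949) (.leaf 101809))) (.node (.node (.leaf 189507) (.leaf 5635)) (.node (.leaf 62251) (.leaf 62258)))))) (.node (.node (.node (.node (.node (.leaf 161358) (.leaf 115761)) (.node (.leaf 115754) (.leaf 107402))) (.node (.node (.leaf 107281) (.leaf 107274)) (.node (.leaf 115914) (.leaf 62411)))) (.node (.node (.node (.leaf 5763) (.leaf 189603)) (.node (.leaf 101713) (.leaf 160142))) (.node (.node (.leaf 87299) (.leaf 85123)) (.node (.leaf 144142) (.leaf 108498))))) (.node (.node (.node (.node (.leaf 62129) (.leaf 85805)) (.node (.leaf 74570) (.leaf 142478))) (.node (.node (.leaf 142350) (.leaf 150926)) (.node (.leaf 74673) (.leaf 74666)))) (.node (.node (.node (.leaf 85965) (.leaf 62033)) (.node (.leaf 108338) (.leaf 84995))) (.node (.node (.leaf 87427) (.leaf 90541)) (.node (.leaf 121554) (.leaf 64644)))))))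

/-- A suborbit and a mover, part 110. -/
def redCodePart110 : Janko1.Tree ℕ := (.node (.node (.node (.node (.node (.node (.leaf 4356) (.leaf 98603)) (.node (.leaf 94029) (.leaf 115403))) (.node (.node (.leaf 115410) (.leaf 62769)) (.node (.leaf 62762) (.leaf 62922)))) (.node (.node (.node (.leaf 115243) (.leaf 98763)) (.node (.leaf 98770) (.leaf 4484))) (.node (.node (.leaf 64516) (.leaf 81614)) (.node (.leaf 121394) (.leaf 90445))))) (.node (.node (.node (.node (.leaf 70869) (.leaf 67893)) (.node (.leaf 2572) (.leaf 192307))) (.node (.node (.leaf 192308) (.leaf 170711)) (.node (.leaf 223639) (.leaf 192467)))) (.node (.node (.node (.leaf 192468) (.leaf 247191)) (.node (.leaf 259255) (.leaf 224663))) (.node (.node (.leaf 195895) (.leaf 2700)) (.node (.leaf 68054) (.leaf 70710)))))) (.node (.node (.node (.node (.node (.leaf 96275) (.leaf 66645)) (.node (.leaf 115221) (.leaf 71443))) (.node (.node (.leaf 223511) (.leaf 170551)) (.node (.leaf 153263) (.leaf 80592)))) (.node (.node (.node (.leaf 71572) (.leaf 115350)) (.node (.leaf 66742) (.leaf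 96404))) (.node (.node (.leaf 3347) (.leaf 213720)) (.node (.leaf 5338) (.leaf 11091))))) (.node (.node (.node (.node (.leaf 1720) (.leaf 12346)) (.node (.leaf 37385) (.leaf 154256))) (.node (.node (.leaf 26695) (.leaf 80783)) (.node (.leaf 26791) (.leaf 45720)))) (.node (.node (.node (.leaf 225240) (.leaf 37513)) (.node (.leaf 11188) (.leaf 212120))) (.node (.node (.leaf 12507) (.leaf 3476)) (.node (.leaf 11736) (.leaf 5179)))))))

/-- A suborbit and a mover, part 111. -/
def redCodePart111 : Janko1.Tree ℕ := (.node (.node (.node (.node (.node (.node (.leaf 3602) (.leaf 60338)) (.node (.leaf 12806) (.leaf 8969))) (.node (.node (.leaf 187972) (.leaf 27192)) (.node (.leaf 139726) (.leaf 24395)))) (.node (.node (.node (.leaf 49734) (.leaf 104333)) (.node (.leaf 24491) (.leaf 49830))) (.node (.node (.leaf 26264) (.leaf 23474)) (.node (.leaf 103480) (.leaf 12946))))) (.node (.node (.node (.node (.leaf 12934) (.leaf 9097)) (.node (.leaf 188068) (.leaf 115736))) (.node (.node (.leaf 16600) (.leaf 5637)) (.node (.leaf 127313) (.leaf 157355)))) (.node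 (.node (.node (.leaf 138026) (.leaf 184617)) (.node (.leaf 49733) (.leaf 26691))) (.node (.node (.leaf 49829) (.leaf 26787)) (.node (.leaf 67768) (.leaf 157259)))))) (.node (.node (.node (.node (.node (.leaf 138186) (.leaf 184777)) (.node (.leaf 120974) (.leaf 118456))) (.node (.node (.leaf 5765) (.leaf 151181)) (.node (.leaf 80792) (.leaf 107704)))) (.node (.node (.node (.leaf 154392) (.leaf 8977)) (.node (.leaf 8967) (.leaf 8966))) (.node (.node (.leaf 87171) (.leaf 23562)) (.node (.leaf 53510) (.leaf 140942))))) (.node (.node (.node (.node (.leaf 112312) (.leaf 84269)) (.node (.leaf 25233) (.leaf 157720))) (.node (.node (.leaf 23690) (.leaf 103352)) (.node (.leaf 53638) (.leaf 9095)))) (.node (.node (.node (.leaf 9094) (.leaf 87043)) (.node (.leaf 3729) (.leaf 60241))) (.node (.node (.leaf 5384) (.leaf 91182)) (.node (.leaf 132408) (.leaf 82893)))))))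

/-- A suborbit and a mover, part 112. -/
def redCodePart112 : Janko1.Tree ℕ := (.node (.node (.node (.node (.node (.node (.leaf 145624) (.leaf 51208)) (.node (.leaf 53508) (.leaf 161547))) (.node (.node (.leaf 63434) (.leaf 181159)) (.node (.leaf 161675) (.leaf 63274)))) (.node (.node (.node (.leaf 181063) (.leaf 51336)) (.node (.leaf 53636) (.leaf 66136))) (.node (.node (.leaf 5512) (.leaf 148946)) (.node (.leaf 112599) (.leaf 113300))))) (.node (.node (.node (.node (.leaf 156724) (.leaf 4569)) (.node (.leaf 24409) (.leaf 196664))) (.node (.node (.leaf 3033) (.leaf 157007)) (.node (.leaf 224664) (.leaf 195896)))) (.node (.node (.node (.leaf 115664) (.leaf 19097)) (.node (.leaf 170712) (.leaf 113171))) (.node (.node (.leaf 156883) (.leaf 155351)) (.node (.leaf 83269) (.leaf 73672)))))) (.node (.node (.node (.node (.node (.leaf 192311) (.leaf 196824)) (.node (.leaf 116943) (.leaf 267991))) (.node (.node (.leaf 170552) (.leaf 65296)) (.node (.leaf 83365) (.leaf 73512)))) (.node (.node (.node (.leaf 3348) (.leaf 1979)) (.node (.leaf 7097) (.leaf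 11092))) (.node (.node (.leaf 6683) (.leaf 5401)) (.node (.leaf 42003) (.leaf 42004))))) (.node (.node (.node (.node (.leaf 42835) (.leaf 42836)) (.node (.leaf 42931) (.leaf 42932))) (.node (.node (.leaf 80655) (.leaf 42131)) (.node (.leaf 42132) (.leaf 154128)))) (.node (.node (.node (.leaf 11187) (.leaf 7001)) (.node (.leaf 6810) (.leaf 3475))) (.node (.node (.leaf 13497) (.leaf 2010)) (.node (.leaf 3595) (.leaf 60331)))))))

/-- A suborbit and a mover, part 113. -/
def redCodePart113 : Janko1.Tree ℕ := (.node (.node (.node (.node (.node (.node (.leaf 12811) (.leaf 12818)) (.node (.leaf 12804) (.leaf 190884))) (.node (.node (.leaf 23371) (.leaf 23378)) (.node (.leaf 24402) (.leaf 24498)))) (.node (.node (.node (.leaf 104205) (.leaf 23467)) (.node (.leaf 139566) (.leaf 12939))) (.node (.node (.leaf 190788) (.leaf 12932)) (.node (.leaf 3723) (.leaf 3730))))) (.node (.node (.node (.node (.leaf 60235) (.leaf 60242)) (.node (.leaf 127306) (.leaf 151053))) (.node (.node (.leaf 110414) (.leaf 120846)) (.node (.leaf 157362) (.leaf 138033)))) (.node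 (.node (.node (.leaf 85251) (.leaf 79523)) (.node (.leaf 145997) (.leaf 79427))) (.node (.node (.leaf 85379) (.leaf 146093)) (.node (.leaf 157266) (.leaf 138193)))))) (.node (.node (.node (.node (.node (.leaf 110510) (.leaf 127409)) (.node (.leaf 127402) (.leaf 3601))) (.node (.node (.leaf 3594) (.leaf 60337)) (.node (.leaf 60330) (.leaf 8970)))) (.node (.node (.node (.leaf 18179) (.leaf 85763)) (.node (.leaf 23569) (.leaf 25105))) (.node (.node (.leaf 25098) (.leaf 25226)) (.node (.leaf 84429) (.leaf 23697))))) (.node (.node (.node (.node (.leaf 140814) (.leaf 9105)) (.node (.leaf 9098) (.leaf 85891))) (.node (.node (.leaf 18307) (.leaf 3722)) (.node (.leaf 60234) (.leaf 148779)))) (.node (.node (.node (.leaf 148786) (.leaf 144013)) (.node (.leaf 95694) (.leaf 180132))) (.node (.node (.leaf 184900) (.leaf 161554)) (.node (.leaf 63441) (.leaf 161682)))))))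

/-- A suborbit and a mover, part 114. -/
def redCodePart114 : Janko1.Tree ℕ := (.node (.node (.node (.node (.node (.node (.leaf 63281) (.leaf 95534)) (.node (.leaf 184996) (.leaf 180036))) (.node (.node (.leaf 82733) (.leaf 143885)) (.node (.leaf 91342) (.leaf 148939)))) (.node (.node (.node (.leaf 101655) (.leaf 36919)) (.node (.leaf 113299) (.leaf 156723))) (.node (.node (.leaf 115504) (.leaf 41306)) (.node (.leaf 14491) (.leaf 9754))))) (.node (.node (.node (.node (.leaf 25627) (.leaf 157103)) (.node (.leaf 25754) (.leaf 9883))) (.node (.node (.leaf 14362) (.leaf 41403)) (.node (.leaf 113172) (.leaf 156884)))) (.node (.node (.node (.leaf 156727) (.leaf 26135)) (.node (.leaf 2060) (.leaf 132373))) (.node (.node (.leaf 132374) (.leaf 96147)) (.node (.leaf 96148) (.leaf 174039)))))) (.node (.node (.node (.node (.node (.leaf 216471) (.leaf 246423)) (.node (.leaf 274103) (.leaf 65424))) (.node (.node (.leaf 116783) (.leaf 132501)) (.node (.leaf 132502) (.leaf 96019)))) (.node (.node (.node (.leaf 96020) (.leaf 2188)) (.node (.leaf 3847) (.leaf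 16455))) (.node (.node (.leaf 213176) (.leaf 89135)) (.node (.leaf 213047) (.leaf 25863))))) (.node (.node (.node (.node (.leaf 217560) (.leaf 217016)) (.node (.leaf 46617) (.leaf 222104))) (.node (.node (.leaf 225239) (.leaf 51673)) (.node (.leaf 25991) (.leaf 164496)))) (.node (.node (.node (.leaf 16551) (.leaf 3975)) (.node (.leaf 213976) (.leaf 11799))) (.node (.node (.leaf 115992) (.leaf 5638)) (.node (.leaf 113944) (.leaf 123665)))))))

/-- A suborbit and a mover, part 115. -/
def redCodePart115 : Janko1.Tree ℕ := (.node (.node (.node (.node (.node (.node (.leaf 123281) (.leaf 107864)) (.node (.leaf 48710) (.leaf 107096))) (.node (.node (.leaf 68747) (.leaf 145230)) (.node (.leaf 101944) (.leaf 68619)))) (.node (.node (.node (.leaf 48806) (.leaf 74450)) (.node (.leaf 112408) (.leaf 5766))) (.node (.node (.leaf 149646) (.leaf 127146)) (.node (.leaf 78115) (.leaf 237608))))) (.node (.node (.node (.node (.leaf 156466) (.leaf 187815)) (.node (.leaf 105102) (.leaf 244517))) (.node (.node (.leaf 133521) (.leaf 248072)) (.node (.leaf 129489)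 (.leaf 248200)))) (.node (.node (.node (.leaf 87992) (.leaf 244677)) (.node (.leaf 159373) (.leaf 187719))) (.node (.node (.leaf 78275) (.leaf 127050)) (.node (.leaf 74904) (.leaf 237768)))))) (.node (.node (.node (.node (.node (.leaf 4871) (.leaf 110034)) (.node (.leaf 106168) (.leaf 144910))) (.node (.node (.leaf 53511) (.leaf 115640)) (.node (.leaf 39683) (.leaf 55047)))) (.node (.node (.node (.leaf 111410) (.leaf 55175)) (.node (.leaf 102584) (.leaf 75441))) (.node (.node (.leaf 53639) (.leaf 148110)) (.node (.leaf 39811) (.leaf 107192))))) (.node (.node (.node (.node (.leaf 4999) (.leaf 107960)) (.node (.leaf 91086) (.leaf 166563))) (.node (.node (.leaf 239109) (.leaf 96856)) (.node (.leaf 159250) (.leaf 154961)))) (.node (.node (.node (.leaf 53507) (.leaf 57432)) (.node (.leaf 86573) (.leaf 162737))) (.node (.node (.leaf 92056) (.leaf 53635)) (.node (.leaf 166467) (.leaf 239237)))))))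

/-- A suborbit and a mover, part 116. -/
def redCodePart116 : Janko1.Tree ℕ := (.node (.node (.node (.node (.node (.node (.leaf 112275) (.leaf 63144)) (.node (.leaf 103191) (.leaf 70853))) (.node (.node (.leaf 67877) (.leaf 26907)) (.node (.leaf 258616) (.leaf 106287)))) (.node (.node (.node (.leaf 90758) (.leaf 75911)) (.node (.leaf 75783) (.leaf 90630))) (.node (.node (.leaf 27034) (.leaf 107215)) (.node (.leaf 246296) (.leaf 116183))))) (.node (.node (.node (.node (.leaf 68037) (.leaf 70693)) (.node (.leaf 112148) (.leaf 101399))) (.node (.node (.leaf 63048) (.leaf 136725)) (.node (.leaf 70952) (.leaf 81495)))) (.node (.node (.node (.leaf 171992) (.leaf 194872)) (.node (.leaf 171987) (.leaf 64047))) (.node (.node (.leaf 248600) (.leaf 81670)) (.node (.leaf 81798) (.leaf 192471)))))) (.node (.node (.node (.node (.node (.leaf 96847) (.leaf 171828)) (.node (.leaf 71112) (.leaf 136854))) (.node (.node (.leaf 87983) (.leaf 12247)) (.node (.leaf 212631) (.leaf 214931)))) (.node (.node (.node (.leaf 214932) (.leaf 164368)) (.node (.leaf 28730)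 (.leaf 50459))) (.node (.node (.leaf 217879) (.leaf 44215)) (.node (.leaf 50586) (.leaf 28891))))) (.node (.node (.node (.node (.leaf 214803) (.leaf 214804)) (.node (.leaf 89295) (.leaf 87887))) (.node (.node (.leaf 213431) (.leaf 212311)) (.node (.leaf 149518) (.leaf 109229)))) (.node (.node (.node (.leaf 123658) (.leaf 123274)) (.node (.leaf 74283) (.leaf 74290))) (.node (.node (.leaf 117549) (.leaf 68754)) (.node (.leaf 145326) (.leaf 68626)))))))

/-- A suborbit and a mover, part 117. -/
def redCodePart117 : Janko1.Tree ℕ := (.node (.node (.node (.node (.node (.node (.leaf 117709) (.leaf 74443)) (.node (.leaf 123153) (.leaf 123146))) (.node (.node (.leaf 123793) (.leaf 123786)) (.node (.leaf 109133) (.leaf 127153)))) (.node (.node (.node (.leaf 78019) (.leaf 3843)) (.node (.leaf 159245) (.leaf 156459))) (.node (.node (.leaf 153293) (.leaf 129329)) (.node (.leaf 129322) (.leaf 133514))))) (.node (.node (.node (.node (.leaf 133393) (.leaf 133386)) (.node (.leaf 129482) (.leaf 104974))) (.node (.node (.leaf 153133) (.leaf 156619)) (.node (.leaf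 156626) (.leaf 3971)))) (.node (.node (.node (.leaf 77859) (.leaf 127057)) (.node (.leaf 91853) (.leaf 110027))) (.node (.node (.leaf 144014) (.leaf 94979)) (.node (.leaf 88963) (.leaf 147982)))))) (.node (.node (.node (.node (.node (.leaf 75345) (.leaf 75338)) (.node (.leaf 111403) (.leaf 111563))) (.node (.node (.leaf 111570) (.leaf 75434)) (.node (.leaf 88835) (.leaf 95107)))) (.node (.node (.node (.leaf 143886) (.leaf 145038)) (.node (.leaf 109867) (.leaf 109874))) (.node (.node (.leaf 91693) (.leaf 166723)) (.node (.leaf 4867) (.leaf 159243))))) (.node (.node (.node (.node (.leaf 154954) (.leaf 180131)) (.node (.leaf 184899) (.leaf 85806))) (.node (.node (.leaf 162641) (.leaf 162634)) (.node (.leaf 86733) (.leaf 162730)))) (.node (.node (.node (.leaf 85966) (.leaf 184995)) (.node (.leaf 180035) (.leaf 155057))) (.node (.node (.leaf 155050) (.leaf 159371)) (.node (.leaf 159378) (.leaf 4995)))))))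

/-- A suborbit and a mover, part 118. -/
def redCodePart118 : Janko1.Tree ℕ := (.node (.node (.node (.node (.node (.node (.leaf 166819) (.leaf 90926)) (.node (.leaf 112276) (.leaf 37943))) (.node (.node (.leaf 113623) (.leaf 107055)) (.node (.leaf 23385) (.leaf 2586)))) (.node (.node (.node (.leaf 113200) (.leaf 106447)) (.node (.leaf 113360) (.leaf 2715))) (.node (.node (.leaf 17241) (.leaf 102167)) (.node (.leaf 38711) (.leaf 112147))))) (.node (.node (.node (.node (.leaf 37431) (.leaf 112855)) (.node (.leaf 136726) (.leaf 74771))) (.node (.node (.leaf 74772) (.leaf 163767)) (.node (.leaf 124439) (.leaf 66229)))) (.node (.node (.node (.leaf 66230) (.leaf 171988)) (.node (.leaf 96943) (.leaf 216343))) (.node (.node (.leaf 173879) (.leaf 64207)) (.node (.leaf 171827) (.leaf 66133)))))) (.node (.node (.node (.node (.node (.leaf 66134) (.leaf 74899)) (.node (.leaf 74900) (.leaf 136853))) (.node (.node (.leaf 12248) (.leaf 212567)) (.node (.leaf 4361) (.leaf 14921)))) (.node (.node (.node (.leaf 45400) (.leaf 51513)) (.node (.leaf 43832) (.leaf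 38217))) (.node (.node (.leaf 38313) (.leaf 93391)) (.node (.leaf 47545) (.leaf 45016))))) (.node (.node (.node (.node (.leaf 223415) (.leaf 11800)) (.node (.leaf 5943) (.leaf 15017))) (.node (.node (.leaf 159024) (.leaf 4489)) (.node (.leaf 16344) (.leaf 4873)))) (.node (.node (.node (.leaf 1240) (.leaf 53321)) (.node (.leaf 113745) (.leaf 25912))) (.node (.node (.leaf 54345) (.leaf 49732)) (.node (.leaf 54441) (.leaf 49828)))))))

/-- A suborbit and a mover, part 119. -/
def redCodePart119 : Janko1.Tree ℕ := (.node (.node (.node (.node (.node (.node (.leaf 118733) (.leaf 26520)) (.node (.leaf 67602) (.leaf 53417))) (.node (.node (.leaf 16728) (.leaf 108365)) (.node (.leaf 5001) (.leaf 122257)))) (.node (.node (.node (.leaf 237512) (.leaf 126116)) (.node (.leaf 61912) (.leaf 35908))) (.node (.node (.leaf 36004) (.leaf 57266)) (.node (.leaf 69272) (.leaf 111662))))) (.node (.node (.node (.node (.leaf 68882) (.leaf 126801)) (.node (.leaf 126020) (.leaf 159192))) (.node (.node (.leaf 149773) (.leaf 237352)) (.node (.leaf 91949) (.leaf 4870))))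 (.node (.node (.node (.leaf 155928) (.leaf 162072)) (.node (.leaf 96461) (.leaf 73802))) (.node (.node (.leaf 55046) (.leaf 164632)) (.node (.leaf 69713) (.leaf 55174)))))) (.node (.node (.node (.node (.node (.leaf 156952) (.leaf 73898)) (.node (.leaf 155416) (.leaf 109010))) (.node (.node (.leaf 109106) (.leaf 4998)) (.node (.leaf 154648) (.leaf 148427)))) (.node (.node (.node (.leaf 238981) (.leaf 166564)) (.node (.leaf 70488) (.leaf 89774))) (.node (.node (.leaf 200617) (.leaf 145714)) (.node (.leaf 248325) (.leaf 141709))))) (.node (.node (.node (.node (.leaf 171272) (.leaf 171400)) (.node (.leaf 138290) (.leaf 129848))) (.node (.node (.leaf 248453) (.leaf 67121)) (.node (.leaf 200521) (.leaf 166468)))) (.node (.node (.node (.leaf 148267) (.leaf 238853)) (.node (.leaf 26903) (.leaf 157491))) (.node (.node (.leaf 68805) (.leaf 66216)) (.node (.leaf 156375) (.leaf 65864)))))))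

/-- A suborbit and a mover, part 120. -/
def redCodePart120 : Janko1.Tree ℕ := (.node (.node (.node (.node (.node (.node (.leaf 164752) (.leaf 66761)) (.node (.leaf 91526) (.leaf 41050))) (.node (.node (.leaf 260664) (.leaf 162064)) (.node (.leaf 218392) (.leaf 41147)))) (.node (.node (.node (.leaf 91398) (.leaf 66601)) (.node (.leaf 65960) (.leaf 26391))) (.node (.node (.leaf 66120) (.leaf 157652)) (.node (.leaf 68645) (.leaf 137109))))) (.node (.node (.node (.node (.leaf 66629) (.leaf 63942)) (.node (.leaf 259160) (.leaf 273336))) (.node (.node (.leaf 129840) (.leaf 245656)) (.node (.leaf 262452) (.leaf 262611)))) (.node (.node (.node (.leaf 76080) (.leaf 63782)) (.node (.leaf 273239) (.leaf 66725))) (.node (.node (.leaf 94103) (.leaf 136982)) (.node (.leaf 12055) (.leaf 213175)))))) (.node (.node (.node (.node (.node (.leaf 160528) (.leaf 159184)) (.node (.leaf 48730) (.leaf 27707))) (.node (.node (.leaf 93231) (.leaf 217555)) (.node (.leaf 217556) (.leaf 217395)))) (.node (.node (.node (.leaf 217396) (.leaf 27866)) (.node (.leaf 48827)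 (.leaf 214615))) (.node (.node (.leaf 45719) (.leaf 213975)) (.node (.leaf 214039) (.leaf 160656))))) (.node (.node (.node (.node (.leaf 149134) (.leaf 122129)) (.node (.leaf 122122) (.leaf 108461))) (.node (.node (.leaf 110413) (.leaf 113738)) (.node (.leaf 67723) (.leaf 67730)))) (.node (.node (.node (.leaf 118573) (.leaf 201860)) (.node (.leaf 203044) (.leaf 203204))) (.node (.node (.leaf 201732) (.leaf 67595)) (.node (.leaf 113841) (.leaf 113834)))))))

/-- A suborbit and a mover, part 121. -/
def redCodePart121 : Janko1.Tree ℕ := (.node (.node (.node (.node (.node (.node (.leaf 110509) (.leaf 122250)) (.node (.leaf 149006) (.leaf 149901))) (.node (.node (.leaf 126788) (.leaf 2820)) (.node (.leaf 126897) (.leaf 126890)))) (.node (.node (.node (.leaf 69003) (.leaf 69010)) (.node (.leaf 111822) (.leaf 57163))) (.node (.node (.leaf 57170) (.leaf 138957)) (.node (.leaf 134276) (.leaf 137508))))) (.node (.node (.node (.node (.leaf 137668) (.leaf 134148)) (.node (.leaf 138797) (.leaf 57259))) (.node (.node (.leaf 68875) (.leaf 126794)) (.node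 (.leaf 2948) (.leaf 126884)))) (.node (.node (.node (.leaf 143374) (.leaf 109259)) (.node (.leaf 109266) (.leaf 108843))) (.node (.node (.leaf 108850) (.leaf 73809)) (.node (.leaf 151822) (.leaf 69809)))))) (.node (.node (.node (.node (.node (.leaf 69802) (.leaf 69706)) (.node (.leaf 151950) (.leaf 73905))) (.node (.node (.leaf 96301) (.leaf 109003)) (.node (.leaf 109099) (.leaf 143502)))) (.node (.node (.node (.leaf 92109) (.leaf 148434)) (.node (.leaf 166724) (.leaf 4868))) (.node (.node (.leaf 67281) (.leaf 67274)) (.node (.leaf 145707) (.leaf 138443))))) (.node (.node (.node (.node (.leaf 138450) (.leaf 80558)) (.node (.leaf 80462) (.leaf 141581))) (.node (.node (.leaf 138283) (.leaf 145867)) (.node (.leaf 145874) (.leaf 67114)))) (.node (.node (.node (.leaf 89678) (.leaf 4996)) (.node (.leaf 166820) (.leaf 148274))) (.node (.node (.leaf 155607) (.leaf 157239)) (.node (.leaf 157492) (.leaf 158775)))))))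

/-- A suborbit and a mover, part 122. -/
def redCodePart122 : Janko1.Tree ℕ := (.node (.node (.node (.node (.node (.node (.leaf 25623) (.leaf 158639)) (.node (.leaf 2203) (.leaf 14937))) (.node (.node (.leaf 162192) (.leaf 20633)) (.node (.leaf 2074) (.leaf 158543)))) (.node (.node (.node (.leaf 164624) (.leaf 154583)) (.node (.leaf 157495) (.leaf 157651))) (.node (.node (.leaf 137110) (.leaf 94099)) (.node (.leaf 94100) (.leaf 116629))))) (.node (.node (.node (.node (.leaf 116630) (.leaf 76240)) (.node (.leaf 262451) (.leaf 262612))) (.node (.node (.leaf 130000) (.leaf 244759)) (.node (.leaf 270135) (.leaf 116501)))) (.node (.node (.node (.leaf 116502) (.leaf 120631)) (.node (.leaf 59991) (.leaf 93971))) (.node (.node (.leaf 93972) (.leaf 136981)) (.node (.leaf 5850) (.leaf 87631)))))) (.node (.node (.node (.node (.node (.leaf 211987) (.leaf 213331)) (.node (.leaf 6202) (.leaf 79279))) (.node (.node (.leaf 46905) (.leaf 217015)) (.node (.leaf 214935) (.leaf 51225)))) (.node (.node (.node (.leaf 152272) (.leaf 164272)) (.node (.leaf 47065)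 (.leaf 92335))) (.node (.node (.leaf 52153) (.leaf 6363)) (.node (.leaf 213428) (.leaf 212116))))) (.node (.node (.node (.node (.leaf 161040) (.leaf 5691)) (.node (.leaf 59218) (.leaf 109645))) (.node (.node (.leaf 189348) (.leaf 149902)) (.node (.leaf 99281) (.leaf 203812)))) (.node (.node (.node (.leaf 75819) (.leaf 119114)) (.node (.leaf 100042) (.leaf 99882))) (.node (.node (.leaf 119210) (.leaf 75979)) (.node (.leaf 140334) (.leaf 104973)))))))

/-- A suborbit and a mover, part 123. -/
def redCodePart123 : Janko1.Tree ℕ := (.node (.node (.node (.node (.node (.node (.leaf 203972) (.leaf 61618)) (.node (.leaf 61266) (.leaf 189252))) (.node (.node (.leaf 122385) (.leaf 81048)) (.node (.leaf 74648) (.leaf 159704)))) (.node (.node (.node (.leaf 236965) (.leaf 167849)) (.node (.leaf 191046) (.leaf 63960))) (.node (.node (.leaf 204583) (.leaf 122264)) (.node (.leaf 199558) (.leaf 241576))))) (.node (.node (.node (.node (.leaf 93144) (.leaf 153016)) (.node (.leaf 165784) (.leaf 241480))) (.node (.node (.leaf 199430) (.leaf 204743)) (.node (.leaf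 191142) (.leaf 167753)))) (.node (.node (.node (.leaf 236869) (.leaf 110386)) (.node (.leaf 84227) (.leaf 61361))) (.node (.node (.leaf 61521) (.leaf 105419)) (.node (.leaf 68266) (.leaf 119339)))))) (.node (.node (.node (.node (.node (.leaf 95747) (.leaf 104658)) (.node (.leaf 95875) (.leaf 141582))) (.node (.node (.leaf 87501) (.leaf 119499)) (.node (.leaf 68170) (.leaf 105259)))) (.node (.node (.node (.leaf 90925) (.leaf 84355)) (.node (.leaf 143118) (.leaf 59313))) (.node (.node (.leaf 177416) (.leaf 167846)) (.node (.leaf 167847) (.leaf 110680))))) (.node (.node (.node (.node (.leaf 127032) (.leaf 242053)) (.node (.leaf 148696) (.leaf 181158))) (.node (.node (.leaf 194473) (.leaf 194377)) (.node (.leaf 181062) (.leaf 241925)))) (.node (.node (.node (.leaf 120408) (.leaf 96664)) (.node (.leaf 167751) (.leaf 167750))) (.node (.node (.leaf 177544) (.leaf 69976)) (.node (.leaf 97368) (.leaf 132152)))))))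

/-- A suborbit and a mover, part 124. -/
def redCodePart124 : Janko1.Tree ℕ := (.node (.node (.node (.node (.node (.node (.leaf 63816) (.leaf 69413)) (.node (.leaf 75143) (.leaf 65993))) (.node (.node (.leaf 65833) (.leaf 245528)) (.node (.leaf 173272) (.leaf 221336)))) (.node (.node (.node (.leaf 75015) (.leaf 215320)) (.node (.leaf 69573) (.leaf 63912))) (.node (.node (.leaf 74644) (.leaf 93716)) (.node (.leaf 73815) (.leaf 119632))))) (.node (.node (.node (.node (.leaf 63951) (.leaf 91407)) (.node (.leaf 149424) (.leaf 68503))) (.node (.node (.leaf 93843) (.leaf 74515)) (.node (.leaf 1339) (.leaf 13241)))) (.node (.node (.node (.leaf 161168) (.leaf 211988)) (.node (.leaf 213332) (.leaf 160336))) (.node (.node (.leaf 89999) (.leaf 12827)) (.node (.leaf 3097) (.leaf 27994)))))) (.node (.node (.node (.node (.node (.leaf 48443) (.leaf 92239)) (.node (.leaf 222551) (.leaf 45847))) (.node (.node (.leaf 223031) (.leaf 45399)) (.node (.leaf 49466) (.leaf 29723)))) (.node (.node (.node (.leaf 164176) (.leaf 152112)) (.node (.leaf 29850) (.leaf 49627)))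 (.node (.node (.leaf 48602) (.leaf 28091)) (.node (.leaf 79183) (.leaf 13145))))) (.node (.node (.node (.node (.leaf 12954) (.leaf 89871)) (.node (.leaf 160432) (.leaf 213427))) (.node (.node (.leaf 212115) (.leaf 87727)) (.node (.leaf 7353) (.leaf 1370)))) (.node (.node (.node (.leaf 59211) (.leaf 122513)) (.node (.leaf 122506) (.leaf 189508))) (.node (.node (.leaf 5636) (.leaf 61355)) (.node (.leaf 61362) (.leaf 148750)))))))

/-- A suborbit and a mover, part 125. -/
def redCodePart125 : Janko1.Tree ℕ := (.node (.node (.node (.node (.node (.node (.leaf 61515) (.leaf 61522)) (.node (.leaf 99274) (.leaf 48708))) (.node (.node (.leaf 200324) (.leaf 145998)) (.node (.leaf 105101) (.leaf 140494)))) (.node (.node (.node (.leaf 75826) (.leaf 119121)) (.node (.leaf 100049) (.leaf 99889))) (.node (.node (.leaf 119217) (.leaf 75986)) (.node (.leaf 146094) (.leaf 200196))))) (.node (.node (.node (.node (.leaf 48804) (.leaf 99121)) (.node (.leaf 99114) (.leaf 61611))) (.node (.node (.leaf 149774) (.leaf 148878)) (.node (.leaf 61259) (.leaf 5764)))) (.node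 (.node (.node (.leaf 189604) (.leaf 122378)) (.node (.leaf 109741) (.leaf 59307))) (.node (.node (.leaf 59314) (.leaf 59217)) (.node (.leaf 59210) (.leaf 110379)))))) (.node (.node (.node (.node (.node (.leaf 143246) (.leaf 84099)) (.node (.leaf 4099) (.leaf 61354))) (.node (.node (.leaf 91085) (.leaf 89389)) (.node (.leaf 61514) (.leaf 105426)))) (.node (.node (.node (.leaf 68273) (.leaf 119346)) (.node (.leaf 87341) (.leaf 141710))) (.node (.node (.leaf 91779) (.leaf 41219)) (.node (.leaf 95693) (.leaf 104651))))) (.node (.node (.node (.node (.leaf 104491) (.leaf 104498)) (.node (.leaf 95533) (.leaf 41347))) (.node (.node (.leaf 91651) (.leaf 119506)) (.node (.leaf 68177) (.leaf 105266)))) (.node (.node (.node (.leaf 61617) (.leaf 61610)) (.node (.leaf 89549) (.leaf 61265))) (.node (.node (.leaf 61258) (.leaf 4227)) (.node (.leaf 83971) (.leaf 110539)))))))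

/-- A suborbit and a mover, part 126. -/
def redCodePart126 : Janko1.Tree ℕ := (.node (.node (.node (.node (.node (.node (.leaf 110546) (.leaf 59306)) (.node (.leaf 74643) (.leaf 93715))) (.node (.node (.leaf 72364) (.leaf 72149)) (.node (.leaf 72150) (.leaf 122935)))) (.node (.node (.node (.leaf 91543) (.leaf 71827)) (.node (.leaf 71828) (.leaf 82447))) (.node (.node (.leaf 149328) (.leaf 218515)) (.node (.leaf 218516) (.leaf 196819))))) (.node (.node (.node (.node (.leaf 196820) (.leaf 121136)) (.node (.leaf 91535) (.leaf 63791))) (.node (.node (.leaf 121296) (.leaf 196659)) (.node (.leaf 196660) (.leaf 218387)))) (.node (.node (.node (.leaf 218388) (.leaf 82575)) (.node (.leaf 119728) (.leaf 71699))) (.node (.node (.leaf 71700) (.leaf 135639)) (.node (.leaf 148535) (.leaf 71989)))))) (.node (.node (.node (.node (.node (.leaf 71990) (.leaf 72268)) (.node (.leaf 93844) (.leaf 74516))) (.node (.node (.leaf 6403) (.leaf 6662)) (.node (.leaf 8201) (.leaf 6405)))) (.node (.node (.node (.leaf 26029) (.leaf 9993)) (.node (.leaf 28495) (.leaf 233688)))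 (.node (.node (.leaf 1303) (.leaf 1304)) (.node (.leaf 230712) (.leaf 9992))))) (.node (.node (.node (.node (.leaf 32948) (.leaf 18743)) (.node (.leaf 19126) (.leaf 39848))) (.node (.node (.leaf 96567) (.leaf 8462)) (.node (.leaf 148184) (.leaf 10456)))) (.node (.node (.node (.leaf 114360) (.leaf 6531)) (.node (.leaf 6790) (.leaf 8329))) (.node (.node (.leaf 8334) (.leaf 6533)) (.node (.leaf 29361) (.leaf 152088)))))))

/-- A suborbit and a mover, part 127. -/
def redCodePart127 : Janko1.Tree ℕ := (.node (.node (.node (.node (.node (.node (.leaf 10121) (.leaf 71760)) (.node (.leaf 10120) (.leaf 32851))) (.node (.node (.leaf 19029) (.leaf 39752)) (.node (.leaf 109390) (.leaf 9476)))) (.node (.node (.node (.leaf 8199) (.leaf 8198)) (.node (.leaf 8205) (.leaf 7176))) (.node (.node (.leaf 27282) (.leaf 72600)) (.node (.leaf 9221) (.leaf 19732))))) (.node (.node (.node (.node (.leaf 26646) (.leaf 35845)) (.node (.leaf 9223) (.leaf 132175))) (.node (.node (.leaf 142861) (.leaf 9604)) (.node (.leaf 8327) (.leaf 8326)))) (.node (.node (.node (.leaf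 7304) (.leaf 38286)) (.node (.leaf 9349) (.leaf 33431))) (.node (.node (.leaf 19859) (.leaf 26773)) (.node (.leaf 35973) (.leaf 66615)))))) (.node (.node (.node (.node (.node (.leaf 9351) (.leaf 39952)) (.node (.leaf 48536) (.leaf 47255))) (.node (.node (.leaf 204376) (.leaf 46872)) (.node (.leaf 8589) (.leaf 33432)))) (.node (.node (.node (.leaf 40248) (.leaf 147416)) (.node (.leaf 8207) (.leaf 167608))) (.node (.node (.leaf 1305) (.leaf 81706)) (.node (.leaf 9234) (.leaf 2872))))) (.node (.node (.node (.node (.leaf 119000) (.leaf 90066)) (.node (.leaf 82514) (.leaf 143659))) (.node (.node (.leaf 86072) (.leaf 36823)) (.node (.leaf 133526) (.leaf 85669)))) (.node (.node (.node (.leaf 72232) (.leaf 94996)) (.node (.leaf 8336) (.leaf 8472))) (.node (.node (.leaf 12569) (.leaf 9361)) (.node (.leaf 143160) (.leaf 104216)))))))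

/-- A suborbit and a mover, part 128. -/
def redCodePart128 : Janko1.Tree ℕ := (.node (.node (.node (.node (.node (.node (.leaf 89905) (.leaf 81866)) (.node (.leaf 144561) (.leaf 73272))) (.node (.node (.leaf 143819) (.leaf 109783)) (.node (.leaf 133397) (.leaf 85573)))) (.node (.node (.node (.leaf 72392) (.leaf 95123)) (.node (.leaf 6659) (.leaf 6147))) (.node (.node (.leaf 8206) (.leaf 29265)) (.node (.leaf 29258) (.leaf 18607))))) (.node (.node (.node (.node (.leaf 28855) (.leaf 28759)) (.node (.leaf 71856) (.leaf 32947))) (.node (.node (.leaf 19351) (.leaf 10455)) (.node (.leaf 19125) (.leaf 117399)))) (.node (.node (.node (.leaf 68055) (.leaf 159502)) (.node (.leaf 109486) (.leaf 120462))) (.node (.node (.leaf 6275) (.leaf 6787)) (.node (.leaf 25933) (.leaf 29354)))))) (.node (.node (.node (.node (.node (.leaf 28591) (.leaf 18511)) (.node (.leaf 32852) (.leaf 19030))) (.node (.node (.leaf 8590) (.leaf 159630)) (.node (.leaf 120334) (.leaf 9732)))) (.node (.node (.node (.leaf 9220) (.leaf 27275)) (.node (.leaf 38158) (.leaf 19731))) (.node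 (.node (.leaf 26645) (.leaf 33296)) (.node (.leaf 40080) (.leaf 8461))))) (.node (.node (.node (.node (.leaf 88749) (.leaf 81709)) (.node (.leaf 9348) (.leaf 9860))) (.node (.node (.leaf 8333) (.leaf 27147)) (.node (.leaf 27154) (.leaf 34071)))) (.node (.node (.node (.leaf 9879) (.leaf 19860)) (.node (.leaf 26774) (.leaf 146583))) (.node (.node (.leaf 136023) (.leaf 33424)) (.node (.leaf 7063) (.leaf 46871)))))))

/-- A suborbit and a mover, part 129. -/
def redCodePart129 : Janko1.Tree ℕ := (.node (.node (.node (.node (.node (.node (.leaf 132271) (.leaf 88653)) (.node (.leaf 81869) (.leaf 142989))) (.node (.node (.leaf 8208) (.leaf 7955)) (.node (.leaf 7956) (.leaf 7450)))) (.node (.node (.node (.leaf 13083) (.leaf 9233)) (.node (.leaf 9226) (.leaf 90065))) (.node (.node (.leaf 90058) (.leaf 81713)) (.node (.leaf 144465) (.leaf 144458))))) (.node (.node (.node (.node (.leaf 9227) (.leaf 90059)) (.node (.leaf 82507) (.leaf 143666))) (.node (.node (.leaf 144055) (.leaf 147479)) (.node (.leaf 133525) (.leaf 94995)))) (.node (.node (.node (.leaf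 8335) (.leaf 8083)) (.node (.leaf 8084) (.leaf 13210))) (.node (.node (.leaf 7579) (.leaf 9354)) (.node (.leaf 89898) (.leaf 81873)))))) (.node (.node (.node (.node (.node (.leaf 144554) (.leaf 9355)) (.node (.leaf 9362) (.leaf 89899))) (.node (.node (.leaf 89906) (.leaf 82603)) (.node (.leaf 82610) (.leaf 143826)))) (.node (.node (.node (.leaf 40887) (.leaf 111127)) (.node (.leaf 133398) (.leaf 95124))) (.node (.node (.leaf 6150) (.leaf 6406)) (.node (.leaf 26958) (.leaf 165688))))) (.node (.node (.node (.node (.leaf 37031) (.leaf 28856)) (.node (.leaf 28760) (.leaf 9235))) (.node (.node (.leaf 111382) (.leaf 12295)) (.node (.leaf 57931) (.leaf 154834)))) (.node (.node (.node (.leaf 190535) (.leaf 6534)) (.node (.leaf 6278) (.leaf 27053))) (.node (.node (.leaf 6287) (.leaf 36935)) (.node (.leaf 229784) (.leaf 140111)))))))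

/-- A suborbit and a mover, part 130. -/
def redCodePart130 : Janko1.Tree ℕ := (.node (.node (.node (.node (.node (.node (.leaf 233687) (.leaf 9364)) (.node (.leaf 111509) (.leaf 151000))) (.node (.node (.leaf 12423) (.leaf 58027)) (.node (.leaf 121869) (.leaf 160269)))) (.node (.node (.node (.leaf 190631) (.leaf 7687)) (.node (.leaf 7943) (.leaf 31245))) (.node (.node (.leaf 30861) (.leaf 7947)) (.node (.leaf 9495) (.leaf 26632))))) (.node (.node (.node (.node (.leaf 26629) (.leaf 138647)) (.node (.leaf 9232) (.leaf 12440))) (.node (.node (.leaf 26249) (.leaf 203607)) (.node (.leaf 33176) (.leaf 121291)))) (.node (.node (.node (.leaf 59953) (.leaf 155562)) (.node (.leaf 160402) (.leaf 8071))) (.node (.node (.leaf 7815) (.leaf 8075)) (.node (.leaf 26770) (.leaf 65176)))))) (.node (.node (.node (.node (.node (.leaf 26760) (.leaf 26757)) (.node (.leaf 33040) (.leaf 26121))) (.node (.node (.leaf 190552) (.leaf 200792)) (.node (.leaf 121131) (.leaf 155466)))) (.node (.node (.node (.leaf 7696) (.leaf 7960)) (.node (.leaf 4888) (.leaf 17929))) (.node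 (.node (.leaf 168887) (.leaf 11526)) (.node (.leaf 143928) (.leaf 156301))))) (.node (.node (.node (.node (.leaf 170566) (.leaf 11529)) (.node (.leaf 124174) (.leaf 161226))) (.node (.node (.leaf 172041) (.leaf 147923)) (.node (.leaf 72997) (.leaf 68296)))) (.node (.node (.node (.leaf 63318) (.leaf 7832)) (.node (.leaf 18057) (.leaf 128688))) (.node (.node (.leaf 11654) (.leaf 156174)) (.node (.leaf 170662) (.leaf 17464)))))))

/-- A suborbit and a mover, part 131. -/
def redCodePart131 : Janko1.Tree ℕ := (.node (.node (.node (.node (.node (.node (.leaf 11657) (.leaf 126414)) (.node (.leaf 121873) (.leaf 161066))) (.node (.node (.leaf 172169) (.leaf 144823)) (.node (.leaf 147764) (.leaf 73157)))) (.node (.node (.node (.leaf 68136) (.leaf 161975)) (.node (.leaf 63413) (.leaf 25518))) (.node (.node (.leaf 26957) (.leaf 6413)) (.node (.leaf 6159) (.leaf 27823))))) (.node (.node (.node (.node (.leaf 140207) (.leaf 9236)) (.node (.leaf 34131) (.leaf 34132))) (.node (.node (.leaf 111381) (.leaf 56851)) (.node (.leaf 56852) (.leaf 121997)))) (.node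 (.node (.node (.leaf 57938) (.leaf 154827)) (.node (.leaf 160397) (.leaf 25422))) (.node (.node (.leaf 27054) (.leaf 6541)) (.node (.leaf 27727) (.leaf 228119)))))) (.node (.node (.node (.node (.node (.leaf 51639) (.leaf 34227)) (.node (.leaf 34228) (.leaf 9363))) (.node (.node (.leaf 56979) (.leaf 56980)) (.node (.leaf 111510) (.leaf 58034)))) (.node (.node (.node (.leaf 154667) (.leaf 154674)) (.node (.leaf 26635) (.leaf 26642))) (.node (.node (.leaf 7954) (.leaf 33175)) (.node (.leaf 34327) (.leaf 28940))))) (.node (.node (.node (.node (.leaf 128599) (.leaf 56119)) (.node (.leaf 33168) (.leaf 48407))) (.node (.node (.leaf 199863) (.leaf 91568)) (.node (.leaf 121298) (.leaf 59946)))) (.node (.node (.node (.leaf 155569) (.leaf 160395)) (.node (.leaf 30733) (.leaf 31373))) (.node (.node (.leaf 8082) (.leaf 26763)) (.node (.leaf 29068) (.leaf 9360)))))))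

/-- A suborbit and a mover, part 132. -/
def redCodePart132 : Janko1.Tree ℕ := (.node (.node (.node (.node (.node (.node (.leaf 91472) (.leaf 60113)) (.node (.leaf 60106) (.leaf 121138))) (.node (.node (.leaf 160267) (.leaf 160274)) (.node (.leaf 155473) (.leaf 7952)))) (.node (.node (.node (.leaf 167767) (.leaf 9111)) (.node (.leaf 128592) (.leaf 156302))) (.node (.node (.leaf 57933) (.leaf 60974)) (.node (.leaf 122001) (.leaf 121994))))) (.node (.node (.node (.node (.leaf 126254) (.leaf 161233)) (.node (.leaf 147924) (.leaf 63317))) (.node (.node (.leaf 8080) (.leaf 7824)) (.node (.leaf 58029) (.leaf 61134)))) (.node (.node (.node (.leaf 156173) (.leaf 121866)) (.node (.leaf 161073) (.leaf 124302))) (.node (.node (.leaf 151319) (.leaf 35287)) (.node (.leaf 147763) (.leaf 126999)))))) (.node (.node (.node (.node (.node (.leaf 82519) (.leaf 63414)) (.node (.leaf 7689) (.leaf 7945))) (.node (.node (.leaf 28337) (.leaf 6410)) (.node (.leaf 159576) (.leaf 19279)))) (.node (.node (.node (.leaf 37703) (.leaf 229656)) (.node (.leaf 208984) (.leaf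 37541))) (.node (.node (.leaf 37544) (.leaf 102314)) (.node (.leaf 70411) (.leaf 8073))))) (.node (.node (.node (.node (.leaf 26286) (.leaf 7817)) (.node (.leaf 25934) (.leaf 6538))) (.node (.node (.leaf 37799) (.leaf 10127)) (.node (.leaf 209080) (.leaf 50775)))) (.node (.node (.node (.leaf 19607) (.leaf 37445)) (.node (.leaf 59287) (.leaf 37448))) (.node (.node (.leaf 2392) (.leaf 59986)) (.node (.leaf 102218) (.leaf 128433)))))))

/-- A suborbit and a mover, part 133. -/
def redCodePart133 : Janko1.Tree ℕ := (.node (.node (.node (.node (.node (.node (.leaf 70539) (.leaf 7686)) (.node (.leaf 7942) (.leaf 38798))) (.node (.node (.leaf 10003) (.leaf 147766)) (.node (.leaf 6928) (.leaf 49176)))) (.node (.node (.node (.leaf 26377) (.leaf 203703)) (.node (.leaf 86960) (.leaf 13065))) (.node (.node (.leaf 78894) (.leaf 39224)) (.node (.leaf 58826) (.leaf 89934))))) (.node (.node (.node (.node (.leaf 202313) (.leaf 8070)) (.node (.leaf 7814) (.leaf 31757))) (.node (.node (.leaf 60568) (.leaf 10132)) (.node (.leaf 147925) (.leaf 26505)))) (.node (.node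 (.node (.leaf 47256) (.leaf 7064)) (.node (.leaf 58666) (.leaf 13193))) (.node (.node (.leaf 202409) (.leaf 69329)) (.node (.leaf 8216) (.leaf 17159)))))) (.node (.node (.node (.node (.node (.leaf 61519) (.leaf 11527)) (.node (.leaf 101586) (.leaf 105752))) (.node (.node (.leaf 60077) (.leaf 125227)) (.node (.leaf 172199) (.leaf 13062)))) (.node (.node (.node (.leaf 103053) (.leaf 200966)) (.node (.leaf 111507) (.leaf 83624))) (.node (.node (.leaf 118807) (.leaf 65701)) (.node (.leaf 111638) (.leaf 58967))))) (.node (.node (.node (.node (.leaf 8344) (.leaf 7823)) (.node (.leaf 17287) (.leaf 168888))) (.node (.node (.leaf 166583) (.leaf 11655)) (.node (.leaf 125387) (.leaf 172103)))) (.node (.node (.node (.leaf 69325) (.leaf 117976)) (.node (.leaf 13190) (.leaf 201094))) (.node (.node (.leaf 102926) (.leaf 111380)) (.node (.leaf 83528) (.leaf 65605)))))))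

/-- A suborbit and a mover, part 134. -/
def redCodePart134 : Janko1.Tree ℕ := (.node (.node (.node (.node (.node (.node (.leaf 111765) (.leaf 26030)) (.node (.leaf 26190) (.leaf 28330))) (.node (.node (.leaf 6417) (.leaf 9999)) (.node (.leaf 149455) (.leaf 30636)))) (.node (.node (.node (.leaf 102321) (.leaf 60075)) (.node (.leaf 60082) (.leaf 70418))) (.node (.node (.leaf 128337) (.leaf 128330)) (.node (.leaf 6545) (.leaf 28241))))) (.node (.node (.node (.node (.leaf 28234) (.leaf 19375)) (.node (.leaf 149295) (.leaf 229015))) (.node (.node (.leaf 232759) (.leaf 2391)) (.node (.leaf 19767) (.leaf 86871)))) (.node (.node (.node (.leaf 100023) (.leaf 30540)) (.node (.leaf 59979) (.leaf 102225))) (.node (.node (.leaf 128426) (.leaf 70546)) (.node (.leaf 31885) (.leaf 30989)))))) (.node (.node (.node (.node (.node (.leaf 7182) (.leaf 10004)) (.node (.leaf 20115) (.leaf 20116))) (.node (.node (.leaf 147765) (.leaf 100627)) (.node (.leaf 100628) (.leaf 40208)))) (.node (.node (.node (.leaf 199767) (.leaf 48535)) (.node (.leaf 58833) (.leaf 69169)))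 (.node (.node (.leaf 69162) (.leaf 31117)) (.node (.leaf 7310) (.leaf 38670))))) (.node (.node (.node (.node (.leaf 19987) (.leaf 19988)) (.node (.leaf 10131) (.leaf 100755))) (.node (.node (.leaf 100756) (.leaf 147926)) (.node (.leaf 40336) (.leaf 7056)))) (.node (.node (.node (.leaf 86864) (.leaf 58673)) (.node (.leaf 79054) (.leaf 90030))) (.node (.node (.leaf 69322) (.leaf 7695)) (.node (.leaf 7951) (.leaf 101579)))))))

/-- A suborbit and a mover, part 135. -/
def redCodePart135 : Janko1.Tree ℕ := (.node (.node (.node (.node (.node (.node (.leaf 69165) (.leaf 125234)) (.node (.leaf 124622) (.leaf 103054))) (.node (.node (.leaf 125229) (.leaf 111508)) (.node (.leaf 110551) (.leaf 39607)))) (.node (.node (.node (.leaf 111637) (.leaf 93079)) (.node (.leaf 121911) (.leaf 8079))) (.node (.node (.leaf 61615) (.leaf 166743)) (.node (.leaf 4887) (.leaf 59981))))) (.node (.node (.node (.node (.leaf 101419) (.leaf 101426)) (.node (.leaf 125394) (.leaf 124462))) (.node (.node (.leaf 102925) (.leaf 125389)) (.node (.leaf 111379) (.leaf 111766)))) (.node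 (.node (.node (.leaf 7694) (.leaf 25774)) (.node (.leaf 153368) (.leaf 14599))) (.node (.node (.leaf 208312) (.leaf 229016)) (.node (.leaf 145551) (.leaf 60112)))))) (.node (.node (.node (.node (.node (.leaf 14597) (.leaf 38725)) (.node (.leaf 64151) (.leaf 70611))) (.node (.node (.leaf 102358) (.leaf 190627)) (.node (.leaf 102993) (.leaf 187558)))) (.node (.node (.node (.leaf 165961) (.leaf 235077)) (.node (.leaf 160600) (.leaf 163640))) (.node (.node (.leaf 230872) (.leaf 14727)) (.node (.leaf 211287) (.leaf 38821))))) (.node (.node (.node (.node (.leaf 14725) (.leaf 102197)) (.node (.leaf 70452) (.leaf 79895))) (.node (.node (.leaf 161038) (.leaf 121229)) (.node (.leaf 190531) (.leaf 235173)))) (.node (.node (.node (.leaf 166057) (.leaf 187462)) (.node (.leaf 65496) (.leaf 64152))) (.node (.node (.leaf 58776) (.leaf 16136)) (.node (.leaf 27016) (.leaf 132503)))))))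

/-- A suborbit and a mover, part 136. -/
def redCodePart136 : Janko1.Tree ℕ := (.node (.node (.node (.node (.node (.node (.leaf 97683) (.leaf 142806)) (.node (.leaf 16137) (.leaf 49560))) (.node (.node (.leaf 1943) (.leaf 64004)) (.node (.leaf 82638) (.leaf 87629)))) (.node (.node (.node (.leaf 95384) (.leaf 165959)) (.node (.leaf 165958) (.leaf 178568))) (.node (.node (.leaf 32141) (.leaf 7821)) (.node (.leaf 73624) (.leaf 26888))))) (.node (.node (.node (.node (.leaf 16264) (.leaf 142645)) (.node (.leaf 76215) (.leaf 97556))) (.node (.node (.leaf 1944) (.leaf 48408)) (.node (.leaf 16265) (.leaf 126383)))) (.node (.node (.node (.leaf 96080) (.leaf 120530)) (.node (.leaf 64132) (.leaf 178440))) (.node (.node (.leaf 166054) (.leaf 166055)) (.node (.leaf 7704) (.leaf 1945)))))) (.node (.node (.node (.node (.node (.leaf 125360) (.leaf 64931)) (.node (.leaf 102194) (.leaf 133336))) (.node (.node (.leaf 187561) (.leaf 236552)) (.node (.leaf 177828) (.leaf 88626)))) (.node (.node (.node (.leaf 177735) (.leaf 177829)) (.node (.leaf 85576) (.leaf 72389)))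 (.node (.node (.leaf 73492) (.leaf 151095)) (.node (.leaf 73014) (.leaf 8088))))) (.node (.node (.node (.node (.leaf 61007) (.leaf 6425)) (.node (.leaf 88785) (.leaf 64835))) (.node (.node (.leaf 236680) (.leaf 187465)) (.node (.leaf 121233) (.leaf 177732)))) (.node (.node (.node (.leaf 177733) (.leaf 177831)) (.node (.leaf 112024) (.leaf 72229))) (.node (.node (.leaf 85672) (.leaf 73173)) (.node (.leaf 124215) (.leaf 73619)))))))

/-- A suborbit and a mover, part 137. -/
def redCodePart137 : Janko1.Tree ℕ := (.node (.node (.node (.node (.node (.node (.leaf 27214) (.leaf 7950)) (.node (.leaf 64144) (.leaf 98487))) (.node (.node (.leaf 89175) (.leaf 70612)) (.node (.leaf 102357) (.leaf 187459)))) (.node (.node (.node (.leaf 12291) (.leaf 102986)) (.node (.leaf 121101) (.leaf 161166))) (.node (.node (.leaf 8078) (.leaf 25678)) (.node (.leaf 27310) (.leaf 7822))))) (.node (.node (.node (.node (.leaf 13207) (.leaf 208311)) (.node (.leaf 59952) (.leaf 64016))) (.node (.node (.leaf 145423) (.leaf 102198)) (.node (.leaf 70451) (.leaf 72887)))) (.node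 (.node (.node (.leaf 116695) (.leaf 103089)) (.node (.leaf 103082) (.leaf 12419))) (.node (.node (.leaf 187555) (.leaf 7693)) (.node (.leaf 32013) (.leaf 31629)))))) (.node (.node (.node (.node (.node (.leaf 7949) (.leaf 152663)) (.node (.leaf 86455) (.leaf 97684))) (.node (.node (.leaf 142805) (.leaf 96176)) (.node (.leaf 126287) (.leaf 129871)))) (.node (.node (.node (.leaf 188343) (.leaf 188247)) (.node (.leaf 62596) (.leaf 14596))) (.node (.node (.leaf 120363) (.leaf 120370)) (.node (.leaf 8077) (.leaf 31501))))) (.node (.node (.node (.node (.leaf 142646) (.leaf 130711)) (.node (.leaf 160599) (.leaf 97555))) (.node (.node (.leaf 129967) (.leaf 87725)) (.node (.leaf 120523) (.leaf 82478)))) (.node (.node (.node (.leaf 14724) (.leaf 62468)) (.node (.leaf 13594) (.leaf 6939))) (.node (.node (.leaf 61103) (.leaf 166579)) (.node (.leaf 166580) (.leaf 62531)))))))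

/-- A suborbit and a mover, part 138. -/
def redCodePart138 : Janko1.Tree ℕ := (.node (.node (.node (.node (.node (.node (.leaf 14595) (.leaf 102187)) (.node (.leaf 154638) (.leaf 88625))) (.node (.node (.leaf 88618) (.leaf 178500)) (.node (.leaf 13060) (.leaf 101389)))) (.node (.node (.node (.leaf 121105) (.leaf 121098)) (.node (.leaf 88619) (.leaf 73491))) (.node (.node (.leaf 67479) (.leaf 134615)) (.node (.leaf 73013) (.leaf 166483))))) (.node (.node (.node (.node (.leaf 166484) (.leaf 125264)) (.node (.leaf 7066) (.leaf 13723))) (.node (.node (.leaf 88778) (.leaf 154766)) (.node (.leaf 102347) (.leaf 102354)))) (.node (.node (.node (.leaf 14723) (.leaf 62627)) (.node (.leaf 88779) (.leaf 88786))) (.node (.node (.leaf 121226) (.leaf 101517)) (.node (.leaf 13188) (.leaf 178596)))))) (.node (.node (.node (.node (.node (.leaf 73174) (.leaf 89495)) (.node (.leaf 74839) (.leaf 73620))) (.node (.node (.leaf 6149) (.leaf 26189)) (.node (.leaf 27818) (.leaf 153112)))) (.node (.node (.node (.leaf 6661) (.leaf 6669)) (.node (.leaf 6673) (.leaf 34726)))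 (.node (.node (.leaf 41657) (.leaf 211383)) (.node (.leaf 10005) (.leaf 63316))))) (.node (.node (.node (.node (.leaf 12293) (.leaf 127658)) (.node (.leaf 80536) (.leaf 235941))) (.node (.node (.leaf 6789) (.leaf 6277)) (.node (.leaf 27722) (.leaf 27831)))) (.node (.node (.node (.leaf 28504) (.leaf 208216)) (.node (.leaf 34630) (.leaf 53177))) (.node (.node (.leaf 10134) (.leaf 63411)) (.node (.leaf 161165) (.leaf 125265)))))))

/-- A suborbit and a mover, part 139. -/
def redCodePart139 : Janko1.Tree ℕ := (.node (.node (.node (.node (.node (.node (.leaf 235845) (.leaf 12421)) (.node (.leaf 127562) (.leaf 148493))) (.node (.node (.leaf 6920) (.leaf 26379)) (.node (.leaf 7432) (.leaf 6165)))) (.node (.node (.node (.leaf 111636) (.leaf 26374)) (.node (.leaf 31001) (.leaf 47127))) (.node (.node (.leaf 187480) (.leaf 47000)) (.node (.leaf 13064) (.leaf 88526))))) (.node (.node (.node (.node (.leaf 149451) (.leaf 161042)) (.node (.leaf 87726) (.leaf 179208))) (.node (.node (.leaf 7560) (.leaf 8338)) (.node (.leaf 7566) (.leaf 7048)))) (.node (.node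 (.node (.leaf 26507) (.leaf 37646)) (.node (.leaf 73112) (.leaf 6294))) (.node (.node (.leaf 111763) (.leaf 190647)) (.node (.leaf 26502) (.leaf 44825)))))) (.node (.node (.node (.node (.node (.leaf 179336) (.leaf 13192)) (.node (.leaf 149291) (.leaf 133432))) (.node (.node (.leaf 7699) (.leaf 5016)) (.node (.leaf 13338) (.leaf 8212)))) (.node (.node (.node (.leaf 18185) (.leaf 17415)) (.node (.leaf 166068) (.leaf 12296))) (.node (.node (.leaf 127659) (.leaf 59982)) (.node (.leaf 235144) (.leaf 13061))))) (.node (.node (.node (.node (.leaf 149450) (.leaf 71256)) (.node (.leaf 159537) (.leaf 126157))) (.node (.node (.leaf 178501) (.leaf 8339)) (.node (.leaf 18313) (.leaf 17543)))) (.node (.node (.node (.leaf 165971) (.leaf 7828)) (.node (.leaf 168632) (.leaf 13467))) (.node (.node (.leaf 59694) (.leaf 126002)) (.node (.leaf 235016) (.leaf 12424)))))))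

/-- A suborbit and a mover, part 140. -/
def redCodePart140 : Janko1.Tree ℕ := (.node (.node (.node (.node (.node (.node (.leaf 127563) (.leaf 145176)) (.node (.leaf 178597) (.leaf 13189))) (.node (.node (.leaf 126253) (.leaf 149290)) (.node (.leaf 27825) (.leaf 6666)))) (.node (.node (.node (.leaf 30810) (.leaf 44731)) (.node (.leaf 208215) (.leaf 13079))) (.node (.node (.leaf 10006) (.leaf 63315)) (.node (.leaf 20309) (.leaf 20310))))) (.node (.node (.node (.node (.leaf 102965) (.leaf 102966)) (.node (.leaf 127665) (.leaf 148621))) (.node (.node (.leaf 161037) (.leaf 125361)) (.node (.leaf 125354) (.leaf 6797)))) (.node (.node (.node (.leaf 6801) (.leaf 6794)) (.node (.leaf 26285) (.leaf 27729))) (.node (.node (.leaf 28503) (.leaf 6167)) (.node (.leaf 44634) (.leaf 30907)))))) (.node (.node (.node (.node (.node (.leaf 20405) (.leaf 20406)) (.node (.leaf 103125) (.leaf 103126))) (.node (.node (.leaf 10133) (.leaf 63412)) (.node (.leaf 125258) (.leaf 127569)))) (.node (.node (.node (.leaf 26386) (.leaf 37774)) (.node (.leaf 8203) (.leaf 8210)))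 (.node (.node (.leaf 7438) (.leaf 6166)) (.node (.leaf 111635) (.leaf 27029))))) (.node (.node (.node (.node (.leaf 27030) (.leaf 141109)) (.node (.leaf 141110) (.leaf 42394))) (.node (.node (.leaf 53787) (.leaf 46999)) (.node (.leaf 6935) (.leaf 149458)))) (.node (.node (.node (.leaf 161035) (.leaf 8331)) (.node (.leaf 26514) (.leaf 26901))) (.node (.node (.leaf 26902) (.leaf 141269)) (.node (.leaf 141270) (.leaf 6293)))))))

/-- A suborbit and a mover, part 141. -/
def redCodePart141 : Janko1.Tree ℕ := (.node (.node (.node (.node (.node (.node (.leaf 111764) (.leaf 187479)) (.node (.leaf 12311) (.leaf 53914))) (.node (.node (.leaf 42267) (.leaf 161163)) (.node (.leaf 161170) (.leaf 87630)))) (.node (.node (.node (.leaf 88366) (.leaf 149298)) (.node (.leaf 7700) (.leaf 7451))) (.node (.node (.leaf 5657) (.leaf 8211)) (.node (.leaf 166067) (.leaf 127666))))) (.node (.node (.node (.node (.leaf 59854) (.leaf 126155)) (.node (.leaf 126162) (.leaf 126413))) (.node (.node (.leaf 149457) (.leaf 159530)) (.node (.leaf 9996) (.leaf 131861)))) (.node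 (.node (.node (.leaf 131862) (.leaf 72405)) (.node (.leaf 72406) (.leaf 8340))) (.node (.node (.leaf 165972) (.leaf 7827)) (.node (.leaf 6681) (.leaf 7578)))))) (.node (.node (.node (.node (.node (.leaf 125995) (.leaf 127570)) (.node (.leaf 60078) (.leaf 159697))) (.node (.node (.leaf 159690) (.leaf 125997)) (.node (.leaf 149297) (.leaf 131989)))) (.node (.node (.node (.leaf 131990) (.leaf 72245)) (.node (.leaf 72246) (.leaf 10124))) (.node (.node (.leaf 159064) (.leaf 1817)) (.node (.leaf 57904) (.leaf 150575))))) (.node (.node (.node (.node (.leaf 17672) (.leaf 75191)) (.node (.leaf 104533) (.leaf 41032))) (.node (.node (.leaf 69171) (.leaf 99255)) (.node (.leaf 76835) (.leaf 124497)))) (.node (.node (.node (.leaf 75928) (.leaf 238792)) (.node (.leaf 155442) (.leaf 168361))) (.node (.node (.leaf 25677) (.leaf 161112)) (.node (.leaf 6285) (.leaf 163896)))))))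

/-- A suborbit and a mover, part 142. -/
def redCodePart142 : Janko1.Tree ℕ := (.node (.node (.node (.node (.node (.node (.leaf 6168) (.leaf 27832)) (.node (.leaf 41561) (.leaf 41128))) (.node (.node (.leaf 69332) (.leaf 17800)) (.node (.leaf 104630) (.leaf 168265)))) (.node (.node (.node (.leaf 76995) (.leaf 238632)) (.node (.leaf 7698) (.leaf 63640))) (.node (.node (.leaf 27019) (.leaf 27410)) (.node (.leaf 59032) (.leaf 16133))))) (.node (.node (.node (.node (.leaf 144597) (.leaf 27013)) (.node (.leaf 159063) (.leaf 99988))) (.node (.node (.leaf 16134) (.leaf 26246)) (.node (.leaf 1818) (.leaf 187476)))) (.node (.node (.node (.leaf 199000) (.leaf 202840)) (.node (.leaf 129199) (.leaf 84816))) (.node (.node (.leaf 167587) (.leaf 91438)) (.node (.leaf 237957) (.leaf 156241)))))) (.node (.node (.node (.node (.node (.leaf 79053) (.leaf 168358)) (.node (.leaf 198569) (.leaf 26891))) (.node (.node (.leaf 60056) (.leaf 26130)) (.node (.leaf 26885) (.leaf 99859)))) (.node (.node (.node (.leaf 16261) (.leaf 144438)) (.node (.leaf 128151) (.leaf 26118)))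 (.node (.node (.leaf 16262) (.leaf 187571)) (.node (.leaf 1819) (.leaf 198473))))) (.node (.node (.node (.node (.leaf 168262) (.leaf 167491)) (.node (.leaf 237829) (.leaf 98648))) (.node (.node (.leaf 17673) (.leaf 1816)) (.node (.leaf 197508) (.leaf 172101)))) (.node (.node (.node (.leaf 79057) (.leaf 173127)) (.node (.leaf 129156) (.leaf 128920))) (.node (.node (.leaf 173064) (.leaf 123534)) (.node (.leaf 81842) (.leaf 179367)))))))

/-- A suborbit and a mover, part 143. -/
def redCodePart143 : Janko1.Tree ℕ := (.node (.node (.node (.node (.node (.node (.leaf 202374) (.leaf 75924)) (.node (.leaf 136597) (.leaf 69672))) (.node (.node (.leaf 86597) (.leaf 8984)) (.node (.leaf 61871) (.leaf 8728)))) (.node (.node (.node (.leaf 17801) (.leaf 1815)) (.node (.leaf 125776) (.leaf 173223))) (.node (.node (.leaf 124594) (.leaf 197380)) (.node (.leaf 172197) (.leaf 82904))))) (.node (.node (.node (.node (.leaf 202246) (.leaf 179271)) (.node (.leaf 127693) (.leaf 129028))) (.node (.node (.leaf 173192) (.leaf 86693)) (.node (.leaf 69832) (.leaf 92311))))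 (.node (.node (.node (.leaf 70551) (.leaf 136470)) (.node (.leaf 75795) (.leaf 6157))) (.node (.node (.leaf 25517) (.leaf 25773)) (.node (.leaf 27213) (.leaf 44986)))))) (.node (.node (.node (.node (.node (.leaf 7707) (.leaf 211379)) (.node (.leaf 211380) (.leaf 88855))) (.node (.node (.leaf 124119) (.leaf 104534)) (.node (.leaf 69172) (.leaf 61591)))) (.node (.node (.node (.leaf 84823) (.leaf 76227)) (.node (.leaf 16131) (.leaf 124490))) (.node (.node (.leaf 155435) (.leaf 108622)) (.node (.leaf 27309) (.leaf 25421))))) (.node (.node (.node (.node (.leaf 150735) (.leaf 58064)) (.node (.leaf 211283) (.leaf 211284))) (.node (.node (.leaf 7834) (.leaf 44891)) (.node (.leaf 69331) (.leaf 104629)))) (.node (.node (.node (.leaf 108718) (.leaf 155595)) (.node (.leaf 155602) (.leaf 124593))) (.node (.node (.leaf 124586) (.leaf 16259)) (.node (.leaf 76067) (.leaf 7691)))))))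

/-- A suborbit and a mover, part 144. -/
def redCodePart144 : Janko1.Tree ℕ := (.node (.node (.node (.node (.node (.node (.leaf 26251) (.leaf 26258)) (.node (.leaf 27026) (.leaf 27403))) (.node (.node (.leaf 144598) (.leaf 77751)) (.node (.leaf 129943) (.leaf 99987)))) (.node (.node (.node (.leaf 42395) (.leaf 43929)) (.node (.leaf 187475) (.leaf 168259))) (.node (.node (.leaf 8451) (.leaf 156234)) (.node (.leaf 27531) (.leaf 27538))))) (.node (.node (.node (.node (.leaf 26898) (.leaf 26123)) (.node (.leaf 7819) (.leaf 7826))) (.node (.node (.leaf 99860) (.leaf 144437)) (.node (.leaf 165207) (.leaf 79543)))) (.node (.node (.node (.leaf 84912) (.leaf 129103)) (.node (.leaf 187572) (.leaf 7833))) (.node (.node (.leaf 42266) (.leaf 78893)) (.node (.leaf 156337) (.leaf 156330)))))) (.node (.node (.node (.node (.node (.leaf 91598) (.leaf 8579)) (.node (.leaf 168355) (.leaf 125872))) (.node (.node (.leaf 61775) (.leaf 60847)) (.node (.leaf 195844) (.leaf 11524)))) (.node (.node (.node (.leaf 124491) (.leaf 124498)) (.node (.leaf 154637) (.leaf 79050)))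 (.node (.node (.leaf 129796) (.leaf 16132)) (.node (.leaf 127533) (.leaf 81835))))) (.node (.node (.node (.node (.leaf 75923) (.leaf 136598)) (.node (.leaf 60751) (.leaf 166071))) (.node (.node (.leaf 165975) (.leaf 78897)) (.node (.leaf 78890) (.leaf 154765)))) (.node (.node (.node (.leaf 124587) (.leaf 11652)) (.node (.leaf 195972) (.leaf 81739))) (.node (.node (.leaf 81746) (.leaf 123406)) (.node (.leaf 16260) (.leaf 129924)))))))

/-- A suborbit and a mover, part 145. -/
def redCodePart145 : Janko1.Tree ℕ := (.node (.node (.node (.node (.node (.node (.leaf 120375) (.leaf 58199)) (.node (.leaf 133847) (.leaf 149559))) (.node (.node (.leaf 136469) (.leaf 75796)) (.node (.leaf 28497) (.leaf 29514)))) (.node (.node (.node (.leaf 164408) (.leaf 16902)) (.node (.leaf 1690) (.leaf 35398))) (.node (.node (.leaf 208212) (.leaf 14600)) (.node (.leaf 94263) (.leaf 105397))))) (.node (.node (.node (.node (.leaf 38728) (.leaf 55444)) (.node (.leaf 125604) (.leaf 160216))) (.node (.node (.leaf 239400) (.leaf 188230)) (.node (.leaf 188327) (.leaf 27985))))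 (.node (.node (.node (.leaf 164152) (.leaf 29610)) (.node (.leaf 6289) (.leaf 160856))) (.node (.node (.leaf 233528) (.leaf 138671)) (.node (.leaf 228888) (.leaf 64912)))))) (.node (.node (.node (.node (.node (.leaf 35494) (.leaf 208307)) (.node (.leaf 17030) (.leaf 1691))) (.node (.node (.leaf 55315) (.leaf 38824)) (.node (.leaf 97719) (.leaf 105302)))) (.node (.node (.node (.leaf 14728) (.leaf 121998)) (.node (.leaf 188231) (.leaf 67346))) (.node (.node (.leaf 188326) (.leaf 149389)) (.node (.leaf 239560) (.leaf 125508))))) (.node (.node (.node (.node (.leaf 6926) (.leaf 58520)) (.node (.leaf 38926) (.leaf 64408))) (.node (.node (.leaf 16901) (.leaf 142901)) (.node (.leaf 96787) (.leaf 36229)))) (.node (.node (.node (.leaf 1689) (.leaf 6936)) (.node (.leaf 47128) (.leaf 167588))) (.node (.node (.leaf 238597) (.leaf 168359)) (.node (.leaf 64920) (.leaf 36101)))))))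

/-- A suborbit and a mover, part 146. -/
def redCodePart146 : Janko1.Tree ℕ := (.node (.node (.node (.node (.node (.node (.leaf 125527) (.leaf 96916)) (.node (.leaf 143062) (.leaf 17029))) (.node (.node (.leaf 149143) (.leaf 90800)) (.node (.leaf 124495) (.leaf 31129)))) (.node (.node (.node (.leaf 70449) (.leaf 168263)) (.node (.leaf 150738) (.leaf 238725))) (.node (.node (.leaf 167492) (.leaf 68952)) (.node (.leaf 16903) (.leaf 61359))))) (.node (.node (.node (.node (.leaf 167864) (.leaf 167511)) (.node (.leaf 168120) (.leaf 128336))) (.node (.node (.leaf 170563) (.leaf 58798)) (.node (.leaf 170661) (.leaf 188233)))) (.node (.node (.node (.leaf 173222) (.leaf 56227)) (.node (.leaf 92696) (.leaf 150577))) (.node (.node (.leaf 172168) (.leaf 170633)) (.node (.leaf 92692) (.leaf 138005)))))) (.node (.node (.node (.node (.node (.leaf 63301) (.leaf 75607)) (.node (.leaf 71624) (.leaf 78935))) (.node (.node (.leaf 168376) (.leaf 17031)) (.node (.leaf 143697) (.leaf 173126)))) (.node (.node (.node (.leaf 70445) (.leaf 188329)) (.node (.leaf 170565)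 (.leaf 170659))) (.node (.node (.leaf 100920) (.leaf 142898)) (.node (.leaf 170505) (.leaf 172040))))) (.node (.node (.node (.node (.leaf 56131) (.leaf 71464)) (.node (.leaf 63397) (.leaf 138134))) (.node (.node (.leaf 92819) (.leaf 6161)) (.node (.leaf 6154) (.leaf 28490)))) (.node (.node (.node (.leaf 29521) (.leaf 28081)) (.node (.leaf 28074) (.leaf 30811))) (.node (.node (.leaf 54105) (.leaf 208211)) (.node (.leaf 64784) (.leaf 138575)))))))

/-- A suborbit and a mover, part 147. -/
def redCodePart147 : Janko1.Tree ℕ := (.node (.node (.node (.node (.node (.node (.leaf 59607) (.leaf 120983)) (.node (.leaf 105398) (.leaf 55443))) (.node (.node (.leaf 128580) (.leaf 16900)) (.node (.leaf 149261) (.leaf 67467)))) (.node (.node (.node (.leaf 67474) (.leaf 121870)) (.node (.leaf 27978) (.leaf 29617))) (.node (.node (.leaf 28593) (.leaf 28586)) (.node (.leaf 6282) (.leaf 208308))))) (.node (.node (.node (.node (.leaf 10905) (.leaf 30906)) (.node (.leaf 55316) (.leaf 90199))) (.node (.node (.leaf 64919) (.leaf 105301)) (.node (.leaf 67339) (.leaf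 17028)))) (.node (.node (.node (.leaf 128676) (.leaf 37902)) (.node (.leaf 38542) (.leaf 142902))) (.node (.node (.leaf 96788) (.leaf 53018)) (.node (.leaf 10779) (.leaf 190643)))))) (.node (.node (.node (.node (.node (.leaf 190644) (.leaf 124591)) (.node (.leaf 90704) (.leaf 168260))) (.node (.node (.leaf 8452) (.leaf 150571)) (.node (.leaf 150578) (.leaf 70609)))) (.node (.node (.node (.leaf 70602) (.leaf 144525)) (.node (.leaf 38414) (.leaf 39054))) (.node (.node (.leaf 38030) (.leaf 7054)) (.node (.leaf 56887) (.leaf 139415))))) (.node (.node (.node (.node (.leaf 96915) (.leaf 143061)) (.node (.leaf 134231) (.leaf 70199))) (.node (.node (.leaf 190547) (.leaf 190548)) (.node (.leaf 10906) (.leaf 53147)))) (.node (.node (.node (.leaf 144397) (.leaf 70442)) (.node (.leaf 150731) (.leaf 8580))) (.node (.node (.leaf 168356) (.leaf 8599)) (.node (.leaf 168375) (.leaf 125616)))))))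

/-- A suborbit and a mover, part 148. -/
def redCodePart148 : Janko1.Tree ℕ := (.node (.node (.node (.node (.node (.node (.leaf 173219) (.leaf 11523)) (.node (.leaf 70605) (.leaf 143793))) (.node (.node (.leaf 143786) (.leaf 55363)) (.node (.leaf 16899) (.leaf 150570)))) (.node (.node (.node (.leaf 101390) (.leaf 143051)) (.node (.leaf 143058) (.leaf 92691))) (.node (.node (.leaf 138006) (.leaf 122679)) (.node (.leaf 91287) (.leaf 165815))))) (.node (.node (.node (.node (.leaf 127767) (.leaf 125520)) (.node (.leaf 128432) (.leaf 61263))) (.node (.node (.leaf 143690) (.leaf 58702)) (.node (.leaf 11651) (.leaf 173123)))) (.node (.node (.node (.leaf 142891) (.leaf 101518)) (.node (.leaf 150737) (.leaf 150730))) (.node (.node (.leaf 17027) (.leaf 55459)) (.node (.leaf 138133) (.leaf 92820)))))) (.node (.node (.node (.node (.node (.leaf 159320) (.leaf 165176)) (.node (.leaf 152856) (.leaf 228243))) (.node (.node (.leaf 30138) (.leaf 43867)) (.node (.leaf 30139) (.leaf 233527)))) (.node (.node (.node (.leaf 50871) (.leaf 112087)) (.node (.leaf 31820)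 (.leaf 66264))) (.node (.node (.leaf 152600) (.leaf 152344)) (.node (.leaf 30042) (.leaf 43962))))) (.node (.node (.node (.node (.leaf 30043) (.leaf 228116)) (.node (.leaf 119703) (.leaf 31916))) (.node (.node (.leaf 90903) (.leaf 57815)) (.node (.leaf 117432) (.leaf 79768)))) (.node (.node (.node (.leaf 74392) (.leaf 160984)) (.node (.leaf 72344) (.leaf 72856))) (.node (.node (.leaf 68919) (.leaf 82871)) (.node (.leaf 29324) (.leaf 137559)))))))

/-- A suborbit and a mover, part 149. -/
def redCodePart149 : Janko1.Tree ℕ := (.node (.node (.node (.node (.node (.node (.leaf 202835) (.leaf 54171)) (.node (.leaf 42522) (.leaf 42523))) (.node (.node (.leaf 67160) (.leaf 97880)) (.node (.leaf 131896) (.leaf 146648)))) (.node (.node (.node (.leaf 73368) (.leaf 64664)) (.node (.leaf 59544) (.leaf 29196))) (.node (.node (.leaf 154199) (.leaf 49431)) (.node (.leaf 198999) (.leaf 42650))))) (.node (.node (.node (.node (.leaf 42651) (.leaf 54042)) (.node (.leaf 202932) (.leaf 94616))) (.node (.node (.leaf 166835) (.leaf 7194)) (.node (.leaf 13339) (.leaf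 8855)))) (.node (.node (.node (.leaf 7195) (.leaf 99384)) (.node (.leaf 82136) (.leaf 145944))) (.node (.node (.leaf 71736) (.leaf 115096)) (.node (.leaf 7322) (.leaf 166487)))))) (.node (.node (.node (.node (.node (.leaf 13466) (.leaf 7323)) (.node (.leaf 166740) (.leaf 131800))) (.node (.node (.leaf 84536) (.leaf 69720)) (.node (.leaf 126872) (.leaf 93464)))) (.node (.node (.node (.leaf 228244) (.leaf 11675)) (.node (.leaf 10777) (.leaf 42329))) (.node (.node (.leaf 7706) (.leaf 54201)) (.node (.leaf 44890) (.leaf 146191))))) (.node (.node (.node (.node (.leaf 51543) (.leaf 228247)) (.node (.leaf 232919) (.leaf 228887))) (.node (.node (.leaf 72528) (.leaf 7692)) (.node (.leaf 65715) (.leaf 65716)))) (.node (.node (.node (.leaf 78615) (.leaf 72119)) (.node (.leaf 112789) (.leaf 112790))) (.node (.node (.leaf 72624) (.leaf 146319)) (.node (.leaf 44987) (.leaf 42425)))))))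

/-- A suborbit and a mover, part 150. -/
def redCodePart150 : Janko1.Tree ℕ := (.node (.node (.node (.node (.node (.node (.leaf 7835) (.leaf 8473)) (.node (.leaf 53849) (.leaf 11546))) (.node (.node (.leaf 228115) (.leaf 69591)) (.node (.leaf 95031) (.leaf 112661)))) (.node (.node (.node (.leaf 112662) (.leaf 65619)) (.node (.leaf 65620) (.leaf 122583))) (.node (.node (.leaf 75959) (.leaf 120215)) (.node (.leaf 92727) (.leaf 7820))))) (.node (.node (.node (.node (.leaf 6156) (.leaf 148375)) (.node (.leaf 135767) (.leaf 127383))) (.node (.node (.leaf 161623) (.leaf 114835)) (.node (.leaf 114836) (.leaf 151765)))) (.node (.node (.node (.leaf 151766) (.leaf 65847)) (.node (.leaf 145815) (.leaf 202836))) (.node (.node (.leaf 30873) (.leaf 10778)) (.node (.leaf 8603) (.leaf 7705)))))) (.node (.node (.node (.node (.node (.leaf 43801) (.leaf 53146)) (.node (.leaf 95312) (.leaf 131503))) (.node (.node (.leaf 151605) (.leaf 151606)) (.node (.leaf 83383) (.leaf 133271)))) (.node (.node (.node (.leaf 114707) (.leaf 114708)) (.node (.leaf 6284) (.leaf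 131407))) (.node (.node (.leaf 200887) (.leaf 202839)) (.node (.leaf 49303) (.leaf 204471))))) (.node (.node (.node (.node (.leaf 95408) (.leaf 53019)) (.node (.leaf 30745) (.leaf 44697))) (.node (.node (.leaf 8474) (.leaf 10907)) (.node (.leaf 11545) (.leaf 202931)))) (.node (.node (.node (.leaf 166836) (.leaf 62031)) (.node (.leaf 128848) (.leaf 13595))) (.node (.node (.leaf 5145) (.leaf 5273)) (.node (.leaf 6938) (.leaf 168631)))))))

/-- A suborbit and a mover, part 151. -/
def redCodePart151 : Janko1.Tree ℕ := (.node (.node (.node (.node (.node (.node (.leaf 168023) (.leaf 5785)) (.node (.leaf 13082) (.leaf 71756))) (.node (.node (.leaf 93587) (.leaf 93588)) (.node (.leaf 74259) (.leaf 74260)))) (.node (.node (.node (.leaf 72851) (.leaf 72852)) (.node (.leaf 114837) (.leaf 114838))) (.node (.node (.leaf 65717) (.leaf 65718)) (.node (.leaf 95891) (.leaf 95892))))) (.node (.node (.node (.node (.leaf 13211) (.leaf 6169)) (.node (.leaf 5015) (.leaf 166839))) (.node (.node (.leaf 7067) (.leaf 12313)) (.node (.leaf 12825) (.leaf 13722)))) (.node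 (.node (.node (.leaf 128944) (.leaf 62127)) (.node (.leaf 166739) (.leaf 95763))) (.node (.node (.leaf 95764) (.leaf 65621)) (.node (.leaf 65622) (.leaf 114709)))))) (.node (.node (.node (.node (.node (.leaf 114710) (.leaf 72723)) (.node (.leaf 72724) (.leaf 74387))) (.node (.node (.leaf 74388) (.leaf 93459)) (.node (.leaf 93460) (.leaf 71852)))) (.node (.node (.node (.leaf 10505) (.leaf 6671)) (.node (.leaf 10511) (.leaf 15111))) (.node (.node (.leaf 10249) (.leaf 28335)) (.node (.leaf 36166) (.leaf 45146))))) (.node (.node (.node (.node (.leaf 18744) (.leaf 135818)) (.node (.leaf 49063) (.leaf 19352))) (.node (.node (.leaf 97197) (.leaf 49061)) (.node (.leaf 86659) (.leaf 147373)))) (.node (.node (.node (.leaf 69560) (.leaf 10377)) (.node (.leaf 20143) (.leaf 231128))) (.node (.node (.leaf 36262) (.leaf 45243)) (.node (.leaf 10633) (.leaf 15239)))))))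

/-- A suborbit and a mover, part 152. -/
def redCodePart152 : Janko1.Tree ℕ := (.node (.node (.node (.node (.node (.node (.leaf 6423) (.leaf 28344)) (.node (.leaf 229144) (.leaf 146575))) (.node (.node (.leaf 19022) (.leaf 48967)) (.node (.leaf 48965) (.leaf 86531)))) (.node (.node (.node (.leaf 140952) (.leaf 65234)) (.node (.leaf 118222) (.leaf 135690))) (.node (.node (.leaf 9733) (.leaf 10516)) (.node (.leaf 16648) (.leaf 27285))))) (.node (.node (.node (.node (.leaf 27269) (.leaf 9477)) (.node (.leaf 33303) (.leaf 19348))) (.node (.node (.leaf 114580) (.leaf 39352)) (.node (.leaf 97330) (.leaf 157873)))) (.node (.node (.node (.leaf 184390) (.leaf 33165)) (.node (.leaf 33304) (.leaf 51593))) (.node (.node (.leaf 65841) (.leaf 179783)) (.node (.leaf 9605) (.leaf 19219)))))) (.node (.node (.node (.node (.node (.leaf 114451) (.leaf 9861)) (.node (.leaf 10643) (.leaf 16776))) (.node (.node (.leaf 27158) (.leaf 27141)) (.node (.leaf 133015) (.leaf 51465)))) (.node (.node (.node (.leaf 77870) (.leaf 164114)) (.node (.leaf 179879) (.leaf 184486)))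 (.node (.node (.leaf 9745) (.leaf 12038)) (.node (.leaf 12039) (.leaf 62787))))) (.node (.node (.node (.node (.leaf 70349) (.leaf 9482)) (.node (.leaf 144184) (.leaf 105496))) (.node (.node (.leaf 89642) (.leaf 12552)) (.node (.leaf 124754) (.leaf 146456)))) (.node (.node (.node (.leaf 19483) (.leaf 66567)) (.node (.leaf 80944) (.leaf 247448))) (.node (.node (.leaf 108880) (.leaf 63686)) (.node (.leaf 63888) (.leaf 9610)))))))

/-- A suborbit and a mover, part 153. -/
def redCodePart153 : Janko1.Tree ℕ := (.node (.node (.node (.node (.node (.node (.leaf 89802) (.leaf 12680)) (.node (.leaf 12166) (.leaf 12167))) (.node (.node (.leaf 62883) (.leaf 155021)) (.node (.leaf 131544) (.leaf 63526)))) (.node (.node (.node (.leaf 244631) (.leaf 172344)) (.node (.leaf 248216) (.leaf 19610))) (.node (.node (.leaf 195544) (.leaf 272216)) (.node (.leaf 66695) (.leaf 146447))))) (.node (.node (.node (.node (.leaf 20047) (.leaf 30651)) (.node (.leaf 55225) (.leaf 20302))) (.node (.node (.leaf 65067) (.leaf 65074)) (.node (.leaf 118062) (.leaf 135825)))) (.node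 (.node (.node (.leaf 19118) (.leaf 26019)) (.node (.leaf 82499) (.leaf 28239))) (.node (.node (.leaf 43193) (.leaf 30554)) (.node (.leaf 6799) (.leaf 10639)))))) (.node (.node (.node (.node (.node (.leaf 28343) (.leaf 29271)) (.node (.leaf 97101) (.leaf 82595))) (.node (.node (.leaf 25923) (.leaf 147277)) (.node (.leaf 20398) (.leaf 65227)))) (.node (.node (.node (.leaf 135697) (.leaf 10515)) (.node (.leaf 27286) (.leaf 9751))) (.node (.node (.leaf 34199) (.leaf 19347)) (.node (.leaf 6421) (.leaf 6422))))) (.node (.node (.node (.node (.leaf 114579) (.leaf 33293)) (.node (.leaf 97323) (.leaf 157866))) (.node (.node (.leaf 93774) (.leaf 78030)) (.node (.leaf 164235) (.leaf 164242)))) (.node (.node (.node (.leaf 65834) (.leaf 19220)) (.node (.leaf 6549) (.leaf 6550))) (.node (.node (.leaf 114452) (.leaf 10644)) (.node (.leaf 27157) (.leaf 153687)))))))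

/-- A suborbit and a mover, part 154. -/
def redCodePart154 : Janko1.Tree ℕ := (.node (.node (.node (.node (.node (.node (.leaf 83127) (.leaf 33037)) (.node (.leaf 164107) (.leaf 66001))) (.node (.node (.leaf 65994) (.leaf 33421)) (.node (.leaf 97483) (.leaf 97490)))) (.node (.node (.node (.leaf 157777) (.leaf 157770)) (.node (.leaf 93870) (.leaf 9738))) (.node (.node (.leaf 15107) (.leaf 64675)) (.node (.leaf 154893) (.leaf 9489))))) (.node (.node (.node (.node (.leaf 89649) (.leaf 124747)) (.node (.leaf 59054) (.leaf 40025))) (.node (.node (.leaf 15066) (.leaf 117935)) (.node (.leaf 170803) (.leaf 170804)))) (.node (.node (.node (.leaf 143375) (.leaf 9617)) (.node (.leaf 89809) (.leaf 124843))) (.node (.node (.leaf 124850) (.leaf 58958)) (.node (.leaf 9873) (.leaf 9866)))))) (.node (.node (.node (.node (.node (.leaf 64579) (.leaf 15235)) (.node (.leaf 70189) (.leaf 143503))) (.node (.node (.leaf 108976) (.leaf 273079)) (.node (.leaf 270039) (.leaf 63760)))) (.node (.node (.node (.leaf 14907) (.leaf 14489)) (.node (.leaf 117839) (.leaf 170963)))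 (.node (.node (.leaf 170964) (.leaf 81104)) (.node (.leaf 208568) (.leaf 52567))))) (.node (.node (.node (.node (.leaf 38471) (.leaf 229528)) (.node (.leaf 208467) (.leaf 7962))) (.node (.node (.leaf 143800) (.leaf 50247)) (.node (.leaf 162571) (.leaf 240773)))) (.node (.node (.node (.leaf 180105) (.leaf 142488)) (.node (.leaf 72210) (.leaf 152878))) (.node (.node (.leaf 132362) (.leaf 246920)) (.node (.leaf 90040) (.leaf 29359)))))))

/-- A suborbit and a mover, part 155. -/
def redCodePart155 : Janko1.Tree ℕ := (.node (.node (.node (.node (.node (.node (.leaf 38567) (.leaf 8091)) (.node (.leaf 208564) (.leaf 27983))) (.node (.node (.leaf 210104) (.leaf 29272)) (.node (.leaf 6424) (.leaf 144568)))) (.node (.node (.node (.leaf 130353) (.leaf 132490)) (.node (.leaf 246792) (.leaf 50343))) (.node (.node (.leaf 165294) (.leaf 162699)) (.node (.leaf 179977) (.leaf 240645))))) (.node (.node (.node (.node (.leaf 33943) (.leaf 152021)) (.node (.leaf 97300) (.leaf 26248))) (.node (.node (.leaf 16389) (.leaf 161879)) (.node (.leaf 9240) (.leaf 72657))))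 (.node (.node (.node (.leaf 153483) (.leaf 77101)) (.node (.leaf 183176) (.leaf 206921))) (.node (.node (.leaf 71812) (.leaf 90776)) (.node (.leaf 33815) (.leaf 26120)))))) (.node (.node (.node (.node (.node (.leaf 16517) (.leaf 9623)) (.node (.leaf 97427) (.leaf 151862))) (.node (.node (.leaf 9368) (.leaf 71684)) (.node (.leaf 83406) (.leaf 163153)))) (.node (.node (.node (.leaf 85453) (.leaf 33048)) (.node (.leaf 92333) (.leaf 153355))) (.node (.node (.leaf 207017) (.leaf 183048)) (.node (.leaf 143672) (.leaf 79562))))) (.node (.node (.node (.node (.leaf 189513) (.leaf 11782)) (.node (.leaf 11780) (.leaf 171173))) (.node (.node (.leaf 81880) (.leaf 145039)) (.node (.leaf 80167) (.leaf 91273)))) (.node (.node (.node (.leaf 76743) (.leaf 197847)) (.node (.leaf 67994) (.leaf 14105))) (.node (.node (.leaf 82057) (.leaf 259000)) (.node (.leaf 82822) (.leaf 171575)))))))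

/-- A suborbit and a mover, part 156. -/
def redCodePart156 : Janko1.Tree ℕ := (.node (.node (.node (.node (.node (.node (.leaf 11910) (.leaf 142904)) (.node (.leaf 154510) (.leaf 60493))) (.node (.node (.leaf 11908) (.leaf 128082)) (.node (.leaf 171077) (.leaf 143416)))) (.node (.node (.node (.leaf 101682) (.leaf 102866)) (.node (.leaf 79402) (.leaf 189609))) (.node (.node (.leaf 39257) (.leaf 151728)) (.node (.leaf 81929) (.leaf 246552))))) (.node (.node (.node (.node (.leaf 82694) (.leaf 98223)) (.node (.leaf 80327) (.leaf 76583))) (.node (.node (.leaf 91145) (.leaf 67867)) (.node (.leaf 28079) (.leaf 29519)))) (.node (.node (.node (.leaf 228503) (.leaf 234039)) (.node (.leaf 65040) (.leaf 29263))) (.node (.node (.leaf 6415) (.leaf 208468)) (.node (.leaf 44123) (.leaf 43097)))))) (.node (.node (.node (.node (.node (.leaf 165198) (.leaf 114637)) (.node (.leaf 163917) (.leaf 162578))) (.node (.node (.leaf 72203) (.leaf 132369)) (.node (.leaf 130513) (.leaf 130506)))) (.node (.node (.node (.leaf 6543) (.leaf 8985)) (.node (.leaf 44218) (.leaf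 208563))) (.node (.node (.leaf 29615) (.leaf 65168)) (.node (.leaf 153038) (.leaf 72331))))) (.node (.node (.node (.node (.leaf 72338) (.leaf 130346)) (.node (.leaf 132497) (.leaf 114477))) (.node (.node (.leaf 162706) (.leaf 164013)) (.node (.leaf 33559) (.leaf 9239)))) (.node (.node (.node (.leaf 152022) (.leaf 97299)) (.node (.leaf 143157) (.leaf 143158))) (.node (.node (.leaf 82615) (.leaf 127127)) (.node (.leaf 92237) (.leaf 72650)))))))

/-- A suborbit and a mover, part 157. -/
def redCodePart157 : Janko1.Tree ℕ := (.node (.node (.node (.node (.node (.node (.leaf 153490) (.leaf 83246)) (.node (.leaf 37764) (.leaf 58628))) (.node (.node (.leaf 85293) (.leaf 163249)) (.node (.leaf 163242) (.leaf 9367)))) (.node (.node (.node (.leaf 33687) (.leaf 143317)) (.node (.leaf 143318) (.leaf 34455))) (.node (.node (.leaf 33047) (.leaf 97428)) (.node (.leaf 151861) (.leaf 58756))))) (.node (.node (.node (.node (.leaf 37636) (.leaf 163146)) (.node (.leaf 72497) (.leaf 72490))) (.node (.node (.leaf 77261) (.leaf 153362)) (.node (.leaf 102699) (.leaf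 102706)))) (.node (.node (.node (.leaf 101835) (.leaf 101842)) (.node (.leaf 79569) (.leaf 60366))) (.node (.node (.leaf 60589) (.leaf 154382)) (.node (.leaf 128171) (.leaf 128178)))))) (.node (.node (.node (.node (.node (.leaf 197764) (.leaf 196356)) (.node (.leaf 150448) (.leaf 221463))) (.node (.node (.leaf 173623) (.leaf 129627)) (.node (.leaf 59545) (.leaf 151632)))) (.node (.node (.node (.leaf 19354) (.leaf 4539)) (.node (.leaf 195543) (.leaf 218647))) (.node (.node (.leaf 98127) (.leaf 196484)) (.node (.leaf 197636) (.leaf 128075))))) (.node (.node (.node (.node (.leaf 101675) (.leaf 102859)) (.node (.leaf 60206) (.leaf 79409))) (.node (.node (.leaf 4442) (.leaf 19227)) (.node (.leaf 144911) (.leaf 150352)))) (.node (.node (.node (.leaf 125977) (.leaf 129722)) (.node (.leaf 229272) (.leaf 233175))) (.node (.node (.leaf 19119) (.leaf 37543)) (.node (.leaf 208824) (.leaf 35238)))))))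

/-- A suborbit and a mover, part 158. -/
def redCodePart158 : Janko1.Tree ℕ := (.node (.node (.node (.node (.node (.node (.leaf 211892) (.leaf 17158)) (.node (.leaf 11033) (.leaf 152270))) (.node (.node (.leaf 66514) (.leaf 97102)) (.node (.leaf 199939) (.leaf 110637)))) (.node (.node (.node (.leaf 134404) (.leaf 139821)) (.node (.leaf 37447) (.leaf 17286))) (.node (.node (.leaf 54873) (.leaf 35142)) (.node (.leaf 211795) (.leaf 18767))))) (.node (.node (.node (.node (.leaf 230296) (.leaf 208472)) (.node (.leaf 58320) (.leaf 233784))) (.node (.node (.leaf 19768) (.leaf 200067)) (.node (.leaf 60888) (.leaf 134532)))) (.node (.node (.node (.leaf 19608) (.leaf 114129)) (.node (.leaf 99288) (.leaf 20371))) (.node (.node (.leaf 27272) (.leaf 26376)) (.node (.leaf 36485) (.leaf 78007)))))) (.node (.node (.node (.node (.node (.leaf 20499) (.leaf 17157)) (.node (.leaf 135511) (.leaf 51721))) (.node (.node (.leaf 37892) (.leaf 56618)) (.node (.leaf 84888) (.leaf 952)))) (.node (.node (.node (.leaf 73258) (.leaf 173448)) (.node (.leaf 20628) (.leaf 17285)))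 (.node (.node (.leaf 26504) (.leaf 20244)) (.node (.leaf 27144) (.leaf 36357))))) (.node (.node (.node (.node (.leaf 40120) (.leaf 73418)) (.node (.leaf 80814) (.leaf 173320))) (.node (.node (.leaf 51849) (.leaf 38020)) (.node (.leaf 17720) (.leaf 114994)))) (.node (.node (.node (.leaf 56778) (.leaf 147597)) (.node (.leaf 105240) (.leaf 154894))) (.node (.node (.leaf 144049) (.leaf 126923)) (.node (.leaf 57677) (.leaf 11783)))))))

/-- A suborbit and a mover, part 159. -/
def redCodePart159 : Janko1.Tree ℕ := (.node (.node (.node (.node (.node (.node (.leaf 102443) (.leaf 172357)) (.node (.leaf 11779) (.leaf 99128))) (.node (.node (.leaf 24922) (.leaf 221464)) (.node (.leaf 109744) (.leaf 63529)))) (.node (.node (.node (.leaf 133935) (.leaf 17114)) (.node (.leaf 259800) (.leaf 111183))) (.node (.node (.leaf 81095) (.leaf 131024)) (.node (.leaf 11911) (.leaf 102603))))) (.node (.node (.node (.node (.leaf 103704) (.leaf 11907)) (.node (.leaf 172453) (.leaf 103960))) (.node (.node (.leaf 126763) (.leaf 80935)) (.node (.leaf 16955) (.leaf 272312))))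 (.node (.node (.node (.leaf 246168) (.leaf 260024)) (.node (.leaf 25019) (.leaf 63689))) (.node (.node (.leaf 173368) (.leaf 20303)) (.node (.leaf 18863) (.leaf 229399)))))) (.node (.node (.node (.node (.node (.leaf 51127) (.leaf 58160)) (.node (.leaf 10255) (.leaf 211891))) (.node (.node (.leaf 30650) (.leaf 12187)) (.node (.leaf 113969) (.leaf 113962)))) (.node (.node (.node (.leaf 66507) (.leaf 49059)) (.node (.leaf 204227) (.leaf 35236))) (.node (.node (.leaf 137412) (.leaf 10383)) (.node (.leaf 19023) (.leaf 12058))))) (.node (.node (.node (.node (.leaf 30555) (.leaf 211796)) (.node (.leaf 20399) (.leaf 110797))) (.node (.node (.leaf 204067) (.leaf 48963)) (.node (.leaf 139981) (.leaf 137252)))) (.node (.node (.node (.leaf 35140) (.leaf 152110)) (.node (.leaf 114122) (.leaf 97198))) (.node (.node (.leaf 66347) (.leaf 66354)) (.node (.leaf 20372) (.leaf 19475)))))))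

/-- A suborbit and a mover, part 160. -/
def redCodePart160 : Janko1.Tree ℕ := (.node (.node (.node (.node (.node (.node (.leaf 19476) (.leaf 29580)) (.node (.leaf 130199) (.leaf 159575))) (.node (.node (.leaf 20500) (.leaf 10259)) (.node (.leaf 10260) (.leaf 145109)))) (.node (.node (.node (.leaf 145110) (.leaf 68407)) (.node (.leaf 148631) (.leaf 115147))) (.node (.node (.leaf 115154) (.leaf 72452)) (.node (.leaf 57988) (.leaf 147469))))) (.node (.node (.node (.node (.leaf 56625) (.leaf 78669)) (.node (.leaf 73265) (.leaf 80718))) (.node (.node (.leaf 140557) (.leaf 10387)) (.node (.leaf 10388) (.leaf 20627)))) (.node (.node (.node (.leaf 144949) (.leaf 144950)) (.node (.leaf 19603) (.leaf 19604))) (.node (.node (.leaf 20243) (.leaf 29452)) (.node (.leaf 73425) (.leaf 78765)))))) (.node (.node (.node (.node (.node (.leaf 140685) (.leaf 57860)) (.node (.leaf 72580) (.leaf 114987))) (.node (.node (.leaf 56785) (.leaf 156046)) (.node (.leaf 144042) (.leaf 126930)))) (.node (.node (.node (.leaf 102450) (.leaf 59470)) (.node (.leaf 170819) (.leaf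 174243))) (.node (.node (.leaf 1083) (.leaf 9241)) (.node (.leaf 23739) (.leaf 27289))))) (.node (.node (.node (.node (.leaf 259795) (.leaf 259796)) (.node (.leaf 102610) (.leaf 57773))) (.node (.node (.leaf 174147) (.leaf 170915)) (.node (.leaf 59566) (.leaf 155918)))) (.node (.node (.node (.leaf 155022) (.leaf 126770)) (.node (.leaf 143953) (.leaf 143946))) (.node (.node (.leaf 111279) (.leaf 9369)) (.node (.leaf 23642) (.leaf 130864)))))))

/-- A suborbit and a mover, part 161. -/
def redCodePart161 : Janko1.Tree ℕ := (.node (.node (.node (.node (.node (.node (.leaf 259635) (.leaf 259636)) (.node (.leaf 109648) (.leaf 27545))) (.node (.node (.leaf 1114) (.leaf 134095)) (.node (.leaf 38727) (.leaf 37287)))) (.node (.node (.node (.leaf 233944) (.leaf 72784)) (.node (.leaf 138831) (.leaf 208727))) (.node (.node (.leaf 234200) (.leaf 14855)) (.node (.leaf 45755) (.leaf 7963))))) (.node (.node (.node (.node (.leaf 54361) (.leaf 107921)) (.node (.leaf 50243) (.leaf 71570))) (.node (.node (.leaf 203302) (.leaf 56760)) (.node (.leaf 201607) (.leaf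 106250)))) (.node (.node (.node (.leaf 64459) (.leaf 161432)) (.node (.leaf 239688) (.leaf 14983))) (.node (.node (.leaf 209848) (.leaf 230040)) (.node (.leaf 11161) (.leaf 8090)))))) (.node (.node (.node (.node (.node (.leaf 45658) (.leaf 37191)) (.node (.leaf 38823) (.leaf 231896))) (.node (.node (.leaf 64299) (.leaf 112689)) (.node (.leaf 106378) (.leaf 239784)))) (.node (.node (.node (.leaf 94168) (.leaf 152760)) (.node (.leaf 50339) (.leaf 201479))) (.node (.node (.leaf 203462) (.leaf 65335)) (.node (.leaf 140853) (.leaf 27400))))) (.node (.node (.node (.node (.leaf 16392) (.leaf 111891)) (.node (.leaf 6412) (.leaf 80045))) (.node (.node (.leaf 184391) (.leaf 111915)) (.node (.leaf 98258) (.leaf 195401)))) (.node (.node (.node (.leaf 179782) (.leaf 16520)) (.node (.leaf 27528) (.leaf 6540))) (.node (.node (.leaf 133719) (.leaf 164439)) (.node (.leaf 112020) (.leaf 141014)))))))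

/-- A suborbit and a mover, part 162. -/
def redCodePart162 : Janko1.Tree ℕ := (.node (.node (.node (.node (.node (.node (.leaf 139671) (.leaf 93005)) (.node (.leaf 112075) (.leaf 64049))) (.node (.node (.leaf 151256) (.leaf 179878)) (.node (.leaf 195497) (.leaf 64977)))) (.node (.node (.node (.leaf 184487) (.leaf 140504)) (.node (.leaf 89137) (.leaf 90577))) (.node (.node (.leaf 71992) (.leaf 173734)) (.node (.leaf 174151) (.leaf 235400))))) (.node (.node (.node (.node (.leaf 90314) (.leaf 156558)) (.node (.leaf 102091) (.leaf 14851))) (.node (.node (.leaf 82697) (.leaf 64550)) (.node (.leaf 152655) (.leaf 75664)))) (.node (.node (.node (.leaf 128411) (.leaf 246551)) (.node (.leaf 267576) (.leaf 191960))) (.node (.node (.leaf 196148) (.leaf 14979)) (.node (.leaf 101931) (.leaf 90154)))))) (.node (.node (.node (.node (.node (.leaf 101176) (.leaf 82392)) (.node (.leaf 145432) (.leaf 58285))) (.node (.node (.leaf 235272) (.leaf 174247)) (.node (.leaf 173638) (.leaf 224792)))) (.node (.node (.node (.leaf 196307) (.leaf 119856)) (.node (.leaf 89487)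 (.leaf 64710))) (.node (.node (.leaf 82825) (.leaf 258264)) (.node (.leaf 269880) (.leaf 128282))))) (.node (.node (.node (.node (.leaf 151087) (.leaf 13591)) (.node (.leaf 211639) (.leaf 42169))) (.node (.node (.leaf 31578) (.leaf 5017)) (.node (.leaf 46010) (.leaf 6042)))) (.node (.node (.node (.leaf 31579) (.leaf 228755)) (.node (.leaf 228756) (.leaf 107914))) (.node (.node (.leaf 199299) (.leaf 204835)) (.node (.leaf 71563) (.leaf 98637)))))))

/-- A suborbit and a mover, part 163. -/
def redCodePart163 : Janko1.Tree ℕ := (.node (.node (.node (.node (.node (.node (.leaf 106257) (.leaf 112849)) (.node (.leaf 112842) (.leaf 164014))) (.node (.node (.leaf 64466) (.leaf 228627)) (.node (.leaf 228628) (.leaf 31674)))) (.node (.node (.node (.leaf 5915) (.leaf 45915)) (.node (.leaf 42073) (.leaf 31675))) (.node (.node (.leaf 53433) (.leaf 151247)) (.node (.leaf 138927) (.leaf 72880))))) (.node (.node (.node (.node (.leaf 64306) (.leaf 163918)) (.node (.leaf 112682) (.leaf 106385))) (.node (.node (.leaf 98733) (.leaf 71435)) (.node (.leaf 71442)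 (.leaf 204995)))) (.node (.node (.node (.leaf 199171) (.leaf 107793)) (.node (.leaf 107786) (.leaf 145559))) (.node (.node (.leaf 137815) (.leaf 100499)) (.node (.leaf 100500) (.leaf 140854)))))) (.node (.node (.node (.node (.node (.leaf 111892) (.leaf 64817)) (.node (.leaf 64810) (.leaf 86478))) (.node (.node (.leaf 76334) (.leaf 64209)) (.node (.leaf 64202) (.leaf 111922)))) (.node (.node (.node (.leaf 93101) (.leaf 98251)) (.node (.leaf 70455) (.leaf 149655))) (.node (.node (.leaf 78519) (.leaf 127639)) (.node (.leaf 112019) (.leaf 141013))))) (.node (.node (.node (.node (.leaf 100371) (.leaf 100372)) (.node (.leaf 125271) (.leaf 57399))) (.node (.node (.leaf 98091) (.leaf 98098)) (.node (.leaf 112082) (.leaf 64042)))) (.node (.node (.node (.leaf 76494) (.leaf 86318)) (.node (.leaf 79949) (.leaf 64970))) (.node (.node (.leaf 89130) (.leaf 59565)) (.node (.leaf 58189) (.leaf 90570)))))))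

/-- A suborbit and a mover, part 164. -/
def redCodePart164 : Janko1.Tree ℕ := (.node (.node (.node (.node (.node (.node (.leaf 90321) (.leaf 102098)) (.node (.leaf 65187) (.leaf 62275))) (.node (.node (.leaf 71065) (.leaf 59546)) (.node (.leaf 258103) (.leaf 258903)))) (.node (.node (.node (.leaf 65327) (.leaf 89359)) (.node (.leaf 120016) (.leaf 196147))) (.node (.node (.leaf 62371) (.leaf 65091)) (.node (.leaf 101938) (.leaf 156430))))) (.node (.node (.node (.node (.leaf 90161) (.leaf 90417)) (.node (.leaf 90410) (.leaf 59469))) (.node (.node (.leaf 89297) (.leaf 89290)) (.node (.leaf 196308) (.leaf 65487)))) (.node (.node (.node (.leaf 59419) (.leaf 129721)) (.node (.leaf 75536) (.leaf 152751))) (.node (.node (.leaf 29111) (.leaf 29112)) (.node (.leaf 230168) (.leaf 17414)))))) (.node (.node (.node (.node (.node (.leaf 228500) (.leaf 29015)) (.node (.leaf 29016) (.leaf 209752))) (.node (.node (.leaf 204071) (.leaf 50245)) (.node (.leaf 242088) (.leaf 137169)))) (.node (.node (.node (.leaf 185801) (.leaf 97966)) (.node (.leaf 13463) (.leaf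 29527))) (.node (.node (.leaf 6680) (.leaf 234040)) (.node (.leaf 72368) (.leaf 17542))))) (.node (.node (.node (.node (.leaf 228371) (.leaf 165394)) (.node (.leaf 158386) (.leaf 185641))) (.node (.node (.leaf 50341) (.leaf 131281)) (.node (.leaf 241992) (.leaf 115246)))) (.node (.node (.node (.leaf 204231) (.leaf 26373)) (.node (.leaf 152407) (.leaf 6678))) (.node (.node (.leaf 16645) (.leaf 17413)) (.node (.leaf 26262) (.leaf 35461)))))))

/-- A suborbit and a mover, part 165. -/
def redCodePart165 : Janko1.Tree ℕ := (.node (.node (.node (.node (.node (.node (.leaf 145303) (.leaf 27413)) (.node (.leaf 142549) (.leaf 51720))) (.node (.node (.leaf 54019) (.leaf 146994)) (.node (.leaf 114776) (.leaf 142221)))) (.node (.node (.node (.leaf 51592) (.leaf 182084)) (.node (.leaf 63320) (.leaf 57553))) (.node (.node (.leaf 27542) (.leaf 142390)) (.node (.leaf 26133) (.leaf 35333))))) (.node (.node (.node (.node (.leaf 6805) (.leaf 16773)) (.node (.leaf 17541) (.leaf 26501))) (.node (.node (.leaf 51464) (.leaf 96206)) (.node (.leaf 182180) (.leaf 165041))))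 (.node (.node (.node (.leaf 51848) (.leaf 54147)) (.node (.leaf 68397) (.leaf 133592))) (.node (.node (.leaf 12808) (.leaf 196100)) (.node (.leaf 173731) (.leaf 144298)))))) (.node (.node (.node (.node (.node (.leaf 71480) (.leaf 236808)) (.node (.leaf 194615) (.leaf 173528))) (.node (.node (.leaf 66246) (.leaf 117072)) (.node (.leaf 271319) (.leaf 247320)))) (.node (.node (.node (.leaf 273848) (.leaf 173780)) (.node (.leaf 77351) (.leaf 62409))) (.node (.node (.leaf 61390) (.leaf 125906)) (.node (.leaf 236936) (.leaf 78385))))) (.node (.node (.node (.node (.leaf 144202) (.leaf 12936)) (.node (.leaf 196228) (.leaf 173635))) (.node (.node (.leaf 173619) (.leaf 77511)) (.node (.leaf 62249) (.leaf 259639)))) (.node (.node (.node (.leaf 171735) (.leaf 196312)) (.node (.leaf 66086) (.leaf 29783))) (.node (.node (.leaf 5143) (.leaf 145295)) (.node (.leaf 228499) (.leaf 72272)))))))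

/-- A suborbit and a mover, part 166. -/
def redCodePart166 : Janko1.Tree ℕ := (.node (.node (.node (.node (.node (.node (.leaf 5271) (.leaf 29879)) (.node (.leaf 153805) (.leaf 115406))) (.node (.node (.leaf 131121) (.leaf 131114)) (.node (.leaf 139213) (.leaf 158283)))) (.node (.node (.node (.leaf 158290) (.leaf 137162)) (.node (.leaf 165515) (.leaf 165522))) (.node (.node (.leaf 208567) (.leaf 211799)) (.node (.leaf 6679) (.leaf 28087))))) (.node (.node (.node (.node (.leaf 228372) (.leaf 145167)) (.node (.leaf 165387) (.leaf 97870))) (.node (.node (.leaf 158379) (.leaf 137009)) (.node (.leaf 137002) (.leaf 131274)))) (.node (.node (.node (.leaf 139053) (.leaf 153645)) (.node (.leaf 26389) (.leaf 26390))) (.node (.node (.leaf 86711) (.leaf 132759)) (.node (.leaf 6677) (.leaf 6668)))))) (.node (.node (.node (.node (.node (.leaf 26261) (.leaf 138071)) (.node (.leaf 65591) (.leaf 27414))) (.node (.node (.leaf 142550) (.leaf 180643)) (.node (.leaf 185923) (.leaf 146987)))) (.node (.node (.node (.leaf 164945) (.leaf 164938)) (.node (.leaf 96046)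 (.leaf 53892))) (.node (.node (.leaf 185252) (.leaf 76493)) (.node (.leaf 57546) (.leaf 27541))))) (.node (.node (.node (.node (.leaf 142389) (.leaf 26134)) (.node (.leaf 6806) (.leaf 6796))) (.node (.node (.leaf 26517) (.leaf 26518)) (.node (.leaf 76333) (.leaf 57393)))) (.node (.node (.node (.leaf 57386) (.leaf 185156)) (.node (.leaf 53764) (.leaf 165034))) (.node (.node (.leaf 142093) (.leaf 186019)) (.node (.leaf 180547) (.leaf 147147)))))))

/-- A suborbit and a mover, part 167. -/
def redCodePart167 : Janko1.Tree ℕ := (.node (.node (.node (.node (.node (.node (.leaf 147154) (.leaf 156045)) (.node (.leaf 12036) (.leaf 198020))) (.node (.node (.leaf 12035) (.leaf 171075)) (.node (.leaf 78545) (.leaf 78538)))) (.node (.node (.node (.leaf 144305) (.leaf 61230)) (.node (.leaf 125739) (.leaf 125746))) (.node (.node (.leaf 174807) (.leaf 215703)) (.node (.leaf 245399) (.leaf 272311))))) (.node (.node (.node (.node (.leaf 197843) (.leaf 197844)) (.node (.leaf 113711) (.leaf 173779))) (.node (.node (.leaf 125899) (.leaf 78378)) (.node (.leaf 144209)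 (.leaf 197892)))) (.node (.node (.node (.leaf 12164) (.leaf 171171)) (.node (.leaf 12163) (.leaf 155917))) (.node (.node (.leaf 68557) (.leaf 173620)) (.node (.leaf 261207) (.leaf 248087)))))) (.node (.node (.node (.node (.node (.leaf 218775) (.leaf 195383)) (.node (.leaf 113871) (.leaf 197683))) (.node (.node (.leaf 197684) (.leaf 117168)) (.node (.leaf 29784) (.leaf 5144)))) (.node (.node (.node (.leaf 63632) (.leaf 11931)) (.node (.leaf 31835) (.leaf 229143))) (.node (.node (.leaf 5272) (.leaf 29880)) (.node (.leaf 149711) (.leaf 103822))))) (.node (.node (.node (.node (.leaf 157611) (.leaf 123288)) (.node (.leaf 131729) (.leaf 27203))) (.node (.node (.leaf 92632) (.leaf 59352)) (.node (.leaf 105230) (.leaf 152109)))) (.node (.node (.node (.leaf 246469) (.leaf 161709)) (.node (.leaf 199175) (.leaf 100824))) (.node (.node (.leaf 28088) (.leaf 29528)) (.node (.leaf 31930) (.leaf 11802)))))))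

/-- A suborbit and a mover, part 168. -/
def redCodePart168 : Janko1.Tree ℕ := (.node (.node (.node (.node (.node (.node (.leaf 233015) (.leaf 199303)) (.node (.leaf 246309) (.leaf 27299))) (.node (.node (.leaf 157515) (.leaf 97940)) (.node (.leaf 148887) (.leaf 26245)))) (.node (.node (.node (.leaf 27397) (.leaf 101140)) (.node (.leaf 124984) (.leaf 247813))) (.node (.node (.leaf 165643) (.leaf 149720)) (.node (.leaf 182083) (.leaf 158538))))) (.node (.node (.node (.node (.leaf 186023) (.leaf 27525)) (.node (.leaf 130967) (.leaf 101267))) (.node (.node (.leaf 26117) (.leaf 57143)) (.node (.leaf 69943) (.leaf 97811)))) (.node (.node (.node (.leaf 158634) (.leaf 154258)) (.node (.leaf 83864) (.leaf 185927))) (.node (.node (.leaf 182179) (.leaf 83758)) (.node (.leaf 56408) (.leaf 165771)))))) (.node (.node (.node (.node (.node (.leaf 83245) (.leaf 247941)) (.node (.leaf 60718) (.leaf 187817))) (.node (.node (.leaf 125003) (.leaf 127922)) (.node (.leaf 99640) (.leaf 59342)))) (.node (.node (.node (.leaf 154381) (.leaf 174246)) (.node (.leaf 81969)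 (.leaf 172711))) (.node (.node (.leaf 195384) (.leaf 79366)) (.node (.leaf 173624) (.leaf 129328))))) (.node (.node (.node (.node (.leaf 174643) (.leaf 89353)) (.node (.leaf 272984) (.leaf 131257))) (.node (.node (.leaf 156429) (.leaf 172615)) (.node (.leaf 174150) (.leaf 125099)))) (.node (.node (.node (.leaf 100664) (.leaf 81617)) (.node (.leaf 187721) (.leaf 89481))) (.node (.node (.leaf 67993) (.leaf 174808)) (.node (.leaf 191800) (.leaf 174804)))))))

/-- A suborbit and a mover, part 169. -/
def redCodePart169 : Janko1.Tree ℕ := (.node (.node (.node (.node (.node (.node (.leaf 79494) (.leaf 273751)) (.node (.leaf 11289) (.leaf 30394))) (.node (.node (.leaf 55129) (.leaf 5914)) (.node (.leaf 138319) (.leaf 51383)))) (.node (.node (.node (.leaf 233431) (.leaf 60624)) (.node (.leaf 157618) (.leaf 131722))) (.node (.node (.leaf 83459) (.leaf 81827)) (.node (.leaf 119502) (.leaf 60464))))) (.node (.node (.node (.node (.leaf 149551) (.leaf 138415)) (.node (.leaf 6043) (.leaf 11417))) (.node (.node (.leaf 30299) (.leaf 54617)) (.node (.leaf 51031)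 (.leaf 229527)))) (.node (.node (.node (.leaf 63504) (.leaf 119342)) (.node (.leaf 161613) (.leaf 152269))) (.node (.node (.leaf 105358) (.leaf 81731)) (.node (.leaf 83587) (.leaf 131601)))))) (.node (.node (.node (.node (.node (.leaf 131594) (.leaf 157522)) (.node (.leaf 103694) (.leaf 97939))) (.node (.node (.leaf 147509) (.leaf 147510)) (.node (.leaf 135255) (.leaf 69175)))) (.node (.node (.node (.leaf 28556) (.leaf 101139)) (.node (.leaf 86830) (.leaf 94670))) (.node (.node (.leaf 83405) (.leaf 165650)) (.node (.leaf 83918) (.leaf 53891))))) (.node (.node (.node (.node (.leaf 185251) (.leaf 154123)) (.node (.leaf 154130) (.leaf 158545))) (.node (.node (.leaf 161111) (.leaf 76471)) (.node (.leaf 101268) (.leaf 28428)))) (.node (.node (.node (.leaf 139159) (.leaf 125783)) (.node (.leaf 149399) (.leaf 133975))) (.node (.node (.leaf 147669) (.leaf 147670)) (.node (.leaf 97812) (.leaf 158641)))))))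

/-- A suborbit and a mover, part 170. -/
def redCodePart170 : Janko1.Tree ℕ := (.node (.node (.node (.node (.node (.node (.leaf 154251) (.leaf 185155)) (.node (.leaf 53763) (.leaf 165778))) (.node (.node (.leaf 94510) (.leaf 86990)) (.node (.leaf 81457) (.leaf 81450)))) (.node (.node (.node (.leaf 125010) (.leaf 127915)) (.node (.leaf 81962) (.leaf 156557))) (.node (.node (.leaf 81935) (.leaf 121392)) (.node (.leaf 64719) (.leaf 174644))))) (.node (.node (.node (.node (.leaf 125978) (.leaf 57627)) (.node (.leaf 134863) (.leaf 82129))) (.node (.node (.leaf 82122) (.leaf 154509)) (.node (.leaf 59182) (.leaf 127819)))) (.node (.node (.node (.leaf 127826) (.leaf 125106)) (.node (.leaf 81610) (.leaf 60878))) (.node (.node (.leaf 134703) (.leaf 57754)) (.node (.leaf 126107) (.leaf 174803)))))) (.node (.node (.node (.node (.node (.leaf 64559) (.leaf 129488)) (.node (.leaf 121552) (.leaf 246039))) (.node (.node (.leaf 267575) (.leaf 82063)) (.node (.leaf 210008) (.leaf 231736)))) (.node (.node (.node (.leaf 36422) (.leaf 43353)) (.node (.leaf 34982)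 (.leaf 45242))) (.node (.node (.leaf 228759) (.leaf 230968)) (.node (.leaf 229912) (.leaf 200070))))) (.node (.node (.node (.node (.leaf 136234) (.leaf 245541)) (.node (.leaf 36420) (.leaf 56235))) (.node (.node (.leaf 67224) (.leaf 65586)) (.node (.leaf 134929) (.leaf 181001)))) (.node (.node (.node (.leaf 64272) (.leaf 229400)) (.node (.leaf 208728) (.leaf 149967))) (.node (.node (.leaf 34886) (.leaf 45147)) (.node (.leaf 36518) (.leaf 8729)))))))

/-- A suborbit and a mover, part 171. -/
def redCodePart171 : Janko1.Tree ℕ := (.node (.node (.node (.node (.node (.node (.leaf 52663) (.leaf 59440)) (.node (.leaf 181129) (.leaf 55992))) (.node (.node (.leaf 56139) (.leaf 88760)) (.node (.leaf 36516) (.leaf 163736)))) (.node (.node (.node (.leaf 136394) (.leaf 245701)) (.node (.leaf 55474) (.leaf 199942))) (.node (.node (.leaf 35589) (.leaf 28684)) (.node (.leaf 126359) (.leaf 100243))))) (.node (.node (.node (.node (.leaf 151510) (.leaf 36613)) (.node (.leaf 56631) (.leaf 54020))) (.node (.node (.leaf 182182) (.leaf 66762)) (.node (.leaf 140075)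 (.leaf 129592)))) (.node (.node (.node (.leaf 146386) (.leaf 247173)) (.node (.leaf 139736) (.leaf 205481))) (.node (.node (.leaf 36741) (.leaf 151349)) (.node (.leaf 100116) (.leaf 79031)))))) (.node (.node (.node (.node (.node (.leaf 35717) (.leaf 28812)) (.node (.leaf 160855) (.leaf 92238))) (.node (.node (.leaf 205385) (.leaf 151309)) (.node (.leaf 247045) (.leaf 140235)))) (.node (.node (.node (.leaf 66602) (.leaf 88472)) (.node (.leaf 182086) (.leaf 54148))) (.node (.node (.leaf 139314) (.leaf 121688)) (.node (.leaf 125490) (.leaf 144977))))) (.node (.node (.node (.node (.leaf 81624) (.leaf 126674)) (.node (.leaf 173639) (.leaf 144714))) (.node (.node (.leaf 170822) (.leaf 188073)) (.node (.leaf 261208) (.leaf 197848)))) (.node (.node (.node (.leaf 173523) (.leaf 244632)) (.node (.leaf 65318) (.leaf 271159))) (.node (.node (.leaf 174648) (.leaf 74000)) (.node (.leaf 63879) (.leaf 131258)))))))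

/-- A suborbit and a mover, part 172. -/
def redCodePart172 : Janko1.Tree ℕ := (.node (.node (.node (.node (.node (.node (.leaf 187977) (.leaf 144810)) (.node (.leaf 170918) (.leaf 173735))) (.node (.node (.leaf 60590) (.leaf 82648)) (.node (.leaf 58446) (.leaf 63751)))) (.node (.node (.node (.leaf 131163) (.leaf 65478)) (.node (.leaf 259928) (.leaf 98895))) (.node (.node (.leaf 91151) (.leaf 173364)) (.node (.leaf 148400) (.leaf 59600))))) (.node (.node (.node (.node (.leaf 8218) (.leaf 44379)) (.node (.leaf 8219) (.leaf 4889))) (.node (.node (.leaf 149807) (.leaf 233783)) (.node (.leaf 52311) (.leaf 140463)))) (.node (.node (.node (.leaf 64400) (.leaf 55371)) (.node (.leaf 55378) (.leaf 136241))) (.node (.node (.leaf 135300) (.leaf 136484)) (.node (.leaf 145741) (.leaf 56242)))))) (.node (.node (.node (.node (.node (.leaf 114478) (.leaf 65579)) (.node (.leaf 134922) (.leaf 140367))) (.node (.node (.leaf 41817) (.leaf 8346)) (.node (.leaf 44474) (.leaf 8347)))) (.node (.node (.node (.leaf 234199) (.leaf 228375)) (.node (.leaf 135057) (.leaf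 135050))) (.node (.node (.leaf 65739) (.leaf 65746)) (.node (.leaf 114638) (.leaf 56146))))) (.node (.node (.node (.node (.leaf 145837) (.leaf 136644)) (.node (.leaf 135172) (.leaf 136401))) (.node (.node (.leaf 55467) (.leaf 161367)) (.node (.leaf 82359) (.leaf 100244)))) (.node (.node (.node (.leaf 151509) (.leaf 138903)) (.node (.leaf 128343) (.leaf 98195))) (.node (.node (.leaf 98196) (.leaf 139467)) (.node (.leaf 139474) (.leaf 180644)))))))

/-- A suborbit and a mover, part 173. -/
def redCodePart173 : Janko1.Tree ℕ := (.node (.node (.node (.node (.node (.node (.leaf 185924) (.leaf 78766)) (.node (.leaf 66769) (.leaf 140082))) (.node (.node (.leaf 146379) (.leaf 151437)) (.node (.leaf 92334) (.leaf 98067)))) (.node (.node (.node (.leaf 98068) (.leaf 151350)) (.node (.leaf 100115) (.leaf 127895))) (.node (.node (.leaf 165719) (.leaf 76727)) (.node (.leaf 131223) (.leaf 146219))))) (.node (.node (.node (.node (.leaf 146226) (.leaf 140242)) (.node (.leaf 66609) (.leaf 78670))) (.node (.node (.leaf 186020) (.leaf 180548)) (.node (.leaf 139307)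 (.leaf 125483)))) (.node (.node (.node (.leaf 144970) (.leaf 58542)) (.node (.leaf 60494) (.leaf 126667))) (.node (.node (.leaf 70093) (.leaf 144721)) (.node (.leaf 68909) (.leaf 148304)))))) (.node (.node (.node (.node (.node (.leaf 173524) (.leaf 91279)) (.node (.leaf 98991) (.leaf 78128))) (.node (.node (.leaf 272215) (.leaf 245271)) (.node (.leaf 69403) (.leaf 125209)))) (.node (.node (.node (.leaf 69069) (.leaf 144817)) (.node (.leaf 69933) (.leaf 126507))) (.node (.node (.leaf 126514) (.leaf 145073)) (.node (.leaf 145066) (.leaf 125643))))) (.node (.node (.node (.node (.leaf 125650) (.leaf 57753)) (.node (.leaf 69530) (.leaf 74128))) (.node (.node (.leaf 78288) (.leaf 173363)) (.node (.leaf 139951) (.leaf 54457)))) (.node (.node (.node (.leaf 211635) (.leaf 31834)) (.node (.leaf 13335) (.leaf 64528))) (.node (.node (.leaf 145935) (.leaf 72112)) (.node (.leaf 186409) (.leaf 154296)))))))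

/-- A suborbit and a mover, part 174. -/
def redCodePart174 : Janko1.Tree ℕ := (.node (.node (.node (.node (.node (.node (.leaf 247560) (.leaf 201478)) (.node (.leaf 203463) (.leaf 204998))) (.node (.node (.leaf 243717) (.leaf 145679)) (.node (.leaf 229271) (.leaf 228631)))) (.node (.node (.node (.leaf 31931) (.leaf 211540)) (.node (.leaf 43449) (.leaf 149039))) (.node (.node (.leaf 208823) (.leaf 243845)) (.node (.leaf 204838) (.leaf 203303))))) (.node (.node (.node (.node (.leaf 124056) (.leaf 201606)) (.node (.leaf 71096) (.leaf 247688))) (.node (.node (.leaf 186569) (.leaf 70296)) (.node (.leaf 100883) (.leaf 128855)))) (.node (.node (.node (.leaf 115091) (.leaf 143414)) (.node (.leaf 144854) (.leaf 140598))) (.node (.node (.leaf 130455) (.leaf 148021)) (.node (.leaf 86199) (.leaf 240517)))))) (.node (.node (.node (.node (.node (.leaf 55640) (.leaf 191913)) (.node (.leaf 174600) (.leaf 182183))) (.node (.node (.leaf 241669) (.leaf 120920)) (.node (.leaf 183816) (.leaf 186022)))) (.node (.node (.node (.leaf 148182) (.leaf 146327)) (.node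 (.leaf 83639) (.leaf 140757))) (.node (.node (.leaf 144693) (.leaf 143573)) (.node (.leaf 114964) (.leaf 136535))))) (.node (.node (.node (.node (.leaf 101012) (.leaf 185926)) (.node (.leaf 183944) (.leaf 116312))) (.node (.node (.leaf 128056) (.leaf 241797)) (.node (.leaf 182087) (.leaf 174728)))) (.node (.node (.node (.leaf 191817) (.leaf 65624)) (.node (.leaf 131128) (.leaf 240389))) (.node (.node (.leaf 237064) (.leaf 172455)) (.node (.leaf 171078) (.leaf 146200)))))))

/-- A suborbit and a mover, part 175. -/
def redCodePart175 : Janko1.Tree ℕ := (.node (.node (.node (.node (.node (.node (.leaf 170917) (.leaf 172613)) (.node (.leaf 235656) (.leaf 189257))) (.node (.node (.leaf 133080) (.leaf 62255)) (.node (.leaf 119247) (.leaf 66255)))) (.node (.node (.node (.leaf 258100) (.leaf 66576)) (.node (.leaf 215572) (.leaf 79503))) (.node (.node (.leaf 113840) (.leaf 79312)) (.node (.leaf 73528) (.leaf 132056))))) (.node (.node (.node (.node (.leaf 189353) (.leaf 235528)) (.node (.leaf 145688) (.leaf 172709))) (.node (.node (.leaf 170821) (.leaf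 73016)) (.node (.leaf 171174) (.leaf 172359)))) (.node (.node (.node (.leaf 237192) (.leaf 224791)) (.node (.leaf 215699) (.leaf 194775))) (.node (.node (.leaf 258259) (.leaf 77360)) (.node (.leaf 149199) (.leaf 71600)))))) (.node (.node (.node (.node (.node (.leaf 45914) (.leaf 30395)) (.node (.leaf 208723) (.leaf 208724))) (.node (.node (.leaf 211636) (.leaf 45499)) (.node (.leaf 41913) (.leaf 211895)))) (.node (.node (.node (.leaf 208471) (.leaf 57648)) (.node (.leaf 145807) (.leaf 233271))) (.node (.node (.leaf 51287) (.leaf 52407)) (.node (.leaf 233943) (.leaf 72016))))) (.node (.node (.node (.node (.leaf 146063) (.leaf 64656)) (.node (.leaf 57808) (.leaf 53689))) (.node (.node (.leaf 45402) (.leaf 211539)) (.node (.leaf 208819) (.leaf 208820)))) (.node (.node (.node (.leaf 30298) (.leaf 46011)) (.node (.leaf 71504) (.leaf 139855))) (.node (.node (.leaf 211543) (.leaf 13719)) (.node (.leaf 142293) (.leaf 142294)))))))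

/-- A suborbit and a mover, part 176. -/
def redCodePart176 : Janko1.Tree ℕ := (.node (.node (.node (.node (.node (.node (.leaf 100884) (.leaf 56375)) (.node (.leaf 138391) (.leaf 115092))) (.node (.node (.leaf 143413) (.leaf 144853)) (.node (.leaf 110611) (.leaf 110612)))) (.node (.node (.node (.leaf 140597) (.leaf 159319)) (.node (.leaf 78263) (.leaf 97043))) (.node (.node (.leaf 97044) (.leaf 29708)) (.node (.leaf 148022) (.leaf 132247))))) (.node (.node (.node (.node (.leaf 152151) (.leaf 148181)) (.node (.leaf 29836) (.leaf 136279))) (.node (.node (.leaf 66103) (.leaf 133527)) (.node (.leaf 153943) (.leaf 97171)))) (.node (.node (.node (.leaf 97172) (.leaf 140758)) (.node (.leaf 110739) (.leaf 110740))) (.node (.node (.leaf 144694) (.leaf 143574)) (.node (.leaf 114963) (.leaf 66359)))))) (.node (.node (.node (.node (.node (.leaf 146071) (.leaf 101011)) (.node (.leaf 142133) (.leaf 142134))) (.node (.node (.leaf 216723) (.leaf 216724)) (.node (.leaf 77520) (.leaf 258099)))) (.node (.node (.node (.leaf 215571) (.leaf 149936)) (.node (.leaf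 154287) (.leaf 79152))) (.node (.node (.leaf 172343) (.leaf 196311)) (.node (.leaf 154191) (.leaf 113744))))) (.node (.node (.node (.node (.leaf 79375) (.leaf 149840)) (.node (.leaf 215700) (.leaf 66704))) (.node (.node (.leaf 215575) (.leaf 174647)) (.node (.leaf 258260) (.leaf 66095)))) (.node (.node (.node (.leaf 119087) (.leaf 62415)) (.node (.leaf 216595) (.leaf 216596))) (.node (.node (.leaf 10504) (.leaf 9748)) (.node (.leaf 15109) (.leaf 20053)))))))

/-- A suborbit and a mover, part 177. -/
def redCodePart177 : Janko1.Tree ℕ := (.node (.node (.node (.node (.node (.node (.leaf 38472) (.leaf 79127)) (.node (.leaf 204486) (.leaf 10248))) (.node (.node (.leaf 33108) (.leaf 65972)) (.node (.leaf 49223) (.leaf 98893)))) (.node (.node (.node (.leaf 135985) (.leaf 185897)) (.node (.leaf 10376) (.leaf 33203))) (.node (.node (.leaf 2519) (.leaf 65875)) (.node (.leaf 19374) (.leaf 49319))))) (.node (.node (.node (.node (.leaf 19864) (.leaf 157778)) (.node (.leaf 186057) (.leaf 10632))) (.node (.node (.leaf 9875) (.leaf 15237)) (.node (.leaf 20150)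 (.leaf 38568)))) (.node (.node (.node (.leaf 145080) (.leaf 106129)) (.node (.leaf 66002) (.leaf 204326))) (.node (.node (.leaf 9735) (.leaf 16649)) (.node (.leaf 47767) (.leaf 199512)))))) (.node (.node (.node (.node (.node (.leaf 7448) (.leaf 95824)) (.node (.leaf 4152) (.leaf 63697))) (.node (.node (.leaf 153867) (.leaf 151693)) (.node (.leaf 9479) (.leaf 34192)))) (.node (.node (.node (.leaf 50584) (.leaf 27270)) (.node (.leaf 53658) (.leaf 33549))) (.node (.node (.leaf 51977) (.leaf 51976)) (.node (.leaf 186180) (.leaf 9607))))) (.node (.node (.node (.node (.leaf 40592) (.leaf 27142)) (.node (.leaf 53531) (.leaf 34072))) (.node (.node (.leaf 52105) (.leaf 76750)) (.node (.leaf 52104) (.leaf 95022)))) (.node (.node (.node (.leaf 186276) (.leaf 65880)) (.node (.leaf 9863) (.leaf 9872))) (.node (.node (.leaf 7568) (.leaf 16777)) (.node (.leaf 9880) (.leaf 153995)))))))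

/-- A suborbit and a mover, part 178. -/
def redCodePart178 : Janko1.Tree ℕ := (.node (.node (.node (.node (.node (.node (.leaf 12041) (.leaf 13574)) (.node (.leaf 178244) (.leaf 101902))) (.node (.node (.leaf 114584) (.leaf 247704)) (.node (.leaf 23227) (.leaf 267320)))) (.node (.node (.node (.leaf 88841) (.leaf 174392)) (.node (.leaf 9483) (.leaf 89643))) (.node (.node (.leaf 13317) (.leaf 65062)) (.node (.leaf 215191) (.leaf 198104))))) (.node (.node (.node (.node (.leaf 9611) (.leaf 17208)) (.node (.leaf 117720) (.leaf 89803))) (.node (.node (.leaf 13445) (.leaf 149969)) (.node (.leaf 69464) (.leaf 248472)))) (.node (.node (.node (.leaf 144655) (.leaf 65222)) (.node (.leaf 119599) (.leaf 9874))) (.node (.node (.leaf 12169) (.leaf 13702)) (.node (.leaf 178340) (.leaf 123150)))))) (.node (.node (.node (.node (.node (.leaf 23130) (.leaf 88969)) (.node (.leaf 153679) (.leaf 9747))) (.node (.node (.leaf 20054) (.leaf 71863)) (.node (.leaf 110807) (.leaf 18606)))) (.node (.node (.node (.leaf 106001) (.leaf 105994)) (.node (.leaf 161965) (.leaf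 65835))) (.node (.node (.leaf 65842) (.leaf 33107)) (.node (.leaf 10261) (.leaf 10262))))) (.node (.node (.node (.node (.leaf 65971) (.leaf 19278)) (.node (.leaf 157867) (.leaf 157874))) (.node (.node (.leaf 135978) (.leaf 33204)) (.node (.leaf 19511) (.leaf 19863)))) (.node (.node (.node (.leaf 10389) (.leaf 10390)) (.node (.leaf 65876) (.leaf 98989))) (.node (.node (.leaf 157771) (.leaf 136145)) (.node (.leaf 136138) (.leaf 9876)))))))

/-- A suborbit and a mover, part 179. -/
def redCodePart179 : Janko1.Tree ℕ := (.node (.node (.node (.node (.node (.node (.leaf 20149) (.leaf 18510)) (.node (.leaf 106122) (.leaf 161869))) (.node (.node (.leaf 65995) (.leaf 9744)) (.node (.leaf 7440) (.leaf 7447)))) (.node (.node (.node (.leaf 48151) (.leaf 33933)) (.node (.leaf 63690) (.leaf 153874))) (.node (.node (.leaf 40464) (.leaf 42779)) (.node (.leaf 44057) (.leaf 76590))))) (.node (.node (.node (.node (.leaf 95182) (.leaf 54276)) (.node (.leaf 181412) (.leaf 34064))) (.node (.node (.leaf 31769) (.leaf 42906)) (.node (.leaf 33677) (.leaf 181316))))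 (.node (.node (.node (.leaf 54404) (.leaf 95920)) (.node (.leaf 33805) (.leaf 63537))) (.node (.node (.leaf 63530) (.leaf 154002)) (.node (.leaf 151565) (.leaf 9739)))))) (.node (.node (.node (.node (.node (.leaf 9746) (.leaf 13572)) (.node (.leaf 178084) (.leaf 123278))) (.node (.node (.leaf 151376) (.leaf 26265)) (.node (.leaf 17370) (.leaf 174291)))) (.node (.node (.node (.leaf 174292) (.leaf 153775)) (.node (.leaf 9490) (.leaf 89650))) (.node (.node (.leaf 127789) (.leaf 149809)) (.node (.leaf 149802) (.leaf 144783))))) (.node (.node (.node (.node (.leaf 109232) (.leaf 194359)) (.node (.leaf 174551) (.leaf 119759))) (.node (.node (.leaf 9618) (.leaf 89810)) (.node (.leaf 127949) (.leaf 149962)))) (.node (.node (.node (.leaf 109136) (.leaf 9867)) (.node (.leaf 177988) (.leaf 13700))) (.node (.node (.leaf 102030) (.leaf 151472)) (.node (.leaf 17211) (.leaf 9881)))))))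

/-- A suborbit and a mover, part 180. -/
def redCodePart180 : Janko1.Tree ℕ := (.node (.node (.node (.node (.node (.node (.leaf 174131) (.leaf 174132)) (.node (.leaf 33875) (.leaf 38469))) (.node (.node (.leaf 37029) (.leaf 40776)) (.node (.leaf 142744) (.leaf 48551)))) (.node (.node (.node (.leaf 112337) (.leaf 48547)) (.node (.leaf 118990) (.leaf 165003))) (.node (.node (.leaf 32691) (.leaf 17928)) (.node (.leaf 144312) (.leaf 71819))))) (.node (.node (.node (.node (.leaf 154317) (.leaf 245029)) (.node (.leaf 32596) (.leaf 18056))) (.node (.node (.leaf 122327) (.leaf 141208)) (.node (.leaf 71691) (.leaf 245189)))) (.node (.node (.node (.leaf 33972) (.leaf 36933)) (.node (.leaf 38565) (.leaf 40872))) (.node (.node (.leaf 65175) (.leaf 48455)) (.node (.leaf 48451) (.leaf 164875)))))) (.node (.node (.node (.node (.node (.leaf 55480) (.leaf 34320)) (.node (.leaf 50200) (.leaf 203352))) (.node (.node (.leaf 187992) (.leaf 124847)) (.node (.leaf 34328) (.leaf 111666)))) (.node (.node (.node (.leaf 139480) (.leaf 26633)) (.node (.leaf 26630) (.leaf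 16390))) (.node (.node (.leaf 191156) (.leaf 7961)) (.node (.leaf 9496) (.leaf 58244))))) (.node (.node (.node (.node (.leaf 186179) (.leaf 55384)) (.node (.leaf 33680) (.leaf 5656))) (.node (.node (.leaf 26761) (.leaf 16518)) (.node (.leaf 26758) (.leaf 45465)))) (.node (.node (.node (.leaf 191059) (.leaf 86062)) (.node (.leaf 58116) (.leaf 87246))) (.node (.node (.leaf 186275) (.leaf 48664)) (.node (.leaf 204983) (.leaf 79277)))))))

/-- A suborbit and a mover, part 181. -/
def redCodePart181 : Janko1.Tree ℕ := (.node (.node (.node (.node (.node (.node (.leaf 76589) (.leaf 158897)) (.node (.leaf 3000) (.leaf 159274))) (.node (.node (.leaf 20122) (.leaf 260568)) (.node (.leaf 272728) (.leaf 77095)))) (.node (.node (.node (.leaf 1080) (.leaf 11785)) (.node (.leaf 120586) (.leaf 16388))) (.node (.node (.leaf 172680) (.leaf 14810)) (.node (.leaf 82185) (.leaf 173016))))) (.node (.node (.node (.node (.leaf 195128) (.leaf 11913)) (.node (.leaf 120714) (.leaf 124974))) (.node (.node (.leaf 16516) (.leaf 126616)) (.node (.leaf 172552) (.leaf 150096))))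 (.node (.node (.node (.leaf 14651) (.leaf 82313)) (.node (.leaf 261048) (.leaf 62927))) (.node (.node (.leaf 16952) (.leaf 102029)) (.node (.leaf 159434) (.leaf 82002)))))) (.node (.node (.node (.node (.node (.leaf 143247) (.leaf 19995)) (.node (.leaf 225304) (.leaf 77255))) (.node (.node (.leaf 73872) (.leaf 33876)) (.node (.leaf 32435) (.leaf 32436)))) (.node (.node (.node (.leaf 31564) (.leaf 112330)) (.node (.leaf 203715) (.leaf 199683))) (.node (.node (.leaf 165010) (.leaf 32692)) (.node (.leaf 9491) (.leaf 9492))))) (.node (.node (.node (.node (.leaf 105653) (.leaf 105654)) (.node (.leaf 152782) (.leaf 71826))) (.node (.node (.leaf 104078) (.leaf 9619)) (.node (.leaf 9620) (.leaf 32595)))) (.node (.node (.node (.leaf 75447) (.leaf 90647)) (.node (.leaf 105557) (.leaf 105558))) (.node (.node (.leaf 71698) (.leaf 152622)) (.node (.leaf 103950) (.leaf 154157)))))))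

/-- A suborbit and a mover, part 182. -/
def redCodePart182 : Janko1.Tree ℕ := (.node (.node (.node (.node (.node (.node (.leaf 32339) (.leaf 32340)) (.node (.leaf 33971) (.leaf 98231))) (.node (.node (.leaf 89943) (.leaf 31660)) (.node (.leaf 199811) (.leaf 203555)))) (.node (.node (.node (.leaf 112177) (.leaf 112170)) (.node (.leaf 164882) (.leaf 118830))) (.node (.node (.leaf 33936) (.leaf 111659)) (.node (.leaf 79181) (.leaf 158801))))) (.node (.node (.node (.node (.leaf 158794) (.leaf 76749)) (.node (.leaf 33552) (.leaf 9488))) (.node (.node (.leaf 191155) (.leaf 42778)) (.node (.leaf 9115) (.leaf 38148)))) (.node (.node (.node (.leaf 72196) (.leaf 86222)) (.node (.leaf 54275) (.leaf 181411))) (.node (.node (.leaf 87086) (.leaf 9616)) (.node (.leaf 8986) (.leaf 42907)))))) (.node (.node (.node (.node (.node (.leaf 191060) (.leaf 72324)) (.node (.leaf 38276) (.leaf 181315))) (.node (.node (.leaf 54403) (.leaf 34448)) (.node (.leaf 33808) (.leaf 124751)))) (.node (.node (.node (.leaf 199255) (.leaf 50327)) (.node (.leaf 111819) (.leaf 111826)))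 (.node (.node (.leaf 158890) (.leaf 101901)) (.node (.leaf 103309) (.leaf 82091))))) (.node (.node (.node (.node (.leaf 82098) (.leaf 159281)) (.node (.leaf 443) (.leaf 13849))) (.node (.node (.leaf 143119) (.leaf 73744)) (.node (.leaf 125134) (.leaf 120593)))) (.node (.node (.node (.leaf 127437) (.leaf 129668)) (.node (.leaf 130052) (.leaf 19739))) (.node (.node (.leaf 40793) (.leaf 150192)) (.node (.leaf 173011) (.leaf 173012)))))))

/-- A suborbit and a mover, part 183. -/
def redCodePart183 : Janko1.Tree ℕ := (.node (.node (.node (.node (.node (.node (.leaf 62767) (.leaf 120721)) (.node (.leaf 130180) (.leaf 129540))) (.node (.node (.leaf 127277) (.leaf 13977)) (.node (.leaf 19866) (.leaf 172851)))) (.node (.node (.node (.leaf 172852) (.leaf 103181)) (.node (.leaf 159441) (.leaf 81995))) (.node (.node (.leaf 39513) (.leaf 474)) (.node (.leaf 20119) (.leaf 112277))))) (.node (.node (.node (.node (.leaf 68404) (.leaf 164270)) (.node (.leaf 20120) (.leaf 134410))) (.node (.node (.leaf 243461) (.leaf 198919)) (.node (.leaf 10199) (.leaf 37701))))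 (.node (.node (.node (.leaf 14856) (.leaf 19000)) (.node (.leaf 115149) (.leaf 204323))) (.node (.node (.leaf 116686) (.leaf 55890)) (.node (.leaf 37797) (.leaf 14984)))))) (.node (.node (.node (.node (.node (.leaf 120471) (.leaf 204483)) (.node (.leaf 70040) (.leaf 20535))) (.node (.node (.leaf 68563) (.leaf 112150)) (.node (.leaf 72594) (.leaf 20536)))) (.node (.node (.node (.leaf 98126) (.leaf 199047)) (.node (.leaf 134538) (.leaf 243589))) (.node (.node (.leaf 41232) (.leaf 12696)) (.node (.leaf 48152) (.leaf 47768))))) (.node (.node (.node (.node (.leaf 93613) (.leaf 52361)) (.node (.leaf 183560) (.leaf 57290))) (.node (.node (.leaf 186279) (.leaf 41104)) (.node (.leaf 27273) (.leaf 187731)))) (.node (.node (.node (.leaf 11034) (.leaf 39864)) (.node (.leaf 146731) (.leaf 247301))) (.node (.node (.leaf 139730) (.leaf 48920)) (.node (.leaf 27145) (.leaf 11163)))))))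

/-- A suborbit and a mover, part 184. -/
def redCodePart184 : Janko1.Tree ℕ := (.node (.node (.node (.node (.node (.node (.leaf 187828) (.leaf 18232)) (.node (.leaf 80205) (.leaf 72753))) (.node (.node (.leaf 130872) (.leaf 146891)) (.node (.leaf 247429) (.leaf 5784)))) (.node (.node (.node (.leaf 203095) (.leaf 52233)) (.node (.leaf 41144) (.leaf 57130))) (.node (.node (.leaf 186183) (.leaf 183688)) (.node (.leaf 120849) (.leaf 118744))))) (.node (.node (.node (.node (.leaf 121489) (.leaf 143307)) (.node (.leaf 179623) (.leaf 81545))) (.node (.node (.leaf 63367) (.leaf 62921)) (.node (.leaf 126490) (.leaf 119512)))) (.node (.node (.node (.leaf 127022) (.leaf 13318)) (.node (.leaf 101645) (.leaf 149713))) (.node (.node (.leaf 173576) (.leaf 17155)) (.node (.leaf 118191) (.leaf 79911)))))) (.node (.node (.node (.node (.node (.leaf 9497) (.leaf 66502)) (.node (.leaf 261720) (.leaf 77264))) (.node (.node (.leaf 13446) (.leaf 17283)) (.node (.leaf 92952) (.leaf 173704)))) (.node (.node (.node (.leaf 26521) (.leaf 258520)) (.node (.leaf 80071) (.leaf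 66342))) (.node (.node (.leaf 245783) (.leaf 118232)) (.node (.leaf 179527) (.leaf 143147))))) (.node (.node (.node (.node (.leaf 108464) (.leaf 81417)) (.node (.leaf 62761) (.leaf 126619))) (.node (.node (.leaf 63239) (.leaf 196567)) (.node (.leaf 10711) (.leaf 18487)))) (.node (.node (.node (.leaf 112278) (.leaf 68403)) (.node (.leaf 72459) (.leaf 72466))) (.node (.node (.leaf 134417) (.leaf 98222)) (.node (.leaf 18999) (.leaf 20375)))))))

/-- A suborbit and a mover, part 185. -/
def redCodePart185 : Janko1.Tree ℕ := (.node (.node (.node (.node (.node (.node (.leaf 105045) (.leaf 105046)) (.node (.leaf 49219) (.leaf 199043))) (.node (.node (.leaf 55883) (.leaf 92215)) (.node (.leaf 58327) (.leaf 105141)))) (.node (.node (.node (.leaf 105142) (.leaf 198915)) (.node (.leaf 49315) (.leaf 114989))) (.node (.node (.leaf 55979) (.leaf 55986)) (.node (.leaf 116526) (.leaf 20631))))) (.node (.node (.node (.node (.leaf 855) (.leaf 68564)) (.node (.leaf 112149) (.leaf 72587))) (.node (.node (.leaf 164174) (.leaf 134545)) (.node (.leaf 40848) (.leaf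 129455)))) (.node (.node (.node (.leaf 82990) (.leaf 92846)) (.node (.leaf 57297) (.leaf 7184))) (.node (.node (.leaf 187732) (.leaf 55195)) (.node (.leaf 31897) (.leaf 72913)))))) (.node (.node (.node (.node (.node (.leaf 72906) (.leaf 80301)) (.node (.leaf 146738) (.leaf 139723))) (.node (.node (.leaf 7312) (.leaf 40976)) (.node (.leaf 12057) (.leaf 55066)))) (.node (.node (.node (.leaf 187827) (.leaf 72746)) (.node (.leaf 139563) (.leaf 139570))) (.node (.node (.leaf 146898) (.leaf 40720)) (.node (.leaf 41360) (.leaf 129359))))) (.node (.node (.node (.node (.leaf 49687) (.leaf 201911)) (.node (.leaf 83150) (.leaf 93517))) (.node (.node (.leaf 57137) (.leaf 92750)) (.node (.leaf 120842) (.leaf 121482)))) (.node (.node (.node (.leaf 143314) (.leaf 126925)) (.node (.leaf 111439) (.leaf 108368))) (.node (.node (.leaf 57883) (.leaf 130745)) (.node (.leaf 149706) (.leaf 56483)))))))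

/-- A suborbit and a mover, part 186. -/
def redCodePart186 : Janko1.Tree ℕ := (.node (.node (.node (.node (.node (.node (.leaf 55875) (.leaf 23898)) (.node (.leaf 3003) (.leaf 101773))) (.node (.node (.leaf 127182) (.leaf 55971)) (.node (.leaf 56387) (.leaf 149553)))) (.node (.node (.node (.leaf 149546) (.leaf 2906)) (.node (.leaf 23995) (.leaf 118095))) (.node (.node (.leaf 77104) (.leaf 267319)) (.node (.leaf 273495) (.leaf 121361))))) (.node (.node (.node (.node (.leaf 121354) (.leaf 120977)) (.node (.leaf 120970) (.leaf 126765))) (.node (.node (.leaf 143154) (.leaf 111535)) (.node (.leaf 67737) (.leaf 58010)))) (.node (.node (.node (.leaf 225303) (.leaf 172599)) (.node (.leaf 61847) (.leaf 103477))) (.node (.node (.leaf 64210) (.leaf 180489)) (.node (.leaf 101336) (.leaf 37285)))))) (.node (.node (.node (.node (.node (.leaf 14853) (.leaf 63059)) (.node (.leaf 124375) (.leaf 120727))) (.node (.node (.leaf 7948) (.leaf 64818)) (.node (.leaf 165710) (.leaf 113194)))) (.node (.node (.node (.leaf 203559) (.leaf 123544)) (.node (.leaf 199814)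 (.leaf 14981))) (.node (.node (.leaf 37189) (.leaf 8076)) (.node (.leaf 63156) (.leaf 107537))))) (.node (.node (.node (.node (.leaf 113354) (.leaf 199686)) (.node (.leaf 203719) (.leaf 103638))) (.node (.node (.leaf 94519) (.leaf 153550)) (.node (.leaf 180617) (.leaf 49816)))) (.node (.node (.node (.leaf 27401) (.leaf 27017)) (.node (.leaf 38532) (.leaf 186278))) (.node (.node (.leaf 205225) (.leaf 12952)) (.node (.leaf 49944) (.leaf 16393)))))))

/-- A suborbit and a mover, part 187. -/
def redCodePart187 : Janko1.Tree ℕ := (.node (.node (.node (.node (.node (.node (.leaf 54555) (.leaf 44441)) (.node (.leaf 11035) (.leaf 96811))) (.node (.node (.leaf 114898) (.leaf 64554)) (.node (.leaf 115032) (.leaf 124472)))) (.node (.node (.node (.leaf 240261) (.leaf 16521)) (.node (.leaf 48792) (.leaf 11162))) (.node (.node (.leaf 8089) (.leaf 54682)) (.node (.leaf 64714) (.leaf 96971))))) (.node (.node (.node (.node (.leaf 240133) (.leaf 121432)) (.node (.leaf 49048) (.leaf 26889))) (.node (.node (.leaf 27529) (.leaf 12567)) (.node (.leaf 85936) (.leaf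 131663)))) (.node (.node (.node (.leaf 38404) (.leaf 73681)) (.node (.leaf 97586) (.leaf 84376))) (.node (.node (.leaf 205129) (.leaf 186182)) (.node (.leaf 124878) (.leaf 170889)))))) (.node (.node (.node (.node (.node (.leaf 202118) (.leaf 178245)) (.node (.leaf 191448) (.leaf 80839))) (.node (.node (.leaf 259512) (.leaf 64454)) (.node (.leaf 68635) (.leaf 90315)))) (.node (.node (.node (.leaf 121738) (.leaf 13316)) (.node (.leaf 70744) (.leaf 128408))) (.node (.node (.leaf 92440) (.leaf 221720)) (.node (.leaf 81423) (.leaf 148816))))) (.node (.node (.node (.node (.leaf 216212) (.leaf 13444)) (.node (.leaf 103437) (.leaf 121610))) (.node (.node (.leaf 90155) (.leaf 269624)) (.node (.leaf 195288) (.leaf 216083)))) (.node (.node (.node (.leaf 90418) (.leaf 89298)) (.node (.leaf 178341) (.leaf 201990))) (.node (.node (.leaf 170761) (.leaf 85304)) (.node (.leaf 64294) (.leaf 80679)))))))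

/-- A suborbit and a mover, part 188. -/
def redCodePart188 : Janko1.Tree ℕ := (.node (.node (.node (.node (.node (.node (.leaf 248343) (.leaf 134447)) (.node (.leaf 68762) (.leaf 78640))) (.node (.node (.leaf 55955) (.leaf 55956)) (.node (.leaf 85847) (.leaf 99767)))) (.node (.node (.node (.leaf 103478) (.leaf 64203)) (.node (.leaf 111917) (.leaf 153390))) (.node (.node (.leaf 97453) (.leaf 63060)) (.node (.leaf 74935) (.leaf 89367))))) (.node (.node (.node (.node (.leaf 94007) (.leaf 60119)) (.node (.leaf 64811) (.leaf 113201))) (.node (.node (.leaf 107665) (.leaf 107658)) (.node (.leaf 63155) (.leaf 107530)))) (.node (.node (.node (.leaf 113361) (.leaf 165806)) (.node (.leaf 64971) (.leaf 64978))) (.node (.node (.leaf 103637) (.leaf 55827)) (.node (.leaf 55828) (.leaf 118423)))))) (.node (.node (.node (.node (.node (.leaf 68823) (.leaf 97357)) (.node (.leaf 112077) (.leaf 64043))) (.node (.node (.leaf 64050) (.leaf 131759)) (.node (.leaf 91216) (.leaf 85840)))) (.node (.node (.node (.leaf 97739) (.leaf 97746)) (.node (.leaf 73521) (.leaf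 73514))) (.node (.node (.leaf 58884) (.leaf 71556)) (.node (.leaf 78286) (.leaf 31257))))) (.node (.node (.node (.node (.leaf 43418) (.leaf 5018)) (.node (.leaf 43419) (.leaf 6041))) (.node (.node (.leaf 53274) (.leaf 203091)) (.node (.leaf 203092) (.leaf 96818)))) (.node (.node (.node (.leaf 92749) (.leaf 114891)) (.node (.leaf 64561) (.leaf 203187))) (.node (.node (.leaf 203188) (.leaf 53403)) (.node (.leaf 31385) (.leaf 43290)))))))

/-- A suborbit and a mover, part 189. -/
def redCodePart189 : Janko1.Tree ℕ := (.node (.node (.node (.node (.node (.node (.leaf 4891) (.leaf 43291)) (.node (.leaf 45849) (.leaf 64721))) (.node (.node (.leaf 114731) (.leaf 114738)) (.node (.leaf 92845) (.leaf 96978)))) (.node (.node (.node (.leaf 191159) (.leaf 187735)) (.node (.leaf 91312) (.leaf 78126))) (.node (.node (.leaf 71428) (.leaf 59012)) (.node (.leaf 73674) (.leaf 97579))))) (.node (.node (.node (.node (.leaf 89131) (.leaf 89138)) (.node (.leaf 127278) (.leaf 90571))) (.node (.node (.leaf 90578) (.leaf 78800)) (.node (.leaf 125465) (.leaf 130746))))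 (.node (.node (.node (.leaf 134607) (.leaf 90322)) (.node (.leaf 121745) (.leaf 103565))) (.node (.node (.leaf 177572) (.leaf 178756)) (.node (.leaf 116816) (.leaf 216211)))))) (.node (.node (.node (.node (.node (.leaf 178852) (.leaf 177476)) (.node (.leaf 121617) (.leaf 90162))) (.node (.node (.leaf 216084) (.leaf 148912)) (.node (.leaf 81551) (.leaf 116912)))) (.node (.node (.node (.leaf 90411) (.leaf 127438)) (.node (.leaf 124718) (.leaf 89291))) (.node (.node (.leaf 260407) (.leaf 261719)) (.node (.leaf 130651) (.leaf 58009))))) (.node (.node (.node (.node (.leaf 37032) (.leaf 10518)) (.node (.leaf 18184) (.leaf 15112))) (.node (.node (.leaf 48549) (.leaf 34724)) (.node (.leaf 56754) (.leaf 19286)))) (.node (.node (.node (.leaf 40008) (.leaf 18869)) (.node (.leaf 102869) (.leaf 49221))) (.node (.node (.leaf 81571) (.leaf 145485)) (.node (.leaf 18774) (.leaf 102710)))))))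

/-- A suborbit and a mover, part 190. -/
def redCodePart190 : Janko1.Tree ℕ := (.node (.node (.node (.node (.node (.node (.leaf 19381) (.leaf 40104)) (.node (.leaf 69847) (.leaf 162450))) (.node (.node (.leaf 49317) (.leaf 81475)) (.node (.leaf 71352) (.leaf 10645)))) (.node (.node (.node (.leaf 18312) (.leaf 15240)) (.node (.leaf 36936) (.leaf 116439))) (.node (.node (.leaf 105614) (.leaf 48453)) (.node (.leaf 132241) (.leaf 34628))))) (.node (.node (.node (.node (.leaf 152504) (.leaf 16646)) (.node (.leaf 203348) (.leaf 84525))) (.node (.node (.leaf 195657) (.leaf 52360)) (.node (.leaf 140338) (.leaf 241413)))) (.node (.node (.node (.leaf 7191) (.leaf 203096)) (.node (.leaf 47384) (.leaf 132015))) (.node (.node (.leaf 189271) (.leaf 66257)) (.node (.leaf 182695) (.leaf 56369)))))) (.node (.node (.node (.node (.node (.leaf 7319) (.leaf 191064)) (.node (.leaf 47512) (.leaf 77517))) (.node (.node (.leaf 164498) (.leaf 182599)) (.node (.leaf 16774) (.leaf 203443)))) (.node (.node (.node (.leaf 47639) (.leaf 201560)) (.node (.leaf 7576) (.leaf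 52232))) (.node (.node (.leaf 241541) (.leaf 195753)) (.node (.leaf 13573) (.leaf 130308))))) (.node (.node (.node (.node (.leaf 55619) (.leaf 82310)) (.node (.leaf 81579) (.leaf 143570))) (.node (.node (.leaf 160977) (.leaf 125741)) (.node (.leaf 177573) (.leaf 272055)))) (.node (.node (.node (.leaf 174136) (.leaf 171060)) (.node (.leaf 76487) (.leaf 64297))) (.node (.node (.leaf 259415) (.leaf 177477)) (.node (.leaf 81483) (.leaf 85560)))))))

/-- A suborbit and a mover, part 191. -/
def redCodePart191 : Janko1.Tree ℕ := (.node (.node (.node (.node (.node (.node (.leaf 171219) (.leaf 76327)) (.node (.leaf 64457) (.leaf 13701))) (.node (.node (.leaf 130436) (.leaf 55715)) (.node (.leaf 123790) (.leaf 111768)))) (.node (.node (.node (.leaf 195127) (.leaf 191288)) (.node (.leaf 260952) (.leaf 269783))) (.node (.node (.leaf 82182) (.leaf 245912)) (.node (.leaf 65743) (.leaf 18613))))) (.node (.node (.node (.node (.leaf 18614) (.leaf 10517)) (.node (.leaf 8204) (.leaf 132113))) (.node (.node (.leaf 132106) (.leaf 137156)) (.node (.leaf 134660)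 (.leaf 105486)))) (.node (.node (.node (.leaf 56747) (.leaf 19285)) (.node (.leaf 18870) (.leaf 102870))) (.node (.node (.leaf 26179) (.leaf 82947)) (.node (.leaf 162315) (.leaf 162322)))))) (.node (.node (.node (.node (.node (.leaf 97358) (.leaf 18773)) (.node (.leaf 102709) (.leaf 19382))) (.node (.node (.leaf 94775) (.leaf 119191)) (.node (.leaf 162443) (.leaf 97454)))) (.node (.node (.node (.leaf 83075) (.leaf 26275)) (.node (.leaf 145581) (.leaf 10646))) (.node (.node (.leaf 8332) (.leaf 18517)) (.node (.leaf 18518) (.leaf 80407))))) (.node (.node (.node (.node (.leaf 72375) (.leaf 56651)) (.node (.leaf 56658) (.leaf 132234))) (.node (.node (.leaf 134788) (.leaf 136996)) (.node (.leaf 96432) (.leaf 203347)))) (.node (.node (.node (.leaf 80974) (.leaf 84174)) (.node (.leaf 140331) (.leaf 47383))) (.node (.node (.leaf 48023) (.leaf 5783)) (.node (.leaf 189623) (.leaf 164363)))))))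

/-- A suborbit and a mover, part 192. -/
def redCodePart192 : Janko1.Tree ℕ := (.node (.node (.node (.node (.node (.node (.leaf 164370) (.leaf 66250)) (.node (.leaf 77357) (.leaf 56362))) (.node (.node (.leaf 47895) (.leaf 47511)) (.node (.leaf 131919) (.leaf 56529)))) (.node (.node (.node (.leaf 56522) (.leaf 164491)) (.node (.leaf 66097) (.leaf 66090))) (.node (.node (.leaf 203444) (.leaf 48279)) (.node (.leaf 7575) (.leaf 96336))))) (.node (.node (.node (.node (.leaf 84014) (.leaf 140491)) (.node (.leaf 140498) (.leaf 84685))) (.node (.node (.leaf 81070) (.leaf 123662)) (.node (.leaf 103310) (.leaf 16644)))) (.node (.node (.node (.leaf 129412) (.leaf 17411)) (.node (.leaf 56739) (.leaf 65583))) (.node (.node (.leaf 215059) (.leaf 215060)) (.node (.leaf 81586) (.leaf 143563)))))) (.node (.node (.node (.node (.node (.leaf 160970) (.leaf 270551)) (.node (.leaf 245143) (.leaf 66320))) (.node (.node (.leaf 171059) (.leaf 246807)) (.node (.leaf 258359) (.leaf 160817)))) (.node (.node (.node (.leaf 160810) (.leaf 125901)) (.node (.leaf 81490) (.leaf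 143403))) (.node (.node (.leaf 143410) (.leaf 171220)) (.node (.leaf 66448) (.leaf 129284))))) (.node (.node (.node (.node (.leaf 16772) (.leaf 56643)) (.node (.leaf 17539) (.leaf 103182))) (.node (.node (.leaf 171479) (.leaf 218263)) (.node (.leaf 215187) (.leaf 215188)))) (.node (.node (.node (.leaf 244375) (.leaf 272823)) (.node (.leaf 39336) (.leaf 98743))) (.node (.node (.leaf 30124) (.leaf 60631)) (.node (.leaf 130001) (.leaf 25507)))))))

/-- A suborbit and a mover, part 193. -/
def redCodePart193 : Janko1.Tree ℕ := (.node (.node (.node (.node (.node (.node (.leaf 161688) (.leaf 158539)) (.node (.leaf 200710) (.leaf 66968))) (.node (.node (.leaf 55699) (.leaf 112534)) (.node (.leaf 39592) (.leaf 130602)))) (.node (.node (.node (.leaf 247816) (.leaf 117806)) (.node (.leaf 164173) (.leaf 200839))) (.node (.node (.leaf 39496) (.leaf 87383)) (.node (.leaf 112405) (.leaf 55572))))) (.node (.node (.node (.node (.leaf 200711) (.leaf 99800)) (.node (.leaf 131345) (.leaf 130762))) (.node (.node (.leaf 247944) (.leaf 89784)) (.node (.leaf 92471)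 (.leaf 39240)))) (.node (.node (.node (.leaf 30028) (.leaf 158635)) (.node (.leaf 200838) (.leaf 25411))) (.node (.node (.leaf 127311) (.leaf 200279)) (.node (.leaf 27014) (.leaf 27398)))))) (.node (.node (.node (.node (.node (.leaf 31641) (.leaf 53530)) (.node (.leaf 162993) (.leaf 163723))) (.node (.node (.leaf 180294) (.leaf 173960)) (.node (.leaf 54659) (.leaf 120664)))) (.node (.node (.node (.leaf 129336) (.leaf 187736)) (.node (.leaf 199256) (.leaf 90960))) (.node (.node (.leaf 130127) (.leaf 164682)) (.node (.leaf 85912) (.leaf 184647))))) (.node (.node (.node (.node (.leaf 201816) (.leaf 204888)) (.node (.leaf 201655) (.leaf 153106))) (.node (.node (.leaf 158033) (.leaf 184743)) (.node (.leaf 164778) (.leaf 88984)))) (.node (.node (.node (.leaf 27526) (.leaf 26886)) (.node (.leaf 53659) (.leaf 11801))) (.node (.node (.leaf 204632) (.leaf 190808)) (.node (.leaf 54531) (.leaf 163595)))))))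

/-- A suborbit and a mover, part 194. -/
def redCodePart194 : Janko1.Tree ℕ := (.node (.node (.node (.node (.node (.node (.leaf 173832) (.leaf 180390)) (.node (.leaf 128045) (.leaf 127181))) (.node (.node (.leaf 92184) (.leaf 88847)) (.node (.leaf 260563) (.leaf 151216)))) (.node (.node (.node (.leaf 77872) (.leaf 171145)) (.node (.leaf 82763) (.leaf 200454))) (.node (.node (.leaf 177991) (.leaf 247576)) (.node (.leaf 78342) (.leaf 91017))))) (.node (.node (.node (.node (.leaf 60058) (.leaf 82859)) (.node (.leaf 178087) (.leaf 200582))) (.node (.node (.leaf 159185) (.leaf 171017)) (.node (.leaf 90889) (.leaf 271960)))) (.node (.node (.node (.leaf 59931) (.leaf 133839)) (.node (.leaf 78470) (.leaf 215063))) (.node (.node (.leaf 93208) (.leaf 82354)) (.node (.leaf 160561) (.leaf 174552)))))) (.node (.node (.node (.node (.node (.leaf 172600) (.leaf 246808)) (.node (.leaf 260404) (.leaf 89687))) (.node (.node (.leaf 63639) (.leaf 121239)) (.node (.leaf 93751) (.leaf 129994)))) (.node (.node (.node (.leaf 82243) (.leaf 86147)) (.node (.leaf 152621)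 (.leaf 158546))) (.node (.node (.leaf 55700) (.leaf 112533)) (.node (.leaf 70099) (.leaf 70100))))) (.node (.node (.node (.node (.leaf 130609) (.leaf 131473)) (.node (.leaf 131466) (.leaf 69939))) (.node (.node (.leaf 69940) (.leaf 100535)) (.node (.leaf 59799) (.leaf 112406)))) (.node (.node (.node (.leaf 55571) (.leaf 164269)) (.node (.leaf 117966) (.leaf 131338))) (.node (.node (.leaf 130769) (.leaf 58071)) (.node (.leaf 119959) (.leaf 158642)))))))

/-- A suborbit and a mover, part 195. -/
def redCodePart195 : Janko1.Tree ℕ := (.node (.node (.node (.node (.node (.node (.leaf 152781) (.leaf 86019)) (.node (.leaf 82339) (.leaf 129841))) (.node (.node (.leaf 129834) (.leaf 48791)) (.node (.leaf 203959) (.leaf 11290)))) (.node (.node (.node (.leaf 54427) (.leaf 11291)) (.node (.leaf 5913) (.leaf 162986))) (.node (.node (.leaf 163730) (.leaf 185507)) (.node (.leaf 182595) (.leaf 96558))))) (.node (.node (.node (.node (.leaf 87472) (.leaf 164689)) (.node (.leaf 83149) (.leaf 158129))) (.node (.node (.leaf 158122) (.leaf 153227)) (.node (.leaf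 153234) (.leaf 130223)))) (.node (.node (.node (.leaf 87376) (.leaf 203351)) (.node (.leaf 50455) (.leaf 91056))) (.node (.node (.leaf 153099) (.leaf 158026)) (.node (.leaf 82989) (.leaf 164785)))))) (.node (.node (.node (.node (.node (.leaf 32153) (.leaf 11418)) (.node (.leaf 54298) (.leaf 11419))) (.node (.node (.leaf 127407) (.leaf 96718)) (.node (.leaf 182691) (.leaf 185411)))) (.node (.node (.node (.leaf 163602) (.leaf 162897)) (.node (.leaf 162890) (.leaf 160721))) (.node (.node (.leaf 160714) (.leaf 82251)) (.node (.leaf 82258) (.leaf 260564))))) (.node (.node (.node (.node (.leaf 159025) (.leaf 159018)) (.node (.leaf 123022) (.leaf 82770))) (.node (.node (.leaf 123918) (.leaf 98735)) (.node (.leaf 133679) (.leaf 128667)))) (.node (.node (.node (.leaf 70809) (.leaf 124046)) (.node (.leaf 82866) (.leaf 122894))) (.node (.node (.leaf 159178) (.leaf 129209)) (.node (.leaf 128538) (.leaf 174391)))))))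

/-- A suborbit and a mover, part 196. -/
def redCodePart196 : Janko1.Tree ℕ := (.node (.node (.node (.node (.node (.node (.leaf 194519) (.leaf 98639)) (.node (.leaf 127021) (.leaf 128205))) (.node (.node (.leaf 82347) (.leaf 160554)) (.node (.leaf 78032) (.leaf 151120)))) (.node (.node (.node (.leaf 260403) (.leaf 88975)) (.node (.leaf 70356) (.leaf 88343))) (.node (.node (.leaf 247176) (.leaf 114990)) (.node (.leaf 136906) (.leaf 85079))))) (.node (.node (.node (.node (.leaf 37704) (.leaf 57364)) (.node (.leaf 37288) (.leaf 88663))) (.node (.node (.leaf 139469) (.leaf 60376)) (.node (.leaf 136228) (.leaf 135313)))) (.node (.node (.node (.leaf 179849) (.leaf 66763)) (.node (.leaf 56248) (.leaf 37192))) (.node (.node (.leaf 57491) (.leaf 37800)) (.node (.leaf 66603) (.leaf 179721)))))) (.node (.node (.node (.node (.node (.leaf 136388) (.leaf 75703)) (.node (.leaf 70195) (.leaf 136746))) (.node (.node (.leaf 124312) (.leaf 247048)) (.node (.leaf 94424) (.leaf 48919)))) (.node (.node (.node (.leaf 8859) (.leaf 43163)) (.node (.leaf 65322) (.leaf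 54660))) (.node (.node (.leaf 48024) (.leaf 7192)) (.node (.leaf 174856) (.leaf 206665))))) (.node (.node (.node (.node (.leaf 7320) (.leaf 47896)) (.node (.leaf 91984) (.leaf 50071))) (.node (.node (.leaf 140248) (.leaf 94382)) (.node (.leaf 206761) (.leaf 79182)))) (.node (.node (.node (.leaf 174984) (.leaf 142605)) (.node (.leaf 43034) (.leaf 8730))) (.node (.node (.leaf 47640) (.leaf 48280)) (.node (.leaf 130479) (.leaf 54532)))))))

/-- A suborbit and a mover, part 197. -/
def redCodePart197 : Janko1.Tree ℕ := (.node (.node (.node (.node (.node (.node (.leaf 56152) (.leaf 145970)) (.node (.leaf 127544) (.leaf 65482))) (.node (.node (.leaf 141197) (.leaf 149976)) (.node (.leaf 177479) (.leaf 144178)))) (.node (.node (.node (.leaf 151082) (.leaf 128664)) (.node (.leaf 195287) (.leaf 65574))) (.node (.node (.leaf 202630) (.leaf 172297)) (.node (.leaf 103566) (.leaf 273592))))) (.node (.node (.node (.node (.leaf 244376) (.leaf 258355)) (.node (.leaf 66311) (.leaf 60057))) (.node (.node (.leaf 144082) (.leaf 172425)) (.node (.leaf 101774) (.leaf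 126509)))) (.node (.node (.node (.leaf 202502) (.leaf 172856)) (.node (.leaf 66439) (.leaf 126489))) (.node (.node (.leaf 258516) (.leaf 149041)) (.node (.leaf 151242) (.leaf 126104)))))) (.node (.node (.node (.node (.node (.leaf 125645) (.leaf 177575)) (.node (.leaf 196568) (.leaf 65071))) (.node (.node (.leaf 65734) (.leaf 272056)) (.node (.leaf 70355) (.leaf 110869)))) (.node (.node (.node (.leaf 110870) (.leaf 123863)) (.node (.leaf 74679) (.leaf 140077))) (.node (.node (.leaf 147117) (.leaf 136913)) (.node (.leaf 99511) (.leaf 62103))))) (.node (.node (.node (.node (.leaf 30796) (.leaf 57363)) (.node (.leaf 64407) (.leaf 98999))) (.node (.node (.leaf 35396) (.leaf 135556)) (.node (.leaf 135306) (.leaf 66770)))) (.node (.node (.node (.leaf 57492) (.leaf 30892)) (.node (.leaf 66610) (.leaf 135185))) (.node (.node (.leaf 135178) (.leaf 135428)) (.node (.leaf 35492) (.leaf 139309)))))))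

/-- A suborbit and a mover, part 198. -/
def redCodePart198 : Janko1.Tree ℕ := (.node (.node (.node (.node (.node (.node (.leaf 91159) (.leaf 122839)) (.node (.leaf 110997) (.leaf 110998))) (.node (.node (.leaf 70196) (.leaf 136753)) (.node (.leaf 115150) (.leaf 147021)))) (.node (.node (.node (.leaf 140237) (.leaf 130383)) (.node (.leaf 200119) (.leaf 204119))) (.node (.node (.leaf 8217) (.leaf 43546)) (.node (.leaf 44185) (.leaf 4890))))) (.node (.node (.node (.node (.leaf 141069) (.leaf 65329)) (.node (.leaf 146123) (.leaf 146130))) (.node (.node (.leaf 185508) (.leaf 182596)) (.node (.leaf 85072) (.leaf 92080)))) (.node (.node (.node (.leaf 127055) (.leaf 142733)) (.node (.leaf 79278) (.leaf 94286))) (.node (.node (.leaf 147725) (.leaf 127151)) (.node (.leaf 204727) (.leaf 199511)))))) (.node (.node (.node (.node (.node (.leaf 85168) (.leaf 147853)) (.node (.leaf 5019) (.leaf 8345))) (.node (.node (.leaf 43675) (.leaf 45721)) (.node (.leaf 182692) (.leaf 185412)))) (.node (.node (.node (.leaf 145963) (.leaf 65489)) (.node (.leaf 125485)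 (.leaf 144171))) (.node (.node (.leaf 151089) (.leaf 149201)) (.node (.leaf 149194) (.leaf 120272))))) (.node (.node (.node (.node (.leaf 218135) (.leaf 171319)) (.node (.leaf 78479) (.leaf 65231))) (.node (.node (.leaf 126669) (.leaf 101646)) (.node (.leaf 143915) (.leaf 143922)))) (.node (.node (.node (.leaf 129584) (.leaf 258356)) (.node (.leaf 67738) (.leaf 129115))) (.node (.node (.leaf 75408) (.leaf 103438)) (.node (.leaf 144075) (.leaf 75280)))))))

/-- A suborbit and a mover, part 199. -/
def redCodePart199 : Janko1.Tree ℕ := (.node (.node (.node (.node (.node (.node (.leaf 129210) (.leaf 67611)) (.node (.leaf 258515) (.leaf 129744))) (.node (.node (.leaf 149034) (.leaf 151249)) (.node (.leaf 144331) (.leaf 144338)))) (.node (.node (.node (.leaf 78351) (.leaf 120112)) (.node (.leaf 57107) (.leaf 117143))) (.node (.node (.leaf 65459) (.leaf 105910)) (.node (.leaf 104790) (.leaf 240456))))) (.node (.node (.node (.node (.leaf 90552) (.leaf 69816)) (.node (.leaf 202951) (.leaf 245957))) (.node (.node (.leaf 185289) (.leaf 103222)) (.node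 (.leaf 71607) (.leaf 67799)))) (.node (.node (.node (.leaf 111125) (.leaf 242600)) (.node (.leaf 92888) (.leaf 154040))) (.node (.node (.leaf 240005) (.leaf 202790)) (.node (.leaf 72631) (.leaf 111254)))))) (.node (.node (.node (.node (.node (.leaf 90455) (.leaf 103381)) (.node (.leaf 202950) (.leaf 239877))) (.node (.node (.leaf 163992) (.leaf 242504)) (.node (.leaf 104885) (.leaf 105813)))) (.node (.node (.node (.leaf 65364) (.leaf 57236)) (.node (.leaf 100279) (.leaf 185129))) (.node (.node (.leaf 245797) (.leaf 202791)) (.node (.leaf 61400) (.leaf 240552))))) (.node (.node (.node (.node (.leaf 189367) (.leaf 91824)) (.node (.leaf 44313) (.leaf 190899))) (.node (.node (.leaf 43162) (.leaf 91032)) (.node (.leaf 180295) (.leaf 246661)))) (.node (.node (.node (.leaf 63832) (.leaf 200375)) (.node (.leaf 49047) (.leaf 96688))) (.node (.node (.leaf 149208) (.leaf 182694)) (.node (.leaf 192425) (.leaf 184646)))))))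

/-- A suborbit and a mover, part 200. -/
def redCodePart200 : Janko1.Tree ℕ := (.node (.node (.node (.node (.node (.node (.leaf 182920) (.leaf 132527)) (.node (.leaf 95664) (.leaf 129615))) (.node (.node (.leaf 187991) (.leaf 182792)) (.node (.leaf 184742) (.leaf 192329)))) (.node (.node (.node (.leaf 182598) (.leaf 43035)) (.node (.leaf 190804) (.leaf 31513))) (.node (.node (.leaf 87120) (.leaf 246533)) (.node (.leaf 116568) (.leaf 180391))))) (.node (.node (.node (.node (.leaf 178085) (.leaf 201222)) (.node (.leaf 172553) (.leaf 86584))) (.node (.node (.leaf 172424) (.leaf 174088)) (.node (.leaf 71000) (.leaf 97871)))) (.node (.node (.node (.leaf 271959) (.leaf 174388)) (.node (.leaf 178757) (.leaf 179111))) (.node (.node (.leaf 114840) (.leaf 86328)) (.node (.leaf 198100) (.leaf 174135)))))) (.node (.node (.node (.node (.node (.leaf 110744) (.leaf 179015)) (.node (.leaf 178853) (.leaf 152239))) (.node (.node (.leaf 66351) (.leaf 121808)) (.node (.leaf 197939) (.leaf 174216)))) (.node (.node (.node (.leaf 172296) (.leaf 68696)) (.node (.leaf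 172681) (.leaf 201350))) (.node (.node (.leaf 177989) (.leaf 114383)) (.node (.leaf 174547) (.leaf 112976))))) (.node (.node (.node (.node (.leaf 63248) (.leaf 131120)) (.node (.leaf 102613) (.leaf 102614))) (.node (.node (.leaf 57108) (.leaf 68311)) (.node (.leaf 96311) (.leaf 65460)))) (.node (.node (.node (.leaf 105909) (.leaf 104789)) (.node (.leaf 63827) (.leaf 63828))) (.node (.node (.leaf 103221) (.leaf 68915)) (.node (.leaf 68916) (.leaf 111831)))))))

/-- A suborbit and a mover, part 201. -/
def redCodePart201 : Janko1.Tree ℕ := (.node (.node (.node (.node (.node (.node (.leaf 79639) (.leaf 96055)) (.node (.leaf 116887) (.leaf 111126))) (.node (.node (.leaf 30380) (.leaf 115415)) (.node (.leaf 80151) (.leaf 30284)))) (.node (.node (.node (.leaf 111253) (.leaf 64663)) (.node (.leaf 97975) (.leaf 69075))) (.node (.node (.leaf 69076) (.leaf 103382)) (.node (.leaf 63923) (.leaf 63924))))) (.node (.node (.node (.node (.leaf 104886) (.leaf 105814)) (.node (.leaf 65363) (.leaf 57235))) (.node (.node (.leaf 60311) (.leaf 87127)) (.node (.leaf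 102453) (.leaf 102454)))) (.node (.node (.node (.leaf 189527) (.leaf 5655)) (.node (.leaf 87216) (.leaf 132687))) (.node (.node (.leaf 53402) (.leaf 43547)) (.node (.leaf 190900) (.leaf 187987)))))) (.node (.node (.node (.node (.node (.leaf 187988) (.leaf 54811)) (.node (.leaf 32025) (.leaf 129711))) (.node (.node (.leaf 125103) (.leaf 95568)) (.node (.leaf 132431) (.leaf 203863)))) (.node (.node (.node (.leaf 48663) (.leaf 204215)) (.node (.leaf 200023) (.leaf 96592))) (.node (.node (.leaf 125007) (.leaf 12823)) (.node (.leaf 190903) (.leaf 45081))))) (.node (.node (.node (.node (.leaf 54938) (.leaf 188083)) (.node (.leaf 188084) (.leaf 190803))) (.node (.node (.leaf 43674) (.leaf 53275)) (.node (.leaf 132783) (.leaf 91728)))) (.node (.node (.node (.leaf 196403) (.leaf 196404)) (.node (.leaf 131280) (.leaf 63376))) (.node (.node (.leaf 113072) (.leaf 245015)) (.node (.leaf 270391) (.leaf 174387)))))))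

/-- A suborbit and a mover, part 202. -/
def redCodePart202 : Janko1.Tree ℕ := (.node (.node (.node (.node (.node (.node (.leaf 114223) (.leaf 198099)) (.node (.leaf 121648) (.leaf 91023))) (.node (.node (.leaf 66511) (.leaf 80688)) (.node (.leaf 198103) (.leaf 221719)))) (.node (.node (.node (.leaf 152143) (.leaf 80848)) (.node (.leaf 90895) (.leaf 197940))) (.node (.node (.leaf 174548) (.leaf 97967)) (.node (.leaf 196563) (.leaf 196564))))) (.node (.node (.node (.node (.leaf 12807) (.leaf 187971)) (.node (.leaf 67211) (.leaf 66776))) (.node (.node (.leaf 20046) (.leaf 144056)) (.node (.leaf 108170) (.leaf 49989)))) (.node (.node (.node (.leaf 131978) (.leaf 135812)) (.node (.leaf 153784) (.leaf 18862))) (.node (.node (.leaf 142232) (.leaf 203207)) (.node (.leaf 160910) (.leaf 12549)))))) (.node (.node (.node (.node (.node (.leaf 150232) (.leaf 2520)) (.node (.leaf 12677) (.leaf 124849))) (.node (.node (.leaf 79256) (.leaf 19512)) (.node (.leaf 63538) (.leaf 152525)))) (.node (.node (.node (.leaf 114894) (.leaf 203047)) (.node (.leaf 108042)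 (.leaf 50085))) (.node (.node (.leaf 131850) (.leaf 135684)) (.node (.leaf 9102) (.leaf 12935))))) (.node (.node (.node (.node (.leaf 188067) (.leaf 155858)) (.node (.leaf 67083) (.leaf 8973))) (.node (.node (.leaf 13577) (.leaf 62340)) (.node (.leaf 156490) (.leaf 70353)))) (.node (.node (.node (.leaf 9752) (.leaf 65073)) (.node (.leaf 83661) (.leaf 79790))) (.node (.node (.leaf 191401) (.leaf 97995)) (.node (.leaf 52616) (.leaf 185763)))))))

/-- A suborbit and a mover, part 203. -/
def redCodePart203 : Janko1.Tree ℕ := (.node (.node (.node (.node (.node (.node (.leaf 146635) (.leaf 34200)) (.node (.leaf 39480) (.leaf 13320))) (.node (.node (.leaf 149810) (.leaf 131384)) (.node (.leaf 88237) (.leaf 13448)))) (.node (.node (.node (.leaf 34061) (.leaf 40888)) (.node (.leaf 97835) (.leaf 52488))) (.node (.node (.leaf 185667) (.leaf 146475)) (.node (.leaf 115288) (.leaf 34445))))) (.node (.node (.node (.node (.leaf 17976) (.leaf 191305)) (.node (.leaf 13705) (.leaf 62212))) (.node (.node (.leaf 156586) (.leaf 95128)) (.node (.leaf 148180) (.leaf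 111252)))) (.node (.node (.node (.leaf 131605) (.leaf 69416)) (.node (.leaf 63813) (.leaf 72595))) (.node (.node (.leaf 150960) (.leaf 2875)) (.node (.leaf 245655) (.leaf 78854)))))) (.node (.node (.node (.node (.node (.leaf 244888) (.leaf 247960)) (.node (.leaf 4411) (.leaf 192472))) (.node (.node (.leaf 65830) (.leaf 39351)) (.node (.leaf 10252) (.leaf 151831)))) (.node (.node (.node (.leaf 10380) (.leaf 4570)) (.node (.leaf 111023) (.leaf 218519))) (.node (.node (.leaf 175064) (.leaf 65990)) (.node (.leaf 248728) (.leaf 3034))))) (.node (.node (.node (.node (.leaf 270136) (.leaf 78982)) (.node (.leaf 148019) (.leaf 111123))) (.node (.node (.leaf 131734) (.leaf 69576)) (.node (.leaf 63909) (.leaf 72468)))) (.node (.node (.node (.leaf 8974) (.leaf 12803)) (.node (.leaf 190883) (.leaf 155691))) (.node (.node (.leaf 155698) (.leaf 67218)) (.node (.leaf 108177) (.leaf 131985)))))))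

/-- A suborbit and a mover, part 204. -/
def redCodePart204 : Janko1.Tree ℕ := (.node (.node (.node (.node (.node (.node (.leaf 135972) (.leaf 36164)) (.node (.leaf 63691) (.leaf 63698))) (.node (.node (.leaf 152365) (.leaf 114734)) (.node (.leaf 8718) (.leaf 124753)))) (.node (.node (.node (.leaf 124746) (.leaf 149005)) (.node (.leaf 8846) (.leaf 160782))) (.node (.node (.leaf 124842) (.leaf 149133)) (.node (.leaf 18766) (.leaf 63531))))) (.node (.node (.node (.node (.leaf 20142) (.leaf 108049)) (.node (.leaf 131857) (.leaf 36260))) (.node (.node (.leaf 136132) (.leaf 190787)) (.node (.leaf 12931) (.leaf 155851)))) (.node (.node (.node (.leaf 67090) (.leaf 15108)) (.node (.leaf 64260) (.leaf 156497))) (.node (.node (.leaf 70346) (.leaf 34317)) (.node (.leaf 65066) (.leaf 34189)))))) (.node (.node (.node (.node (.node (.leaf 98002) (.leaf 182339)) (.node (.leaf 54915) (.leaf 146642))) (.node (.node (.leaf 8717) (.leaf 88141)) (.node (.leaf 91694) (.leaf 149803)))) (.node (.node (.node (.leaf 8845) (.leaf 91854)) (.node (.leaf 149963) (.leaf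 149970))) (.node (.node (.leaf 97842) (.leaf 54787)) (.node (.leaf 182435) (.leaf 146482))))) (.node (.node (.node (.node (.leaf 65233) (.leaf 65226)) (.node (.leaf 83501) (.leaf 79694))) (.node (.node (.leaf 9101) (.leaf 64388)) (.node (.leaf 15236) (.leaf 156593)))) (.node (.node (.node (.leaf 70193) (.leaf 70186)) (.node (.leaf 148179) (.leaf 111251))) (.node (.node (.leaf 131606) (.leaf 72596)) (.node (.leaf 9753) (.leaf 24666)))))))

/-- A suborbit and a mover, part 205. -/
def redCodePart205 : Janko1.Tree ℕ := (.node (.node (.node (.node (.node (.node (.leaf 272567) (.leaf 271831)) (.node (.leaf 66767) (.leaf 14361))) (.node (.node (.leaf 20378) (.leaf 110927)) (.node (.leaf 114352) (.leaf 118551)))) (.node (.node (.node (.leaf 110039) (.leaf 34775)) (.node (.leaf 145079) (.leaf 20251))) (.node (.node (.leaf 39769) (.leaf 195639)) (.node (.leaf 171991) (.leaf 114256))))) (.node (.node (.node (.node (.leaf 150864) (.leaf 24763)) (.node (.leaf 26777) (.leaf 66607))) (.node (.node (.leaf 148020) (.leaf 111124)) (.node (.leaf 131733) (.leaf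 72467)))) (.node (.node (.node (.leaf 147672) (.leaf 103498)) (.node (.leaf 108878) (.leaf 160781))) (.node (.node (.leaf 189510) (.leaf 49991)) (.node (.leaf 199555) (.leaf 113457)))))) (.node (.node (.node (.node (.node (.leaf 83203) (.leaf 130865)) (.node (.leaf 48807) (.leaf 158802))) (.node (.node (.leaf 147928) (.leaf 12551)) (.node (.leaf 60594) (.leaf 128177)))) (.node (.node (.node (.leaf 16387) (.leaf 238888)) (.node (.leaf 12679) (.leaf 16515))) (.node (.node (.leaf 73880) (.leaf 239048)) (.node (.leaf 144824) (.leaf 48711))))) (.node (.node (.node (.node (.leaf 163662) (.leaf 111821)) (.node (.leaf 123800) (.leaf 140696))) (.node (.node (.leaf 50087) (.leaf 199427)) (.node (.leaf 83331) (.leaf 164248)))) (.node (.node (.node (.leaf 150488) (.leaf 102481)) (.node (.leaf 103594) (.leaf 189606))) (.node (.node (.leaf 33944) (.leaf 168615)) (.node (.leaf 114635) (.leaf 165138)))))))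

/-- A suborbit and a mover, part 206. -/
def redCodePart206 : Janko1.Tree ℕ := (.node (.node (.node (.node (.node (.node (.leaf 165457) (.leaf 174344)) (.node (.leaf 182438) (.leaf 33560))) (.node (.node (.leaf 73009) (.leaf 96302)) (.node (.leaf 84430) (.leaf 246917)))) (.node (.node (.node (.leaf 59089) (.leaf 119858)) (.node (.leaf 8707) (.leaf 238085))) (.node (.node (.leaf 98136) (.leaf 33688)) (.node (.leaf 8835) (.leaf 238213))))) (.node (.node (.node (.node (.leaf 9624) (.leaf 127800)) (.node (.leaf 246789) (.leaf 33816))) (.node (.node (.leaf 114475) (.leaf 182342)) (.node (.leaf 174472) (.leaf 34456)))) (.node (.node (.node (.leaf 78542) (.leaf 82734)) (.node (.leaf 160914) (.leaf 168519))) (.node (.node (.leaf 144311) (.leaf 85320)) (.node (.leaf 83112) (.leaf 86341)))))) (.node (.node (.node (.node (.node (.leaf 115093) (.leaf 122167)) (.node (.leaf 41049) (.leaf 221208))) (.node (.node (.leaf 173112) (.leaf 247832)) (.node (.leaf 90767) (.leaf 142863)))) (.node (.node (.node (.leaf 151888) (.leaf 81351)) (.node (.leaf 245527) (.leaf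 147735))) (.node (.node (.leaf 72645) (.leaf 73748)) (.node (.leaf 72485) (.leaf 73875))))) (.node (.node (.node (.node (.leaf 81191) (.leaf 192312)) (.node (.leaf 78863) (.leaf 14233))) (.node (.node (.leaf 258776) (.leaf 35031)) (.node (.leaf 83016) (.leaf 85416)))) (.node (.node (.node (.leaf 86437) (.leaf 114966)) (.node (.leaf 103505) (.leaf 102577))) (.node (.node (.leaf 102570) (.leaf 204579)) (.node (.leaf 49987) (.leaf 113450)))))))

/-- A suborbit and a mover, part 207. -/
def redCodePart207 : Janko1.Tree ℕ := (.node (.node (.node (.node (.node (.node (.leaf 82083) (.leaf 26947)) (.node (.leaf 130858) (.leaf 111661))) (.node (.node (.leaf 163758) (.leaf 158795)) (.node (.leaf 105742) (.leaf 60587)))) (.node (.node (.node (.leaf 120589) (.leaf 128170)) (.node (.leaf 77091) (.leaf 76739))) (.node (.node (.leaf 120717) (.leaf 60491)) (.node (.leaf 60498) (.leaf 76579))))) (.node (.node (.node (.node (.leaf 77251) (.leaf 128081)) (.node (.leaf 128074) (.leaf 105870))) (.node (.node (.leaf 158891) (.leaf 158898)) (.node (.leaf 113617) (.leaf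 113610)))) (.node (.node (.node (.leaf 50083) (.leaf 204739)) (.node (.leaf 131025) (.leaf 131018))) (.node (.node (.leaf 27043) (.leaf 81987)) (.node (.leaf 102474) (.leaf 103601)))))) (.node (.node (.node (.node (.node (.leaf 160909) (.leaf 108974)) (.node (.leaf 82894) (.leaf 78382))) (.node (.node (.leaf 79565) (.leaf 160779)) (.node (.leaf 160786) (.leaf 80557)))) (.node (.node (.node (.leaf 114642) (.leaf 165131)) (.node (.leaf 165450) (.leaf 73002))) (.node (.node (.leaf 93357) (.leaf 59082)) (.node (.leaf 119851) (.leaf 89550))))) (.node (.node (.node (.node (.leaf 168099) (.leaf 168515)) (.node (.leaf 120011) (.leaf 120018))) (.node (.node (.leaf 58929) (.leaf 58922)) (.node (.leaf 168611) (.leaf 168003)))) (.node (.node (.node (.leaf 89390) (.leaf 93261)) (.node (.leaf 73169) (.leaf 73162))) (.node (.node (.leaf 84270) (.leaf 96462)) (.node (.leaf 114482) (.leaf 80461)))))))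

/-- A suborbit and a mover, part 208. -/
def redCodePart208 : Janko1.Tree ℕ := (.node (.node (.node (.node (.node (.node (.leaf 165553) (.leaf 165546)) (.node (.leaf 165259) (.leaf 165266))) (.node (.node (.leaf 160907) (.leaf 79405)) (.node (.leaf 147991) (.leaf 35799)))) (.node (.node (.node (.leaf 115094) (.leaf 90775)) (.node (.leaf 75351) (.leaf 144527))) (.node (.node (.leaf 15322) (.leaf 20507)) (.node (.leaf 258611) (.leaf 258612))))) (.node (.node (.node (.node (.leaf 271671) (.leaf 272471)) (.node (.leaf 78991) (.leaf 36055))) (.node (.node (.leaf 143799) (.leaf 147667)) (.node (.leaf 147668) (.leaf 137749)))) (.node (.node (.node (.leaf 137750) (.leaf 73747)) (.node (.leaf 147507) (.leaf 147508))) (.node (.node (.leaf 73876) (.leaf 137877)) (.node (.leaf 137878) (.leaf 151984)))))) (.node (.node (.node (.node (.node (.leaf 142991) (.leaf 20634)) (.node (.leaf 15163) (.leaf 144399))) (.node (.node (.leaf 90639) (.leaf 258771)) (.node (.leaf 258772) (.leaf 144567)))) (.node (.node (.node (.leaf 151575) (.leaf 114965)) (.node (.leaf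 120845) (.leaf 10712))) (.node (.node (.leaf 121485) (.leaf 125873)) (.node (.leaf 168617) (.leaf 18488))))) (.node (.node (.node (.node (.leaf 247304) (.leaf 92376)) (.node (.leaf 20376) (.leaf 112586))) (.node (.node (.leaf 246213) (.leaf 201734)) (.node (.leaf 10200) (.leaf 238536)))) (.node (.node (.node (.leaf 17156) (.leaf 103345)) (.node (.leaf 57778) (.leaf 17284))) (.node (.node (.leaf 161240) (.leaf 238376)) (.node (.leaf 112426) (.leaf 56402)))))))

/-- A suborbit and a mover, part 209. -/
def redCodePart209 : Janko1.Tree ℕ := (.node (.node (.node (.node (.node (.node (.leaf 201862) (.leaf 137265)) (.node (.leaf 246053) (.leaf 20632))) (.node (.node (.leaf 71954) (.leaf 139565)) (.node (.leaf 145325) (.leaf 247432)))) (.node (.node (.node (.leaf 856) (.leaf 168521)) (.node (.leaf 39736) (.leaf 120107))) (.node (.node (.leaf 120786) (.leaf 168614)) (.node (.leaf 52745) (.leaf 86734))))) (.node (.node (.node (.node (.leaf 39608) (.leaf 92493)) (.node (.leaf 149464) (.leaf 52617))) (.node (.node (.leaf 58372) (.leaf 4280)) (.node (.leaf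 185764) (.leaf 121176)))) (.node (.node (.node (.leaf 13321) (.leaf 237701)) (.node (.leaf 8708) (.leaf 66904))) (.node (.node (.leaf 13449) (.leaf 41272)) (.node (.leaf 59601) (.leaf 8836)))))) (.node (.node (.node (.node (.node (.leaf 149554) (.leaf 237573)) (.node (.leaf 110802) (.leaf 52489))) (.node (.node (.leaf 58500) (.leaf 139986)) (.node (.leaf 185668) (.leaf 52873)))) (.node (.node (.node (.leaf 66353) (.leaf 40504)) (.node (.leaf 120267) (.leaf 88142))) (.node (.node (.leaf 168518) (.leaf 144653)) (.node (.leaf 110295) (.leaf 72901))))) (.node (.node (.node (.node (.leaf 73253) (.leaf 72136)) (.node (.leaf 65461) (.leaf 82441))) (.node (.node (.leaf 274104) (.leaf 121904)) (.node (.leaf 259256) (.leaf 27033)))) (.node (.node (.node (.leaf 84552) (.leaf 93076)) (.node (.leaf 84648) (.leaf 41143))) (.node (.node (.leaf 92947) (.leaf 9625)) (.node (.leaf 224536) (.leaf 260184)))))))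

/-- A suborbit and a mover, part 210. -/
def redCodePart210 : Janko1.Tree ℕ := (.node (.node (.node (.node (.node (.node (.leaf 150608) (.leaf 196056)) (.node (.leaf 117583) (.leaf 109392))) (.node (.node (.leaf 82569) (.leaf 174903)) (.node (.leaf 110871) (.leaf 73413)))) (.node (.node (.node (.leaf 72741) (.leaf 149303)) (.node (.leaf 71976) (.leaf 65366))) (.node (.node (.leaf 121614) (.leaf 125866)) (.node (.leaf 72075) (.leaf 72082))))) (.node (.node (.node (.node (.leaf 164430) (.leaf 145229)) (.node (.leaf 139725) (.leaf 153134))) (.node (.node (.leaf 112593) (.leaf 137425)) (.node (.leaf 137418) (.leaf 56491)))) (.node (.node (.node (.leaf 56498) (.leaf 57675)) (.node (.leaf 57682) (.leaf 103249))) (.node (.node (.leaf 103242) (.leaf 148877)) (.node (.leaf 125860) (.leaf 128324)))))) (.node (.node (.node (.node (.node (.leaf 103338) (.leaf 57771)) (.node (.leaf 128420) (.leaf 125764))) (.node (.node (.leaf 148749) (.leaf 112433)) (.node (.leaf 153294) (.leaf 56395)))) (.node (.node (.node (.leaf 137258) (.leaf 164526)) (.node (.leaf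 71947) (.leaf 121357))) (.node (.node (.leaf 120973) (.leaf 125777)) (.node (.leaf 125770) (.leaf 121742))))) (.node (.node (.node (.node (.leaf 120114) (.leaf 120779)) (.node (.leaf 144781) (.leaf 88238))) (.node (.node (.leaf 66513) (.leaf 66506)) (.node (.leaf 142477) (.leaf 72068)))) (.node (.node (.node (.leaf 38788) (.leaf 110635)) (.node (.leaf 110642) (.leaf 182340))) (.node (.node (.leaf 54916) (.leaf 139819)) (.node (.leaf 139826) (.leaf 59441)))))))

/-- A suborbit and a mover, part 211. -/
def redCodePart211 : Janko1.Tree ℕ := (.node (.node (.node (.node (.node (.node (.leaf 59434) (.leaf 82382)) (.node (.leaf 149707) (.leaf 149714))) (.node (.node (.leaf 168100) (.leaf 168516)) (.node (.leaf 82222) (.leaf 59594)))) (.node (.node (.node (.leaf 168612) (.leaf 168004)) (.node (.leaf 149547) (.leaf 110795))) (.node (.node (.leaf 38660) (.leaf 71940)) (.node (.leaf 139979) (.leaf 54788))))) (.node (.node (.node (.node (.leaf 182436) (.leaf 92589)) (.node (.leaf 86574) (.leaf 142349))) (.node (.node (.leaf 66346) (.leaf 120619)) (.node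 (.leaf 120626) (.leaf 120274)))) (.node (.node (.node (.leaf 39863) (.leaf 119319)) (.node (.leaf 65462) (.leaf 109488))) (.node (.node (.leaf 117679) (.leaf 108624)) (.node (.leaf 17626) (.leaf 23483)))))) (.node (.node (.node (.node (.node (.leaf 174899) (.leaf 174900)) (.node (.leaf 150704) (.leaf 110995))) (.node (.node (.leaf 110996) (.leaf 136085)) (.node (.leaf 136086) (.leaf 93075)))) (.node (.node (.node (.leaf 110867) (.leaf 110868)) (.node (.leaf 111383) (.leaf 109527))) (.node (.node (.leaf 92948) (.leaf 135957)) (.node (.leaf 135958) (.leaf 23386))))) (.node (.node (.node (.node (.leaf 17467) (.leaf 108720)) (.node (.leaf 175059) (.leaf 175060))) (.node (.node (.leaf 122064) (.leaf 195031)) (.node (.leaf 215319) (.leaf 109271)))) (.node (.node (.node (.leaf 40119) (.leaf 70039)) (.node (.leaf 134103) (.leaf 65365))) (.node (.node (.leaf 59563) (.leaf 58194)) (.node (.leaf 159246) (.leaf 189351)))))))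

/-- A suborbit and a mover, part 212. -/
def redCodePart212 : Janko1.Tree ℕ := (.node (.node (.node (.node (.node (.node (.leaf 236197) (.leaf 64555)) (.node (.leaf 59864) (.leaf 242344))) (.node (.node (.leaf 72715) (.leaf 203971)) (.node (.leaf 106513) (.leaf 185545)))) (.node (.node (.node (.leaf 67480) (.leaf 102833)) (.node (.leaf 12547) (.leaf 80024))) (.node (.node (.leaf 75672) (.leaf 159960)) (.node (.leaf 12675) (.leaf 159118))))) (.node (.node (.node (.node (.leaf 203811) (.leaf 72843)) (.node (.leaf 96845) (.leaf 185385))) (.node (.node (.leaf 64715) (.leaf 114733)) (.node (.leaf 152366) (.leaf 98477)))) (.node (.node (.node (.leaf 242248) (.leaf 89272)) (.node (.leaf 70840) (.leaf 59467))) (.node (.node (.leaf 236101) (.leaf 189255)) (.node (.leaf 116920) (.leaf 60458)))))) (.node (.node (.node (.node (.node (.leaf 146392) (.leaf 198313)) (.node (.leaf 178952) (.leaf 76078))) (.node (.node (.leaf 72708) (.leaf 72394)) (.node (.leaf 182439) (.leaf 77774)))) (.node (.node (.node (.leaf 83502) (.leaf 79693)) (.node (.leaf 64458) (.leaf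 63064))) (.node (.node (.leaf 129080) (.leaf 241157)) (.node (.leaf 89261) (.leaf 14852))))) (.node (.node (.node (.node (.leaf 14980) (.leaf 120882)) (.node (.leaf 69208) (.leaf 98392))) (.node (.node (.leaf 133176) (.leaf 64298)) (.node (.leaf 241285) (.leaf 56664)))) (.node (.node (.node (.leaf 97234) (.leaf 72234)) (.node (.leaf 72836) (.leaf 89496))) (.node (.node (.leaf 182343) (.leaf 89677)) (.node (.leaf 60618) (.leaf 58417)))))))

/-- A suborbit and a mover, part 213. -/
def redCodePart213 : Janko1.Tree ℕ := (.node (.node (.node (.node (.node (.node (.leaf 179080) (.leaf 198217)) (.node (.leaf 95379) (.leaf 164535))) (.node (.node (.leaf 72917) (.leaf 64806)) (.node (.leaf 80423) (.leaf 98479)))) (.node (.node (.node (.leaf 197587) (.leaf 64198)) (.node (.leaf 81801) (.leaf 260824))) (.node (.node (.leaf 267832) (.leaf 112943)) (.node (.leaf 64975) (.leaf 215315))))) (.node (.node (.node (.node (.leaf 73509) (.leaf 83368)) (.node (.leaf 75667) (.leaf 92435))) (.node (.node (.leaf 71500) (.leaf 83272)) (.node (.leaf 73669) (.leaf 71596))))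 (.node (.node (.node (.leaf 92564) (.leaf 75540)) (.node (.leaf 81673) (.leaf 64038))) (.node (.node (.leaf 215444) (.leaf 77776)) (.node (.leaf 195800) (.leaf 80583)))))) (.node (.node (.node (.node (.node (.leaf 260280) (.leaf 64966)) (.node (.leaf 197428) (.leaf 129232))) (.node (.node (.leaf 66192) (.leaf 72758)) (.node (.leaf 57943) (.leaf 95252)))) (.node (.node (.node (.leaf 160654) (.leaf 59570)) (.node (.leaf 58187) (.leaf 98381))) (.node (.node (.leaf 152526) (.leaf 114893)) (.node (.leaf 64562) (.leaf 96941))))) (.node (.node (.node (.node (.leaf 72722) (.leaf 200195)) (.node (.leaf 48803) (.leaf 106506))) (.node (.node (.leaf 158990) (.leaf 121741)) (.node (.leaf 102826) (.leaf 191139)))) (.node (.node (.node (.leaf 187715) (.leaf 187811)) (.node (.leaf 191043) (.leaf 102737))) (.node (.node (.leaf 102730) (.leaf 121613)) (.node (.leaf 106641) (.leaf 106634)))))))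

/-- A suborbit and a mover, part 214. -/
def redCodePart214 : Janko1.Tree ℕ := (.node (.node (.node (.node (.node (.node (.leaf 48707) (.leaf 200323)) (.node (.leaf 72850) (.leaf 64722))) (.node (.node (.leaf 159374) (.leaf 58283)) (.node (.leaf 58290) (.leaf 59474)))) (.node (.node (.node (.leaf 160526) (.leaf 87885)) (.node (.leaf 58577) (.leaf 58570))) (.node (.node (.leaf 60465) (.leaf 89773)) (.node (.leaf 57732) (.leaf 38916))))) (.node (.node (.node (.node (.leaf 72401) (.leaf 97067)) (.node (.leaf 97074) (.leaf 64465))) (.node (.node (.leaf 121035) (.leaf 121042)) (.node (.leaf 79406) (.leaf 63492)))) (.node (.node (.node (.leaf 62852) (.leaf 62724)) (.node (.leaf 63620) (.leaf 79566))) (.node (.node (.leaf 120875) (.leaf 89165)) (.node (.leaf 64305) (.leaf 79789)))))) (.node (.node (.node (.node (.node (.leaf 83662) (.leaf 77614)) (.node (.leaf 97227) (.leaf 72241))) (.node (.node (.leaf 39044) (.leaf 57604)) (.node (.leaf 76238) (.leaf 60625)))) (.node (.node (.node (.leaf 58410) (.leaf 87981)) (.node (.leaf 95380) (.leaf 127511)))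 (.node (.node (.leaf 78423) (.leaf 72918)) (.node (.leaf 66064) (.leaf 129072))))) (.node (.node (.node (.node (.leaf 197588) (.leaf 77616)) (.node (.leaf 215316) (.leaf 75668))) (.node (.node (.leaf 92436) (.leaf 92563)) (.node (.leaf 75539) (.leaf 215443)))) (.node (.node (.node (.leaf 64815) (.leaf 113103)) (.node (.leaf 197427) (.leaf 98383))) (.node (.node (.leaf 72757) (.leaf 92567)) (.node (.leaf 119863) (.leaf 95251)))))))

/-- A suborbit and a mover, part 215. -/
def redCodePart215 : Janko1.Tree ℕ := (.node (.node (.node (.node (.node (.node (.leaf 69906) (.leaf 12805)) (.node (.leaf 76483) (.leaf 128836))) (.node (.node (.leaf 203046) (.leaf 55627)) (.node (.leaf 48805) (.leaf 130250)))) (.node (.node (.node (.leaf 240200) (.leaf 121358)) (.node (.leaf 128842) (.leaf 235333))) (.node (.node (.leaf 128938) (.leaf 235429)) (.node (.leaf 108462) (.leaf 117176))))) (.node (.node (.node (.node (.leaf 48709) (.leaf 130090)) (.node (.leaf 140493) (.leaf 240296))) (.node (.node (.leaf 118574) (.leaf 134801)) (.node (.leaf 104206) (.leaf 55723))))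 (.node (.node (.node (.leaf 163757) (.leaf 66098)) (.node (.leaf 203206) (.leaf 12933))) (.node (.node (.leaf 76323) (.leaf 128932)) (.node (.leaf 154418) (.leaf 65752)))))) (.node (.node (.node (.node (.node (.leaf 68401) (.leaf 95640)) (.node (.leaf 13576) (.leaf 168771))) (.node (.node (.leaf 168772) (.leaf 152978)) (.node (.leaf 147981) (.leaf 52744)))) (.node (.node (.node (.leaf 87342) (.leaf 139211)) (.node (.leaf 239749) (.leaf 158289))) (.node (.node (.leaf 92590) (.leaf 186534)) (.node (.leaf 163498) (.leaf 140813))))) (.node (.node (.node (.node (.leaf 145037) (.leaf 146136)) (.node (.leaf 160139) (.leaf 178312))) (.node (.node (.leaf 160011) (.leaf 178184)) (.node (.leaf 78381) (.leaf 163402)))) (.node (.node (.node (.leaf 186438) (.leaf 52872)) (.node (.leaf 139051) (.leaf 239621))) (.node (.node (.leaf 13704) (.leaf 168867)) (.node (.leaf 168868) (.leaf 155217)))))))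

/-- A suborbit and a mover, part 216. -/
def redCodePart216 : Janko1.Tree ℕ := (.node (.node (.node (.node (.node (.node (.leaf 67784) (.leaf 65445)) (.node (.leaf 170547) (.leaf 90761))) (.node (.node (.leaf 175063) (.leaf 195640)) (.node (.leaf 261464) (.leaf 216467)))) (.node (.node (.node (.leaf 173267) (.leaf 273240)) (.node (.leaf 63111) (.leaf 195891))) (.node (.node (.leaf 131350) (.leaf 86085)) (.node (.leaf 71880) (.leaf 95636))))) (.node (.node (.node (.node (.leaf 133269) (.leaf 73525)) (.node (.leaf 133142) (.leaf 73686))) (.node (.node (.leaf 131477) (.leaf 86181)) (.node (.leaf 71720) (.leaf 95507)))) (.node (.node (.node (.leaf 273335) (.leaf 247064)) (.node (.leaf 272568) (.leaf 196052))) (.node (.node (.leaf 173108) (.leaf 62983)) (.node (.leaf 216340) (.leaf 170708)))))) (.node (.node (.node (.node (.node (.leaf 90633) (.leaf 173880)) (.node (.leaf 67624) (.leaf 65349))) (.node (.node (.leaf 154571) (.leaf 154578)) (.node (.leaf 69899) (.leaf 16643)))) (.node (.node (.node (.leaf 77347) (.leaf 17412)) (.node (.leaf 125348)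 (.leaf 163661))) (.node (.node (.leaf 66251) (.leaf 66258)) (.node (.leaf 104334) (.leaf 55634))))) (.node (.node (.node (.node (.leaf 118734) (.leaf 134673)) (.node (.leaf 134666) (.leaf 130257))) (.node (.node (.leaf 140333) (.leaf 108366)) (.node (.leaf 160141) (.leaf 128849)))) (.node (.node (.node (.leaf 160013) (.leaf 128945)) (.node (.leaf 121486) (.leaf 130097))) (.node (.node (.leaf 134794) (.leaf 55730)) (.node (.leaf 66091) (.leaf 77507)))))))

/-- A suborbit and a mover, part 217. -/
def redCodePart217 : Janko1.Tree ℕ := (.node (.node (.node (.node (.node (.node (.leaf 16771) (.leaf 125252)) (.node (.leaf 17540) (.leaf 154411))) (.node (.node (.leaf 70027) (.leaf 70034)) (.node (.leaf 155313) (.leaf 155306)))) (.node (.node (.node (.leaf 68394) (.leaf 8963)) (.node (.leaf 167843) (.leaf 8964))) (.node (.node (.leaf 167844) (.leaf 152971)) (.node (.leaf 139218) (.leaf 158282))))) (.node (.node (.node (.node (.leaf 163505) (.leaf 78541)) (.node (.leaf 160146) (.leaf 90446))) (.node (.node (.leaf 160018) (.leaf 90542)) (.node (.leaf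 144909) (.leaf 163409)))) (.node (.node (.node (.leaf 140941) (.leaf 158385)) (.node (.leaf 158378) (.leaf 92494))) (.node (.node (.leaf 87502) (.leaf 139058)) (.node (.leaf 152843) (.leaf 152850)))))) (.node (.node (.node (.node (.node (.leaf 148109) (.leaf 167747)) (.node (.leaf 9091) (.leaf 167748))) (.node (.node (.leaf 9092) (.leaf 155210)) (.node (.leaf 68561) (.leaf 68554)))) (.node (.node (.node (.leaf 133013) (.leaf 133014)) (.node (.leaf 72979) (.leaf 72980))) (.node (.node (.leaf 10508) (.leaf 72012)) (.node (.leaf 170548) (.leaf 152399))))) (.node (.node (.node (.node (.leaf 215447) (.leaf 194871)) (.node (.leaf 216468) (.leaf 173268))) (.node (.node (.leaf 79824) (.leaf 195892)) (.node (.leaf 131349) (.leaf 95635)))) (.node (.node (.node (.leaf 133270) (.leaf 73526)) (.node (.leaf 133141) (.leaf 73685))) (.node (.node (.leaf 131478) (.leaf 95508)) (.node (.leaf 270295) (.leaf 244887)))))))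

/-- A suborbit and a mover, part 218. -/
def redCodePart218 : Janko1.Tree ℕ := (.node (.node (.node (.node (.node (.node (.leaf 196051) (.leaf 173107)) (.node (.leaf 79664) (.leaf 216339))) (.node (.node (.leaf 170707) (.leaf 152495)) (.node (.leaf 10636) (.leaf 72108)))) (.node (.node (.node (.leaf 132885) (.leaf 132886)) (.node (.leaf 73107) (.leaf 73108))) (.node (.node (.leaf 159885) (.leaf 187814)) (.node (.leaf 125002) (.leaf 160472))))) (.node (.node (.node (.node (.leaf 162066) (.leaf 56504)) (.node (.leaf 158130) (.leaf 200326))) (.node (.node (.leaf 164754) (.leaf 181257)) (.node (.leaf 243973) (.leaf 82755)))) (.node (.node (.node (.leaf 132625) (.leaf 155179)) (.node (.leaf 189607) (.leaf 109742))) (.node (.node (.leaf 155083) (.leaf 166473)) (.node (.leaf 154923) (.leaf 166569)))))) (.node (.node (.node (.node (.node (.leaf 155339) (.leaf 189511)) (.node (.leaf 82851) (.leaf 93912))) (.node (.node (.leaf 61144) (.leaf 161357)) (.node (.leaf 244101) (.leaf 181385)))) (.node (.node (.node (.leaf 153901) (.leaf 200198)) (.node (.leaf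 70552) (.leaf 127825))) (.node (.node (.leaf 125098) (.leaf 160728)) (.node (.leaf 187718) (.leaf 166727))))) (.node (.node (.node (.node (.leaf 67416) (.leaf 157610)) (.node (.leaf 94926) (.leaf 181155))) (.node (.node (.leaf 76237) (.leaf 153618)) (.node (.leaf 205737) (.leaf 184072)))) (.node (.node (.node (.leaf 163986) (.leaf 160523)) (.node (.leaf 81965) (.leaf 155825))) (.node (.node (.leaf 202057) (.leaf 166470)) (.node (.leaf 166566) (.leaf 202153)))))))

/-- A suborbit and a mover, part 219. -/
def redCodePart219 : Janko1.Tree ℕ := (.node (.node (.node (.node (.node (.node (.leaf 156081) (.leaf 160651)) (.node (.leaf 150744) (.leaf 184200))) (.node (.node (.leaf 205641) (.leaf 181059)) (.node (.leaf 121944) (.leaf 130616)))) (.node (.node (.node (.leaf 157514) (.leaf 139992)) (.node (.leaf 88878) (.leaf 92110))) (.node (.node (.leaf 68440) (.leaf 81613)) (.node (.leaf 159762) (.leaf 166823))))) (.node (.node (.node (.node (.leaf 84645) (.leaf 93331)) (.node (.leaf 76231) (.leaf 174040))) (.node (.node (.leaf 76839) (.leaf 88329)) (.node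 (.leaf 125721) (.leaf 82566)))) (.node (.node (.node (.leaf 120528) (.leaf 68648)) (.node (.leaf 128023) (.leaf 65974))) (.node (.node (.leaf 85413) (.leaf 68040)) (.node (.leaf 121399) (.leaf 134871)))))) (.node (.node (.node (.node (.node (.leaf 67880) (.leaf 85317)) (.node (.leaf 68808) (.leaf 65877))) (.node (.node (.leaf 82438) (.leaf 172088)) (.node (.leaf 88457) (.leaf 76999)))) (.node (.node (.node (.leaf 172087) (.leaf 58265)) (.node (.leaf 272472) (.leaf 76071))) (.node (.node (.leaf 75792) (.leaf 93204)) (.node (.leaf 84549) (.leaf 75095))))) (.node (.node (.node (.node (.leaf 109230) (.leaf 125009)) (.node (.leaf 127921) (.leaf 127914))) (.node (.node (.leaf 162059) (.leaf 117550)) (.node (.leaf 158123) (.leaf 154061)))) (.node (.node (.node (.leaf 164747) (.leaf 161453)) (.node (.leaf 86403) (.leaf 25763))) (.node (.node (.leaf 132618) (.leaf 160525)) (.node (.leaf 155186) (.leaf 155090)))))))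

/-- A suborbit and a mover, part 220. -/
def redCodePart220 : Janko1.Tree ℕ := (.node (.node (.node (.node (.node (.node (.leaf 154930) (.leaf 109646)) (.node (.leaf 155346) (.leaf 160653))) (.node (.node (.leaf 132753) (.leaf 132746)) (.node (.leaf 25667) (.leaf 86275)))) (.node (.node (.node (.leaf 164619) (.leaf 164626)) (.node (.leaf 158027) (.leaf 158034))) (.node (.node (.leaf 117710) (.leaf 162187)) (.node (.leaf 162194) (.leaf 127818))))) (.node (.node (.node (.node (.leaf 125105) (.leaf 109134)) (.node (.leaf 159757) (.leaf 159883))) (.node (.node (.leaf 159890) (.leaf 81453)) (.node (.leaf 91950) (.leaf 89038)))) (.node (.node (.node (.leaf 76845) (.leaf 157617)) (.node (.leaf 186435) (.leaf 55043))) (.node (.node (.leaf 153611) (.leaf 163979)) (.node (.leaf 85549) (.leaf 160530)))))) (.node (.node (.node (.node (.node (.leaf 155985) (.leaf 155978)) (.node (.leaf 155818) (.leaf 155729))) (.node (.node (.leaf 155722) (.leaf 82125)) (.node (.leaf 156074) (.leaf 160658)))) (.node (.node (.node (.leaf 85709) (.leaf 163851)) (.node (.leaf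 163858) (.leaf 153739))) (.node (.node (.leaf 153746) (.leaf 76077)) (.node (.leaf 55171) (.leaf 186531))))) (.node (.node (.node (.node (.leaf 94766) (.leaf 157521)) (.node (.leaf 77005) (.leaf 159755))) (.node (.node (.leaf 110613) (.leaf 110614)) (.node (.leaf 93332) (.leaf 92179)))) (.node (.node (.node (.leaf 92180) (.leaf 75920)) (.node (.leaf 77008) (.leaf 148560))) (.node (.node (.leaf 131002) (.leaf 69659)) (.node (.leaf 130768) (.leaf 79447)))))))

/-- A suborbit and a mover, part 221. -/
def redCodePart221 : Janko1.Tree ℕ := (.node (.node (.node (.node (.node (.node (.leaf 165303) (.leaf 65973)) (.node (.leaf 58711) (.leaf 93335))) (.node (.node (.leaf 150583) (.leaf 66967)) (.node (.leaf 65878) (.leaf 120368)))) (.node (.node (.node (.leaf 130608) (.leaf 196055)) (.node (.leaf 224535) (.leaf 69786))) (.node (.node (.leaf 130907) (.leaf 148656)) (.node (.leaf 76848) (.leaf 92307))))) (.node (.node (.node (.node (.leaf 92308) (.leaf 93203)) (.node (.leaf 110741) (.leaf 110742))) (.node (.node (.leaf 123959) (.leaf 88983)) (.node (.leaf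 128593) (.leaf 166729)))) (.node (.node (.node (.leaf 119950) (.leaf 149517)) (.node (.leaf 148365) (.leaf 75416))) (.node (.node (.leaf 201863) (.leaf 241029)) (.node (.leaf 123032) (.leaf 101080)))))) (.node (.node (.node (.node (.node (.leaf 65323) (.leaf 90296)) (.node (.leaf 136900) (.leaf 161944))) (.node (.node (.leaf 125610) (.leaf 66962)) (.node (.leaf 190791) (.leaf 188070)))) (.node (.node (.node (.leaf 70290) (.leaf 187974)) (.node (.leaf 120078) (.leaf 190887))) (.node (.node (.leaf 125514) (.leaf 136740)) (.node (.leaf 146765) (.leaf 65483))))) (.node (.node (.node (.node (.leaf 136657) (.leaf 135441)) (.node (.leaf 240901) (.leaf 96942))) (.node (.node (.leaf 201735) (.leaf 74136)) (.node (.leaf 166825) (.leaf 166726)))) (.node (.node (.node (.leaf 151083) (.leaf 97624)) (.node (.leaf 149202) (.leaf 184903))) (.node (.node (.leaf 94030) (.leaf 183432)) (.node (.leaf 181156) (.leaf 55896)))))))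

/-- A suborbit and a mover, part 222. -/
def redCodePart222 : Janko1.Tree ℕ := (.node (.node (.node (.node (.node (.node (.leaf 124728) (.leaf 91288)) (.node (.leaf 81230) (.leaf 180038))) (.node (.node (.leaf 198825) (.leaf 70090)) (.node (.leaf 68906) (.leaf 166471)))) (.node (.node (.node (.leaf 69066) (.leaf 166567)) (.node (.leaf 143245) (.leaf 69930))) (.node (.node (.leaf 198729) (.leaf 180134)) (.node (.leaf 65745) (.leaf 56881))))) (.node (.node (.node (.node (.leaf 84120) (.leaf 147410)) (.node (.leaf 181060) (.leaf 183304))) (.node (.node (.leaf 56273) (.leaf 184999)) (.node (.leaf 98904) (.leaf 151243)))) (.node (.node (.node (.leaf 90286) (.leaf 166822)) (.node (.leaf 67223) (.leaf 72488))) (.node (.node (.leaf 74003) (.leaf 64041)) (.node (.leaf 71321) (.leaf 66055)))))) (.node (.node (.node (.node (.node (.leaf 221207) (.leaf 197592)) (.node (.leaf 66758) (.leaf 62665))) (.node (.node (.leaf 135119) (.leaf 174904)) (.node (.leaf 63045) (.leaf 114582)))) (.node (.node (.node (.leaf 72744) (.leaf 65957)) (.node (.leaf 65861) (.leaf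 88471))) (.node (.node (.leaf 72904) (.leaf 126231)) (.node (.leaf 63141) (.leaf 114453))))) (.node (.node (.node (.node (.leaf 120119) (.leaf 246424)) (.node (.leaf 62505) (.leaf 66598))) (.node (.node (.leaf 81807) (.leaf 66183)) (.node (.leaf 64201) (.leaf 129465)))) (.node (.node (.node (.leaf 74132) (.leaf 72648)) (.node (.leaf 128586) (.leaf 96846))) (.node (.node (.leaf 135569) (.leaf 135562)) (.node (.leaf 136497) (.leaf 136490)))))))

/-- A suborbit and a mover, part 223. -/
def redCodePart223 : Janko1.Tree ℕ := (.node (.node (.node (.node (.node (.node (.leaf 116430) (.leaf 97710)) (.node (.leaf 65330) (.leaf 146861))) (.node (.node (.leaf 134916) (.leaf 34980)) (.node (.leaf 125617) (.leaf 66955)))) (.node (.node (.node (.leaf 120206) (.leaf 70155)) (.node (.leaf 70162) (.leaf 70283))) (.node (.node (.leaf 66827) (.leaf 66834)) (.node (.leaf 125521) (.leaf 34884))))) (.node (.node (.node (.node (.leaf 135044) (.leaf 65490)) (.node (.leaf 97614) (.leaf 116270))) (.node (.node (.leaf 136650) (.leaf 135434)) (.node (.leaf 148237) (.leaf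 149645)))) (.node (.node (.node (.leaf 119822) (.leaf 128689)) (.node (.leaf 128682) (.leaf 90190))) (.node (.node (.leaf 143373) (.leaf 151090)) (.node (.leaf 149195) (.leaf 56113)))))) (.node (.node (.node (.node (.node (.leaf 56106) (.leaf 186436)) (.node (.leaf 55044) (.leaf 147243))) (.node (.node (.leaf 147250) (.leaf 57041)) (.node (.leaf 57034) (.leaf 151949)))) (.node (.node (.node (.leaf 65585) (.leaf 65578)) (.node (.leaf 87982) (.leaf 70097))) (.node (.node (.leaf 143117) (.leaf 68913)) (.node (.leaf 69073) (.leaf 69937))))) (.node (.node (.node (.node (.leaf 87886) (.leaf 81326)) (.node (.leaf 65738) (.leaf 151821))) (.node (.node (.leaf 56874) (.leaf 147403)) (.node (.leaf 55172) (.leaf 186532)))) (.node (.node (.node (.leaf 94126) (.leaf 56266)) (.node (.leaf 149035) (.leaf 149042))) (.node (.node (.leaf 151250) (.leaf 143501)) (.node (.leaf 135127) (.leaf 149815)))))))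

/-- A suborbit and a mover, part 224. -/
def redCodePart224 : Janko1.Tree ℕ := (.node (.node (.node (.node (.node (.node (.leaf 63829) (.leaf 63830)) (.node (.leaf 74004) (.leaf 75411))) (.node (.node (.leaf 75412) (.leaf 60570)) (.node (.leaf 128923) (.leaf 173111)))) (.node (.node (.node (.leaf 197591) (.leaf 62511)) (.node (.leaf 81679) (.leaf 97615))) (.node (.node (.leaf 88335) (.leaf 114581)) (.node (.leaf 74583) (.leaf 123703))))) (.node (.node (.node (.node (.leaf 82263) (.leaf 161463)) (.node (.leaf 114454) (.leaf 57687))) (.node (.node (.leaf 92823) (.leaf 88463)) (.node (.leaf 97711) (.leaf 134959)))) (.node (.node (.node (.leaf 62671) (.leaf 128794)) (.node (.leaf 60443) (.leaf 75283))) (.node (.node (.leaf 75284) (.leaf 74131)) (.node (.leaf 63925) (.leaf 63926)))))) (.node (.node (.node (.node (.node (.leaf 235589) (.leaf 191047)) (.node (.leaf 113848) (.leaf 239144))) (.node (.node (.leaf 238280) (.leaf 80280)) (.node (.leaf 180361) (.leaf 186153)))) (.node (.node (.node (.leaf 245285) (.leaf 203815)) (.node (.leaf 199431) (.leaf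 204742))) (.node (.node (.leaf 68792) (.leaf 246664)) (.node (.leaf 236453) (.leaf 168873))))) (.node (.node (.node (.node (.leaf 189254) (.leaf 66520)) (.node (.leaf 113080) (.leaf 66008))) (.node (.node (.leaf 189350) (.leaf 168777)) (.node (.leaf 236357) (.leaf 152248)))) (.node (.node (.node (.leaf 246536) (.leaf 204582)) (.node (.leaf 55736) (.leaf 199559))) (.node (.node (.leaf 203975) (.leaf 245445)) (.node (.leaf 186313) (.leaf 180233)))))))

/-- A suborbit and a mover, part 225. -/
def redCodePart225 : Janko1.Tree ℕ := (.node (.node (.node (.node (.node (.node (.leaf 99544) (.leaf 238120)) (.node (.leaf 239304) (.leaf 78744))) (.node (.node (.leaf 191143) (.leaf 235685)) (.node (.leaf 178824) (.leaf 202569)))) (.node (.node (.node (.leaf 131640) (.leaf 238341)) (.node (.leaf 237445) (.leaf 85144))) (.node (.node (.leaf 207177) (.leaf 184902)) (.node (.leaf 247557) (.leaf 114520))))) (.node (.node (.node (.node (.leaf 186535) (.leaf 139224)) (.node (.leaf 180039) (.leaf 172936))) (.node (.node (.leaf 195145) (.leaf 179464)) (.node (.leaf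 168870) (.leaf 168871)))) (.node (.node (.node (.leaf 95896) (.leaf 147160)) (.node (.leaf 94872) (.leaf 168775))) (.node (.node (.leaf 168774) (.leaf 179592)) (.node (.leaf 195241) (.leaf 172808)))))) (.node (.node (.node (.node (.node (.leaf 180135) (.leaf 186439)) (.node (.leaf 247685) (.leaf 65368))) (.node (.node (.leaf 184998) (.leaf 207273)) (.node (.leaf 132920) (.leaf 237317)))) (.node (.node (.node (.leaf 238469) (.leaf 146904)) (.node (.leaf 202665) (.leaf 178696))) (.node (.node (.leaf 93591) (.leaf 137494)) (.node (.leaf 136342) (.leaf 258615))))) (.node (.node (.node (.node (.leaf 129371) (.leaf 174036)) (.node (.leaf 58139) (.leaf 154031))) (.node (.node (.leaf 218391) (.leaf 260820)) (.node (.leaf 65839) (.leaf 72662)))) (.node (.node (.node (.leaf 91031) (.leaf 72340)) (.node (.leaf 94483) (.leaf 63061))) (.node (.node (.leaf 111893) (.leaf 73235)) (.node (.leaf 73364) (.leaf 112022)))))))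

/-- A suborbit and a mover, part 226. -/
def redCodePart226 : Janko1.Tree ℕ := (.node (.node (.node (.node (.node (.node (.leaf 63158) (.leaf 94612)) (.node (.leaf 72211) (.leaf 134359))) (.node (.node (.leaf 72501) (.leaf 260659)) (.node (.leaf 58266) (.leaf 261463)))) (.node (.node (.node (.leaf 117424) (.leaf 267831)) (.node (.leaf 173875) (.leaf 81360))) (.node (.node (.leaf 129466) (.leaf 136213)) (.node (.leaf 137621) (.leaf 82775))))) (.node (.node (.node (.node (.leaf 73269) (.leaf 73270)) (.node (.leaf 121655) (.leaf 58455))) (.node (.node (.leaf 94739) (.leaf 94740)) (.node (.leaf 137493) (.leaf 136341)))) (.node (.node (.node (.leaf 259159) (.leaf 247063)) (.node (.leaf 134191) (.leaf 60569))) (.node (.node (.leaf 68250) (.leaf 81200)) (.node (.leaf 118479) (.leaf 174035)))))) (.node (.node (.node (.node (.node (.leaf 117328) (.leaf 131001)) (.node (.leaf 126746) (.leaf 74256))) (.node (.node (.leaf 63120) (.leaf 171831)) (.node (.leaf 195799) (.leaf 260819)))) (.node (.node (.node (.leaf 72661) (.leaf 75863)) (.node (.leaf 122423)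 (.leaf 72339))) (.node (.node (.leaf 94484) (.leaf 63062)) (.node (.leaf 111894) (.leaf 73236))))) (.node (.node (.node (.node (.leaf 73363) (.leaf 112021)) (.node (.leaf 63157) (.leaf 94611))) (.node (.node (.leaf 72212) (.leaf 149047)) (.node (.leaf 70295) (.leaf 72502)))) (.node (.node (.node (.leaf 65999) (.leaf 260660)) (.node (.leaf 62992) (.leaf 153935))) (.node (.node (.leaf 74384) (.leaf 126875)) (.node (.leaf 68249) (.leaf 248599)))))))

/-- A suborbit and a mover, part 227. -/
def redCodePart227 : Janko1.Tree ℕ := (.node (.node (.node (.node (.node (.node (.leaf 260663) (.leaf 274007)) (.node (.leaf 246295) (.leaf 173876))) (.node (.node (.leaf 118319) (.leaf 68123)) (.node (.leaf 126745) (.leaf 134351)))) (.node (.node (.node (.leaf 136214) (.leaf 137622)) (.node (.leaf 94867) (.leaf 94868))) (.node (.node (.leaf 161719) (.leaf 127255)) (.node (.leaf 73429) (.leaf 73430))))) (.node (.node (.node (.node (.leaf 23554) (.leaf 20999)) (.node (.leaf 23561) (.leaf 30999))) (.node (.node (.leaf 23046) (.leaf 24335)) (.node (.leaf 185944)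 (.leaf 37121)))) (.node (.node (.node (.leaf 21010) (.leaf 24333)) (.node (.leaf 100818) (.leaf 34561))) (.node (.node (.leaf 162968) (.leaf 86827)) (.node (.leaf 57794) (.leaf 238231)))))) (.node (.node (.node (.node (.node (.leaf 186936) (.leaf 114127)) (.node (.leaf 793) (.leaf 243736))) (.node (.node (.leaf 30224) (.leaf 30232)) (.node (.leaf 29972) (.leaf 44038)))) (.node (.node (.node (.leaf 109336) (.leaf 108760)) (.node (.leaf 50693) (.leaf 129069))) (.node (.node (.leaf 175112) (.leaf 237464)) (.node (.leaf 794) (.leaf 250552))))) (.node (.node (.node (.node (.leaf 181556) (.leaf 23682)) (.node (.leaf 21127) (.leaf 23689))) (.node (.node (.leaf 23174) (.leaf 22672)) (.node (.leaf 37249) (.leaf 24462)))) (.node (.node (.node (.leaf 37464) (.leaf 34689)) (.node (.leaf 19345) (.leaf 20878))) (.node (.node (.leaf 22680) (.leaf 86987)) (.node (.leaf 57634) (.leaf 231576)))))))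

/-- A suborbit and a mover, part 228. -/
def redCodePart228 : Janko1.Tree ℕ := (.node (.node (.node (.node (.node (.node (.leaf 274648) (.leaf 37337)) (.node (.leaf 30099) (.leaf 55192))) (.node (.node (.leaf 184760) (.leaf 182103)) (.node (.leaf 32657) (.leaf 44166)))) (.node (.node (.node (.leaf 141137) (.leaf 32402)) (.node (.leaf 36024) (.leaf 50821))) (.node (.node (.leaf 138545) (.leaf 175240)) (.node (.leaf 795) (.leaf 119472))))) (.node (.node (.node (.node (.leaf 205367) (.leaf 181720)) (.node (.leaf 188888) (.leaf 181715))) (.node (.node (.leaf 23042) (.leaf 23298)) (.node (.leaf 31767) (.leaf 30231)))) (.node (.node (.node (.leaf 22544) (.leaf 21003)) (.node (.leaf 24334) (.leaf 100811))) (.node (.node (.leaf 21773) (.leaf 19217)) (.node (.leaf 19210) (.leaf 20750)))))) (.node (.node (.node (.node (.node (.leaf 86834) (.leaf 59586)) (.node (.leaf 58562) (.leaf 249783))) (.node (.node (.leaf 252887) (.leaf 22042)) (.node (.leaf 17851) (.leaf 30479)))) (.node (.node (.node (.leaf 29971) (.leaf 32529)) (.node (.leaf 32522) (.leaf 162830)))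 (.node (.node (.leaf 162829) (.leaf 141233)) (.node (.leaf 141226) (.leaf 32267))))) (.node (.node (.node (.node (.leaf 32274) (.leaf 130606)) (.node (.leaf 138705) (.leaf 138698))) (.node (.node (.leaf 38459) (.leaf 21017)) (.node (.leaf 119376) (.leaf 181555)))) (.node (.node (.node (.leaf 23426) (.leaf 23170)) (.node (.leaf 24463) (.leaf 21131))) (.node (.node (.leaf 21138) (.leaf 24461)) (.node (.leaf 100651) (.leaf 100658)))))))

/-- A suborbit and a mover, part 229. -/
def redCodePart229 : Janko1.Tree ℕ := (.node (.node (.node (.node (.node (.node (.leaf 21901) (.leaf 19338)) (.node (.leaf 86994) (.leaf 58402))) (.node (.node (.leaf 59426) (.leaf 113967)) (.node (.leaf 17754) (.leaf 22171)))) (.node (.node (.node (.leaf 30352) (.leaf 30607)) (.node (.leaf 30100) (.leaf 53911))) (.node (.node (.leaf 185271) (.leaf 32650)) (.node (.leaf 162958) (.leaf 162957))))) (.node (.node (.node (.node (.leaf 141130) (.leaf 32395)) (.node (.leaf 130766) (.leaf 129229))) (.node (.node (.leaf 138538) (.leaf 17753)) (.node (.leaf 38618) (.leaf 183255))))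 (.node (.node (.node (.leaf 232599) (.leaf 181716)) (.node (.leaf 21255) (.leaf 20743))) (.node (.node (.leaf 40454) (.leaf 22283)) (.node (.leaf 45061) (.leaf 49673)))))) (.node (.node (.node (.node (.node (.leaf 15320) (.leaf 74756)) (.node (.leaf 113707) (.leaf 20749))) (.node (.node (.leaf 44552) (.leaf 22040)) (.node (.leaf 137518) (.leaf 207767)))) (.node (.node (.node (.leaf 206292) (.leaf 103376)) (.node (.leaf 16410) (.leaf 167128))) (.node (.node (.leaf 54552) (.leaf 39177)) (.node (.leaf 46619) (.leaf 151864))))) (.node (.node (.node (.node (.leaf 72877) (.leaf 86225)) (.node (.leaf 58424) (.leaf 169638))) (.node (.node (.leaf 36408) (.leaf 43785)) (.node (.leaf 112017) (.leaf 131533)))) (.node (.node (.node (.leaf 132868) (.leaf 60248)) (.node (.leaf 134296) (.leaf 57798))) (.node (.node (.leaf 83593) (.leaf 20871)) (.node (.leaf 21383) (.leaf 31639)))))))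

/-- A suborbit and a mover, part 230. -/
def redCodePart230 : Janko1.Tree ℕ := (.node (.node (.node (.node (.node (.node (.leaf 20880) (.leaf 22160)) (.node (.leaf 181080) (.leaf 40582))) (.node (.node (.leaf 22411) (.leaf 22162)) (.node (.leaf 45189) (.leaf 49801)))) (.node (.node (.node (.leaf 113867) (.leaf 74884)) (.node (.leaf 21645) (.leaf 44680))) (.node (.node (.leaf 111249) (.leaf 234904)) (.node (.leaf 232600) (.leaf 206131))))) (.node (.node (.node (.node (.leaf 16539) (.leaf 251192)) (.node (.leaf 30096) (.leaf 30104))) (.node (.node (.leaf 39305) (.leaf 46746)) (.node (.leaf 142136) (.leaf 92881)))) (.node (.node (.node (.leaf 70702) (.leaf 169542)) (.node (.leaf 43913) (.leaf 78642))) (.node (.node (.leaf 132996) (.leaf 150927)) (.node (.leaf 83465) (.leaf 57638)))))) (.node (.node (.node (.node (.node (.leaf 206136) (.leaf 58415)) (.node (.leaf 100303) (.leaf 22032))) (.node (.node (.leaf 20752) (.leaf 22027)) (.node (.leaf 22034) (.leaf 22290)))) (.node (.node (.node (.leaf 40452) (.leaf 68228)) (.node (.leaf 113714) (.leaf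 21517))) (.node (.node (.leaf 111121) (.leaf 111114)) (.node (.leaf 190007) (.leaf 170199))))) (.node (.node (.node (.node (.leaf 206291) (.leaf 32283)) (.node (.leaf 35673) (.leaf 30480))) (.node (.node (.leaf 29968) (.leaf 50201)) (.node (.leaf 50970) (.leaf 135088)))) (.node (.node (.node (.leaf 92721) (.leaf 92714)) (.node (.leaf 86218) (.leaf 70862))) (.node (.node (.leaf 78795) (.leaf 78802)) (.node (.leaf 112010) (.leaf 25348)))))))

/-- A suborbit and a mover, part 231. -/
def redCodePart231 : Janko1.Tree ℕ := (.node (.node (.node (.node (.node (.node (.leaf 127620) (.leaf 150799)) (.node (.leaf 140880) (.leaf 100143))) (.node (.node (.leaf 58575) (.leaf 32151)) (.node (.leaf 30103) (.leaf 22418)))) (.node (.node (.node (.leaf 22155) (.leaf 113874)) (.node (.leaf 68100) (.leaf 40580))) (.node (.node (.leaf 20877) (.leaf 111242)) (.node (.leaf 137678) (.leaf 206132))))) (.node (.node (.node (.node (.leaf 3673) (.leaf 32410)) (.node (.leaf 103216) (.leaf 30608))) (.node (.node (.leaf 134992) (.leaf 51099)) (.node (.leaf 29081) (.leaf 72781))))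 (.node (.node (.node (.leaf 92874) (.leaf 86065)) (.node (.leaf 86058) (.leaf 111889))) (.node (.node (.leaf 111882) (.leaf 78635)) (.node (.leaf 127492) (.leaf 25476)))))) (.node (.node (.node (.node (.node (.leaf 131373) (.leaf 140976)) (.node (.leaf 23049) (.leaf 23305))) (.node (.node (.leaf 23055) (.leaf 24847)) (.node (.leaf 40966) (.leaf 23310)))) (.node (.node (.node (.leaf 44037) (.leaf 25304)) (.node (.leaf 95146) (.leaf 18449))) (.node (.node (.leaf 19466) (.leaf 44808)) (.node (.leaf 50695) (.leaf 114189))))) (.node (.node (.node (.node (.leaf 169431) (.leaf 69383)) (.node (.leaf 29967) (.leaf 34567))) (.node (.node (.leaf 180152) (.leaf 51227)) (.node (.leaf 44039) (.leaf 59043)))) (.node (.node (.node (.leaf 50694) (.leaf 66115)) (.node (.leaf 145450) (.leaf 16059))) (.node (.node (.leaf 206296) (.leaf 139184)) (.node (.leaf 66854) (.leaf 23433)))))))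

/-- A suborbit and a mover, part 232. -/
def redCodePart232 : Janko1.Tree ℕ := (.node (.node (.node (.node (.node (.node (.leaf 23177) (.leaf 31127)) (.node (.leaf 41094) (.leaf 180312))) (.node (.node (.leaf 44165) (.leaf 3672)) (.node (.leaf 75213) (.leaf 95050)))) (.node (.node (.node (.leaf 19594) (.leaf 44936)) (.node (.leaf 155288) (.leaf 50823))) (.node (.node (.leaf 276184) (.leaf 275416)) (.node (.leaf 158608) (.leaf 69511))))) (.node (.node (.node (.node (.leaf 30351) (.leaf 30360)) (.node (.leaf 51354) (.leaf 34695))) (.node (.node (.leaf 74415) (.leaf 44167)) (.node (.leaf 58947) (.leaf 117528)))) (.node (.node (.node (.leaf 157966) (.leaf 63021)) (.node (.leaf 127448) (.leaf 135474))) (.node (.node (.leaf 104152) (.leaf 92370)) (.node (.leaf 50822) (.leaf 113293)))))) (.node (.node (.node (.node (.node (.leaf 145610) (.leaf 74328)) (.node (.leaf 66211) (.leaf 90392))) (.node (.node (.leaf 15962) (.leaf 209432)) (.node (.leaf 67014) (.leaf 123984)))) (.node (.node (.node (.leaf 248920) (.leaf 24590)) (.node (.leaf 95153) (.leaf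 75053))) (.node (.node (.leaf 18442) (.leaf 19473)) (.node (.leaf 135374) (.leaf 205523))))) (.node (.node (.node (.node (.leaf 205524) (.leaf 210839)) (.node (.leaf 186935) (.leaf 156495))) (.node (.node (.leaf 158480) (.leaf 30223)) (.node (.leaf 74319) (.leaf 29465)))) (.node (.node (.node (.leaf 46362) (.leaf 158094)) (.node (.leaf 72259) (.leaf 37123))) (.node (.node (.leaf 135627) (.leaf 135634)) (.node (.leaf 63181) (.leaf 113165)))))))

/-- A suborbit and a mover, part 233. -/
def redCodePart233 : Janko1.Tree ℕ := (.node (.node (.node (.node (.node (.node (.leaf 92203) (.leaf 92210)) (.node (.leaf 34563) (.leaf 70051))) (.node (.node (.leaf 145457) (.leaf 3993)) (.node (.leaf 35674) (.leaf 105551)))) (.node (.node (.node (.leaf 124080) (.leaf 30359)) (.node (.leaf 31895) (.leaf 24975))) (.node (.node (.leaf 23183) (.leaf 23438)) (.node (.leaf 24718) (.leaf 95057))))) (.node (.node (.node (.node (.leaf 19601) (.leaf 18577)) (.node (.leaf 18570) (.leaf 135214))) (.node (.node (.leaf 114317) (.leaf 205363)) (.node (.leaf 205364) (.leaf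 156591)))) (.node (.node (.node (.leaf 30095) (.leaf 46491)) (.node (.leaf 49817) (.leaf 37251))) (.node (.node (.leaf 72355) (.leaf 135467)) (.node (.leaf 92363) (.leaf 145617)))))) (.node (.node (.node (.node (.node (.leaf 69955) (.leaf 34691)) (.node (.leaf 105647) (.leaf 35771))) (.node (.node (.leaf 32409) (.leaf 139088)) (.node (.leaf 30487) (.leaf 31511)))) (.node (.node (.node (.leaf 184920) (.leaf 39174)) (.node (.leaf 185432) (.leaf 45317))) (.node (.node (.leaf 43784) (.leaf 99725)) (.node (.leaf 206851) (.leaf 96210))))) (.node (.node (.node (.node (.leaf 104074) (.leaf 250551)) (.node (.leaf 188727) (.leaf 207059))) (.node (.node (.leaf 251351) (.leaf 87302)) (.node (.leaf 207768) (.leaf 69929)))) (.node (.node (.node (.leaf 231448) (.leaf 30488)) (.node (.leaf 29976) (.leaf 182708))) (.node (.node (.leaf 54039) (.leaf 137296)) (.node (.leaf 115762) (.leaf 108242)))))))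

/-- A suborbit and a mover, part 234. -/
def redCodePart234 : Janko1.Tree ℕ := (.node (.node (.node (.node (.node (.node (.leaf 175431) (.leaf 243336)) (.node (.leaf 204617) (.leaf 174660))) (.node (.node (.leaf 133070) (.leaf 97297)) (.node (.leaf 81176) (.leaf 166280)))) (.node (.node (.node (.leaf 252888) (.leaf 276024)) (.node (.leaf 92615) (.leaf 83504))) (.node (.node (.leaf 269143) (.leaf 30615)) (.node (.leaf 182104) (.leaf 39302))))) (.node (.node (.node (.node (.leaf 45445) (.leaf 87217)) (.node (.leaf 66094) (.leaf 56526))) (.node (.node (.leaf 43912) (.leaf 103946)) (.node (.leaf 206979) (.leaf 206900)))) (.node (.node (.node (.leaf 70089) (.leaf 87430)) (.node (.leaf 30616) (.leaf 182611))) (.node (.node (.leaf 79153) (.leaf 204713)) (.node (.leaf 243208) (.leaf 175527)))))) (.node (.node (.node (.node (.node (.leaf 174756) (.leaf 136600)) (.node (.leaf 166152) (.leaf 92455))) (.node (.node (.leaf 31255) (.leaf 30743)) (.node (.leaf 29975) (.leaf 32023)))) (.node (.node (.node (.leaf 56366) (.leaf 67789)) (.node (.leaf 66254) (.leaf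 87121))) (.node (.node (.leaf 87114) (.leaf 50691)) (.node (.leaf 195459) (.leaf 96203))))) (.node (.node (.node (.node (.leaf 104081) (.leaf 252119)) (.node (.leaf 238999) (.leaf 167127))) (.node (.node (.leaf 209559) (.leaf 207060)) (.node (.leaf 237463) (.leaf 249015)))) (.node (.node (.node (.leaf 68271) (.leaf 182707)) (.node (.leaf 180663) (.leaf 185943))) (.node (.node (.leaf 63565) (.leaf 79313)) (.node (.leaf 79306) (.leaf 115755)))))))

/-- A suborbit and a mover, part 235. -/
def redCodePart235 : Janko1.Tree ℕ := (.node (.node (.node (.node (.node (.node (.leaf 108235) (.leaf 106893)) (.node (.leaf 50692) (.leaf 183972))) (.node (.node (.leaf 97290) (.leaf 207763)) (.node (.leaf 207764) (.leaf 240663)))) (.node (.node (.node (.leaf 275255) (.leaf 86671)) (.node (.leaf 30871) (.leaf 31383))) (.node (.node (.leaf 87210) (.leaf 67629)) (.node (.leaf 103953) (.leaf 96043))))) (.node (.node (.node (.node (.leaf 96050) (.leaf 195331)) (.node (.leaf 50819) (.leaf 99597))) (.node (.node (.leaf 206899) (.leaf 137392)) (.node (.leaf 182612)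 (.leaf 68175)))) (.node (.node (.node (.leaf 108075) (.leaf 108082)) (.node (.leaf 115915) (.leaf 115922))) (.node (.node (.leaf 79146) (.leaf 63661)) (.node (.leaf 97425) (.leaf 97418)))))) (.node (.node (.node (.node (.node (.leaf 132910) (.leaf 183876)) (.node (.leaf 50820) (.leaf 106765))) (.node (.node (.leaf 86543) (.leaf 207635)) (.node (.leaf 207636) (.leaf 83664)))) (.node (.node (.node (.leaf 23558) (.leaf 184664)) (.node (.leaf 23302) (.leaf 21008))) (.node (.node (.leaf 185688) (.leaf 4568)) (.node (.leaf 84049) (.leaf 48649))))) (.node (.node (.node (.node (.leaf 25048) (.leaf 55598)) (.node (.leaf 21518) (.leaf 21016))) (.node (.node (.leaf 51463) (.leaf 190008)) (.node (.leaf 33307) (.leaf 232472)))) (.node (.node (.node (.leaf 188728) (.leaf 154959)) (.node (.leaf 85766) (.leaf 53784))) (.node (.node (.leaf 35079) (.leaf 30227)) (.node (.leaf 39433) (.leaf 179896)))))))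

/-- A suborbit and a mover, part 236. -/
def redCodePart236 : Janko1.Tree ℕ := (.node (.node (.node (.node (.node (.node (.leaf 158093) (.leaf 138027)) (.node (.leaf 48648) (.leaf 193156))) (.node (.node (.leaf 72110) (.leaf 83416)) (.node (.leaf 191878) (.leaf 151346)))) (.node (.node (.node (.leaf 176649) (.leaf 270936)) (.node (.leaf 59593) (.leaf 111951))) (.node (.node (.leaf 23430) (.leaf 23951)) (.node (.leaf 23686) (.leaf 23437))))) (.node (.node (.node (.node (.leaf 48777) (.leaf 15832)) (.node (.leaf 51591) (.leaf 101133))) (.node (.node (.leaf 154520) (.leaf 105489)) (.node (.leaf 85894) (.leaf 33434)))) (.node (.node (.node (.leaf 30356) (.leaf 39561)) (.node (.leaf 35207) (.leaf 67663))) (.node (.node (.leaf 48776) (.leaf 193028)) (.node (.leaf 138187) (.leaf 153393)))))) (.node (.node (.node (.node (.node (.leaf 176777) (.leaf 83282)) (.node (.leaf 191750) (.leaf 274647))) (.node (.node (.leaf 238872) (.leaf 59433)) (.node (.leaf 137775) (.leaf 21776)))) (.node (.node (.node (.leaf 23567) (.leaf 23823)) (.node (.leaf 24589) (.leaf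 84042))) (.node (.node (.leaf 23309) (.leaf 21774)) (.node (.leaf 105617) (.leaf 105610))))) (.node (.node (.node (.node (.leaf 101261) (.leaf 35417)) (.node (.leaf 16794) (.leaf 157712))) (.node (.node (.leaf 102608) (.leaf 30483)) (.node (.leaf 30484) (.leaf 67759)))) (.node (.node (.node (.leaf 30228) (.leaf 137040)) (.node (.leaf 138034) (.leaf 188932))) (.node (.node (.leaf 44036) (.leaf 83371)) (.node (.leaf 83378) (.leaf 135373)))))))

/-- A suborbit and a mover, part 237. -/
def redCodePart237 : Janko1.Tree ℕ := (.node (.node (.node (.node (.node (.node (.leaf 153553) (.leaf 153546)) (.node (.leaf 151339) (.leaf 169427))) (.node (.node (.leaf 169428) (.leaf 137935)) (.node (.leaf 21136) (.leaf 21904)))) (.node (.node (.node (.leaf 23695) (.leaf 55758)) (.node (.leaf 24717) (.leaf 84145))) (.node (.node (.leaf 84138) (.leaf 21646)) (.node (.leaf 21902) (.leaf 105482))))) (.node (.node (.node (.node (.leaf 102448) (.leaf 155055)) (.node (.leaf 16667) (.leaf 15833))) (.node (.node (.leaf 157840) (.leaf 30355)) (.node (.leaf 137136) (.leaf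 30611)))) (.node (.node (.node (.leaf 30612) (.leaf 44164)) (.node (.leaf 189060) (.leaf 72014))) (.node (.node (.leaf 157965) (.leaf 138194)) (.node (.leaf 153386) (.leaf 151499)))))) (.node (.node (.node (.node (.node (.leaf 151506) (.leaf 83275)) (.node (.leaf 135213) (.leaf 243863))) (.node (.node (.leaf 271031) (.leaf 112047)) (.node (.leaf 169267) (.leaf 169268)))) (.node (.node (.node (.leaf 39686) (.leaf 21520)) (.node (.leaf 22800) (.leaf 39942))) (.node (.node (.leaf 49929) (.leaf 74285)) (.node (.leaf 14936) (.leaf 70861))))) (.node (.node (.node (.node (.leaf 95921) (.leaf 22296)) (.node (.leaf 134606) (.leaf 191875))) (.node (.node (.leaf 66857) (.leaf 34649)) (.node (.leaf 210840) (.leaf 70919)))) (.node (.node (.node (.leaf 39689) (.leaf 74063)) (.node (.leaf 54808) (.leaf 46618))) (.node (.node (.leaf 186199) (.leaf 78122)) (.node (.leaf 245256) (.leaf 167335)))))))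

/-- A suborbit and a mover, part 238. -/
def redCodePart238 : Janko1.Tree ℕ := (.node (.node (.node (.node (.node (.node (.leaf 132779) (.leaf 140312)) (.node (.leaf 170405) (.leaf 164138))) (.node (.node (.leaf 174661) (.leaf 183207)) (.node (.leaf 78392) (.leaf 86567)))) (.node (.node (.node (.leaf 87305) (.leaf 135962)) (.node (.leaf 85638) (.leaf 205527))) (.node (.node (.leaf 182616) (.leaf 40070)) (.node (.leaf 179800) (.leaf 39814))))) (.node (.node (.node (.node (.leaf 39000) (.leaf 50057)) (.node (.leaf 38744) (.leaf 22936))) (.node (.node (.leaf 117389) (.leaf 191747)) (.node (.leaf 21400) (.leaf 95282)))) (.node (.node (.node (.leaf 112687) (.leaf 15961)) (.node (.leaf 71047) (.leaf 101680))) (.node (.node (.leaf 67017) (.leaf 54168)) (.node (.leaf 46747) (.leaf 54424)))))) (.node (.node (.node (.node (.node (.leaf 39817) (.leaf 132683)) (.node (.leaf 130226) (.leaf 170309))) (.node (.node (.leaf 78282) (.leaf 167239)) (.node (.leaf 245384) (.leaf 114318)))) (.node (.node (.node (.leaf 76466) (.leaf 99598)) (.node (.leaf 164298)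 (.leaf 183111))) (.node (.node (.leaf 174757) (.leaf 85510)) (.node (.leaf 166968) (.leaf 56592))))) (.node (.node (.node (.node (.leaf 87433) (.leaf 86727)) (.node (.leaf 136091) (.leaf 238103))) (.node (.node (.leaf 21264) (.leaf 22288)) (.node (.leaf 65486) (.leaf 95914)))) (.node (.node (.node (.leaf 95435) (.leaf 95442)) (.node (.leaf 206083) (.leaf 51459))) (.node (.node (.leaf 117261) (.leaf 116175)) (.node (.leaf 101840) (.leaf 3994)))))))

/-- A suborbit and a mover, part 239. -/
def redCodePart239 : Janko1.Tree ℕ := (.node (.node (.node (.node (.node (.node (.leaf 33051) (.leaf 112847)) (.node (.leaf 182195) (.leaf 182196))) (.node (.node (.leaf 50715) (.leaf 28441)) (.node (.leaf 54295) (.leaf 181431)))) (.node (.node (.node (.leaf 75822) (.leaf 78129)) (.node (.leaf 130123) (.leaf 130130))) (.node (.node (.leaf 132786) (.leaf 164145)) (.node (.leaf 99726) (.leaf 76363))))) (.node (.node (.node (.node (.leaf 76370) (.leaf 114190)) (.node (.leaf 63515) (.leaf 127417))) (.node (.node (.leaf 56720) (.leaf 232471)) (.node (.leaf 183095)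 (.leaf 22928)))) (.node (.node (.node (.leaf 21648) (.leaf 22416)) (.node (.leaf 21392) (.leaf 95825))) (.node (.node (.leaf 95818) (.leaf 70701)) (.node (.leaf 65326) (.leaf 74445)))))) (.node (.node (.node (.node (.node (.leaf 51587) (.leaf 206211)) (.node (.leaf 95275) (.leaf 134446))) (.node (.node (.leaf 33178) (.leaf 3867)) (.node (.leaf 116015) (.leaf 50585)))) (.node (.node (.node (.leaf 50842) (.leaf 74159)) (.node (.leaf 182099) (.leaf 182100))) (.node (.node (.leaf 132690) (.leaf 130219)) (.node (.leaf 78289) (.leaf 75982))))) (.node (.node (.node (.node (.leaf 76459) (.leaf 164305)) (.node (.leaf 61081) (.leaf 63642))) (.node (.node (.leaf 252727) (.leaf 249687)) (.node (.leaf 40198) (.leaf 39430)))) (.node (.node (.node (.leaf 119090) (.leaf 23768)) (.node (.leaf 63182) (.leaf 71300))) (.node (.node (.leaf 164760) (.leaf 117777)) (.node (.leaf 51719) (.leaf 51715)))))))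

/-- A suborbit and a mover, part 240. -/
def redCodePart240 : Janko1.Tree ℕ := (.node (.node (.node (.node (.node (.node (.leaf 94667) (.leaf 162200)) (.node (.leaf 22298) (.leaf 209560))) (.node (.node (.leaf 156944) (.leaf 68393)) (.node (.leaf 17723) (.leaf 170200)))) (.node (.node (.node (.leaf 180408) (.leaf 181175)) (.node (.leaf 49945) (.leaf 34823))) (.node (.node (.leaf 182451) (.leaf 130008)) (.node (.leaf 62286) (.leaf 176195))))) (.node (.node (.node (.node (.leaf 113166) (.leaf 142283)) (.node (.leaf 183973) (.leaf 181560))) (.node (.node (.leaf 56711) (.leaf 87311)) (.node (.leaf 23439) (.leaf 39558)))) (.node (.node (.node (.leaf 25231) (.leaf 180568)) (.node (.leaf 40326) (.leaf 182360))) (.node (.node (.leaf 71172) (.leaf 15960)) (.node (.leaf 68653) (.leaf 156056)))))) (.node (.node (.node (.node (.node (.leaf 94507) (.leaf 51847)) (.node (.leaf 51843) (.leaf 17882))) (.node (.node (.leaf 68553) (.leaf 155823)) (.node (.leaf 22427) (.leaf 252728)))) (.node (.node (.node (.leaf 34951) (.leaf 182356)) (.node (.leaf 185016) (.leaf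 134480))) (.node (.node (.leaf 184504) (.leaf 28825)) (.node (.leaf 176291) (.leaf 76248))))) (.node (.node (.node (.node (.leaf 55757) (.leaf 147889)) (.node (.leaf 137677) (.leaf 183877))) (.node (.node (.leaf 142123) (.leaf 76088)) (.node (.leaf 269240) (.leaf 243096)))) (.node (.node (.node (.leaf 56583) (.leaf 93232)) (.node (.leaf 24591) (.leaf 24079))) (.node (.node (.leaf 25103) (.leaf 23311)) (.node (.leaf 119083) (.leaf 68813)))))))

/-- A suborbit and a mover, part 241. -/
def redCodePart241 : Janko1.Tree ℕ := (.node (.node (.node (.node (.node (.node (.leaf 75524) (.leaf 39428)) (.node (.leaf 117770) (.leaf 194691))) (.node (.node (.leaf 205315) (.leaf 94674)) (.node (.leaf 136750) (.leaf 955)))) (.node (.node (.node (.leaf 10009) (.leaf 155727)) (.node (.leaf 10137) (.leaf 21018))) (.node (.node (.leaf 186455) (.leaf 55063)) (.node (.leaf 50714) (.leaf 46363))))) (.node (.node (.node (.node (.leaf 134576) (.leaf 182452)) (.node (.leaf 147793) (.leaf 147786))) (.node (.node (.leaf 55597) (.leaf 169635)) (.node (.leaf 44035) (.leaf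 142290)))) (.node (.node (.node (.leaf 106894) (.leaf 137517)) (.node (.leaf 93392) (.leaf 188723))) (.node (.node (.leaf 188724) (.leaf 24207)) (.node (.leaf 24719) (.leaf 39556)))))) (.node (.node (.node (.node (.node (.leaf 75652) (.leaf 63022)) (.node (.leaf 119243) (.leaf 119250))) (.node (.node (.leaf 136910) (.leaf 94514)) (.node (.leaf 205443) (.leaf 194563)))) (.node (.node (.node (.leaf 117905) (.leaf 117898)) (.node (.leaf 21147) (.leaf 38617))) (.node (.node (.leaf 157072) (.leaf 38361)) (.node (.leaf 986) (.leaf 182355))))) (.node (.node (.node (.node (.leaf 46490) (.leaf 50843)) (.node (.leaf 44163) (.leaf 169539))) (.node (.node (.leaf 62382) (.leaf 147882)) (.node (.leaf 106766) (.leaf 142130)))) (.node (.node (.node (.leaf 113294) (.leaf 188883)) (.node (.leaf 188884) (.leaf 87439))) (.node (.node (.leaf 185176) (.leaf 40710)) (.node (.leaf 186456) (.leaf 186200)))))))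

/-- A suborbit and a mover, part 242. -/
def redCodePart242 : Janko1.Tree ℕ := (.node (.node (.node (.node (.node (.node (.leaf 41222) (.leaf 184408)) (.node (.leaf 40708) (.leaf 85066))) (.node (.node (.leaf 100043) (.leaf 83762)) (.node (.leaf 104849) (.leaf 118794)))) (.node (.node (.node (.leaf 240664) (.leaf 169432)) (.node (.leaf 67847) (.leaf 84230))) (.node (.node (.leaf 234776) (.leaf 242968)) (.node (.leaf 29209) (.leaf 134832))))) (.node (.node (.node (.node (.leaf 51226) (.leaf 68015)) (.node (.leaf 176198) (.leaf 201897))) (.node (.node (.leaf 176965) (.leaf 122936)) (.node (.leaf 98968) (.leaf 169865)))) (.node (.node (.node (.leaf 205318) (.leaf 173383)) (.node (.leaf 61723) (.leaf 252883))) (.node (.node (.leaf 180056) (.leaf 41350)) (.node (.leaf 181336) (.leaf 40838)))))) (.node (.node (.node (.node (.node (.leaf 99883) (.leaf 117202)) (.node (.leaf 85162) (.leaf 96593))) (.node (.node (.leaf 40836) (.leaf 99122)) (.node (.leaf 84946) (.leaf 118922)))) (.node (.node (.node (.leaf 133678) (.leaf 136142)) (.node (.leaf 251960)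 (.leaf 84358))) (.node (.node (.leaf 67975) (.leaf 51355)) (.node (.leaf 54679) (.leaf 185783))))) (.node (.node (.node (.node (.leaf 49561) (.leaf 136880)) (.node (.leaf 117304) (.leaf 150552))) (.node (.node (.leaf 177061) (.leaf 201801)) (.node (.leaf 64312) (.leaf 176294)))) (.node (.node (.node (.leaf 173479) (.leaf 205446)) (.node (.leaf 122008) (.leaf 169737))) (.node (.node (.leaf 127024) (.leaf 67023)) (.node (.leaf 252724) (.leaf 188887)))))))

/-- A suborbit and a mover, part 243. -/
def redCodePart243 : Janko1.Tree ℕ := (.node (.node (.node (.node (.node (.node (.leaf 61850) (.leaf 164175)) (.node (.leaf 69520) (.leaf 99275))) (.node (.node (.leaf 99282) (.leaf 69764)) (.node (.leaf 73988) (.leaf 96689)))) (.node (.node (.node (.leaf 96682) (.leaf 57134)) (.node (.leaf 85073) (.leaf 75821))) (.node (.node (.leaf 117035) (.leaf 117042)) (.node (.leaf 100050) (.leaf 83755))))) (.node (.node (.node (.node (.leaf 135982) (.leaf 119565)) (.node (.leaf 100493) (.leaf 104842))) (.node (.node (.leaf 133838) (.leaf 118801)) (.node (.leaf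 84779) (.leaf 84786)))) (.node (.node (.node (.leaf 136784) (.leaf 46106)) (.node (.leaf 50971) (.leaf 46107))) (.node (.node (.leaf 49177) (.leaf 73807)) (.node (.leaf 69392) (.leaf 164271)))))) (.node (.node (.node (.node (.node (.leaf 137497) (.leaf 127418)) (.node (.leaf 252884) (.leaf 66863))) (.node (.node (.leaf 127184) (.leaf 114640)) (.node (.leaf 99890) (.leaf 117195)))) (.node (.node (.node (.leaf 75981) (.leaf 85169)) (.node (.leaf 57294) (.leaf 96586))) (.node (.node (.leaf 74116) (.leaf 69636)) (.node (.leaf 99115) (.leaf 84939))))) (.node (.node (.node (.node (.leaf 118929) (.leaf 104721)) (.node (.leaf 104714) (.leaf 100365))) (.node (.node (.leaf 119693) (.leaf 83915)) (.node (.leaf 83922) (.leaf 67919)))) (.node (.node (.node (.leaf 73903) (.leaf 29849)) (.node (.leaf 46234) (.leaf 185527))) (.node (.node (.leaf 182615) (.leaf 182359)) (.node (.leaf 54935) (.leaf 134736)))))))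

/-- A suborbit and a mover, part 244. -/
def redCodePart244 : Janko1.Tree ℕ := (.node (.node (.node (.node (.node (.node (.leaf 51098) (.leaf 46235)) (.node (.leaf 114480) (.leaf 252723))) (.node (.node (.leaf 209431) (.leaf 166967)) (.node (.leaf 127323) (.leaf 63641)))) (.node (.node (.node (.leaf 36865) (.leaf 21771)) (.node (.leaf 23822) (.leaf 23053))) (.node (.node (.leaf 14680) (.leaf 37377)) (.node (.leaf 24845) (.leaf 50185))))) (.node (.node (.node (.node (.leaf 23512) (.leaf 61238)) (.node (.leaf 112663) (.leaf 158167))) (.node (.node (.leaf 55490) (.leaf 227224)) (.node (.leaf 264664) (.leaf 57033)))) (.node (.node (.node (.leaf 32273) (.leaf 151608)) (.node (.leaf 48392) (.leaf 129867))) (.node (.node (.leaf 176709) (.leaf 32778)) (.node (.leaf 44295) (.leaf 107979)))))) (.node (.node (.node (.node (.node (.leaf 77617) (.leaf 126870)) (.node (.leaf 87847) (.leaf 178647))) (.node (.node (.leaf 55494) (.leaf 37505)) (.node (.leaf 22674) (.leaf 50313)))) (.node (.node (.node (.leaf 57038) (.leaf 36993)) (.node (.leaf 21899) (.leaf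 15448))) (.node (.node (.leaf 84913) (.leaf 55330)) (.node (.leaf 192056) (.leaf 156176))))) (.node (.node (.node (.node (.leaf 56873) (.leaf 61397)) (.node (.leaf 32906) (.leaf 142648))) (.node (.node (.leaf 44423) (.leaf 107819)) (.node (.leaf 118040) (.leaf 64173)))) (.node (.node (.node (.leaf 48520) (.leaf 129963)) (.node (.leaf 62638) (.leaf 176805))) (.node (.node (.leaf 239768) (.leaf 110159)) (.node (.leaf 88007) (.leaf 55334)))))))

/-- A suborbit and a mover, part 245. -/
def redCodePart245 : Janko1.Tree ℕ := (.node (.node (.node (.node (.node (.node (.leaf 263735) (.leaf 35927)) (.node (.leaf 109335) (.leaf 126741))) (.node (.node (.leaf 21778) (.leaf 84817)) (.node (.leaf 84810) (.leaf 22539)))) (.node (.node (.node (.leaf 22546) (.leaf 23566)) (.node (.leaf 56878) (.leaf 61237))) (.node (.node (.leaf 37559) (.leaf 101591)) (.node (.leaf 154679) (.leaf 26775))))) (.node (.node (.node (.node (.leaf 56258) (.leaf 57026)) (.node (.leaf 202291) (.leaf 202292))) (.node (.node (.leaf 107824) (.leaf 156304)) (.node (.leaf 32266) (.leaf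 64077)))) (.node (.node (.node (.leaf 129874) (.leaf 62542)) (.node (.leaf 32785) (.leaf 107986))) (.node (.node (.leaf 77610) (.leaf 55341)) (.node (.leaf 18444) (.leaf 126869)))))) (.node (.node (.node (.node (.node (.leaf 141967) (.leaf 110255)) (.node (.leaf 227223) (.leaf 198455))) (.node (.node (.leaf 22667) (.leaf 23694)) (.node (.leaf 24973) (.leaf 21906)))) (.node (.node (.node (.leaf 23950) (.leaf 23181)) (.node (.leaf 84906) (.leaf 56866))) (.node (.node (.leaf 56098) (.leaf 202451)) (.node (.leaf 202452) (.leaf 107984))))) (.node (.node (.node (.node (.leaf 61398) (.leaf 32913)) (.node (.leaf 107826) (.leaf 77777))) (.node (.node (.leaf 77770) (.leaf 55501)) (.node (.leaf 32401) (.leaf 32394)))) (.node (.node (.node (.leaf 129970) (.leaf 141839)) (.node (.leaf 266071) (.leaf 235287))) (.node (.node (.leaf 147895) (.leaf 143639)) (.node (.leaf 111575) (.leaf 41015)))))))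

/-- A suborbit and a mover, part 246. -/
def redCodePart246 : Janko1.Tree ℕ := (.node (.node (.node (.node (.node (.node (.leaf 18572) (.leaf 126742)) (.node (.leaf 21522) (.leaf 44549))) (.node (.node (.leaf 48393) (.leaf 21259)) (.node (.leaf 22802) (.leaf 44293)))) (.node (.node (.node (.leaf 4440) (.leaf 96426)) (.node (.leaf 102036) (.leaf 67144))) (.node (.node (.leaf 226456) (.leaf 227992)) (.node (.leaf 102703) (.leaf 23513))))) (.node (.node (.node (.node (.leaf 43782) (.leaf 78801)) (.node (.leaf 132274) (.leaf 188420))) (.node (.node (.leaf 44294) (.leaf 151352)) (.node (.leaf 37379) (.leaf 116011)))) (.node (.node (.node (.leaf 130520) (.leaf 201641)) (.node (.leaf 140983) (.leaf 142388))) (.node (.node (.leaf 57637) (.leaf 40153)) (.node (.leaf 143280) (.leaf 177880)))))) (.node (.node (.node (.node (.node (.leaf 201016) (.leaf 21387)) (.node (.leaf 44421) (.leaf 38488))) (.node (.node (.leaf 96330) (.leaf 20882)) (.node (.leaf 44677) (.leaf 48521)))) (.node (.node (.node (.leaf 37976) (.leaf 63790)) (.node (.leaf 75725) (.leaf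 255927))) (.node (.node (.leaf 192055) (.leaf 35545)) (.node (.leaf 226328) (.leaf 101907))))) (.node (.node (.node (.node (.leaf 106199) (.leaf 67240)) (.node (.leaf 44422) (.leaf 116171))) (.node (.node (.leaf 37507) (.leaf 75470)) (.node (.leaf 157453) (.leaf 201545)))) (.node (.node (.node (.leaf 43910) (.leaf 142392)) (.node (.leaf 188548) (.leaf 76760))) (.node (.node (.leaf 149784) (.leaf 21401)) (.node (.leaf 201176) (.leaf 78223)))))))

/-- A suborbit and a mover, part 247. -/
def redCodePart247 : Janko1.Tree ℕ := (.node (.node (.node (.node (.node (.node (.leaf 101040) (.leaf 142547)) (.node (.leaf 57797) (.leaf 21515))) (.node (.node (.leaf 20747) (.leaf 20754)) (.node (.leaf 75565) (.leaf 63950)))) (.node (.node (.node (.leaf 21266) (.leaf 22795)) (.node (.leaf 69837) (.leaf 96433))) (.node (.node (.leaf 23820) (.leaf 75989)) (.node (.leaf 75990) (.leaf 102035))))) (.node (.node (.node (.node (.leaf 32282) (.leaf 26779)) (.node (.leaf 78794) (.leaf 157838))) (.node (.node (.leaf 132267) (.leaf 43780)) (.node (.leaf 192900) (.leaf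 58531)))) (.node (.node (.node (.leaf 72771) (.leaf 116018)) (.node (.leaf 157581) (.leaf 75310))) (.node (.node (.leaf 141335) (.leaf 17239)) (.node (.leaf 142387) (.leaf 61331)))))) (.node (.node (.node (.node (.node (.leaf 61332) (.leaf 39002)) (.node (.leaf 18587) (.leaf 100944))) (.node (.node (.leaf 78095) (.leaf 22923)) (.node (.leaf 22930) (.leaf 21394)))) (.node (.node (.node (.leaf 96337) (.leaf 69677)) (.node (.leaf 20875) (.leaf 21643))) (.node (.node (.leaf 21650) (.leaf 253655)) (.node (.leaf 239767) (.leaf 176343))))) (.node (.node (.node (.node (.leaf 220823) (.leaf 26650)) (.node (.leaf 32411) (.leaf 102863))) (.node (.node (.leaf 75829) (.leaf 75830)) (.node (.leaf 23948) (.leaf 101908)))) (.node (.node (.node (.leaf 106519) (.leaf 4535)) (.node (.leaf 116178) (.leaf 72867))) (.node (.node (.leaf 58435) (.leaf 157710)) (.node (.leaf 78641) (.leaf 78634)))))))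

/-- A suborbit and a mover, part 248. -/
def redCodePart248 : Janko1.Tree ℕ := (.node (.node (.node (.node (.node (.node (.leaf 192772) (.leaf 43908)) (.node (.leaf 132171) (.leaf 132178))) (.node (.node (.leaf 143184) (.leaf 18458)) (.node (.leaf 39099) (.leaf 142548)))) (.node (.node (.node (.leaf 61203) (.leaf 61204)) (.node (.leaf 44805) (.leaf 117291))) (.node (.node (.leaf 24024) (.leaf 25102)) (.node (.leaf 45573) (.leaf 74244))))) (.node (.node (.node (.node (.leaf 74453) (.leaf 24076)) (.node (.leaf 155700) (.leaf 75205))) (.node (.node (.leaf 263896) (.leaf 263128)) (.node (.leaf 96646) (.leaf 40154)))) (.node (.node (.node (.leaf 43783) (.leaf 109592)) (.node (.leaf 92209) (.leaf 169123))) (.node (.node (.leaf 123192) (.leaf 139800)) (.node (.leaf 109080) (.leaf 79818)))))) (.node (.node (.node (.node (.node (.leaf 167079) (.leaf 148042)) (.node (.leaf 104980) (.leaf 82760))) (.node (.node (.leaf 104407) (.leaf 90515)) (.node (.leaf 35387) (.leaf 71462)))) (.node (.node (.node (.leaf 255832) (.leaf 193240)) (.node (.leaf 24974) (.leaf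 45701))) (.node (.node (.leaf 74372) (.leaf 16088)) (.node (.leaf 65582) (.leaf 44933))))) (.node (.node (.node (.node (.leaf 23182) (.leaf 117451)) (.node (.leaf 177111) (.leaf 242071))) (.node (.node (.leaf 39995) (.leaf 175576)) (.node (.leaf 165455) (.leaf 96518)))) (.node (.node (.node (.leaf 24204) (.leaf 74294)) (.node (.leaf 16535) (.leaf 155859))) (.node (.node (.leaf 75045) (.leaf 117784)) (.node (.leaf 79658) (.leaf 72269)))))))

/-- A suborbit and a mover, part 249. -/
def redCodePart249 : Janko1.Tree ℕ := (.node (.node (.node (.node (.node (.node (.leaf 148138) (.leaf 63544)) (.node (.leaf 137938) (.leaf 166983))) (.node (.node (.leaf 43911) (.leaf 115666)) (.node (.leaf 71758) (.leaf 169027)))) (.node (.node (.node (.leaf 105808) (.leaf 71622)) (.node (.leaf 35546) (.leaf 255192))) (.node (.node (.leaf 105107) (.leaf 82856)) (.node (.leaf 90388) (.leaf 23054))))) (.node (.node (.node (.node (.leaf 24078) (.leaf 117298)) (.node (.leaf 71117) (.leaf 24846))) (.node (.node (.leaf 65742) (.leaf 40964)) (.node (.leaf 69508) (.leaf 74454))))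 (.node (.node (.node (.leaf 155699) (.leaf 165551)) (.node (.leaf 22555) (.leaf 37465))) (.node (.node (.leaf 115499) (.leaf 115506)) (.node (.leaf 92202) (.leaf 43779)))))) (.node (.node (.node (.node (.node (.leaf 175939) (.leaf 71854)) (.node (.leaf 72365) (.leaf 79825))) (.node (.node (.leaf 137771) (.leaf 137778)) (.node (.leaf 148049) (.leaf 104979)))) (.node (.node (.node (.leaf 18103) (.leaf 104727)) (.node (.leaf 90516) (.leaf 32281))) (.node (.node (.leaf 24794) (.leaf 105904)) (.node (.leaf 79568) (.leaf 123343))))) (.node (.node (.node (.node (.leaf 25230) (.leaf 69380)) (.node (.leaf 41092) (.leaf 24206))) (.node (.node (.leaf 70957) (.leaf 117458)) (.node (.leaf 219287) (.leaf 193847)))) (.node (.node (.node (.leaf 257463) (.leaf 254423)) (.node (.leaf 18457) (.leaf 22682))) (.node (.node (.leaf 74293) (.leaf 163543)) (.node (.leaf 162359) (.leaf 155860)))))))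

/-- A suborbit and a mover, part 250. -/
def redCodePart250 : Janko1.Tree ℕ := (.node (.node (.node (.node (.node (.node (.leaf 79665) (.leaf 148145)) (.node (.leaf 137931) (.leaf 92369))) (.node (.node (.leaf 92362) (.leaf 115659)) (.node (.leaf 176035) (.leaf 43907)))) (.node (.node (.node (.leaf 24635) (.leaf 25625)) (.node (.leaf 123183) (.leaf 79408))) (.node (.node (.leaf 105108) (.leaf 90387)) (.node (.leaf 43781) (.leaf 100562))))) (.node (.node (.node (.node (.leaf 75268) (.leaf 95402)) (.node (.leaf 45829) (.leaf 118315))) (.node (.node (.leaf 99538) (.leaf 75222)) (.node (.leaf 62005) (.leaf 61221)))) (.node (.node (.node (.leaf 55720) (.leaf 198451)) (.node (.leaf 201012) (.leaf 61063))) (.node (.node (.leaf 253496) (.leaf 72515)) (.node (.leaf 163086) (.leaf 169893)))))) (.node (.node (.node (.node (.node (.leaf 83672) (.leaf 92458)) (.node (.leaf 157582) (.leaf 64333))) (.node (.node (.leaf 245512) (.leaf 176454)) (.node (.leaf 78248) (.leaf 62405)))) (.node (.node (.node (.leaf 134934) (.leaf 69651)) (.node (.leaf 219928) (.leaf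 76553))) (.node (.node (.leaf 219155) (.leaf 177876)) (.node (.leaf 45957) (.leaf 118475))))) (.node (.node (.node (.node (.leaf 73933) (.leaf 84401)) (.node (.leaf 43909) (.leaf 56014))) (.node (.node (.leaf 95306) (.leaf 75396)) (.node (.leaf 201171) (.leaf 255191)))) (.node (.node (.node (.leaf 220055) (.leaf 198612)) (.node (.leaf 236824) (.leaf 219288))) (.node (.node (.leaf 60935) (.leaf 62166)) (.node (.leaf 75061) (.leaf 55624)))))))

/-- A suborbit and a mover, part 251. -/
def redCodePart251 : Janko1.Tree ℕ := (.node (.node (.node (.node (.node (.node (.leaf 61381) (.leaf 92618)) (.node (.leaf 163470) (.leaf 176550))) (.node (.node (.leaf 245640) (.leaf 72611)) (.node (.leaf 107570) (.leaf 169797)))) (.node (.node (.node (.leaf 117048) (.leaf 76681)) (.node (.leaf 257464) (.leaf 264504))) (.node (.node (.leaf 177715) (.leaf 219284)) (.node (.leaf 62245) (.leaf 78152))))) (.node (.node (.node (.node (.leaf 69780) (.leaf 135061)) (.node (.leaf 100555) (.leaf 39172))) (.node (.node (.leaf 70788) (.leaf 95409)) (.node (.leaf 55854) (.leaf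 84305)))) (.node (.node (.node (.leaf 84298) (.leaf 73773)) (.node (.leaf 118322) (.leaf 99531))) (.node (.node (.leaf 60213) (.leaf 60214)) (.node (.leaf 23052) (.leaf 75221)))))) (.node (.node (.node (.node (.node (.leaf 62006) (.leaf 198452)) (.node (.leaf 201011) (.leaf 107723))) (.node (.node (.leaf 107730) (.leaf 36867)) (.node (.leaf 58787) (.leaf 72621)))) (.node (.node (.node (.leaf 163342) (.leaf 92465)) (.node (.leaf 81171) (.leaf 81172))) (.node (.node (.leaf 58700) (.leaf 134933)) (.node (.leaf 69652) (.leaf 146000))))) (.node (.node (.node (.node (.leaf 219156) (.leaf 177875)) (.node (.leaf 72239) (.leaf 99371))) (.node (.node (.leaf 99378) (.leaf 118482)) (.node (.leaf 84394) (.leaf 95313)))) (.node (.node (.node (.leaf 70660) (.leaf 39300)) (.node (.leaf 100395) (.leaf 100402))) (.node (.node (.leaf 201172) (.leaf 241303)) (.node (.leaf 256695) (.leaf 193079)))))))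

/-- A suborbit and a mover, part 252. -/
def redCodePart252 : Janko1.Tree ℕ := (.node (.node (.node (.node (.node (.node (.leaf 175575) (.leaf 198611)) (.node (.leaf 62165) (.leaf 75062))) (.node (.node (.leaf 23180) (.leaf 60373)) (.node (.leaf 60374) (.leaf 64429)))) (.node (.node (.node (.leaf 157454) (.leaf 92625)) (.node (.leaf 163214) (.leaf 72525))) (.node (.node (.leaf 58691) (.leaf 36995)) (.node (.leaf 107563) (.leaf 72399))))) (.node (.node (.node (.node (.leaf 177716) (.leaf 219283)) (.node (.leaf 146096) (.leaf 69779))) (.node (.node (.leaf 135062) (.leaf 58796)) (.node (.leaf 81299) (.leaf 81300)))) (.node (.node (.node (.leaf 49417) (.leaf 24280)) (.node (.leaf 99787) (.leaf 15064))) (.node (.node (.leaf 87370) (.leaf 57256)) (.node (.leaf 156467) (.leaf 61989)))))) (.node (.node (.node (.node (.node (.leaf 33306) (.leaf 21275)) (.node (.leaf 254264) (.leaf 59783))) (.node (.node (.leaf 86474) (.leaf 135371)) (.node (.leaf 175175) (.leaf 75566)))) (.node (.node (.node (.leaf 147537) (.leaf 175942)) (.node (.leaf 48904) (.leaf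 44291))) (.node (.node (.leaf 71374) (.leaf 204873)) (.node (.leaf 127253) (.leaf 79429))))) (.node (.node (.node (.node (.leaf 59432) (.leaf 236951)) (.node (.leaf 175416) (.leaf 266168))) (.node (.node (.leaf 176179) (.leaf 82887)) (.node (.leaf 69127) (.leaf 132699)))) (.node (.node (.node (.leaf 25229) (.leaf 3800)) (.node (.leaf 87466) (.leaf 38232))) (.node (.node (.leaf 100146) (.leaf 23949)) (.node (.leaf 37720) (.leaf 99627)))))))

/-- A suborbit and a mover, part 253. -/
def redCodePart253 : Janko1.Tree ℕ := (.node (.node (.node (.node (.node (.node (.leaf 49545) (.leaf 193848)) (.node (.leaf 103631) (.leaf 59655))) (.node (.node (.leaf 193080) (.leaf 33435)) (.node (.leaf 21402) (.leaf 108055)))) (.node (.node (.node (.leaf 156628) (.leaf 62149)) (.node (.leaf 163127) (.leaf 57160))) (.node (.node (.leaf 204969) (.leaf 49032)) (.node (.leaf 132434) (.leaf 44419))))) (.node (.node (.node (.node (.leaf 116792) (.leaf 176038)) (.node (.leaf 86314) (.leaf 135211))) (.node (.node (.leaf 175271) (.leaf 176340)) (.node (.leaf 82727) (.leaf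 69255)))) (.node (.node (.node (.leaf 132794) (.leaf 132560)) (.node (.leaf 59592) (.leaf 85335))) (.node (.node (.leaf 127382) (.leaf 79525)) (.node (.leaf 73559) (.leaf 24077)))))) (.node (.node (.node (.node (.node (.leaf 56622) (.leaf 23821)) (.node (.leaf 99794) (.leaf 23565))) (.node (.node (.leaf 100299) (.leaf 100306)) (.node (.leaf 25101) (.leaf 87377)))) (.node (.node (.node (.leaf 102803) (.leaf 102804)) (.node (.leaf 156468) (.leaf 25755))) (.node (.node (.leaf 24793) (.leaf 39001)) (.node (.leaf 40410) (.leaf 103471))))) (.node (.node (.node (.node (.leaf 163503) (.leaf 86481)) (.node (.leaf 135378) (.leaf 147530))) (.node (.node (.leaf 132523) (.leaf 132530)) (.node (.leaf 176451) (.leaf 169379)))) (.node (.node (.node (.leaf 63437) (.leaf 127254)) (.node (.leaf 130453) (.leaf 130454))) (.node (.node (.leaf 266935) (.leaf 263127)) (.node (.leaf 132400) (.leaf 176180)))))))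

/-- A suborbit and a mover, part 254. -/
def redCodePart254 : Janko1.Tree ℕ := (.node (.node (.node (.node (.node (.node (.leaf 72345) (.leaf 75674)) (.node (.leaf 87473) (.leaf 23693))) (.node (.node (.leaf 100139) (.leaf 99634)) (.node (.leaf 24205) (.leaf 56782)))) (.node (.node (.node (.leaf 163407) (.leaf 34777)) (.node (.leaf 25626) (.leaf 40251))) (.node (.node (.leaf 19225) (.leaf 14903)) (.node (.leaf 106967) (.leaf 156627))))) (.node (.node (.node (.node (.leaf 102675) (.leaf 102676)) (.node (.leaf 16663) (.leaf 162775))) (.node (.node (.leaf 71214) (.leaf 63277)) (.node (.leaf 132427) (.leaf 169283)))) (.node (.node (.node (.leaf 176547) (.leaf 75726)) (.node (.leaf 147633) (.leaf 147626))) (.node (.node (.leaf 86321) (.leaf 135218)) (.node (.leaf 176339) (.leaf 75547)))))) (.node (.node (.node (.node (.node (.leaf 135193) (.leaf 130325)) (.node (.leaf 130326) (.leaf 153527))) (.node (.node (.leaf 131607) (.leaf 127381)) (.node (.leaf 80791) (.leaf 114999)))) (.node (.node (.node (.leaf 14808) (.leaf 49161)) (.node (.leaf 472) (.leaf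 68740))) (.node (.node (.leaf 48905) (.leaf 15192)) (.node (.leaf 39684) (.leaf 116786))))) (.node (.node (.node (.node (.leaf 50441) (.leaf 66510)) (.node (.leaf 38839) (.leaf 103571))) (.node (.node (.leaf 103127) (.leaf 74437)) (.node (.leaf 107056) (.leaf 27035)))) (.node (.node (.node (.leaf 95110) (.leaf 242824)) (.node (.leaf 44292) (.leaf 130386))) (.node (.node (.leaf 123448) (.leaf 163341)) (.node (.leaf 61992) (.leaf 62421)))))))

/-- A suborbit and a mover, part 255. -/
def redCodePart255 : Janko1.Tree ℕ := (.node (.node (.node (.node (.node (.node (.leaf 76709) (.leaf 75976)) (.node (.leaf 241944) (.leaf 77318))) (.node (.node (.leaf 193235) (.leaf 97584)) (.node (.leaf 96649) (.leaf 219927)))) (.node (.node (.node (.leaf 50569) (.leaf 37208)) (.node (.leaf 49033) (.leaf 39812))) (.node (.node (.leaf 49289) (.leaf 119762)) (.node (.leaf 68612) (.leaf 36952))))) (.node (.node (.node (.node (.leaf 94545) (.leaf 67885)) (.node (.leaf 106448) (.leaf 26906))) (.node (.node (.leaf 94982) (.leaf 220056)) (.node (.leaf 236056) (.leaf 177112))))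 (.node (.node (.node (.leaf 103444) (.leaf 74277)) (.node (.leaf 15287) (.leaf 86577))) (.node (.node (.leaf 126424) (.leaf 44420)) (.node (.leaf 78033) (.leaf 64056)))))) (.node (.node (.node (.node (.node (.leaf 163213) (.leaf 242696)) (.node (.leaf 96521) (.leaf 266840))) (.node (.node (.leaf 89296) (.leaf 77446)) (.node (.leaf 193076) (.leaf 75816)))) (.node (.node (.node (.leaf 76613) (.leaf 62152)) (.node (.leaf 138807) (.leaf 62262))) (.node (.node (.leaf 68045) (.leaf 94641)) (.node (.leaf 94634) (.leaf 73732))))) (.node (.node (.node (.node (.leaf 39940) (.leaf 119595)) (.node (.leaf 119602) (.leaf 71044))) (.node (.node (.leaf 75780) (.leaf 116779)) (.node (.leaf 74541) (.leaf 102359)))) (.node (.node (.node (.leaf 115991) (.leaf 103572)) (.node (.leaf 113943) (.leaf 39095))) (.node (.node (.leaf 101935) (.leaf 24537)) (.node (.leaf 33050) (.leaf 106288)))))))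

/-- A suborbit and a mover, part 256. -/
def redCodePart256 : Janko1.Tree ℕ := (.node (.node (.node (.node (.node (.node (.leaf 71118) (.leaf 163085)) (.node (.leaf 77873) (.leaf 77866))) (.node (.node (.leaf 157837) (.leaf 193412)) (.node (.leaf 188676) (.leaf 130379)))) (.node (.node (.node (.leaf 86737) (.leaf 86730)) (.node (.leaf 62422) (.leaf 91923))) (.node (.node (.leaf 91924) (.leaf 70229)) (.node (.leaf 70230) (.leaf 193236))))) (.node (.node (.node (.node (.leaf 89136) (.leaf 175415)) (.node (.leaf 193239) (.leaf 66350))) (.node (.node (.leaf 74701) (.leaf 116939)) (.node (.leaf 116946) (.leaf 75908)))) (.node (.node (.node (.leaf 70916) (.leaf 119755)) (.node (.leaf 40068) (.leaf 73860))) (.node (.node (.leaf 94538) (.leaf 33179)) (.node (.leaf 35801) (.leaf 102095)))))) (.node (.node (.node (.node (.node (.leaf 107216) (.leaf 103443)) (.node (.leaf 107735) (.leaf 107287))) (.node (.node (.leaf 86570) (.leaf 163469)) (.node (.leaf 130475) (.leaf 130482)))) (.node (.node (.node (.leaf 188804) (.leaf 193284)) (.node (.leaf 157709)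 (.leaf 78026))) (.node (.node (.leaf 70958) (.leaf 97744)) (.node (.leaf 193075) (.leaf 70325))))) (.node (.node (.node (.node (.leaf 70326) (.leaf 92051)) (.node (.leaf 92052) (.leaf 56727))) (.node (.node (.leaf 128471) (.leaf 62261)) (.node (.leaf 40196) (.leaf 23256)))) (.node (.node (.node (.leaf 96177) (.leaf 24792)) (.node (.leaf 75309) (.leaf 24536))) (.node (.node (.leaf 68301) (.leaf 156215)) (.node (.leaf 68936) (.leaf 27031)))))))

/-- A suborbit and a mover, part 257. -/
def redCodePart257 : Janko1.Tree ℕ := (.node (.node (.node (.node (.node (.node (.leaf 162735) (.leaf 38745)) (.node (.leaf 155536) (.leaf 63949))) (.node (.node (.leaf 140721) (.leaf 58680)) (.node (.leaf 55853) (.leaf 200873)))) (.node (.node (.node (.leaf 137522) (.leaf 245000)) (.node (.leaf 170149) (.leaf 140970))) (.node (.node (.leaf 169382) (.leaf 135890)) (.node (.leaf 243080) (.leaf 70213))))) (.node (.node (.node (.node (.leaf 98709) (.leaf 64712)) (.node (.leaf 87443) (.leaf 57253))) (.node (.node (.leaf 236184) (.leaf 73001)) (.node (.leaf 255031) (.leaf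 113106)))) (.node (.node (.node (.leaf 15704) (.leaf 95569)) (.node (.leaf 15576) (.leaf 40324))) (.node (.node (.leaf 88) (.leaf 19481)) (.node (.leaf 235288) (.leaf 220824)))))) (.node (.node (.node (.node (.node (.leaf 227864) (.leaf 165591)) (.node (.leaf 69032) (.leaf 242952))) (.node (.node (.leaf 140874) (.leaf 169286)) (.node (.leaf 151064) (.leaf 170053)))) (.node (.node (.node (.leaf 245128) (.leaf 200777)) (.node (.leaf 73161) (.leaf 177720))) (.node (.node (.leaf 60944) (.leaf 69264)) (.node (.leaf 57157) (.leaf 59735))))) (.node (.node (.node (.node (.leaf 64552) (.leaf 87316)) (.node (.leaf 70309) (.leaf 98582))) (.node (.node (.leaf 66766) (.leaf 67716)) (.node (.leaf 74500) (.leaf 96170)))) (.node (.node (.node (.leaf 74029) (.leaf 95665)) (.node (.leaf 95658) (.leaf 112939))) (.node (.node (.leaf 112946) (.leaf 25751)) (.node (.leaf 158935) (.leaf 154931)))))))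

/-- A suborbit and a mover, part 258. -/
def redCodePart258 : Janko1.Tree ℕ := (.node (.node (.node (.node (.node (.node (.leaf 154932) (.leaf 157399)) (.node (.leaf 155447) (.leaf 154768))) (.node (.node (.leaf 39386) (.leaf 22811)) (.node (.leaf 140714) (.leaf 137515)))) (.node (.node (.node (.leaf 71598) (.leaf 62798)) (.node (.leaf 140977) (.leaf 135883))) (.node (.node (.leaf 98710) (.leaf 87444)) (.node (.leaf 57653) (.leaf 57654))))) (.node (.node (.node (.node (.leaf 255027) (.leaf 255028)) (.node (.leaf 69136) (.leaf 61072))) (.node (.node (.leaf 256599) (.leaf 241175)) (.node (.leaf 68141) (.leaf 113099)))) (.node (.node (.node (.leaf 75469) (.leaf 95562)) (.node (.leaf 74189) (.leaf 96081))) (.node (.node (.leaf 96074) (.leaf 74628)) (.node (.leaf 67588) (.leaf 66606)))))) (.node (.node (.node (.node (.node (.leaf 155408) (.leaf 22938)) (.node (.leaf 39227) (.leaf 162639))) (.node (.node (.leaf 154640) (.leaf 164919)) (.node (.leaf 3863) (.leaf 155091)))) (.node (.node (.node (.leaf 155092) (.leaf 135723)) (.node (.leaf 135730) (.leaf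 140881))) (.node (.node (.leaf 62894) (.leaf 71502)) (.node (.leaf 137675) (.leaf 137682))))) (.node (.node (.node (.node (.leaf 56013) (.leaf 140625)) (.node (.leaf 140618) (.leaf 63789))) (.node (.node (.leaf 255187) (.leaf 255188)) (.node (.leaf 57813) (.leaf 57814)))) (.node (.node (.node (.leaf 100407) (.leaf 87447)) (.node (.leaf 87315) (.leaf 98581))) (.node (.node (.leaf 86865) (.leaf 74797)) (.node (.leaf 114226) (.leaf 57390)))))))

/-- A suborbit and a mover, part 259. -/
def redCodePart259 : Janko1.Tree ℕ := (.node (.node (.node (.node (.node (.node (.leaf 69581) (.leaf 65998)) (.node (.leaf 83786) (.leaf 85841))) (.node (.node (.leaf 101067) (.leaf 67972)) (.node (.leaf 94897) (.leaf 56110)))) (.node (.node (.node (.leaf 75973) (.leaf 60197)) (.node (.leaf 56488) (.leaf 70216))) (.node (.node (.leaf 56265) (.leaf 95878)) (.node (.leaf 61831) (.leaf 255032))))) (.node (.node (.node (.node (.leaf 55497) (.leaf 204361)) (.node (.leaf 169126) (.leaf 130264))) (.node (.node (.leaf 166311) (.leaf 83160)) (.node (.leaf 140056) (.leaf 177221))))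 (.node (.node (.node (.leaf 58936) (.leaf 175687)) (.node (.leaf 117303) (.leaf 62867))) (.node (.node (.leaf 160439) (.leaf 57269)) (.node (.leaf 90007) (.leaf 65943)))))) (.node (.node (.node (.node (.node (.leaf 96655) (.leaf 120495)) (.node (.leaf 74905) (.leaf 67844))) (.node (.node (.leaf 100907) (.leaf 71213)) (.node (.leaf 83882) (.leaf 101170)))) (.node (.node (.node (.leaf 55337) (.leaf 227096)) (.node (.leaf 176344) (.leaf 61703))) (.node (.node (.leaf 95750) (.leaf 56105)) (.node (.leaf 70312) (.leaf 56392))))) (.node (.node (.node (.node (.leaf 60357) (.leaf 75813)) (.node (.leaf 175783) (.leaf 177317))) (.node (.node (.leaf 76504) (.leaf 166215)) (.node (.leaf 169030) (.leaf 127192)))) (.node (.node (.node (.leaf 204457) (.leaf 132793)) (.node (.leaf 178487) (.leaf 57174))) (.node (.node (.leaf 62740) (.leaf 86858)) (.node (.leaf 114219) (.leaf 101323)))))))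

/-- A suborbit and a mover, part 260. -/
def redCodePart260 : Janko1.Tree ℕ := (.node (.node (.node (.node (.node (.node (.leaf 101330) (.leaf 83793)) (.node (.leaf 55342) (.leaf 71373))) (.node (.node (.leaf 63438) (.leaf 85834)) (.node (.leaf 101074) (.leaf 75012)))) (.node (.node (.node (.leaf 41220) (.leaf 94890)) (.node (.leaf 96663) (.leaf 67927))) (.node (.node (.leaf 62868) (.leaf 129303)) (.node (.leaf 77143) (.leaf 57270))))) (.node (.node (.node (.node (.leaf 121621) (.leaf 121622)) (.node (.leaf 58131) (.leaf 58132))) (.node (.node (.leaf 98103) (.leaf 65111)) (.node (.leaf 137687) (.leaf 145719)))) (.node (.node (.node (.leaf 55503) (.leaf 160335)) (.node (.leaf 128559) (.leaf 72346))) (.node (.node (.leaf 133787) (.leaf 56270)) (.node (.leaf 94801) (.leaf 94794)))))) (.node (.node (.node (.node (.node (.leaf 41348) (.leaf 75140)) (.node (.leaf 100914) (.leaf 85937))) (.node (.node (.leaf 85930) (.leaf 63278)) (.node (.leaf 55502) (.leaf 83889)))) (.node (.node (.node (.leaf 65838) (.leaf 69421)) (.node (.leaf 57550) (.leaf 101163)))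 (.node (.node (.leaf 114379) (.leaf 114386)) (.node (.leaf 74957) (.leaf 86961))))) (.node (.node (.node (.node (.leaf 86954) (.leaf 133658)) (.node (.leaf 72219) (.leaf 128719))) (.node (.node (.leaf 160431) (.leaf 198615)) (.node (.leaf 227095) (.leaf 120399)))) (.node (.node (.node (.leaf 55343) (.leaf 96527)) (.node (.leaf 58259) (.leaf 58260))) (.node (.node (.leaf 121749) (.leaf 121750)) (.node (.leaf 57173) (.leaf 62739)))))))

/-- A suborbit and a mover, part 261. -/
def redCodePart261 : Janko1.Tree ℕ := (.node (.node (.node (.node (.node (.node (.leaf 35073) (.leaf 22541)) (.node (.leaf 18954) (.leaf 104586))) (.node (.node (.leaf 56770) (.leaf 226200)) (.node (.leaf 264152) (.leaf 198708)))) (.node (.node (.node (.leaf 25305) (.leaf 39642)) (.node (.leaf 255544) (.leaf 34817))) (.node (.node (.leaf 19729) (.leaf 22552)) (.node (.leaf 51975) (.leaf 99981))))) (.node (.node (.node (.node (.leaf 154676) (.leaf 59173)) (.node (.leaf 32779) (.leaf 36152))) (.node (.node (.leaf 51206) (.leaf 76107)) (.node (.leaf 107150) (.leaf 38234))))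 (.node (.node (.node (.leaf 32793) (.leaf 219672)) (.node (.leaf 175924) (.leaf 32530))) (.node (.node (.leaf 44041) (.leaf 99214)) (.node (.leaf 142643) (.leaf 104471)))))) (.node (.node (.node (.node (.node (.leaf 62661) (.leaf 61480)) (.node (.leaf 64968) (.leaf 34945))) (.node (.node (.leaf 21133) (.leaf 22158)) (.node (.leaf 52103) (.leaf 107991)))) (.node (.node (.node (.leaf 154835) (.leaf 59333)) (.node (.leaf 35201) (.leaf 19082))) (.node (.node (.leaf 22670) (.leaf 156312)) (.node (.leaf 104458) (.leaf 56610))))) (.node (.node (.node (.node (.leaf 198867) (.leaf 193592)) (.node (.leaf 36825) (.leaf 39483))) (.node (.node (.leaf 44169) (.leaf 103896)) (.node (.leaf 96913) (.leaf 142642)))) (.node (.node (.node (.leaf 142804) (.leaf 62501)) (.node (.leaf 61640) (.leaf 64808))) (.node (.node (.leaf 32907) (.leaf 51334)) (.node (.leaf 107021) (.leaf 76203)))))))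

/-- A suborbit and a mover, part 262. -/
def redCodePart262 : Janko1.Tree ℕ := (.node (.node (.node (.node (.node (.node (.leaf 240536) (.leaf 38331)) (.node (.leaf 25881) (.leaf 176083))) (.node (.node (.leaf 267096) (.leaf 177976)) (.node (.leaf 18961) (.leaf 22542)))) (.node (.node (.node (.leaf 104593) (.leaf 57538)) (.node (.leaf 56002) (.leaf 198707))) (.node (.node (.leaf 34074) (.leaf 27291)) (.node (.leaf 22043) (.leaf 38489))))) (.node (.node (.node (.node (.leaf 21005) (.leaf 19722)) (.node (.leaf 22030) (.leaf 61493))) (.node (.node (.leaf 61494) (.leaf 154675)) (.node (.leaf 32786) (.leaf 107149)))) (.node (.node (.node (.leaf 76114) (.leaf 18843)) (.node (.leaf 40921) (.leaf 25050))) (.node (.node (.leaf 36411) (.leaf 175923)) (.node (.leaf 32523) (.leaf 96785)))))) (.node (.node (.node (.node (.node (.leaf 96778) (.leaf 142795)) (.node (.leaf 142802) (.leaf 142644))) (.node (.node (.leaf 103895) (.leaf 17847)) (.node (.leaf 126229) (.leaf 126230)))) (.node (.node (.node (.leaf 57525) (.leaf 57526)) (.node (.leaf 19857) (.leaf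 19850))) (.node (.node (.leaf 99853) (.leaf 61653)) (.node (.leaf 61654) (.leaf 107031))))) (.node (.node (.node (.node (.leaf 14775) (.leaf 154836)) (.node (.leaf 22669) (.leaf 19089))) (.node (.node (.leaf 104465) (.leaf 55842)) (.node (.leaf 57378) (.leaf 198868)))) (.node (.node (.node (.leaf 27162) (.leaf 34203)) (.node (.leaf 19737) (.leaf 22170))) (.node (.node (.leaf 32651) (.leaf 32658)) (.node (.leaf 96906) (.leaf 99086)))))))

/-- A suborbit and a mover, part 263. -/
def redCodePart263 : Janko1.Tree ℕ := (.node (.node (.node (.node (.node (.node (.leaf 142635) (.leaf 142803)) (.node (.leaf 126357) (.leaf 126358))) (.node (.node (.leaf 57429) (.leaf 57430)) (.node (.leaf 32914) (.leaf 76210)))) (.node (.node (.node (.leaf 107022) (.leaf 21145)) (.node (.leaf 18714) (.leaf 36570))) (.node (.node (.leaf 24891) (.leaf 176084)) (.node (.leaf 44296) (.leaf 20760))))) (.node (.node (.node (.node (.leaf 94930) (.leaf 227736)) (.node (.leaf 226968) (.leaf 103215))) (.node (.node (.leaf 22029) (.leaf 45064)) (.node (.leaf 205059) (.leaf 119053))))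 (.node (.node (.node (.leaf 74965) (.leaf 102548)) (.node (.leaf 115479) (.leaf 75717))) (.node (.node (.leaf 44297) (.leaf 51204)) (.node (.leaf 113933) (.leaf 153041)))))) (.node (.node (.node (.node (.node (.leaf 96137) (.leaf 82375)) (.node (.leaf 35384) (.leaf 92722))) (.node (.node (.leaf 83122) (.leaf 163633)) (.node (.leaf 170377) (.leaf 17495)))) (.node (.node (.node (.leaf 78405) (.leaf 77399)) (.node (.leaf 45192) (.leaf 20888))) (.node (.node (.leaf 205187) (.leaf 74806)) (.node (.leaf 102419) (.leaf 75557))))) (.node (.node (.node (.node (.leaf 22925) (.leaf 44424)) (.node (.leaf 22168) (.leaf 254935))) (.node (.node (.leaf 175319) (.leaf 235544)) (.node (.leaf 176088) (.leaf 36792)))) (.node (.node (.node (.leaf 170249) (.leaf 76600)) (.node (.leaf 148151) (.leaf 78501))) (.node (.node (.leaf 35768) (.leaf 44425)) (.node (.leaf 51332) (.leaf 121752)))))))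

/-- A suborbit and a mover, part 264. -/
def redCodePart264 : Janko1.Tree ℕ := (.node (.node (.node (.node (.node (.node (.leaf 141327) (.leaf 143440)) (.node (.leaf 255704) (.leaf 264760))) (.node (.node (.leaf 82215) (.leaf 96009)) (.node (.leaf 160175) (.leaf 21261)))) (.node (.node (.node (.leaf 22797) (.leaf 134350)) (.node (.leaf 94923) (.leaf 106032))) (.node (.node (.leaf 22285) (.leaf 51971)) (.node (.leaf 194947) (.leaf 24332))))) (.node (.node (.node (.node (.leaf 74966) (.leaf 102547)) (.node (.leaf 38583) (.leaf 102871))) (.node (.node (.leaf 184228) (.leaf 174404)) (.node (.leaf 112910) (.leaf 153034)))) (.node (.node (.node (.leaf 143536) (.leaf 141455)) (.node (.leaf 160079) (.leaf 61328))) (.node (.node (.leaf 92715) (.leaf 133582)) (.node (.leaf 83115) (.leaf 163626)))))) (.node (.node (.node (.node (.node (.leaf 140727) (.leaf 141591)) (.node (.leaf 87187) (.leaf 87188))) (.node (.node (.leaf 160183) (.leaf 129559)) (.node (.leaf 22413) (.leaf 22157)))) (.node (.node (.node (.leaf 119181) (.leaf 194819)) (.node (.leaf 52099)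 (.leaf 74805))) (.node (.node (.leaf 24460) (.leaf 102420)) (.node (.leaf 21389) (.leaf 94763))))) (.node (.node (.node (.node (.leaf 94770) (.leaf 134190)) (.node (.leaf 242583) (.leaf 257719))) (.node (.node (.leaf 219799) (.leaf 192823)) (.node (.leaf 103375) (.leaf 106192)))) (.node (.node (.node (.leaf 133422) (.leaf 92875)) (.node (.leaf 92882) (.leaf 163793))) (.node (.node (.leaf 163786) (.leaf 83019)) (.node (.leaf 83026) (.leaf 144151)))))))

/-- A suborbit and a mover, part 265. -/
def redCodePart265 : Janko1.Tree ℕ := (.node (.node (.node (.node (.node (.node (.leaf 35671) (.leaf 87059)) (.node (.leaf 87060) (.leaf 114061))) (.node (.node (.leaf 174500) (.leaf 184132)) (.node (.leaf 152881) (.leaf 152874)))) (.node (.node (.node (.leaf 113038) (.leaf 61200)) (.node (.leaf 20241) (.leaf 45576))) (.node (.node (.leaf 162712) (.leaf 52487)) (.node (.leaf 206339) (.leaf 263384))))) (.node (.node (.node (.node (.leaf 264920) (.leaf 19978)) (.node (.leaf 44040) (.leaf 95954))) (.node (.node (.leaf 165016) (.leaf 136494)) (.node (.leaf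 75734) (.leaf 158423)))) (.node (.node (.node (.leaf 108504) (.leaf 79819)) (.node (.leaf 137773) (.leaf 205574))) (.node (.node (.leaf 79416) (.leaf 109999)) (.node (.leaf 73257) (.leaf 68359)))))) (.node (.node (.node (.node (.node (.leaf 109016) (.leaf 50950)) (.node (.leaf 183716) (.leaf 135629))) (.node (.node (.leaf 182951) (.leaf 98712)) (.node (.leaf 58149) (.leaf 104723)))) (.node (.node (.node (.leaf 69957) (.leaf 18833)) (.node (.leaf 44168) (.leaf 20106))) (.node (.node (.leaf 155032) (.leaf 75573)) (.node (.leaf 16407) (.leaf 45704))))) (.node (.node (.node (.node (.leaf 20625) (.leaf 52615)) (.node (.leaf 206467) (.leaf 119441))) (.node (.node (.leaf 220567) (.leaf 256951)) (.node (.leaf 163151) (.leaf 219800)))) (.node (.node (.node (.leaf 155152) (.leaf 226840)) (.node (.leaf 51078) (.leaf 183620))) (.node (.node (.leaf 111633) (.leaf 182855)) (.node (.leaf 104852) (.leaf 111319)))))))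

/-- A suborbit and a mover, part 266. -/
def redCodePart266 : Janko1.Tree ℕ := (.node (.node (.node (.node (.node (.node (.leaf 58309) (.leaf 70053)) (.node (.leaf 56471) (.leaf 79659))) (.node (.node (.leaf 104408) (.leaf 133166)) (.node (.leaf 152018) (.leaf 205702)))) (.node (.node (.node (.leaf 201432) (.leaf 257720)) (.node (.leaf 68487) (.leaf 73417))) (.node (.node (.leaf 128975) (.leaf 20497)) (.node (.leaf 20490) (.leaf 20234))))) (.node (.node (.node (.node (.leaf 119313) (.leaf 119306)) (.node (.leaf 52483) (.leaf 191363))) (.node (.node (.leaf 155280) (.leaf 163247)) (.node (.leaf 19985) (.leaf 18705)))) (.node (.node (.node (.leaf 18698) (.leaf 95947)) (.node (.leaf 75733) (.leaf 23308))) (.node (.node (.leaf 155959) (.leaf 25495)) (.node (.leaf 133326) (.leaf 79826)))))) (.node (.node (.node (.node (.node (.leaf 151851) (.leaf 151858)) (.node (.leaf 105648) (.leaf 128815))) (.node (.node (.leaf 89648) (.leaf 111761)) (.node (.leaf 111754) (.leaf 174916)))) (.node (.node (.node (.leaf 50948) (.leaf 113422)) (.node (.leaf 104724)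 (.leaf 62355))) (.node (.node (.leaf 62356) (.leaf 18826)) (.node (.leaf 20113) (.leaf 136654))))) (.node (.node (.node (.node (.leaf 95787) (.leaf 95794)) (.node (.leaf 23436) (.leaf 75574))) (.node (.node (.leaf 162519) (.leaf 163383)) (.node (.leaf 20369) (.leaf 20362)))) (.node (.node (.node (.leaf 20618) (.leaf 191235)) (.node (.leaf 52611) (.leaf 119434))) (.node (.node (.leaf 191543) (.leaf 176087)) (.node (.leaf 255703) (.leaf 241815)))))))

/-- A suborbit and a mover, part 267. -/
def redCodePart267 : Janko1.Tree ℕ := (.node (.node (.node (.node (.node (.node (.leaf 51076) (.leaf 175012)) (.node (.leaf 111626) (.leaf 113550))) (.node (.node (.leaf 135469) (.leaf 104851)) (.node (.leaf 40759) (.leaf 109591)))) (.node (.node (.node (.leaf 62227) (.leaf 62228)) (.node (.leaf 128983) (.leaf 138295))) (.node (.node (.leaf 79666) (.leaf 152011)) (.node (.leaf 137933) (.leaf 109903))))) (.node (.node (.node (.node (.leaf 105552) (.leaf 89808)) (.node (.leaf 45832) (.leaf 85803))) (.node (.node (.leaf 137006) (.leaf 116749)) (.node (.leaf 101005)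 (.leaf 202547)))) (.node (.node (.node (.leaf 56009) (.leaf 94598)) (.node (.leaf 60295) (.leaf 45320))) (.node (.node (.leaf 105866) (.leaf 84011)) (.node (.leaf 60725) (.leaf 24588)))))) (.node (.node (.node (.node (.node (.leaf 59190) (.leaf 57512)) (.node (.leaf 68424) (.leaf 97034))) (.node (.node (.leaf 92459) (.leaf 110730)) (.node (.leaf 131118) (.leaf 172871)))) (.node (.node (.node (.leaf 184229) (.leaf 177161)) (.node (.leaf 76297) (.leaf 71718))) (.node (.node (.leaf 88103) (.leaf 72858)) (.node (.leaf 256855) (.leaf 175159))))) (.node (.node (.node (.node (.leaf 72857) (.leaf 79314)) (.node (.leaf 107405) (.leaf 192390))) (.node (.node (.leaf 174917) (.leaf 82248)) (.node (.leaf 77992) (.leaf 68183)))) (.node (.node (.node (.leaf 45448) (.leaf 84171)) (.node (.leaf 117649) (.leaf 105738))) (.node (.node (.leaf 59349) (.leaf 24716)) (.node (.leaf 60886) (.leaf 68520)))))))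

/-- A suborbit and a mover, part 268. -/
def redCodePart268 : Janko1.Tree ℕ := (.node (.node (.node (.node (.node (.node (.leaf 57416) (.leaf 45960)) (.node (.leaf 85963) (.leaf 202708))) (.node (.node (.leaf 240535) (.leaf 193591)) (.node (.leaf 60167) (.leaf 94470)))) (.node (.node (.node (.leaf 55849) (.leaf 131022)) (.node (.leaf 175013) (.leaf 192262))) (.node (.node (.leaf 77896) (.leaf 82344)) (.node (.leaf 81303) (.leaf 110602))))) (.node (.node (.node (.node (.leaf 92619) (.leaf 97162)) (.node (.leaf 177289) (.leaf 184133))) (.node (.node (.leaf 172967) (.leaf 88263)) (.node (.leaf 71878) (.leaf 76425)))) (.node (.node (.node (.leaf 135705) (.leaf 72731)) (.node (.leaf 85810) (.leaf 201267))) (.node (.node (.leaf 201268) (.leaf 202548)) (.node (.leaf 105873) (.leaf 134862)))))) (.node (.node (.node (.node (.node (.leaf 117521) (.leaf 117514)) (.node (.leaf 84018) (.leaf 60726))) (.node (.node (.leaf 74197) (.leaf 74198)) (.node (.leaf 59189) (.leaf 97041)))) (.node (.node (.node (.leaf 92466) (.leaf 110737)) (.node (.leaf 134299) (.leaf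 75161))) (.node (.node (.leaf 241687) (.leaf 255543)) (.node (.leaf 192983) (.leaf 219671))))) (.node (.node (.node (.node (.leaf 75930) (.leaf 132443)) (.node (.leaf 130862) (.leaf 79307))) (.node (.node (.leaf 113421) (.leaf 62677)) (.node (.leaf 62678) (.leaf 98453)))) (.node (.node (.node (.leaf 98454) (.leaf 117047)) (.node (.leaf 96407) (.leaf 84178))) (.node (.node (.leaf 117642) (.leaf 134702)) (.node (.leaf 105745) (.leaf 59350)))))))

/-- A suborbit and a mover, part 269. -/
def redCodePart269 : Janko1.Tree ℕ := (.node (.node (.node (.node (.node (.node (.leaf 74037) (.leaf 74038)) (.node (.leaf 60885) (.leaf 100877))) (.node (.node (.leaf 116877) (.leaf 137166)) (.node (.leaf 85970) (.leaf 202707)))) (.node (.node (.node (.leaf 256183) (.leaf 254167)) (.node (.leaf 176855) (.leaf 219031))) (.node (.node (.leaf 201427) (.leaf 201428)) (.node (.leaf 107277) (.leaf 113549))))) (.node (.node (.node (.node (.leaf 79147) (.leaf 79154)) (.node (.leaf 98325) (.leaf 98326))) (.node (.node (.leaf 62517) (.leaf 62518)) (.node (.leaf 114743)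 (.leaf 73047)))) (.node (.node (.node (.leaf 131278) (.leaf 110609)) (.node (.leaf 92626) (.leaf 97169))) (.node (.node (.leaf 132538) (.leaf 75803)) (.node (.leaf 132537) (.leaf 134170)))))) (.node (.node (.node (.node (.node (.leaf 21784) (.leaf 51207)) (.node (.leaf 22798) (.leaf 165528))) (.node (.node (.leaf 165039) (.leaf 61319)) (.node (.leaf 154512) (.leaf 56777)))) (.node (.node (.node (.leaf 162456) (.leaf 85042)) (.node (.leaf 21006) (.leaf 104337))) (.node (.node (.leaf 38327) (.leaf 155191)) (.node (.leaf 101779) (.leaf 55976))))) (.node (.node (.node (.node (.leaf 51205) (.leaf 35075)) (.node (.leaf 80664) (.leaf 226967))) (.node (.node (.leaf 178136) (.leaf 256088)) (.node (.leaf 146256) (.leaf 267191)))) (.node (.node (.node (.leaf 242456) (.leaf 236440)) (.node (.leaf 113678) (.leaf 173895))) (.node (.node (.leaf 50949) (.leaf 128132)) (.node (.leaf 145201) (.leaf 130198)))))))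

/-- A suborbit and a mover, part 270. -/
def redCodePart270 : Janko1.Tree ℕ := (.node (.node (.node (.node (.node (.node (.leaf 75720) (.leaf 145463)) (.node (.leaf 155800) (.leaf 21912))) (.node (.node (.leaf 101652) (.leaf 163287)) (.node (.leaf 55880) (.leaf 21144)))) (.node (.node (.node (.leaf 84434) (.leaf 51335)) (.node (.leaf 192824) (.leaf 106960))) (.node (.node (.leaf 56617) (.leaf 191544)) (.node (.leaf 61191) (.leaf 51077))))) (.node (.node (.node (.node (.leaf 128004) (.leaf 136344)) (.node (.leaf 173991) (.leaf 130069))) (.node (.node (.leaf 75560) (.leaf 164049)) (.node (.leaf 114062) (.leaf 51333)))) (.node (.node (.node (.leaf 35203) (.leaf 21262)) (.node (.leaf 99469) (.leaf 84267))) (.node (.node (.leaf 84274) (.leaf 102447)) (.node (.leaf 106800) (.leaf 22286)))))) (.node (.node (.node (.node (.node (.leaf 85035) (.leaf 104330)) (.node (.leaf 103639) (.leaf 113175))) (.node (.node (.leaf 26263) (.leaf 156887)) (.node (.leaf 101780) (.leaf 131789)))) (.node (.node (.node (.leaf 70563) (.leaf 66371)) (.node (.leaf 163889)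 (.leaf 163882))) (.node (.node (.leaf 113934) (.leaf 198711)) (.node (.leaf 178903) (.leaf 263383))))) (.node (.node (.node (.node (.leaf 237207) (.leaf 96143)) (.node (.leaf 138029) (.leaf 133124))) (.node (.node (.leaf 25604) (.leaf 145194)) (.node (.leaf 130197) (.leaf 65431)))) (.node (.node (.node (.leaf 137943) (.leaf 18700)) (.node (.leaf 68627) (.leaf 68628))) (.node (.node (.leaf 21134) (.leaf 104209)) (.node (.leaf 104202) (.leaf 22414)))))))

/-- A suborbit and a mover, part 271. -/
def redCodePart271 : Janko1.Tree ℕ := (.node (.node (.node (.node (.node (.node (.leaf 85195) (.leaf 85202)) (.node (.leaf 101651) (.leaf 162615))) (.node (.node (.leaf 16791) (.leaf 22926)) (.node (.leaf 84427) (.leaf 21390)))) (.node (.node (.node (.leaf 99341) (.leaf 154384)) (.node (.leaf 102607) (.leaf 164943))) (.node (.node (.leaf 25732) (.leaf 133252)) (.node (.leaf 145361) (.leaf 145354))))) (.node (.node (.node (.node (.leaf 113806) (.leaf 138189)) (.node (.leaf 18828) (.leaf 68755))) (.node (.node (.leaf 68756) (.leaf 130070)) (.node (.leaf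 164042) (.leaf 131629)))) (.node (.node (.node (.leaf 66467) (.leaf 70467)) (.node (.leaf 96015) (.leaf 146352))) (.node (.node (.leaf 51203) (.leaf 21528)) (.node (.leaf 118026) (.leaf 32794)))))) (.node (.node (.node (.node (.node (.leaf 107568) (.leaf 96134)) (.node (.leaf 26011) (.leaf 21272))) (.node (.node (.leaf 118545) (.leaf 22808)) (.node (.leaf 96715) (.leaf 69960)))) (.node (.node (.node (.leaf 102103) (.leaf 25860)) (.node (.leaf 83627) (.leaf 98456))) (.node (.node (.leaf 201272) (.leaf 218900)) (.node (.leaf 78544) (.leaf 77062))))) (.node (.node (.node (.node (.leaf 175160) (.leaf 255539)) (.node (.leaf 153290) (.leaf 76626))) (.node (.node (.leaf 183717) (.leaf 205062)) (.node (.leaf 167304) (.leaf 76453)))) (.node (.node (.node (.leaf 58166) (.leaf 64855)) (.node (.leaf 134677) (.leaf 21656))) (.node (.node (.leaf 96555) (.leaf 135470)) (.node (.leaf 137422) (.leaf 106263)))))))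

/-- A suborbit and a mover, part 272. -/
def redCodePart272 : Janko1.Tree ℕ := (.node (.node (.node (.node (.node (.node (.leaf 14647) (.leaf 70056)) (.node (.leaf 118154) (.leaf 22424))) (.node (.node (.leaf 51331) (.leaf 25882)) (.node (.leaf 101839) (.leaf 227608)))) (.node (.node (.node (.leaf 32923) (.leaf 96006)) (.node (.leaf 219032) (.leaf 131885))) (.node (.node (.leaf 129485) (.leaf 167176)) (.node (.leaf 74072) (.leaf 153130))))) (.node (.node (.node (.node (.leaf 205190) (.leaf 183621)) (.node (.leaf 134806) (.leaf 76357))) (.node (.node (.leaf 58325) (.leaf 83531)) (.node (.leaf 25988) (.leaf 90136)))) (.node (.node (.node (.leaf 77190) (.leaf 255700)) (.node (.leaf 55855) (.leaf 219027))) (.node (.node (.leaf 195203) (.leaf 207107)) (.node (.leaf 112909) (.leaf 136238)))))) (.node (.node (.node (.node (.node (.leaf 118033) (.leaf 27547)) (.node (.leaf 23769) (.leaf 101679))) (.node (.node (.leaf 25049) (.leaf 34330)) (.node (.leaf 137262) (.leaf 118538)))) (.node (.node (.node (.leaf 135630) (.leaf 96722)) (.node (.leaf 103315)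 (.leaf 103316))) (.node (.node (.leaf 112151) (.leaf 37303)) (.node (.leaf 127876) (.leaf 133380))))) (.node (.node (.node (.node (.leaf 129581) (.leaf 99470)) (.node (.leaf 83634) (.leaf 218899))) (.node (.node (.leaf 56015) (.leaf 255540)) (.node (.leaf 153297) (.leaf 76619)))) (.node (.node (.node (.leaf 129325) (.leaf 132045)) (.node (.leaf 58165) (.leaf 90263))) (.node (.node (.leaf 97591) (.leaf 134678)) (.node (.leaf 96562) (.leaf 118673)))))))

/-- A suborbit and a mover, part 273. -/
def redCodePart273 : Janko1.Tree ℕ := (.node (.node (.node (.node (.node (.node (.leaf 118666) (.leaf 439)) (.node (.leaf 106455) (.leaf 103187))) (.node (.node (.leaf 103188) (.leaf 107223)) (.node (.leaf 107799) (.leaf 118161)))) (.node (.node (.node (.leaf 136398) (.leaf 113037)) (.node (.leaf 207235) (.leaf 195075))) (.node (.node (.leaf 34459) (.leaf 35289)) (.node (.leaf 107728) (.leaf 36569))))) (.node (.node (.node (.node (.leaf 27418) (.leaf 76715)) (.node (.leaf 76722) (.leaf 153137))) (.node (.node (.leaf 134805) (.leaf 58326)) (.node (.leaf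 83538) (.leaf 99342)))) (.node (.node (.node (.leaf 129741) (.leaf 133508)) (.node (.leaf 127748) (.leaf 255699))) (.node (.node (.leaf 78384) (.leaf 219028)) (.node (.leaf 163480) (.leaf 52743)))))) (.node (.node (.node (.node (.node (.leaf 22299) (.leaf 95366)) (.node (.leaf 38233) (.leaf 52231))) (.node (.node (.leaf 134094) (.leaf 163224)) (.node (.leaf 110858) (.leaf 50951)))) (.node (.node (.node (.leaf 195715) (.leaf 74181)) (.node (.leaf 26519) (.leaf 66888))) (.node (.node (.leaf 155443) (.leaf 167048)) (.node (.leaf 138449) (.leaf 59736))))) (.node (.node (.node (.node (.leaf 142546) (.leaf 170121)) (.node (.leaf 174405) (.leaf 192984))) (.node (.node (.leaf 56006) (.leaf 266424)) (.node (.leaf 192980) (.leaf 151595)))) (.node (.node (.node (.leaf 138954) (.leaf 133784)) (.node (.leaf 70307) (.leaf 60456))) (.node (.node (.leaf 69974) (.leaf 57509)) (.node (.leaf 57876) (.leaf 61076)))))))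

/-- A suborbit and a mover, part 274. -/
def redCodePart274 : Janko1.Tree ℕ := (.node (.node (.node (.node (.node (.node (.leaf 51079) (.leaf 195587)) (.node (.leaf 110986) (.leaf 156568))) (.node (.node (.leaf 52359) (.leaf 155604)) (.node (.leaf 66984) (.leaf 165431)))) (.node (.node (.node (.leaf 74021) (.leaf 154776)) (.node (.leaf 134958) (.leaf 52871))) (.node (.node (.leaf 118413) (.leaf 137934)) (.node (.leaf 155544) (.leaf 96306))))) (.node (.node (.node (.node (.leaf 19993) (.leaf 176856)) (.node (.leaf 95238) (.leaf 22426))) (.node (.node (.leaf 237080) (.leaf 70211)) (.node (.leaf 138794) (.leaf 107278)))) (.node (.node (.node (.leaf 121496) (.leaf 151755)) (.node (.leaf 60947) (.leaf 57413))) (.node (.node (.leaf 58003) (.leaf 60616)) (.node (.leaf 70069) (.leaf 135725)))))) (.node (.node (.node (.node (.node (.leaf 174501) (.leaf 169993)) (.node (.leaf 145873) (.leaf 166920))) (.node (.node (.leaf 192819) (.leaf 55846)) (.node (.leaf 96459) (.leaf 96466)))) (.node (.node (.node (.leaf 137774) (.leaf 118285)) (.node (.leaf 135118)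 (.leaf 37209))) (.node (.node (.leaf 40922) (.leaf 156048)) (.node (.leaf 162479) (.leaf 40666))))) (.node (.node (.node (.node (.leaf 21019) (.leaf 117005)) (.node (.leaf 110865) (.leaf 206595))) (.node (.node (.leaf 50947) (.leaf 156211)) (.node (.leaf 156212) (.leaf 157655)))) (.node (.node (.node (.leaf 154423) (.leaf 155444)) (.node (.leaf 145713) (.leaf 145706))) (.node (.node (.leaf 138442) (.leaf 142539)) (.node (.leaf 135885) (.leaf 178131)))))))

/-- A suborbit and a mover, part 275. -/
def redCodePart275 : Janko1.Tree ℕ := (.node (.node (.node (.node (.node (.node (.leaf 178132) (.leaf 101200)) (.node (.leaf 119983) (.leaf 192979))) (.node (.node (.leaf 151602) (.leaf 107406)) (.node (.leaf 138961) (.leaf 66627)))) (.node (.node (.node (.leaf 34819) (.leaf 69973)) (.node (.leaf 57875) (.leaf 61075))) (.node (.node (.leaf 58444) (.leaf 51075)) (.node (.leaf 206723) (.leaf 110993))))) (.node (.node (.node (.node (.leaf 133934) (.leaf 117133)) (.node (.leaf 155603) (.leaf 3991))) (.node (.node (.leaf 165079) (.leaf 156371)) (.node (.leaf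 156372) (.leaf 96299)))) (.node (.node (.node (.leaf 21146) (.leaf 40507)) (.node (.leaf 162383) (.leaf 155920))) (.node (.node (.leaf 40763) (.leaf 18713)) (.node (.leaf 34947) (.leaf 66723)))))) (.node (.node (.node (.node (.node (.leaf 138801) (.leaf 151762)) (.node (.leaf 58540) (.leaf 60948))) (.node (.node (.leaf 58004) (.leaf 70070)) (.node (.leaf 142379) (.leaf 142386)))) (.node (.node (.node (.leaf 138289) (.leaf 138282)) (.node (.leaf 145866) (.leaf 192820))) (.node (.node (.leaf 119887) (.leaf 101296)) (.node (.leaf 177971) (.leaf 177972))))) (.node (.node (.node (.node (.leaf 135886) (.leaf 111377)) (.node (.leaf 87346) (.leaf 194435))) (.node (.node (.leaf 95691) (.leaf 105361)) (.node (.leaf 254008) (.leaf 57545)))) (.node (.node (.node (.leaf 62087) (.leaf 254776)) (.node (.leaf 52227) (.leaf 61477))) (.node (.node (.leaf 56744) (.leaf 74949)) (.node (.leaf 60709) (.leaf 134040)))))))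

/-- A suborbit and a mover, part 276. -/
def redCodePart276 : Janko1.Tree ℕ := (.node (.node (.node (.node (.node (.node (.leaf 175624) (.leaf 183463)) (.node (.leaf 191366) (.leaf 77839))) (.node (.node (.leaf 176905) (.leaf 78904)) (.node (.leaf 175368) (.leaf 59224)))) (.node (.node (.node (.leaf 80920) (.leaf 91412)) (.node (.leaf 121878) (.leaf 126101))) (.node (.node (.leaf 80916) (.leaf 99085)) (.node (.leaf 113805) (.leaf 87250))))) (.node (.node (.node (.node (.leaf 104977) (.leaf 95026)) (.node (.leaf 52355) (.leaf 60869))) (.node (.node (.leaf 74789) (.leaf 56648)) (.node (.leaf 61637) (.leaf 95531)))) (.node (.node (.node (.leaf 194307) (.leaf 100109)) (.node (.leaf 103697) (.leaf 236312))) (.node (.node (.leaf 220568) (.leaf 61959)) (.node (.leaf 57385) (.leaf 226072)))))) (.node (.node (.node (.node (.node (.leaf 175320) (.leaf 89880)) (.node (.leaf 175496) (.leaf 177033))) (.node (.node (.leaf 81043) (.leaf 125974)) (.node (.leaf 122005) (.leaf 99895)))) (.node (.node (.node (.leaf 91539) (.leaf 153015)) (.node (.leaf 191238)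 (.leaf 183367))) (.node (.node (.leaf 76344) (.leaf 175752)) (.node (.leaf 73816) (.leaf 136088))))) (.node (.node (.node (.node (.leaf 98256) (.leaf 226839)) (.node (.leaf 235543) (.leaf 122927))) (.node (.node (.leaf 72655) (.leaf 103825)) (.node (.leaf 103818) (.leaf 111370)))) (.node (.node (.node (.leaf 87339) (.leaf 100237)) (.node (.leaf 205571) (.leaf 52739))) (.node (.node (.leaf 95698) (.leaf 105354)) (.node (.leaf 100749) (.leaf 192387)))))))

/-- A suborbit and a mover, part 277. -/
def redCodePart277 : Janko1.Tree ℕ := (.node (.node (.node (.node (.node (.node (.leaf 205827) (.leaf 95179)) (.node (.leaf 95186) (.leaf 105105))) (.node (.node (.leaf 105098) (.leaf 87083)) (.node (.leaf 87090) (.leaf 138030)))) (.node (.node (.node (.leaf 113677) (.leaf 99213)) (.node (.leaf 72495) (.leaf 123087))) (.node (.node (.leaf 68368) (.leaf 98096)) (.node (.leaf 132144) (.leaf 91411))))) (.node (.node (.node (.node (.leaf 121877) (.leaf 126102)) (.node (.leaf 90003) (.leaf 90004))) (.node (.node (.leaf 80915) (.leaf 138190)) (.node (.leaf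 87243) (.leaf 104970)))) (.node (.node (.node (.leaf 95019) (.leaf 205955)) (.node (.leaf 192259) (.leaf 100621))) (.node (.node (.leaf 105233) (.leaf 105226)) (.node (.leaf 95538) (.leaf 52867)))))) (.node (.node (.node (.node (.node (.leaf 205699) (.leaf 87499)) (.node (.leaf 87506) (.leaf 111505))) (.node (.node (.leaf 111498) (.leaf 135726)) (.node (.leaf 103690) (.leaf 81044)))) (.node (.node (.node (.leaf 89875) (.leaf 89876)) (.node (.leaf 125973) (.leaf 122006))) (.node (.node (.leaf 86935) (.leaf 59223)) (.node (.leaf 91540) (.leaf 131351))))) (.node (.node (.node (.node (.leaf 84567) (.leaf 132304)) (.node (.leaf 68496) (.leaf 178743))) (.node (.node (.leaf 198871) (.leaf 263991)) (.node (.leaf 266327) (.leaf 77967)))) (.node (.node (.node (.leaf 60610) (.leaf 252375)) (.node (.leaf 188984) (.leaf 1178))) (.node (.node (.leaf 234264) (.leaf 59701)) (.node (.leaf 103060) (.leaf 56232)))))))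

/-- A suborbit and a mover, part 278. -/
def redCodePart278 : Janko1.Tree ℕ := (.node (.node (.node (.node (.node (.node (.leaf 57282) (.leaf 227480)) (.node (.leaf 262872) (.leaf 200499))) (.node (.node (.leaf 101423) (.leaf 61575)) (.node (.leaf 58818) (.leaf 249271)))) (.node (.node (.node (.leaf 189752) (.leaf 101584)) (.node (.leaf 83718) (.leaf 237720))) (.node (.node (.leaf 150287) (.leaf 1177)) (.node (.leaf 253144) (.leaf 253140))))) (.node (.node (.node (.node (.leaf 141847) (.leaf 77736)) (.node (.leaf 129941) (.leaf 76197))) (.node (.node (.leaf 56997) (.leaf 121365)) (.node (.leaf 105392) (.leaf 76041)))) (.node (.node (.node (.leaf 262871) (.leaf 76806)) (.node (.leaf 237976) (.leaf 105295))) (.node (.node (.leaf 169172) (.leaf 86793)) (.node (.leaf 56199) (.leaf 58658)))))) (.node (.node (.node (.node (.node (.leaf 234648) (.leaf 276440)) (.node (.leaf 83846) (.leaf 57122))) (.node (.node (.leaf 200660) (.leaf 193336)) (.node (.leaf 162127) (.leaf 61447)))) (.node (.node (.node (.leaf 59862) (.leaf 102931)) (.node (.leaf 1175)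 (.leaf 56136))) (.node (.node (.leaf 60450) (.leaf 232088)) (.node (.leaf 275160) (.leaf 1179))))) (.node (.node (.node (.node (.leaf 157328) (.leaf 141232)) (.node (.leaf 169011) (.leaf 86921))) (.node (.node (.leaf 56071) (.leaf 209175)) (.node (.leaf 240280) (.leaf 76169)))) (.node (.node (.node (.leaf 76934) (.leaf 198359)) (.node (.leaf 77640) (.leaf 129814))) (.node (.node (.leaf 76101) (.leaf 56901)) (.node (.leaf 121494) (.leaf 32921)))))))

/-- A suborbit and a mover, part 279. -/
def redCodePart279 : Janko1.Tree ℕ := (.node (.node (.node (.node (.node (.node (.leaf 270775) (.leaf 167224)) (.node (.leaf 242840) (.leaf 252979))) (.node (.node (.leaf 59074) (.leaf 58306)) (.node (.leaf 239255) (.leaf 251063)))) (.node (.node (.node (.leaf 34075) (.leaf 35161)) (.node (.leaf 157200) (.leaf 59702))) (.node (.node (.leaf 103059) (.leaf 55746)) (.node (.leaf 56514) (.leaf 200500))))) (.node (.node (.node (.node (.leaf 162223) (.leaf 58050)) (.node (.leaf 60098) (.leaf 251863))) (.node (.node (.leaf 237975) (.leaf 155471)) (.node (.leaf 36698)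 (.leaf 15547)))) (.node (.node (.node (.leaf 253139) (.leaf 16983)) (.node (.leaf 141239) (.leaf 104467))) (.node (.node (.leaf 104468) (.leaf 129942)) (.node (.leaf 121366) (.leaf 143024)))))) (.node (.node (.node (.node (.node (.leaf 236695) (.leaf 266679)) (.node (.leaf 141136) (.leaf 169171))) (.node (.node (.leaf 59938) (.leaf 57890)) (.node (.leaf 101424) (.leaf 155567)))) (.node (.node (.node (.leaf 56354) (.leaf 55586)) (.node (.leaf 200659) (.leaf 101583))) (.node (.node (.leaf 59861) (.leaf 102932)) (.node (.leaf 164823) (.leaf 164663))))) (.node (.node (.node (.node (.leaf 58146) (.leaf 58914)) (.node (.leaf 15449) (.leaf 34202))) (.node (.node (.leaf 105391) (.leaf 169012)) (.node (.leaf 166199) (.leaf 188631)))) (.node (.node (.node (.leaf 142928) (.leaf 105296)) (.node (.leaf 226583) (.leaf 178231))) (.node (.node (.leaf 104595) (.leaf 104596)) (.node (.leaf 129813) (.leaf 121493)))))))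

/-- A suborbit and a mover, part 280. -/
def redCodePart280 : Janko1.Tree ℕ := (.node (.node (.node (.node (.node (.node (.leaf 150415) (.leaf 15450)) (.node (.leaf 36795) (.leaf 274391))) (.node (.node (.leaf 243607) (.leaf 252980)) (.node (.leaf 167383) (.leaf 205267)))) (.node (.node (.node (.leaf 112335) (.leaf 102864)) (.node (.leaf 68905) (.leaf 23564))) (.node (.node (.leaf 73942) (.leaf 113431)) (.node (.leaf 226712) (.leaf 225944))))) (.node (.node (.node (.node (.leaf 24025) (.leaf 95622)) (.node (.leaf 186679) (.leaf 16538))) (.node (.node (.leaf 115919) (.leaf 209304)) (.node (.leaf 68103) (.leaf 140624)))) (.node (.node (.node (.leaf 37691) (.leaf 275768)) (.node (.leaf 84614) (.leaf 67119))) (.node (.node (.leaf 82504) (.leaf 75464)) (.node (.leaf 57619) (.leaf 141711)))))) (.node (.node (.node (.node (.node (.leaf 19099) (.leaf 71974)) (.node (.leaf 175672) (.leaf 242200))) (.node (.node (.leaf 68880) (.leaf 21273)) (.node (.leaf 206552) (.leaf 92871)))) (.node (.node (.node (.leaf 271448) (.leaf 86055)) (.node (.leaf 93648)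 (.leaf 127162))) (.node (.node (.leaf 232344) (.leaf 231320)) (.node (.leaf 16411) (.leaf 68231))))) (.node (.node (.node (.node (.leaf 241559) (.leaf 219543)) (.node (.leaf 35033) (.leaf 95494))) (.node (.node (.leaf 221080) (.leaf 73781)) (.node (.leaf 23692) (.leaf 107479)))) (.node (.node (.node (.leaf 230552) (.leaf 234392)) (.node (.leaf 205108) (.leaf 69065))) (.node (.node (.leaf 18265) (.leaf 92711)) (.node (.leaf 86215) (.leaf 127067)))))))

/-- A suborbit and a mover, part 281. -/
def redCodePart281 : Janko1.Tree ℕ := (.node (.node (.node (.node (.node (.node (.leaf 18970) (.leaf 257976)) (.node (.leaf 72134) (.leaf 120143))) (.node (.node (.leaf 143895) (.leaf 82600)) (.node (.leaf 75304) (.leaf 87191)))) (.node (.node (.node (.leaf 57748) (.leaf 37850)) (.node (.leaf 210200) (.leaf 239128))) (.node (.node (.leaf 84486) (.leaf 210327)) (.node (.leaf 188983) (.leaf 205268))))) (.node (.node (.node (.node (.leaf 73941) (.leaf 38071)) (.node (.leaf 103383) (.leaf 33562))) (.node (.node (.leaf 25499) (.leaf 107312)) (.node (.leaf 169175)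 (.leaf 210583)))) (.node (.node (.node (.leaf 207315) (.leaf 207316)) (.node (.leaf 33563) (.leaf 36185))) (.node (.node (.leaf 20761) (.leaf 2330)) (.node (.leaf 87055) (.leaf 142131)))))) (.node (.node (.node (.node (.node (.leaf 142132) (.leaf 57620)) (.node (.leaf 41177) (.leaf 37978))) (.node (.node (.leaf 120239) (.leaf 2458)) (.node (.leaf 38715) (.leaf 150031)))) (.node (.node (.node (.leaf 61979) (.leaf 138009)) (.node (.leaf 207155) (.leaf 207156))) (.node (.node (.leaf 115759) (.leaf 16089)) (.node (.leaf 33690) (.leaf 257207))))) (.node (.node (.node (.node (.leaf 255447) (.leaf 194103)) (.node (.leaf 177367) (.leaf 107472))) (.node (.node (.leaf 25370) (.leaf 33691)) (.node (.leaf 73782) (.leaf 107543)))) (.node (.node (.node (.leaf 15159) (.leaf 205107)) (.node (.leaf 102704) (.leaf 112175))) (.node (.node (.leaf 150159) (.leaf 38874)) (.node (.leaf 2331) (.leaf 64409)))))))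

/-- A suborbit and a mover, part 282. -/
def redCodePart282 : Janko1.Tree ℕ := (.node (.node (.node (.node (.node (.node (.leaf 62106) (.leaf 93488)) (.node (.leaf 38075) (.leaf 20889))) (.node (.node (.leaf 141583) (.leaf 69008)) (.node (.leaf 36695) (.leaf 147639)))) (.node (.node (.node (.leaf 142291) (.leaf 142292)) (.node (.leaf 60247) (.leaf 100151))) (.node (.node (.leaf 57747) (.leaf 2459)) (.node (.leaf 18009) (.leaf 140720))))) (.node (.node (.node (.node (.leaf 87183) (.leaf 67279)) (.node (.leaf 206804) (.leaf 190263))) (.node (.node (.leaf 10393) (.leaf 211096)) (.node (.leaf 157143) (.leaf 70472)))) (.node (.node (.node (.leaf 155956) (.leaf 264408)) (.node (.leaf 263640) (.leaf 41434))) (.node (.node (.leaf 206547) (.leaf 209303)) (.node (.leaf 67369) (.leaf 10265)))))) (.node (.node (.node (.node (.node (.leaf 169176) (.leaf 92359)) (.node (.leaf 58310) (.leaf 18359))) (.node (.node (.leaf 97847) (.leaf 59944)) (.node (.leaf 91667) (.leaf 24026)))) (.node (.node (.node (.leaf 265912) (.leaf 235928)) (.node (.leaf 55759) (.leaf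 118864))) (.node (.node (.leaf 83337) (.leaf 35930)) (.node (.leaf 276280) (.leaf 60105))))) (.node (.node (.node (.node (.leaf 127161) (.leaf 181816)) (.node (.leaf 275672) (.leaf 274904))) (.node (.node (.leaf 206388) (.leaf 39129)) (.node (.leaf 157584) (.leaf 67529)))) (.node (.node (.node (.leaf 193335) (.leaf 253911)) (.node (.leaf 154896) (.leaf 41275))) (.node (.node (.leaf 235800) (.leaf 156115)) (.node (.leaf 70568) (.leaf 274392)))))))

/-- A suborbit and a mover, part 283. -/
def redCodePart283 : Janko1.Tree ℕ := (.node (.node (.node (.node (.node (.node (.leaf 275928) (.leaf 206643)) (.node (.leaf 37849) (.leaf 252216))) (.node (.node (.leaf 36027) (.leaf 83209)) (.node (.leaf 59945) (.leaf 61337)))) (.node (.node (.node (.leaf 23867) (.leaf 264248)) (.node (.leaf 39991) (.leaf 60104))) (.node (.node (.leaf 91796) (.leaf 58150)) (.node (.leaf 105903) (.leaf 92199))))) (.node (.node (.node (.node (.leaf 268984) (.leaf 206803)) (.node (.leaf 170455) (.leaf 208023))) (.node (.node (.leaf 20762) (.leaf 18235)) (.node (.leaf 154447)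 (.leaf 74709)))) (.node (.node (.node (.leaf 74710) (.leaf 24844)) (.node (.leaf 155703) (.leaf 27287))) (.node (.node (.leaf 155955) (.leaf 20763)) (.node (.leaf 37977) (.leaf 155024)))))) (.node (.node (.node (.node (.node (.leaf 206548) (.leaf 188471)) (.node (.leaf 166359) (.leaf 157456))) (.node (.node (.leaf 22554) (.leaf 4283)) (.node (.leaf 105807) (.leaf 118608)))) (.node (.node (.node (.leaf 127440) (.leaf 56464)) (.node (.leaf 104983) (.leaf 104151))) (.node (.node (.leaf 64599) (.leaf 90519)) (.node (.leaf 91668) (.leaf 110511))))) (.node (.node (.node (.node (.leaf 36155) (.leaf 32537)) (.node (.leaf 97840) (.leaf 15803))) (.node (.node (.leaf 3865) (.leaf 136474)) (.node (.leaf 64283) (.leaf 164015)))) (.node (.node (.node (.leaf 206387) (.leaf 4186)) (.node (.leaf 22683) (.leaf 175831))) (.node (.node (.leaf 220311) (.leaf 240279)) (.node (.leaf 256439) (.leaf 20249)))))))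

/-- A suborbit and a mover, part 284. -/
def redCodePart284 : Janko1.Tree ℕ := (.node (.node (.node (.node (.node (.node (.leaf 20890) (.leaf 24972)) (.node (.leaf 74549) (.leaf 74550))) (.node (.node (.leaf 156116) (.leaf 206644)) (.node (.leaf 154543) (.leaf 18394)))) (.node (.node (.node (.leaf 20891) (.leaf 32665)) (.node (.leaf 15706) (.leaf 118960))) (.node (.node (.leaf 163919) (.leaf 64410)) (.node (.leaf 136603) (.leaf 25369))))) (.node (.node (.node (.node (.leaf 36314) (.leaf 110415)) (.node (.leaf 55599) (.leaf 98000))) (.node (.node (.leaf 109079) (.leaf 111063)) (.node (.leaf 91795) (.leaf 118704)))) (.node (.node (.node (.leaf 56336) (.leaf 127280)) (.node (.leaf 237719) (.leaf 211095))) (.node (.node (.leaf 250295) (.leaf 242712)) (.node (.leaf 170456) (.leaf 70663)))))) (.node (.node (.node (.node (.node (.leaf 84998) (.leaf 61750)) (.node (.leaf 75477) (.leaf 73925))) (.node (.node (.leaf 61733) (.leaf 202036)) (.node (.leaf 254520) (.leaf 56521)))) (.node (.node (.node (.leaf 253399) (.leaf 169943)) (.node (.leaf 205780)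 (.leaf 239511))) (.node (.node (.leaf 232216) (.leaf 240920)) (.node (.leaf 206040) (.leaf 83081))))) (.node (.node (.node (.node (.leaf 251064) (.leaf 114896)) (.node (.leaf 188979) (.leaf 231959))) (.node (.node (.leaf 62917) (.leaf 57893)) (.node (.leaf 138199) (.leaf 57909)))) (.node (.node (.node (.leaf 70485) (.leaf 87591)) (.node (.leaf 220184) (.leaf 132656))) (.node (.node (.leaf 255284) (.leaf 250808)) (.node (.leaf 58054) (.leaf 253400)))))))

/-- A suborbit and a mover, part 285. -/
def redCodePart285 : Janko1.Tree ℕ := (.node (.node (.node (.node (.node (.node (.leaf 69648) (.leaf 205619)) (.node (.leaf 253240) (.leaf 257975))) (.node (.node (.leaf 176599) (.leaf 202195)) (.node (.leaf 56361) (.leaf 227352)))) (.node (.node (.node (.leaf 177368) (.leaf 75318)) (.node (.leaf 61909) (.leaf 61893))) (.node (.node (.leaf 73765) (.leaf 85126)) (.node (.leaf 70791) (.leaf 209176))))) (.node (.node (.node (.node (.leaf 57894) (.leaf 253239)) (.node (.leaf 255448) (.leaf 200664))) (.node (.node (.leaf 87751) (.leaf 96271)) (.node (.leaf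 255443) (.leaf 58053)))) (.node (.node (.node (.leaf 62757) (.leaf 131863)) (.node (.leaf 70582) (.leaf 58070))) (.node (.node (.leaf 82953) (.leaf 189140)) (.node (.leaf 249527) (.leaf 251607)))))) (.node (.node (.node (.node (.node (.leaf 187191) (.leaf 169687)) (.node (.leaf 206035) (.leaf 206036))) (.node (.node (.leaf 253143) (.leaf 238487)) (.node (.leaf 61749) (.leaf 25100)))) (.node (.node (.node (.leaf 75478) (.leaf 60981)) (.node (.leaf 60982) (.leaf 202035))) (.node (.node (.leaf 198195) (.leaf 198196)) (.node (.leaf 238743) (.leaf 250039))))) (.node (.node (.node (.node (.leaf 207511) (.leaf 189751)) (.node (.leaf 205779) (.leaf 250807))) (.node (.node (.leaf 252631) (.leaf 188980)) (.node (.leaf 182839) (.leaf 205271)))) (.node (.node (.node (.leaf 111695) (.leaf 145207)) (.node (.leaf 65687) (.leaf 57910))) (.node (.node (.leaf 70486) (.leaf 193491)) (.node (.leaf 193492) (.leaf 255283)))))))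

/-- A suborbit and a mover, part 286. -/
def redCodePart286 : Janko1.Tree ℕ := (.node (.node (.node (.node (.node (.node (.leaf 96399) (.leaf 138191)) (.node (.leaf 205620) (.leaf 198355))) (.node (.node (.leaf 198356) (.leaf 254679)) (.node (.leaf 242327) (.leaf 221079)))) (.node (.node (.node (.leaf 192567) (.leaf 202196)) (.node (.leaf 61141) (.leaf 61142))) (.node (.node (.leaf 75317) (.leaf 25228)) (.node (.leaf 61910) (.leaf 205875))))) (.node (.node (.node (.node (.leaf 205876) (.leaf 69776)) (.node (.leaf 249943) (.leaf 238615))) (.node (.node (.leaf 138031) (.leaf 255444)) (.node (.leaf 193331) (.leaf 193332)))) (.node (.node (.node (.leaf 132816) (.leaf 85591)) (.node (.leaf 153271) (.leaf 70581))) (.node (.node (.leaf 58069) (.leaf 111791)) (.node (.leaf 189139) (.leaf 114736)))))) (.node (.node (.node (.node (.node (.leaf 187192) (.leaf 87046)) (.node (.leaf 190264) (.leaf 4155))) (.node (.node (.leaf 239896) (.leaf 60965)) (.node (.leaf 102615) (.leaf 26007)))) (.node (.node (.node (.leaf 106544) (.leaf 55753)) (.node (.leaf 26523)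 (.leaf 36953))) (.node (.node (.leaf 253752) (.leaf 188472)) (.node (.leaf 21274) (.leaf 243224))))) (.node (.node (.node (.node (.leaf 186680) (.leaf 35929)) (.node (.leaf 158224) (.leaf 231192))) (.node (.node (.leaf 169683) (.leaf 86311)) (.node (.leaf 180792) (.leaf 18956)))) (.node (.node (.node (.leaf 80659) (.leaf 126998)) (.node (.leaf 70469) (.leaf 96151))) (.node (.node (.leaf 96393) (.leaf 73513)) (.node (.leaf 134043) (.leaf 198199)))))))

/-- A suborbit and a mover, part 287. -/
def redCodePart287 : Janko1.Tree ℕ := (.node (.node (.node (.node (.node (.node (.leaf 200504) (.leaf 193496)) (.node (.leaf 72751) (.leaf 85382))) (.node (.node (.leaf 67366) (.leaf 86415)) (.node (.leaf 3801) (.leaf 21403)))) (.node (.node (.node (.leaf 192568) (.leaf 26394)) (.node (.leaf 18969) (.leaf 194104))) (.node (.node (.leaf 55593) (.leaf 4407)) (.node (.leaf 61125) (.leaf 115503))))) (.node (.node (.node (.node (.leaf 4314) (.leaf 103472)) (.node (.leaf 156079) (.leaf 87174))) (.node (.node (.leaf 183511) (.leaf 206392)) (.node (.leaf 67526)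 (.leaf 244119)))) (.node (.node (.node (.leaf 85254) (.leaf 269496)) (.node (.leaf 114992) (.leaf 96265))) (.node (.node (.leaf 73673) (.leaf 133914)) (.node (.leaf 127125) (.leaf 70565)))))) (.node (.node (.node (.node (.node (.leaf 19084) (.leaf 80788)) (.node (.leaf 169524) (.leaf 86471))) (.node (.node (.leaf 232087) (.leaf 249432)) (.node (.leaf 83408) (.leaf 103632)))) (.node (.node (.node (.leaf 155983) (.leaf 115663)) (.node (.leaf 10521) (.leaf 21530))) (.node (.node (.leaf 155187) (.leaf 155188)) (.node (.leaf 115735) (.leaf 37815))))) (.node (.node (.node (.node (.leaf 158679) (.leaf 156471)) (.node (.leaf 155792) (.leaf 23257))) (.node (.node (.leaf 32538) (.leaf 41178)) (.node (.leaf 21531) (.leaf 112591)))) (.node (.node (.node (.leaf 17979) (.leaf 10649)) (.node (.leaf 16666) (.leaf 32539))) (.node (.node (.leaf 83248) (.leaf 169684)) (.node (.leaf 68624) (.leaf 80660)))))))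

/-- A suborbit and a mover, part 288. -/
def redCodePart288 : Janko1.Tree ℕ := (.node (.node (.node (.node (.node (.node (.leaf 126997) (.leaf 67671)) (.node (.leaf 116791) (.leaf 176435))) (.node (.node (.leaf 176436) (.leaf 74649)) (.node (.leaf 72602) (.leaf 178391)))) (.node (.node (.node (.leaf 226711) (.leaf 115152)) (.node (.leaf 32666) (.leaf 16795))) (.node (.node (.leaf 158352) (.leaf 112431)) (.node (.leaf 38873) (.leaf 18138))))) (.node (.node (.node (.node (.leaf 32667) (.leaf 36313)) (.node (.leaf 21658) (.leaf 41019))) (.node (.node (.leaf 106704) (.leaf 155664)) (.node (.leaf 106711) (.leaf 106007)))) (.node (.node (.node (.leaf 155347) (.leaf 155348)) (.node (.leaf 21659) (.leaf 38105))) (.node (.node (.leaf 232343) (.leaf 205623)) (.node (.leaf 86287) (.leaf 271543)))))) (.node (.node (.node (.node (.node (.leaf 274903) (.leaf 72911)) (.node (.leaf 176595) (.leaf 176596))) (.node (.node (.leaf 72475) (.leaf 132281)) (.node (.leaf 127126) (.leaf 80787)))) (.node (.node (.node (.leaf 169523) (.leaf 68752)) (.node (.leaf 205111)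 (.leaf 182999))) (.node (.node (.leaf 32795) (.leaf 208024)) (.node (.leaf 68615) (.leaf 36441))))) (.node (.node (.node (.node (.leaf 169688) (.leaf 37047)) (.node (.leaf 74693) (.leaf 102291))) (.node (.node (.leaf 69192) (.leaf 33818)) (.node (.leaf 33819) (.leaf 169944)))) (.node (.node (.node (.leaf 70441) (.leaf 208019)) (.node (.leaf 87049) (.leaf 270680))) (.node (.node (.leaf 163759) (.leaf 58956)) (.node (.leaf 90260) (.leaf 61736)))))))

/-- A suborbit and a mover, part 289. -/
def redCodePart289 : Janko1.Tree ℕ := (.node (.node (.node (.node (.node (.node (.leaf 78917) (.leaf 62612)) (.node (.leaf 98966) (.leaf 82631))) (.node (.node (.leaf 241431) (.leaf 128303)) (.node (.leaf 177624) (.leaf 123599)))) (.node (.node (.node (.leaf 177619) (.leaf 188468)) (.node (.leaf 126416) (.leaf 124336))) (.node (.node (.leaf 275511) (.leaf 113455)) (.node (.leaf 70601) (.leaf 33946))))) (.node (.node (.node (.node (.leaf 102192) (.leaf 252472)) (.node (.leaf 102351) (.leaf 108240))) (.node (.node (.leaf 236568) (.leaf 175832)) (.node (.leaf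 33947) (.leaf 226584)))) (.node (.node (.node (.leaf 102164) (.leaf 106775)) (.node (.leaf 69288) (.leaf 74533))) (.node (.node (.leaf 15577) (.leaf 252984)) (.node (.leaf 32922) (.leaf 68743)))))) (.node (.node (.node (.node (.node (.leaf 181976) (.leaf 166200)) (.node (.leaf 239384) (.leaf 188627))) (.node (.node (.leaf 177460) (.leaf 266584)) (.node (.leaf 82471) (.leaf 79013)))) (.node (.node (.node (.leaf 61896) (.leaf 98837)) (.node (.leaf 62483) (.leaf 90131))) (.node (.node (.leaf 59052) (.leaf 87177)) (.node (.leaf 180952) (.leaf 205880))))) (.node (.node (.node (.node (.leaf 139600) (.leaf 207892)) (.node (.leaf 36697) (.leaf 16154))) (.node (.node (.leaf 113359) (.leaf 102096)) (.node (.leaf 16282) (.leaf 34331)))) (.node (.node (.node (.leaf 101523) (.leaf 101524)) (.node (.leaf 101847) (.leaf 112407))) (.node (.node (.leaf 102292) (.leaf 102959)) (.node (.leaf 26267) (.leaf 24281)))))))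

/-- A suborbit and a mover, part 290. -/
def redCodePart290 : Janko1.Tree ℕ := (.node (.node (.node (.node (.node (.node (.leaf 108080) (.leaf 102191)) (.node (.leaf 102352) (.leaf 34905))) (.node (.node (.leaf 3866) (.leaf 113615)) (.node (.leaf 103120) (.leaf 208020)))) (.node (.node (.node (.leaf 139696) (.leaf 90259)) (.node (.leaf 62611) (.leaf 98965))) (.node (.node (.leaf 255287) (.leaf 257111)) (.node (.leaf 177620) (.leaf 188467))))) (.node (.node (.node (.node (.leaf 269399) (.leaf 240919)) (.node (.leaf 102960) (.leaf 3995))) (.node (.node (.leaf 15705) (.leaf 36057)) (.node (.leaf 26138) (.leaf 103119)))) (.node (.node (.node (.leaf 102163) (.leaf 15031)) (.node (.leaf 108247) (.leaf 101395))) (.node (.node (.leaf 101396) (.leaf 34458)) (.node (.leaf 16155) (.leaf 101936)))))) (.node (.node (.node (.node (.node (.leaf 113199) (.leaf 16283)) (.node (.leaf 89) (.leaf 124240))) (.node (.node (.leaf 126256) (.leaf 188628)) (.node (.leaf 177459) (.leaf 123439)))) (.node (.node (.node (.leaf 128463) (.leaf 98838)) (.node (.leaf 62484)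 (.leaf 90132))) (.node (.node (.leaf 163663) (.leaf 207891)) (.node (.leaf 70185) (.leaf 21786))))) (.node (.node (.node (.node (.leaf 167384) (.leaf 155215)) (.node (.leaf 67591) (.leaf 157968))) (.node (.node (.leaf 154935) (.leaf 154419)) (.node (.leaf 75461) (.leaf 162991)))) (.node (.node (.node (.leaf 94854) (.leaf 21787)) (.node (.leaf 156560) (.leaf 71175))) (.node (.node (.leaf 18363) (.leaf 156239)) (.node (.leaf 207512) (.leaf 67110)))))))

/-- A suborbit and a mover, part 291. -/
def redCodePart291 : Janko1.Tree ℕ := (.node (.node (.node (.node (.node (.node (.leaf 239895) (.leaf 100399)) (.node (.leaf 56455) (.leaf 137753))) (.node (.node (.leaf 60617) (.leaf 65224)) (.node (.leaf 129047) (.leaf 62934)))) (.node (.node (.node (.leaf 68871) (.leaf 193495)) (.node (.leaf 159823) (.leaf 55750))) (.node (.node (.leaf 256344) (.leaf 183351)) (.node (.leaf 207508) (.leaf 18266))))) (.node (.node (.node (.node (.leaf 251704) (.leaf 154799)) (.node (.leaf 71303) (.leaf 219544))) (.node (.node (.leaf 225816) (.leaf 21914)) (.node (.leaf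 176600) (.leaf 94726)))) (.node (.node (.node (.leaf 162263) (.leaf 154580)) (.node (.leaf 75301) (.leaf 162103))) (.node (.node (.leaf 67719) (.leaf 21915)) (.node (.leaf 70345) (.leaf 249176)))))) (.node (.node (.node (.node (.node (.leaf 207379) (.leaf 188632)) (.node (.leaf 243352) (.leaf 55590))) (.node (.node (.leaf 177464) (.leaf 68999)) (.node (.leaf 62773) (.leaf 65064)))) (.node (.node (.node (.leaf 60457) (.leaf 250199)) (.node (.leaf 56327) (.leaf 64153))) (.node (.node (.leaf 189144) (.leaf 67270)) (.node (.leaf 158736) (.leaf 18107))))) (.node (.node (.node (.node (.leaf 2329) (.leaf 27543)) (.node (.leaf 157911) (.leaf 154420))) (.node (.node (.leaf 37721) (.leaf 39898)) (.node (.leaf 164783) (.leaf 154703)))) (.node (.node (.node (.leaf 156688) (.leaf 2457)) (.node (.leaf 22810) (.leaf 274999))) (.node (.node (.leaf 268887) (.leaf 126394)) (.node (.leaf 61467) (.leaf 134421)))))))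

/-- A suborbit and a mover, part 292. -/
def redCodePart292 : Janko1.Tree ℕ := (.node (.node (.node (.node (.node (.node (.leaf 134422) (.leaf 76887)) (.node (.leaf 159927) (.leaf 62933))) (.node (.node (.leaf 220183) (.leaf 175671)) (.node (.leaf 77583) (.leaf 219411)))) (.node (.node (.node (.leaf 219412) (.leaf 205783)) (.node (.leaf 232215) (.leaf 67375))) (.node (.node (.leaf 58831) (.leaf 207507)) (.node (.leaf 156335) (.leaf 22939))))) (.node (.node (.node (.node (.leaf 37593) (.leaf 156816)) (.node (.leaf 164687) (.leaf 156432))) (.node (.node (.leaf 39739) (.leaf 20505)) (.node (.leaf 162895) (.leaf 162871)))) (.node (.node (.node (.leaf 16151) (.leaf 154579)) (.node (.leaf 16279) (.leaf 163031))) (.node (.node (.leaf 158096) (.leaf 155311)) (.node (.leaf 37081) (.leaf 18010)))))) (.node (.node (.node (.node (.node (.leaf 158864) (.leaf 207380)) (.node (.leaf 58671) (.leaf 67535))) (.node (.node (.leaf 219539) (.leaf 219540)) (.node (.leaf 77711) (.leaf 159919)))) (.node (.node (.node (.leaf 62774) (.leaf 134549)) (.node (.leaf 134550)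 (.leaf 238359))) (.node (.node (.leaf 252983) (.leaf 61594)) (.node (.leaf 126299) (.leaf 100559))))) (.node (.node (.node (.node (.leaf 230424) (.leaf 243480)) (.node (.leaf 83974) (.leaf 210328))) (.node (.node (.leaf 67113) (.leaf 231960)) (.node (.leaf 55464) (.leaf 67400)))) (.node (.node (.node (.leaf 59685) (.leaf 57000)) (.node (.leaf 59271) (.leaf 255288))) (.node (.node (.leaf 57289) (.leaf 96390)) (.node (.leaf 60807) (.leaf 84742)))))))

/-- A suborbit and a mover, part 293. -/
def redCodePart293 : Janko1.Tree ℕ := (.node (.node (.node (.node (.node (.node (.leaf 210584) (.leaf 69161)) (.node (.leaf 234520) (.leaf 243992))) (.node (.node (.leaf 166360) (.leaf 69639)) (.node (.leaf 86790) (.leaf 59087)))) (.node (.node (.node (.leaf 64027) (.leaf 137679)) (.node (.leaf 69396) (.leaf 60819))) (.node (.node (.leaf 57014) (.leaf 86932)) (.node (.leaf 75418) (.leaf 88624))))) (.node (.node (.node (.node (.leaf 60816) (.leaf 100688)) (.node (.leaf 56208) (.leaf 181811))) (.node (.node (.leaf 86918) (.leaf 69767)) (.node (.leaf 69321) (.leaf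 84870)))) (.node (.node (.node (.leaf 60679) (.leaf 96262)) (.node (.leaf 57129) (.leaf 235032))) (.node (.node (.leaf 220312) (.leaf 59143)) (.node (.leaf 56904) (.leaf 59845)))))) (.node (.node (.node (.node (.node (.leaf 67496) (.leaf 55368)) (.node (.leaf 67273) (.leaf 84102))) (.node (.node (.leaf 251448) (.leaf 181972)) (.node (.leaf 86927) (.leaf 110767)))) (.node (.node (.node (.leaf 146608) (.leaf 78896)) (.node (.leaf 265815) (.leaf 75291))) (.node (.node (.leaf 114487) (.leaf 128727)) (.node (.leaf 86803) (.leaf 56917))))) (.node (.node (.node (.node (.leaf 60692) (.leaf 69523)) (.node (.leaf 64154) (.leaf 167223))) (.node (.node (.leaf 86031) (.leaf 86159)) (.node (.leaf 123824) (.leaf 180787)))) (.node (.node (.node (.leaf 180788) (.leaf 93136)) (.node (.leaf 126393) (.leaf 136218))) (.node (.node (.leaf 69395) (.leaf 60820)) (.node (.leaf 126613) (.leaf 126614)))))))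

/-- A suborbit and a mover, part 294. -/
def redCodePart294 : Janko1.Tree ℕ := (.node (.node (.node (.node (.node (.node (.leaf 57013) (.leaf 86931)) (.node (.leaf 132187) (.leaf 72601))) (.node (.node (.leaf 79056) (.leaf 146512)) (.node (.leaf 110671) (.leaf 86799)))) (.node (.node (.node (.leaf 253395) (.leaf 253396)) (.node (.leaf 181812) (.leaf 99887))) (.node (.node (.leaf 139440) (.leaf 82992)) (.node (.leaf 83152) (.leaf 139344))))) (.node (.node (.node (.node (.leaf 100047) (.leaf 181971)) (.node (.leaf 253235) (.leaf 253236))) (.node (.node (.leaf 56080) (.leaf 100784)) (.node (.leaf 235031) (.leaf 263479)))) (.node (.node (.node (.leaf 60688) (.leaf 88784)) (.node (.leaf 135449) (.leaf 132282))) (.node (.node (.leaf 73303) (.leaf 81047)) (.node (.leaf 138551) (.leaf 56215)))))) (.node (.node (.node (.node (.node (.leaf 86804) (.leaf 56918)) (.node (.leaf 126485) (.leaf 126486))) (.node (.node (.leaf 60691) (.leaf 69524)) (.node (.leaf 137519) (.leaf 136347)))) (.node (.node (.node (.leaf 60825) (.leaf 92976)) (.node (.leaf 189143)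 (.leaf 210199))) (.node (.node (.leaf 180947) (.leaf 180948)) (.node (.leaf 58927) (.leaf 123728))))) (.node (.node (.node (.node (.leaf 31247) (.leaf 31000)) (.node (.leaf 31252) (.leaf 53528))) (.node (.node (.leaf 35847) (.leaf 33553)) (.node (.leaf 45063) (.leaf 49672)))) (.node (.node (.node (.leaf 133554) (.leaf 170403)) (.node (.leaf 33291) (.leaf 44809))) (.node (.node (.leaf 98058) (.leaf 135981)) (.node (.leaf 171591) (.leaf 238232)))))))

/-- A suborbit and a mover, part 295. -/
def redCodePart295 : Janko1.Tree ℕ := (.node (.node (.node (.node (.node (.node (.leaf 142416) (.leaf 86662)) (.node (.leaf 110800) (.leaf 31768))) (.node (.node (.leaf 31764) (.leaf 40969)) (.node (.leaf 182712) (.leaf 136016)))) (.node (.node (.node (.leaf 33802) (.leaf 148024)) (.node (.leaf 64589) (.leaf 150346))) (.node (.node (.leaf 176966) (.leaf 33042)) (.node (.leaf 36664) (.leaf 51462))))) (.node (.node (.node (.node (.leaf 106125) (.leaf 165681)) (.node (.leaf 239000) (.leaf 34650))) (.node (.node (.leaf 251352) (.leaf 167124)) (.node (.leaf 83495)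 (.leaf 183096)))) (.node (.node (.node (.leaf 70928) (.leaf 31888)) (.node (.leaf 30863) (.leaf 31891))) (.node (.node (.leaf 41097) (.leaf 33930)) (.node (.leaf 118552) (.leaf 74446)))))) (.node (.node (.node (.node (.node (.leaf 150442) (.leaf 177062)) (.node (.leaf 51590) (.leaf 34747))) (.node (.node (.leaf 166963) (.leaf 83655)) (.node (.leaf 31379) (.leaf 35975)))) (.node (.node (.node (.leaf 140600) (.leaf 45191)) (.node (.leaf 106546) (.leaf 49800))) (.node (.node (.leaf 170307) (.leaf 119608)) (.node (.leaf 33419) (.leaf 44937))))) (.node (.node (.node (.node (.leaf 104920) (.leaf 98186)) (.node (.leaf 171687) (.leaf 104111))) (.node (.node (.leaf 269239) (.leaf 86534)) (.node (.leaf 268472) (.leaf 30992)))) (.node (.node (.node (.leaf 31251) (.leaf 69551)) (.node (.leaf 33546) (.leaf 106699))) (.node (.node (.leaf 106706) (.leaf 133547)) (.node (.leaf 45059) (.leaf 175427)))))))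

/-- A suborbit and a mover, part 296. -/
def redCodePart296 : Janko1.Tree ℕ := (.node (.node (.node (.node (.node (.node (.leaf 33298) (.leaf 98065)) (.node (.leaf 119566) (.leaf 104015))) (.node (.node (.leaf 31760) (.leaf 30735)) (.node (.leaf 31763) (.leaf 33809)))) (.node (.node (.node (.leaf 74286) (.leaf 150353)) (.node (.leaf 33035) (.leaf 165674))) (.node (.node (.leaf 115470) (.leaf 151823)) (.node (.leaf 15675) (.leaf 16793))))) (.node (.node (.node (.node (.leaf 167123) (.leaf 31892)) (.node (.leaf 136112) (.leaf 33937))) (.node (.node (.leaf 64685) (.leaf 150449)) (.node (.leaf 33163) (.leaf 33170)))) (.node (.node (.node (.leaf 105997) (.leaf 165841)) (.node (.leaf 165834) (.leaf 115598))) (.node (.node (.leaf 151951) (.leaf 33177)) (.node (.leaf 15834) (.leaf 166964)))))) (.node (.node (.node (.node (.node (.leaf 71056) (.leaf 31120)) (.node (.leaf 31375) (.leaf 31380))) (.node (.node (.leaf 69455) (.leaf 33681)) (.node (.leaf 33674) (.leaf 106539)))) (.node (.node (.node (.leaf 133451) (.leaf 133458)) (.node (.leaf 175523) (.leaf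 45187))) (.node (.node (.leaf 33426) (.leaf 98193)) (.node (.leaf 119694) (.leaf 136141))))) (.node (.node (.node (.node (.leaf 142512) (.leaf 275415)) (.node (.leaf 240791) (.leaf 110640))) (.node (.node (.leaf 32016) (.leaf 40457)) (.node (.leaf 180148) (.leaf 45062)))) (.node (.node (.node (.leaf 150840) (.leaf 71491)) (.node (.leaf 187140) (.leaf 129355))) (.node (.node (.leaf 122168) (.leaf 35128)) (.node (.leaf 92971) (.leaf 154321)))))))

/-- A suborbit and a mover, part 297. -/
def redCodePart297 : Janko1.Tree ℕ := (.node (.node (.node (.node (.node (.node (.leaf 77899) (.leaf 181669)) (.node (.leaf 206086) (.leaf 37179))) (.node (.node (.leaf 147983) (.leaf 205528)) (.node (.leaf 94151) (.leaf 186931)))) (.node (.node (.node (.leaf 30736) (.leaf 54040)) (.node (.leaf 52251) (.leaf 53527))) (.node (.node (.leaf 45318) (.leaf 80330)) (.node (.leaf 157326) (.leaf 76593))))) (.node (.node (.node (.node (.leaf 44553) (.leaf 183204)) (.node (.leaf 101262) (.leaf 86450))) (.node (.node (.leaf 97432) (.leaf 22297)) (.node (.leaf 275256) (.leaf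 85769)))) (.node (.node (.node (.leaf 268376) (.leaf 31640)) (.node (.leaf 53400) (.leaf 52378))) (.node (.node (.leaf 45446) (.leaf 141368)) (.node (.leaf 80170) (.leaf 157197)))))) (.node (.node (.node (.node (.node (.leaf 62776) (.leaf 35000)) (.node (.leaf 44681) (.leaf 183108))) (.node (.node (.leaf 17881) (.leaf 141744)) (.node (.leaf 207640) (.leaf 85897)))) (.node (.node (.node (.leaf 31376) (.leaf 32152)) (.node (.leaf 53912) (.leaf 40585))) (.node (.node (.leaf 75439) (.leaf 180051)) (.node (.leaf 45190) (.leaf 113618))))) (.node (.node (.node (.node (.leaf 71587) (.leaf 129451)) (.node (.leaf 187268) (.leaf 36280))) (.node (.node (.leaf 131374) (.leaf 93131)) (.node (.leaf 77995) (.leaf 206214)))) (.node (.node (.node (.leaf 181573) (.leaf 37338)) (.node (.leaf 93991) (.leaf 169272))) (.node (.node (.leaf 237336) (.leaf 187092)) (.node (.leaf 31248) (.leaf 180147)))))))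

/-- A suborbit and a mover, part 298. -/
def redCodePart298 : Janko1.Tree ℕ := (.node (.node (.node (.node (.node (.node (.leaf 75343) (.leaf 38147)) (.node (.leaf 60579) (.leaf 113451))) (.node (.node (.leaf 113458) (.leaf 45060)) (.node (.leaf 193924) (.leaf 129362)))) (.node (.node (.node (.leaf 92978) (.leaf 131534)) (.node (.leaf 154314) (.leaf 77906))) (.node (.node (.leaf 22041) (.leaf 10010)) (.node (.leaf 186932) (.leaf 127952))))) (.node (.node (.node (.node (.leaf 31504) (.leaf 28953)) (.node (.leaf 46874) (.leaf 180151))) (.node (.node (.leaf 184919) (.leaf 80337)) (.node (.leaf 76586) (.leaf 157325)))) (.node (.node (.node (.leaf 171588) (.leaf 51460)) (.node (.leaf 115469) (.leaf 86443))) (.node (.node (.leaf 141648) (.leaf 10138)) (.node (.leaf 38203) (.leaf 161967)))))) (.node (.node (.node (.node (.node (.leaf 31632) (.leaf 30864)) (.node (.leaf 47003) (.leaf 48537))) (.node (.node (.leaf 157198) (.leaf 80177)) (.node (.leaf 76753) (.leaf 76746)))) (.node (.node (.node (.leaf 115597) (.leaf 51588)) (.node (.leaf 171684) (.leaf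 86347))) (.node (.node (.leaf 86354) (.leaf 101134)) (.node (.leaf 38362) (.leaf 10011))))) (.node (.node (.node (.node (.leaf 161871) (.leaf 32144)) (.node (.leaf 180052) (.leaf 113611))) (.node (.node (.leaf 60483) (.leaf 38275)) (.node (.leaf 129458) (.leaf 193796)))) (.node (.node (.node (.leaf 45188) (.leaf 93138)) (.node (.leaf 78002) (.leaf 154161))) (.node (.node (.leaf 154154) (.leaf 148111)) (.node (.leaf 10139) (.leaf 985)))))))

/-- A suborbit and a mover, part 299. -/
def redCodePart299 : Janko1.Tree ℕ := (.node (.node (.node (.node (.node (.node (.leaf 127792) (.leaf 187091)) (.node (.leaf 180664) (.leaf 54551))) (.node (.node (.leaf 47131) (.leaf 110104)) (.node (.leaf 81105) (.leaf 167333)))) (.node (.node (.node (.leaf 110296) (.leaf 116618)) (.node (.leaf 51718) (.leaf 51716))) (.node (.node (.leaf 107662) (.leaf 85641)) (.node (.leaf 16409) (.leaf 274488))))) (.node (.node (.node (.node (.leaf 234775) (.leaf 68399)) (.node (.leaf 31759) (.leaf 36359))) (.node (.node (.leaf 180660) (.leaf 45319)) (.node (.leaf 112427) (.leaf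 108568)))) (.node (.node (.node (.leaf 94250) (.leaf 200361)) (.node (.leaf 244488) (.leaf 109528))) (.node (.node (.leaf 80082) (.leaf 169097)) (.node (.leaf 133837) (.leaf 171589)))))) (.node (.node (.node (.node (.node (.leaf 104783) (.leaf 93383)) (.node (.leaf 118096) (.leaf 59590))) (.node (.node (.leaf 57479) (.leaf 125114)) (.node (.leaf 58569) (.leaf 31896)))) (.node (.node (.node (.leaf 36487) (.leaf 180563)) (.node (.leaf 185272) (.leaf 94410))) (.node (.node (.leaf 45447) (.leaf 112587)) (.node (.leaf 137426) (.leaf 244616))))) (.node (.node (.node (.node (.leaf 200265) (.leaf 105688)) (.node (.leaf 171685) (.leaf 141362))) (.node (.node (.leaf 168969) (.leaf 59430)) (.node (.leaf 93223) (.leaf 58409)))) (.node (.node (.node (.leaf 251191) (.leaf 57351)) (.node (.leaf 125019) (.leaf 32143))) (.node (.node (.leaf 31128) (.leaf 186552)) (.node (.leaf 47258) (.leaf 110872)))))))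

/-- A suborbit and a mover, part 300. -/
def redCodePart300 : Janko1.Tree ℕ := (.node (.node (.node (.node (.node (.node (.leaf 64686) (.leaf 148504)) (.node (.leaf 72782) (.leaf 167237))) (.node (.node (.leaf 51846) (.leaf 51844)) (.node (.leaf 116490) (.leaf 120472)))) (.node (.node (.node (.leaf 150226) (.leaf 33433)) (.node (.leaf 85513) (.leaf 243864))) (.node (.node (.leaf 32015) (.leaf 30991)) (.node (.leaf 182711) (.leaf 185431))))) (.node (.node (.node (.node (.leaf 48409) (.leaf 52762)) (.node (.leaf 73645) (.leaf 81098))) (.node (.node (.leaf 72878) (.leaf 64590)) (.node (.leaf 116625) (.leaf 181668)))) (.node (.node (.node (.leaf 173380) (.leaf 150059)) (.node (.leaf 150066) (.leaf 111440))) (.node (.node (.leaf 35418) (.leaf 3771)) (.node (.leaf 181559) (.leaf 207063)))))) (.node (.node (.node (.node (.node (.leaf 31503) (.leaf 135600)) (.node (.leaf 180659) (.leaf 112434))) (.node (.node (.leaf 94257) (.leaf 57133)) (.node (.leaf 137259) (.leaf 137266)))) (.node (.node (.node (.leaf 132302) (.leaf 80075)) (.node (.leaf 141515)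 (.leaf 141522))) (.node (.node (.leaf 59675) (.leaf 136729)) (.node (.leaf 31887) (.leaf 31631))))) (.node (.node (.node (.node (.leaf 180564) (.leaf 135504)) (.node (.leaf 94417) (.leaf 112594))) (.node (.node (.leaf 137419) (.leaf 57293)) (.node (.leaf 79915) (.leaf 79922)))) (.node (.node (.node (.leaf 132142) (.leaf 133677)) (.node (.leaf 141355) (.leaf 118192))) (.node (.node (.leaf 104879) (.leaf 248919)) (.node (.leaf 237335) (.leaf 64665)))))))

/-- A suborbit and a mover, part 301. -/
def redCodePart301 : Janko1.Tree ℕ := (.node (.node (.node (.node (.node (.node (.leaf 59802) (.leaf 31119)) (.node (.leaf 52891) (.leaf 29593))) (.node (.node (.leaf 80945) (.leaf 80938)) (.node (.leaf 73549) (.leaf 173476)))) (.node (.node (.node (.leaf 181572) (.leaf 116497)) (.node (.leaf 107534) (.leaf 150219))) (.node (.node (.leaf 3674) (.leaf 35515)) (.node (.leaf 111536) (.leaf 68559))))) (.node (.node (.node (.node (.leaf 31256) (.leaf 32024)) (.node (.leaf 137808) (.leaf 51739))) (.node (.node (.leaf 162062) (.leaf 93489)) (.node (.leaf 85464)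 (.leaf 139544)))) (.node (.node (.node (.leaf 176197) (.leaf 129838)) (.node (.leaf 80843) (.leaf 112141))) (.node (.node (.leaf 175881) (.leaf 82232)) (.node (.leaf 249016) (.leaf 58566)))))) (.node (.node (.node (.node (.node (.leaf 252120) (.leaf 252116)) (.node (.leaf 30744) (.leaf 31512))) (.node (.node (.leaf 47643) (.leaf 107467)) (.node (.leaf 38403) (.leaf 129240)))) (.node (.node (.node (.leaf 170407) (.leaf 93746)) (.node (.leaf 181671) (.leaf 194694))) (.node (.node (.leaf 207064) (.leaf 86665)) (.node (.leaf 249784) (.leaf 94160))))) (.node (.node (.node (.node (.leaf 125113) (.leaf 30872)) (.node (.leaf 74927) (.leaf 47770))) (.node (.node (.leaf 181079) (.leaf 164750)) (.node (.leaf 72013) (.leaf 38531)))) (.node (.node (.node (.leaf 107307) (.leaf 170311)) (.node (.leaf 129230) (.leaf 114961))) (.node (.node (.leaf 98961) (.leaf 194566)) (.node (.leaf 181575) (.leaf 77624)))))))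

/-- A suborbit and a mover, part 302. -/
def redCodePart302 : Janko1.Tree ℕ := (.node (.node (.node (.node (.node (.node (.leaf 86537) (.leaf 61849)) (.node (.leaf 207639) (.leaf 31384))) (.node (.node (.leaf 180311) (.leaf 51866)) (.node (.leaf 62381) (.leaf 176293)))) (.node (.node (.node (.leaf 77784) (.leaf 107533)) (.node (.leaf 80683) (.leaf 176009))) (.node (.node (.leaf 210712) (.leaf 58406)) (.node (.leaf 251955) (.leaf 27673))))) (.node (.node (.node (.node (.leaf 48154) (.leaf 133808)) (.node (.leaf 93482) (.leaf 158862))) (.node (.node (.leaf 62285) (.leaf 80850)) (.node (.leaf 107661) (.leaf 115023)))) (.node (.node (.node (.leaf 55952) (.leaf 84239)) (.node (.leaf 252115) (.leaf 49689))) (.node (.node (.leaf 51482) (.leaf 74831)) (.node (.leaf 70831) (.leaf 107474)))))) (.node (.node (.node (.node (.node (.leaf 58275) (.leaf 73027)) (.node (.leaf 72109) (.leaf 164622))) (.node (.node (.leaf 98833) (.leaf 98826)) (.node (.leaf 93739) (.leaf 115089)))) (.node (.node (.node (.leaf 115082) (.leaf 129070)) (.node (.leaf 137498) (.leaf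 64539))) (.node (.node (.leaf 136399) (.leaf 70735)) (.node (.leaf 51611) (.leaf 27801))))) (.node (.node (.node (.node (.leaf 55191) (.leaf 186551)) (.node (.leaf 73123) (.leaf 58179))) (.node (.node (.leaf 107314) (.leaf 114954)) (.node (.leaf 93899) (.leaf 93906)))) (.node (.node (.node (.leaf 98954) (.leaf 136239)) (.node (.leaf 64666) (.leaf 137627))) (.node (.node (.leaf 94000) (.leaf 170039)) (.node (.leaf 190167) (.leaf 53399)))))))

/-- A suborbit and a mover, part 303. -/
def redCodePart303 : Janko1.Tree ℕ := (.node (.node (.node (.node (.node (.node (.leaf 184759) (.leaf 133712)) (.node (.leaf 48283) (.leaf 50329))) (.node (.node (.leaf 137904) (.leaf 158734)) (.node (.leaf 93649) (.leaf 93642)))) (.node (.node (.node (.leaf 162190) (.leaf 112269)) (.node (.leaf 80690) (.leaf 129998))) (.node (.node (.leaf 251956) (.leaf 84367)) (.node (.leaf 55824) (.leaf 115119))))) (.node (.node (.node (.node (.leaf 40201) (.leaf 181176)) (.node (.leaf 32019) (.leaf 66253))) (.node (.node (.leaf 203849) (.leaf 56365)) (.node (.leaf 51717) (.leaf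 26372)))) (.node (.node (.node (.leaf 140754) (.leaf 68390)) (.node (.leaf 170195) (.leaf 84233))) (.node (.node (.leaf 55943) (.leaf 30739)) (.node (.leaf 54296) (.leaf 35335)))))) (.node (.node (.node (.node (.node (.leaf 71343) (.leaf 49928)) (.node (.leaf 130898) (.leaf 175429))) (.node (.node (.leaf 134098) (.leaf 176199)) (.node (.leaf 77138) (.leaf 51461)))) (.node (.node (.node (.leaf 66979) (.leaf 80408)) (.node (.leaf 30868) (.leaf 35463))) (.node (.node (.leaf 53144) (.leaf 185784)) (.node (.leaf 186295) (.leaf 84529))))) (.node (.node (.node (.node (.leaf 176295) (.leaf 50056)) (.node (.leaf 175525) (.leaf 51589))) (.node (.node (.leaf 132909) (.leaf 66883)) (.node (.leaf 105998) (.leaf 184023)))) (.node (.node (.node (.leaf 250456) (.leaf 243095)) (.node (.leaf 170040) (.leaf 240792))) (.node (.node (.leaf 32148) (.leaf 54680)) (.node (.leaf 186040) (.leaf 53655)))))))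

/-- A suborbit and a mover, part 304. -/
def redCodePart304 : Janko1.Tree ℕ := (.node (.node (.node (.node (.node (.node (.leaf 40329) (.leaf 138160)) (.node (.leaf 77521) (.leaf 203945))) (.node (.node (.leaf 51845) (.leaf 26500)) (.node (.leaf 147153) (.leaf 137368)))) (.node (.node (.node (.leaf 170036) (.leaf 84361)) (.node (.leaf 55815) (.leaf 169271))) (.node (.node (.leaf 234903) (.leaf 205368)) (.node (.leaf 68550) (.leaf 83471))))) (.node (.node (.node (.node (.leaf 30995) (.leaf 30996)) (.node (.leaf 138064) (.leaf 32020))) (.node (.node (.leaf 67790) (.leaf 77361)) (.node (.leaf 77354) (.leaf 124548)))) (.node (.node (.node (.leaf 132100) (.leaf 146993)) (.node (.leaf 146986) (.leaf 100494))) (.node (.node (.leaf 140747) (.leaf 83599)) (.node (.leaf 170196) (.leaf 31507)))))) (.node (.node (.node (.node (.node (.leaf 31508) (.leaf 30740)) (.node (.leaf 130891) (.leaf 63566))) (.node (.node (.leaf 84689) (.leaf 84682)) (.node (.leaf 134091) (.leaf 77131)))) (.node (.node (.node (.leaf 106126) (.leaf 133069)) (.node (.leaf 65347) (.leaf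 35331))) (.node (.node (.leaf 251347) (.leaf 251348)) (.node (.leaf 85552) (.leaf 30867))))) (.node (.node (.node (.node (.leaf 71247) (.leaf 31635)) (.node (.leaf 31636) (.leaf 181335))) (.node (.node (.leaf 54423) (.leaf 84522)) (.node (.leaf 133931) (.leaf 133938)))) (.node (.node (.node (.leaf 130987) (.leaf 130994)) (.node (.leaf 63662) (.leaf 35459))) (.node (.node (.leaf 65443) (.leaf 77227)) (.node (.leaf 77234) (.leaf 231575)))))))

/-- A suborbit and a mover, part 305. -/
def redCodePart305 : Janko1.Tree ℕ := (.node (.node (.node (.node (.node (.node (.leaf 206135) (.leaf 85712)) (.node (.leaf 268471) (.leaf 276183))) (.node (.node (.leaf 251187) (.leaf 251188)) (.node (.leaf 32147) (.leaf 185015)))) (.node (.node (.node (.leaf 180055) (.leaf 31123)) (.node (.leaf 31124) (.leaf 77514))) (.node (.node (.leaf 56525) (.leaf 67630)) (.node (.leaf 66093) (.leaf 100366))))) (.node (.node (.node (.node (.leaf 140587) (.leaf 140594)) (.node (.leaf 132228) (.leaf 124420))) (.node (.node (.leaf 147146) (.leaf 170035)) (.node (.leaf 187095) (.leaf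 210711)))) (.node (.node (.node (.leaf 206903) (.leaf 181719)) (.node (.leaf 53272) (.leaf 28185))) (.node (.node (.leaf 182199) (.leaf 53016)) (.node (.leaf 41225) (.leaf 51738)))))) (.node (.node (.node (.node (.node (.leaf 83146) (.leaf 75054)) (.node (.leaf 130776) (.leaf 199593))) (.node (.node (.leaf 169096) (.leaf 85419)) (.node (.leaf 166281) (.leaf 242967)))) (.node (.node (.node (.leaf 269144) (.leaf 85543)) (.node (.leaf 135961) (.leaf 55064))) (.node (.node (.leaf 40713) (.leaf 49433)) (.node (.leaf 135344) (.leaf 39945))))) (.node (.node (.node (.node (.leaf 181427) (.leaf 45316)) (.node (.leaf 68814) (.leaf 164621))) (.node (.node (.leaf 244104) (.leaf 117262)) (.node (.leaf 152778) (.leaf 126340)))) (.node (.node (.node (.leaf 83590) (.leaf 210836)) (.node (.leaf 53656) (.leaf 40073))) (.node (.node (.leaf 181332) (.leaf 40841)) (.node (.leaf 28313) (.leaf 243976)))))))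

/-- A suborbit and a mover, part 306. -/
def redCodePart306 : Janko1.Tree ℕ := (.node (.node (.node (.node (.node (.node (.leaf 45444) (.leaf 131922)) (.node (.leaf 77016) (.leaf 149272))) (.node (.node (.leaf 129997) (.leaf 126212)) (.node (.leaf 88088) (.leaf 152618)))) (.node (.node (.node (.leaf 121240) (.leaf 183256)) (.node (.leaf 206904) (.leaf 210707))) (.node (.node (.leaf 238104) (.leaf 83462)) (.node (.leaf 85903) (.leaf 41353))))) (.node (.node (.node (.node (.leaf 133968) (.leaf 51867)) (.node (.leaf 54936) (.leaf 50073))) (.node (.node (.leaf 199497) (.leaf 82986)) (.node (.leaf 162189) (.leaf 125144)))) (.node (.node (.node (.leaf 162001) (.leaf 85323)) (.node (.leaf 166153) (.leaf 76856))) (.node (.node (.leaf 168968) (.leaf 75096)) (.node (.leaf 85703) (.leaf 62361)))))) (.node (.node (.node (.node (.node (.leaf 184024) (.leaf 47386)) (.node (.leaf 52763) (.leaf 185175))) (.node (.node (.leaf 53783) (.leaf 47387)) (.node (.leaf 48665) (.leaf 134064)))) (.node (.node (.node (.leaf 162061) (.leaf 83153)) (.node (.leaf 158861)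 (.leaf 130605))) (.node (.node (.leaf 132301) (.leaf 85426)) (.node (.leaf 161841) (.leaf 161834))))) (.node (.node (.node (.node (.leaf 122544) (.leaf 276023)) (.node (.leaf 268375) (.leaf 92624))) (.node (.node (.leaf 128186) (.leaf 60955)) (.node (.leaf 52506) (.leaf 46875)))) (.node (.node (.node (.leaf 181428) (.leaf 75087)) (.node (.leaf 132011) (.leaf 132018))) (.node (.node (.leaf 192132) (.leaf 190212)) (.node (.leaf 152785) (.leaf 131332)))))))

/-- A suborbit and a mover, part 307. -/
def redCodePart307 : Janko1.Tree ℕ := (.node (.node (.node (.node (.node (.node (.leaf 26116) (.leaf 129837)) (.node (.leaf 69935) (.leaf 85775))) (.node (.node (.leaf 210835) (.leaf 138416)) (.node (.leaf 75183) (.leaf 181331)))) (.node (.node (.node (.leaf 135248) (.leaf 47002)) (.node (.leaf 52635) (.leaf 164749))) (.node (.node (.leaf 68654) (.leaf 190340)) (.node (.leaf 192004) (.leaf 131915))))) (.node (.node (.node (.node (.leaf 26244) (.leaf 131460)) (.node (.leaf 152625) (.leaf 117390))) (.node (.node (.leaf 138320) (.leaf 210708)) (.node (.leaf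 70095) (.leaf 28569)))) (.node (.node (.node (.leaf 47514) (.leaf 52890)) (.node (.leaf 47515) (.leaf 75214))) (.node (.node (.leaf 158733) (.leaf 82993)) (.node (.leaf 161994) (.leaf 85330)))))) (.node (.node (.node (.node (.node (.leaf 132141) (.leaf 130765)) (.node (.leaf 61082) (.leaf 128091))) (.node (.node (.leaf 92464) (.leaf 122448)) (.node (.leaf 134320) (.leaf 35591)))) (.node (.node (.node (.leaf 36615) (.leaf 181432)) (.node (.leaf 47130) (.leaf 142001))) (.node (.node (.leaf 170406) (.leaf 134859)) (.node (.leaf 241032) (.leaf 136498))))) (.node (.node (.node (.node (.leaf 169639) (.leaf 151633)) (.node (.leaf 139473) (.leaf 135832))) (.node (.node (.leaf 35587) (.leaf 183975)) (.node (.leaf 98200) (.leaf 59599)))) (.node (.node (.node (.leaf 209555) (.leaf 57801)) (.node (.leaf 62235) (.leaf 183864))) (.node (.node (.leaf 165807) (.leaf 36103)) (.node (.leaf 74575) (.leaf 182200)))))))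

/-- A suborbit and a mover, part 308. -/
def redCodePart308 : Janko1.Tree ℕ := (.node (.node (.node (.node (.node (.node (.leaf 28697) (.leaf 182456)) (.node (.leaf 184407) (.leaf 52250))) (.node (.node (.leaf 45315) (.leaf 123704)) (.node (.leaf 138776) (.leaf 142762)))) (.node (.node (.node (.leaf 59448) (.leaf 206854)) (.node (.leaf 147499) (.leaf 81464))) (.node (.node (.leaf 146225) (.leaf 169864)) (.node (.leaf 140234) (.leaf 61272))))) (.node (.node (.node (.node (.leaf 124880) (.leaf 57488)) (.node (.leaf 69926) (.leaf 274487))) (.node (.node (.leaf 185528) (.leaf 52379)) (.node (.leaf 49049) (.leaf 36231)))) (.node (.node (.node (.leaf 142666) (.leaf 45443)) (.node (.leaf 140074) (.leaf 169736))) (.node (.node (.leaf 147659) (.leaf 206982)) (.node (.leaf 190168) (.leaf 70086)))))) (.node (.node (.node (.node (.node (.leaf 271032) (.leaf 47259)) (.node (.leaf 36743) (.leaf 35719))) (.node (.node (.leaf 186296) (.leaf 65080)) (.node (.leaf 169543) (.leaf 134699)))) (.node (.node (.node (.leaf 240904) (.leaf 170310)) (.node (.leaf 112270)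 (.leaf 134445))) (.node (.node (.leaf 183879) (.leaf 35715)) (.node (.leaf 57641) (.leaf 62362))))) (.node (.node (.node (.node (.leaf 249688) (.leaf 209428)) (.node (.leaf 187096) (.leaf 180403))) (.node (.node (.leaf 180404) (.leaf 75599)) (.node (.leaf 51995) (.leaf 27929)))) (.node (.node (.node (.leaf 141994) (.leaf 134866)) (.node (.leaf 136491) (.leaf 151626))) (.node (.node (.leaf 139466) (.leaf 68515)) (.node (.leaf 63043) (.leaf 134605)))))))

/-- A suborbit and a mover, part 309. -/
def redCodePart309 : Janko1.Tree ℕ := (.node (.node (.node (.node (.node (.node (.leaf 112142) (.leaf 209556)) (.node (.leaf 128185) (.leaf 136730))) (.node (.node (.leaf 47898) (.leaf 51483)) (.node (.leaf 53015) (.leaf 179895)))) (.node (.node (.node (.leaf 47899) (.leaf 50457)) (.node (.leaf 176963) (.leaf 167331))) (.node (.node (.leaf 73646) (.leaf 65485)) (.node (.leaf 142769) (.leaf 136749))))) (.node (.node (.node (.node (.leaf 147506) (.leaf 146218)) (.node (.leaf 140241) (.leaf 270935))) (.node (.node (.leaf 243735) (.leaf 100911)) (.node (.leaf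 28057) (.leaf 48026)))) (.node (.node (.node (.leaf 51610) (.leaf 48027)) (.node (.leaf 74671) (.leaf 142673))) (.node (.node (.leaf 65325) (.leaf 73550)) (.node (.leaf 167235) (.leaf 177059)))))) (.node (.node (.node (.node (.node (.leaf 140081) (.leaf 146385)) (.node (.leaf 146378) (.leaf 147666))) (.node (.node (.leaf 136909) (.leaf 101071)) (.node (.leaf 57360) (.leaf 124720)))) (.node (.node (.node (.leaf 49305) (.leaf 52122)) (.node (.leaf 75695) (.leaf 180307))) (.node (.node (.leaf 180308) (.leaf 134224)) (.node (.leaf 151729) (.leaf 151722))))) (.node (.node (.node (.node (.leaf 136651) (.leaf 136658)) (.node (.leaf 134706) (.leaf 141905))) (.node (.node (.leaf 141898) (.leaf 63139)) (.node (.leaf 68419) (.leaf 139313)))) (.node (.node (.node (.leaf 139306) (.leaf 165711)) (.node (.leaf 136859) (.leaf 59801))) (.node (.node (.leaf 209427) (.leaf 59439)) (.node (.leaf 48921) (.leaf 75855)))))))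

/-- A suborbit and a mover, part 310. -/
def redCodePart310 : Janko1.Tree ℕ := (.node (.node (.node (.node (.node (.node (.leaf 68783) (.leaf 179891)) (.node (.leaf 185687) (.leaf 57656))) (.node (.node (.leaf 176967) (.leaf 246024)) (.node (.leaf 175430) (.leaf 176648)))) (.node (.node (.node (.leaf 62040) (.leaf 79640)) (.node (.leaf 195462) (.leaf 173381))) (.node (.node (.leaf 99375) (.leaf 137167)) (.node (.leaf 180407) (.leaf 47642))))) (.node (.node (.node (.node (.leaf 169637) (.leaf 86488)) (.node (.leaf 203081) (.leaf 167334))) (.node (.node (.leaf 174663) (.leaf 183205)) (.node (.leaf 175113) (.leaf 135064)))) (.node (.node (.node (.leaf 175880) (.leaf 190004)) (.node (.leaf 183863) (.leaf 85647))) (.node (.node (.leaf 123312) (.leaf 183091)) (.node (.leaf 54167) (.leaf 135760)))))) (.node (.node (.node (.node (.node (.leaf 47771) (.leaf 136368)) (.node (.leaf 70991) (.leaf 167238))) (.node (.node (.leaf 128216) (.leaf 203177)) (.node (.leaf 169541) (.leaf 114232)))) (.node (.node (.node (.leaf 176008) (.leaf 75864)) (.node (.leaf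 138136) (.leaf 175241))) (.node (.node (.leaf 183109) (.leaf 174759)) (.node (.leaf 183252) (.leaf 116655))))) (.node (.node (.node (.node (.leaf 190163) (.leaf 115248)) (.node (.leaf 179796) (.leaf 69711))) (.node (.node (.leaf 29337) (.leaf 184503)) (.node (.leaf 175526) (.leaf 246152)))) (.node (.node (.node (.leaf 177063) (.leaf 173477)) (.node (.leaf 195334) (.leaf 89624))) (.node (.node (.leaf 176776) (.leaf 250455)) (.node (.leaf 86736) (.leaf 139856)))))))

/-- A suborbit and a mover, part 311. -/
def redCodePart311 : Janko1.Tree ℕ := (.node (.node (.node (.node (.node (.node (.leaf 51994) (.leaf 48155)) (.node (.leaf 69807) (.leaf 179892))) (.node (.node (.leaf 54807) (.leaf 182455)) (.node (.leaf 137552) (.leaf 183859)))) (.node (.node (.node (.leaf 183860) (.leaf 139952)) (.node (.leaf 86576) (.leaf 67856))) (.node (.node (.leaf 71087) (.leaf 181171)) (.node (.leaf 181172) (.leaf 184663))))) (.node (.node (.node (.node (.leaf 53271) (.leaf 136272)) (.node (.leaf 136528) (.leaf 52507))) (.node (.node (.leaf 29721) (.leaf 135856)) (.node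 (.leaf 115408) (.leaf 190003)))) (.node (.node (.node (.leaf 206295) (.leaf 231447)) (.node (.leaf 116559) (.leaf 57807))) (.node (.node (.leaf 183092) (.leaf 186039)) (.node (.leaf 180567) (.leaf 48793)))))) (.node (.node (.node (.node (.node (.leaf 52634) (.leaf 136624)) (.node (.leaf 181075) (.leaf 181076))) (.node (.node (.leaf 183251) (.leaf 57647)) (.node (.leaf 123216) (.leaf 85519)))) (.node (.node (.node (.leaf 190164) (.leaf 137648)) (.node (.leaf 179795) (.leaf 68687))) (.node (.node (.leaf 75951) (.leaf 48282)) (.node (.leaf 52123) (.leaf 179799))))) (.node (.node (.node (.node (.leaf 53143) (.leaf 67984)) (.node (.leaf 238871) (.leaf 251959))) (.node (.node (.leaf 137007) (.leaf 99535)) (.node (.leaf 184019) (.leaf 184020)))) (.node (.node (.node (.leaf 33290) (.leaf 44806)) (.node (.leaf 110360) (.leaf 150072))) (.node (.node (.leaf 83665) (.leaf 177223)) (.node (.leaf 4151) (.leaf 63685)))))))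

/-- A suborbit and a mover, part 312. -/
def redCodePart312 : Janko1.Tree ℕ := (.node (.node (.node (.node (.node (.node (.leaf 131221) (.leaf 74440)) (.node (.leaf 136919) (.leaf 78089))) (.node (.node (.leaf 175412) (.leaf 95881)) (.node (.leaf 72233) (.leaf 73114)))) (.node (.node (.node (.leaf 44551) (.leaf 106962)) (.node (.leaf 202825) (.leaf 34065))) (.node (.node (.leaf 45574) (.leaf 108312)) (.node (.leaf 165390) (.leaf 50184))))) (.node (.node (.node (.node (.leaf 189956) (.leaf 86232)) (.node (.leaf 3031) (.leaf 104211))) (.node (.node (.leaf 77480) (.leaf 68933)) (.node (.leaf 69463) (.leaf 19611)))) (.node (.node (.node (.leaf 23514) (.leaf 220696)) (.node (.leaf 263895) (.leaf 239640))) (.node (.node (.leaf 236952) (.leaf 45702)) (.node (.leaf 50312) (.leaf 190084)))))) (.node (.node (.node (.node (.node (.leaf 73038) (.leaf 33169)) (.node (.leaf 141624) (.leaf 44679))) (.node (.node (.leaf 69422) (.leaf 65837)) (.node (.leaf 202921) (.leaf 241304)))) (.node (.node (.node (.leaf 19482) (.leaf 23355)) (.node (.leaf 94991) (.leaf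 104340))) (.node (.node (.leaf 77384) (.leaf 69029)) (.node (.leaf 34449) (.leaf 111128))))) (.node (.node (.node (.node (.leaf 134962) (.leaf 177319)) (.node (.leaf 33418) (.leaf 44934))) (.node (.node (.leaf 162446) (.leaf 158477)) (.node (.leaf 136146) (.leaf 242072)))) (.node (.node (.node (.leaf 143952) (.leaf 78217)) (.node (.leaf 175571) (.leaf 95753))) (.node (.node (.leaf 72393) (.leaf 72987)) (.node (.leaf 63525) (.leaf 131094)))))))

/-- A suborbit and a mover, part 313. -/
def redCodePart313 : Janko1.Tree ℕ := (.node (.node (.node (.node (.node (.node (.leaf 74280) (.leaf 33297)) (.node (.leaf 162318) (.leaf 158605))) (.node (.node (.leaf 135979) (.leaf 135986)) (.node (.leaf 34321) (.leaf 34314)))) (.node (.node (.node (.leaf 62797) (.leaf 83658)) (.node (.leaf 135115) (.leaf 135122))) (.node (.node (.leaf 141619) (.leaf 141620)) (.node (.leaf 105495) (.leaf 105943))))) (.node (.node (.node (.node (.leaf 131222) (.leaf 147255)) (.node (.leaf 63895) (.leaf 144048))) (.node (.node (.leaf 105136) (.leaf 175411)) (.node (.leaf 135323)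 (.leaf 75673)))) (.node (.node (.node (.leaf 33041) (.leaf 33034)) (.node (.leaf 106955) (.leaf 69582))) (.node (.node (.leaf 65997) (.leaf 34058)) (.node (.leaf 45572) (.leaf 192644)))))) (.node (.node (.node (.node (.node (.leaf 73134) (.leaf 142519)) (.node (.leaf 142103) (.leaf 104212))) (.node (.node (.leaf 128021) (.leaf 128022)) (.node (.leaf 119607) (.leaf 95127)))) (.node (.node (.node (.leaf 39385) (.leaf 37466)) (.node (.leaf 35643) (.leaf 33049))) (.node (.node (.leaf 235415) (.leaf 266167)) (.node (.leaf 95119) (.leaf 34193))))) (.node (.node (.node (.node (.leaf 34186) (.leaf 165518)) (.node (.leaf 192516) (.leaf 45700))) (.node (.node (.leaf 33162) (.leaf 106795)) (.node (.leaf 106802) (.leaf 37563)))) (.node (.node (.node (.leaf 22681) (.leaf 26649)) (.node (.leaf 35802) (.leaf 104339))) (.node (.node (.leaf 128149) (.leaf 128150)) (.node (.leaf 34442) (.leaf 62893)))))))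

/-- A suborbit and a mover, part 314. -/
def redCodePart314 : Janko1.Tree ℕ := (.node (.node (.node (.node (.node (.node (.leaf 83505) (.leaf 83498)) (.node (.leaf 134955) (.leaf 33425))) (.node (.node (.leaf 136139) (.leaf 105040)) (.node (.leaf 175572) (.leaf 132025)))) (.node (.node (.node (.leaf 135194) (.leaf 141779)) (.node (.leaf 141780) (.leaf 131093))) (.node (.node (.leaf 150328) (.leaf 92970)) (.node (.leaf 77105) (.leaf 245768))))) (.node (.node (.node (.node (.leaf 169127) (.leaf 45830)) (.node (.leaf 240776) (.leaf 140567))) (.node (.node (.leaf 77477) (.leaf 59445)) (.node (.leaf 98871) (.leaf 38746)))) (.node (.node (.node (.leaf 72998) (.leaf 79559)) (.node (.leaf 255831) (.leaf 44550))) (.node (.node (.leaf 147768) (.leaf 58019)) (.node (.leaf 112178) (.leaf 85457)))))) (.node (.node (.node (.node (.node (.leaf 147512) (.leaf 94001)) (.node (.leaf 131147) (.leaf 131762))) (.node (.node (.leaf 138520) (.leaf 169381)) (.node (.leaf 140851) (.leaf 79432)))) (.node (.node (.node (.leaf 60200) (.leaf 81989)) (.node (.leaf 141199)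 (.leaf 78086))) (.node (.node (.leaf 176184) (.leaf 56271)) (.node (.leaf 254260) (.leaf 141880))))) (.node (.node (.node (.node (.leaf 131243) (.leaf 169285)) (.node (.leaf 44678) (.leaf 57923))) (.node (.node (.leaf 127960) (.leaf 254424)) (.node (.leaf 262968) (.leaf 78214)))) (.node (.node (.node (.leaf 254419) (.leaf 150455)) (.node (.leaf 141012) (.leaf 79528))) (.node (.node (.leaf 82085) (.leaf 60360)) (.node (.leaf 45958) (.leaf 141112)))))))

/-- A suborbit and a mover, part 315. -/
def redCodePart315 : Janko1.Tree ℕ := (.node (.node (.node (.node (.node (.node (.leaf 158222) (.leaf 81201)) (.node (.leaf 68142) (.leaf 240648))) (.node (.node (.leaf 140856) (.leaf 73293)) (.node (.leaf 93130) (.leaf 74958)))) (.node (.node (.node (.leaf 169031) (.leaf 245896)) (.node (.leaf 38843) (.leaf 142607))) (.node (.node (.leaf 256696) (.leaf 73158)) (.node (.leaf 265304) (.leaf 79399))))) (.node (.node (.node (.node (.leaf 125647) (.leaf 144407)) (.node (.leaf 77381) (.leaf 59606))) (.node (.node (.leaf 92977) (.leaf 73389)) (.node (.leaf 74798)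 (.leaf 77098)))) (.node (.node (.node (.leaf 81361) (.leaf 81354)) (.node (.leaf 158350) (.leaf 68302))) (.node (.node (.leaf 162573) (.leaf 17623)) (.node (.leaf 141751) (.leaf 59446)))))) (.node (.node (.node (.node (.node (.leaf 64343) (.leaf 88727)) (.node (.leaf 142735) (.leaf 19355))) (.node (.node (.leaf 40409) (.leaf 239639)) (.node (.leaf 253495) (.leaf 125487)))) (.node (.node (.node (.leaf 73283) (.leaf 37635)) (.node (.leaf 112171) (.leaf 164877))) (.node (.node (.leaf 85450) (.leaf 93994)) (.node (.leaf 71597) (.leaf 131154))))) (.node (.node (.node (.node (.leaf 131755) (.leaf 140852)) (.node (.leaf 65171) (.leaf 65172))) (.node (.node (.leaf 97173) (.leaf 97174)) (.node (.leaf 144816) (.leaf 254259)))) (.node (.node (.node (.leaf 71501) (.leaf 94161)) (.node (.leaf 94154) (.leaf 131659))) (.node (.node (.leaf 131666) (.leaf 131250)) (.node (.leaf 112331) (.leaf 112338)))))))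

/-- A suborbit and a mover, part 316. -/
def redCodePart316 : Janko1.Tree ℕ := (.node (.node (.node (.node (.node (.node (.leaf 37763) (.leaf 73379)) (.node (.leaf 85297) (.leaf 85290))) (.node (.node (.leaf 165005) (.leaf 141071)) (.node (.leaf 144720) (.leaf 254420)))) (.node (.node (.node (.leaf 56111) (.leaf 142871)) (.node (.leaf 36183) (.leaf 141011))) (.node (.node (.leaf 97045) (.leaf 97046)) (.node (.leaf 65043) (.leaf 65044))))) (.node (.node (.node (.node (.leaf 81194) (.leaf 162701)) (.node (.leaf 93137) (.leaf 77265))) (.node (.node (.leaf 77258) (.leaf 22937)) (.node (.leaf 19226) (.leaf 34903)))) (.node (.node (.node (.leaf 151735) (.leaf 59605)) (.node (.leaf 158606) (.leaf 44807))) (.node (.node (.leaf 37891) (.leaf 151370)) (.node (.leaf 131032) (.leaf 45831)))))) (.node (.node (.node (.node (.node (.leaf 113970) (.leaf 109848)) (.node (.leaf 58168) (.leaf 59429))) (.node (.node (.leaf 58408) (.leaf 67157)) (.node (.leaf 56485) (.leaf 60435)))) (.node (.node (.node (.leaf 109487) (.leaf 33305)) (.node (.leaf 70407) (.leaf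 176951))) (.node (.node (.leaf 108824) (.leaf 71853)) (.node (.leaf 166310) (.leaf 243592))))) (.node (.node (.node (.node (.leaf 45575) (.leaf 73539)) (.node (.leaf 167075) (.leaf 103959))) (.node (.node (.leaf 63688) (.leaf 77911)) (.node (.leaf 104368) (.leaf 265400)))) (.node (.node (.node (.leaf 45703) (.leaf 73635)) (.node (.leaf 118808) (.leaf 166979))) (.node (.node (.leaf 64430) (.leaf 77272)) (.node (.leaf 119320) (.leaf 79921)))))))

/-- A suborbit and a mover, part 317. -/
def redCodePart317 : Janko1.Tree ℕ := (.node (.node (.node (.node (.node (.node (.leaf 133682) (.leaf 243464)) (.node (.leaf 142161) (.leaf 166214))) (.node (.node (.leaf 198616) (.leaf 255928)) (.node (.leaf 121167) (.leaf 119511)))) (.node (.node (.node (.leaf 63528) (.leaf 93393)) (.node (.leaf 45959) (.leaf 141649))) (.node (.node (.leaf 66349) (.leaf 44935)) (.node (.leaf 38019) (.leaf 111384))))) (.node (.node (.node (.node (.leaf 151466) (.leaf 26905)) (.node (.leaf 263736) (.leaf 178488))) (.node (.node (.leaf 159663) (.leaf 70535)) (.node (.leaf 41271)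 (.leaf 59589)))) (.node (.node (.node (.leaf 56389) (.leaf 60564)) (.node (.leaf 58568) (.leaf 67254))) (.node (.node (.leaf 60067) (.leaf 71747)) (.node (.leaf 151377) (.leaf 56621)))))) (.node (.node (.node (.node (.node (.leaf 113963) (.leaf 93233)) (.node (.leaf 93226) (.leaf 66509))) (.node (.node (.leaf 141745) (.leaf 141738)) (.node (.leaf 105747) (.leaf 105748)))) (.node (.node (.node (.leaf 67158) (.leaf 60436)) (.node (.leaf 24538) (.leaf 34619))) (.node (.node (.leaf 194007) (.leaf 219159)) (.node (.leaf 159567) (.leaf 80081))))) (.node (.node (.node (.node (.leaf 80074) (.leaf 142257)) (.node (.leaf 142250) (.leaf 133835))) (.node (.node (.leaf 133842) (.leaf 156814)) (.node (.leaf 38659) (.leaf 57763)))) (.node (.node (.node (.leaf 64334) (.leaf 45571)) (.node (.leaf 177219) (.leaf 105175))) (.node (.node (.leaf 18231) (.leaf 159671)) (.node (.leaf 130071) (.leaf 64725)))))))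

/-- A suborbit and a mover, part 318. -/
def redCodePart318 : Janko1.Tree ℕ := (.node (.node (.node (.node (.node (.node (.leaf 64726) (.leaf 108719)) (.node (.leaf 121263) (.leaf 192211))) (.node (.node (.leaf 192212) (.leaf 57667)) (.node (.leaf 38787) (.leaf 156686)))) (.node (.node (.node (.leaf 177315) (.leaf 45699)) (.node (.leaf 79914) (.leaf 71757))) (.node (.node (.leaf 133675) (.leaf 142154)) (.node (.leaf 108623) (.leaf 104272))))) (.node (.node (.node (.node (.leaf 192051) (.leaf 192052)) (.node (.leaf 39735) (.leaf 110103))) (.node (.node (.leaf 64565) (.leaf 64566)) (.node (.leaf 93386) (.leaf 114123)))) (.node (.node (.node (.leaf 114130) (.leaf 141642)) (.node (.leaf 71843) (.leaf 59971))) (.node (.node (.leaf 158478) (.leaf 56781)) (.node (.leaf 151473) (.leaf 34778)))))) (.node (.node (.node (.node (.node (.leaf 24379) (.leaf 109391)) (.node (.leaf 105875) (.leaf 105876))) (.node (.node (.leaf 108567) (.leaf 118231)) (.node (.leaf 60563) (.leaf 67253)))) (.node (.node (.node (.leaf 62541) (.leaf 80842)) (.node (.leaf 113195)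 (.leaf 106187))) (.node (.node (.leaf 175174) (.leaf 199081)) (.node (.leaf 106450) (.leaf 59555))))) (.node (.node (.node (.node (.leaf 73133) (.leaf 204105)) (.node (.leaf 170150) (.leaf 81992))) (.node (.node (.leaf 76712) (.leaf 89363)) (.node (.leaf 120085) (.leaf 89127)))) (.node (.node (.node (.leaf 219160) (.leaf 73113)) (.node (.leaf 59960) (.leaf 175943))) (.node (.node (.leaf 80593) (.leaf 175685)) (.node (.leaf 124216) (.leaf 64709)))))))

/-- A suborbit and a mover, part 319. -/
def redCodePart319 : Janko1.Tree ℕ := (.node (.node (.node (.node (.node (.node (.leaf 58405) (.leaf 77321)) (.node (.leaf 72230) (.leaf 90151))) (.node (.node (.leaf 67344) (.leaf 133168)) (.node (.leaf 107058) (.leaf 112850)))) (.node (.node (.node (.leaf 65197) (.leaf 112952)) (.node (.leaf 149528) (.leaf 175781))) (.node (.node (.leaf 156942) (.leaf 93905)) (.node (.leaf 176039) (.leaf 90311))))) (.node (.node (.node (.node (.leaf 72390) (.leaf 77449)) (.node (.leaf 202455) (.leaf 58565))) (.node (.node (.leaf 64549) (.leaf 80023)) (.node (.leaf 55959)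 (.leaf 59459)))) (.node (.node (.node (.leaf 170054) (.leaf 124632)) (.node (.leaf 204201) (.leaf 106027))) (.node (.node (.leaf 113355) (.leaf 80682)) (.node (.leaf 198985) (.leaf 64824)))))) (.node (.node (.node (.node (.node (.leaf 175270) (.leaf 253656)) (.node (.leaf 202456) (.leaf 89287))) (.node (.node (.leaf 134425) (.leaf 76616)) (.node (.leaf 82088) (.leaf 120214)))) (.node (.node (.node (.leaf 84375) (.leaf 89492)) (.node (.leaf 132375) (.leaf 80849))) (.node (.node (.leaf 113202) (.leaf 106194)) (.node (.leaf 106443) (.leaf 72003))))) (.node (.node (.node (.node (.leaf 38915) (.leaf 162574)) (.node (.leaf 89364) (.leaf 120086))) (.node (.node (.leaf 74138) (.leaf 131931)) (.node (.leaf 90160) (.leaf 61840)))) (.node (.node (.node (.leaf 164878) (.leaf 93745)) (.node (.leaf 93738) (.leaf 157070))) (.node (.node (.leaf 64845) (.leaf 65101)) (.node (.leaf 80586) (.leaf 112683)))))))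

/-- A suborbit and a mover, part 320. -/
def redCodePart320 : Janko1.Tree ℕ := (.node (.node (.node (.node (.node (.node (.leaf 112690) (.leaf 107211)) (.node (.leaf 107218) (.leaf 55733))) (.node (.node (.leaf 55734) (.leaf 84371)) (.node (.leaf 84372) (.leaf 96816)))) (.node (.node (.node (.leaf 107051) (.leaf 112843)) (.node (.leaf 80433) (.leaf 80426))) (.node (.node (.leaf 64941) (.leaf 93898)) (.node (.leaf 165006) (.leaf 133328))))) (.node (.node (.node (.node (.leaf 96976) (.leaf 67472)) (.node (.leaf 227863) (.leaf 177719))) (.node (.node (.leaf 116535) (.leaf 72791)) (.node (.leaf 126167) (.leaf 140343)))) (.node (.node (.node (.leaf 84243) (.leaf 84244)) (.node (.leaf 55637) (.leaf 55638))) (.node (.node (.leaf 162702) (.leaf 73037)) (.node (.leaf 39043) (.leaf 72099)))))) (.node (.node (.node (.node (.node (.leaf 106283) (.leaf 106290)) (.node (.leaf 106034) (.leaf 113362))) (.node (.node (.leaf 80689) (.leaf 62637)) (.node (.leaf 61712) (.leaf 90320)))) (.node (.node (.node (.leaf 132026) (.leaf 74011)) (.node (.leaf 120213) (.leaf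 61015))) (.node (.node (.leaf 101175) (.leaf 89491)) (.node (.leaf 86359) (.leaf 152759))))) (.node (.node (.node (.node (.leaf 49416) (.leaf 44804)) (.node (.leaf 85720) (.leaf 162317))) (.node (.node (.leaf 141482) (.leaf 175686)) (.node (.leaf 50440) (.leaf 65102)))) (.node (.node (.node (.leaf 176453) (.leaf 19468)) (.node (.leaf 68116) (.leaf 124950))) (.node (.node (.leaf 61224) (.leaf 62408)) (.node (.leaf 56502) (.leaf 226455)))))))

/-- A suborbit and a mover, part 321. -/
def redCodePart321 : Janko1.Tree ℕ := (.node (.node (.node (.node (.node (.node (.leaf 202296) (.leaf 194008)) (.node (.leaf 265399) (.leaf 76550))) (.node (.node (.leaf 76330) (.leaf 49160)) (.node (.leaf 131499) (.leaf 176707)))) (.node (.node (.node (.leaf 142513) (.leaf 137010)) (.node (.leaf 129686) (.leaf 78245))) (.node (.node (.leaf 55717) (.leaf 120854)) (.node (.leaf 80404) (.leaf 202295))))) (.node (.node (.node (.node (.leaf 179416) (.leaf 256600)) (.node (.leaf 165517) (.leaf 49288))) (.node (.node (.leaf 131403) (.leaf 176803)) (.node (.leaf 113720)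 (.leaf 76490)))) (.node (.node (.node (.leaf 57549) (.leaf 146864)) (.node (.leaf 266072) (.leaf 179256))) (.node (.node (.leaf 80531) (.leaf 129557)) (.node (.leaf 78149) (.leaf 55621)))))) (.node (.node (.node (.node (.node (.leaf 120981) (.leaf 50568)) (.node (.leaf 129714) (.leaf 176549))) (.node (.node (.leaf 151985) (.leaf 175782)) (.node (.leaf 141386) (.leaf 49544)))) (.node (.node (.node (.leaf 44932) (.leaf 76678)) (.node (.leaf 226327) (.leaf 71631))) (.node (.node (.leaf 125077) (.leaf 61384)) (.node (.leaf 62248) (.leaf 56405))))) (.node (.node (.node (.node (.leaf 19596) (.leaf 68243)) (.node (.leaf 193668) (.leaf 186628))) (.node (.node (.leaf 72622) (.leaf 141489)) (.node (.leaf 74542) (.leaf 151889)))) (.node (.node (.node (.leaf 151882) (.leaf 129611)) (.node (.leaf 129618) (.leaf 68115))) (.node (.node (.leaf 124949) (.leaf 56501)) (.node (.leaf 201015) (.leaf 179415)))))))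

/-- A suborbit and a mover, part 322. -/
def redCodePart322 : Janko1.Tree ℕ := (.node (.node (.node (.node (.node (.node (.leaf 71471) (.leaf 264663)) (.node (.leaf 236183) (.leaf 76337))) (.node (.node (.leaf 57389) (.leaf 131506)) (.node (.leaf 166307) (.leaf 44547)))) (.node (.node (.node (.leaf 165389) (.leaf 142506)) (.node (.leaf 156813) (.leaf 137003))) (.node (.node (.leaf 129685) (.leaf 120853)) (.node (.leaf 19212) (.leaf 80403))))) (.node (.node (.node (.node (.leaf 176947) (.leaf 176948)) (.node (.leaf 177879) (.leaf 227991))) (.node (.node (.leaf 146768) (.leaf 156685)) (.node (.leaf 137163) (.leaf 137170)))) (.node (.node (.node (.leaf 142417) (.leaf 142410)) (.node (.leaf 131410) (.leaf 44675))) (.node (.node (.leaf 166211) (.leaf 76497)) (.node (.leaf 177107) (.leaf 177108)))))) (.node (.node (.node (.node (.node (.leaf 19340) (.leaf 80532)) (.node (.leaf 129558) (.leaf 120982))) (.node (.node (.leaf 129707) (.leaf 65198)) (.node (.leaf 74702) (.leaf 151978)))) (.node (.node (.node (.leaf 162445) (.leaf 141393)) (.node (.leaf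 186756) (.leaf 193540))) (.node (.node (.leaf 72526) (.leaf 179255)) (.node (.leaf 201175) (.leaf 125078))))) (.node (.node (.node (.node (.leaf 56406) (.leaf 68244)) (.node (.leaf 129106) (.leaf 139032))) (.node (.node (.leaf 166309) (.leaf 68046)) (.node (.leaf 57912) (.leaf 169894)))) (.node (.node (.node (.leaf 76842) (.leaf 158349)) (.node (.leaf 133291) (.leaf 194180))) (.node (.node (.leaf 82757) (.leaf 85908)) (.node (.leaf 130839) (.leaf 178648)))))))

/-- A suborbit and a mover, part 323. -/
def redCodePart323 : Janko1.Tree ℕ := (.node (.node (.node (.node (.node (.node (.leaf 176952) (.leaf 241176)) (.node (.leaf 157069) (.leaf 129496))) (.node (.node (.leaf 199849) (.leaf 191620)) (.node (.leaf 123960) (.leaf 85706)))) (.node (.node (.node (.leaf 60472) (.leaf 167078)) (.node (.leaf 73774) (.leaf 244744))) (.node (.node (.leaf 170151) (.leaf 75208)) (.node (.leaf 58900) (.leaf 95113))))) (.node (.node (.node (.node (.leaf 82119) (.leaf 161103)) (.node (.leaf 59792) (.leaf 198456))) (.node (.node (.leaf 76241) (.leaf 170055)) (.node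 (.leaf 244872) (.leaf 85546)))) (.node (.node (.node (.leaf 166982) (.leaf 130738)) (.node (.leaf 191492) (.leaf 199753))) (.node (.node (.leaf 82736) (.leaf 81959)) (.node (.leaf 94985) (.leaf 75048)))))) (.node (.node (.node (.node (.node (.leaf 99639) (.leaf 59027)) (.node (.leaf 194052) (.leaf 133195))) (.node (.node (.leaf 78040) (.leaf 148760)) (.node (.leaf 77002) (.leaf 64568)))) (.node (.node (.node (.leaf 83249) (.leaf 169798)) (.node (.leaf 132946) (.leaf 166213))) (.node (.node (.leaf 123951) (.leaf 82853)) (.node (.leaf 85779) (.leaf 129099))))) (.node (.node (.node (.node (.leaf 133035) (.leaf 133042)) (.node (.leaf 83409) (.leaf 83402))) (.node (.node (.leaf 76849) (.leaf 133298)) (.node (.leaf 186884) (.leaf 45828)))) (.node (.node (.node (.leaf 135701) (.leaf 135702)) (.node (.leaf 85907) (.leaf 76375))) (.node (.node (.leaf 161207) (.leaf 124111)) (.node (.leaf 178643) (.leaf 178644)))))))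

/-- A suborbit and a mover, part 324. -/
def redCodePart324 : Janko1.Tree ℕ := (.node (.node (.node (.node (.node (.node (.leaf 70416) (.leaf 122031)) (.node (.leaf 74030) (.leaf 189700))) (.node (.node (.leaf 44548) (.leaf 130635)) (.node (.leaf 130642) (.leaf 85713)))) (.node (.node (.node (.leaf 69838) (.leaf 76081)) (.node (.leaf 76074) (.leaf 58899))) (.node (.node (.leaf 59980) (.leaf 88211)) (.node (.leaf 88212) (.leaf 219923))))) (.node (.node (.node (.node (.leaf 219924) (.leaf 82896)) (.node (.leaf 76234) (.leaf 73934))) (.node (.node (.leaf 69678) (.leaf 85553)) (.node (.leaf 130731) (.leaf 44676)))) (.node (.node (.node (.leaf 189828) (.leaf 74190)) (.node (.leaf 156941) (.leaf 220051))) (.node (.node (.leaf 220052) (.leaf 59664)) (.node (.leaf 161199) (.leaf 88083)))))) (.node (.node (.node (.node (.node (.leaf 88084) (.leaf 60076)) (.node (.leaf 85911) (.leaf 61783))) (.node (.node (.leaf 59028) (.leaf 45956)) (.node (.leaf 187012) (.leaf 133202)))) (.node (.node (.node (.leaf 158221) (.leaf 77009)) (.node (.leaf 67886) (.leaf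 83242))) (.node (.node (.leaf 132939) (.leaf 129195)) (.node (.leaf 129202) (.leaf 121935))))) (.node (.node (.node (.node (.leaf 70544) (.leaf 178483)) (.node (.leaf 178484) (.leaf 85780))) (.node (.node (.leaf 135829) (.leaf 135830)) (.node (.leaf 44803) (.leaf 134610)))) (.node (.node (.node (.leaf 199337) (.leaf 136235)) (.node (.leaf 246280) (.leaf 175683))) (.node (.node (.leaf 122680) (.leaf 72366)) (.node (.leaf 139288) (.leaf 62099)))))))

/-- A suborbit and a mover, part 325. -/
def redCodePart325 : Janko1.Tree ℕ := (.node (.node (.node (.node (.node (.node (.leaf 57932) (.leaf 67141)) (.node (.leaf 64404) (.leaf 57030))) (.node (.node (.leaf 77327) (.leaf 257368)) (.node (.leaf 220692) (.leaf 266936)))) (.node (.node (.node (.leaf 235416) (.leaf 136747)) (.node (.leaf 169895) (.leaf 73390))) (.node (.node (.leaf 169125) (.leaf 64078)) (.node (.leaf 134347) (.leaf 65741))))) (.node (.node (.node (.node (.leaf 150865) (.leaf 56877)) (.node (.leaf 129752) (.leaf 62807))) (.node (.node (.leaf 57640) (.leaf 91156)) (.node (.leaf 134165)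 (.leaf 71465)))) (.node (.node (.node (.leaf 126511) (.leaf 67335)) (.node (.leaf 87856) (.leaf 192216))) (.node (.node (.leaf 179411) (.leaf 56262)) (.node (.leaf 99408) (.leaf 127704)))))) (.node (.node (.node (.node (.node (.leaf 134187) (.leaf 149016)) (.node (.leaf 169029) (.leaf 150193))) (.node (.node (.leaf 62520) (.leaf 136907)) (.node (.leaf 169799) (.leaf 56102)))) (.node (.node (.node (.leaf 179252) (.leaf 67463)) (.node (.leaf 71625) (.leaf 134294))) (.node (.node (.leaf 57800) (.leaf 91283)) (.node (.leaf 175779) (.leaf 136395))))) (.node (.node (.node (.node (.leaf 246408) (.leaf 56269)) (.node (.leaf 199241) (.leaf 124888))) (.node (.node (.leaf 44931) (.leaf 78296)) (.node (.leaf 56879) (.leaf 98512)))) (.node (.node (.node (.leaf 220819) (.leaf 56870)) (.node (.leaf 67237) (.leaf 64275))) (.node (.node (.leaf 125399) (.leaf 58028)) (.node (.leaf 61972) (.leaf 64846)))))))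

/-- A suborbit and a mover, part 326. -/
def redCodePart326 : Janko1.Tree ℕ := (.node (.node (.node (.node (.node (.node (.leaf 175171) (.leaf 169891)) (.node (.leaf 134603) (.leaf 66765))) (.node (.node (.leaf 56109) (.leaf 136242)) (.node (.leaf 170147) (.leaf 45827)))) (.node (.node (.node (.leaf 62100) (.leaf 64403)) (.node (.leaf 220691) (.leaf 98352))) (.node (.node (.leaf 57039) (.leaf 136754)) (.node (.leaf 150097) (.leaf 150090))))) (.node (.node (.node (.node (.leaf 134354) (.leaf 150858)) (.node (.leaf 87703) (.leaf 97335))) (.node (.node (.leaf 91155) (.leaf 134166)) (.node (.leaf 179412) (.leaf 57037)))) (.node (.node (.node (.leaf 150961) (.leaf 150954)) (.node (.leaf 65581) (.leaf 134194))) (.node (.node (.leaf 64174) (.leaf 73294)) (.node (.leaf 150186) (.leaf 136914)))))) (.node (.node (.node (.node (.node (.leaf 99504) (.leaf 179251)) (.node (.leaf 88016) (.leaf 126671))) (.node (.node (.leaf 134293) (.leaf 91284)) (.node (.leaf 72270) (.leaf 45955)))) (.node (.node (.node (.leaf 170051) (.leaf 136402)) (.node (.leaf 66605)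 (.leaf 134443))) (.node (.node (.leaf 134450) (.leaf 169795)) (.node (.leaf 175267) (.leaf 64942))))) (.node (.node (.node (.node (.leaf 220820) (.leaf 77455)) (.node (.leaf 64276) (.leaf 139575))) (.node (.node (.leaf 57495) (.leaf 61971)) (.node (.leaf 175941) (.leaf 122424)))) (.node (.node (.node (.leaf 176711) (.leaf 240008)) (.node (.leaf 203593) (.leaf 131288))) (.node (.node (.leaf 169383) (.leaf 167077)) (.node (.leaf 84696) (.leaf 89748)))))))

/-- A suborbit and a mover, part 327. -/
def redCodePart327 : Janko1.Tree ℕ := (.node (.node (.node (.node (.node (.node (.leaf 79635) (.leaf 63702)) (.node (.leaf 97942) (.leaf 95895))) (.node (.node (.leaf 82128) (.leaf 145232)) (.node (.leaf 194004) (.leaf 253491)))) (.node (.node (.node (.leaf 244232) (.leaf 176710)) (.node (.leaf 86744) (.leaf 138264))) (.node (.node (.leaf 175173) (.leaf 176455)) (.node (.leaf 243848) (.leaf 203337))))) (.node (.node (.node (.node (.leaf 177222) (.leaf 200105)) (.node (.leaf 146487) (.leaf 58422))) (.node (.node (.leaf 68950) (.leaf 60308)) (.node (.leaf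 128917) (.leaf 134555)))) (.node (.node (.node (.leaf 241943) (.leaf 192215)) (.node (.leaf 74906) (.leaf 73007))) (.node (.node (.leaf 122575) (.leaf 200009)) (.node (.leaf 62264) (.leaf 177318)))))) (.node (.node (.node (.node (.node (.leaf 203433) (.leaf 243720)) (.node (.leaf 176551) (.leaf 175269))) (.node (.node (.leaf 77528) (.leaf 176806)) (.node (.leaf 244360) (.leaf 265303)))) (.node (.node (.node (.leaf 74779) (.leaf 134426)) (.node (.leaf 128790) (.leaf 60179))) (.node (.node (.leaf 154295) (.leaf 69045)) (.node (.leaf 58581) (.leaf 166981))))) (.node (.node (.node (.node (.leaf 118328) (.leaf 169287)) (.node (.leaf 203689) (.leaf 239880))) (.node (.node (.leaf 176807) (.leaf 119096)) (.node (.leaf 148248) (.leaf 176037)))) (.node (.node (.node (.leaf 253652) (.leaf 193843)) (.node (.leaf 236823) (.leaf 97813))) (.node (.node (.leaf 63541) (.leaf 111927)) (.node (.leaf 79764) (.leaf 89619)))))))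

/-- A suborbit and a mover, part 328. -/
def redCodePart328 : Janko1.Tree ℕ := (.node (.node (.node (.node (.node (.node (.leaf 125845) (.leaf 125846)) (.node (.leaf 89747) (.leaf 79636))) (.node (.node (.leaf 63701) (.leaf 97941)) (.node (.leaf 70999) (.leaf 114231)))) (.node (.node (.node (.leaf 100176) (.leaf 131632)) (.node (.leaf 194003) (.leaf 253492))) (.node (.node (.leaf 95887) (.leaf 66711)) (.node (.leaf 136151) (.leaf 58421))))) (.node (.node (.node (.node (.leaf 68949) (.leaf 71187)) (.node (.leaf 71188) (.leaf 60307))) (.node (.node (.leaf 128918) (.leaf 74137)) (.node (.leaf 71578) (.leaf 254263)))) (.node (.node (.node (.leaf 257367) (.leaf 220695)) (.node (.leaf 176183) (.leaf 133467))) (.node (.node (.leaf 71577) (.leaf 76559)) (.node (.leaf 236055) (.leaf 264503)))))) (.node (.node (.node (.node (.node (.leaf 76687) (.leaf 122415)) (.node (.leaf 73167) (.leaf 133657))) (.node (.node (.leaf 133562) (.leaf 71451)) (.node (.leaf 133561) (.leaf 128789)))) (.node (.node (.node (.leaf 60180) (.leaf 71315)) (.node (.leaf 71316)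 (.leaf 133143))) (.node (.node (.leaf 83287) (.leaf 69046)) (.node (.leaf 58582) (.leaf 95759))))) (.node (.node (.node (.node (.leaf 253651) (.leaf 193844)) (.node (.leaf 131792) (.leaf 145328))) (.node (.node (.leaf 81968) (.leaf 100272)) (.node (.leaf 262967) (.leaf 266839)))) (.node (.node (.node (.leaf 97814) (.leaf 63542)) (.node (.leaf 72023) (.leaf 78743))) (.node (.node (.leaf 79763) (.leaf 89620)) (.node (.leaf 125717) (.leaf 125718)))))))

/-- A suborbit and a mover, part 329. -/
def redCodePart329 : Janko1.Tree ℕ := (.node (.node (.node (.node (.node (.node (.leaf 34322) (.leaf 110040)) (.node (.leaf 85682) (.leaf 135117))) (.node (.node (.leaf 195206) (.leaf 142223)) (.node (.leaf 89639) (.leaf 264919)))) (.node (.node (.node (.leaf 176696) (.leaf 267192)) (.node (.leaf 131376) (.leaf 34616))) (.node (.node (.leaf 51974) (.leaf 51973)) (.node (.leaf 132813) (.leaf 63811))))) (.node (.node (.node (.node (.leaf 79128) (.leaf 141495)) (.node (.leaf 105492) (.leaf 76456))) (.node (.node (.leaf 45577) (.leaf 98577)) (.node (.leaf 52485)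 (.leaf 131844)))) (.node (.node (.node (.leaf 146474) (.leaf 145072)) (.node (.leaf 77065) (.leaf 178135))) (.node (.node (.leaf 198712) (.leaf 191704)) (.node (.leaf 33803) (.leaf 109784)))))) (.node (.node (.node (.node (.node (.leaf 129326) (.leaf 152529)) (.node (.leaf 175369) (.leaf 129429))) (.node (.node (.leaf 58152) (.leaf 33931)) (.node (.leaf 35256) (.leaf 147922)))) (.node (.node (.node (.leaf 175497) (.leaf 143383)) (.node (.leaf 39479) (.leaf 129302))) (.node (.node (.leaf 58312) (.leaf 132887)) (.node (.leaf 34194) (.leaf 45705))))) (.node (.node (.node (.node (.leaf 105944) (.leaf 52613)) (.node (.leaf 131972) (.leaf 146634))) (.node (.node (.leaf 137624) (.leaf 241816)) (.node (.leaf 104016) (.leaf 77193)))) (.node (.node (.node (.leaf 33682) (.leaf 52102)) (.node (.leaf 52101) (.leaf 63907))) (.node (.node (.leaf 105619) (.leaf 76360)) (.node (.leaf 35512) (.leaf 130510)))))))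

/-- A suborbit and a mover, part 330. -/
def redCodePart330 : Janko1.Tree ℕ := (.node (.node (.node (.node (.node (.node (.leaf 195078) (.leaf 242584)) (.node (.leaf 89799) (.leaf 34315))) (.node (.node (.leaf 130350) (.leaf 85675)) (.node (.leaf 109231) (.leaf 236439)))) (.node (.node (.node (.leaf 265655) (.leaf 33547)) (.node (.leaf 33554) (.leaf 108173))) (.node (.node (.leaf 35843) (.leaf 69027)) (.node (.leaf 140823) (.leaf 17367))))) (.node (.node (.node (.node (.leaf 105491) (.leaf 19724)) (.node (.leaf 79123) (.leaf 79124))) (.node (.node (.leaf 34059) (.leaf 34066)) (.node (.leaf 98570) (.leaf 27140)))) (.node (.node (.node (.leaf 127108) (.leaf 146481)) (.node (.leaf 104112) (.leaf 227735))) (.node (.node (.leaf 202551) (.leaf 73263)) (.node (.leaf 33810) (.leaf 152522)))))) (.node (.node (.node (.node (.node (.leaf 147755) (.leaf 147762)) (.node (.leaf 129430) (.leaf 33938))) (.node (.node (.leaf 129486) (.leaf 152369)) (.node (.leaf 152362) (.leaf 147915)))) (.node (.node (.node (.leaf 35415) (.leaf 150967)) (.node (.leaf 110359)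 (.leaf 118999))) (.node (.node (.leaf 129301) (.leaf 83031)) (.node (.leaf 153783) (.leaf 34187))))) (.node (.node (.node (.node (.leaf 98705) (.leaf 98698)) (.node (.leaf 126980) (.leaf 27268))) (.node (.node (.leaf 146641) (.leaf 144976)) (.node (.leaf 73423) (.leaf 33675)))) (.node (.node (.node (.leaf 108045) (.leaf 132653)) (.node (.leaf 68931) (.leaf 35971))) (.node (.node (.leaf 105620) (.leaf 19852)) (.node (.leaf 79251) (.leaf 79252)))))))

/-- A suborbit and a mover, part 331. -/
def redCodePart331 : Janko1.Tree ℕ := (.node (.node (.node (.node (.node (.node (.leaf 34443) (.leaf 34450)) (.node (.leaf 85579) (.leaf 85586))) (.node (.node (.leaf 134957) (.leaf 142095)) (.node (.leaf 109135) (.leaf 131536)))) (.node (.node (.node (.leaf 34872) (.leaf 45833)) (.node (.leaf 81362) (.leaf 161585))) (.node (.node (.leaf 100238) (.leaf 172869)) (.node (.leaf 184231) (.leaf 20123))))) (.node (.node (.node (.node (.leaf 241688) (.leaf 76294)) (.node (.leaf 45065) (.leaf 173892))) (.node (.node (.leaf 132356) (.leaf 130861)) (.node (.leaf 141876)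 (.leaf 81480)))) (.node (.node (.node (.leaf 88723) (.leaf 35896)) (.node (.leaf 132558) (.leaf 130349))) (.node (.node (.leaf 133325) (.leaf 170120)) (.node (.leaf 39641) (.leaf 72486)))))) (.node (.node (.node (.node (.node (.leaf 179672) (.leaf 179668)) (.node (.leaf 35640) (.leaf 45321))) (.node (.node (.leaf 80331) (.leaf 114826)) (.node (.leaf 77387) (.leaf 81720)))) (.node (.node (.node (.leaf 142359) (.leaf 58917)) (.node (.leaf 77989) (.leaf 74952))) (.node (.node (.leaf 90643) (.leaf 68437)) (.node (.leaf 45449) (.leaf 114698))))) (.node (.node (.node (.node (.leaf 80171) (.leaf 77483)) (.node (.leaf 59077) (.leaf 74792))) (.node (.node (.leaf 77893) (.leaf 68534)) (.node (.leaf 90772) (.leaf 34744)))) (.node (.node (.node (.leaf 94162) (.leaf 169992)) (.node (.leaf 75352) (.leaf 22425))) (.node (.node (.leaf 256184) (.leaf 72646)) (.node (.leaf 179507) (.leaf 36536)))))))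

/-- A suborbit and a mover, part 332. -/
def redCodePart332 : Janko1.Tree ℕ := (.node (.node (.node (.node (.node (.node (.leaf 45193) (.leaf 112525)) (.node (.leaf 173988) (.leaf 132484))) (.node (.node (.leaf 88600) (.leaf 34647)) (.node (.leaf 142035) (.leaf 81576)))) (.node (.node (.node (.leaf 88596) (.leaf 45961)) (.node (.leaf 115217) (.leaf 184135))) (.node (.node (.leaf 172965) (.leaf 19994)) (.node (.leaf 202712) (.leaf 76422))))) (.node (.node (.node (.node (.leaf 81355) (.leaf 115345)) (.node (.leaf 115338) (.leaf 161578))) (.node (.node (.leaf 40665) (.leaf 38490)) (.node (.leaf 144304) (.leaf 193747)))) (.node (.node (.node (.leaf 193748) (.leaf 98864)) (.node (.leaf 51972) (.leaf 180900))) (.node (.node (.leaf 112397) (.leaf 26628)) (.node (.leaf 125060) (.leaf 141875)))))) (.node (.node (.node (.node (.node (.leaf 57676) (.leaf 88724)) (.node (.leaf 93995) (.leaf 94002))) (.node (.node (.leaf 140687) (.leaf 37210)) (.node (.leaf 19867) (.leaf 122319)))) (.node (.node (.node (.leaf 179667) (.leaf 80338)) (.node (.leaf 114833)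 (.leaf 77394))) (.node (.node (.leaf 117006) (.leaf 2903)) (.node (.leaf 142263) (.leaf 141107))))) (.node (.node (.node (.node (.leaf 141108) (.leaf 90644)) (.node (.leaf 68438) (.leaf 114705))) (.node (.node (.leaf 80178) (.leaf 117134)) (.node (.leaf 77490) (.leaf 141267)))) (.node (.node (.node (.leaf 141268) (.leaf 68533)) (.node (.leaf 90771) (.leaf 132398))) (.node (.node (.leaf 94155) (.leaf 133165)) (.node (.leaf 130509) (.leaf 19738)))))))

/-- A suborbit and a mover, part 333. -/
def redCodePart333 : Janko1.Tree ℕ := (.node (.node (.node (.node (.node (.node (.leaf 37307) (.leaf 140559)) (.node (.leaf 179508) (.leaf 122159))) (.node (.node (.leaf 180804) (.leaf 52100)) (.node (.leaf 131021) (.leaf 124932)))) (.node (.node (.node (.leaf 26756) (.leaf 151991)) (.node (.leaf 144919) (.leaf 142036))) (.node (.node (.leaf 88595) (.leaf 57772)) (.node (.leaf 115210) (.leaf 81195))))) (.node (.node (.node (.node (.leaf 81202) (.leaf 100110)) (.node (.leaf 161745) (.leaf 161738))) (.node (.node (.leaf 144208) (.leaf 38587)) (.node (.leaf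 22169) (.leaf 99024)))) (.node (.node (.node (.leaf 193587) (.leaf 193588)) (.node (.leaf 52742) (.leaf 93234))) (.node (.node (.leaf 25306) (.leaf 104880)) (.node (.leaf 73254) (.leaf 235672)))))) (.node (.node (.node (.node (.node (.leaf 254004) (.leaf 69904)) (.node (.leaf 132046) (.leaf 110552))) (.node (.node (.leaf 146730) (.leaf 169608)) (.node (.leaf 61528) (.leaf 105431)))) (.node (.node (.node (.leaf 135446) (.leaf 109272)) (.node (.leaf 114577) (.leaf 52486))) (.node (.node (.leaf 171332) (.leaf 134808)) (.node (.leaf 65603) (.leaf 36667))))) (.node (.node (.node (.node (.leaf 56774) (.leaf 256856)) (.node (.leaf 219667) (.leaf 52230))) (.node (.node (.leaf 115725) (.leaf 94251)) (.node (.leaf 106638) (.leaf 137261)))) (.node (.node (.node (.leaf 182949) (.leaf 78408)) (.node (.leaf 17719) (.leaf 55973))) (.node (.node (.leaf 58933) (.leaf 105432)) (.node (.leaf 94411) (.leaf 52358)))))))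

/-- A suborbit and a mover, part 334. -/
def redCodePart334 : Janko1.Tree ℕ := (.node (.node (.node (.node (.node (.node (.leaf 182853) (.leaf 78504)) (.node (.leaf 59094) (.leaf 55877))) (.node (.node (.leaf 84887) (.leaf 52614)) (.node (.leaf 171428) (.leaf 65699)))) (.node (.node (.node (.leaf 139825) (.leaf 36826)) (.node (.leaf 263224) (.leaf 108367))) (.node (.node (.leaf 219796) (.leaf 56614)) (.node (.leaf 76431) (.leaf 80946))))) (.node (.node (.node (.node (.leaf 104664) (.leaf 139569)) (.node (.leaf 146890) (.leaf 169480))) (.node (.node (.leaf 108823) (.leaf 135573)) (.node (.leaf 105176) (.leaf 52870)))) (.node (.node (.node (.leaf 140850) (.leaf 77112)) (.node (.leaf 73414) (.leaf 25147))) (.node (.node (.leaf 254168) (.leaf 254163)) (.node (.leaf 112653) (.leaf 93227)))))) (.node (.node (.node (.node (.node (.leaf 112654) (.leaf 141003)) (.node (.leaf 141010) (.leaf 35131))) (.node (.node (.leaf 34329) (.leaf 254003)) (.node (.leaf 81099) (.leaf 81106)))) (.node (.node (.node (.leaf 146737) (.leaf 139729)) (.node (.leaf 139722)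 (.leaf 951))) (.node (.node (.leaf 105239) (.leaf 135445)) (.node (.leaf 114570) (.leaf 52484))))) (.node (.node (.node (.node (.leaf 183460) (.leaf 139985)) (.node (.leaf 139978) (.leaf 36355))) (.node (.node (.leaf 67491) (.leaf 108463)) (.node (.leaf 34073) (.leaf 23770)))) (.node (.node (.node (.leaf 76303) (.leaf 219668)) (.node (.leaf 94258) (.leaf 103955))) (.node (.node (.leaf 103956) (.leaf 103703)) (.node (.leaf 104663) (.leaf 58934)))))))

/-- A suborbit and a mover, part 335. -/
def redCodePart335 : Janko1.Tree ℕ := (.node (.node (.node (.node (.node (.node (.leaf 94418) (.leaf 115853)) (.node (.leaf 137421) (.leaf 106510))) (.node (.node (.leaf 104083) (.leaf 104084)) (.node (.leaf 59093) (.leaf 61527)))) (.node (.node (.node (.leaf 99127) (.leaf 183364)) (.node (.leaf 52612) (.leaf 114449))) (.node (.node (.leaf 114442) (.leaf 67395)) (.node (.leaf 36483) (.leaf 139818))))) (.node (.node (.node (.node (.leaf 23611) (.leaf 27417)) (.node (.leaf 219795) (.leaf 80939))) (.node (.node (.leaf 131886) (.leaf 139562)) (.node (.leaf 146897)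 (.leaf 117975)))) (.node (.node (.node (.leaf 40503) (.leaf 135574)) (.node (.leaf 93387) (.leaf 93394))) (.node (.node (.leaf 112781) (.leaf 140843)) (.node (.leaf 112782) (.leaf 104784)))))) (.node (.node (.node (.node (.node (.leaf 27161) (.leaf 35290)) (.node (.leaf 70032) (.leaf 254164))) (.node (.node (.leaf 107917) (.leaf 181924)) (.node (.leaf 97688) (.leaf 167049)))) (.node (.node (.node (.leaf 218904) (.leaf 77833)) (.node (.leaf 57551) (.leaf 97553))) (.node (.node (.leaf 116369) (.leaf 135320)) (.node (.leaf 176904) (.leaf 64197))))) (.node (.node (.node (.node (.leaf 60453) (.leaf 67603)) (.node (.leaf 125334) (.leaf 176392))) (.node (.node (.leaf 61016) (.leaf 79896)) (.node (.leaf 90407) (.leaf 220440)))) (.node (.node (.node (.leaf 52228) (.leaf 98314)) (.node (.leaf 206598) (.leaf 174919))) (.node (.node (.leaf 77224) (.leaf 64965)) (.node (.leaf 121109) (.leaf 58643)))))))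

/-- A suborbit and a mover, part 336. -/
def redCodePart336 : Janko1.Tree ℕ := (.node (.node (.node (.node (.node (.node (.leaf 96823) (.leaf 136407)) (.node (.leaf 98442) (.leaf 132654))) (.node (.node (.leaf 52356) (.leaf 106509)) (.node (.leaf 175015) (.leaf 206726)))) (.node (.node (.node (.leaf 120728) (.leaf 64805)) (.node (.leaf 77128) (.leaf 58772))) (.node (.node (.leaf 121238) (.leaf 116109)) (.node (.leaf 80434) (.leaf 87832))))) (.node (.node (.node (.node (.leaf 176520) (.leaf 254936)) (.node (.leaf 198872) (.leaf 90567))) (.node (.node (.leaf 99760) (.leaf 264759)) (.node (.leaf 93650) (.leaf 177032)))) (.node (.node (.node (.leaf 74840) (.leaf 137112)) (.node (.leaf 60613) (.leaf 64037))) (.node (.node (.leaf 125205) (.leaf 67732)) (.node (.leaf 97937) (.leaf 181828)))))) (.node (.node (.node (.node (.node (.leaf 166921) (.leaf 77961)) (.node (.leaf 256952) (.leaf 263992))) (.node (.node (.leaf 201431) (.leaf 121423)) (.node (.leaf 95247) (.leaf 172868)))) (.node (.node (.node (.leaf 52740) (.leaf 131790)) (.node (.leaf 97809)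 (.leaf 97802))) (.node (.node (.leaf 95375) (.leaf 121519)) (.node (.leaf 97546) (.leaf 93483))))) (.node (.node (.node (.node (.leaf 93490) (.leaf 116362)) (.node (.leaf 130094) (.leaf 67604))) (.node (.node (.leaf 61843) (.leaf 61844)) (.node (.leaf 125333) (.leaf 129582)))) (.node (.node (.node (.leaf 80587) (.leaf 80594)) (.node (.leaf 115981) (.leaf 106381))) (.node (.node (.leaf 99664) (.leaf 82384)) (.node (.leaf 147024) (.leaf 106637)))))))

/-- A suborbit and a mover, part 337. -/
def redCodePart337 : Janko1.Tree ℕ := (.node (.node (.node (.node (.node (.node (.leaf 182948) (.leaf 171844)) (.node (.leaf 132814) (.leaf 98321))) (.node (.node (.leaf 121110) (.leaf 58644)) (.node (.leaf 62551) (.leaf 87959)))) (.node (.node (.node (.leaf 146231) (.leaf 66199)) (.node (.leaf 98449) (.leaf 171940))) (.node (.node (.leaf 182852) (.leaf 58771)) (.node (.leaf 121237) (.leaf 106253))))) (.node (.node (.node (.node (.leaf 80427) (.leaf 129742)) (.node (.leaf 147120) (.leaf 82224))) (.node (.node (.leaf 265559) (.leaf 236311)) (.node (.leaf 130254)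 (.leaf 116241)))) (.node (.node (.node (.leaf 116234) (.leaf 93643)) (.node (.leaf 97681) (.leaf 97674))) (.node (.node (.leaf 125206) (.leaf 61715)) (.node (.leaf 61716) (.leaf 67731)))))) (.node (.node (.node (.node (.node (.leaf 97930) (.leaf 131630)) (.node (.leaf 52868) (.leaf 172964))) (.node (.node (.leaf 107789) (.leaf 226071)) (.node (.leaf 179511) (.leaf 57391)))) (.node (.node (.node (.leaf 153802) (.leaf 150827)) (.node (.leaf 176393) (.leaf 52741))) (.node (.node (.leaf 139210) (.leaf 177160)) (.node (.leaf 78535) (.leaf 69895))))) (.node (.node (.node (.node (.leaf 74394) (.leaf 201271)) (.node (.leaf 57542) (.leaf 161322))) (.node (.node (.leaf 112398) (.leaf 124437)) (.node (.leaf 66885) (.leaf 113719)))) (.node (.node (.node (.leaf 77221) (.leaf 56741)) (.node (.leaf 141771) (.leaf 174407))) (.node (.node (.leaf 235671) (.leaf 77830)) (.node (.leaf 176691) (.leaf 94601)))))))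

/-- A suborbit and a mover, part 338. -/
def redCodePart338 : Janko1.Tree ℕ := (.node (.node (.node (.node (.node (.node (.leaf 71721) (.leaf 74393)) (.node (.leaf 52229) (.leaf 140497))) (.node (.node (.leaf 176136) (.leaf 86187)) (.node (.leaf 194950) (.leaf 19980)))) (.node (.node (.node (.leaf 127510) (.leaf 81477)) (.node (.leaf 86091) (.leaf 133933))) (.node (.node (.leaf 194822) (.leaf 52357)) (.node (.leaf 176264) (.leaf 127637))))) (.node (.node (.node (.node (.leaf 81573) (.leaf 116279)) (.node (.leaf 20108) (.leaf 116878))) (.node (.node (.leaf 137165) (.leaf 174503)) (.node (.leaf 100878) (.leaf 141611)))) (.node (.node (.node (.leaf 176852) (.leaf 94473)) (.node (.leaf 71881) (.leaf 133305))) (.node (.node (.leaf 77958) (.leaf 177975)) (.node (.leaf 78258) (.leaf 161482)))))) (.node (.node (.node (.node (.node (.leaf 77125) (.leaf 56645)) (.node (.leaf 124566) (.leaf 66981))) (.node (.node (.leaf 52869) (.leaf 131277)) (.node (.leaf 139050) (.leaf 177288)))) (.node (.node (.node (.leaf 153642) (.leaf 150987)) (.node (.leaf 176521)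 (.leaf 57382))) (.node (.node (.leaf 267095) (.leaf 78375)) (.node (.leaf 70023) (.leaf 74267))))) (.node (.node (.node (.node (.leaf 153809) (.leaf 150834)) (.node (.leaf 131117) (.leaf 139217))) (.node (.node (.leaf 175155) (.leaf 175156)) (.node (.leaf 131675) (.leaf 73625)))) (.node (.node (.node (.leaf 179671) (.leaf 226199)) (.node (.leaf 161329) (.leaf 78155))) (.node (.node (.leaf 78162) (.leaf 108174)) (.node (.leaf 124438) (.leaf 95639)))))))

/-- A suborbit and a mover, part 339. -/
def redCodePart339 : Janko1.Tree ℕ := (.node (.node (.node (.node (.node (.node (.leaf 71255) (.leaf 130965)) (.node (.leaf 130966) (.leaf 120341))) (.node (.node (.leaf 120342) (.leaf 101006)) (.node (.leaf 141778) (.leaf 116750)))) (.node (.node (.node (.leaf 137005) (.leaf 266423)) (.node (.leaf 264151) (.leaf 176692))) (.node (.node (.leaf 72090) (.leaf 135067)) (.node (.leaf 130093) (.leaf 140490))))) (.node (.node (.node (.node (.leaf 86194) (.leaf 134093)) (.node (.leaf 128405) (.leaf 128406))) (.node (.node (.leaf 127509) (.leaf 86098)) (.node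 (.leaf 130253) (.leaf 140337)))) (.node (.node (.node (.leaf 140330) (.leaf 127638)) (.node (.leaf 72279) (.leaf 80535))) (.node (.node (.leaf 128277) (.leaf 128278)) (.node (.leaf 141618) (.leaf 176851)))))) (.node (.node (.node (.node (.node (.leaf 134938) (.leaf 71963)) (.node (.leaf 202711) (.leaf 227607))) (.node (.node (.leaf 78251) (.leaf 108046)) (.node (.leaf 161489) (.leaf 112526)))) (.node (.node (.node (.leaf 130837) (.leaf 130838)) (.node (.leaf 120469) (.leaf 120470))) (.node (.node (.leaf 124565) (.leaf 139057)) (.node (.leaf 153649) (.leaf 150994))))) (.node (.node (.node (.node (.leaf 237079) (.leaf 263223)) (.node (.leaf 175315) (.leaf 175316))) (.node (.node (.leaf 134937) (.leaf 131770)) (.node (.leaf 77650) (.leaf 118286)))) (.node (.node (.node (.leaf 82744) (.leaf 124804)) (.node (.leaf 61784) (.leaf 135576))) (.node (.node (.leaf 95369) (.leaf 90416)) (.node (.leaf 193751) (.leaf 178904)))))))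

/-- A suborbit and a mover, part 340. -/
def redCodePart340 : Janko1.Tree ℕ := (.node (.node (.node (.node (.node (.node (.leaf 202552) (.leaf 100432)) (.node (.leaf 97944) (.leaf 60712))) (.node (.node (.leaf 82245) (.leaf 63635)) (.node (.leaf 97685) (.leaf 74184)))) (.node (.node (.node (.leaf 165162) (.leaf 169353)) (.node (.leaf 183461) (.leaf 207110))) (.node (.node (.leaf 175928) (.leaf 240408)) (.node (.leaf 120751) (.leaf 81607))))) (.node (.node (.node (.node (.leaf 254775) (.leaf 26884)) (.node (.leaf 60760) (.leaf 134552))) (.node (.node (.leaf 171845) (.leaf 180903)) (.node (.leaf 59795) (.leaf 59176)))) (.node (.node (.node (.leaf 64982) (.leaf 164561)) (.node (.leaf 180807) (.leaf 171941))) (.node (.node (.leaf 27012) (.leaf 59336)) (.node (.leaf 126935) (.leaf 64821)))))) (.node (.node (.node (.node (.node (.leaf 59668) (.leaf 76978)) (.node (.leaf 152113) (.leaf 207238))) (.node (.node (.leaf 183365) (.leaf 165322)) (.node (.leaf 86610) (.leaf 169225)))) (.node (.node (.node (.leaf 77880) (.leaf 266328)) (.node (.leaf 81447)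 (.leaf 66960))) (.node (.node (.leaf 153905) (.leaf 119182)) (.node (.leaf 119960) (.leaf 84562))))) (.node (.node (.node (.node (.leaf 99854) (.leaf 74024)) (.node (.leaf 60759) (.leaf 82341))) (.node (.node (.leaf 60872) (.leaf 97558)) (.node (.leaf 63508) (.leaf 124676)))) (.node (.node (.node (.leaf 132397) (.leaf 95241)) (.node (.leaf 265560) (.leaf 77643))) (.node (.node (.leaf 132557) (.leaf 132612)) (.node (.leaf 27396) (.leaf 218903)))))))

/-- A suborbit and a mover, part 341. -/
def redCodePart341 : Janko1.Tree ℕ := (.node (.node (.node (.node (.node (.node (.leaf 176695) (.leaf 77071)) (.node (.leaf 99982) (.leaf 84651))) (.node (.node (.leaf 84658) (.leaf 119054)) (.node (.leaf 154065) (.leaf 154058)))) (.node (.node (.node (.leaf 63636) (.leaf 97686)) (.node (.leaf 59923) (.leaf 59924))) (.node (.node (.leaf 86699) (.leaf 86706)) (.node (.leaf 165169) (.leaf 152273))))) (.node (.node (.node (.node (.leaf 152266) (.leaf 76875)) (.node (.leaf 76882) (.leaf 66832))) (.node (.node (.leaf 257623) (.leaf 242455)) (.node (.leaf 126767)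 (.leaf 133581)))) (.node (.node (.node (.leaf 127364) (.leaf 131588)) (.node (.leaf 164401) (.leaf 164394))) (.node (.node (.leaf 100750) (.leaf 59796)) (.node (.leaf 64981) (.leaf 100622)))))) (.node (.node (.node (.node (.node (.leaf 164554) (.leaf 131716)) (.node (.leaf 127236) (.leaf 133421))) (.node (.node (.leaf 139831) (.leaf 55703)) (.node (.leaf 64822) (.leaf 59667)))) (.node (.node (.node (.leaf 76971) (.leaf 152106)) (.node (.leaf 165329) (.leaf 86603))) (.node (.node (.leaf 126927) (.leaf 120655)) (.node (.leaf 153898) (.leaf 84555))))) (.node (.node (.node (.node (.leaf 100663) (.leaf 83863)) (.node (.leaf 60051) (.leaf 60052))) (.node (.node (.leaf 97557) (.leaf 63507)) (.node (.leaf 27524) (.leaf 132740)))) (.node (.node (.node (.leaf 118414) (.leaf 77739)) (.node (.leaf 77746) (.leaf 77199))) (.node (.node (.leaf 100528) (.leaf 90576)) (.node (.leaf 181925) (.leaf 69283)))))))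

/-- A suborbit and a mover, part 342. -/
def redCodePart342 : Janko1.Tree ℕ := (.node (.node (.node (.node (.node (.node (.leaf 147249) (.leaf 62096)) (.node (.leaf 72489) (.leaf 240407))) (.node (.node (.leaf 257624) (.leaf 193752)) (.node (.leaf 123855) (.leaf 141259)))) (.node (.node (.node (.leaf 167305) (.leaf 173893)) (.node (.leaf 205830) (.leaf 150322))) (.node (.node (.leaf 82488) (.leaf 62664)) (.node (.leaf 160951) (.leaf 64213))))) (.node (.node (.node (.node (.leaf 89239) (.leaf 58920)) (.node (.leaf 181927) (.leaf 115982))) (.node (.node (.leaf 96920) (.leaf 148018)) (.node (.leaf 265656) (.leaf 97328)))) (.node (.node (.node (.leaf 237208) (.leaf 66823)) (.node (.leaf 220439) (.leaf 36099))) (.node (.node (.leaf 142034) (.leaf 87700)) (.node (.leaf 68421) (.leaf 96918)))))) (.node (.node (.node (.node (.node (.leaf 64200) (.leaf 84116)) (.node (.leaf 78136) (.leaf 115854))) (.node (.node (.leaf 146129) (.leaf 75608)) (.node (.leaf 36227) (.leaf 87576)))) (.node (.node (.node (.leaf 64040) (.leaf 83987)) (.node (.leaf 68517) (.leaf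 96789))) (.node (.node (.leaf 87571) (.leaf 120984)) (.node (.leaf 181831) (.leaf 179512))))) (.node (.node (.node (.node (.leaf 66951) (.leaf 136653)) (.node (.leaf 205958) (.leaf 173989))) (.node (.node (.leaf 141099) (.leaf 167177)) (.node (.leaf 59080) (.leaf 64054)))) (.node (.node (.node (.leaf 62504) (.leaf 74584)) (.node (.leaf 69187) (.leaf 89112))) (.node (.node (.leaf 181829) (.leaf 107790)) (.node (.leaf 81456) (.leaf 72649)))))))

/-- A suborbit and a mover, part 343. -/
def redCodePart343 : Janko1.Tree ℕ := (.node (.node (.node (.node (.node (.node (.leaf 178744) (.leaf 107918)) (.node (.leaf 136237) (.leaf 63299))) (.node (.node (.leaf 36611) (.leaf 147242)) (.node (.leaf 254007) (.leaf 256087)))) (.node (.node (.node (.leaf 81616) (.leaf 141266)) (.node (.leaf 134861) (.leaf 136493))) (.node (.node (.leaf 150315) (.leaf 131095)) (.node (.leaf 76631) (.leaf 64214))))) (.node (.node (.node (.node (.leaf 98359) (.leaf 64087)) (.node (.leaf 88339) (.leaf 88340))) (.node (.node (.leaf 134349) (.leaf 148011)) (.node (.leaf 106382)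 (.leaf 56783)))) (.node (.node (.node (.leaf 175927) (.leaf 191703)) (.node (.leaf 160847) (.leaf 67235))) (.node (.node (.leaf 65859) (.leaf 145969)) (.node (.leaf 145962) (.leaf 115726)))))) (.node (.node (.node (.node (.node (.leaf 142027) (.leaf 87699)) (.node (.leaf 96917) (.leaf 84115))) (.node (.node (.leaf 141867) (.leaf 141874)) (.node (.leaf 146122) (.leaf 65955)))) (.node (.node (.node (.leaf 67139) (.leaf 83988)) (.node (.leaf 96790) (.leaf 87572))) (.node (.node (.leaf 106254) (.leaf 148171)) (.node (.leaf 148178) (.leaf 116110))))) (.node (.node (.node (.node (.leaf 134189) (.leaf 160943)) (.node (.leaf 56623) (.leaf 97488))) (.node (.node (.leaf 150475) (.leaf 150482)) (.node (.leaf 134701) (.leaf 141106)))) (.node (.node (.node (.leaf 88467) (.leaf 88468)) (.node (.leaf 64053) (.leaf 147409))) (.node (.node (.leaf 147402) (.leaf 36739)) (.node (.leaf 63395) (.leaf 136397)))))))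

/-- A suborbit and a mover, part 344. -/
def redCodePart344 : Janko1.Tree ℕ := (.node (.node (.node (.node (.node (.node (.leaf 123695) (.leaf 61968)) (.node (.leaf 206342) (.leaf 171335))) (.node (.node (.leaf 78616) (.leaf 169352)) (.node (.leaf 159311) (.leaf 125743)))) (.node (.node (.node (.leaf 135835) (.leaf 178899)) (.node (.leaf 71727) (.leaf 183719))) (.node (.node (.leaf 195718) (.leaf 171847)) (.node (.leaf 180901) (.leaf 176137))))) (.node (.node (.node (.node (.leaf 56757) (.leaf 85139)) (.node (.leaf 63127) (.leaf 194438))) (.node (.node (.leaf 171333) (.leaf 175625)) (.node (.leaf 81976) (.leaf 191699)))) (.node (.node (.node (.leaf 94607) (.leaf 133211)) (.node (.leaf 80152) (.leaf 170376))) (.node (.node (.leaf 97176) (.leaf 169609)) (.node (.leaf 80147) (.leaf 59468)))))) (.node (.node (.node (.node (.node (.leaf 70676) (.leaf 94871)) (.node (.leaf 64660) (.leaf 130327))) (.node (.node (.leaf 55990) (.leaf 169481)) (.node (.leaf 137880) (.leaf 170248)))) (.node (.node (.node (.leaf 55893) (.leaf 64531)) (.node (.leaf 70803)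 (.leaf 59564))) (.node (.node (.leaf 80276) (.leaf 175753)) (.node (.leaf 171429) (.leaf 194310))))) (.node (.node (.node (.node (.leaf 60176) (.leaf 88272)) (.node (.leaf 133306) (.leaf 191540))) (.node (.node (.leaf 133072) (.leaf 176265)) (.node (.leaf 180805) (.leaf 171943)))) (.node (.node (.node (.leaf 195590) (.leaf 183623)) (.node (.leaf 77368) (.leaf 86103))) (.node (.node (.leaf 71511) (.leaf 139063)) (.node (.leaf 85012) (.leaf 56662)))))))

/-- A suborbit and a mover, part 345. -/
def redCodePart345 : Janko1.Tree ℕ := (.node (.node (.node (.node (.node (.node (.leaf 136856) (.leaf 169224)) (.node (.leaf 171431) (.leaf 206470))) (.node (.node (.leaf 120216) (.leaf 178740)) (.node (.leaf 145584) (.leaf 135706)))) (.node (.node (.node (.leaf 75929) (.leaf 73626)) (.node (.leaf 145488) (.leaf 220435))) (.node (.node (.leaf 220436) (.leaf 178900)) (.node (.leaf 56758) (.leaf 85140))))) (.node (.node (.node (.node (.leaf 137175) (.leaf 146999)) (.node (.leaf 60469) (.leaf 60470))) (.node (.node (.leaf 66901) (.leaf 66902)) (.node (.leaf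 132912) (.leaf 191700)))) (.node (.node (.node (.leaf 254771) (.leaf 254772)) (.node (.leaf 72089) (.leaf 75162))) (.node (.node (.leaf 88112) (.leaf 60304)) (.node (.leaf 80148) (.leaf 133909)))))) (.node (.node (.node (.node (.node (.leaf 133910) (.leaf 70675)) (.node (.leaf 69719) (.leaf 119095))) (.node (.node (.leaf 64659) (.leaf 78167)) (.node (.leaf 159415) (.leaf 55989)))) (.node (.node (.node (.leaf 55894) (.leaf 64532)) (.node (.leaf 70804) (.leaf 134037))) (.node (.node (.leaf 134038) (.leaf 80275)) (.node (.leaf 75035) (.leaf 134169))))) (.node (.node (.node (.node (.leaf 94479) (.leaf 254931)) (.node (.leaf 254932) (.leaf 191539))) (.node (.node (.leaf 152247) (.leaf 132119)) (.node (.leaf 66997) (.leaf 66998)))) (.node (.node (.node (.leaf 60629) (.leaf 60630)) (.node (.leaf 79767) (.leaf 111671))) (.node (.node (.leaf 57239) (.leaf 125911)) (.node (.leaf 85011) (.leaf 56661)))))))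

/-- A suborbit and a mover, part 346. -/
def redCodePart346 : Janko1.Tree ℕ := (.node (.node (.node (.node (.node (.node (.leaf 71887) (.leaf 178739)) (.node (.leaf 220563) (.leaf 220564))) (.node (.node (.leaf 73499) (.leaf 131769)) (.node (.leaf 125903) (.leaf 159407)))) (.node (.node (.node (.leaf 238488) (.leaf 21785)) (.node (.leaf 110928) (.leaf 249528))) (.node (.node (.leaf 170452) (.leaf 268888)) (.node (.leaf 58313) (.leaf 82501))))) (.node (.node (.node (.node (.leaf 41433) (.leaf 34875)) (.node (.leaf 219416) (.leaf 179159))) (.node (.node (.leaf 178392) (.leaf 257880)) (.node (.leaf 238744) (.leaf 3643)))) (.node (.node (.node (.leaf 252632) (.leaf 86064)) (.node (.leaf 239256) (.leaf 70182))) (.node (.node (.leaf 140596) (.leaf 104919)) (.node (.leaf 65221) (.leaf 70931)))))) (.node (.node (.node (.node (.node (.leaf 108975) (.leaf 89895)) (.node (.leaf 177204) (.leaf 81863))) (.node (.node (.leaf 67079) (.leaf 71833)) (.node (.leaf 239512) (.leaf 38971)))) (.node (.node (.node (.leaf 250040) (.leaf 39130)) (.node (.leaf 268727)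 (.leaf 238616))) (.node (.node (.leaf 241560) (.leaf 140815)) (.node (.leaf 90055) (.leaf 177363))))) (.node (.node (.node (.node (.leaf 81703) (.leaf 67207)) (.node (.leaf 133913) (.leaf 140755))) (.node (.node (.leaf 65061) (.leaf 71060)) (.node (.leaf 205879) (.leaf 206648)))) (.node (.node (.node (.leaf 70342) (.leaf 147599)) (.node (.leaf 3802) (.leaf 207159))) (.node (.node (.leaf 249944) (.leaf 242328)) (.node (.leaf 21913) (.leaf 35034)))))))

/-- A suborbit and a mover, part 347. -/
def redCodePart347 : Janko1.Tree ℕ := (.node (.node (.node (.node (.node (.node (.leaf 151479) (.leaf 117719)) (.node (.leaf 82597) (.leaf 79255))) (.node (.node (.leaf 4313) (.leaf 170291)) (.node (.leaf 58153) (.leaf 10522)))) (.node (.node (.node (.leaf 36923) (.leaf 170451)) (.node (.leaf 136911) (.leaf 124693))) (.node (.node (.leaf 124694) (.leaf 37722)) (.node (.leaf 20379) (.leaf 33561))))) (.node (.node (.node (.node (.leaf 24282) (.leaf 225943)) (.node (.leaf 200503) (.leaf 145744))) (.node (.node (.leaf 147471) (.leaf 16665)) (.node (.leaf 36186)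 (.leaf 141392)))) (.node (.node (.node (.leaf 105039) (.leaf 84623)) (.node (.leaf 140595) (.leaf 17975))) (.node (.node (.leaf 104215) (.leaf 20236)) (.node (.leaf 70932) (.leaf 140943)))))) (.node (.node (.node (.node (.node (.leaf 177203) (.leaf 74650)) (.node (.leaf 132955) (.leaf 22553))) (.node (.node (.leaf 10650) (.leaf 117840)) (.node (.leaf 115279) (.leaf 10523)))) (.node (.node (.node (.leaf 18137) (.leaf 117936)) (.node (.leaf 276439) (.leaf 243351))) (.node (.node (.leaf 115375) (.leaf 108879)) (.node (.leaf 177364) (.leaf 133050))))) (.node (.node (.node (.node (.leaf 74523) (.leaf 140756)) (.node (.leaf 20364) (.leaf 71059))) (.node (.node (.leaf 141488) (.leaf 105135)) (.node (.leaf 183767) (.leaf 230551)))) (.node (.node (.node (.leaf 84495) (.leaf 36283)) (.node (.leaf 33689) (.leaf 181975))) (.node (.node (.leaf 234647) (.leaf 86224)) (.node (.leaf 20250) (.leaf 37819)))))))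

/-- A suborbit and a mover, part 348. -/
def redCodePart348 : Janko1.Tree ℕ := (.node (.node (.node (.node (.node (.node (.leaf 24123) (.leaf 26137)) (.node (.leaf 145840) (.leaf 144663))) (.node (.node (.leaf 35159) (.leaf 40247)) (.node (.leaf 108311) (.leaf 124821)))) (.node (.node (.node (.leaf 124822) (.leaf 110647)) (.node (.leaf 71767) (.leaf 37082))) (.node (.node (.leaf 10651) (.leaf 111024)) (.node (.leaf 170292) (.leaf 136751))))) (.node (.node (.node (.node (.leaf 59078) (.leaf 84617)) (.node (.leaf 85287) (.leaf 83977))) (.node (.node (.leaf 127673) (.leaf 17111)) (.node (.leaf 141363) (.leaf 59941)))) (.node (.node (.node (.leaf 60968) (.leaf 143792)) (.node (.leaf 202040) (.leaf 220947))) (.node (.node (.leaf 10266) (.leaf 274744)) (.node (.leaf 140208) (.leaf 10394)))))) (.node (.node (.node (.node (.node (.leaf 206808) (.leaf 93127)) (.node (.leaf 270679) (.leaf 142775))) (.node (.node (.leaf 133654) (.leaf 36954)) (.node (.leaf 94857) (.leaf 176439)))) (.node (.node (.node (.leaf 151311) (.leaf 141904)) (.node (.leaf 60102)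 (.leaf 86409))) (.node (.node (.leaf 83334) (.leaf 231191)) (.node (.leaf 86281) (.leaf 59942))))) (.node (.node (.node (.node (.leaf 83206) (.leaf 169784)) (.node (.leaf 144464) (.leaf 37051))) (.node (.node (.leaf 198360) (.leaf 94729)) (.node (.leaf 265816) (.leaf 36439)))) (.node (.node (.node (.leaf 133781) (.leaf 151695)) (.node (.leaf 10267) (.leaf 92967))) (.node (.node (.leaf 183000) (.leaf 122960)) (.node (.leaf 10395) (.leaf 210456)))))))

/-- A suborbit and a mover, part 349. -/
def redCodePart349 : Janko1.Tree ℕ := (.node (.node (.node (.node (.node (.node (.leaf 184280) (.leaf 205624)) (.node (.leaf 253912) (.leaf 263480))) (.node (.node (.leaf 221076) (.leaf 141524)) (.node (.leaf 60101) (.leaf 61128)))) (.node (.node (.node (.leaf 56983) (.leaf 142256)) (.node (.leaf 84489) (.leaf 58918))) (.node (.node (.leaf 84105) (.leaf 85447)) (.node (.leaf 59289) (.leaf 252215))))) (.node (.node (.node (.node (.leaf 147727) (.leaf 142160)) (.node (.leaf 136986) (.leaf 62491))) (.node (.node (.leaf 142007) (.leaf 141079)) (.node (.leaf 141364)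 (.leaf 64469)))) (.node (.node (.node (.leaf 64470) (.leaf 142479)) (.node (.leaf 220948) (.leaf 81872))) (.node (.node (.leaf 142672) (.leaf 37435)) (.node (.leaf 22809) (.leaf 209299)))))) (.node (.node (.node (.node (.node (.leaf 209300) (.leaf 37947)) (.node (.leaf 21529) (.leaf 151567))) (.node (.node (.leaf 123056) (.leaf 243479)) (.node (.leaf 274231) (.leaf 142615)))) (.node (.node (.node (.leaf 1111) (.leaf 133653)) (.node (.leaf 20635) (.leaf 39897))) (.node (.node (.leaf 144560) (.leaf 87600)) (.node (.leaf 192727) (.leaf 220951))))) (.node (.node (.node (.node (.leaf 56976) (.leaf 184119)) (.node (.leaf 206551) (.leaf 142000))) (.node (.node (.leaf 151439) (.leaf 56848)) (.node (.leaf 21657) (.leaf 20506)))) (.node (.node (.node (.leaf 87760) (.leaf 150199)) (.node (.leaf 143127) (.leaf 133782))) (.node (.node (.leaf 18393) (.leaf 38106)) (.node (.leaf 4185) (.leaf 37594)))))))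

/-- A suborbit and a mover, part 350. -/
def redCodePart350 : Janko1.Tree ℕ := (.node (.node (.node (.node (.node (.node (.leaf 142768) (.leaf 140112)) (.node (.leaf 209171) (.leaf 209172))) (.node (.node (.leaf 142351) (.leaf 143696)) (.node (.leaf 81712) (.leaf 221075)))) (.node (.node (.node (.leaf 141523) (.leaf 125655)) (.node (.leaf 139319) (.leaf 64309))) (.node (.node (.leaf 64310) (.leaf 147855)) (.node (.leaf 62618) (.leaf 137115))))) (.node (.node (.node (.node (.leaf 250967) (.leaf 239127)) (.node (.leaf 36442) (.leaf 104271))) (.node (.node (.leaf 205272) (.leaf 183608)) (.node (.leaf 55687) (.leaf 92368)))) (.node (.node (.node (.leaf 105235) (.leaf 81736)) (.node (.leaf 105751) (.leaf 67397))) (.node (.node (.leaf 62920) (.leaf 194264)) (.node (.leaf 178388) (.leaf 57286)))))) (.node (.node (.node (.node (.node (.leaf 94407) (.leaf 58822)) (.node (.leaf 69158) (.leaf 268631))) (.node (.node (.leaf 86153) (.leaf 15419)) (.node (.leaf 275000) (.leaf 58661)))) (.node (.node (.node (.leaf 103700) (.leaf 33817)) (.node (.leaf 72742)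 (.leaf 71977))) (.node (.node (.leaf 257879) (.leaf 16537)) (.node (.leaf 207320) (.leaf 189747))))) (.node (.node (.node (.node (.leaf 104623) (.leaf 33945)) (.node (.leaf 207384) (.leaf 271544))) (.node (.node (.leaf 189908) (.leaf 241048)) (.node (.leaf 72902) (.leaf 26393)))) (.node (.node (.node (.leaf 254680) (.leaf 72137)) (.node (.leaf 179000) (.leaf 103827))) (.node (.node (.leaf 109847) (.leaf 58821)) (.node (.leaf 15578) (.leaf 117680)))))))

/-- A suborbit and a mover, part 351. -/
def redCodePart351 : Janko1.Tree ℕ := (.node (.node (.node (.node (.node (.node (.leaf 86025) (.leaf 250968)) (.node (.leaf 190424) (.leaf 58159))) (.node (.node (.leaf 111280) (.leaf 58662)) (.node (.leaf 94247) (.leaf 186840)))) (.node (.node (.node (.leaf 99279) (.leaf 69318)) (.node (.leaf 109647) (.leaf 202200))) (.node (.node (.leaf 104528) (.leaf 257208)) (.node (.leaf 57126) (.leaf 100016))))) (.node (.node (.node (.node (.leaf 178227) (.leaf 105364)) (.node (.leaf 81832) (.leaf 62760))) (.node (.node (.leaf 67493) (.leaf 36539)) (.node (.leaf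 210968) (.leaf 55559)))) (.node (.node (.node (.leaf 59) (.leaf 16153)) (.node (.leaf 105236) (.leaf 105687))) (.node (.node (.leaf 4279) (.leaf 98197)) (.node (.leaf 98198) (.leaf 84883)))))) (.node (.node (.node (.node (.node (.leaf 84884) (.leaf 104624)) (.node (.leaf 109743) (.leaf 178387))) (.node (.node (.leaf 99920) (.leaf 103759)) (.node (.leaf 111184) (.leaf 243223)))) (.node (.node (.node (.leaf 276279) (.leaf 99119)) (.node (.leaf 117584) (.leaf 16281))) (.node (.node (.leaf 35162) (.leaf 58319)) (.node (.leaf 211091) (.leaf 211092))))) (.node (.node (.node (.node (.leaf 103699) (.leaf 59283)) (.node (.leaf 59284) (.leaf 60492))) (.node (.node (.leaf 23258) (.leaf 35899)) (.node (.leaf 103856) (.leaf 59280)))) (.node (.node (.node (.leaf 242199) (.leaf 254519)) (.node (.leaf 34906) (.leaf 15931))) (.node (.node (.leaf 104527) (.leaf 84751)) (.node (.leaf 189748) (.leaf 16090)))))))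

/-- A suborbit and a mover, part 352. -/
def redCodePart352 : Janko1.Tree ℕ := (.node (.node (.node (.node (.node (.node (.leaf 35003) (.leaf 189907)) (.node (.leaf 84879) (.leaf 103760))) (.node (.node (.leaf 36058) (.leaf 23099)) (.node (.leaf 59152) (.leaf 103828)))) (.node (.node (.node (.leaf 118743) (.leaf 39223)) (.node (.leaf 60588) (.leaf 59155))) (.node (.node (.leaf 59156) (.leaf 35259)) (.node (.leaf 34201) (.leaf 210963))))) (.node (.node (.node (.node (.leaf 210964) (.leaf 103855)) (.node (.leaf 178228) (.leaf 105363))) (.node (.node (.leaf 84755) (.leaf 84756)) (.node (.leaf 98069) (.leaf 98070)))) (.node (.node (.node (.leaf 104367) (.leaf 34457)) (.node (.leaf 90) (.leaf 92208))) (.node (.node (.leaf 252376) (.leaf 274232)) (.node (.leaf 93895) (.leaf 67600)))))) (.node (.node (.node (.node (.node (.leaf 127674) (.leaf 76200)) (.node (.leaf 64453) (.leaf 70743))) (.node (.node (.leaf 76119) (.leaf 77577)) (.node (.leaf 73510) (.leaf 88615)))) (.node (.node (.node (.leaf 205784) (.leaf 85385)) (.node (.leaf 249272) (.leaf 184116)))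 (.node (.node (.leaf 250296) (.leaf 60614)) (.node (.leaf 251608) (.leaf 182836))))) (.node (.node (.node (.node (.leaf 138928) (.leaf 85296)) (.node (.leaf 78920) (.leaf 76968))) (.node (.node (.leaf 128662) (.leaf 87955)) (.node (.leaf 220952) (.leaf 76809)))) (.node (.node (.node (.leaf 71834) (.leaf 251864)) (.node (.leaf 275512) (.leaf 93639))) (.node (.node (.leaf 251860) (.leaf 70447)) (.node (.leaf 116688) (.leaf 93479)))))))

/-- A suborbit and a mover, part 353. -/
def redCodePart353 : Janko1.Tree ℕ := (.node (.node (.node (.node (.node (.node (.leaf 251699) (.leaf 76937)) (.node (.leaf 256440) (.leaf 262712))) (.node (.node (.leaf 71707) (.leaf 126159)) (.node (.leaf 160687) (.leaf 76872)))) (.node (.node (.node (.leaf 79016) (.leaf 87828)) (.node (.leaf 128533) (.leaf 207896))) (.node (.node (.leaf 60454) (.leaf 101327)) (.node (.leaf 182995) (.leaf 85257))))) (.node (.node (.node (.node (.leaf 184275) (.leaf 59951)) (.node (.leaf 122704) (.leaf 88775))) (.node (.node (.leaf 73670) (.leaf 77705)) (.node (.leaf 262711) (.leaf 76943))))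 (.node (.node (.node (.leaf 64293) (.leaf 76104)) (.node (.leaf 93735) (.leaf 210967))) (.node (.node (.leaf 127579) (.leaf 164527)) (.node (.leaf 60699) (.leaf 136217)))))) (.node (.node (.node (.node (.node (.leaf 112951) (.leaf 95383)) (.node (.leaf 64147) (.leaf 64148))) (.node (.node (.leaf 160695) (.leaf 130583)) (.node (.leaf 56245) (.leaf 56246)))) (.node (.node (.node (.leaf 71983) (.leaf 124367)) (.node (.leaf 76815) (.leaf 83343))) (.node (.node (.leaf 122800) (.leaf 60111)) (.node (.leaf 184115) (.leaf 182835))))) (.node (.node (.node (.node (.leaf 101167) (.leaf 128661)) (.node (.leaf 87956) (.leaf 79891))) (.node (.node (.leaf 79892) (.leaf 160591)) (.node (.leaf 125999) (.leaf 134811)))) (.node (.node (.node (.leaf 73881) (.leaf 251859)) (.node (.leaf 124624) (.leaf 116528))) (.node (.node (.leaf 124464) (.leaf 70607)) (.node (.leaf 251700) (.leaf 133049)))))))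

/-- A suborbit and a mover, part 354. -/
def redCodePart354 : Janko1.Tree ℕ := (.node (.node (.node (.node (.node (.node (.leaf 134682) (.leaf 80019)) (.node (.leaf 80020) (.leaf 87827))) (.node (.node (.leaf 128534) (.leaf 85456)) (.node (.leaf 138832) (.leaf 182996)))) (.node (.node (.node (.leaf 184276) (.leaf 83215)) (.node (.leaf 266583) (.leaf 236567))) (.node (.node (.leaf 124207) (.leaf 72143)) (.node (.leaf 56149) (.leaf 56150))))) (.node (.node (.node (.node (.leaf 64019) (.leaf 64020)) (.node (.leaf 169527) (.leaf 187351))) (.node (.node (.leaf 62617) (.leaf 60826)) (.node (.leaf 164431) (.leaf 67728)))) (.node (.node (.node (.leaf 183603) (.leaf 130710)) (.node (.leaf 58664) (.leaf 125589))) (.node (.node (.leaf 235927) (.leaf 241432)) (.node (.leaf 235160) (.leaf 95631)))))) (.node (.node (.node (.node (.node (.leaf 175667) (.leaf 84519)) (.node (.leaf 184120) (.leaf 252627))) (.node (.node (.leaf 85001) (.leaf 57223)) (.node (.leaf 83078) (.leaf 127765)))) (.node (.node (.node (.leaf 59688) (.leaf 64456)) (.node (.leaf 55477)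 (.leaf 74696))) (.node (.node (.leaf 66455) (.leaf 227479)) (.node (.leaf 56518) (.leaf 265911))))) (.node (.node (.node (.node (.leaf 176440) (.leaf 265144)) (.node (.leaf 166355) (.leaf 268632))) (.node (.node (.leaf 58825) (.leaf 136655)) (.node (.leaf 166196) (.leaf 58665)))) (.node (.node (.node (.leaf 231319) (.leaf 183512)) (.node (.leaf 189912) (.leaf 56358))) (.node (.node (.leaf 235799) (.leaf 74536)) (.node (.leaf 127894) (.leaf 59848)))))))

/-- A suborbit and a mover, part 355. -/
def redCodePart355 : Janko1.Tree ℕ := (.node (.node (.node (.node (.node (.node (.leaf 64296) (.leaf 55382)) (.node (.leaf 275927) (.leaf 82950))) (.node (.node (.leaf 270776) (.leaf 85129)) (.node (.leaf 57095) (.leaf 190423)))) (.node (.node (.node (.leaf 275671) (.leaf 169016)) (.node (.leaf 244120) (.leaf 252468))) (.node (.node (.leaf 84679) (.leaf 68240)) (.node (.leaf 175828) (.leaf 265048))))) (.node (.node (.node (.node (.leaf 178232) (.leaf 125462)) (.node (.leaf 130581) (.leaf 58824))) (.node (.node (.leaf 152503) (.leaf 180951)) (.node (.leaf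 183768) (.leaf 187352)))) (.node (.node (.node (.leaf 183764) (.leaf 240023)) (.node (.leaf 237592) (.leaf 114863))) (.node (.node (.leaf 114767) (.leaf 183604)) (.node (.leaf 130709) (.leaf 20492)))))) (.node (.node (.node (.node (.node (.leaf 125590) (.leaf 265143)) (.node (.leaf 264407) (.leaf 175668))) (.node (.node (.leaf 169939) (.leaf 169940)) (.node (.leaf 68112) (.leaf 252628)))) (.node (.node (.node (.leaf 167379) (.leaf 167380)) (.node (.leaf 116432) (.leaf 127766))) (.node (.node (.leaf 55478) (.leaf 129173)) (.node (.leaf 129174) (.leaf 136663))))) (.node (.node (.node (.node (.leaf 145975) (.leaf 202039)) (.node (.leaf 177623) (.leaf 263639))) (.node (.node (.leaf 235159) (.leaf 133424)) (.node (.leaf 183347) (.leaf 183348)))) (.node (.node (.node (.leaf 166356) (.leaf 166195)) (.node (.leaf 136495) (.leaf 206391))) (.node (.node (.leaf 184279) (.leaf 183507)) (.node (.leaf 183508) (.leaf 133584)))))))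

/-- A suborbit and a mover, part 356. -/
def redCodePart356 : Janko1.Tree ℕ := (.node (.node (.node (.node (.node (.node (.leaf 264247) (.leaf 265047)) (.node (.leaf 129045) (.leaf 129046))) (.node (.node (.leaf 127893) (.leaf 55381)) (.node (.leaf 242839) (.leaf 268215)))) (.node (.node (.node (.leaf 116272) (.leaf 167219)) (.node (.leaf 167220) (.leaf 207895))) (.node (.node (.leaf 170295) (.leaf 241047)) (.node (.leaf 269495) (.leaf 252467))))) (.node (.node (.node (.node (.leaf 169779) (.leaf 169780)) (.node (.leaf 175827) (.leaf 95503))) (.node (.node (.leaf 20620) (.leaf 125461)) (.node (.leaf 130582) (.leaf 132631)))) (.node (.node (.node (.leaf 86615) (.leaf 234391)) (.node (.leaf 206647) (.leaf 183763))) (.node (.node (.leaf 268983) (.leaf 275159)) (.node (.leaf 86150) (.leaf 55696)))))) (.node (.node (.node (.node (.node (.leaf 180791) (.leaf 76965)) (.node (.leaf 73928) (.leaf 88852))) (.node (.node (.leaf 67414) (.leaf 61588)) (.node (.leaf 76038) (.leaf 177208)))) (.node (.node (.node (.leaf 95625) (.leaf 79047)) (.node (.leaf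 83721) (.leaf 269400))) (.node (.node (.leaf 86406) (.leaf 83727)) (.node (.leaf 268120) (.leaf 83239))))) (.node (.node (.node (.node (.leaf 59163) (.leaf 81733)) (.node (.leaf 83859) (.leaf 159159))) (.node (.node (.leaf 77733) (.leaf 88215)) (.node (.leaf 179160) (.leaf 198200)))) (.node (.node (.node (.leaf 76047) (.leaf 240152)) (.node (.leaf 77574) (.leaf 192724))) (.node (.node (.leaf 100655) (.leaf 58063)) (.node (.leaf 82983) (.leaf 84745)))))))

/-- A suborbit and a mover, part 357. -/
def redCodePart357 : Janko1.Tree ℕ := (.node (.node (.node (.node (.node (.node (.leaf 65051) (.leaf 84873)) (.node (.leaf 83143) (.leaf 65178))) (.node (.node (.leaf 249175) (.leaf 207160)) (.node (.leaf 77702) (.leaf 97232)))) (.node (.node (.node (.leaf 192563) (.leaf 77637)) (.node (.leaf 81829) (.leaf 83732))) (.node (.node (.leaf 170296) (.leaf 238360)) (.node (.leaf 124976) (.leaf 83399))))) (.node (.node (.node (.node (.leaf 59290) (.leaf 93744)) (.node (.leaf 237848) (.leaf 86278))) (.node (.node (.leaf 69327) (.leaf 83849)) (.node (.leaf 165199)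 (.leaf 78887)))) (.node (.node (.node (.leaf 95497) (.leaf 61456)) (.node (.leaf 76166) (.leaf 61459))) (.node (.node (.leaf 73768) (.leaf 76869)) (.node (.leaf 67509) (.leaf 88979)))))) (.node (.node (.node (.node (.node (.leaf 205112) (.leaf 86022)) (.node (.leaf 169528) (.leaf 206807))) (.node (.node (.leaf 234263) (.leaf 99631)) (.node (.leaf 60623) (.leaf 88851)))) (.node (.node (.node (.leaf 67413) (.leaf 61587)) (.node (.leaf 57295) (.leaf 253747))) (.node (.node (.leaf 253748) (.leaf 159055)) (.node (.leaf 61584) (.leaf 165295))))) (.node (.node (.node (.node (.leaf 69167) (.leaf 93904)) (.node (.leaf 136985) (.leaf 124602))) (.node (.node (.leaf 190259) (.leaf 190260)) (.node (.leaf 125136) (.leaf 83860)))) (.node (.node (.node (.leaf 129815) (.leaf 77655)) (.node (.leaf 58677) (.leaf 58678))) (.node (.node (.leaf 97079) (.leaf 62295)) (.node (.leaf 99152) (.leaf 192723)))))))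

/-- A suborbit and a mover, part 358. -/
def redCodePart358 : Janko1.Tree ℕ := (.node (.node (.node (.node (.node (.node (.leaf 97072) (.leaf 124857)) (.node (.leaf 138010) (.leaf 138139))) (.node (.node (.leaf 62105) (.leaf 237847)) (.node (.leaf 251703) (.leaf 57903)))) (.node (.node (.node (.leaf 100815) (.leaf 192564)) (.node (.leaf 76175) (.leaf 99248))) (.node (.node (.leaf 58837) (.leaf 58838)) (.node (.leaf 83731) (.leaf 190419))))) (.node (.node (.node (.node (.leaf 190420) (.leaf 124507)) (.node (.leaf 64921) (.leaf 83855))) (.node (.node (.leaf 159151) (.leaf 253907)) (.node (.leaf 253908) (.leaf 57135)))) (.node (.node (.node (.leaf 61460) (.leaf 67510)) (.node (.leaf 88980) (.leaf 60463))) (.node (.node (.leaf 99791) (.leaf 55568)) (.node (.leaf 187188) (.leaf 68902)))))) (.node (.node (.node (.node (.node (.leaf 122288) (.leaf 56229)) (.node (.leaf 59958) (.leaf 121775))) (.node (.node (.leaf 266680) (.leaf 194259)) (.node (.leaf 72745) (.leaf 70151)))) (.node (.node (.node (.leaf 55431) (.leaf 61211)) (.node (.leaf 58057) (.leaf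 59081))) (.node (.node (.leaf 137754) (.leaf 182840)) (.node (.leaf 206039) (.leaf 69189))))) (.node (.node (.node (.node (.leaf 64915) (.leaf 57896)) (.node (.leaf 55461) (.leaf 257112))) (.node (.node (.leaf 82640) (.leaf 192728)) (.node (.leaf 236696) (.leaf 254515)))) (.node (.node (.node (.leaf 70438) (.leaf 183352)) (.node (.leaf 56967) (.leaf 56839))) (.node (.node (.leaf 70598) (.leaf 250712)) (.node (.leaf 138576) (.leaf 254676)))))))

/-- A suborbit and a mover, part 359. -/
def redCodePart359 : Janko1.Tree ℕ := (.node (.node (.node (.node (.node (.node (.leaf 122671) (.leaf 55365)) (.node (.leaf 58056) (.leaf 69285))) (.node (.node (.leaf 64788) (.leaf 140087)) (.node (.leaf 240024) (.leaf 70351)))) (.node (.node (.node (.leaf 161359) (.leaf 58921)) (.node (.leaf 137883) (.leaf 55312))) (.node (.node (.leaf 268728) (.leaf 127536)) (.node (.leaf 57897) (.leaf 239383))))) (.node (.node (.node (.node (.leaf 55303) (.leaf 61338)) (.node (.leaf 70279) (.leaf 90064))) (.node (.node (.leaf 72905) (.leaf 194100)) (.node (.leaf 60117) (.leaf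 56133)))) (.node (.node (.node (.leaf 100919) (.leaf 69062)) (.node (.leaf 250200) (.leaf 268216))) (.node (.node (.leaf 187347) (.leaf 243608)) (.node (.leaf 84111) (.leaf 83983)))))) (.node (.node (.node (.node (.node (.leaf 187187) (.leaf 140464)) (.node (.leaf 59957) (.leaf 89235))) (.node (.node (.leaf 89236) (.leaf 194260)) (.node (.leaf 125231) (.leaf 89904)))) (.node (.node (.node (.leaf 136473) (.leaf 127930)) (.node (.leaf 127696) (.leaf 55440))) (.node (.node (.leaf 64795) (.leaf 124601)) (.node (.leaf 161455) (.leaf 230423))))) (.node (.node (.node (.node (.leaf 183607) (.leaf 70191)) (.node (.leaf 64916) (.leaf 69205))) (.node (.node (.leaf 69206) (.leaf 58387)) (.node (.leaf 58388) (.leaf 122831)))) (.node (.node (.node (.leaf 254516) (.leaf 67088)) (.node (.leaf 138672) (.leaf 123568))) (.node (.node (.leaf 94416) (.leaf 94256)) (.node (.leaf 123472) (.leaf 67216)))))))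

/-- A suborbit and a mover, part 360. -/
def redCodePart360 : Janko1.Tree ℕ := (.node (.node (.node (.node (.node (.node (.leaf 254675) (.leaf 82480)) (.node (.leaf 58515) (.leaf 58516))) (.node (.node (.leaf 69301) (.leaf 69302)) (.node (.leaf 64787) (.leaf 55447)))) (.node (.node (.node (.leaf 126679) (.leaf 61593)) (.node (.leaf 64922) (.leaf 252471))) (.node (.node (.leaf 250711) (.leaf 127835)) (.node (.leaf 62873) (.leaf 125391))))) (.node (.node (.node (.node (.leaf 194099) (.leaf 121679)) (.node (.leaf 89107) (.leaf 89108))) (.node (.node (.leaf 60118) (.leaf 84119)) (.node (.leaf 61271) (.leaf 122192)))) (.node (.node (.node (.leaf 140368) (.leaf 187348)) (.node (.leaf 128208) (.leaf 210324))) (.node (.node (.leaf 275767) (.leaf 83087)) (.node (.leaf 119830) (.leaf 59412)))))) (.node (.node (.node (.node (.node (.leaf 63575) (.leaf 146743)) (.node (.leaf 78612) (.leaf 135189))) (.node (.node (.leaf 98608) (.leaf 75417)) (.node (.leaf 253751) (.leaf 219415)))) (.node (.node (.node (.leaf 131419) (.leaf 137242)) (.node (.leaf 207319)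 (.leaf 114511))) (.node (.node (.leaf 116303) (.leaf 85007)) (.node (.leaf 251603) (.leaf 65237))))) (.node (.node (.node (.node (.leaf 97429) (.leaf 118327)) (.node (.leaf 147280) (.leaf 220180))) (.node (.node (.leaf 210579) (.leaf 243991)) (.node (.leaf 161711) (.leaf 137241)))) (.node (.node (.node (.leaf 169783) (.leaf 65177)) (.node (.leaf 85263) (.leaf 210452))) (.node (.node (.leaf 84688) (.leaf 227351)) (.node (.leaf 56367) (.leaf 73679)))))))

/-- A suborbit and a mover, part 361. -/
def redCodePart361 : Janko1.Tree ℕ := (.node (.node (.node (.node (.node (.node (.leaf 220307) (.leaf 62039)) (.node (.leaf 83543) (.leaf 97302))) (.node (.node (.leaf 65078) (.leaf 72535)) (.node (.leaf 251444) (.leaf 57104)))) (.node (.node (.node (.leaf 70800) (.leaf 237591)) (.node (.leaf 135983) (.leaf 137263))) (.node (.node (.leaf 137371) (.leaf 92720)) (.node (.leaf 186839) (.leaf 131514))))) (.node (.node (.node (.node (.leaf 131513) (.leaf 132048)) (.node (.leaf 70288) (.leaf 178999))) (.node (.node (.leaf 135318) (.leaf 78739)) (.node (.leaf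 59539) (.leaf 119957)))) (.node (.node (.node (.leaf 210195) (.leaf 111664)) (.node (.leaf 252371) (.leaf 252372))) (.node (.node (.leaf 68911) (.leaf 111824)) (.node (.leaf 86320) (.leaf 210323)))))) (.node (.node (.node (.node (.node (.leaf 268119) (.leaf 242711)) (.node (.leaf 119829) (.leaf 59411))) (.node (.node (.leaf 89751) (.leaf 98615)) (.node (.leaf 63383) (.leaf 137431)))) (.node (.node (.node (.leaf 78611) (.leaf 58188)) (.node (.leaf 135190) (.leaf 67859))) (.node (.node (.leaf 67860) (.leaf 70160)) (.node (.leaf 131888) (.leaf 73370))))) (.node (.node (.node (.node (.leaf 135579) (.leaf 256343)) (.node (.leaf 240151) (.leaf 177207))) (.node (.node (.leaf 194263) (.leaf 73369)) (.node (.leaf 73882) (.leaf 92880)))) (.node (.node (.node (.leaf 62747) (.leaf 127929)) (.node (.leaf 137423) (.leaf 112080))) (.node (.node (.leaf 186675) (.leaf 186676)) (.node (.leaf 234519) (.leaf 181815)))))))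

/-- A suborbit and a mover, part 362. -/
def redCodePart362 : Janko1.Tree ℕ := (.node (.node (.node (.node (.node (.node (.leaf 136143) (.leaf 70672)) (.node (.leaf 57232) (.leaf 251604))) (.node (.node (.leaf 65238) (.leaf 97430)) (.node (.leaf 94615) (.leaf 68695)))) (.node (.node (.node (.leaf 90899) (.leaf 90900)) (.node (.leaf 120597) (.leaf 120598))) (.node (.node (.leaf 220179) (.leaf 179155)) (.node (.leaf 179156) (.leaf 73519))))) (.node (.node (.node (.node (.leaf 94863) (.leaf 56527)) (.node (.leaf 121007) (.leaf 84528))) (.node (.node (.leaf 210580) (.leaf 274743)) (.node (.leaf 271447) (.leaf 85391)))) (.node (.node (.node (.leaf 71184) (.leaf 124858)) (.node (.leaf 60187) (.leaf 189911))) (.node (.node (.leaf 207383) (.leaf 60314)) (.node (.leaf 124763) (.leaf 161615)))))) (.node (.node (.node (.node (.node (.leaf 71312) (.leaf 210451)) (.node (.leaf 177463) (.leaf 202199))) (.node (.node (.leaf 120911) (.leaf 94735)) (.node (.leaf 178995) (.leaf 178996)))) (.node (.node (.node (.leaf 220308) (.leaf 147376)) (.node (.leaf 120725)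 (.leaf 120726))) (.node (.node (.leaf 99383) (.leaf 85143)) (.node (.leaf 91027) (.leaf 91028))))) (.node (.node (.node (.node (.leaf 154039) (.leaf 133399)) (.node (.leaf 97301) (.leaf 65077))) (.node (.node (.leaf 80279) (.leaf 115255)) (.node (.leaf 251443) (.leaf 85135)))) (.node (.node (.node (.leaf 116399) (.leaf 251447)) (.node (.leaf 249431) (.leaf 114607))) (.node (.node (.leaf 186835) (.leaf 186836)) (.node (.leaf 111920) (.leaf 60313)))))))

/-- A suborbit and a mover, part 363. -/
def redCodePart363 : Janko1.Tree ℕ := (.node (.node (.node (.node (.node (.node (.leaf 62874) (.leaf 210455)) (.node (.leaf 169015) (.leaf 73755))) (.node (.node (.leaf 134681) (.leaf 135450)) (.node (.leaf 73243) (.leaf 98768)))) (.node (.node (.node (.leaf 200663) (.leaf 225815)) (.node (.leaf 67987) (.leaf 67988))) (.node (.node (.leaf 135317) (.leaf 58284)) (.node (.leaf 78740) (.leaf 59540))))) (.node (.node (.node (.node (.leaf 119958) (.leaf 82959)) (.node (.leaf 210196) (.leaf 86480))) (.node (.node (.leaf 128048) (.leaf 69071)) (.node (.leaf 252211)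 (.leaf 252212)))) (.node (.node (.node (.leaf 0) (.leaf 0)) (.node (.leaf 0) (.leaf 0))) (.node (.node (.leaf 0) (.leaf 0)) (.node (.leaf 0) (.leaf 0)))))) (.node (.node (.node (.node (.node (.leaf 0) (.leaf 0)) (.node (.leaf 0) (.leaf 0))) (.node (.node (.leaf 0) (.leaf 0)) (.node (.leaf 0) (.leaf 0)))) (.node (.node (.node (.leaf 0) (.leaf 0)) (.node (.leaf 0) (.leaf 0))) (.node (.node (.leaf 0) (.leaf 0)) (.node (.leaf 0) (.leaf 0))))) (.node (.node (.node (.node (.leaf 0) (.leaf 0)) (.node (.leaf 0) (.leaf 0))) (.node (.node (.leaf 0) (.leaf 0)) (.node (.leaf 0) (.leaf 0)))) (.node (.node (.node (.leaf 0) (.leaf 0)) (.node (.leaf 0) (.leaf 0))) (.node (.node (.leaf 0) (.leaf 0)) (.node (.leaf 0) (.leaf 0)))))))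

/-- A suborbit and a mover, part 364. -/
def redCodePart364 : Janko1.Tree ℕ := (.node (.node (.node (.node (.node (.node (.leaf 0) (.leaf 0)) (.node (.leaf 0) (.leaf 0))) (.node (.node (.leaf 0) (.leaf 0)) (.node (.leaf 0) (.leaf 0)))) (.node (.node (.node (.leaf 0) (.leaf 0)) (.node (.leaf 0) (.leaf 0))) (.node (.node (.leaf 0) (.leaf 0)) (.node (.leaf 0) (.leaf 0))))) (.node (.node (.node (.node (.leaf 0) (.leaf 0)) (.node (.leaf 0) (.leaf 0))) (.node (.node (.leaf 0) (.leaf 0)) (.node (.leaf 0) (.leaf 0)))) (.node (.node (.node (.leaf 0) (.leaf 0)) (.node (.leaf 0) (.leaf 0))) (.node (.node (.leaf 0) (.leaf 0)) (.node (.leaf 0) (.leaf 0)))))) (.node (.node (.node (.node (.node (.leaf 0) (.leaf 0)) (.node (.leaf 0) (.leaf 0))) (.node (.node (.leaf 0) (.leaf 0)) (.node (.leaf 0) (.leaf 0)))) (.node (.node (.node (.leaf 0) (.leaf 0)) (.node (.leaf 0) (.leaf 0))) (.node (.node (.leaf 0) (.leaf 0)) (.node (.leaf 0) (.leaf 0))))) (.node (.node (.node (.node (.leaf 0) (.leaf 0)) (.node (.leaf 0) (.leaf 0))) (.node (.node (.leaf 0) (.leaf 0)) (.node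 (.leaf 0) (.leaf 0)))) (.node (.node (.node (.leaf 0) (.leaf 0)) (.node (.leaf 0) (.leaf 0))) (.node (.node (.leaf 0) (.leaf 0)) (.node (.leaf 0) (.leaf 0)))))))

/-- A suborbit and a mover, part 365. -/
def redCodePart365 : Janko1.Tree ℕ := (.node (.node (.node (.node (.node (.node (.leaf 0) (.leaf 0)) (.node (.leaf 0) (.leaf 0))) (.node (.node (.leaf 0) (.leaf 0)) (.node (.leaf 0) (.leaf 0)))) (.node (.node (.node (.leaf 0) (.leaf 0)) (.node (.leaf 0) (.leaf 0))) (.node (.node (.leaf 0) (.leaf 0)) (.node (.leaf 0) (.leaf 0))))) (.node (.node (.node (.node (.leaf 0) (.leaf 0)) (.node (.leaf 0) (.leaf 0))) (.node (.node (.leaf 0) (.leaf 0)) (.node (.leaf 0) (.leaf 0)))) (.node (.node (.node (.leaf 0) (.leaf 0)) (.node (.leaf 0) (.leaf 0))) (.node (.node (.leaf 0) (.leaf 0)) (.node (.leaf 0) (.leaf 0)))))) (.node (.node (.node (.node (.node (.leaf 0) (.leaf 0)) (.node (.leaf 0) (.leaf 0))) (.node (.node (.leaf 0) (.leaf 0)) (.node (.leaf 0) (.leaf 0)))) (.node (.node (.node (.leaf 0) (.leaf 0)) (.node (.leaf 0) (.leaf 0))) (.node (.node (.leaf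 0) (.leaf 0)) (.node (.leaf 0) (.leaf 0))))) (.node (.node (.node (.node (.leaf 0) (.leaf 0)) (.node (.leaf 0) (.leaf 0))) (.node (.node (.leaf 0) (.leaf 0)) (.node (.leaf 0) (.leaf 0)))) (.node (.node (.node (.leaf 0) (.leaf 0)) (.node (.leaf 0) (.leaf 0))) (.node (.node (.leaf 0) (.leaf 0)) (.node (.leaf 0) (.leaf 0)))))))

/-- A suborbit and a mover, part 366. -/
def redCodePart366 : Janko1.Tree ℕ := (.node (.node (.node (.node (.node (.node (.leaf 0) (.leaf 0)) (.node (.leaf 0) (.leaf 0))) (.node (.node (.leaf 0) (.leaf 0)) (.node (.leaf 0) (.leaf 0)))) (.node (.node (.node (.leaf 0) (.leaf 0)) (.node (.leaf 0) (.leaf 0))) (.node (.node (.leaf 0) (.leaf 0)) (.node (.leaf 0) (.leaf 0))))) (.node (.node (.node (.node (.leaf 0) (.leaf 0)) (.node (.leaf 0) (.leaf 0))) (.node (.node (.leaf 0) (.leaf 0)) (.node (.leaf 0) (.leaf 0)))) (.node (.node (.node (.leaf 0) (.leaf 0)) (.node (.leaf 0) (.leaf 0))) (.node (.node (.leaf 0) (.leaf 0)) (.node (.leaf 0) (.leaf 0)))))) (.node (.node (.node (.node (.node (.leaf 0) (.leaf 0)) (.node (.leaf 0) (.leaf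 0))) (.node (.node (.leaf 0) (.leaf 0)) (.node (.leaf 0) (.leaf 0)))) (.node (.node (.node (.leaf 0) (.leaf 0)) (.node (.leaf 0) (.leaf 0))) (.node (.node (.leaf 0) (.leaf 0)) (.node (.leaf 0) (.leaf 0))))) (.node (.node (.node (.node (.leaf 0) (.leaf 0)) (.node (.leaf 0) (.leaf 0))) (.node (.node (.leaf 0) (.leaf 0)) (.node (.leaf 0) (.leaf 0)))) (.node (.node (.node (.leaf 0) (.leaf 0)) (.node (.leaf 0) (.leaf 0))) (.node (.node (.leaf 0) (.leaf 0)) (.node (.leaf 0) (.leaf 0)))))))

/-- A suborbit and a mover, part 367. -/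
def redCodePart367 : Janko1.Tree ℕ := (.node (.node (.node (.node (.node (.node (.leaf 0) (.leaf 0)) (.node (.leaf 0) (.leaf 0))) (.node (.node (.leaf 0) (.leaf 0)) (.node (.leaf 0) (.leaf 0)))) (.node (.node (.node (.leaf 0) (.leaf 0)) (.node (.leaf 0) (.leaf 0))) (.node (.node (.leaf 0) (.leaf 0)) (.node (.leaf 0) (.leaf 0))))) (.node (.node (.node (.node (.leaf 0) (.leaf 0)) (.node (.leaf 0) (.leaf 0))) (.node (.node (.leaf 0) (.leaf 0)) (.node (.leaf 0) (.leaf 0)))) (.node (.node (.node (.leaf 0) (.leaf 0)) (.node (.leaf 0) (.leaf 0))) (.node (.node (.leaf 0) (.leaf 0)) (.node (.leaf 0) (.leaf 0)))))) (.node (.node (.node (.node (.node (.leaf 0) (.leaf 0)) (.node (.leaf 0) (.leaf 0))) (.node (.node (.leaf 0) (.leaf 0)) (.node (.leaf 0) (.leaf 0)))) (.node (.node (.node (.leaf 0) (.leaf 0)) (.node (.leaf 0) (.leaf 0))) (.node (.node (.leaf 0) (.leaf 0)) (.node (.leaf 0) (.leaf 0))))) (.node (.node (.node (.node (.leaf 0) (.leaf 0)) (.node (.leaf 0) (.leaf 0))) (.node (.node (.leaf 0) (.leaf 0)) (.node (.leaf 0) (.leaf 0)))) (.node (.node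 (.node (.leaf 0) (.leaf 0)) (.node (.leaf 0) (.leaf 0))) (.node (.node (.leaf 0) (.leaf 0)) (.node (.leaf 0) (.leaf 0)))))))

/-- A suborbit and a mover, part 368. -/
def redCodePart368 : Janko1.Tree ℕ := (.node (.node (.node (.node (.node (.node (.leaf 0) (.leaf 0)) (.node (.leaf 0) (.leaf 0))) (.node (.node (.leaf 0) (.leaf 0)) (.node (.leaf 0) (.leaf 0)))) (.node (.node (.node (.leaf 0) (.leaf 0)) (.node (.leaf 0) (.leaf 0))) (.node (.node (.leaf 0) (.leaf 0)) (.node (.leaf 0) (.leaf 0))))) (.node (.node (.node (.node (.leaf 0) (.leaf 0)) (.node (.leaf 0) (.leaf 0))) (.node (.node (.leaf 0) (.leaf 0)) (.node (.leaf 0) (.leaf 0)))) (.node (.node (.node (.leaf 0) (.leaf 0)) (.node (.leaf 0) (.leaf 0))) (.node (.node (.leaf 0) (.leaf 0)) (.node (.leaf 0) (.leaf 0)))))) (.node (.node (.node (.node (.node (.leaf 0) (.leaf 0)) (.node (.leaf 0) (.leaf 0))) (.node (.node (.leaf 0) (.leaf 0)) (.node (.leaf 0) (.leaf 0)))) (.node (.node (.node (.leaf 0) (.leaf 0)) (.node (.leaf 0) (.leaf 0))) (.node (.node (.leaf 0) (.leaf 0)) (.node (.leaf 0) (.leaf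 0))))) (.node (.node (.node (.node (.leaf 0) (.leaf 0)) (.node (.leaf 0) (.leaf 0))) (.node (.node (.leaf 0) (.leaf 0)) (.node (.leaf 0) (.leaf 0)))) (.node (.node (.node (.leaf 0) (.leaf 0)) (.node (.leaf 0) (.leaf 0))) (.node (.node (.leaf 0) (.leaf 0)) (.node (.leaf 0) (.leaf 0)))))))

/-- A suborbit and a mover, part 369. -/
def redCodePart369 : Janko1.Tree ℕ := (.node (.node (.node (.node (.node (.node (.leaf 0) (.leaf 0)) (.node (.leaf 0) (.leaf 0))) (.node (.node (.leaf 0) (.leaf 0)) (.node (.leaf 0) (.leaf 0)))) (.node (.node (.node (.leaf 0) (.leaf 0)) (.node (.leaf 0) (.leaf 0))) (.node (.node (.leaf 0) (.leaf 0)) (.node (.leaf 0) (.leaf 0))))) (.node (.node (.node (.node (.leaf 0) (.leaf 0)) (.node (.leaf 0) (.leaf 0))) (.node (.node (.leaf 0) (.leaf 0)) (.node (.leaf 0) (.leaf 0)))) (.node (.node (.node (.leaf 0) (.leaf 0)) (.node (.leaf 0) (.leaf 0))) (.node (.node (.leaf 0) (.leaf 0)) (.node (.leaf 0) (.leaf 0)))))) (.node (.node (.node (.node (.node (.leaf 0) (.leaf 0)) (.node (.leaf 0) (.leaf 0))) (.node (.node (.leaf 0) (.leaf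 0)) (.node (.leaf 0) (.leaf 0)))) (.node (.node (.node (.leaf 0) (.leaf 0)) (.node (.leaf 0) (.leaf 0))) (.node (.node (.leaf 0) (.leaf 0)) (.node (.leaf 0) (.leaf 0))))) (.node (.node (.node (.node (.leaf 0) (.leaf 0)) (.node (.leaf 0) (.leaf 0))) (.node (.node (.leaf 0) (.leaf 0)) (.node (.leaf 0) (.leaf 0)))) (.node (.node (.node (.leaf 0) (.leaf 0)) (.node (.leaf 0) (.leaf 0))) (.node (.node (.leaf 0) (.leaf 0)) (.node (.leaf 0) (.leaf 0)))))))

/-- A suborbit and a mover, part 370. -/
def redCodePart370 : Janko1.Tree ℕ := (.node (.node (.node (.node (.node (.node (.leaf 0) (.leaf 0)) (.node (.leaf 0) (.leaf 0))) (.node (.node (.leaf 0) (.leaf 0)) (.node (.leaf 0) (.leaf 0)))) (.node (.node (.node (.leaf 0) (.leaf 0)) (.node (.leaf 0) (.leaf 0))) (.node (.node (.leaf 0) (.leaf 0)) (.node (.leaf 0) (.leaf 0))))) (.node (.node (.node (.node (.leaf 0) (.leaf 0)) (.node (.leaf 0) (.leaf 0))) (.node (.node (.leaf 0) (.leaf 0)) (.node (.leaf 0) (.leaf 0)))) (.node (.node (.node (.leaf 0) (.leaf 0)) (.node (.leaf 0) (.leaf 0))) (.node (.node (.leaf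 0) (.leaf 0)) (.node (.leaf 0) (.leaf 0)))))) (.node (.node (.node (.node (.node (.leaf 0) (.leaf 0)) (.node (.leaf 0) (.leaf 0))) (.node (.node (.leaf 0) (.leaf 0)) (.node (.leaf 0) (.leaf 0)))) (.node (.node (.node (.leaf 0) (.leaf 0)) (.node (.leaf 0) (.leaf 0))) (.node (.node (.leaf 0) (.leaf 0)) (.node (.leaf 0) (.leaf 0))))) (.node (.node (.node (.node (.leaf 0) (.leaf 0)) (.node (.leaf 0) (.leaf 0))) (.node (.node (.leaf 0) (.leaf 0)) (.node (.leaf 0) (.leaf 0)))) (.node (.node (.node (.leaf 0) (.leaf 0)) (.node (.leaf 0) (.leaf 0))) (.node (.node (.leaf 0) (.leaf 0)) (.node (.leaf 0) (.leaf 0)))))))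

/-- A suborbit and a mover, part 371. -/
def redCodePart371 : Janko1.Tree ℕ := (.node (.node (.node (.node (.node (.node (.leaf 0) (.leaf 0)) (.node (.leaf 0) (.leaf 0))) (.node (.node (.leaf 0) (.leaf 0)) (.node (.leaf 0) (.leaf 0)))) (.node (.node (.node (.leaf 0) (.leaf 0)) (.node (.leaf 0) (.leaf 0))) (.node (.node (.leaf 0) (.leaf 0)) (.node (.leaf 0) (.leaf 0))))) (.node (.node (.node (.node (.leaf 0) (.leaf 0)) (.node (.leaf 0) (.leaf 0))) (.node (.node (.leaf 0) (.leaf 0)) (.node (.leaf 0) (.leaf 0)))) (.node (.node (.node (.leaf 0) (.leaf 0)) (.node (.leaf 0) (.leaf 0))) (.node (.node (.leaf 0) (.leaf 0)) (.node (.leaf 0) (.leaf 0)))))) (.node (.node (.node (.node (.node (.leaf 0) (.leaf 0)) (.node (.leaf 0) (.leaf 0))) (.node (.node (.leaf 0) (.leaf 0)) (.node (.leaf 0) (.leaf 0)))) (.node (.node (.node (.leaf 0) (.leaf 0)) (.node (.leaf 0) (.leaf 0))) (.node (.node (.leaf 0) (.leaf 0)) (.node (.leaf 0) (.leaf 0))))) (.node (.node (.node (.node (.leaf 0) (.leaf 0)) (.node (.leaf 0) (.leaf 0))) (.node (.node (.leaf 0) (.leaf 0)) (.node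 (.leaf 0) (.leaf 0)))) (.node (.node (.node (.leaf 0) (.leaf 0)) (.node (.leaf 0) (.leaf 0))) (.node (.node (.leaf 0) (.leaf 0)) (.node (.leaf 0) (.leaf 0)))))))

/-- A suborbit and a mover, part 372. -/
def redCodePart372 : Janko1.Tree ℕ := (.node (.node (.node (.node (.node (.node (.leaf 0) (.leaf 0)) (.node (.leaf 0) (.leaf 0))) (.node (.node (.leaf 0) (.leaf 0)) (.node (.leaf 0) (.leaf 0)))) (.node (.node (.node (.leaf 0) (.leaf 0)) (.node (.leaf 0) (.leaf 0))) (.node (.node (.leaf 0) (.leaf 0)) (.node (.leaf 0) (.leaf 0))))) (.node (.node (.node (.node (.leaf 0) (.leaf 0)) (.node (.leaf 0) (.leaf 0))) (.node (.node (.leaf 0) (.leaf 0)) (.node (.leaf 0) (.leaf 0)))) (.node (.node (.node (.leaf 0) (.leaf 0)) (.node (.leaf 0) (.leaf 0))) (.node (.node (.leaf 0) (.leaf 0)) (.node (.leaf 0) (.leaf 0)))))) (.node (.node (.node (.node (.node (.leaf 0) (.leaf 0)) (.node (.leaf 0) (.leaf 0))) (.node (.node (.leaf 0) (.leaf 0)) (.node (.leaf 0) (.leaf 0)))) (.node (.node (.node (.leaf 0) (.leaf 0)) (.node (.leaf 0) (.leaf 0))) (.node (.node (.leaf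 0) (.leaf 0)) (.node (.leaf 0) (.leaf 0))))) (.node (.node (.node (.node (.leaf 0) (.leaf 0)) (.node (.leaf 0) (.leaf 0))) (.node (.node (.leaf 0) (.leaf 0)) (.node (.leaf 0) (.leaf 0)))) (.node (.node (.node (.leaf 0) (.leaf 0)) (.node (.leaf 0) (.leaf 0))) (.node (.node (.leaf 0) (.leaf 0)) (.node (.leaf 0) (.leaf 0)))))))

/-- A suborbit and a mover, part 373. -/
def redCodePart373 : Janko1.Tree ℕ := (.node (.node (.node (.node (.node (.node (.leaf 0) (.leaf 0)) (.node (.leaf 0) (.leaf 0))) (.node (.node (.leaf 0) (.leaf 0)) (.node (.leaf 0) (.leaf 0)))) (.node (.node (.node (.leaf 0) (.leaf 0)) (.node (.leaf 0) (.leaf 0))) (.node (.node (.leaf 0) (.leaf 0)) (.node (.leaf 0) (.leaf 0))))) (.node (.node (.node (.node (.leaf 0) (.leaf 0)) (.node (.leaf 0) (.leaf 0))) (.node (.node (.leaf 0) (.leaf 0)) (.node (.leaf 0) (.leaf 0)))) (.node (.node (.node (.leaf 0) (.leaf 0)) (.node (.leaf 0) (.leaf 0))) (.node (.node (.leaf 0) (.leaf 0)) (.node (.leaf 0) (.leaf 0)))))) (.node (.node (.node (.node (.node (.leaf 0) (.leaf 0)) (.node (.leaf 0) (.leaf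 0))) (.node (.node (.leaf 0) (.leaf 0)) (.node (.leaf 0) (.leaf 0)))) (.node (.node (.node (.leaf 0) (.leaf 0)) (.node (.leaf 0) (.leaf 0))) (.node (.node (.leaf 0) (.leaf 0)) (.node (.leaf 0) (.leaf 0))))) (.node (.node (.node (.node (.leaf 0) (.leaf 0)) (.node (.leaf 0) (.leaf 0))) (.node (.node (.leaf 0) (.leaf 0)) (.node (.leaf 0) (.leaf 0)))) (.node (.node (.node (.leaf 0) (.leaf 0)) (.node (.leaf 0) (.leaf 0))) (.node (.node (.leaf 0) (.leaf 0)) (.node (.leaf 0) (.leaf 0)))))))

/-- A suborbit and a mover, part 374. -/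
def redCodePart374 : Janko1.Tree ℕ := (.node (.node (.node (.node (.node (.node (.leaf 0) (.leaf 0)) (.node (.leaf 0) (.leaf 0))) (.node (.node (.leaf 0) (.leaf 0)) (.node (.leaf 0) (.leaf 0)))) (.node (.node (.node (.leaf 0) (.leaf 0)) (.node (.leaf 0) (.leaf 0))) (.node (.node (.leaf 0) (.leaf 0)) (.node (.leaf 0) (.leaf 0))))) (.node (.node (.node (.node (.leaf 0) (.leaf 0)) (.node (.leaf 0) (.leaf 0))) (.node (.node (.leaf 0) (.leaf 0)) (.node (.leaf 0) (.leaf 0)))) (.node (.node (.node (.leaf 0) (.leaf 0)) (.node (.leaf 0) (.leaf 0))) (.node (.node (.leaf 0) (.leaf 0)) (.node (.leaf 0) (.leaf 0)))))) (.node (.node (.node (.node (.node (.leaf 0) (.leaf 0)) (.node (.leaf 0) (.leaf 0))) (.node (.node (.leaf 0) (.leaf 0)) (.node (.leaf 0) (.leaf 0)))) (.node (.node (.node (.leaf 0) (.leaf 0)) (.node (.leaf 0) (.leaf 0))) (.node (.node (.leaf 0) (.leaf 0)) (.node (.leaf 0) (.leaf 0))))) (.node (.node (.node (.node (.leaf 0) (.leaf 0)) (.node (.leaf 0) (.leaf 0))) (.node (.node (.leaf 0) (.leaf 0)) (.node (.leaf 0) (.leaf 0)))) (.node (.node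 (.node (.leaf 0) (.leaf 0)) (.node (.leaf 0) (.leaf 0))) (.node (.node (.leaf 0) (.leaf 0)) (.node (.leaf 0) (.leaf 0)))))))

/-- A suborbit and a mover, part 375. -/
def redCodePart375 : Janko1.Tree ℕ := (.node (.node (.node (.node (.node (.node (.leaf 0) (.leaf 0)) (.node (.leaf 0) (.leaf 0))) (.node (.node (.leaf 0) (.leaf 0)) (.node (.leaf 0) (.leaf 0)))) (.node (.node (.node (.leaf 0) (.leaf 0)) (.node (.leaf 0) (.leaf 0))) (.node (.node (.leaf 0) (.leaf 0)) (.node (.leaf 0) (.leaf 0))))) (.node (.node (.node (.node (.leaf 0) (.leaf 0)) (.node (.leaf 0) (.leaf 0))) (.node (.node (.leaf 0) (.leaf 0)) (.node (.leaf 0) (.leaf 0)))) (.node (.node (.node (.leaf 0) (.leaf 0)) (.node (.leaf 0) (.leaf 0))) (.node (.node (.leaf 0) (.leaf 0)) (.node (.leaf 0) (.leaf 0)))))) (.node (.node (.node (.node (.node (.leaf 0) (.leaf 0)) (.node (.leaf 0) (.leaf 0))) (.node (.node (.leaf 0) (.leaf 0)) (.node (.leaf 0) (.leaf 0)))) (.node (.node (.node (.leaf 0) (.leaf 0)) (.node (.leaf 0) (.leaf 0))) (.node (.node (.leaf 0) (.leaf 0)) (.node (.leaf 0) (.leaf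 0))))) (.node (.node (.node (.node (.leaf 0) (.leaf 0)) (.node (.leaf 0) (.leaf 0))) (.node (.node (.leaf 0) (.leaf 0)) (.node (.leaf 0) (.leaf 0)))) (.node (.node (.node (.leaf 0) (.leaf 0)) (.node (.leaf 0) (.leaf 0))) (.node (.node (.leaf 0) (.leaf 0)) (.node (.leaf 0) (.leaf 0)))))))

/-- A suborbit and a mover, part 376. -/
def redCodePart376 : Janko1.Tree ℕ := (.node (.node (.node (.node (.node (.node (.leaf 0) (.leaf 0)) (.node (.leaf 0) (.leaf 0))) (.node (.node (.leaf 0) (.leaf 0)) (.node (.leaf 0) (.leaf 0)))) (.node (.node (.node (.leaf 0) (.leaf 0)) (.node (.leaf 0) (.leaf 0))) (.node (.node (.leaf 0) (.leaf 0)) (.node (.leaf 0) (.leaf 0))))) (.node (.node (.node (.node (.leaf 0) (.leaf 0)) (.node (.leaf 0) (.leaf 0))) (.node (.node (.leaf 0) (.leaf 0)) (.node (.leaf 0) (.leaf 0)))) (.node (.node (.node (.leaf 0) (.leaf 0)) (.node (.leaf 0) (.leaf 0))) (.node (.node (.leaf 0) (.leaf 0)) (.node (.leaf 0) (.leaf 0)))))) (.node (.node (.node (.node (.node (.leaf 0) (.leaf 0)) (.node (.leaf 0) (.leaf 0))) (.node (.node (.leaf 0) (.leaf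 0)) (.node (.leaf 0) (.leaf 0)))) (.node (.node (.node (.leaf 0) (.leaf 0)) (.node (.leaf 0) (.leaf 0))) (.node (.node (.leaf 0) (.leaf 0)) (.node (.leaf 0) (.leaf 0))))) (.node (.node (.node (.node (.leaf 0) (.leaf 0)) (.node (.leaf 0) (.leaf 0))) (.node (.node (.leaf 0) (.leaf 0)) (.node (.leaf 0) (.leaf 0)))) (.node (.node (.node (.leaf 0) (.leaf 0)) (.node (.leaf 0) (.leaf 0))) (.node (.node (.leaf 0) (.leaf 0)) (.node (.leaf 0) (.leaf 0)))))))

/-- A suborbit and a mover, part 377. -/
def redCodePart377 : Janko1.Tree ℕ := (.node (.node (.node (.node (.node (.node (.leaf 0) (.leaf 0)) (.node (.leaf 0) (.leaf 0))) (.node (.node (.leaf 0) (.leaf 0)) (.node (.leaf 0) (.leaf 0)))) (.node (.node (.node (.leaf 0) (.leaf 0)) (.node (.leaf 0) (.leaf 0))) (.node (.node (.leaf 0) (.leaf 0)) (.node (.leaf 0) (.leaf 0))))) (.node (.node (.node (.node (.leaf 0) (.leaf 0)) (.node (.leaf 0) (.leaf 0))) (.node (.node (.leaf 0) (.leaf 0)) (.node (.leaf 0) (.leaf 0)))) (.node (.node (.node (.leaf 0) (.leaf 0)) (.node (.leaf 0) (.leaf 0))) (.node (.node (.leaf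 0) (.leaf 0)) (.node (.leaf 0) (.leaf 0)))))) (.node (.node (.node (.node (.node (.leaf 0) (.leaf 0)) (.node (.leaf 0) (.leaf 0))) (.node (.node (.leaf 0) (.leaf 0)) (.node (.leaf 0) (.leaf 0)))) (.node (.node (.node (.leaf 0) (.leaf 0)) (.node (.leaf 0) (.leaf 0))) (.node (.node (.leaf 0) (.leaf 0)) (.node (.leaf 0) (.leaf 0))))) (.node (.node (.node (.node (.leaf 0) (.leaf 0)) (.node (.leaf 0) (.leaf 0))) (.node (.node (.leaf 0) (.leaf 0)) (.node (.leaf 0) (.leaf 0)))) (.node (.node (.node (.leaf 0) (.leaf 0)) (.node (.leaf 0) (.leaf 0))) (.node (.node (.leaf 0) (.leaf 0)) (.node (.leaf 0) (.leaf 0)))))))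

/-- A suborbit and a mover, part 378. -/
def redCodePart378 : Janko1.Tree ℕ := (.node (.node (.node (.node (.node (.node (.leaf 0) (.leaf 0)) (.node (.leaf 0) (.leaf 0))) (.node (.node (.leaf 0) (.leaf 0)) (.node (.leaf 0) (.leaf 0)))) (.node (.node (.node (.leaf 0) (.leaf 0)) (.node (.leaf 0) (.leaf 0))) (.node (.node (.leaf 0) (.leaf 0)) (.node (.leaf 0) (.leaf 0))))) (.node (.node (.node (.node (.leaf 0) (.leaf 0)) (.node (.leaf 0) (.leaf 0))) (.node (.node (.leaf 0) (.leaf 0)) (.node (.leaf 0) (.leaf 0)))) (.node (.node (.node (.leaf 0) (.leaf 0)) (.node (.leaf 0) (.leaf 0))) (.node (.node (.leaf 0) (.leaf 0)) (.node (.leaf 0) (.leaf 0)))))) (.node (.node (.node (.node (.node (.leaf 0) (.leaf 0)) (.node (.leaf 0) (.leaf 0))) (.node (.node (.leaf 0) (.leaf 0)) (.node (.leaf 0) (.leaf 0)))) (.node (.node (.node (.leaf 0) (.leaf 0)) (.node (.leaf 0) (.leaf 0))) (.node (.node (.leaf 0) (.leaf 0)) (.node (.leaf 0) (.leaf 0))))) (.node (.node (.node (.node (.leaf 0) (.leaf 0)) (.node (.leaf 0) (.leaf 0))) (.node (.node (.leaf 0) (.leaf 0)) (.node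 (.leaf 0) (.leaf 0)))) (.node (.node (.node (.leaf 0) (.leaf 0)) (.node (.leaf 0) (.leaf 0))) (.node (.node (.leaf 0) (.leaf 0)) (.node (.leaf 0) (.leaf 0)))))))

/-- A suborbit and a mover, part 379. -/
def redCodePart379 : Janko1.Tree ℕ := (.node (.node (.node (.node (.node (.node (.leaf 0) (.leaf 0)) (.node (.leaf 0) (.leaf 0))) (.node (.node (.leaf 0) (.leaf 0)) (.node (.leaf 0) (.leaf 0)))) (.node (.node (.node (.leaf 0) (.leaf 0)) (.node (.leaf 0) (.leaf 0))) (.node (.node (.leaf 0) (.leaf 0)) (.node (.leaf 0) (.leaf 0))))) (.node (.node (.node (.node (.leaf 0) (.leaf 0)) (.node (.leaf 0) (.leaf 0))) (.node (.node (.leaf 0) (.leaf 0)) (.node (.leaf 0) (.leaf 0)))) (.node (.node (.node (.leaf 0) (.leaf 0)) (.node (.leaf 0) (.leaf 0))) (.node (.node (.leaf 0) (.leaf 0)) (.node (.leaf 0) (.leaf 0)))))) (.node (.node (.node (.node (.node (.leaf 0) (.leaf 0)) (.node (.leaf 0) (.leaf 0))) (.node (.node (.leaf 0) (.leaf 0)) (.node (.leaf 0) (.leaf 0)))) (.node (.node (.node (.leaf 0) (.leaf 0)) (.node (.leaf 0) (.leaf 0))) (.node (.node (.leaf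 0) (.leaf 0)) (.node (.leaf 0) (.leaf 0))))) (.node (.node (.node (.node (.leaf 0) (.leaf 0)) (.node (.leaf 0) (.leaf 0))) (.node (.node (.leaf 0) (.leaf 0)) (.node (.leaf 0) (.leaf 0)))) (.node (.node (.node (.leaf 0) (.leaf 0)) (.node (.leaf 0) (.leaf 0))) (.node (.node (.leaf 0) (.leaf 0)) (.node (.leaf 0) (.leaf 0)))))))

/-- A suborbit and a mover, part 380. -/
def redCodePart380 : Janko1.Tree ℕ := (.node (.node (.node (.node (.node (.node (.leaf 0) (.leaf 0)) (.node (.leaf 0) (.leaf 0))) (.node (.node (.leaf 0) (.leaf 0)) (.node (.leaf 0) (.leaf 0)))) (.node (.node (.node (.leaf 0) (.leaf 0)) (.node (.leaf 0) (.leaf 0))) (.node (.node (.leaf 0) (.leaf 0)) (.node (.leaf 0) (.leaf 0))))) (.node (.node (.node (.node (.leaf 0) (.leaf 0)) (.node (.leaf 0) (.leaf 0))) (.node (.node (.leaf 0) (.leaf 0)) (.node (.leaf 0) (.leaf 0)))) (.node (.node (.node (.leaf 0) (.leaf 0)) (.node (.leaf 0) (.leaf 0))) (.node (.node (.leaf 0) (.leaf 0)) (.node (.leaf 0) (.leaf 0)))))) (.node (.node (.node (.node (.node (.leaf 0) (.leaf 0)) (.node (.leaf 0) (.leaf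 0))) (.node (.node (.leaf 0) (.leaf 0)) (.node (.leaf 0) (.leaf 0)))) (.node (.node (.node (.leaf 0) (.leaf 0)) (.node (.leaf 0) (.leaf 0))) (.node (.node (.leaf 0) (.leaf 0)) (.node (.leaf 0) (.leaf 0))))) (.node (.node (.node (.node (.leaf 0) (.leaf 0)) (.node (.leaf 0) (.leaf 0))) (.node (.node (.leaf 0) (.leaf 0)) (.node (.leaf 0) (.leaf 0)))) (.node (.node (.node (.leaf 0) (.leaf 0)) (.node (.leaf 0) (.leaf 0))) (.node (.node (.leaf 0) (.leaf 0)) (.node (.leaf 0) (.leaf 0)))))))

/-- A suborbit and a mover, part 381. -/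
def redCodePart381 : Janko1.Tree ℕ := (.node (.node (.node (.node (.node (.node (.leaf 0) (.leaf 0)) (.node (.leaf 0) (.leaf 0))) (.node (.node (.leaf 0) (.leaf 0)) (.node (.leaf 0) (.leaf 0)))) (.node (.node (.node (.leaf 0) (.leaf 0)) (.node (.leaf 0) (.leaf 0))) (.node (.node (.leaf 0) (.leaf 0)) (.node (.leaf 0) (.leaf 0))))) (.node (.node (.node (.node (.leaf 0) (.leaf 0)) (.node (.leaf 0) (.leaf 0))) (.node (.node (.leaf 0) (.leaf 0)) (.node (.leaf 0) (.leaf 0)))) (.node (.node (.node (.leaf 0) (.leaf 0)) (.node (.leaf 0) (.leaf 0))) (.node (.node (.leaf 0) (.leaf 0)) (.node (.leaf 0) (.leaf 0)))))) (.node (.node (.node (.node (.node (.leaf 0) (.leaf 0)) (.node (.leaf 0) (.leaf 0))) (.node (.node (.leaf 0) (.leaf 0)) (.node (.leaf 0) (.leaf 0)))) (.node (.node (.node (.leaf 0) (.leaf 0)) (.node (.leaf 0) (.leaf 0))) (.node (.node (.leaf 0) (.leaf 0)) (.node (.leaf 0) (.leaf 0))))) (.node (.node (.node (.node (.leaf 0) (.leaf 0)) (.node (.leaf 0) (.leaf 0))) (.node (.node (.leaf 0) (.leaf 0)) (.node (.leaf 0) (.leaf 0)))) (.node (.node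 (.node (.leaf 0) (.leaf 0)) (.node (.leaf 0) (.leaf 0))) (.node (.node (.leaf 0) (.leaf 0)) (.node (.leaf 0) (.leaf 0)))))))

/-- A suborbit and a mover, part 382. -/
def redCodePart382 : Janko1.Tree ℕ := (.node (.node (.node (.node (.node (.node (.leaf 0) (.leaf 0)) (.node (.leaf 0) (.leaf 0))) (.node (.node (.leaf 0) (.leaf 0)) (.node (.leaf 0) (.leaf 0)))) (.node (.node (.node (.leaf 0) (.leaf 0)) (.node (.leaf 0) (.leaf 0))) (.node (.node (.leaf 0) (.leaf 0)) (.node (.leaf 0) (.leaf 0))))) (.node (.node (.node (.node (.leaf 0) (.leaf 0)) (.node (.leaf 0) (.leaf 0))) (.node (.node (.leaf 0) (.leaf 0)) (.node (.leaf 0) (.leaf 0)))) (.node (.node (.node (.leaf 0) (.leaf 0)) (.node (.leaf 0) (.leaf 0))) (.node (.node (.leaf 0) (.leaf 0)) (.node (.leaf 0) (.leaf 0)))))) (.node (.node (.node (.node (.node (.leaf 0) (.leaf 0)) (.node (.leaf 0) (.leaf 0))) (.node (.node (.leaf 0) (.leaf 0)) (.node (.leaf 0) (.leaf 0)))) (.node (.node (.node (.leaf 0) (.leaf 0)) (.node (.leaf 0) (.leaf 0))) (.node (.node (.leaf 0) (.leaf 0)) (.node (.leaf 0) (.leaf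 0))))) (.node (.node (.node (.node (.leaf 0) (.leaf 0)) (.node (.leaf 0) (.leaf 0))) (.node (.node (.leaf 0) (.leaf 0)) (.node (.leaf 0) (.leaf 0)))) (.node (.node (.node (.leaf 0) (.leaf 0)) (.node (.leaf 0) (.leaf 0))) (.node (.node (.leaf 0) (.leaf 0)) (.node (.leaf 0) (.leaf 0)))))))

/-- A suborbit and a mover, part 383. -/
def redCodePart383 : Janko1.Tree ℕ := (.node (.node (.node (.node (.node (.node (.leaf 0) (.leaf 0)) (.node (.leaf 0) (.leaf 0))) (.node (.node (.leaf 0) (.leaf 0)) (.node (.leaf 0) (.leaf 0)))) (.node (.node (.node (.leaf 0) (.leaf 0)) (.node (.leaf 0) (.leaf 0))) (.node (.node (.leaf 0) (.leaf 0)) (.node (.leaf 0) (.leaf 0))))) (.node (.node (.node (.node (.leaf 0) (.leaf 0)) (.node (.leaf 0) (.leaf 0))) (.node (.node (.leaf 0) (.leaf 0)) (.node (.leaf 0) (.leaf 0)))) (.node (.node (.node (.leaf 0) (.leaf 0)) (.node (.leaf 0) (.leaf 0))) (.node (.node (.leaf 0) (.leaf 0)) (.node (.leaf 0) (.leaf 0)))))) (.node (.node (.node (.node (.node (.leaf 0) (.leaf 0)) (.node (.leaf 0) (.leaf 0))) (.node (.node (.leaf 0) (.leaf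 0)) (.node (.leaf 0) (.leaf 0)))) (.node (.node (.node (.leaf 0) (.leaf 0)) (.node (.leaf 0) (.leaf 0))) (.node (.node (.leaf 0) (.leaf 0)) (.node (.leaf 0) (.leaf 0))))) (.node (.node (.node (.node (.leaf 0) (.leaf 0)) (.node (.leaf 0) (.leaf 0))) (.node (.node (.leaf 0) (.leaf 0)) (.node (.leaf 0) (.leaf 0)))) (.node (.node (.node (.leaf 0) (.leaf 0)) (.node (.leaf 0) (.leaf 0))) (.node (.node (.leaf 0) (.leaf 0)) (.node (.leaf 0) (.leaf 0)))))))

/-- A suborbit and a mover, part 384. -/
def redCodePart384 : Janko1.Tree ℕ := (.node (.node (.node (.node (.node (.node (.leaf 0) (.leaf 0)) (.node (.leaf 0) (.leaf 0))) (.node (.node (.leaf 0) (.leaf 0)) (.node (.leaf 0) (.leaf 0)))) (.node (.node (.node (.leaf 0) (.leaf 0)) (.node (.leaf 0) (.leaf 0))) (.node (.node (.leaf 0) (.leaf 0)) (.node (.leaf 0) (.leaf 0))))) (.node (.node (.node (.node (.leaf 0) (.leaf 0)) (.node (.leaf 0) (.leaf 0))) (.node (.node (.leaf 0) (.leaf 0)) (.node (.leaf 0) (.leaf 0)))) (.node (.node (.node (.leaf 0) (.leaf 0)) (.node (.leaf 0) (.leaf 0))) (.node (.node (.leaf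 0) (.leaf 0)) (.node (.leaf 0) (.leaf 0)))))) (.node (.node (.node (.node (.node (.leaf 0) (.leaf 0)) (.node (.leaf 0) (.leaf 0))) (.node (.node (.leaf 0) (.leaf 0)) (.node (.leaf 0) (.leaf 0)))) (.node (.node (.node (.leaf 0) (.leaf 0)) (.node (.leaf 0) (.leaf 0))) (.node (.node (.leaf 0) (.leaf 0)) (.node (.leaf 0) (.leaf 0))))) (.node (.node (.node (.node (.leaf 0) (.leaf 0)) (.node (.leaf 0) (.leaf 0))) (.node (.node (.leaf 0) (.leaf 0)) (.node (.leaf 0) (.leaf 0)))) (.node (.node (.node (.leaf 0) (.leaf 0)) (.node (.leaf 0) (.leaf 0))) (.node (.node (.leaf 0) (.leaf 0)) (.node (.leaf 0) (.leaf 0)))))))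

/-- A suborbit and a mover, part 385. -/
def redCodePart385 : Janko1.Tree ℕ := (.node (.node (.node (.node (.node (.node (.leaf 0) (.leaf 0)) (.node (.leaf 0) (.leaf 0))) (.node (.node (.leaf 0) (.leaf 0)) (.node (.leaf 0) (.leaf 0)))) (.node (.node (.node (.leaf 0) (.leaf 0)) (.node (.leaf 0) (.leaf 0))) (.node (.node (.leaf 0) (.leaf 0)) (.node (.leaf 0) (.leaf 0))))) (.node (.node (.node (.node (.leaf 0) (.leaf 0)) (.node (.leaf 0) (.leaf 0))) (.node (.node (.leaf 0) (.leaf 0)) (.node (.leaf 0) (.leaf 0)))) (.node (.node (.node (.leaf 0) (.leaf 0)) (.node (.leaf 0) (.leaf 0))) (.node (.node (.leaf 0) (.leaf 0)) (.node (.leaf 0) (.leaf 0)))))) (.node (.node (.node (.node (.node (.leaf 0) (.leaf 0)) (.node (.leaf 0) (.leaf 0))) (.node (.node (.leaf 0) (.leaf 0)) (.node (.leaf 0) (.leaf 0)))) (.node (.node (.node (.leaf 0) (.leaf 0)) (.node (.leaf 0) (.leaf 0))) (.node (.node (.leaf 0) (.leaf 0)) (.node (.leaf 0) (.leaf 0))))) (.node (.node (.node (.node (.leaf 0) (.leaf 0)) (.node (.leaf 0) (.leaf 0))) (.node (.node (.leaf 0) (.leaf 0)) (.node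 (.leaf 0) (.leaf 0)))) (.node (.node (.node (.leaf 0) (.leaf 0)) (.node (.leaf 0) (.leaf 0))) (.node (.node (.leaf 0) (.leaf 0)) (.node (.leaf 0) (.leaf 0)))))))

/-- A suborbit and a mover, part 386. -/
def redCodePart386 : Janko1.Tree ℕ := (.node (.node (.node (.node (.node (.node (.leaf 0) (.leaf 0)) (.node (.leaf 0) (.leaf 0))) (.node (.node (.leaf 0) (.leaf 0)) (.node (.leaf 0) (.leaf 0)))) (.node (.node (.node (.leaf 0) (.leaf 0)) (.node (.leaf 0) (.leaf 0))) (.node (.node (.leaf 0) (.leaf 0)) (.node (.leaf 0) (.leaf 0))))) (.node (.node (.node (.node (.leaf 0) (.leaf 0)) (.node (.leaf 0) (.leaf 0))) (.node (.node (.leaf 0) (.leaf 0)) (.node (.leaf 0) (.leaf 0)))) (.node (.node (.node (.leaf 0) (.leaf 0)) (.node (.leaf 0) (.leaf 0))) (.node (.node (.leaf 0) (.leaf 0)) (.node (.leaf 0) (.leaf 0)))))) (.node (.node (.node (.node (.node (.leaf 0) (.leaf 0)) (.node (.leaf 0) (.leaf 0))) (.node (.node (.leaf 0) (.leaf 0)) (.node (.leaf 0) (.leaf 0)))) (.node (.node (.node (.leaf 0) (.leaf 0)) (.node (.leaf 0) (.leaf 0))) (.node (.node (.leaf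 0) (.leaf 0)) (.node (.leaf 0) (.leaf 0))))) (.node (.node (.node (.node (.leaf 0) (.leaf 0)) (.node (.leaf 0) (.leaf 0))) (.node (.node (.leaf 0) (.leaf 0)) (.node (.leaf 0) (.leaf 0)))) (.node (.node (.node (.leaf 0) (.leaf 0)) (.node (.leaf 0) (.leaf 0))) (.node (.node (.leaf 0) (.leaf 0)) (.node (.leaf 0) (.leaf 0)))))))

/-- A suborbit and a mover, part 387. -/
def redCodePart387 : Janko1.Tree ℕ := (.node (.node (.node (.node (.node (.node (.leaf 0) (.leaf 0)) (.node (.leaf 0) (.leaf 0))) (.node (.node (.leaf 0) (.leaf 0)) (.node (.leaf 0) (.leaf 0)))) (.node (.node (.node (.leaf 0) (.leaf 0)) (.node (.leaf 0) (.leaf 0))) (.node (.node (.leaf 0) (.leaf 0)) (.node (.leaf 0) (.leaf 0))))) (.node (.node (.node (.node (.leaf 0) (.leaf 0)) (.node (.leaf 0) (.leaf 0))) (.node (.node (.leaf 0) (.leaf 0)) (.node (.leaf 0) (.leaf 0)))) (.node (.node (.node (.leaf 0) (.leaf 0)) (.node (.leaf 0) (.leaf 0))) (.node (.node (.leaf 0) (.leaf 0)) (.node (.leaf 0) (.leaf 0)))))) (.node (.node (.node (.node (.node (.leaf 0) (.leaf 0)) (.node (.leaf 0) (.leaf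 0))) (.node (.node (.leaf 0) (.leaf 0)) (.node (.leaf 0) (.leaf 0)))) (.node (.node (.node (.leaf 0) (.leaf 0)) (.node (.leaf 0) (.leaf 0))) (.node (.node (.leaf 0) (.leaf 0)) (.node (.leaf 0) (.leaf 0))))) (.node (.node (.node (.node (.leaf 0) (.leaf 0)) (.node (.leaf 0) (.leaf 0))) (.node (.node (.leaf 0) (.leaf 0)) (.node (.leaf 0) (.leaf 0)))) (.node (.node (.node (.leaf 0) (.leaf 0)) (.node (.leaf 0) (.leaf 0))) (.node (.node (.leaf 0) (.leaf 0)) (.node (.leaf 0) (.leaf 0)))))))

/-- A suborbit and a mover, part 388. -/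
def redCodePart388 : Janko1.Tree ℕ := (.node (.node (.node (.node (.node (.node (.leaf 0) (.leaf 0)) (.node (.leaf 0) (.leaf 0))) (.node (.node (.leaf 0) (.leaf 0)) (.node (.leaf 0) (.leaf 0)))) (.node (.node (.node (.leaf 0) (.leaf 0)) (.node (.leaf 0) (.leaf 0))) (.node (.node (.leaf 0) (.leaf 0)) (.node (.leaf 0) (.leaf 0))))) (.node (.node (.node (.node (.leaf 0) (.leaf 0)) (.node (.leaf 0) (.leaf 0))) (.node (.node (.leaf 0) (.leaf 0)) (.node (.leaf 0) (.leaf 0)))) (.node (.node (.node (.leaf 0) (.leaf 0)) (.node (.leaf 0) (.leaf 0))) (.node (.node (.leaf 0) (.leaf 0)) (.node (.leaf 0) (.leaf 0)))))) (.node (.node (.node (.node (.node (.leaf 0) (.leaf 0)) (.node (.leaf 0) (.leaf 0))) (.node (.node (.leaf 0) (.leaf 0)) (.node (.leaf 0) (.leaf 0)))) (.node (.node (.node (.leaf 0) (.leaf 0)) (.node (.leaf 0) (.leaf 0))) (.node (.node (.leaf 0) (.leaf 0)) (.node (.leaf 0) (.leaf 0))))) (.node (.node (.node (.node (.leaf 0) (.leaf 0)) (.node (.leaf 0) (.leaf 0))) (.node (.node (.leaf 0) (.leaf 0)) (.node (.leaf 0) (.leaf 0)))) (.node (.node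 (.node (.leaf 0) (.leaf 0)) (.node (.leaf 0) (.leaf 0))) (.node (.node (.leaf 0) (.leaf 0)) (.node (.leaf 0) (.leaf 0)))))))

/-- A suborbit and a mover, part 389. -/
def redCodePart389 : Janko1.Tree ℕ := (.node (.node (.node (.node (.node (.node (.leaf 0) (.leaf 0)) (.node (.leaf 0) (.leaf 0))) (.node (.node (.leaf 0) (.leaf 0)) (.node (.leaf 0) (.leaf 0)))) (.node (.node (.node (.leaf 0) (.leaf 0)) (.node (.leaf 0) (.leaf 0))) (.node (.node (.leaf 0) (.leaf 0)) (.node (.leaf 0) (.leaf 0))))) (.node (.node (.node (.node (.leaf 0) (.leaf 0)) (.node (.leaf 0) (.leaf 0))) (.node (.node (.leaf 0) (.leaf 0)) (.node (.leaf 0) (.leaf 0)))) (.node (.node (.node (.leaf 0) (.leaf 0)) (.node (.leaf 0) (.leaf 0))) (.node (.node (.leaf 0) (.leaf 0)) (.node (.leaf 0) (.leaf 0)))))) (.node (.node (.node (.node (.node (.leaf 0) (.leaf 0)) (.node (.leaf 0) (.leaf 0))) (.node (.node (.leaf 0) (.leaf 0)) (.node (.leaf 0) (.leaf 0)))) (.node (.node (.node (.leaf 0) (.leaf 0)) (.node (.leaf 0) (.leaf 0))) (.node (.node (.leaf 0) (.leaf 0)) (.node (.leaf 0) (.leaf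 0))))) (.node (.node (.node (.node (.leaf 0) (.leaf 0)) (.node (.leaf 0) (.leaf 0))) (.node (.node (.leaf 0) (.leaf 0)) (.node (.leaf 0) (.leaf 0)))) (.node (.node (.node (.leaf 0) (.leaf 0)) (.node (.leaf 0) (.leaf 0))) (.node (.node (.leaf 0) (.leaf 0)) (.node (.leaf 0) (.leaf 0)))))))

/-- A suborbit and a mover, part 390. -/
def redCodePart390 : Janko1.Tree ℕ := (.node (.node (.node (.node (.node (.node (.leaf 0) (.leaf 0)) (.node (.leaf 0) (.leaf 0))) (.node (.node (.leaf 0) (.leaf 0)) (.node (.leaf 0) (.leaf 0)))) (.node (.node (.node (.leaf 0) (.leaf 0)) (.node (.leaf 0) (.leaf 0))) (.node (.node (.leaf 0) (.leaf 0)) (.node (.leaf 0) (.leaf 0))))) (.node (.node (.node (.node (.leaf 0) (.leaf 0)) (.node (.leaf 0) (.leaf 0))) (.node (.node (.leaf 0) (.leaf 0)) (.node (.leaf 0) (.leaf 0)))) (.node (.node (.node (.leaf 0) (.leaf 0)) (.node (.leaf 0) (.leaf 0))) (.node (.node (.leaf 0) (.leaf 0)) (.node (.leaf 0) (.leaf 0)))))) (.node (.node (.node (.node (.node (.leaf 0) (.leaf 0)) (.node (.leaf 0) (.leaf 0))) (.node (.node (.leaf 0) (.leaf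 0)) (.node (.leaf 0) (.leaf 0)))) (.node (.node (.node (.leaf 0) (.leaf 0)) (.node (.leaf 0) (.leaf 0))) (.node (.node (.leaf 0) (.leaf 0)) (.node (.leaf 0) (.leaf 0))))) (.node (.node (.node (.node (.leaf 0) (.leaf 0)) (.node (.leaf 0) (.leaf 0))) (.node (.node (.leaf 0) (.leaf 0)) (.node (.leaf 0) (.leaf 0)))) (.node (.node (.node (.leaf 0) (.leaf 0)) (.node (.leaf 0) (.leaf 0))) (.node (.node (.leaf 0) (.leaf 0)) (.node (.leaf 0) (.leaf 0)))))))

/-- A suborbit and a mover, part 391. -/
def redCodePart391 : Janko1.Tree ℕ := (.node (.node (.node (.node (.node (.node (.leaf 0) (.leaf 0)) (.node (.leaf 0) (.leaf 0))) (.node (.node (.leaf 0) (.leaf 0)) (.node (.leaf 0) (.leaf 0)))) (.node (.node (.node (.leaf 0) (.leaf 0)) (.node (.leaf 0) (.leaf 0))) (.node (.node (.leaf 0) (.leaf 0)) (.node (.leaf 0) (.leaf 0))))) (.node (.node (.node (.node (.leaf 0) (.leaf 0)) (.node (.leaf 0) (.leaf 0))) (.node (.node (.leaf 0) (.leaf 0)) (.node (.leaf 0) (.leaf 0)))) (.node (.node (.node (.leaf 0) (.leaf 0)) (.node (.leaf 0) (.leaf 0))) (.node (.node (.leaf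 0) (.leaf 0)) (.node (.leaf 0) (.leaf 0)))))) (.node (.node (.node (.node (.node (.leaf 0) (.leaf 0)) (.node (.leaf 0) (.leaf 0))) (.node (.node (.leaf 0) (.leaf 0)) (.node (.leaf 0) (.leaf 0)))) (.node (.node (.node (.leaf 0) (.leaf 0)) (.node (.leaf 0) (.leaf 0))) (.node (.node (.leaf 0) (.leaf 0)) (.node (.leaf 0) (.leaf 0))))) (.node (.node (.node (.node (.leaf 0) (.leaf 0)) (.node (.leaf 0) (.leaf 0))) (.node (.node (.leaf 0) (.leaf 0)) (.node (.leaf 0) (.leaf 0)))) (.node (.node (.node (.leaf 0) (.leaf 0)) (.node (.leaf 0) (.leaf 0))) (.node (.node (.leaf 0) (.leaf 0)) (.node (.leaf 0) (.leaf 0)))))))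

/-- A suborbit and a mover, part 392. -/
def redCodePart392 : Janko1.Tree ℕ := (.node (.node (.node (.node (.node (.node (.leaf 0) (.leaf 0)) (.node (.leaf 0) (.leaf 0))) (.node (.node (.leaf 0) (.leaf 0)) (.node (.leaf 0) (.leaf 0)))) (.node (.node (.node (.leaf 0) (.leaf 0)) (.node (.leaf 0) (.leaf 0))) (.node (.node (.leaf 0) (.leaf 0)) (.node (.leaf 0) (.leaf 0))))) (.node (.node (.node (.node (.leaf 0) (.leaf 0)) (.node (.leaf 0) (.leaf 0))) (.node (.node (.leaf 0) (.leaf 0)) (.node (.leaf 0) (.leaf 0)))) (.node (.node (.node (.leaf 0) (.leaf 0)) (.node (.leaf 0) (.leaf 0))) (.node (.node (.leaf 0) (.leaf 0)) (.node (.leaf 0) (.leaf 0)))))) (.node (.node (.node (.node (.node (.leaf 0) (.leaf 0)) (.node (.leaf 0) (.leaf 0))) (.node (.node (.leaf 0) (.leaf 0)) (.node (.leaf 0) (.leaf 0)))) (.node (.node (.node (.leaf 0) (.leaf 0)) (.node (.leaf 0) (.leaf 0))) (.node (.node (.leaf 0) (.leaf 0)) (.node (.leaf 0) (.leaf 0))))) (.node (.node (.node (.node (.leaf 0) (.leaf 0)) (.node (.leaf 0) (.leaf 0))) (.node (.node (.leaf 0) (.leaf 0)) (.node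 (.leaf 0) (.leaf 0)))) (.node (.node (.node (.leaf 0) (.leaf 0)) (.node (.leaf 0) (.leaf 0))) (.node (.node (.leaf 0) (.leaf 0)) (.node (.leaf 0) (.leaf 0)))))))

/-- A suborbit and a mover, part 393. -/
def redCodePart393 : Janko1.Tree ℕ := (.node (.node (.node (.node (.node (.node (.leaf 0) (.leaf 0)) (.node (.leaf 0) (.leaf 0))) (.node (.node (.leaf 0) (.leaf 0)) (.node (.leaf 0) (.leaf 0)))) (.node (.node (.node (.leaf 0) (.leaf 0)) (.node (.leaf 0) (.leaf 0))) (.node (.node (.leaf 0) (.leaf 0)) (.node (.leaf 0) (.leaf 0))))) (.node (.node (.node (.node (.leaf 0) (.leaf 0)) (.node (.leaf 0) (.leaf 0))) (.node (.node (.leaf 0) (.leaf 0)) (.node (.leaf 0) (.leaf 0)))) (.node (.node (.node (.leaf 0) (.leaf 0)) (.node (.leaf 0) (.leaf 0))) (.node (.node (.leaf 0) (.leaf 0)) (.node (.leaf 0) (.leaf 0)))))) (.node (.node (.node (.node (.node (.leaf 0) (.leaf 0)) (.node (.leaf 0) (.leaf 0))) (.node (.node (.leaf 0) (.leaf 0)) (.node (.leaf 0) (.leaf 0)))) (.node (.node (.node (.leaf 0) (.leaf 0)) (.node (.leaf 0) (.leaf 0))) (.node (.node (.leaf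 0) (.leaf 0)) (.node (.leaf 0) (.leaf 0))))) (.node (.node (.node (.node (.leaf 0) (.leaf 0)) (.node (.leaf 0) (.leaf 0))) (.node (.node (.leaf 0) (.leaf 0)) (.node (.leaf 0) (.leaf 0)))) (.node (.node (.node (.leaf 0) (.leaf 0)) (.node (.leaf 0) (.leaf 0))) (.node (.node (.leaf 0) (.leaf 0)) (.node (.leaf 0) (.leaf 0)))))))

/-- A suborbit and a mover, part 394. -/
def redCodePart394 : Janko1.Tree ℕ := (.node (.node (.node (.node (.node (.node (.leaf 0) (.leaf 0)) (.node (.leaf 0) (.leaf 0))) (.node (.node (.leaf 0) (.leaf 0)) (.node (.leaf 0) (.leaf 0)))) (.node (.node (.node (.leaf 0) (.leaf 0)) (.node (.leaf 0) (.leaf 0))) (.node (.node (.leaf 0) (.leaf 0)) (.node (.leaf 0) (.leaf 0))))) (.node (.node (.node (.node (.leaf 0) (.leaf 0)) (.node (.leaf 0) (.leaf 0))) (.node (.node (.leaf 0) (.leaf 0)) (.node (.leaf 0) (.leaf 0)))) (.node (.node (.node (.leaf 0) (.leaf 0)) (.node (.leaf 0) (.leaf 0))) (.node (.node (.leaf 0) (.leaf 0)) (.node (.leaf 0) (.leaf 0)))))) (.node (.node (.node (.node (.node (.leaf 0) (.leaf 0)) (.node (.leaf 0) (.leaf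 0))) (.node (.node (.leaf 0) (.leaf 0)) (.node (.leaf 0) (.leaf 0)))) (.node (.node (.node (.leaf 0) (.leaf 0)) (.node (.leaf 0) (.leaf 0))) (.node (.node (.leaf 0) (.leaf 0)) (.node (.leaf 0) (.leaf 0))))) (.node (.node (.node (.node (.leaf 0) (.leaf 0)) (.node (.leaf 0) (.leaf 0))) (.node (.node (.leaf 0) (.leaf 0)) (.node (.leaf 0) (.leaf 0)))) (.node (.node (.node (.leaf 0) (.leaf 0)) (.node (.leaf 0) (.leaf 0))) (.node (.node (.leaf 0) (.leaf 0)) (.node (.leaf 0) (.leaf 0)))))))

/-- A suborbit and a mover, part 395. -/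
def redCodePart395 : Janko1.Tree ℕ := (.node (.node (.node (.node (.node (.node (.leaf 0) (.leaf 0)) (.node (.leaf 0) (.leaf 0))) (.node (.node (.leaf 0) (.leaf 0)) (.node (.leaf 0) (.leaf 0)))) (.node (.node (.node (.leaf 0) (.leaf 0)) (.node (.leaf 0) (.leaf 0))) (.node (.node (.leaf 0) (.leaf 0)) (.node (.leaf 0) (.leaf 0))))) (.node (.node (.node (.node (.leaf 0) (.leaf 0)) (.node (.leaf 0) (.leaf 0))) (.node (.node (.leaf 0) (.leaf 0)) (.node (.leaf 0) (.leaf 0)))) (.node (.node (.node (.leaf 0) (.leaf 0)) (.node (.leaf 0) (.leaf 0))) (.node (.node (.leaf 0) (.leaf 0)) (.node (.leaf 0) (.leaf 0)))))) (.node (.node (.node (.node (.node (.leaf 0) (.leaf 0)) (.node (.leaf 0) (.leaf 0))) (.node (.node (.leaf 0) (.leaf 0)) (.node (.leaf 0) (.leaf 0)))) (.node (.node (.node (.leaf 0) (.leaf 0)) (.node (.leaf 0) (.leaf 0))) (.node (.node (.leaf 0) (.leaf 0)) (.node (.leaf 0) (.leaf 0))))) (.node (.node (.node (.node (.leaf 0) (.leaf 0)) (.node (.leaf 0) (.leaf 0))) (.node (.node (.leaf 0) (.leaf 0)) (.node (.leaf 0) (.leaf 0)))) (.node (.node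 (.node (.leaf 0) (.leaf 0)) (.node (.leaf 0) (.leaf 0))) (.node (.node (.leaf 0) (.leaf 0)) (.node (.leaf 0) (.leaf 0)))))))

/-- A suborbit and a mover, part 396. -/
def redCodePart396 : Janko1.Tree ℕ := (.node (.node (.node (.node (.node (.node (.leaf 0) (.leaf 0)) (.node (.leaf 0) (.leaf 0))) (.node (.node (.leaf 0) (.leaf 0)) (.node (.leaf 0) (.leaf 0)))) (.node (.node (.node (.leaf 0) (.leaf 0)) (.node (.leaf 0) (.leaf 0))) (.node (.node (.leaf 0) (.leaf 0)) (.node (.leaf 0) (.leaf 0))))) (.node (.node (.node (.node (.leaf 0) (.leaf 0)) (.node (.leaf 0) (.leaf 0))) (.node (.node (.leaf 0) (.leaf 0)) (.node (.leaf 0) (.leaf 0)))) (.node (.node (.node (.leaf 0) (.leaf 0)) (.node (.leaf 0) (.leaf 0))) (.node (.node (.leaf 0) (.leaf 0)) (.node (.leaf 0) (.leaf 0)))))) (.node (.node (.node (.node (.node (.leaf 0) (.leaf 0)) (.node (.leaf 0) (.leaf 0))) (.node (.node (.leaf 0) (.leaf 0)) (.node (.leaf 0) (.leaf 0)))) (.node (.node (.node (.leaf 0) (.leaf 0)) (.node (.leaf 0) (.leaf 0))) (.node (.node (.leaf 0) (.leaf 0)) (.node (.leaf 0) (.leaf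 0))))) (.node (.node (.node (.node (.leaf 0) (.leaf 0)) (.node (.leaf 0) (.leaf 0))) (.node (.node (.leaf 0) (.leaf 0)) (.node (.leaf 0) (.leaf 0)))) (.node (.node (.node (.leaf 0) (.leaf 0)) (.node (.leaf 0) (.leaf 0))) (.node (.node (.leaf 0) (.leaf 0)) (.node (.leaf 0) (.leaf 0)))))))

/-- A suborbit and a mover, part 397. -/
def redCodePart397 : Janko1.Tree ℕ := (.node (.node (.node (.node (.node (.node (.leaf 0) (.leaf 0)) (.node (.leaf 0) (.leaf 0))) (.node (.node (.leaf 0) (.leaf 0)) (.node (.leaf 0) (.leaf 0)))) (.node (.node (.node (.leaf 0) (.leaf 0)) (.node (.leaf 0) (.leaf 0))) (.node (.node (.leaf 0) (.leaf 0)) (.node (.leaf 0) (.leaf 0))))) (.node (.node (.node (.node (.leaf 0) (.leaf 0)) (.node (.leaf 0) (.leaf 0))) (.node (.node (.leaf 0) (.leaf 0)) (.node (.leaf 0) (.leaf 0)))) (.node (.node (.node (.leaf 0) (.leaf 0)) (.node (.leaf 0) (.leaf 0))) (.node (.node (.leaf 0) (.leaf 0)) (.node (.leaf 0) (.leaf 0)))))) (.node (.node (.node (.node (.node (.leaf 0) (.leaf 0)) (.node (.leaf 0) (.leaf 0))) (.node (.node (.leaf 0) (.leaf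 0)) (.node (.leaf 0) (.leaf 0)))) (.node (.node (.node (.leaf 0) (.leaf 0)) (.node (.leaf 0) (.leaf 0))) (.node (.node (.leaf 0) (.leaf 0)) (.node (.leaf 0) (.leaf 0))))) (.node (.node (.node (.node (.leaf 0) (.leaf 0)) (.node (.leaf 0) (.leaf 0))) (.node (.node (.leaf 0) (.leaf 0)) (.node (.leaf 0) (.leaf 0)))) (.node (.node (.node (.leaf 0) (.leaf 0)) (.node (.leaf 0) (.leaf 0))) (.node (.node (.leaf 0) (.leaf 0)) (.node (.leaf 0) (.leaf 0)))))))

/-- A suborbit and a mover, part 398. -/
def redCodePart398 : Janko1.Tree ℕ := (.node (.node (.node (.node (.node (.node (.leaf 0) (.leaf 0)) (.node (.leaf 0) (.leaf 0))) (.node (.node (.leaf 0) (.leaf 0)) (.node (.leaf 0) (.leaf 0)))) (.node (.node (.node (.leaf 0) (.leaf 0)) (.node (.leaf 0) (.leaf 0))) (.node (.node (.leaf 0) (.leaf 0)) (.node (.leaf 0) (.leaf 0))))) (.node (.node (.node (.node (.leaf 0) (.leaf 0)) (.node (.leaf 0) (.leaf 0))) (.node (.node (.leaf 0) (.leaf 0)) (.node (.leaf 0) (.leaf 0)))) (.node (.node (.node (.leaf 0) (.leaf 0)) (.node (.leaf 0) (.leaf 0))) (.node (.node (.leaf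 0) (.leaf 0)) (.node (.leaf 0) (.leaf 0)))))) (.node (.node (.node (.node (.node (.leaf 0) (.leaf 0)) (.node (.leaf 0) (.leaf 0))) (.node (.node (.leaf 0) (.leaf 0)) (.node (.leaf 0) (.leaf 0)))) (.node (.node (.node (.leaf 0) (.leaf 0)) (.node (.leaf 0) (.leaf 0))) (.node (.node (.leaf 0) (.leaf 0)) (.node (.leaf 0) (.leaf 0))))) (.node (.node (.node (.node (.leaf 0) (.leaf 0)) (.node (.leaf 0) (.leaf 0))) (.node (.node (.leaf 0) (.leaf 0)) (.node (.leaf 0) (.leaf 0)))) (.node (.node (.node (.leaf 0) (.leaf 0)) (.node (.leaf 0) (.leaf 0))) (.node (.node (.leaf 0) (.leaf 0)) (.node (.leaf 0) (.leaf 0)))))))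

/-- A suborbit and a mover, part 399. -/
def redCodePart399 : Janko1.Tree ℕ := (.node (.node (.node (.node (.node (.node (.leaf 0) (.leaf 0)) (.node (.leaf 0) (.leaf 0))) (.node (.node (.leaf 0) (.leaf 0)) (.node (.leaf 0) (.leaf 0)))) (.node (.node (.node (.leaf 0) (.leaf 0)) (.node (.leaf 0) (.leaf 0))) (.node (.node (.leaf 0) (.leaf 0)) (.node (.leaf 0) (.leaf 0))))) (.node (.node (.node (.node (.leaf 0) (.leaf 0)) (.node (.leaf 0) (.leaf 0))) (.node (.node (.leaf 0) (.leaf 0)) (.node (.leaf 0) (.leaf 0)))) (.node (.node (.node (.leaf 0) (.leaf 0)) (.node (.leaf 0) (.leaf 0))) (.node (.node (.leaf 0) (.leaf 0)) (.node (.leaf 0) (.leaf 0)))))) (.node (.node (.node (.node (.node (.leaf 0) (.leaf 0)) (.node (.leaf 0) (.leaf 0))) (.node (.node (.leaf 0) (.leaf 0)) (.node (.leaf 0) (.leaf 0)))) (.node (.node (.node (.leaf 0) (.leaf 0)) (.node (.leaf 0) (.leaf 0))) (.node (.node (.leaf 0) (.leaf 0)) (.node (.leaf 0) (.leaf 0))))) (.node (.node (.node (.node (.leaf 0) (.leaf 0)) (.node (.leaf 0) (.leaf 0))) (.node (.node (.leaf 0) (.leaf 0)) (.node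 (.leaf 0) (.leaf 0)))) (.node (.node (.node (.leaf 0) (.leaf 0)) (.node (.leaf 0) (.leaf 0))) (.node (.node (.leaf 0) (.leaf 0)) (.node (.leaf 0) (.leaf 0)))))))

/-- A suborbit and a mover, part 400. -/
def redCodePart400 : Janko1.Tree ℕ := (.node (.node (.node (.node (.node (.node (.leaf 0) (.leaf 0)) (.node (.leaf 0) (.leaf 0))) (.node (.node (.leaf 0) (.leaf 0)) (.node (.leaf 0) (.leaf 0)))) (.node (.node (.node (.leaf 0) (.leaf 0)) (.node (.leaf 0) (.leaf 0))) (.node (.node (.leaf 0) (.leaf 0)) (.node (.leaf 0) (.leaf 0))))) (.node (.node (.node (.node (.leaf 0) (.leaf 0)) (.node (.leaf 0) (.leaf 0))) (.node (.node (.leaf 0) (.leaf 0)) (.node (.leaf 0) (.leaf 0)))) (.node (.node (.node (.leaf 0) (.leaf 0)) (.node (.leaf 0) (.leaf 0))) (.node (.node (.leaf 0) (.leaf 0)) (.node (.leaf 0) (.leaf 0)))))) (.node (.node (.node (.node (.node (.leaf 0) (.leaf 0)) (.node (.leaf 0) (.leaf 0))) (.node (.node (.leaf 0) (.leaf 0)) (.node (.leaf 0) (.leaf 0)))) (.node (.node (.node (.leaf 0) (.leaf 0)) (.node (.leaf 0) (.leaf 0))) (.node (.node (.leaf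 0) (.leaf 0)) (.node (.leaf 0) (.leaf 0))))) (.node (.node (.node (.node (.leaf 0) (.leaf 0)) (.node (.leaf 0) (.leaf 0))) (.node (.node (.leaf 0) (.leaf 0)) (.node (.leaf 0) (.leaf 0)))) (.node (.node (.node (.leaf 0) (.leaf 0)) (.node (.leaf 0) (.leaf 0))) (.node (.node (.leaf 0) (.leaf 0)) (.node (.leaf 0) (.leaf 0)))))))

/-- A suborbit and a mover, part 401. -/
def redCodePart401 : Janko1.Tree ℕ := (.node (.node (.node (.node (.node (.node (.leaf 0) (.leaf 0)) (.node (.leaf 0) (.leaf 0))) (.node (.node (.leaf 0) (.leaf 0)) (.node (.leaf 0) (.leaf 0)))) (.node (.node (.node (.leaf 0) (.leaf 0)) (.node (.leaf 0) (.leaf 0))) (.node (.node (.leaf 0) (.leaf 0)) (.node (.leaf 0) (.leaf 0))))) (.node (.node (.node (.node (.leaf 0) (.leaf 0)) (.node (.leaf 0) (.leaf 0))) (.node (.node (.leaf 0) (.leaf 0)) (.node (.leaf 0) (.leaf 0)))) (.node (.node (.node (.leaf 0) (.leaf 0)) (.node (.leaf 0) (.leaf 0))) (.node (.node (.leaf 0) (.leaf 0)) (.node (.leaf 0) (.leaf 0)))))) (.node (.node (.node (.node (.node (.leaf 0) (.leaf 0)) (.node (.leaf 0) (.leaf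 0))) (.node (.node (.leaf 0) (.leaf 0)) (.node (.leaf 0) (.leaf 0)))) (.node (.node (.node (.leaf 0) (.leaf 0)) (.node (.leaf 0) (.leaf 0))) (.node (.node (.leaf 0) (.leaf 0)) (.node (.leaf 0) (.leaf 0))))) (.node (.node (.node (.node (.leaf 0) (.leaf 0)) (.node (.leaf 0) (.leaf 0))) (.node (.node (.leaf 0) (.leaf 0)) (.node (.leaf 0) (.leaf 0)))) (.node (.node (.node (.leaf 0) (.leaf 0)) (.node (.leaf 0) (.leaf 0))) (.node (.node (.leaf 0) (.leaf 0)) (.node (.leaf 0) (.leaf 0)))))))

/-- A suborbit and a mover, part 402. -/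
def redCodePart402 : Janko1.Tree ℕ := (.node (.node (.node (.node (.node (.node (.leaf 0) (.leaf 0)) (.node (.leaf 0) (.leaf 0))) (.node (.node (.leaf 0) (.leaf 0)) (.node (.leaf 0) (.leaf 0)))) (.node (.node (.node (.leaf 0) (.leaf 0)) (.node (.leaf 0) (.leaf 0))) (.node (.node (.leaf 0) (.leaf 0)) (.node (.leaf 0) (.leaf 0))))) (.node (.node (.node (.node (.leaf 0) (.leaf 0)) (.node (.leaf 0) (.leaf 0))) (.node (.node (.leaf 0) (.leaf 0)) (.node (.leaf 0) (.leaf 0)))) (.node (.node (.node (.leaf 0) (.leaf 0)) (.node (.leaf 0) (.leaf 0))) (.node (.node (.leaf 0) (.leaf 0)) (.node (.leaf 0) (.leaf 0)))))) (.node (.node (.node (.node (.node (.leaf 0) (.leaf 0)) (.node (.leaf 0) (.leaf 0))) (.node (.node (.leaf 0) (.leaf 0)) (.node (.leaf 0) (.leaf 0)))) (.node (.node (.node (.leaf 0) (.leaf 0)) (.node (.leaf 0) (.leaf 0))) (.node (.node (.leaf 0) (.leaf 0)) (.node (.leaf 0) (.leaf 0))))) (.node (.node (.node (.node (.leaf 0) (.leaf 0)) (.node (.leaf 0) (.leaf 0))) (.node (.node (.leaf 0) (.leaf 0)) (.node (.leaf 0) (.leaf 0)))) (.node (.node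 (.node (.leaf 0) (.leaf 0)) (.node (.leaf 0) (.leaf 0))) (.node (.node (.leaf 0) (.leaf 0)) (.node (.leaf 0) (.leaf 0)))))))

/-- A suborbit and a mover, part 403. -/
def redCodePart403 : Janko1.Tree ℕ := (.node (.node (.node (.node (.node (.node (.leaf 0) (.leaf 0)) (.node (.leaf 0) (.leaf 0))) (.node (.node (.leaf 0) (.leaf 0)) (.node (.leaf 0) (.leaf 0)))) (.node (.node (.node (.leaf 0) (.leaf 0)) (.node (.leaf 0) (.leaf 0))) (.node (.node (.leaf 0) (.leaf 0)) (.node (.leaf 0) (.leaf 0))))) (.node (.node (.node (.node (.leaf 0) (.leaf 0)) (.node (.leaf 0) (.leaf 0))) (.node (.node (.leaf 0) (.leaf 0)) (.node (.leaf 0) (.leaf 0)))) (.node (.node (.node (.leaf 0) (.leaf 0)) (.node (.leaf 0) (.leaf 0))) (.node (.node (.leaf 0) (.leaf 0)) (.node (.leaf 0) (.leaf 0)))))) (.node (.node (.node (.node (.node (.leaf 0) (.leaf 0)) (.node (.leaf 0) (.leaf 0))) (.node (.node (.leaf 0) (.leaf 0)) (.node (.leaf 0) (.leaf 0)))) (.node (.node (.node (.leaf 0) (.leaf 0)) (.node (.leaf 0) (.leaf 0))) (.node (.node (.leaf 0) (.leaf 0)) (.node (.leaf 0) (.leaf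 0))))) (.node (.node (.node (.node (.leaf 0) (.leaf 0)) (.node (.leaf 0) (.leaf 0))) (.node (.node (.leaf 0) (.leaf 0)) (.node (.leaf 0) (.leaf 0)))) (.node (.node (.node (.leaf 0) (.leaf 0)) (.node (.leaf 0) (.leaf 0))) (.node (.node (.leaf 0) (.leaf 0)) (.node (.leaf 0) (.leaf 0)))))))

/-- A suborbit and a mover, part 404. -/
def redCodePart404 : Janko1.Tree ℕ := (.node (.node (.node (.node (.node (.node (.leaf 0) (.leaf 0)) (.node (.leaf 0) (.leaf 0))) (.node (.node (.leaf 0) (.leaf 0)) (.node (.leaf 0) (.leaf 0)))) (.node (.node (.node (.leaf 0) (.leaf 0)) (.node (.leaf 0) (.leaf 0))) (.node (.node (.leaf 0) (.leaf 0)) (.node (.leaf 0) (.leaf 0))))) (.node (.node (.node (.node (.leaf 0) (.leaf 0)) (.node (.leaf 0) (.leaf 0))) (.node (.node (.leaf 0) (.leaf 0)) (.node (.leaf 0) (.leaf 0)))) (.node (.node (.node (.leaf 0) (.leaf 0)) (.node (.leaf 0) (.leaf 0))) (.node (.node (.leaf 0) (.leaf 0)) (.node (.leaf 0) (.leaf 0)))))) (.node (.node (.node (.node (.node (.leaf 0) (.leaf 0)) (.node (.leaf 0) (.leaf 0))) (.node (.node (.leaf 0) (.leaf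 0)) (.node (.leaf 0) (.leaf 0)))) (.node (.node (.node (.leaf 0) (.leaf 0)) (.node (.leaf 0) (.leaf 0))) (.node (.node (.leaf 0) (.leaf 0)) (.node (.leaf 0) (.leaf 0))))) (.node (.node (.node (.node (.leaf 0) (.leaf 0)) (.node (.leaf 0) (.leaf 0))) (.node (.node (.leaf 0) (.leaf 0)) (.node (.leaf 0) (.leaf 0)))) (.node (.node (.node (.leaf 0) (.leaf 0)) (.node (.leaf 0) (.leaf 0))) (.node (.node (.leaf 0) (.leaf 0)) (.node (.leaf 0) (.leaf 0)))))))

/-- A suborbit and a mover, part 405. -/
def redCodePart405 : Janko1.Tree ℕ := (.node (.node (.node (.node (.node (.node (.leaf 0) (.leaf 0)) (.node (.leaf 0) (.leaf 0))) (.node (.node (.leaf 0) (.leaf 0)) (.node (.leaf 0) (.leaf 0)))) (.node (.node (.node (.leaf 0) (.leaf 0)) (.node (.leaf 0) (.leaf 0))) (.node (.node (.leaf 0) (.leaf 0)) (.node (.leaf 0) (.leaf 0))))) (.node (.node (.node (.node (.leaf 0) (.leaf 0)) (.node (.leaf 0) (.leaf 0))) (.node (.node (.leaf 0) (.leaf 0)) (.node (.leaf 0) (.leaf 0)))) (.node (.node (.node (.leaf 0) (.leaf 0)) (.node (.leaf 0) (.leaf 0))) (.node (.node (.leaf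 0) (.leaf 0)) (.node (.leaf 0) (.leaf 0)))))) (.node (.node (.node (.node (.node (.leaf 0) (.leaf 0)) (.node (.leaf 0) (.leaf 0))) (.node (.node (.leaf 0) (.leaf 0)) (.node (.leaf 0) (.leaf 0)))) (.node (.node (.node (.leaf 0) (.leaf 0)) (.node (.leaf 0) (.leaf 0))) (.node (.node (.leaf 0) (.leaf 0)) (.node (.leaf 0) (.leaf 0))))) (.node (.node (.node (.node (.leaf 0) (.leaf 0)) (.node (.leaf 0) (.leaf 0))) (.node (.node (.leaf 0) (.leaf 0)) (.node (.leaf 0) (.leaf 0)))) (.node (.node (.node (.leaf 0) (.leaf 0)) (.node (.leaf 0) (.leaf 0))) (.node (.node (.leaf 0) (.leaf 0)) (.node (.leaf 0) (.leaf 0)))))))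

/-- A suborbit and a mover, part 406. -/
def redCodePart406 : Janko1.Tree ℕ := (.node (.node (.node (.node (.node (.node (.leaf 0) (.leaf 0)) (.node (.leaf 0) (.leaf 0))) (.node (.node (.leaf 0) (.leaf 0)) (.node (.leaf 0) (.leaf 0)))) (.node (.node (.node (.leaf 0) (.leaf 0)) (.node (.leaf 0) (.leaf 0))) (.node (.node (.leaf 0) (.leaf 0)) (.node (.leaf 0) (.leaf 0))))) (.node (.node (.node (.node (.leaf 0) (.leaf 0)) (.node (.leaf 0) (.leaf 0))) (.node (.node (.leaf 0) (.leaf 0)) (.node (.leaf 0) (.leaf 0)))) (.node (.node (.node (.leaf 0) (.leaf 0)) (.node (.leaf 0) (.leaf 0))) (.node (.node (.leaf 0) (.leaf 0)) (.node (.leaf 0) (.leaf 0)))))) (.node (.node (.node (.node (.node (.leaf 0) (.leaf 0)) (.node (.leaf 0) (.leaf 0))) (.node (.node (.leaf 0) (.leaf 0)) (.node (.leaf 0) (.leaf 0)))) (.node (.node (.node (.leaf 0) (.leaf 0)) (.node (.leaf 0) (.leaf 0))) (.node (.node (.leaf 0) (.leaf 0)) (.node (.leaf 0) (.leaf 0))))) (.node (.node (.node (.node (.leaf 0) (.leaf 0)) (.node (.leaf 0) (.leaf 0))) (.node (.node (.leaf 0) (.leaf 0)) (.node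 (.leaf 0) (.leaf 0)))) (.node (.node (.node (.leaf 0) (.leaf 0)) (.node (.leaf 0) (.leaf 0))) (.node (.node (.leaf 0) (.leaf 0)) (.node (.leaf 0) (.leaf 0)))))))

/-- A suborbit and a mover, part 407. -/
def redCodePart407 : Janko1.Tree ℕ := (.node (.node (.node (.node (.node (.node (.leaf 0) (.leaf 0)) (.node (.leaf 0) (.leaf 0))) (.node (.node (.leaf 0) (.leaf 0)) (.node (.leaf 0) (.leaf 0)))) (.node (.node (.node (.leaf 0) (.leaf 0)) (.node (.leaf 0) (.leaf 0))) (.node (.node (.leaf 0) (.leaf 0)) (.node (.leaf 0) (.leaf 0))))) (.node (.node (.node (.node (.leaf 0) (.leaf 0)) (.node (.leaf 0) (.leaf 0))) (.node (.node (.leaf 0) (.leaf 0)) (.node (.leaf 0) (.leaf 0)))) (.node (.node (.node (.leaf 0) (.leaf 0)) (.node (.leaf 0) (.leaf 0))) (.node (.node (.leaf 0) (.leaf 0)) (.node (.leaf 0) (.leaf 0)))))) (.node (.node (.node (.node (.node (.leaf 0) (.leaf 0)) (.node (.leaf 0) (.leaf 0))) (.node (.node (.leaf 0) (.leaf 0)) (.node (.leaf 0) (.leaf 0)))) (.node (.node (.node (.leaf 0) (.leaf 0)) (.node (.leaf 0) (.leaf 0))) (.node (.node (.leaf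 0) (.leaf 0)) (.node (.leaf 0) (.leaf 0))))) (.node (.node (.node (.node (.leaf 0) (.leaf 0)) (.node (.leaf 0) (.leaf 0))) (.node (.node (.leaf 0) (.leaf 0)) (.node (.leaf 0) (.leaf 0)))) (.node (.node (.node (.leaf 0) (.leaf 0)) (.node (.leaf 0) (.leaf 0))) (.node (.node (.leaf 0) (.leaf 0)) (.node (.leaf 0) (.leaf 0)))))))

/-- A suborbit and a mover, part 408. -/
def redCodePart408 : Janko1.Tree ℕ := (.node (.node (.node (.node (.node (.node (.leaf 0) (.leaf 0)) (.node (.leaf 0) (.leaf 0))) (.node (.node (.leaf 0) (.leaf 0)) (.node (.leaf 0) (.leaf 0)))) (.node (.node (.node (.leaf 0) (.leaf 0)) (.node (.leaf 0) (.leaf 0))) (.node (.node (.leaf 0) (.leaf 0)) (.node (.leaf 0) (.leaf 0))))) (.node (.node (.node (.node (.leaf 0) (.leaf 0)) (.node (.leaf 0) (.leaf 0))) (.node (.node (.leaf 0) (.leaf 0)) (.node (.leaf 0) (.leaf 0)))) (.node (.node (.node (.leaf 0) (.leaf 0)) (.node (.leaf 0) (.leaf 0))) (.node (.node (.leaf 0) (.leaf 0)) (.node (.leaf 0) (.leaf 0)))))) (.node (.node (.node (.node (.node (.leaf 0) (.leaf 0)) (.node (.leaf 0) (.leaf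 0))) (.node (.node (.leaf 0) (.leaf 0)) (.node (.leaf 0) (.leaf 0)))) (.node (.node (.node (.leaf 0) (.leaf 0)) (.node (.leaf 0) (.leaf 0))) (.node (.node (.leaf 0) (.leaf 0)) (.node (.leaf 0) (.leaf 0))))) (.node (.node (.node (.node (.leaf 0) (.leaf 0)) (.node (.leaf 0) (.leaf 0))) (.node (.node (.leaf 0) (.leaf 0)) (.node (.leaf 0) (.leaf 0)))) (.node (.node (.node (.leaf 0) (.leaf 0)) (.node (.leaf 0) (.leaf 0))) (.node (.node (.leaf 0) (.leaf 0)) (.node (.leaf 0) (.leaf 0)))))))

/-- A suborbit and a mover, part 409. -/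
def redCodePart409 : Janko1.Tree ℕ := (.node (.node (.node (.node (.node (.node (.leaf 0) (.leaf 0)) (.node (.leaf 0) (.leaf 0))) (.node (.node (.leaf 0) (.leaf 0)) (.node (.leaf 0) (.leaf 0)))) (.node (.node (.node (.leaf 0) (.leaf 0)) (.node (.leaf 0) (.leaf 0))) (.node (.node (.leaf 0) (.leaf 0)) (.node (.leaf 0) (.leaf 0))))) (.node (.node (.node (.node (.leaf 0) (.leaf 0)) (.node (.leaf 0) (.leaf 0))) (.node (.node (.leaf 0) (.leaf 0)) (.node (.leaf 0) (.leaf 0)))) (.node (.node (.node (.leaf 0) (.leaf 0)) (.node (.leaf 0) (.leaf 0))) (.node (.node (.leaf 0) (.leaf 0)) (.node (.leaf 0) (.leaf 0)))))) (.node (.node (.node (.node (.node (.leaf 0) (.leaf 0)) (.node (.leaf 0) (.leaf 0))) (.node (.node (.leaf 0) (.leaf 0)) (.node (.leaf 0) (.leaf 0)))) (.node (.node (.node (.leaf 0) (.leaf 0)) (.node (.leaf 0) (.leaf 0))) (.node (.node (.leaf 0) (.leaf 0)) (.node (.leaf 0) (.leaf 0))))) (.node (.node (.node (.node (.leaf 0) (.leaf 0)) (.node (.leaf 0) (.leaf 0))) (.node (.node (.leaf 0) (.leaf 0)) (.node (.leaf 0) (.leaf 0)))) (.node (.node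 (.node (.leaf 0) (.leaf 0)) (.node (.leaf 0) (.leaf 0))) (.node (.node (.leaf 0) (.leaf 0)) (.node (.leaf 0) (.leaf 0)))))))

/-- A suborbit and a mover, part 410. -/
def redCodePart410 : Janko1.Tree ℕ := (.node (.node (.node (.node (.node (.node (.leaf 0) (.leaf 0)) (.node (.leaf 0) (.leaf 0))) (.node (.node (.leaf 0) (.leaf 0)) (.node (.leaf 0) (.leaf 0)))) (.node (.node (.node (.leaf 0) (.leaf 0)) (.node (.leaf 0) (.leaf 0))) (.node (.node (.leaf 0) (.leaf 0)) (.node (.leaf 0) (.leaf 0))))) (.node (.node (.node (.node (.leaf 0) (.leaf 0)) (.node (.leaf 0) (.leaf 0))) (.node (.node (.leaf 0) (.leaf 0)) (.node (.leaf 0) (.leaf 0)))) (.node (.node (.node (.leaf 0) (.leaf 0)) (.node (.leaf 0) (.leaf 0))) (.node (.node (.leaf 0) (.leaf 0)) (.node (.leaf 0) (.leaf 0)))))) (.node (.node (.node (.node (.node (.leaf 0) (.leaf 0)) (.node (.leaf 0) (.leaf 0))) (.node (.node (.leaf 0) (.leaf 0)) (.node (.leaf 0) (.leaf 0)))) (.node (.node (.node (.leaf 0) (.leaf 0)) (.node (.leaf 0) (.leaf 0))) (.node (.node (.leaf 0) (.leaf 0)) (.node (.leaf 0) (.leaf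 0))))) (.node (.node (.node (.node (.leaf 0) (.leaf 0)) (.node (.leaf 0) (.leaf 0))) (.node (.node (.leaf 0) (.leaf 0)) (.node (.leaf 0) (.leaf 0)))) (.node (.node (.node (.leaf 0) (.leaf 0)) (.node (.leaf 0) (.leaf 0))) (.node (.node (.leaf 0) (.leaf 0)) (.node (.leaf 0) (.leaf 0)))))))

/-- A suborbit and a mover, part 411. -/
def redCodePart411 : Janko1.Tree ℕ := (.node (.node (.node (.node (.node (.node (.leaf 0) (.leaf 0)) (.node (.leaf 0) (.leaf 0))) (.node (.node (.leaf 0) (.leaf 0)) (.node (.leaf 0) (.leaf 0)))) (.node (.node (.node (.leaf 0) (.leaf 0)) (.node (.leaf 0) (.leaf 0))) (.node (.node (.leaf 0) (.leaf 0)) (.node (.leaf 0) (.leaf 0))))) (.node (.node (.node (.node (.leaf 0) (.leaf 0)) (.node (.leaf 0) (.leaf 0))) (.node (.node (.leaf 0) (.leaf 0)) (.node (.leaf 0) (.leaf 0)))) (.node (.node (.node (.leaf 0) (.leaf 0)) (.node (.leaf 0) (.leaf 0))) (.node (.node (.leaf 0) (.leaf 0)) (.node (.leaf 0) (.leaf 0)))))) (.node (.node (.node (.node (.node (.leaf 0) (.leaf 0)) (.node (.leaf 0) (.leaf 0))) (.node (.node (.leaf 0) (.leaf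 0)) (.node (.leaf 0) (.leaf 0)))) (.node (.node (.node (.leaf 0) (.leaf 0)) (.node (.leaf 0) (.leaf 0))) (.node (.node (.leaf 0) (.leaf 0)) (.node (.leaf 0) (.leaf 0))))) (.node (.node (.node (.node (.leaf 0) (.leaf 0)) (.node (.leaf 0) (.leaf 0))) (.node (.node (.leaf 0) (.leaf 0)) (.node (.leaf 0) (.leaf 0)))) (.node (.node (.node (.leaf 0) (.leaf 0)) (.node (.leaf 0) (.leaf 0))) (.node (.node (.leaf 0) (.leaf 0)) (.node (.leaf 0) (.leaf 0)))))))

/-- A suborbit and a mover, part 412. -/
def redCodePart412 : Janko1.Tree ℕ := (.node (.node (.node (.node (.node (.node (.leaf 0) (.leaf 0)) (.node (.leaf 0) (.leaf 0))) (.node (.node (.leaf 0) (.leaf 0)) (.node (.leaf 0) (.leaf 0)))) (.node (.node (.node (.leaf 0) (.leaf 0)) (.node (.leaf 0) (.leaf 0))) (.node (.node (.leaf 0) (.leaf 0)) (.node (.leaf 0) (.leaf 0))))) (.node (.node (.node (.node (.leaf 0) (.leaf 0)) (.node (.leaf 0) (.leaf 0))) (.node (.node (.leaf 0) (.leaf 0)) (.node (.leaf 0) (.leaf 0)))) (.node (.node (.node (.leaf 0) (.leaf 0)) (.node (.leaf 0) (.leaf 0))) (.node (.node (.leaf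 0) (.leaf 0)) (.node (.leaf 0) (.leaf 0)))))) (.node (.node (.node (.node (.node (.leaf 0) (.leaf 0)) (.node (.leaf 0) (.leaf 0))) (.node (.node (.leaf 0) (.leaf 0)) (.node (.leaf 0) (.leaf 0)))) (.node (.node (.node (.leaf 0) (.leaf 0)) (.node (.leaf 0) (.leaf 0))) (.node (.node (.leaf 0) (.leaf 0)) (.node (.leaf 0) (.leaf 0))))) (.node (.node (.node (.node (.leaf 0) (.leaf 0)) (.node (.leaf 0) (.leaf 0))) (.node (.node (.leaf 0) (.leaf 0)) (.node (.leaf 0) (.leaf 0)))) (.node (.node (.node (.leaf 0) (.leaf 0)) (.node (.leaf 0) (.leaf 0))) (.node (.node (.leaf 0) (.leaf 0)) (.node (.leaf 0) (.leaf 0)))))))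

/-- A suborbit and a mover, part 413. -/
def redCodePart413 : Janko1.Tree ℕ := (.node (.node (.node (.node (.node (.node (.leaf 0) (.leaf 0)) (.node (.leaf 0) (.leaf 0))) (.node (.node (.leaf 0) (.leaf 0)) (.node (.leaf 0) (.leaf 0)))) (.node (.node (.node (.leaf 0) (.leaf 0)) (.node (.leaf 0) (.leaf 0))) (.node (.node (.leaf 0) (.leaf 0)) (.node (.leaf 0) (.leaf 0))))) (.node (.node (.node (.node (.leaf 0) (.leaf 0)) (.node (.leaf 0) (.leaf 0))) (.node (.node (.leaf 0) (.leaf 0)) (.node (.leaf 0) (.leaf 0)))) (.node (.node (.node (.leaf 0) (.leaf 0)) (.node (.leaf 0) (.leaf 0))) (.node (.node (.leaf 0) (.leaf 0)) (.node (.leaf 0) (.leaf 0)))))) (.node (.node (.node (.node (.node (.leaf 0) (.leaf 0)) (.node (.leaf 0) (.leaf 0))) (.node (.node (.leaf 0) (.leaf 0)) (.node (.leaf 0) (.leaf 0)))) (.node (.node (.node (.leaf 0) (.leaf 0)) (.node (.leaf 0) (.leaf 0))) (.node (.node (.leaf 0) (.leaf 0)) (.node (.leaf 0) (.leaf 0))))) (.node (.node (.node (.node (.leaf 0) (.leaf 0)) (.node (.leaf 0) (.leaf 0))) (.node (.node (.leaf 0) (.leaf 0)) (.node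 (.leaf 0) (.leaf 0)))) (.node (.node (.node (.leaf 0) (.leaf 0)) (.node (.leaf 0) (.leaf 0))) (.node (.node (.leaf 0) (.leaf 0)) (.node (.leaf 0) (.leaf 0)))))))

/-- A suborbit and a mover, part 414. -/
def redCodePart414 : Janko1.Tree ℕ := (.node (.node (.node (.node (.node (.node (.leaf 0) (.leaf 0)) (.node (.leaf 0) (.leaf 0))) (.node (.node (.leaf 0) (.leaf 0)) (.node (.leaf 0) (.leaf 0)))) (.node (.node (.node (.leaf 0) (.leaf 0)) (.node (.leaf 0) (.leaf 0))) (.node (.node (.leaf 0) (.leaf 0)) (.node (.leaf 0) (.leaf 0))))) (.node (.node (.node (.node (.leaf 0) (.leaf 0)) (.node (.leaf 0) (.leaf 0))) (.node (.node (.leaf 0) (.leaf 0)) (.node (.leaf 0) (.leaf 0)))) (.node (.node (.node (.leaf 0) (.leaf 0)) (.node (.leaf 0) (.leaf 0))) (.node (.node (.leaf 0) (.leaf 0)) (.node (.leaf 0) (.leaf 0)))))) (.node (.node (.node (.node (.node (.leaf 0) (.leaf 0)) (.node (.leaf 0) (.leaf 0))) (.node (.node (.leaf 0) (.leaf 0)) (.node (.leaf 0) (.leaf 0)))) (.node (.node (.node (.leaf 0) (.leaf 0)) (.node (.leaf 0) (.leaf 0))) (.node (.node (.leaf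 0) (.leaf 0)) (.node (.leaf 0) (.leaf 0))))) (.node (.node (.node (.node (.leaf 0) (.leaf 0)) (.node (.leaf 0) (.leaf 0))) (.node (.node (.leaf 0) (.leaf 0)) (.node (.leaf 0) (.leaf 0)))) (.node (.node (.node (.leaf 0) (.leaf 0)) (.node (.leaf 0) (.leaf 0))) (.node (.node (.leaf 0) (.leaf 0)) (.node (.leaf 0) (.leaf 0)))))))

/-- A suborbit and a mover, part 415. -/
def redCodePart415 : Janko1.Tree ℕ := (.node (.node (.node (.node (.node (.node (.leaf 0) (.leaf 0)) (.node (.leaf 0) (.leaf 0))) (.node (.node (.leaf 0) (.leaf 0)) (.node (.leaf 0) (.leaf 0)))) (.node (.node (.node (.leaf 0) (.leaf 0)) (.node (.leaf 0) (.leaf 0))) (.node (.node (.leaf 0) (.leaf 0)) (.node (.leaf 0) (.leaf 0))))) (.node (.node (.node (.node (.leaf 0) (.leaf 0)) (.node (.leaf 0) (.leaf 0))) (.node (.node (.leaf 0) (.leaf 0)) (.node (.leaf 0) (.leaf 0)))) (.node (.node (.node (.leaf 0) (.leaf 0)) (.node (.leaf 0) (.leaf 0))) (.node (.node (.leaf 0) (.leaf 0)) (.node (.leaf 0) (.leaf 0)))))) (.node (.node (.node (.node (.node (.leaf 0) (.leaf 0)) (.node (.leaf 0) (.leaf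 0))) (.node (.node (.leaf 0) (.leaf 0)) (.node (.leaf 0) (.leaf 0)))) (.node (.node (.node (.leaf 0) (.leaf 0)) (.node (.leaf 0) (.leaf 0))) (.node (.node (.leaf 0) (.leaf 0)) (.node (.leaf 0) (.leaf 0))))) (.node (.node (.node (.node (.leaf 0) (.leaf 0)) (.node (.leaf 0) (.leaf 0))) (.node (.node (.leaf 0) (.leaf 0)) (.node (.leaf 0) (.leaf 0)))) (.node (.node (.node (.leaf 0) (.leaf 0)) (.node (.leaf 0) (.leaf 0))) (.node (.node (.leaf 0) (.leaf 0)) (.node (.leaf 0) (.leaf 0)))))))

/-- A suborbit and a mover, part 416. -/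
def redCodePart416 : Janko1.Tree ℕ := (.node (.node (.node (.node (.node (.node (.leaf 0) (.leaf 0)) (.node (.leaf 0) (.leaf 0))) (.node (.node (.leaf 0) (.leaf 0)) (.node (.leaf 0) (.leaf 0)))) (.node (.node (.node (.leaf 0) (.leaf 0)) (.node (.leaf 0) (.leaf 0))) (.node (.node (.leaf 0) (.leaf 0)) (.node (.leaf 0) (.leaf 0))))) (.node (.node (.node (.node (.leaf 0) (.leaf 0)) (.node (.leaf 0) (.leaf 0))) (.node (.node (.leaf 0) (.leaf 0)) (.node (.leaf 0) (.leaf 0)))) (.node (.node (.node (.leaf 0) (.leaf 0)) (.node (.leaf 0) (.leaf 0))) (.node (.node (.leaf 0) (.leaf 0)) (.node (.leaf 0) (.leaf 0)))))) (.node (.node (.node (.node (.node (.leaf 0) (.leaf 0)) (.node (.leaf 0) (.leaf 0))) (.node (.node (.leaf 0) (.leaf 0)) (.node (.leaf 0) (.leaf 0)))) (.node (.node (.node (.leaf 0) (.leaf 0)) (.node (.leaf 0) (.leaf 0))) (.node (.node (.leaf 0) (.leaf 0)) (.node (.leaf 0) (.leaf 0))))) (.node (.node (.node (.node (.leaf 0) (.leaf 0)) (.node (.leaf 0) (.leaf 0))) (.node (.node (.leaf 0) (.leaf 0)) (.node (.leaf 0) (.leaf 0)))) (.node (.node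 (.node (.leaf 0) (.leaf 0)) (.node (.leaf 0) (.leaf 0))) (.node (.node (.leaf 0) (.leaf 0)) (.node (.leaf 0) (.leaf 0)))))))

/-- A suborbit and a mover, part 417. -/
def redCodePart417 : Janko1.Tree ℕ := (.node (.node (.node (.node (.node (.node (.leaf 0) (.leaf 0)) (.node (.leaf 0) (.leaf 0))) (.node (.node (.leaf 0) (.leaf 0)) (.node (.leaf 0) (.leaf 0)))) (.node (.node (.node (.leaf 0) (.leaf 0)) (.node (.leaf 0) (.leaf 0))) (.node (.node (.leaf 0) (.leaf 0)) (.node (.leaf 0) (.leaf 0))))) (.node (.node (.node (.node (.leaf 0) (.leaf 0)) (.node (.leaf 0) (.leaf 0))) (.node (.node (.leaf 0) (.leaf 0)) (.node (.leaf 0) (.leaf 0)))) (.node (.node (.node (.leaf 0) (.leaf 0)) (.node (.leaf 0) (.leaf 0))) (.node (.node (.leaf 0) (.leaf 0)) (.node (.leaf 0) (.leaf 0)))))) (.node (.node (.node (.node (.node (.leaf 0) (.leaf 0)) (.node (.leaf 0) (.leaf 0))) (.node (.node (.leaf 0) (.leaf 0)) (.node (.leaf 0) (.leaf 0)))) (.node (.node (.node (.leaf 0) (.leaf 0)) (.node (.leaf 0) (.leaf 0))) (.node (.node (.leaf 0) (.leaf 0)) (.node (.leaf 0) (.leaf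 0))))) (.node (.node (.node (.node (.leaf 0) (.leaf 0)) (.node (.leaf 0) (.leaf 0))) (.node (.node (.leaf 0) (.leaf 0)) (.node (.leaf 0) (.leaf 0)))) (.node (.node (.node (.leaf 0) (.leaf 0)) (.node (.leaf 0) (.leaf 0))) (.node (.node (.leaf 0) (.leaf 0)) (.node (.leaf 0) (.leaf 0)))))))

/-- A suborbit and a mover, part 418. -/
def redCodePart418 : Janko1.Tree ℕ := (.node (.node (.node (.node (.node (.node (.leaf 0) (.leaf 0)) (.node (.leaf 0) (.leaf 0))) (.node (.node (.leaf 0) (.leaf 0)) (.node (.leaf 0) (.leaf 0)))) (.node (.node (.node (.leaf 0) (.leaf 0)) (.node (.leaf 0) (.leaf 0))) (.node (.node (.leaf 0) (.leaf 0)) (.node (.leaf 0) (.leaf 0))))) (.node (.node (.node (.node (.leaf 0) (.leaf 0)) (.node (.leaf 0) (.leaf 0))) (.node (.node (.leaf 0) (.leaf 0)) (.node (.leaf 0) (.leaf 0)))) (.node (.node (.node (.leaf 0) (.leaf 0)) (.node (.leaf 0) (.leaf 0))) (.node (.node (.leaf 0) (.leaf 0)) (.node (.leaf 0) (.leaf 0)))))) (.node (.node (.node (.node (.node (.leaf 0) (.leaf 0)) (.node (.leaf 0) (.leaf 0))) (.node (.node (.leaf 0) (.leaf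 0)) (.node (.leaf 0) (.leaf 0)))) (.node (.node (.node (.leaf 0) (.leaf 0)) (.node (.leaf 0) (.leaf 0))) (.node (.node (.leaf 0) (.leaf 0)) (.node (.leaf 0) (.leaf 0))))) (.node (.node (.node (.node (.leaf 0) (.leaf 0)) (.node (.leaf 0) (.leaf 0))) (.node (.node (.leaf 0) (.leaf 0)) (.node (.leaf 0) (.leaf 0)))) (.node (.node (.node (.leaf 0) (.leaf 0)) (.node (.leaf 0) (.leaf 0))) (.node (.node (.leaf 0) (.leaf 0)) (.node (.leaf 0) (.leaf 0)))))))

/-- A suborbit and a mover, part 419. -/
def redCodePart419 : Janko1.Tree ℕ := (.node (.node (.node (.node (.node (.node (.leaf 0) (.leaf 0)) (.node (.leaf 0) (.leaf 0))) (.node (.node (.leaf 0) (.leaf 0)) (.node (.leaf 0) (.leaf 0)))) (.node (.node (.node (.leaf 0) (.leaf 0)) (.node (.leaf 0) (.leaf 0))) (.node (.node (.leaf 0) (.leaf 0)) (.node (.leaf 0) (.leaf 0))))) (.node (.node (.node (.node (.leaf 0) (.leaf 0)) (.node (.leaf 0) (.leaf 0))) (.node (.node (.leaf 0) (.leaf 0)) (.node (.leaf 0) (.leaf 0)))) (.node (.node (.node (.leaf 0) (.leaf 0)) (.node (.leaf 0) (.leaf 0))) (.node (.node (.leaf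 0) (.leaf 0)) (.node (.leaf 0) (.leaf 0)))))) (.node (.node (.node (.node (.node (.leaf 0) (.leaf 0)) (.node (.leaf 0) (.leaf 0))) (.node (.node (.leaf 0) (.leaf 0)) (.node (.leaf 0) (.leaf 0)))) (.node (.node (.node (.leaf 0) (.leaf 0)) (.node (.leaf 0) (.leaf 0))) (.node (.node (.leaf 0) (.leaf 0)) (.node (.leaf 0) (.leaf 0))))) (.node (.node (.node (.node (.leaf 0) (.leaf 0)) (.node (.leaf 0) (.leaf 0))) (.node (.node (.leaf 0) (.leaf 0)) (.node (.leaf 0) (.leaf 0)))) (.node (.node (.node (.leaf 0) (.leaf 0)) (.node (.leaf 0) (.leaf 0))) (.node (.node (.leaf 0) (.leaf 0)) (.node (.leaf 0) (.leaf 0)))))))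

/-- A suborbit and a mover, part 420. -/
def redCodePart420 : Janko1.Tree ℕ := (.node (.node (.node (.node (.node (.node (.leaf 0) (.leaf 0)) (.node (.leaf 0) (.leaf 0))) (.node (.node (.leaf 0) (.leaf 0)) (.node (.leaf 0) (.leaf 0)))) (.node (.node (.node (.leaf 0) (.leaf 0)) (.node (.leaf 0) (.leaf 0))) (.node (.node (.leaf 0) (.leaf 0)) (.node (.leaf 0) (.leaf 0))))) (.node (.node (.node (.node (.leaf 0) (.leaf 0)) (.node (.leaf 0) (.leaf 0))) (.node (.node (.leaf 0) (.leaf 0)) (.node (.leaf 0) (.leaf 0)))) (.node (.node (.node (.leaf 0) (.leaf 0)) (.node (.leaf 0) (.leaf 0))) (.node (.node (.leaf 0) (.leaf 0)) (.node (.leaf 0) (.leaf 0)))))) (.node (.node (.node (.node (.node (.leaf 0) (.leaf 0)) (.node (.leaf 0) (.leaf 0))) (.node (.node (.leaf 0) (.leaf 0)) (.node (.leaf 0) (.leaf 0)))) (.node (.node (.node (.leaf 0) (.leaf 0)) (.node (.leaf 0) (.leaf 0))) (.node (.node (.leaf 0) (.leaf 0)) (.node (.leaf 0) (.leaf 0))))) (.node (.node (.node (.node (.leaf 0) (.leaf 0)) (.node (.leaf 0) (.leaf 0))) (.node (.node (.leaf 0) (.leaf 0)) (.node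 (.leaf 0) (.leaf 0)))) (.node (.node (.node (.leaf 0) (.leaf 0)) (.node (.leaf 0) (.leaf 0))) (.node (.node (.leaf 0) (.leaf 0)) (.node (.leaf 0) (.leaf 0)))))))

/-- A suborbit and a mover, part 421. -/
def redCodePart421 : Janko1.Tree ℕ := (.node (.node (.node (.node (.node (.node (.leaf 0) (.leaf 0)) (.node (.leaf 0) (.leaf 0))) (.node (.node (.leaf 0) (.leaf 0)) (.node (.leaf 0) (.leaf 0)))) (.node (.node (.node (.leaf 0) (.leaf 0)) (.node (.leaf 0) (.leaf 0))) (.node (.node (.leaf 0) (.leaf 0)) (.node (.leaf 0) (.leaf 0))))) (.node (.node (.node (.node (.leaf 0) (.leaf 0)) (.node (.leaf 0) (.leaf 0))) (.node (.node (.leaf 0) (.leaf 0)) (.node (.leaf 0) (.leaf 0)))) (.node (.node (.node (.leaf 0) (.leaf 0)) (.node (.leaf 0) (.leaf 0))) (.node (.node (.leaf 0) (.leaf 0)) (.node (.leaf 0) (.leaf 0)))))) (.node (.node (.node (.node (.node (.leaf 0) (.leaf 0)) (.node (.leaf 0) (.leaf 0))) (.node (.node (.leaf 0) (.leaf 0)) (.node (.leaf 0) (.leaf 0)))) (.node (.node (.node (.leaf 0) (.leaf 0)) (.node (.leaf 0) (.leaf 0))) (.node (.node (.leaf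 0) (.leaf 0)) (.node (.leaf 0) (.leaf 0))))) (.node (.node (.node (.node (.leaf 0) (.leaf 0)) (.node (.leaf 0) (.leaf 0))) (.node (.node (.leaf 0) (.leaf 0)) (.node (.leaf 0) (.leaf 0)))) (.node (.node (.node (.leaf 0) (.leaf 0)) (.node (.leaf 0) (.leaf 0))) (.node (.node (.leaf 0) (.leaf 0)) (.node (.leaf 0) (.leaf 0)))))))

/-- A suborbit and a mover, part 422. -/
def redCodePart422 : Janko1.Tree ℕ := (.node (.node (.node (.node (.node (.node (.leaf 0) (.leaf 0)) (.node (.leaf 0) (.leaf 0))) (.node (.node (.leaf 0) (.leaf 0)) (.node (.leaf 0) (.leaf 0)))) (.node (.node (.node (.leaf 0) (.leaf 0)) (.node (.leaf 0) (.leaf 0))) (.node (.node (.leaf 0) (.leaf 0)) (.node (.leaf 0) (.leaf 0))))) (.node (.node (.node (.node (.leaf 0) (.leaf 0)) (.node (.leaf 0) (.leaf 0))) (.node (.node (.leaf 0) (.leaf 0)) (.node (.leaf 0) (.leaf 0)))) (.node (.node (.node (.leaf 0) (.leaf 0)) (.node (.leaf 0) (.leaf 0))) (.node (.node (.leaf 0) (.leaf 0)) (.node (.leaf 0) (.leaf 0)))))) (.node (.node (.node (.node (.node (.leaf 0) (.leaf 0)) (.node (.leaf 0) (.leaf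 0))) (.node (.node (.leaf 0) (.leaf 0)) (.node (.leaf 0) (.leaf 0)))) (.node (.node (.node (.leaf 0) (.leaf 0)) (.node (.leaf 0) (.leaf 0))) (.node (.node (.leaf 0) (.leaf 0)) (.node (.leaf 0) (.leaf 0))))) (.node (.node (.node (.node (.leaf 0) (.leaf 0)) (.node (.leaf 0) (.leaf 0))) (.node (.node (.leaf 0) (.leaf 0)) (.node (.leaf 0) (.leaf 0)))) (.node (.node (.node (.leaf 0) (.leaf 0)) (.node (.leaf 0) (.leaf 0))) (.node (.node (.leaf 0) (.leaf 0)) (.node (.leaf 0) (.leaf 0)))))))

/-- A suborbit and a mover, part 423. -/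
def redCodePart423 : Janko1.Tree ℕ := (.node (.node (.node (.node (.node (.node (.leaf 0) (.leaf 0)) (.node (.leaf 0) (.leaf 0))) (.node (.node (.leaf 0) (.leaf 0)) (.node (.leaf 0) (.leaf 0)))) (.node (.node (.node (.leaf 0) (.leaf 0)) (.node (.leaf 0) (.leaf 0))) (.node (.node (.leaf 0) (.leaf 0)) (.node (.leaf 0) (.leaf 0))))) (.node (.node (.node (.node (.leaf 0) (.leaf 0)) (.node (.leaf 0) (.leaf 0))) (.node (.node (.leaf 0) (.leaf 0)) (.node (.leaf 0) (.leaf 0)))) (.node (.node (.node (.leaf 0) (.leaf 0)) (.node (.leaf 0) (.leaf 0))) (.node (.node (.leaf 0) (.leaf 0)) (.node (.leaf 0) (.leaf 0)))))) (.node (.node (.node (.node (.node (.leaf 0) (.leaf 0)) (.node (.leaf 0) (.leaf 0))) (.node (.node (.leaf 0) (.leaf 0)) (.node (.leaf 0) (.leaf 0)))) (.node (.node (.node (.leaf 0) (.leaf 0)) (.node (.leaf 0) (.leaf 0))) (.node (.node (.leaf 0) (.leaf 0)) (.node (.leaf 0) (.leaf 0))))) (.node (.node (.node (.node (.leaf 0) (.leaf 0)) (.node (.leaf 0) (.leaf 0))) (.node (.node (.leaf 0) (.leaf 0)) (.node (.leaf 0) (.leaf 0)))) (.node (.node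 (.node (.leaf 0) (.leaf 0)) (.node (.leaf 0) (.leaf 0))) (.node (.node (.leaf 0) (.leaf 0)) (.node (.leaf 0) (.leaf 0)))))))

/-- A suborbit and a mover, part 424. -/
def redCodePart424 : Janko1.Tree ℕ := (.node (.node (.node (.node (.node (.node (.leaf 0) (.leaf 0)) (.node (.leaf 0) (.leaf 0))) (.node (.node (.leaf 0) (.leaf 0)) (.node (.leaf 0) (.leaf 0)))) (.node (.node (.node (.leaf 0) (.leaf 0)) (.node (.leaf 0) (.leaf 0))) (.node (.node (.leaf 0) (.leaf 0)) (.node (.leaf 0) (.leaf 0))))) (.node (.node (.node (.node (.leaf 0) (.leaf 0)) (.node (.leaf 0) (.leaf 0))) (.node (.node (.leaf 0) (.leaf 0)) (.node (.leaf 0) (.leaf 0)))) (.node (.node (.node (.leaf 0) (.leaf 0)) (.node (.leaf 0) (.leaf 0))) (.node (.node (.leaf 0) (.leaf 0)) (.node (.leaf 0) (.leaf 0)))))) (.node (.node (.node (.node (.node (.leaf 0) (.leaf 0)) (.node (.leaf 0) (.leaf 0))) (.node (.node (.leaf 0) (.leaf 0)) (.node (.leaf 0) (.leaf 0)))) (.node (.node (.node (.leaf 0) (.leaf 0)) (.node (.leaf 0) (.leaf 0))) (.node (.node (.leaf 0) (.leaf 0)) (.node (.leaf 0) (.leaf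 0))))) (.node (.node (.node (.node (.leaf 0) (.leaf 0)) (.node (.leaf 0) (.leaf 0))) (.node (.node (.leaf 0) (.leaf 0)) (.node (.leaf 0) (.leaf 0)))) (.node (.node (.node (.leaf 0) (.leaf 0)) (.node (.leaf 0) (.leaf 0))) (.node (.node (.leaf 0) (.leaf 0)) (.node (.leaf 0) (.leaf 0)))))))

/-- A suborbit and a mover, part 425. -/
def redCodePart425 : Janko1.Tree ℕ := (.node (.node (.node (.node (.node (.node (.leaf 0) (.leaf 0)) (.node (.leaf 0) (.leaf 0))) (.node (.node (.leaf 0) (.leaf 0)) (.node (.leaf 0) (.leaf 0)))) (.node (.node (.node (.leaf 0) (.leaf 0)) (.node (.leaf 0) (.leaf 0))) (.node (.node (.leaf 0) (.leaf 0)) (.node (.leaf 0) (.leaf 0))))) (.node (.node (.node (.node (.leaf 0) (.leaf 0)) (.node (.leaf 0) (.leaf 0))) (.node (.node (.leaf 0) (.leaf 0)) (.node (.leaf 0) (.leaf 0)))) (.node (.node (.node (.leaf 0) (.leaf 0)) (.node (.leaf 0) (.leaf 0))) (.node (.node (.leaf 0) (.leaf 0)) (.node (.leaf 0) (.leaf 0)))))) (.node (.node (.node (.node (.node (.leaf 0) (.leaf 0)) (.node (.leaf 0) (.leaf 0))) (.node (.node (.leaf 0) (.leaf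 0)) (.node (.leaf 0) (.leaf 0)))) (.node (.node (.node (.leaf 0) (.leaf 0)) (.node (.leaf 0) (.leaf 0))) (.node (.node (.leaf 0) (.leaf 0)) (.node (.leaf 0) (.leaf 0))))) (.node (.node (.node (.node (.leaf 0) (.leaf 0)) (.node (.leaf 0) (.leaf 0))) (.node (.node (.leaf 0) (.leaf 0)) (.node (.leaf 0) (.leaf 0)))) (.node (.node (.node (.leaf 0) (.leaf 0)) (.node (.leaf 0) (.leaf 0))) (.node (.node (.leaf 0) (.leaf 0)) (.node (.leaf 0) (.leaf 0)))))))

/-- A suborbit and a mover, part 426. -/
def redCodePart426 : Janko1.Tree ℕ := (.node (.node (.node (.node (.node (.node (.leaf 0) (.leaf 0)) (.node (.leaf 0) (.leaf 0))) (.node (.node (.leaf 0) (.leaf 0)) (.node (.leaf 0) (.leaf 0)))) (.node (.node (.node (.leaf 0) (.leaf 0)) (.node (.leaf 0) (.leaf 0))) (.node (.node (.leaf 0) (.leaf 0)) (.node (.leaf 0) (.leaf 0))))) (.node (.node (.node (.node (.leaf 0) (.leaf 0)) (.node (.leaf 0) (.leaf 0))) (.node (.node (.leaf 0) (.leaf 0)) (.node (.leaf 0) (.leaf 0)))) (.node (.node (.node (.leaf 0) (.leaf 0)) (.node (.leaf 0) (.leaf 0))) (.node (.node (.leaf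 0) (.leaf 0)) (.node (.leaf 0) (.leaf 0)))))) (.node (.node (.node (.node (.node (.leaf 0) (.leaf 0)) (.node (.leaf 0) (.leaf 0))) (.node (.node (.leaf 0) (.leaf 0)) (.node (.leaf 0) (.leaf 0)))) (.node (.node (.node (.leaf 0) (.leaf 0)) (.node (.leaf 0) (.leaf 0))) (.node (.node (.leaf 0) (.leaf 0)) (.node (.leaf 0) (.leaf 0))))) (.node (.node (.node (.node (.leaf 0) (.leaf 0)) (.node (.leaf 0) (.leaf 0))) (.node (.node (.leaf 0) (.leaf 0)) (.node (.leaf 0) (.leaf 0)))) (.node (.node (.node (.leaf 0) (.leaf 0)) (.node (.leaf 0) (.leaf 0))) (.node (.node (.leaf 0) (.leaf 0)) (.node (.leaf 0) (.leaf 0)))))))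

/-- A suborbit and a mover, part 427. -/
def redCodePart427 : Janko1.Tree ℕ := (.node (.node (.node (.node (.node (.node (.leaf 0) (.leaf 0)) (.node (.leaf 0) (.leaf 0))) (.node (.node (.leaf 0) (.leaf 0)) (.node (.leaf 0) (.leaf 0)))) (.node (.node (.node (.leaf 0) (.leaf 0)) (.node (.leaf 0) (.leaf 0))) (.node (.node (.leaf 0) (.leaf 0)) (.node (.leaf 0) (.leaf 0))))) (.node (.node (.node (.node (.leaf 0) (.leaf 0)) (.node (.leaf 0) (.leaf 0))) (.node (.node (.leaf 0) (.leaf 0)) (.node (.leaf 0) (.leaf 0)))) (.node (.node (.node (.leaf 0) (.leaf 0)) (.node (.leaf 0) (.leaf 0))) (.node (.node (.leaf 0) (.leaf 0)) (.node (.leaf 0) (.leaf 0)))))) (.node (.node (.node (.node (.node (.leaf 0) (.leaf 0)) (.node (.leaf 0) (.leaf 0))) (.node (.node (.leaf 0) (.leaf 0)) (.node (.leaf 0) (.leaf 0)))) (.node (.node (.node (.leaf 0) (.leaf 0)) (.node (.leaf 0) (.leaf 0))) (.node (.node (.leaf 0) (.leaf 0)) (.node (.leaf 0) (.leaf 0))))) (.node (.node (.node (.node (.leaf 0) (.leaf 0)) (.node (.leaf 0) (.leaf 0))) (.node (.node (.leaf 0) (.leaf 0)) (.node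 (.leaf 0) (.leaf 0)))) (.node (.node (.node (.leaf 0) (.leaf 0)) (.node (.leaf 0) (.leaf 0))) (.node (.node (.leaf 0) (.leaf 0)) (.node (.leaf 0) (.leaf 0)))))))

/-- A suborbit and a mover, part 428. -/
def redCodePart428 : Janko1.Tree ℕ := (.node (.node (.node (.node (.node (.node (.leaf 0) (.leaf 0)) (.node (.leaf 0) (.leaf 0))) (.node (.node (.leaf 0) (.leaf 0)) (.node (.leaf 0) (.leaf 0)))) (.node (.node (.node (.leaf 0) (.leaf 0)) (.node (.leaf 0) (.leaf 0))) (.node (.node (.leaf 0) (.leaf 0)) (.node (.leaf 0) (.leaf 0))))) (.node (.node (.node (.node (.leaf 0) (.leaf 0)) (.node (.leaf 0) (.leaf 0))) (.node (.node (.leaf 0) (.leaf 0)) (.node (.leaf 0) (.leaf 0)))) (.node (.node (.node (.leaf 0) (.leaf 0)) (.node (.leaf 0) (.leaf 0))) (.node (.node (.leaf 0) (.leaf 0)) (.node (.leaf 0) (.leaf 0)))))) (.node (.node (.node (.node (.node (.leaf 0) (.leaf 0)) (.node (.leaf 0) (.leaf 0))) (.node (.node (.leaf 0) (.leaf 0)) (.node (.leaf 0) (.leaf 0)))) (.node (.node (.node (.leaf 0) (.leaf 0)) (.node (.leaf 0) (.leaf 0))) (.node (.node (.leaf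 0) (.leaf 0)) (.node (.leaf 0) (.leaf 0))))) (.node (.node (.node (.node (.leaf 0) (.leaf 0)) (.node (.leaf 0) (.leaf 0))) (.node (.node (.leaf 0) (.leaf 0)) (.node (.leaf 0) (.leaf 0)))) (.node (.node (.node (.leaf 0) (.leaf 0)) (.node (.leaf 0) (.leaf 0))) (.node (.node (.leaf 0) (.leaf 0)) (.node (.leaf 0) (.leaf 0)))))))

/-- A suborbit and a mover, part 429. -/
def redCodePart429 : Janko1.Tree ℕ := (.node (.node (.node (.node (.node (.node (.leaf 0) (.leaf 0)) (.node (.leaf 0) (.leaf 0))) (.node (.node (.leaf 0) (.leaf 0)) (.node (.leaf 0) (.leaf 0)))) (.node (.node (.node (.leaf 0) (.leaf 0)) (.node (.leaf 0) (.leaf 0))) (.node (.node (.leaf 0) (.leaf 0)) (.node (.leaf 0) (.leaf 0))))) (.node (.node (.node (.node (.leaf 0) (.leaf 0)) (.node (.leaf 0) (.leaf 0))) (.node (.node (.leaf 0) (.leaf 0)) (.node (.leaf 0) (.leaf 0)))) (.node (.node (.node (.leaf 0) (.leaf 0)) (.node (.leaf 0) (.leaf 0))) (.node (.node (.leaf 0) (.leaf 0)) (.node (.leaf 0) (.leaf 0)))))) (.node (.node (.node (.node (.node (.leaf 0) (.leaf 0)) (.node (.leaf 0) (.leaf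 0))) (.node (.node (.leaf 0) (.leaf 0)) (.node (.leaf 0) (.leaf 0)))) (.node (.node (.node (.leaf 0) (.leaf 0)) (.node (.leaf 0) (.leaf 0))) (.node (.node (.leaf 0) (.leaf 0)) (.node (.leaf 0) (.leaf 0))))) (.node (.node (.node (.node (.leaf 0) (.leaf 0)) (.node (.leaf 0) (.leaf 0))) (.node (.node (.leaf 0) (.leaf 0)) (.node (.leaf 0) (.leaf 0)))) (.node (.node (.node (.leaf 0) (.leaf 0)) (.node (.leaf 0) (.leaf 0))) (.node (.node (.leaf 0) (.leaf 0)) (.node (.leaf 0) (.leaf 0)))))))

/-- A suborbit and a mover, part 430. -/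
def redCodePart430 : Janko1.Tree ℕ := (.node (.node (.node (.node (.node (.node (.leaf 0) (.leaf 0)) (.node (.leaf 0) (.leaf 0))) (.node (.node (.leaf 0) (.leaf 0)) (.node (.leaf 0) (.leaf 0)))) (.node (.node (.node (.leaf 0) (.leaf 0)) (.node (.leaf 0) (.leaf 0))) (.node (.node (.leaf 0) (.leaf 0)) (.node (.leaf 0) (.leaf 0))))) (.node (.node (.node (.node (.leaf 0) (.leaf 0)) (.node (.leaf 0) (.leaf 0))) (.node (.node (.leaf 0) (.leaf 0)) (.node (.leaf 0) (.leaf 0)))) (.node (.node (.node (.leaf 0) (.leaf 0)) (.node (.leaf 0) (.leaf 0))) (.node (.node (.leaf 0) (.leaf 0)) (.node (.leaf 0) (.leaf 0)))))) (.node (.node (.node (.node (.node (.leaf 0) (.leaf 0)) (.node (.leaf 0) (.leaf 0))) (.node (.node (.leaf 0) (.leaf 0)) (.node (.leaf 0) (.leaf 0)))) (.node (.node (.node (.leaf 0) (.leaf 0)) (.node (.leaf 0) (.leaf 0))) (.node (.node (.leaf 0) (.leaf 0)) (.node (.leaf 0) (.leaf 0))))) (.node (.node (.node (.node (.leaf 0) (.leaf 0)) (.node (.leaf 0) (.leaf 0))) (.node (.node (.leaf 0) (.leaf 0)) (.node (.leaf 0) (.leaf 0)))) (.node (.node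 (.node (.leaf 0) (.leaf 0)) (.node (.leaf 0) (.leaf 0))) (.node (.node (.leaf 0) (.leaf 0)) (.node (.leaf 0) (.leaf 0)))))))

/-- A suborbit and a mover, part 431. -/
def redCodePart431 : Janko1.Tree ℕ := (.node (.node (.node (.node (.node (.node (.leaf 0) (.leaf 0)) (.node (.leaf 0) (.leaf 0))) (.node (.node (.leaf 0) (.leaf 0)) (.node (.leaf 0) (.leaf 0)))) (.node (.node (.node (.leaf 0) (.leaf 0)) (.node (.leaf 0) (.leaf 0))) (.node (.node (.leaf 0) (.leaf 0)) (.node (.leaf 0) (.leaf 0))))) (.node (.node (.node (.node (.leaf 0) (.leaf 0)) (.node (.leaf 0) (.leaf 0))) (.node (.node (.leaf 0) (.leaf 0)) (.node (.leaf 0) (.leaf 0)))) (.node (.node (.node (.leaf 0) (.leaf 0)) (.node (.leaf 0) (.leaf 0))) (.node (.node (.leaf 0) (.leaf 0)) (.node (.leaf 0) (.leaf 0)))))) (.node (.node (.node (.node (.node (.leaf 0) (.leaf 0)) (.node (.leaf 0) (.leaf 0))) (.node (.node (.leaf 0) (.leaf 0)) (.node (.leaf 0) (.leaf 0)))) (.node (.node (.node (.leaf 0) (.leaf 0)) (.node (.leaf 0) (.leaf 0))) (.node (.node (.leaf 0) (.leaf 0)) (.node (.leaf 0) (.leaf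 0))))) (.node (.node (.node (.node (.leaf 0) (.leaf 0)) (.node (.leaf 0) (.leaf 0))) (.node (.node (.leaf 0) (.leaf 0)) (.node (.leaf 0) (.leaf 0)))) (.node (.node (.node (.leaf 0) (.leaf 0)) (.node (.leaf 0) (.leaf 0))) (.node (.node (.leaf 0) (.leaf 0)) (.node (.leaf 0) (.leaf 0)))))))

/-- A suborbit and a mover, part 432. -/
def redCodePart432 : Janko1.Tree ℕ := (.node (.node (.node (.node (.node (.node (.leaf 0) (.leaf 0)) (.node (.leaf 0) (.leaf 0))) (.node (.node (.leaf 0) (.leaf 0)) (.node (.leaf 0) (.leaf 0)))) (.node (.node (.node (.leaf 0) (.leaf 0)) (.node (.leaf 0) (.leaf 0))) (.node (.node (.leaf 0) (.leaf 0)) (.node (.leaf 0) (.leaf 0))))) (.node (.node (.node (.node (.leaf 0) (.leaf 0)) (.node (.leaf 0) (.leaf 0))) (.node (.node (.leaf 0) (.leaf 0)) (.node (.leaf 0) (.leaf 0)))) (.node (.node (.node (.leaf 0) (.leaf 0)) (.node (.leaf 0) (.leaf 0))) (.node (.node (.leaf 0) (.leaf 0)) (.node (.leaf 0) (.leaf 0)))))) (.node (.node (.node (.node (.node (.leaf 0) (.leaf 0)) (.node (.leaf 0) (.leaf 0))) (.node (.node (.leaf 0) (.leaf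 0)) (.node (.leaf 0) (.leaf 0)))) (.node (.node (.node (.leaf 0) (.leaf 0)) (.node (.leaf 0) (.leaf 0))) (.node (.node (.leaf 0) (.leaf 0)) (.node (.leaf 0) (.leaf 0))))) (.node (.node (.node (.node (.leaf 0) (.leaf 0)) (.node (.leaf 0) (.leaf 0))) (.node (.node (.leaf 0) (.leaf 0)) (.node (.leaf 0) (.leaf 0)))) (.node (.node (.node (.leaf 0) (.leaf 0)) (.node (.leaf 0) (.leaf 0))) (.node (.node (.leaf 0) (.leaf 0)) (.node (.leaf 0) (.leaf 0)))))))

/-- A suborbit and a mover, part 433. -/
def redCodePart433 : Janko1.Tree ℕ := (.node (.node (.node (.node (.node (.node (.leaf 0) (.leaf 0)) (.node (.leaf 0) (.leaf 0))) (.node (.node (.leaf 0) (.leaf 0)) (.node (.leaf 0) (.leaf 0)))) (.node (.node (.node (.leaf 0) (.leaf 0)) (.node (.leaf 0) (.leaf 0))) (.node (.node (.leaf 0) (.leaf 0)) (.node (.leaf 0) (.leaf 0))))) (.node (.node (.node (.node (.leaf 0) (.leaf 0)) (.node (.leaf 0) (.leaf 0))) (.node (.node (.leaf 0) (.leaf 0)) (.node (.leaf 0) (.leaf 0)))) (.node (.node (.node (.leaf 0) (.leaf 0)) (.node (.leaf 0) (.leaf 0))) (.node (.node (.leaf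 0) (.leaf 0)) (.node (.leaf 0) (.leaf 0)))))) (.node (.node (.node (.node (.node (.leaf 0) (.leaf 0)) (.node (.leaf 0) (.leaf 0))) (.node (.node (.leaf 0) (.leaf 0)) (.node (.leaf 0) (.leaf 0)))) (.node (.node (.node (.leaf 0) (.leaf 0)) (.node (.leaf 0) (.leaf 0))) (.node (.node (.leaf 0) (.leaf 0)) (.node (.leaf 0) (.leaf 0))))) (.node (.node (.node (.node (.leaf 0) (.leaf 0)) (.node (.leaf 0) (.leaf 0))) (.node (.node (.leaf 0) (.leaf 0)) (.node (.leaf 0) (.leaf 0)))) (.node (.node (.node (.leaf 0) (.leaf 0)) (.node (.leaf 0) (.leaf 0))) (.node (.node (.leaf 0) (.leaf 0)) (.node (.leaf 0) (.leaf 0)))))))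

/-- A suborbit and a mover, part 434. -/
def redCodePart434 : Janko1.Tree ℕ := (.node (.node (.node (.node (.node (.node (.leaf 0) (.leaf 0)) (.node (.leaf 0) (.leaf 0))) (.node (.node (.leaf 0) (.leaf 0)) (.node (.leaf 0) (.leaf 0)))) (.node (.node (.node (.leaf 0) (.leaf 0)) (.node (.leaf 0) (.leaf 0))) (.node (.node (.leaf 0) (.leaf 0)) (.node (.leaf 0) (.leaf 0))))) (.node (.node (.node (.node (.leaf 0) (.leaf 0)) (.node (.leaf 0) (.leaf 0))) (.node (.node (.leaf 0) (.leaf 0)) (.node (.leaf 0) (.leaf 0)))) (.node (.node (.node (.leaf 0) (.leaf 0)) (.node (.leaf 0) (.leaf 0))) (.node (.node (.leaf 0) (.leaf 0)) (.node (.leaf 0) (.leaf 0)))))) (.node (.node (.node (.node (.node (.leaf 0) (.leaf 0)) (.node (.leaf 0) (.leaf 0))) (.node (.node (.leaf 0) (.leaf 0)) (.node (.leaf 0) (.leaf 0)))) (.node (.node (.node (.leaf 0) (.leaf 0)) (.node (.leaf 0) (.leaf 0))) (.node (.node (.leaf 0) (.leaf 0)) (.node (.leaf 0) (.leaf 0))))) (.node (.node (.node (.node (.leaf 0) (.leaf 0)) (.node (.leaf 0) (.leaf 0))) (.node (.node (.leaf 0) (.leaf 0)) (.node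 (.leaf 0) (.leaf 0)))) (.node (.node (.node (.leaf 0) (.leaf 0)) (.node (.leaf 0) (.leaf 0))) (.node (.node (.leaf 0) (.leaf 0)) (.node (.leaf 0) (.leaf 0)))))))

/-- A suborbit and a mover, part 435. -/
def redCodePart435 : Janko1.Tree ℕ := (.node (.node (.node (.node (.node (.node (.leaf 0) (.leaf 0)) (.node (.leaf 0) (.leaf 0))) (.node (.node (.leaf 0) (.leaf 0)) (.node (.leaf 0) (.leaf 0)))) (.node (.node (.node (.leaf 0) (.leaf 0)) (.node (.leaf 0) (.leaf 0))) (.node (.node (.leaf 0) (.leaf 0)) (.node (.leaf 0) (.leaf 0))))) (.node (.node (.node (.node (.leaf 0) (.leaf 0)) (.node (.leaf 0) (.leaf 0))) (.node (.node (.leaf 0) (.leaf 0)) (.node (.leaf 0) (.leaf 0)))) (.node (.node (.node (.leaf 0) (.leaf 0)) (.node (.leaf 0) (.leaf 0))) (.node (.node (.leaf 0) (.leaf 0)) (.node (.leaf 0) (.leaf 0)))))) (.node (.node (.node (.node (.node (.leaf 0) (.leaf 0)) (.node (.leaf 0) (.leaf 0))) (.node (.node (.leaf 0) (.leaf 0)) (.node (.leaf 0) (.leaf 0)))) (.node (.node (.node (.leaf 0) (.leaf 0)) (.node (.leaf 0) (.leaf 0))) (.node (.node (.leaf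 0) (.leaf 0)) (.node (.leaf 0) (.leaf 0))))) (.node (.node (.node (.node (.leaf 0) (.leaf 0)) (.node (.leaf 0) (.leaf 0))) (.node (.node (.leaf 0) (.leaf 0)) (.node (.leaf 0) (.leaf 0)))) (.node (.node (.node (.leaf 0) (.leaf 0)) (.node (.leaf 0) (.leaf 0))) (.node (.node (.leaf 0) (.leaf 0)) (.node (.leaf 0) (.leaf 0)))))))

/-- A suborbit and a mover, part 436. -/
def redCodePart436 : Janko1.Tree ℕ := (.node (.node (.node (.node (.node (.node (.leaf 0) (.leaf 0)) (.node (.leaf 0) (.leaf 0))) (.node (.node (.leaf 0) (.leaf 0)) (.node (.leaf 0) (.leaf 0)))) (.node (.node (.node (.leaf 0) (.leaf 0)) (.node (.leaf 0) (.leaf 0))) (.node (.node (.leaf 0) (.leaf 0)) (.node (.leaf 0) (.leaf 0))))) (.node (.node (.node (.node (.leaf 0) (.leaf 0)) (.node (.leaf 0) (.leaf 0))) (.node (.node (.leaf 0) (.leaf 0)) (.node (.leaf 0) (.leaf 0)))) (.node (.node (.node (.leaf 0) (.leaf 0)) (.node (.leaf 0) (.leaf 0))) (.node (.node (.leaf 0) (.leaf 0)) (.node (.leaf 0) (.leaf 0)))))) (.node (.node (.node (.node (.node (.leaf 0) (.leaf 0)) (.node (.leaf 0) (.leaf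 0))) (.node (.node (.leaf 0) (.leaf 0)) (.node (.leaf 0) (.leaf 0)))) (.node (.node (.node (.leaf 0) (.leaf 0)) (.node (.leaf 0) (.leaf 0))) (.node (.node (.leaf 0) (.leaf 0)) (.node (.leaf 0) (.leaf 0))))) (.node (.node (.node (.node (.leaf 0) (.leaf 0)) (.node (.leaf 0) (.leaf 0))) (.node (.node (.leaf 0) (.leaf 0)) (.node (.leaf 0) (.leaf 0)))) (.node (.node (.node (.leaf 0) (.leaf 0)) (.node (.leaf 0) (.leaf 0))) (.node (.node (.leaf 0) (.leaf 0)) (.node (.leaf 0) (.leaf 0)))))))

/-- A suborbit and a mover, part 437. -/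
def redCodePart437 : Janko1.Tree ℕ := (.node (.node (.node (.node (.node (.node (.leaf 0) (.leaf 0)) (.node (.leaf 0) (.leaf 0))) (.node (.node (.leaf 0) (.leaf 0)) (.node (.leaf 0) (.leaf 0)))) (.node (.node (.node (.leaf 0) (.leaf 0)) (.node (.leaf 0) (.leaf 0))) (.node (.node (.leaf 0) (.leaf 0)) (.node (.leaf 0) (.leaf 0))))) (.node (.node (.node (.node (.leaf 0) (.leaf 0)) (.node (.leaf 0) (.leaf 0))) (.node (.node (.leaf 0) (.leaf 0)) (.node (.leaf 0) (.leaf 0)))) (.node (.node (.node (.leaf 0) (.leaf 0)) (.node (.leaf 0) (.leaf 0))) (.node (.node (.leaf 0) (.leaf 0)) (.node (.leaf 0) (.leaf 0)))))) (.node (.node (.node (.node (.node (.leaf 0) (.leaf 0)) (.node (.leaf 0) (.leaf 0))) (.node (.node (.leaf 0) (.leaf 0)) (.node (.leaf 0) (.leaf 0)))) (.node (.node (.node (.leaf 0) (.leaf 0)) (.node (.leaf 0) (.leaf 0))) (.node (.node (.leaf 0) (.leaf 0)) (.node (.leaf 0) (.leaf 0))))) (.node (.node (.node (.node (.leaf 0) (.leaf 0)) (.node (.leaf 0) (.leaf 0))) (.node (.node (.leaf 0) (.leaf 0)) (.node (.leaf 0) (.leaf 0)))) (.node (.node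 (.node (.leaf 0) (.leaf 0)) (.node (.leaf 0) (.leaf 0))) (.node (.node (.leaf 0) (.leaf 0)) (.node (.leaf 0) (.leaf 0)))))))

/-- A suborbit and a mover, part 438. -/
def redCodePart438 : Janko1.Tree ℕ := (.node (.node (.node (.node (.node (.node (.leaf 0) (.leaf 0)) (.node (.leaf 0) (.leaf 0))) (.node (.node (.leaf 0) (.leaf 0)) (.node (.leaf 0) (.leaf 0)))) (.node (.node (.node (.leaf 0) (.leaf 0)) (.node (.leaf 0) (.leaf 0))) (.node (.node (.leaf 0) (.leaf 0)) (.node (.leaf 0) (.leaf 0))))) (.node (.node (.node (.node (.leaf 0) (.leaf 0)) (.node (.leaf 0) (.leaf 0))) (.node (.node (.leaf 0) (.leaf 0)) (.node (.leaf 0) (.leaf 0)))) (.node (.node (.node (.leaf 0) (.leaf 0)) (.node (.leaf 0) (.leaf 0))) (.node (.node (.leaf 0) (.leaf 0)) (.node (.leaf 0) (.leaf 0)))))) (.node (.node (.node (.node (.node (.leaf 0) (.leaf 0)) (.node (.leaf 0) (.leaf 0))) (.node (.node (.leaf 0) (.leaf 0)) (.node (.leaf 0) (.leaf 0)))) (.node (.node (.node (.leaf 0) (.leaf 0)) (.node (.leaf 0) (.leaf 0))) (.node (.node (.leaf 0) (.leaf 0)) (.node (.leaf 0) (.leaf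 0))))) (.node (.node (.node (.node (.leaf 0) (.leaf 0)) (.node (.leaf 0) (.leaf 0))) (.node (.node (.leaf 0) (.leaf 0)) (.node (.leaf 0) (.leaf 0)))) (.node (.node (.node (.leaf 0) (.leaf 0)) (.node (.leaf 0) (.leaf 0))) (.node (.node (.leaf 0) (.leaf 0)) (.node (.leaf 0) (.leaf 0)))))))

/-- A suborbit and a mover, part 439. -/
def redCodePart439 : Janko1.Tree ℕ := (.node (.node (.node (.node (.node (.node (.leaf 0) (.leaf 0)) (.node (.leaf 0) (.leaf 0))) (.node (.node (.leaf 0) (.leaf 0)) (.node (.leaf 0) (.leaf 0)))) (.node (.node (.node (.leaf 0) (.leaf 0)) (.node (.leaf 0) (.leaf 0))) (.node (.node (.leaf 0) (.leaf 0)) (.node (.leaf 0) (.leaf 0))))) (.node (.node (.node (.node (.leaf 0) (.leaf 0)) (.node (.leaf 0) (.leaf 0))) (.node (.node (.leaf 0) (.leaf 0)) (.node (.leaf 0) (.leaf 0)))) (.node (.node (.node (.leaf 0) (.leaf 0)) (.node (.leaf 0) (.leaf 0))) (.node (.node (.leaf 0) (.leaf 0)) (.node (.leaf 0) (.leaf 0)))))) (.node (.node (.node (.node (.node (.leaf 0) (.leaf 0)) (.node (.leaf 0) (.leaf 0))) (.node (.node (.leaf 0) (.leaf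 0)) (.node (.leaf 0) (.leaf 0)))) (.node (.node (.node (.leaf 0) (.leaf 0)) (.node (.leaf 0) (.leaf 0))) (.node (.node (.leaf 0) (.leaf 0)) (.node (.leaf 0) (.leaf 0))))) (.node (.node (.node (.node (.leaf 0) (.leaf 0)) (.node (.leaf 0) (.leaf 0))) (.node (.node (.leaf 0) (.leaf 0)) (.node (.leaf 0) (.leaf 0)))) (.node (.node (.node (.leaf 0) (.leaf 0)) (.node (.leaf 0) (.leaf 0))) (.node (.node (.leaf 0) (.leaf 0)) (.node (.leaf 0) (.leaf 0)))))))

/-- A suborbit and a mover, part 440. -/
def redCodePart440 : Janko1.Tree ℕ := (.node (.node (.node (.node (.node (.node (.leaf 0) (.leaf 0)) (.node (.leaf 0) (.leaf 0))) (.node (.node (.leaf 0) (.leaf 0)) (.node (.leaf 0) (.leaf 0)))) (.node (.node (.node (.leaf 0) (.leaf 0)) (.node (.leaf 0) (.leaf 0))) (.node (.node (.leaf 0) (.leaf 0)) (.node (.leaf 0) (.leaf 0))))) (.node (.node (.node (.node (.leaf 0) (.leaf 0)) (.node (.leaf 0) (.leaf 0))) (.node (.node (.leaf 0) (.leaf 0)) (.node (.leaf 0) (.leaf 0)))) (.node (.node (.node (.leaf 0) (.leaf 0)) (.node (.leaf 0) (.leaf 0))) (.node (.node (.leaf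 0) (.leaf 0)) (.node (.leaf 0) (.leaf 0)))))) (.node (.node (.node (.node (.node (.leaf 0) (.leaf 0)) (.node (.leaf 0) (.leaf 0))) (.node (.node (.leaf 0) (.leaf 0)) (.node (.leaf 0) (.leaf 0)))) (.node (.node (.node (.leaf 0) (.leaf 0)) (.node (.leaf 0) (.leaf 0))) (.node (.node (.leaf 0) (.leaf 0)) (.node (.leaf 0) (.leaf 0))))) (.node (.node (.node (.node (.leaf 0) (.leaf 0)) (.node (.leaf 0) (.leaf 0))) (.node (.node (.leaf 0) (.leaf 0)) (.node (.leaf 0) (.leaf 0)))) (.node (.node (.node (.leaf 0) (.leaf 0)) (.node (.leaf 0) (.leaf 0))) (.node (.node (.leaf 0) (.leaf 0)) (.node (.leaf 0) (.leaf 0)))))))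

/-- A suborbit and a mover, part 441. -/
def redCodePart441 : Janko1.Tree ℕ := (.node (.node (.node (.node (.node (.node (.leaf 0) (.leaf 0)) (.node (.leaf 0) (.leaf 0))) (.node (.node (.leaf 0) (.leaf 0)) (.node (.leaf 0) (.leaf 0)))) (.node (.node (.node (.leaf 0) (.leaf 0)) (.node (.leaf 0) (.leaf 0))) (.node (.node (.leaf 0) (.leaf 0)) (.node (.leaf 0) (.leaf 0))))) (.node (.node (.node (.node (.leaf 0) (.leaf 0)) (.node (.leaf 0) (.leaf 0))) (.node (.node (.leaf 0) (.leaf 0)) (.node (.leaf 0) (.leaf 0)))) (.node (.node (.node (.leaf 0) (.leaf 0)) (.node (.leaf 0) (.leaf 0))) (.node (.node (.leaf 0) (.leaf 0)) (.node (.leaf 0) (.leaf 0)))))) (.node (.node (.node (.node (.node (.leaf 0) (.leaf 0)) (.node (.leaf 0) (.leaf 0))) (.node (.node (.leaf 0) (.leaf 0)) (.node (.leaf 0) (.leaf 0)))) (.node (.node (.node (.leaf 0) (.leaf 0)) (.node (.leaf 0) (.leaf 0))) (.node (.node (.leaf 0) (.leaf 0)) (.node (.leaf 0) (.leaf 0))))) (.node (.node (.node (.node (.leaf 0) (.leaf 0)) (.node (.leaf 0) (.leaf 0))) (.node (.node (.leaf 0) (.leaf 0)) (.node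 (.leaf 0) (.leaf 0)))) (.node (.node (.node (.leaf 0) (.leaf 0)) (.node (.leaf 0) (.leaf 0))) (.node (.node (.leaf 0) (.leaf 0)) (.node (.leaf 0) (.leaf 0)))))))

/-- A suborbit and a mover, part 442. -/
def redCodePart442 : Janko1.Tree ℕ := (.node (.node (.node (.node (.node (.node (.leaf 0) (.leaf 0)) (.node (.leaf 0) (.leaf 0))) (.node (.node (.leaf 0) (.leaf 0)) (.node (.leaf 0) (.leaf 0)))) (.node (.node (.node (.leaf 0) (.leaf 0)) (.node (.leaf 0) (.leaf 0))) (.node (.node (.leaf 0) (.leaf 0)) (.node (.leaf 0) (.leaf 0))))) (.node (.node (.node (.node (.leaf 0) (.leaf 0)) (.node (.leaf 0) (.leaf 0))) (.node (.node (.leaf 0) (.leaf 0)) (.node (.leaf 0) (.leaf 0)))) (.node (.node (.node (.leaf 0) (.leaf 0)) (.node (.leaf 0) (.leaf 0))) (.node (.node (.leaf 0) (.leaf 0)) (.node (.leaf 0) (.leaf 0)))))) (.node (.node (.node (.node (.node (.leaf 0) (.leaf 0)) (.node (.leaf 0) (.leaf 0))) (.node (.node (.leaf 0) (.leaf 0)) (.node (.leaf 0) (.leaf 0)))) (.node (.node (.node (.leaf 0) (.leaf 0)) (.node (.leaf 0) (.leaf 0))) (.node (.node (.leaf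 0) (.leaf 0)) (.node (.leaf 0) (.leaf 0))))) (.node (.node (.node (.node (.leaf 0) (.leaf 0)) (.node (.leaf 0) (.leaf 0))) (.node (.node (.leaf 0) (.leaf 0)) (.node (.leaf 0) (.leaf 0)))) (.node (.node (.node (.leaf 0) (.leaf 0)) (.node (.leaf 0) (.leaf 0))) (.node (.node (.leaf 0) (.leaf 0)) (.node (.leaf 0) (.leaf 0)))))))

/-- A suborbit and a mover, part 443. -/
def redCodePart443 : Janko1.Tree ℕ := (.node (.node (.node (.node (.node (.node (.leaf 0) (.leaf 0)) (.node (.leaf 0) (.leaf 0))) (.node (.node (.leaf 0) (.leaf 0)) (.node (.leaf 0) (.leaf 0)))) (.node (.node (.node (.leaf 0) (.leaf 0)) (.node (.leaf 0) (.leaf 0))) (.node (.node (.leaf 0) (.leaf 0)) (.node (.leaf 0) (.leaf 0))))) (.node (.node (.node (.node (.leaf 0) (.leaf 0)) (.node (.leaf 0) (.leaf 0))) (.node (.node (.leaf 0) (.leaf 0)) (.node (.leaf 0) (.leaf 0)))) (.node (.node (.node (.leaf 0) (.leaf 0)) (.node (.leaf 0) (.leaf 0))) (.node (.node (.leaf 0) (.leaf 0)) (.node (.leaf 0) (.leaf 0)))))) (.node (.node (.node (.node (.node (.leaf 0) (.leaf 0)) (.node (.leaf 0) (.leaf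 0))) (.node (.node (.leaf 0) (.leaf 0)) (.node (.leaf 0) (.leaf 0)))) (.node (.node (.node (.leaf 0) (.leaf 0)) (.node (.leaf 0) (.leaf 0))) (.node (.node (.leaf 0) (.leaf 0)) (.node (.leaf 0) (.leaf 0))))) (.node (.node (.node (.node (.leaf 0) (.leaf 0)) (.node (.leaf 0) (.leaf 0))) (.node (.node (.leaf 0) (.leaf 0)) (.node (.leaf 0) (.leaf 0)))) (.node (.node (.node (.leaf 0) (.leaf 0)) (.node (.leaf 0) (.leaf 0))) (.node (.node (.leaf 0) (.leaf 0)) (.node (.leaf 0) (.leaf 0)))))))

/-- A suborbit and a mover, part 444. -/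
def redCodePart444 : Janko1.Tree ℕ := (.node (.node (.node (.node (.node (.node (.leaf 0) (.leaf 0)) (.node (.leaf 0) (.leaf 0))) (.node (.node (.leaf 0) (.leaf 0)) (.node (.leaf 0) (.leaf 0)))) (.node (.node (.node (.leaf 0) (.leaf 0)) (.node (.leaf 0) (.leaf 0))) (.node (.node (.leaf 0) (.leaf 0)) (.node (.leaf 0) (.leaf 0))))) (.node (.node (.node (.node (.leaf 0) (.leaf 0)) (.node (.leaf 0) (.leaf 0))) (.node (.node (.leaf 0) (.leaf 0)) (.node (.leaf 0) (.leaf 0)))) (.node (.node (.node (.leaf 0) (.leaf 0)) (.node (.leaf 0) (.leaf 0))) (.node (.node (.leaf 0) (.leaf 0)) (.node (.leaf 0) (.leaf 0)))))) (.node (.node (.node (.node (.node (.leaf 0) (.leaf 0)) (.node (.leaf 0) (.leaf 0))) (.node (.node (.leaf 0) (.leaf 0)) (.node (.leaf 0) (.leaf 0)))) (.node (.node (.node (.leaf 0) (.leaf 0)) (.node (.leaf 0) (.leaf 0))) (.node (.node (.leaf 0) (.leaf 0)) (.node (.leaf 0) (.leaf 0))))) (.node (.node (.node (.node (.leaf 0) (.leaf 0)) (.node (.leaf 0) (.leaf 0))) (.node (.node (.leaf 0) (.leaf 0)) (.node (.leaf 0) (.leaf 0)))) (.node (.node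 (.node (.leaf 0) (.leaf 0)) (.node (.leaf 0) (.leaf 0))) (.node (.node (.leaf 0) (.leaf 0)) (.node (.leaf 0) (.leaf 0)))))))

/-- A suborbit and a mover, part 445. -/
def redCodePart445 : Janko1.Tree ℕ := (.node (.node (.node (.node (.node (.node (.leaf 0) (.leaf 0)) (.node (.leaf 0) (.leaf 0))) (.node (.node (.leaf 0) (.leaf 0)) (.node (.leaf 0) (.leaf 0)))) (.node (.node (.node (.leaf 0) (.leaf 0)) (.node (.leaf 0) (.leaf 0))) (.node (.node (.leaf 0) (.leaf 0)) (.node (.leaf 0) (.leaf 0))))) (.node (.node (.node (.node (.leaf 0) (.leaf 0)) (.node (.leaf 0) (.leaf 0))) (.node (.node (.leaf 0) (.leaf 0)) (.node (.leaf 0) (.leaf 0)))) (.node (.node (.node (.leaf 0) (.leaf 0)) (.node (.leaf 0) (.leaf 0))) (.node (.node (.leaf 0) (.leaf 0)) (.node (.leaf 0) (.leaf 0)))))) (.node (.node (.node (.node (.node (.leaf 0) (.leaf 0)) (.node (.leaf 0) (.leaf 0))) (.node (.node (.leaf 0) (.leaf 0)) (.node (.leaf 0) (.leaf 0)))) (.node (.node (.node (.leaf 0) (.leaf 0)) (.node (.leaf 0) (.leaf 0))) (.node (.node (.leaf 0) (.leaf 0)) (.node (.leaf 0) (.leaf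 0))))) (.node (.node (.node (.node (.leaf 0) (.leaf 0)) (.node (.leaf 0) (.leaf 0))) (.node (.node (.leaf 0) (.leaf 0)) (.node (.leaf 0) (.leaf 0)))) (.node (.node (.node (.leaf 0) (.leaf 0)) (.node (.leaf 0) (.leaf 0))) (.node (.node (.leaf 0) (.leaf 0)) (.node (.leaf 0) (.leaf 0)))))))

/-- A suborbit and a mover, part 446. -/
def redCodePart446 : Janko1.Tree ℕ := (.node (.node (.node (.node (.node (.node (.leaf 0) (.leaf 0)) (.node (.leaf 0) (.leaf 0))) (.node (.node (.leaf 0) (.leaf 0)) (.node (.leaf 0) (.leaf 0)))) (.node (.node (.node (.leaf 0) (.leaf 0)) (.node (.leaf 0) (.leaf 0))) (.node (.node (.leaf 0) (.leaf 0)) (.node (.leaf 0) (.leaf 0))))) (.node (.node (.node (.node (.leaf 0) (.leaf 0)) (.node (.leaf 0) (.leaf 0))) (.node (.node (.leaf 0) (.leaf 0)) (.node (.leaf 0) (.leaf 0)))) (.node (.node (.node (.leaf 0) (.leaf 0)) (.node (.leaf 0) (.leaf 0))) (.node (.node (.leaf 0) (.leaf 0)) (.node (.leaf 0) (.leaf 0)))))) (.node (.node (.node (.node (.node (.leaf 0) (.leaf 0)) (.node (.leaf 0) (.leaf 0))) (.node (.node (.leaf 0) (.leaf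 0)) (.node (.leaf 0) (.leaf 0)))) (.node (.node (.node (.leaf 0) (.leaf 0)) (.node (.leaf 0) (.leaf 0))) (.node (.node (.leaf 0) (.leaf 0)) (.node (.leaf 0) (.leaf 0))))) (.node (.node (.node (.node (.leaf 0) (.leaf 0)) (.node (.leaf 0) (.leaf 0))) (.node (.node (.leaf 0) (.leaf 0)) (.node (.leaf 0) (.leaf 0)))) (.node (.node (.node (.leaf 0) (.leaf 0)) (.node (.leaf 0) (.leaf 0))) (.node (.node (.leaf 0) (.leaf 0)) (.node (.leaf 0) (.leaf 0)))))))

/-- A suborbit and a mover, part 447. -/
def redCodePart447 : Janko1.Tree ℕ := (.node (.node (.node (.node (.node (.node (.leaf 0) (.leaf 0)) (.node (.leaf 0) (.leaf 0))) (.node (.node (.leaf 0) (.leaf 0)) (.node (.leaf 0) (.leaf 0)))) (.node (.node (.node (.leaf 0) (.leaf 0)) (.node (.leaf 0) (.leaf 0))) (.node (.node (.leaf 0) (.leaf 0)) (.node (.leaf 0) (.leaf 0))))) (.node (.node (.node (.node (.leaf 0) (.leaf 0)) (.node (.leaf 0) (.leaf 0))) (.node (.node (.leaf 0) (.leaf 0)) (.node (.leaf 0) (.leaf 0)))) (.node (.node (.node (.leaf 0) (.leaf 0)) (.node (.leaf 0) (.leaf 0))) (.node (.node (.leaf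 0) (.leaf 0)) (.node (.leaf 0) (.leaf 0)))))) (.node (.node (.node (.node (.node (.leaf 0) (.leaf 0)) (.node (.leaf 0) (.leaf 0))) (.node (.node (.leaf 0) (.leaf 0)) (.node (.leaf 0) (.leaf 0)))) (.node (.node (.node (.leaf 0) (.leaf 0)) (.node (.leaf 0) (.leaf 0))) (.node (.node (.leaf 0) (.leaf 0)) (.node (.leaf 0) (.leaf 0))))) (.node (.node (.node (.node (.leaf 0) (.leaf 0)) (.node (.leaf 0) (.leaf 0))) (.node (.node (.leaf 0) (.leaf 0)) (.node (.leaf 0) (.leaf 0)))) (.node (.node (.node (.leaf 0) (.leaf 0)) (.node (.leaf 0) (.leaf 0))) (.node (.node (.leaf 0) (.leaf 0)) (.node (.leaf 0) (.leaf 0)))))))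

/-- A suborbit and a mover, part 448. -/
def redCodePart448 : Janko1.Tree ℕ := (.node (.node (.node (.node (.node (.node (.leaf 0) (.leaf 0)) (.node (.leaf 0) (.leaf 0))) (.node (.node (.leaf 0) (.leaf 0)) (.node (.leaf 0) (.leaf 0)))) (.node (.node (.node (.leaf 0) (.leaf 0)) (.node (.leaf 0) (.leaf 0))) (.node (.node (.leaf 0) (.leaf 0)) (.node (.leaf 0) (.leaf 0))))) (.node (.node (.node (.node (.leaf 0) (.leaf 0)) (.node (.leaf 0) (.leaf 0))) (.node (.node (.leaf 0) (.leaf 0)) (.node (.leaf 0) (.leaf 0)))) (.node (.node (.node (.leaf 0) (.leaf 0)) (.node (.leaf 0) (.leaf 0))) (.node (.node (.leaf 0) (.leaf 0)) (.node (.leaf 0) (.leaf 0)))))) (.node (.node (.node (.node (.node (.leaf 0) (.leaf 0)) (.node (.leaf 0) (.leaf 0))) (.node (.node (.leaf 0) (.leaf 0)) (.node (.leaf 0) (.leaf 0)))) (.node (.node (.node (.leaf 0) (.leaf 0)) (.node (.leaf 0) (.leaf 0))) (.node (.node (.leaf 0) (.leaf 0)) (.node (.leaf 0) (.leaf 0))))) (.node (.node (.node (.node (.leaf 0) (.leaf 0)) (.node (.leaf 0) (.leaf 0))) (.node (.node (.leaf 0) (.leaf 0)) (.node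 (.leaf 0) (.leaf 0)))) (.node (.node (.node (.leaf 0) (.leaf 0)) (.node (.leaf 0) (.leaf 0))) (.node (.node (.leaf 0) (.leaf 0)) (.node (.leaf 0) (.leaf 0)))))))

/-- A suborbit and a mover, part 449. -/
def redCodePart449 : Janko1.Tree ℕ := (.node (.node (.node (.node (.node (.node (.leaf 0) (.leaf 0)) (.node (.leaf 0) (.leaf 0))) (.node (.node (.leaf 0) (.leaf 0)) (.node (.leaf 0) (.leaf 0)))) (.node (.node (.node (.leaf 0) (.leaf 0)) (.node (.leaf 0) (.leaf 0))) (.node (.node (.leaf 0) (.leaf 0)) (.node (.leaf 0) (.leaf 0))))) (.node (.node (.node (.node (.leaf 0) (.leaf 0)) (.node (.leaf 0) (.leaf 0))) (.node (.node (.leaf 0) (.leaf 0)) (.node (.leaf 0) (.leaf 0)))) (.node (.node (.node (.leaf 0) (.leaf 0)) (.node (.leaf 0) (.leaf 0))) (.node (.node (.leaf 0) (.leaf 0)) (.node (.leaf 0) (.leaf 0)))))) (.node (.node (.node (.node (.node (.leaf 0) (.leaf 0)) (.node (.leaf 0) (.leaf 0))) (.node (.node (.leaf 0) (.leaf 0)) (.node (.leaf 0) (.leaf 0)))) (.node (.node (.node (.leaf 0) (.leaf 0)) (.node (.leaf 0) (.leaf 0))) (.node (.node (.leaf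 0) (.leaf 0)) (.node (.leaf 0) (.leaf 0))))) (.node (.node (.node (.node (.leaf 0) (.leaf 0)) (.node (.leaf 0) (.leaf 0))) (.node (.node (.leaf 0) (.leaf 0)) (.node (.leaf 0) (.leaf 0)))) (.node (.node (.node (.leaf 0) (.leaf 0)) (.node (.leaf 0) (.leaf 0))) (.node (.node (.leaf 0) (.leaf 0)) (.node (.leaf 0) (.leaf 0)))))))

/-- A suborbit and a mover, part 450. -/
def redCodePart450 : Janko1.Tree ℕ := (.node (.node (.node (.node (.node (.node (.leaf 0) (.leaf 0)) (.node (.leaf 0) (.leaf 0))) (.node (.node (.leaf 0) (.leaf 0)) (.node (.leaf 0) (.leaf 0)))) (.node (.node (.node (.leaf 0) (.leaf 0)) (.node (.leaf 0) (.leaf 0))) (.node (.node (.leaf 0) (.leaf 0)) (.node (.leaf 0) (.leaf 0))))) (.node (.node (.node (.node (.leaf 0) (.leaf 0)) (.node (.leaf 0) (.leaf 0))) (.node (.node (.leaf 0) (.leaf 0)) (.node (.leaf 0) (.leaf 0)))) (.node (.node (.node (.leaf 0) (.leaf 0)) (.node (.leaf 0) (.leaf 0))) (.node (.node (.leaf 0) (.leaf 0)) (.node (.leaf 0) (.leaf 0)))))) (.node (.node (.node (.node (.node (.leaf 0) (.leaf 0)) (.node (.leaf 0) (.leaf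 0))) (.node (.node (.leaf 0) (.leaf 0)) (.node (.leaf 0) (.leaf 0)))) (.node (.node (.node (.leaf 0) (.leaf 0)) (.node (.leaf 0) (.leaf 0))) (.node (.node (.leaf 0) (.leaf 0)) (.node (.leaf 0) (.leaf 0))))) (.node (.node (.node (.node (.leaf 0) (.leaf 0)) (.node (.leaf 0) (.leaf 0))) (.node (.node (.leaf 0) (.leaf 0)) (.node (.leaf 0) (.leaf 0)))) (.node (.node (.node (.leaf 0) (.leaf 0)) (.node (.leaf 0) (.leaf 0))) (.node (.node (.leaf 0) (.leaf 0)) (.node (.leaf 0) (.leaf 0)))))))

/-- A suborbit and a mover, part 451. -/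
def redCodePart451 : Janko1.Tree ℕ := (.node (.node (.node (.node (.node (.node (.leaf 0) (.leaf 0)) (.node (.leaf 0) (.leaf 0))) (.node (.node (.leaf 0) (.leaf 0)) (.node (.leaf 0) (.leaf 0)))) (.node (.node (.node (.leaf 0) (.leaf 0)) (.node (.leaf 0) (.leaf 0))) (.node (.node (.leaf 0) (.leaf 0)) (.node (.leaf 0) (.leaf 0))))) (.node (.node (.node (.node (.leaf 0) (.leaf 0)) (.node (.leaf 0) (.leaf 0))) (.node (.node (.leaf 0) (.leaf 0)) (.node (.leaf 0) (.leaf 0)))) (.node (.node (.node (.leaf 0) (.leaf 0)) (.node (.leaf 0) (.leaf 0))) (.node (.node (.leaf 0) (.leaf 0)) (.node (.leaf 0) (.leaf 0)))))) (.node (.node (.node (.node (.node (.leaf 0) (.leaf 0)) (.node (.leaf 0) (.leaf 0))) (.node (.node (.leaf 0) (.leaf 0)) (.node (.leaf 0) (.leaf 0)))) (.node (.node (.node (.leaf 0) (.leaf 0)) (.node (.leaf 0) (.leaf 0))) (.node (.node (.leaf 0) (.leaf 0)) (.node (.leaf 0) (.leaf 0))))) (.node (.node (.node (.node (.leaf 0) (.leaf 0)) (.node (.leaf 0) (.leaf 0))) (.node (.node (.leaf 0) (.leaf 0)) (.node (.leaf 0) (.leaf 0)))) (.node (.node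 (.node (.leaf 0) (.leaf 0)) (.node (.leaf 0) (.leaf 0))) (.node (.node (.leaf 0) (.leaf 0)) (.node (.leaf 0) (.leaf 0)))))))

/-- A suborbit and a mover, part 452. -/
def redCodePart452 : Janko1.Tree ℕ := (.node (.node (.node (.node (.node (.node (.leaf 0) (.leaf 0)) (.node (.leaf 0) (.leaf 0))) (.node (.node (.leaf 0) (.leaf 0)) (.node (.leaf 0) (.leaf 0)))) (.node (.node (.node (.leaf 0) (.leaf 0)) (.node (.leaf 0) (.leaf 0))) (.node (.node (.leaf 0) (.leaf 0)) (.node (.leaf 0) (.leaf 0))))) (.node (.node (.node (.node (.leaf 0) (.leaf 0)) (.node (.leaf 0) (.leaf 0))) (.node (.node (.leaf 0) (.leaf 0)) (.node (.leaf 0) (.leaf 0)))) (.node (.node (.node (.leaf 0) (.leaf 0)) (.node (.leaf 0) (.leaf 0))) (.node (.node (.leaf 0) (.leaf 0)) (.node (.leaf 0) (.leaf 0)))))) (.node (.node (.node (.node (.node (.leaf 0) (.leaf 0)) (.node (.leaf 0) (.leaf 0))) (.node (.node (.leaf 0) (.leaf 0)) (.node (.leaf 0) (.leaf 0)))) (.node (.node (.node (.leaf 0) (.leaf 0)) (.node (.leaf 0) (.leaf 0))) (.node (.node (.leaf 0) (.leaf 0)) (.node (.leaf 0) (.leaf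 0))))) (.node (.node (.node (.node (.leaf 0) (.leaf 0)) (.node (.leaf 0) (.leaf 0))) (.node (.node (.leaf 0) (.leaf 0)) (.node (.leaf 0) (.leaf 0)))) (.node (.node (.node (.leaf 0) (.leaf 0)) (.node (.leaf 0) (.leaf 0))) (.node (.node (.leaf 0) (.leaf 0)) (.node (.leaf 0) (.leaf 0)))))))

/-- A suborbit and a mover, part 453. -/
def redCodePart453 : Janko1.Tree ℕ := (.node (.node (.node (.node (.node (.node (.leaf 0) (.leaf 0)) (.node (.leaf 0) (.leaf 0))) (.node (.node (.leaf 0) (.leaf 0)) (.node (.leaf 0) (.leaf 0)))) (.node (.node (.node (.leaf 0) (.leaf 0)) (.node (.leaf 0) (.leaf 0))) (.node (.node (.leaf 0) (.leaf 0)) (.node (.leaf 0) (.leaf 0))))) (.node (.node (.node (.node (.leaf 0) (.leaf 0)) (.node (.leaf 0) (.leaf 0))) (.node (.node (.leaf 0) (.leaf 0)) (.node (.leaf 0) (.leaf 0)))) (.node (.node (.node (.leaf 0) (.leaf 0)) (.node (.leaf 0) (.leaf 0))) (.node (.node (.leaf 0) (.leaf 0)) (.node (.leaf 0) (.leaf 0)))))) (.node (.node (.node (.node (.node (.leaf 0) (.leaf 0)) (.node (.leaf 0) (.leaf 0))) (.node (.node (.leaf 0) (.leaf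 0)) (.node (.leaf 0) (.leaf 0)))) (.node (.node (.node (.leaf 0) (.leaf 0)) (.node (.leaf 0) (.leaf 0))) (.node (.node (.leaf 0) (.leaf 0)) (.node (.leaf 0) (.leaf 0))))) (.node (.node (.node (.node (.leaf 0) (.leaf 0)) (.node (.leaf 0) (.leaf 0))) (.node (.node (.leaf 0) (.leaf 0)) (.node (.leaf 0) (.leaf 0)))) (.node (.node (.node (.leaf 0) (.leaf 0)) (.node (.leaf 0) (.leaf 0))) (.node (.node (.leaf 0) (.leaf 0)) (.node (.leaf 0) (.leaf 0)))))))

/-- A suborbit and a mover, part 454. -/
def redCodePart454 : Janko1.Tree ℕ := (.node (.node (.node (.node (.node (.node (.leaf 0) (.leaf 0)) (.node (.leaf 0) (.leaf 0))) (.node (.node (.leaf 0) (.leaf 0)) (.node (.leaf 0) (.leaf 0)))) (.node (.node (.node (.leaf 0) (.leaf 0)) (.node (.leaf 0) (.leaf 0))) (.node (.node (.leaf 0) (.leaf 0)) (.node (.leaf 0) (.leaf 0))))) (.node (.node (.node (.node (.leaf 0) (.leaf 0)) (.node (.leaf 0) (.leaf 0))) (.node (.node (.leaf 0) (.leaf 0)) (.node (.leaf 0) (.leaf 0)))) (.node (.node (.node (.leaf 0) (.leaf 0)) (.node (.leaf 0) (.leaf 0))) (.node (.node (.leaf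 0) (.leaf 0)) (.node (.leaf 0) (.leaf 0)))))) (.node (.node (.node (.node (.node (.leaf 0) (.leaf 0)) (.node (.leaf 0) (.leaf 0))) (.node (.node (.leaf 0) (.leaf 0)) (.node (.leaf 0) (.leaf 0)))) (.node (.node (.node (.leaf 0) (.leaf 0)) (.node (.leaf 0) (.leaf 0))) (.node (.node (.leaf 0) (.leaf 0)) (.node (.leaf 0) (.leaf 0))))) (.node (.node (.node (.node (.leaf 0) (.leaf 0)) (.node (.leaf 0) (.leaf 0))) (.node (.node (.leaf 0) (.leaf 0)) (.node (.leaf 0) (.leaf 0)))) (.node (.node (.node (.leaf 0) (.leaf 0)) (.node (.leaf 0) (.leaf 0))) (.node (.node (.leaf 0) (.leaf 0)) (.node (.leaf 0) (.leaf 0)))))))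

/-- A suborbit and a mover, part 455. -/
def redCodePart455 : Janko1.Tree ℕ := (.node (.node (.node (.node (.node (.node (.leaf 0) (.leaf 0)) (.node (.leaf 0) (.leaf 0))) (.node (.node (.leaf 0) (.leaf 0)) (.node (.leaf 0) (.leaf 0)))) (.node (.node (.node (.leaf 0) (.leaf 0)) (.node (.leaf 0) (.leaf 0))) (.node (.node (.leaf 0) (.leaf 0)) (.node (.leaf 0) (.leaf 0))))) (.node (.node (.node (.node (.leaf 0) (.leaf 0)) (.node (.leaf 0) (.leaf 0))) (.node (.node (.leaf 0) (.leaf 0)) (.node (.leaf 0) (.leaf 0)))) (.node (.node (.node (.leaf 0) (.leaf 0)) (.node (.leaf 0) (.leaf 0))) (.node (.node (.leaf 0) (.leaf 0)) (.node (.leaf 0) (.leaf 0)))))) (.node (.node (.node (.node (.node (.leaf 0) (.leaf 0)) (.node (.leaf 0) (.leaf 0))) (.node (.node (.leaf 0) (.leaf 0)) (.node (.leaf 0) (.leaf 0)))) (.node (.node (.node (.leaf 0) (.leaf 0)) (.node (.leaf 0) (.leaf 0))) (.node (.node (.leaf 0) (.leaf 0)) (.node (.leaf 0) (.leaf 0))))) (.node (.node (.node (.node (.leaf 0) (.leaf 0)) (.node (.leaf 0) (.leaf 0))) (.node (.node (.leaf 0) (.leaf 0)) (.node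 (.leaf 0) (.leaf 0)))) (.node (.node (.node (.leaf 0) (.leaf 0)) (.node (.leaf 0) (.leaf 0))) (.node (.node (.leaf 0) (.leaf 0)) (.node (.leaf 0) (.leaf 0)))))))

/-- A suborbit and a mover, part 456. -/
def redCodePart456 : Janko1.Tree ℕ := (.node (.node (.node (.node (.node (.node (.leaf 0) (.leaf 0)) (.node (.leaf 0) (.leaf 0))) (.node (.node (.leaf 0) (.leaf 0)) (.node (.leaf 0) (.leaf 0)))) (.node (.node (.node (.leaf 0) (.leaf 0)) (.node (.leaf 0) (.leaf 0))) (.node (.node (.leaf 0) (.leaf 0)) (.node (.leaf 0) (.leaf 0))))) (.node (.node (.node (.node (.leaf 0) (.leaf 0)) (.node (.leaf 0) (.leaf 0))) (.node (.node (.leaf 0) (.leaf 0)) (.node (.leaf 0) (.leaf 0)))) (.node (.node (.node (.leaf 0) (.leaf 0)) (.node (.leaf 0) (.leaf 0))) (.node (.node (.leaf 0) (.leaf 0)) (.node (.leaf 0) (.leaf 0)))))) (.node (.node (.node (.node (.node (.leaf 0) (.leaf 0)) (.node (.leaf 0) (.leaf 0))) (.node (.node (.leaf 0) (.leaf 0)) (.node (.leaf 0) (.leaf 0)))) (.node (.node (.node (.leaf 0) (.leaf 0)) (.node (.leaf 0) (.leaf 0))) (.node (.node (.leaf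 0) (.leaf 0)) (.node (.leaf 0) (.leaf 0))))) (.node (.node (.node (.node (.leaf 0) (.leaf 0)) (.node (.leaf 0) (.leaf 0))) (.node (.node (.leaf 0) (.leaf 0)) (.node (.leaf 0) (.leaf 0)))) (.node (.node (.node (.leaf 0) (.leaf 0)) (.node (.leaf 0) (.leaf 0))) (.node (.node (.leaf 0) (.leaf 0)) (.node (.leaf 0) (.leaf 0)))))))

/-- A suborbit and a mover, part 457. -/
def redCodePart457 : Janko1.Tree ℕ := (.node (.node (.node (.node (.node (.node (.leaf 0) (.leaf 0)) (.node (.leaf 0) (.leaf 0))) (.node (.node (.leaf 0) (.leaf 0)) (.node (.leaf 0) (.leaf 0)))) (.node (.node (.node (.leaf 0) (.leaf 0)) (.node (.leaf 0) (.leaf 0))) (.node (.node (.leaf 0) (.leaf 0)) (.node (.leaf 0) (.leaf 0))))) (.node (.node (.node (.node (.leaf 0) (.leaf 0)) (.node (.leaf 0) (.leaf 0))) (.node (.node (.leaf 0) (.leaf 0)) (.node (.leaf 0) (.leaf 0)))) (.node (.node (.node (.leaf 0) (.leaf 0)) (.node (.leaf 0) (.leaf 0))) (.node (.node (.leaf 0) (.leaf 0)) (.node (.leaf 0) (.leaf 0)))))) (.node (.node (.node (.node (.node (.leaf 0) (.leaf 0)) (.node (.leaf 0) (.leaf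 0))) (.node (.node (.leaf 0) (.leaf 0)) (.node (.leaf 0) (.leaf 0)))) (.node (.node (.node (.leaf 0) (.leaf 0)) (.node (.leaf 0) (.leaf 0))) (.node (.node (.leaf 0) (.leaf 0)) (.node (.leaf 0) (.leaf 0))))) (.node (.node (.node (.node (.leaf 0) (.leaf 0)) (.node (.leaf 0) (.leaf 0))) (.node (.node (.leaf 0) (.leaf 0)) (.node (.leaf 0) (.leaf 0)))) (.node (.node (.node (.leaf 0) (.leaf 0)) (.node (.leaf 0) (.leaf 0))) (.node (.node (.leaf 0) (.leaf 0)) (.node (.leaf 0) (.leaf 0)))))))

/-- A suborbit and a mover, part 458. -/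
def redCodePart458 : Janko1.Tree ℕ := (.node (.node (.node (.node (.node (.node (.leaf 0) (.leaf 0)) (.node (.leaf 0) (.leaf 0))) (.node (.node (.leaf 0) (.leaf 0)) (.node (.leaf 0) (.leaf 0)))) (.node (.node (.node (.leaf 0) (.leaf 0)) (.node (.leaf 0) (.leaf 0))) (.node (.node (.leaf 0) (.leaf 0)) (.node (.leaf 0) (.leaf 0))))) (.node (.node (.node (.node (.leaf 0) (.leaf 0)) (.node (.leaf 0) (.leaf 0))) (.node (.node (.leaf 0) (.leaf 0)) (.node (.leaf 0) (.leaf 0)))) (.node (.node (.node (.leaf 0) (.leaf 0)) (.node (.leaf 0) (.leaf 0))) (.node (.node (.leaf 0) (.leaf 0)) (.node (.leaf 0) (.leaf 0)))))) (.node (.node (.node (.node (.node (.leaf 0) (.leaf 0)) (.node (.leaf 0) (.leaf 0))) (.node (.node (.leaf 0) (.leaf 0)) (.node (.leaf 0) (.leaf 0)))) (.node (.node (.node (.leaf 0) (.leaf 0)) (.node (.leaf 0) (.leaf 0))) (.node (.node (.leaf 0) (.leaf 0)) (.node (.leaf 0) (.leaf 0))))) (.node (.node (.node (.node (.leaf 0) (.leaf 0)) (.node (.leaf 0) (.leaf 0))) (.node (.node (.leaf 0) (.leaf 0)) (.node (.leaf 0) (.leaf 0)))) (.node (.node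 (.node (.leaf 0) (.leaf 0)) (.node (.leaf 0) (.leaf 0))) (.node (.node (.leaf 0) (.leaf 0)) (.node (.leaf 0) (.leaf 0)))))))

/-- A suborbit and a mover, part 459. -/
def redCodePart459 : Janko1.Tree ℕ := (.node (.node (.node (.node (.node (.node (.leaf 0) (.leaf 0)) (.node (.leaf 0) (.leaf 0))) (.node (.node (.leaf 0) (.leaf 0)) (.node (.leaf 0) (.leaf 0)))) (.node (.node (.node (.leaf 0) (.leaf 0)) (.node (.leaf 0) (.leaf 0))) (.node (.node (.leaf 0) (.leaf 0)) (.node (.leaf 0) (.leaf 0))))) (.node (.node (.node (.node (.leaf 0) (.leaf 0)) (.node (.leaf 0) (.leaf 0))) (.node (.node (.leaf 0) (.leaf 0)) (.node (.leaf 0) (.leaf 0)))) (.node (.node (.node (.leaf 0) (.leaf 0)) (.node (.leaf 0) (.leaf 0))) (.node (.node (.leaf 0) (.leaf 0)) (.node (.leaf 0) (.leaf 0)))))) (.node (.node (.node (.node (.node (.leaf 0) (.leaf 0)) (.node (.leaf 0) (.leaf 0))) (.node (.node (.leaf 0) (.leaf 0)) (.node (.leaf 0) (.leaf 0)))) (.node (.node (.node (.leaf 0) (.leaf 0)) (.node (.leaf 0) (.leaf 0))) (.node (.node (.leaf 0) (.leaf 0)) (.node (.leaf 0) (.leaf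 0))))) (.node (.node (.node (.node (.leaf 0) (.leaf 0)) (.node (.leaf 0) (.leaf 0))) (.node (.node (.leaf 0) (.leaf 0)) (.node (.leaf 0) (.leaf 0)))) (.node (.node (.node (.leaf 0) (.leaf 0)) (.node (.leaf 0) (.leaf 0))) (.node (.node (.leaf 0) (.leaf 0)) (.node (.leaf 0) (.leaf 0)))))))

/-- A suborbit and a mover, part 460. -/
def redCodePart460 : Janko1.Tree ℕ := (.node (.node (.node (.node (.node (.node (.leaf 0) (.leaf 0)) (.node (.leaf 0) (.leaf 0))) (.node (.node (.leaf 0) (.leaf 0)) (.node (.leaf 0) (.leaf 0)))) (.node (.node (.node (.leaf 0) (.leaf 0)) (.node (.leaf 0) (.leaf 0))) (.node (.node (.leaf 0) (.leaf 0)) (.node (.leaf 0) (.leaf 0))))) (.node (.node (.node (.node (.leaf 0) (.leaf 0)) (.node (.leaf 0) (.leaf 0))) (.node (.node (.leaf 0) (.leaf 0)) (.node (.leaf 0) (.leaf 0)))) (.node (.node (.node (.leaf 0) (.leaf 0)) (.node (.leaf 0) (.leaf 0))) (.node (.node (.leaf 0) (.leaf 0)) (.node (.leaf 0) (.leaf 0)))))) (.node (.node (.node (.node (.node (.leaf 0) (.leaf 0)) (.node (.leaf 0) (.leaf 0))) (.node (.node (.leaf 0) (.leaf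 0)) (.node (.leaf 0) (.leaf 0)))) (.node (.node (.node (.leaf 0) (.leaf 0)) (.node (.leaf 0) (.leaf 0))) (.node (.node (.leaf 0) (.leaf 0)) (.node (.leaf 0) (.leaf 0))))) (.node (.node (.node (.node (.leaf 0) (.leaf 0)) (.node (.leaf 0) (.leaf 0))) (.node (.node (.leaf 0) (.leaf 0)) (.node (.leaf 0) (.leaf 0)))) (.node (.node (.node (.leaf 0) (.leaf 0)) (.node (.leaf 0) (.leaf 0))) (.node (.node (.leaf 0) (.leaf 0)) (.node (.leaf 0) (.leaf 0)))))))

/-- A suborbit and a mover, part 461. -/
def redCodePart461 : Janko1.Tree ℕ := (.node (.node (.node (.node (.node (.node (.leaf 0) (.leaf 0)) (.node (.leaf 0) (.leaf 0))) (.node (.node (.leaf 0) (.leaf 0)) (.node (.leaf 0) (.leaf 0)))) (.node (.node (.node (.leaf 0) (.leaf 0)) (.node (.leaf 0) (.leaf 0))) (.node (.node (.leaf 0) (.leaf 0)) (.node (.leaf 0) (.leaf 0))))) (.node (.node (.node (.node (.leaf 0) (.leaf 0)) (.node (.leaf 0) (.leaf 0))) (.node (.node (.leaf 0) (.leaf 0)) (.node (.leaf 0) (.leaf 0)))) (.node (.node (.node (.leaf 0) (.leaf 0)) (.node (.leaf 0) (.leaf 0))) (.node (.node (.leaf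 0) (.leaf 0)) (.node (.leaf 0) (.leaf 0)))))) (.node (.node (.node (.node (.node (.leaf 0) (.leaf 0)) (.node (.leaf 0) (.leaf 0))) (.node (.node (.leaf 0) (.leaf 0)) (.node (.leaf 0) (.leaf 0)))) (.node (.node (.node (.leaf 0) (.leaf 0)) (.node (.leaf 0) (.leaf 0))) (.node (.node (.leaf 0) (.leaf 0)) (.node (.leaf 0) (.leaf 0))))) (.node (.node (.node (.node (.leaf 0) (.leaf 0)) (.node (.leaf 0) (.leaf 0))) (.node (.node (.leaf 0) (.leaf 0)) (.node (.leaf 0) (.leaf 0)))) (.node (.node (.node (.leaf 0) (.leaf 0)) (.node (.leaf 0) (.leaf 0))) (.node (.node (.leaf 0) (.leaf 0)) (.node (.leaf 0) (.leaf 0)))))))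

/-- A suborbit and a mover, part 462. -/
def redCodePart462 : Janko1.Tree ℕ := (.node (.node (.node (.node (.node (.node (.leaf 0) (.leaf 0)) (.node (.leaf 0) (.leaf 0))) (.node (.node (.leaf 0) (.leaf 0)) (.node (.leaf 0) (.leaf 0)))) (.node (.node (.node (.leaf 0) (.leaf 0)) (.node (.leaf 0) (.leaf 0))) (.node (.node (.leaf 0) (.leaf 0)) (.node (.leaf 0) (.leaf 0))))) (.node (.node (.node (.node (.leaf 0) (.leaf 0)) (.node (.leaf 0) (.leaf 0))) (.node (.node (.leaf 0) (.leaf 0)) (.node (.leaf 0) (.leaf 0)))) (.node (.node (.node (.leaf 0) (.leaf 0)) (.node (.leaf 0) (.leaf 0))) (.node (.node (.leaf 0) (.leaf 0)) (.node (.leaf 0) (.leaf 0)))))) (.node (.node (.node (.node (.node (.leaf 0) (.leaf 0)) (.node (.leaf 0) (.leaf 0))) (.node (.node (.leaf 0) (.leaf 0)) (.node (.leaf 0) (.leaf 0)))) (.node (.node (.node (.leaf 0) (.leaf 0)) (.node (.leaf 0) (.leaf 0))) (.node (.node (.leaf 0) (.leaf 0)) (.node (.leaf 0) (.leaf 0))))) (.node (.node (.node (.node (.leaf 0) (.leaf 0)) (.node (.leaf 0) (.leaf 0))) (.node (.node (.leaf 0) (.leaf 0)) (.node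 (.leaf 0) (.leaf 0)))) (.node (.node (.node (.leaf 0) (.leaf 0)) (.node (.leaf 0) (.leaf 0))) (.node (.node (.leaf 0) (.leaf 0)) (.node (.leaf 0) (.leaf 0)))))))

/-- A suborbit and a mover, part 463. -/
def redCodePart463 : Janko1.Tree ℕ := (.node (.node (.node (.node (.node (.node (.leaf 0) (.leaf 0)) (.node (.leaf 0) (.leaf 0))) (.node (.node (.leaf 0) (.leaf 0)) (.node (.leaf 0) (.leaf 0)))) (.node (.node (.node (.leaf 0) (.leaf 0)) (.node (.leaf 0) (.leaf 0))) (.node (.node (.leaf 0) (.leaf 0)) (.node (.leaf 0) (.leaf 0))))) (.node (.node (.node (.node (.leaf 0) (.leaf 0)) (.node (.leaf 0) (.leaf 0))) (.node (.node (.leaf 0) (.leaf 0)) (.node (.leaf 0) (.leaf 0)))) (.node (.node (.node (.leaf 0) (.leaf 0)) (.node (.leaf 0) (.leaf 0))) (.node (.node (.leaf 0) (.leaf 0)) (.node (.leaf 0) (.leaf 0)))))) (.node (.node (.node (.node (.node (.leaf 0) (.leaf 0)) (.node (.leaf 0) (.leaf 0))) (.node (.node (.leaf 0) (.leaf 0)) (.node (.leaf 0) (.leaf 0)))) (.node (.node (.node (.leaf 0) (.leaf 0)) (.node (.leaf 0) (.leaf 0))) (.node (.node (.leaf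 0) (.leaf 0)) (.node (.leaf 0) (.leaf 0))))) (.node (.node (.node (.node (.leaf 0) (.leaf 0)) (.node (.leaf 0) (.leaf 0))) (.node (.node (.leaf 0) (.leaf 0)) (.node (.leaf 0) (.leaf 0)))) (.node (.node (.node (.leaf 0) (.leaf 0)) (.node (.leaf 0) (.leaf 0))) (.node (.node (.leaf 0) (.leaf 0)) (.node (.leaf 0) (.leaf 0)))))))

/-- A suborbit and a mover, part 464. -/
def redCodePart464 : Janko1.Tree ℕ := (.node (.node (.node (.node (.node (.node (.leaf 0) (.leaf 0)) (.node (.leaf 0) (.leaf 0))) (.node (.node (.leaf 0) (.leaf 0)) (.node (.leaf 0) (.leaf 0)))) (.node (.node (.node (.leaf 0) (.leaf 0)) (.node (.leaf 0) (.leaf 0))) (.node (.node (.leaf 0) (.leaf 0)) (.node (.leaf 0) (.leaf 0))))) (.node (.node (.node (.node (.leaf 0) (.leaf 0)) (.node (.leaf 0) (.leaf 0))) (.node (.node (.leaf 0) (.leaf 0)) (.node (.leaf 0) (.leaf 0)))) (.node (.node (.node (.leaf 0) (.leaf 0)) (.node (.leaf 0) (.leaf 0))) (.node (.node (.leaf 0) (.leaf 0)) (.node (.leaf 0) (.leaf 0)))))) (.node (.node (.node (.node (.node (.leaf 0) (.leaf 0)) (.node (.leaf 0) (.leaf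 0))) (.node (.node (.leaf 0) (.leaf 0)) (.node (.leaf 0) (.leaf 0)))) (.node (.node (.node (.leaf 0) (.leaf 0)) (.node (.leaf 0) (.leaf 0))) (.node (.node (.leaf 0) (.leaf 0)) (.node (.leaf 0) (.leaf 0))))) (.node (.node (.node (.node (.leaf 0) (.leaf 0)) (.node (.leaf 0) (.leaf 0))) (.node (.node (.leaf 0) (.leaf 0)) (.node (.leaf 0) (.leaf 0)))) (.node (.node (.node (.leaf 0) (.leaf 0)) (.node (.leaf 0) (.leaf 0))) (.node (.node (.leaf 0) (.leaf 0)) (.node (.leaf 0) (.leaf 0)))))))

/-- A suborbit and a mover, part 465. -/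
def redCodePart465 : Janko1.Tree ℕ := (.node (.node (.node (.node (.node (.node (.leaf 0) (.leaf 0)) (.node (.leaf 0) (.leaf 0))) (.node (.node (.leaf 0) (.leaf 0)) (.node (.leaf 0) (.leaf 0)))) (.node (.node (.node (.leaf 0) (.leaf 0)) (.node (.leaf 0) (.leaf 0))) (.node (.node (.leaf 0) (.leaf 0)) (.node (.leaf 0) (.leaf 0))))) (.node (.node (.node (.node (.leaf 0) (.leaf 0)) (.node (.leaf 0) (.leaf 0))) (.node (.node (.leaf 0) (.leaf 0)) (.node (.leaf 0) (.leaf 0)))) (.node (.node (.node (.leaf 0) (.leaf 0)) (.node (.leaf 0) (.leaf 0))) (.node (.node (.leaf 0) (.leaf 0)) (.node (.leaf 0) (.leaf 0)))))) (.node (.node (.node (.node (.node (.leaf 0) (.leaf 0)) (.node (.leaf 0) (.leaf 0))) (.node (.node (.leaf 0) (.leaf 0)) (.node (.leaf 0) (.leaf 0)))) (.node (.node (.node (.leaf 0) (.leaf 0)) (.node (.leaf 0) (.leaf 0))) (.node (.node (.leaf 0) (.leaf 0)) (.node (.leaf 0) (.leaf 0))))) (.node (.node (.node (.node (.leaf 0) (.leaf 0)) (.node (.leaf 0) (.leaf 0))) (.node (.node (.leaf 0) (.leaf 0)) (.node (.leaf 0) (.leaf 0)))) (.node (.node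 (.node (.leaf 0) (.leaf 0)) (.node (.leaf 0) (.leaf 0))) (.node (.node (.leaf 0) (.leaf 0)) (.node (.leaf 0) (.leaf 0)))))))

/-- A suborbit and a mover, part 466. -/
def redCodePart466 : Janko1.Tree ℕ := (.node (.node (.node (.node (.node (.node (.leaf 0) (.leaf 0)) (.node (.leaf 0) (.leaf 0))) (.node (.node (.leaf 0) (.leaf 0)) (.node (.leaf 0) (.leaf 0)))) (.node (.node (.node (.leaf 0) (.leaf 0)) (.node (.leaf 0) (.leaf 0))) (.node (.node (.leaf 0) (.leaf 0)) (.node (.leaf 0) (.leaf 0))))) (.node (.node (.node (.node (.leaf 0) (.leaf 0)) (.node (.leaf 0) (.leaf 0))) (.node (.node (.leaf 0) (.leaf 0)) (.node (.leaf 0) (.leaf 0)))) (.node (.node (.node (.leaf 0) (.leaf 0)) (.node (.leaf 0) (.leaf 0))) (.node (.node (.leaf 0) (.leaf 0)) (.node (.leaf 0) (.leaf 0)))))) (.node (.node (.node (.node (.node (.leaf 0) (.leaf 0)) (.node (.leaf 0) (.leaf 0))) (.node (.node (.leaf 0) (.leaf 0)) (.node (.leaf 0) (.leaf 0)))) (.node (.node (.node (.leaf 0) (.leaf 0)) (.node (.leaf 0) (.leaf 0))) (.node (.node (.leaf 0) (.leaf 0)) (.node (.leaf 0) (.leaf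 0))))) (.node (.node (.node (.node (.leaf 0) (.leaf 0)) (.node (.leaf 0) (.leaf 0))) (.node (.node (.leaf 0) (.leaf 0)) (.node (.leaf 0) (.leaf 0)))) (.node (.node (.node (.leaf 0) (.leaf 0)) (.node (.leaf 0) (.leaf 0))) (.node (.node (.leaf 0) (.leaf 0)) (.node (.leaf 0) (.leaf 0)))))))

/-- A suborbit and a mover, part 467. -/
def redCodePart467 : Janko1.Tree ℕ := (.node (.node (.node (.node (.node (.node (.leaf 0) (.leaf 0)) (.node (.leaf 0) (.leaf 0))) (.node (.node (.leaf 0) (.leaf 0)) (.node (.leaf 0) (.leaf 0)))) (.node (.node (.node (.leaf 0) (.leaf 0)) (.node (.leaf 0) (.leaf 0))) (.node (.node (.leaf 0) (.leaf 0)) (.node (.leaf 0) (.leaf 0))))) (.node (.node (.node (.node (.leaf 0) (.leaf 0)) (.node (.leaf 0) (.leaf 0))) (.node (.node (.leaf 0) (.leaf 0)) (.node (.leaf 0) (.leaf 0)))) (.node (.node (.node (.leaf 0) (.leaf 0)) (.node (.leaf 0) (.leaf 0))) (.node (.node (.leaf 0) (.leaf 0)) (.node (.leaf 0) (.leaf 0)))))) (.node (.node (.node (.node (.node (.leaf 0) (.leaf 0)) (.node (.leaf 0) (.leaf 0))) (.node (.node (.leaf 0) (.leaf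 0)) (.node (.leaf 0) (.leaf 0)))) (.node (.node (.node (.leaf 0) (.leaf 0)) (.node (.leaf 0) (.leaf 0))) (.node (.node (.leaf 0) (.leaf 0)) (.node (.leaf 0) (.leaf 0))))) (.node (.node (.node (.node (.leaf 0) (.leaf 0)) (.node (.leaf 0) (.leaf 0))) (.node (.node (.leaf 0) (.leaf 0)) (.node (.leaf 0) (.leaf 0)))) (.node (.node (.node (.leaf 0) (.leaf 0)) (.node (.leaf 0) (.leaf 0))) (.node (.node (.leaf 0) (.leaf 0)) (.node (.leaf 0) (.leaf 0)))))))

/-- A suborbit and a mover, part 468. -/
def redCodePart468 : Janko1.Tree ℕ := (.node (.node (.node (.node (.node (.node (.leaf 0) (.leaf 0)) (.node (.leaf 0) (.leaf 0))) (.node (.node (.leaf 0) (.leaf 0)) (.node (.leaf 0) (.leaf 0)))) (.node (.node (.node (.leaf 0) (.leaf 0)) (.node (.leaf 0) (.leaf 0))) (.node (.node (.leaf 0) (.leaf 0)) (.node (.leaf 0) (.leaf 0))))) (.node (.node (.node (.node (.leaf 0) (.leaf 0)) (.node (.leaf 0) (.leaf 0))) (.node (.node (.leaf 0) (.leaf 0)) (.node (.leaf 0) (.leaf 0)))) (.node (.node (.node (.leaf 0) (.leaf 0)) (.node (.leaf 0) (.leaf 0))) (.node (.node (.leaf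 0) (.leaf 0)) (.node (.leaf 0) (.leaf 0)))))) (.node (.node (.node (.node (.node (.leaf 0) (.leaf 0)) (.node (.leaf 0) (.leaf 0))) (.node (.node (.leaf 0) (.leaf 0)) (.node (.leaf 0) (.leaf 0)))) (.node (.node (.node (.leaf 0) (.leaf 0)) (.node (.leaf 0) (.leaf 0))) (.node (.node (.leaf 0) (.leaf 0)) (.node (.leaf 0) (.leaf 0))))) (.node (.node (.node (.node (.leaf 0) (.leaf 0)) (.node (.leaf 0) (.leaf 0))) (.node (.node (.leaf 0) (.leaf 0)) (.node (.leaf 0) (.leaf 0)))) (.node (.node (.node (.leaf 0) (.leaf 0)) (.node (.leaf 0) (.leaf 0))) (.node (.node (.leaf 0) (.leaf 0)) (.node (.leaf 0) (.leaf 0)))))))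

/-- A suborbit and a mover, part 469. -/
def redCodePart469 : Janko1.Tree ℕ := (.node (.node (.node (.node (.node (.node (.leaf 0) (.leaf 0)) (.node (.leaf 0) (.leaf 0))) (.node (.node (.leaf 0) (.leaf 0)) (.node (.leaf 0) (.leaf 0)))) (.node (.node (.node (.leaf 0) (.leaf 0)) (.node (.leaf 0) (.leaf 0))) (.node (.node (.leaf 0) (.leaf 0)) (.node (.leaf 0) (.leaf 0))))) (.node (.node (.node (.node (.leaf 0) (.leaf 0)) (.node (.leaf 0) (.leaf 0))) (.node (.node (.leaf 0) (.leaf 0)) (.node (.leaf 0) (.leaf 0)))) (.node (.node (.node (.leaf 0) (.leaf 0)) (.node (.leaf 0) (.leaf 0))) (.node (.node (.leaf 0) (.leaf 0)) (.node (.leaf 0) (.leaf 0)))))) (.node (.node (.node (.node (.node (.leaf 0) (.leaf 0)) (.node (.leaf 0) (.leaf 0))) (.node (.node (.leaf 0) (.leaf 0)) (.node (.leaf 0) (.leaf 0)))) (.node (.node (.node (.leaf 0) (.leaf 0)) (.node (.leaf 0) (.leaf 0))) (.node (.node (.leaf 0) (.leaf 0)) (.node (.leaf 0) (.leaf 0))))) (.node (.node (.node (.node (.leaf 0) (.leaf 0)) (.node (.leaf 0) (.leaf 0))) (.node (.node (.leaf 0) (.leaf 0)) (.node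 (.leaf 0) (.leaf 0)))) (.node (.node (.node (.leaf 0) (.leaf 0)) (.node (.leaf 0) (.leaf 0))) (.node (.node (.leaf 0) (.leaf 0)) (.node (.leaf 0) (.leaf 0)))))))

/-- A suborbit and a mover, part 470. -/
def redCodePart470 : Janko1.Tree ℕ := (.node (.node (.node (.node (.node (.node (.leaf 0) (.leaf 0)) (.node (.leaf 0) (.leaf 0))) (.node (.node (.leaf 0) (.leaf 0)) (.node (.leaf 0) (.leaf 0)))) (.node (.node (.node (.leaf 0) (.leaf 0)) (.node (.leaf 0) (.leaf 0))) (.node (.node (.leaf 0) (.leaf 0)) (.node (.leaf 0) (.leaf 0))))) (.node (.node (.node (.node (.leaf 0) (.leaf 0)) (.node (.leaf 0) (.leaf 0))) (.node (.node (.leaf 0) (.leaf 0)) (.node (.leaf 0) (.leaf 0)))) (.node (.node (.node (.leaf 0) (.leaf 0)) (.node (.leaf 0) (.leaf 0))) (.node (.node (.leaf 0) (.leaf 0)) (.node (.leaf 0) (.leaf 0)))))) (.node (.node (.node (.node (.node (.leaf 0) (.leaf 0)) (.node (.leaf 0) (.leaf 0))) (.node (.node (.leaf 0) (.leaf 0)) (.node (.leaf 0) (.leaf 0)))) (.node (.node (.node (.leaf 0) (.leaf 0)) (.node (.leaf 0) (.leaf 0))) (.node (.node (.leaf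 0) (.leaf 0)) (.node (.leaf 0) (.leaf 0))))) (.node (.node (.node (.node (.leaf 0) (.leaf 0)) (.node (.leaf 0) (.leaf 0))) (.node (.node (.leaf 0) (.leaf 0)) (.node (.leaf 0) (.leaf 0)))) (.node (.node (.node (.leaf 0) (.leaf 0)) (.node (.leaf 0) (.leaf 0))) (.node (.node (.leaf 0) (.leaf 0)) (.node (.leaf 0) (.leaf 0)))))))

/-- A suborbit and a mover, part 471. -/
def redCodePart471 : Janko1.Tree ℕ := (.node (.node (.node (.node (.node (.node (.leaf 0) (.leaf 0)) (.node (.leaf 0) (.leaf 0))) (.node (.node (.leaf 0) (.leaf 0)) (.node (.leaf 0) (.leaf 0)))) (.node (.node (.node (.leaf 0) (.leaf 0)) (.node (.leaf 0) (.leaf 0))) (.node (.node (.leaf 0) (.leaf 0)) (.node (.leaf 0) (.leaf 0))))) (.node (.node (.node (.node (.leaf 0) (.leaf 0)) (.node (.leaf 0) (.leaf 0))) (.node (.node (.leaf 0) (.leaf 0)) (.node (.leaf 0) (.leaf 0)))) (.node (.node (.node (.leaf 0) (.leaf 0)) (.node (.leaf 0) (.leaf 0))) (.node (.node (.leaf 0) (.leaf 0)) (.node (.leaf 0) (.leaf 0)))))) (.node (.node (.node (.node (.node (.leaf 0) (.leaf 0)) (.node (.leaf 0) (.leaf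 0))) (.node (.node (.leaf 0) (.leaf 0)) (.node (.leaf 0) (.leaf 0)))) (.node (.node (.node (.leaf 0) (.leaf 0)) (.node (.leaf 0) (.leaf 0))) (.node (.node (.leaf 0) (.leaf 0)) (.node (.leaf 0) (.leaf 0))))) (.node (.node (.node (.node (.leaf 0) (.leaf 0)) (.node (.leaf 0) (.leaf 0))) (.node (.node (.leaf 0) (.leaf 0)) (.node (.leaf 0) (.leaf 0)))) (.node (.node (.node (.leaf 0) (.leaf 0)) (.node (.leaf 0) (.leaf 0))) (.node (.node (.leaf 0) (.leaf 0)) (.node (.leaf 0) (.leaf 0)))))))

/-- A suborbit and a mover, part 472. -/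
def redCodePart472 : Janko1.Tree ℕ := (.node (.node (.node (.node (.node (.node (.leaf 0) (.leaf 0)) (.node (.leaf 0) (.leaf 0))) (.node (.node (.leaf 0) (.leaf 0)) (.node (.leaf 0) (.leaf 0)))) (.node (.node (.node (.leaf 0) (.leaf 0)) (.node (.leaf 0) (.leaf 0))) (.node (.node (.leaf 0) (.leaf 0)) (.node (.leaf 0) (.leaf 0))))) (.node (.node (.node (.node (.leaf 0) (.leaf 0)) (.node (.leaf 0) (.leaf 0))) (.node (.node (.leaf 0) (.leaf 0)) (.node (.leaf 0) (.leaf 0)))) (.node (.node (.node (.leaf 0) (.leaf 0)) (.node (.leaf 0) (.leaf 0))) (.node (.node (.leaf 0) (.leaf 0)) (.node (.leaf 0) (.leaf 0)))))) (.node (.node (.node (.node (.node (.leaf 0) (.leaf 0)) (.node (.leaf 0) (.leaf 0))) (.node (.node (.leaf 0) (.leaf 0)) (.node (.leaf 0) (.leaf 0)))) (.node (.node (.node (.leaf 0) (.leaf 0)) (.node (.leaf 0) (.leaf 0))) (.node (.node (.leaf 0) (.leaf 0)) (.node (.leaf 0) (.leaf 0))))) (.node (.node (.node (.node (.leaf 0) (.leaf 0)) (.node (.leaf 0) (.leaf 0))) (.node (.node (.leaf 0) (.leaf 0)) (.node (.leaf 0) (.leaf 0)))) (.node (.node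 (.node (.leaf 0) (.leaf 0)) (.node (.leaf 0) (.leaf 0))) (.node (.node (.leaf 0) (.leaf 0)) (.node (.leaf 0) (.leaf 0)))))))

/-- A suborbit and a mover, part 473. -/
def redCodePart473 : Janko1.Tree ℕ := (.node (.node (.node (.node (.node (.node (.leaf 0) (.leaf 0)) (.node (.leaf 0) (.leaf 0))) (.node (.node (.leaf 0) (.leaf 0)) (.node (.leaf 0) (.leaf 0)))) (.node (.node (.node (.leaf 0) (.leaf 0)) (.node (.leaf 0) (.leaf 0))) (.node (.node (.leaf 0) (.leaf 0)) (.node (.leaf 0) (.leaf 0))))) (.node (.node (.node (.node (.leaf 0) (.leaf 0)) (.node (.leaf 0) (.leaf 0))) (.node (.node (.leaf 0) (.leaf 0)) (.node (.leaf 0) (.leaf 0)))) (.node (.node (.node (.leaf 0) (.leaf 0)) (.node (.leaf 0) (.leaf 0))) (.node (.node (.leaf 0) (.leaf 0)) (.node (.leaf 0) (.leaf 0)))))) (.node (.node (.node (.node (.node (.leaf 0) (.leaf 0)) (.node (.leaf 0) (.leaf 0))) (.node (.node (.leaf 0) (.leaf 0)) (.node (.leaf 0) (.leaf 0)))) (.node (.node (.node (.leaf 0) (.leaf 0)) (.node (.leaf 0) (.leaf 0))) (.node (.node (.leaf 0) (.leaf 0)) (.node (.leaf 0) (.leaf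 0))))) (.node (.node (.node (.node (.leaf 0) (.leaf 0)) (.node (.leaf 0) (.leaf 0))) (.node (.node (.leaf 0) (.leaf 0)) (.node (.leaf 0) (.leaf 0)))) (.node (.node (.node (.leaf 0) (.leaf 0)) (.node (.leaf 0) (.leaf 0))) (.node (.node (.leaf 0) (.leaf 0)) (.node (.leaf 0) (.leaf 0)))))))

/-- A suborbit and a mover, part 474. -/
def redCodePart474 : Janko1.Tree ℕ := (.node (.node (.node (.node (.node (.node (.leaf 0) (.leaf 0)) (.node (.leaf 0) (.leaf 0))) (.node (.node (.leaf 0) (.leaf 0)) (.node (.leaf 0) (.leaf 0)))) (.node (.node (.node (.leaf 0) (.leaf 0)) (.node (.leaf 0) (.leaf 0))) (.node (.node (.leaf 0) (.leaf 0)) (.node (.leaf 0) (.leaf 0))))) (.node (.node (.node (.node (.leaf 0) (.leaf 0)) (.node (.leaf 0) (.leaf 0))) (.node (.node (.leaf 0) (.leaf 0)) (.node (.leaf 0) (.leaf 0)))) (.node (.node (.node (.leaf 0) (.leaf 0)) (.node (.leaf 0) (.leaf 0))) (.node (.node (.leaf 0) (.leaf 0)) (.node (.leaf 0) (.leaf 0)))))) (.node (.node (.node (.node (.node (.leaf 0) (.leaf 0)) (.node (.leaf 0) (.leaf 0))) (.node (.node (.leaf 0) (.leaf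 0)) (.node (.leaf 0) (.leaf 0)))) (.node (.node (.node (.leaf 0) (.leaf 0)) (.node (.leaf 0) (.leaf 0))) (.node (.node (.leaf 0) (.leaf 0)) (.node (.leaf 0) (.leaf 0))))) (.node (.node (.node (.node (.leaf 0) (.leaf 0)) (.node (.leaf 0) (.leaf 0))) (.node (.node (.leaf 0) (.leaf 0)) (.node (.leaf 0) (.leaf 0)))) (.node (.node (.node (.leaf 0) (.leaf 0)) (.node (.leaf 0) (.leaf 0))) (.node (.node (.leaf 0) (.leaf 0)) (.node (.leaf 0) (.leaf 0)))))))

/-- A suborbit and a mover, part 475. -/
def redCodePart475 : Janko1.Tree ℕ := (.node (.node (.node (.node (.node (.node (.leaf 0) (.leaf 0)) (.node (.leaf 0) (.leaf 0))) (.node (.node (.leaf 0) (.leaf 0)) (.node (.leaf 0) (.leaf 0)))) (.node (.node (.node (.leaf 0) (.leaf 0)) (.node (.leaf 0) (.leaf 0))) (.node (.node (.leaf 0) (.leaf 0)) (.node (.leaf 0) (.leaf 0))))) (.node (.node (.node (.node (.leaf 0) (.leaf 0)) (.node (.leaf 0) (.leaf 0))) (.node (.node (.leaf 0) (.leaf 0)) (.node (.leaf 0) (.leaf 0)))) (.node (.node (.node (.leaf 0) (.leaf 0)) (.node (.leaf 0) (.leaf 0))) (.node (.node (.leaf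 0) (.leaf 0)) (.node (.leaf 0) (.leaf 0)))))) (.node (.node (.node (.node (.node (.leaf 0) (.leaf 0)) (.node (.leaf 0) (.leaf 0))) (.node (.node (.leaf 0) (.leaf 0)) (.node (.leaf 0) (.leaf 0)))) (.node (.node (.node (.leaf 0) (.leaf 0)) (.node (.leaf 0) (.leaf 0))) (.node (.node (.leaf 0) (.leaf 0)) (.node (.leaf 0) (.leaf 0))))) (.node (.node (.node (.node (.leaf 0) (.leaf 0)) (.node (.leaf 0) (.leaf 0))) (.node (.node (.leaf 0) (.leaf 0)) (.node (.leaf 0) (.leaf 0)))) (.node (.node (.node (.leaf 0) (.leaf 0)) (.node (.leaf 0) (.leaf 0))) (.node (.node (.leaf 0) (.leaf 0)) (.node (.leaf 0) (.leaf 0)))))))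

/-- A suborbit and a mover, part 476. -/
def redCodePart476 : Janko1.Tree ℕ := (.node (.node (.node (.node (.node (.node (.leaf 0) (.leaf 0)) (.node (.leaf 0) (.leaf 0))) (.node (.node (.leaf 0) (.leaf 0)) (.node (.leaf 0) (.leaf 0)))) (.node (.node (.node (.leaf 0) (.leaf 0)) (.node (.leaf 0) (.leaf 0))) (.node (.node (.leaf 0) (.leaf 0)) (.node (.leaf 0) (.leaf 0))))) (.node (.node (.node (.node (.leaf 0) (.leaf 0)) (.node (.leaf 0) (.leaf 0))) (.node (.node (.leaf 0) (.leaf 0)) (.node (.leaf 0) (.leaf 0)))) (.node (.node (.node (.leaf 0) (.leaf 0)) (.node (.leaf 0) (.leaf 0))) (.node (.node (.leaf 0) (.leaf 0)) (.node (.leaf 0) (.leaf 0)))))) (.node (.node (.node (.node (.node (.leaf 0) (.leaf 0)) (.node (.leaf 0) (.leaf 0))) (.node (.node (.leaf 0) (.leaf 0)) (.node (.leaf 0) (.leaf 0)))) (.node (.node (.node (.leaf 0) (.leaf 0)) (.node (.leaf 0) (.leaf 0))) (.node (.node (.leaf 0) (.leaf 0)) (.node (.leaf 0) (.leaf 0))))) (.node (.node (.node (.node (.leaf 0) (.leaf 0)) (.node (.leaf 0) (.leaf 0))) (.node (.node (.leaf 0) (.leaf 0)) (.node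 (.leaf 0) (.leaf 0)))) (.node (.node (.node (.leaf 0) (.leaf 0)) (.node (.leaf 0) (.leaf 0))) (.node (.node (.leaf 0) (.leaf 0)) (.node (.leaf 0) (.leaf 0)))))))

/-- A suborbit and a mover, part 477. -/
def redCodePart477 : Janko1.Tree ℕ := (.node (.node (.node (.node (.node (.node (.leaf 0) (.leaf 0)) (.node (.leaf 0) (.leaf 0))) (.node (.node (.leaf 0) (.leaf 0)) (.node (.leaf 0) (.leaf 0)))) (.node (.node (.node (.leaf 0) (.leaf 0)) (.node (.leaf 0) (.leaf 0))) (.node (.node (.leaf 0) (.leaf 0)) (.node (.leaf 0) (.leaf 0))))) (.node (.node (.node (.node (.leaf 0) (.leaf 0)) (.node (.leaf 0) (.leaf 0))) (.node (.node (.leaf 0) (.leaf 0)) (.node (.leaf 0) (.leaf 0)))) (.node (.node (.node (.leaf 0) (.leaf 0)) (.node (.leaf 0) (.leaf 0))) (.node (.node (.leaf 0) (.leaf 0)) (.node (.leaf 0) (.leaf 0)))))) (.node (.node (.node (.node (.node (.leaf 0) (.leaf 0)) (.node (.leaf 0) (.leaf 0))) (.node (.node (.leaf 0) (.leaf 0)) (.node (.leaf 0) (.leaf 0)))) (.node (.node (.node (.leaf 0) (.leaf 0)) (.node (.leaf 0) (.leaf 0))) (.node (.node (.leaf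 0) (.leaf 0)) (.node (.leaf 0) (.leaf 0))))) (.node (.node (.node (.node (.leaf 0) (.leaf 0)) (.node (.leaf 0) (.leaf 0))) (.node (.node (.leaf 0) (.leaf 0)) (.node (.leaf 0) (.leaf 0)))) (.node (.node (.node (.leaf 0) (.leaf 0)) (.node (.leaf 0) (.leaf 0))) (.node (.node (.leaf 0) (.leaf 0)) (.node (.leaf 0) (.leaf 0)))))))

/-- A suborbit and a mover, part 478. -/
def redCodePart478 : Janko1.Tree ℕ := (.node (.node (.node (.node (.node (.node (.leaf 0) (.leaf 0)) (.node (.leaf 0) (.leaf 0))) (.node (.node (.leaf 0) (.leaf 0)) (.node (.leaf 0) (.leaf 0)))) (.node (.node (.node (.leaf 0) (.leaf 0)) (.node (.leaf 0) (.leaf 0))) (.node (.node (.leaf 0) (.leaf 0)) (.node (.leaf 0) (.leaf 0))))) (.node (.node (.node (.node (.leaf 0) (.leaf 0)) (.node (.leaf 0) (.leaf 0))) (.node (.node (.leaf 0) (.leaf 0)) (.node (.leaf 0) (.leaf 0)))) (.node (.node (.node (.leaf 0) (.leaf 0)) (.node (.leaf 0) (.leaf 0))) (.node (.node (.leaf 0) (.leaf 0)) (.node (.leaf 0) (.leaf 0)))))) (.node (.node (.node (.node (.node (.leaf 0) (.leaf 0)) (.node (.leaf 0) (.leaf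 0))) (.node (.node (.leaf 0) (.leaf 0)) (.node (.leaf 0) (.leaf 0)))) (.node (.node (.node (.leaf 0) (.leaf 0)) (.node (.leaf 0) (.leaf 0))) (.node (.node (.leaf 0) (.leaf 0)) (.node (.leaf 0) (.leaf 0))))) (.node (.node (.node (.node (.leaf 0) (.leaf 0)) (.node (.leaf 0) (.leaf 0))) (.node (.node (.leaf 0) (.leaf 0)) (.node (.leaf 0) (.leaf 0)))) (.node (.node (.node (.leaf 0) (.leaf 0)) (.node (.leaf 0) (.leaf 0))) (.node (.node (.leaf 0) (.leaf 0)) (.node (.leaf 0) (.leaf 0)))))))

/-- A suborbit and a mover, part 479. -/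
def redCodePart479 : Janko1.Tree ℕ := (.node (.node (.node (.node (.node (.node (.leaf 0) (.leaf 0)) (.node (.leaf 0) (.leaf 0))) (.node (.node (.leaf 0) (.leaf 0)) (.node (.leaf 0) (.leaf 0)))) (.node (.node (.node (.leaf 0) (.leaf 0)) (.node (.leaf 0) (.leaf 0))) (.node (.node (.leaf 0) (.leaf 0)) (.node (.leaf 0) (.leaf 0))))) (.node (.node (.node (.node (.leaf 0) (.leaf 0)) (.node (.leaf 0) (.leaf 0))) (.node (.node (.leaf 0) (.leaf 0)) (.node (.leaf 0) (.leaf 0)))) (.node (.node (.node (.leaf 0) (.leaf 0)) (.node (.leaf 0) (.leaf 0))) (.node (.node (.leaf 0) (.leaf 0)) (.node (.leaf 0) (.leaf 0)))))) (.node (.node (.node (.node (.node (.leaf 0) (.leaf 0)) (.node (.leaf 0) (.leaf 0))) (.node (.node (.leaf 0) (.leaf 0)) (.node (.leaf 0) (.leaf 0)))) (.node (.node (.node (.leaf 0) (.leaf 0)) (.node (.leaf 0) (.leaf 0))) (.node (.node (.leaf 0) (.leaf 0)) (.node (.leaf 0) (.leaf 0))))) (.node (.node (.node (.node (.leaf 0) (.leaf 0)) (.node (.leaf 0) (.leaf 0))) (.node (.node (.leaf 0) (.leaf 0)) (.node (.leaf 0) (.leaf 0)))) (.node (.node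 (.node (.leaf 0) (.leaf 0)) (.node (.leaf 0) (.leaf 0))) (.node (.node (.leaf 0) (.leaf 0)) (.node (.leaf 0) (.leaf 0)))))))

/-- A suborbit and a mover, part 480. -/
def redCodePart480 : Janko1.Tree ℕ := (.node (.node (.node (.node (.node (.node (.leaf 0) (.leaf 0)) (.node (.leaf 0) (.leaf 0))) (.node (.node (.leaf 0) (.leaf 0)) (.node (.leaf 0) (.leaf 0)))) (.node (.node (.node (.leaf 0) (.leaf 0)) (.node (.leaf 0) (.leaf 0))) (.node (.node (.leaf 0) (.leaf 0)) (.node (.leaf 0) (.leaf 0))))) (.node (.node (.node (.node (.leaf 0) (.leaf 0)) (.node (.leaf 0) (.leaf 0))) (.node (.node (.leaf 0) (.leaf 0)) (.node (.leaf 0) (.leaf 0)))) (.node (.node (.node (.leaf 0) (.leaf 0)) (.node (.leaf 0) (.leaf 0))) (.node (.node (.leaf 0) (.leaf 0)) (.node (.leaf 0) (.leaf 0)))))) (.node (.node (.node (.node (.node (.leaf 0) (.leaf 0)) (.node (.leaf 0) (.leaf 0))) (.node (.node (.leaf 0) (.leaf 0)) (.node (.leaf 0) (.leaf 0)))) (.node (.node (.node (.leaf 0) (.leaf 0)) (.node (.leaf 0) (.leaf 0))) (.node (.node (.leaf 0) (.leaf 0)) (.node (.leaf 0) (.leaf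 0))))) (.node (.node (.node (.node (.leaf 0) (.leaf 0)) (.node (.leaf 0) (.leaf 0))) (.node (.node (.leaf 0) (.leaf 0)) (.node (.leaf 0) (.leaf 0)))) (.node (.node (.node (.leaf 0) (.leaf 0)) (.node (.leaf 0) (.leaf 0))) (.node (.node (.leaf 0) (.leaf 0)) (.node (.leaf 0) (.leaf 0)))))))

/-- A suborbit and a mover, part 481. -/
def redCodePart481 : Janko1.Tree ℕ := (.node (.node (.node (.node (.node (.node (.leaf 0) (.leaf 0)) (.node (.leaf 0) (.leaf 0))) (.node (.node (.leaf 0) (.leaf 0)) (.node (.leaf 0) (.leaf 0)))) (.node (.node (.node (.leaf 0) (.leaf 0)) (.node (.leaf 0) (.leaf 0))) (.node (.node (.leaf 0) (.leaf 0)) (.node (.leaf 0) (.leaf 0))))) (.node (.node (.node (.node (.leaf 0) (.leaf 0)) (.node (.leaf 0) (.leaf 0))) (.node (.node (.leaf 0) (.leaf 0)) (.node (.leaf 0) (.leaf 0)))) (.node (.node (.node (.leaf 0) (.leaf 0)) (.node (.leaf 0) (.leaf 0))) (.node (.node (.leaf 0) (.leaf 0)) (.node (.leaf 0) (.leaf 0)))))) (.node (.node (.node (.node (.node (.leaf 0) (.leaf 0)) (.node (.leaf 0) (.leaf 0))) (.node (.node (.leaf 0) (.leaf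 0)) (.node (.leaf 0) (.leaf 0)))) (.node (.node (.node (.leaf 0) (.leaf 0)) (.node (.leaf 0) (.leaf 0))) (.node (.node (.leaf 0) (.leaf 0)) (.node (.leaf 0) (.leaf 0))))) (.node (.node (.node (.node (.leaf 0) (.leaf 0)) (.node (.leaf 0) (.leaf 0))) (.node (.node (.leaf 0) (.leaf 0)) (.node (.leaf 0) (.leaf 0)))) (.node (.node (.node (.leaf 0) (.leaf 0)) (.node (.leaf 0) (.leaf 0))) (.node (.node (.leaf 0) (.leaf 0)) (.node (.leaf 0) (.leaf 0)))))))

/-- A suborbit and a mover, part 482. -/
def redCodePart482 : Janko1.Tree ℕ := (.node (.node (.node (.node (.node (.node (.leaf 0) (.leaf 0)) (.node (.leaf 0) (.leaf 0))) (.node (.node (.leaf 0) (.leaf 0)) (.node (.leaf 0) (.leaf 0)))) (.node (.node (.node (.leaf 0) (.leaf 0)) (.node (.leaf 0) (.leaf 0))) (.node (.node (.leaf 0) (.leaf 0)) (.node (.leaf 0) (.leaf 0))))) (.node (.node (.node (.node (.leaf 0) (.leaf 0)) (.node (.leaf 0) (.leaf 0))) (.node (.node (.leaf 0) (.leaf 0)) (.node (.leaf 0) (.leaf 0)))) (.node (.node (.node (.leaf 0) (.leaf 0)) (.node (.leaf 0) (.leaf 0))) (.node (.node (.leaf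 0) (.leaf 0)) (.node (.leaf 0) (.leaf 0)))))) (.node (.node (.node (.node (.node (.leaf 0) (.leaf 0)) (.node (.leaf 0) (.leaf 0))) (.node (.node (.leaf 0) (.leaf 0)) (.node (.leaf 0) (.leaf 0)))) (.node (.node (.node (.leaf 0) (.leaf 0)) (.node (.leaf 0) (.leaf 0))) (.node (.node (.leaf 0) (.leaf 0)) (.node (.leaf 0) (.leaf 0))))) (.node (.node (.node (.node (.leaf 0) (.leaf 0)) (.node (.leaf 0) (.leaf 0))) (.node (.node (.leaf 0) (.leaf 0)) (.node (.leaf 0) (.leaf 0)))) (.node (.node (.node (.leaf 0) (.leaf 0)) (.node (.leaf 0) (.leaf 0))) (.node (.node (.leaf 0) (.leaf 0)) (.node (.leaf 0) (.leaf 0)))))))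

/-- A suborbit and a mover, part 483. -/
def redCodePart483 : Janko1.Tree ℕ := (.node (.node (.node (.node (.node (.node (.leaf 0) (.leaf 0)) (.node (.leaf 0) (.leaf 0))) (.node (.node (.leaf 0) (.leaf 0)) (.node (.leaf 0) (.leaf 0)))) (.node (.node (.node (.leaf 0) (.leaf 0)) (.node (.leaf 0) (.leaf 0))) (.node (.node (.leaf 0) (.leaf 0)) (.node (.leaf 0) (.leaf 0))))) (.node (.node (.node (.node (.leaf 0) (.leaf 0)) (.node (.leaf 0) (.leaf 0))) (.node (.node (.leaf 0) (.leaf 0)) (.node (.leaf 0) (.leaf 0)))) (.node (.node (.node (.leaf 0) (.leaf 0)) (.node (.leaf 0) (.leaf 0))) (.node (.node (.leaf 0) (.leaf 0)) (.node (.leaf 0) (.leaf 0)))))) (.node (.node (.node (.node (.node (.leaf 0) (.leaf 0)) (.node (.leaf 0) (.leaf 0))) (.node (.node (.leaf 0) (.leaf 0)) (.node (.leaf 0) (.leaf 0)))) (.node (.node (.node (.leaf 0) (.leaf 0)) (.node (.leaf 0) (.leaf 0))) (.node (.node (.leaf 0) (.leaf 0)) (.node (.leaf 0) (.leaf 0))))) (.node (.node (.node (.node (.leaf 0) (.leaf 0)) (.node (.leaf 0) (.leaf 0))) (.node (.node (.leaf 0) (.leaf 0)) (.node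 (.leaf 0) (.leaf 0)))) (.node (.node (.node (.leaf 0) (.leaf 0)) (.node (.leaf 0) (.leaf 0))) (.node (.node (.leaf 0) (.leaf 0)) (.node (.leaf 0) (.leaf 0)))))))

/-- A suborbit and a mover, part 484. -/
def redCodePart484 : Janko1.Tree ℕ := (.node (.node (.node (.node (.node (.node (.leaf 0) (.leaf 0)) (.node (.leaf 0) (.leaf 0))) (.node (.node (.leaf 0) (.leaf 0)) (.node (.leaf 0) (.leaf 0)))) (.node (.node (.node (.leaf 0) (.leaf 0)) (.node (.leaf 0) (.leaf 0))) (.node (.node (.leaf 0) (.leaf 0)) (.node (.leaf 0) (.leaf 0))))) (.node (.node (.node (.node (.leaf 0) (.leaf 0)) (.node (.leaf 0) (.leaf 0))) (.node (.node (.leaf 0) (.leaf 0)) (.node (.leaf 0) (.leaf 0)))) (.node (.node (.node (.leaf 0) (.leaf 0)) (.node (.leaf 0) (.leaf 0))) (.node (.node (.leaf 0) (.leaf 0)) (.node (.leaf 0) (.leaf 0)))))) (.node (.node (.node (.node (.node (.leaf 0) (.leaf 0)) (.node (.leaf 0) (.leaf 0))) (.node (.node (.leaf 0) (.leaf 0)) (.node (.leaf 0) (.leaf 0)))) (.node (.node (.node (.leaf 0) (.leaf 0)) (.node (.leaf 0) (.leaf 0))) (.node (.node (.leaf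 0) (.leaf 0)) (.node (.leaf 0) (.leaf 0))))) (.node (.node (.node (.node (.leaf 0) (.leaf 0)) (.node (.leaf 0) (.leaf 0))) (.node (.node (.leaf 0) (.leaf 0)) (.node (.leaf 0) (.leaf 0)))) (.node (.node (.node (.leaf 0) (.leaf 0)) (.node (.leaf 0) (.leaf 0))) (.node (.node (.leaf 0) (.leaf 0)) (.node (.leaf 0) (.leaf 0)))))))

/-- A suborbit and a mover, part 485. -/
def redCodePart485 : Janko1.Tree ℕ := (.node (.node (.node (.node (.node (.node (.leaf 0) (.leaf 0)) (.node (.leaf 0) (.leaf 0))) (.node (.node (.leaf 0) (.leaf 0)) (.node (.leaf 0) (.leaf 0)))) (.node (.node (.node (.leaf 0) (.leaf 0)) (.node (.leaf 0) (.leaf 0))) (.node (.node (.leaf 0) (.leaf 0)) (.node (.leaf 0) (.leaf 0))))) (.node (.node (.node (.node (.leaf 0) (.leaf 0)) (.node (.leaf 0) (.leaf 0))) (.node (.node (.leaf 0) (.leaf 0)) (.node (.leaf 0) (.leaf 0)))) (.node (.node (.node (.leaf 0) (.leaf 0)) (.node (.leaf 0) (.leaf 0))) (.node (.node (.leaf 0) (.leaf 0)) (.node (.leaf 0) (.leaf 0)))))) (.node (.node (.node (.node (.node (.leaf 0) (.leaf 0)) (.node (.leaf 0) (.leaf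 0))) (.node (.node (.leaf 0) (.leaf 0)) (.node (.leaf 0) (.leaf 0)))) (.node (.node (.node (.leaf 0) (.leaf 0)) (.node (.leaf 0) (.leaf 0))) (.node (.node (.leaf 0) (.leaf 0)) (.node (.leaf 0) (.leaf 0))))) (.node (.node (.node (.node (.leaf 0) (.leaf 0)) (.node (.leaf 0) (.leaf 0))) (.node (.node (.leaf 0) (.leaf 0)) (.node (.leaf 0) (.leaf 0)))) (.node (.node (.node (.leaf 0) (.leaf 0)) (.node (.leaf 0) (.leaf 0))) (.node (.node (.leaf 0) (.leaf 0)) (.node (.leaf 0) (.leaf 0)))))))

/-- A suborbit and a mover, part 486. -/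
def redCodePart486 : Janko1.Tree ℕ := (.node (.node (.node (.node (.node (.node (.leaf 0) (.leaf 0)) (.node (.leaf 0) (.leaf 0))) (.node (.node (.leaf 0) (.leaf 0)) (.node (.leaf 0) (.leaf 0)))) (.node (.node (.node (.leaf 0) (.leaf 0)) (.node (.leaf 0) (.leaf 0))) (.node (.node (.leaf 0) (.leaf 0)) (.node (.leaf 0) (.leaf 0))))) (.node (.node (.node (.node (.leaf 0) (.leaf 0)) (.node (.leaf 0) (.leaf 0))) (.node (.node (.leaf 0) (.leaf 0)) (.node (.leaf 0) (.leaf 0)))) (.node (.node (.node (.leaf 0) (.leaf 0)) (.node (.leaf 0) (.leaf 0))) (.node (.node (.leaf 0) (.leaf 0)) (.node (.leaf 0) (.leaf 0)))))) (.node (.node (.node (.node (.node (.leaf 0) (.leaf 0)) (.node (.leaf 0) (.leaf 0))) (.node (.node (.leaf 0) (.leaf 0)) (.node (.leaf 0) (.leaf 0)))) (.node (.node (.node (.leaf 0) (.leaf 0)) (.node (.leaf 0) (.leaf 0))) (.node (.node (.leaf 0) (.leaf 0)) (.node (.leaf 0) (.leaf 0))))) (.node (.node (.node (.node (.leaf 0) (.leaf 0)) (.node (.leaf 0) (.leaf 0))) (.node (.node (.leaf 0) (.leaf 0)) (.node (.leaf 0) (.leaf 0)))) (.node (.node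 (.node (.leaf 0) (.leaf 0)) (.node (.leaf 0) (.leaf 0))) (.node (.node (.leaf 0) (.leaf 0)) (.node (.leaf 0) (.leaf 0)))))))

/-- A suborbit and a mover, part 487. -/
def redCodePart487 : Janko1.Tree ℕ := (.node (.node (.node (.node (.node (.node (.leaf 0) (.leaf 0)) (.node (.leaf 0) (.leaf 0))) (.node (.node (.leaf 0) (.leaf 0)) (.node (.leaf 0) (.leaf 0)))) (.node (.node (.node (.leaf 0) (.leaf 0)) (.node (.leaf 0) (.leaf 0))) (.node (.node (.leaf 0) (.leaf 0)) (.node (.leaf 0) (.leaf 0))))) (.node (.node (.node (.node (.leaf 0) (.leaf 0)) (.node (.leaf 0) (.leaf 0))) (.node (.node (.leaf 0) (.leaf 0)) (.node (.leaf 0) (.leaf 0)))) (.node (.node (.node (.leaf 0) (.leaf 0)) (.node (.leaf 0) (.leaf 0))) (.node (.node (.leaf 0) (.leaf 0)) (.node (.leaf 0) (.leaf 0)))))) (.node (.node (.node (.node (.node (.leaf 0) (.leaf 0)) (.node (.leaf 0) (.leaf 0))) (.node (.node (.leaf 0) (.leaf 0)) (.node (.leaf 0) (.leaf 0)))) (.node (.node (.node (.leaf 0) (.leaf 0)) (.node (.leaf 0) (.leaf 0))) (.node (.node (.leaf 0) (.leaf 0)) (.node (.leaf 0) (.leaf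 0))))) (.node (.node (.node (.node (.leaf 0) (.leaf 0)) (.node (.leaf 0) (.leaf 0))) (.node (.node (.leaf 0) (.leaf 0)) (.node (.leaf 0) (.leaf 0)))) (.node (.node (.node (.leaf 0) (.leaf 0)) (.node (.leaf 0) (.leaf 0))) (.node (.node (.leaf 0) (.leaf 0)) (.node (.leaf 0) (.leaf 0)))))))

/-- A suborbit and a mover, part 488. -/
def redCodePart488 : Janko1.Tree ℕ := (.node (.node (.node (.node (.node (.node (.leaf 0) (.leaf 0)) (.node (.leaf 0) (.leaf 0))) (.node (.node (.leaf 0) (.leaf 0)) (.node (.leaf 0) (.leaf 0)))) (.node (.node (.node (.leaf 0) (.leaf 0)) (.node (.leaf 0) (.leaf 0))) (.node (.node (.leaf 0) (.leaf 0)) (.node (.leaf 0) (.leaf 0))))) (.node (.node (.node (.node (.leaf 0) (.leaf 0)) (.node (.leaf 0) (.leaf 0))) (.node (.node (.leaf 0) (.leaf 0)) (.node (.leaf 0) (.leaf 0)))) (.node (.node (.node (.leaf 0) (.leaf 0)) (.node (.leaf 0) (.leaf 0))) (.node (.node (.leaf 0) (.leaf 0)) (.node (.leaf 0) (.leaf 0)))))) (.node (.node (.node (.node (.node (.leaf 0) (.leaf 0)) (.node (.leaf 0) (.leaf 0))) (.node (.node (.leaf 0) (.leaf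 0)) (.node (.leaf 0) (.leaf 0)))) (.node (.node (.node (.leaf 0) (.leaf 0)) (.node (.leaf 0) (.leaf 0))) (.node (.node (.leaf 0) (.leaf 0)) (.node (.leaf 0) (.leaf 0))))) (.node (.node (.node (.node (.leaf 0) (.leaf 0)) (.node (.leaf 0) (.leaf 0))) (.node (.node (.leaf 0) (.leaf 0)) (.node (.leaf 0) (.leaf 0)))) (.node (.node (.node (.leaf 0) (.leaf 0)) (.node (.leaf 0) (.leaf 0))) (.node (.node (.leaf 0) (.leaf 0)) (.node (.leaf 0) (.leaf 0)))))))

/-- A suborbit and a mover, part 489. -/
def redCodePart489 : Janko1.Tree ℕ := (.node (.node (.node (.node (.node (.node (.leaf 0) (.leaf 0)) (.node (.leaf 0) (.leaf 0))) (.node (.node (.leaf 0) (.leaf 0)) (.node (.leaf 0) (.leaf 0)))) (.node (.node (.node (.leaf 0) (.leaf 0)) (.node (.leaf 0) (.leaf 0))) (.node (.node (.leaf 0) (.leaf 0)) (.node (.leaf 0) (.leaf 0))))) (.node (.node (.node (.node (.leaf 0) (.leaf 0)) (.node (.leaf 0) (.leaf 0))) (.node (.node (.leaf 0) (.leaf 0)) (.node (.leaf 0) (.leaf 0)))) (.node (.node (.node (.leaf 0) (.leaf 0)) (.node (.leaf 0) (.leaf 0))) (.node (.node (.leaf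 0) (.leaf 0)) (.node (.leaf 0) (.leaf 0)))))) (.node (.node (.node (.node (.node (.leaf 0) (.leaf 0)) (.node (.leaf 0) (.leaf 0))) (.node (.node (.leaf 0) (.leaf 0)) (.node (.leaf 0) (.leaf 0)))) (.node (.node (.node (.leaf 0) (.leaf 0)) (.node (.leaf 0) (.leaf 0))) (.node (.node (.leaf 0) (.leaf 0)) (.node (.leaf 0) (.leaf 0))))) (.node (.node (.node (.node (.leaf 0) (.leaf 0)) (.node (.leaf 0) (.leaf 0))) (.node (.node (.leaf 0) (.leaf 0)) (.node (.leaf 0) (.leaf 0)))) (.node (.node (.node (.leaf 0) (.leaf 0)) (.node (.leaf 0) (.leaf 0))) (.node (.node (.leaf 0) (.leaf 0)) (.node (.leaf 0) (.leaf 0)))))))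

/-- A suborbit and a mover, part 490. -/
def redCodePart490 : Janko1.Tree ℕ := (.node (.node (.node (.node (.node (.node (.leaf 0) (.leaf 0)) (.node (.leaf 0) (.leaf 0))) (.node (.node (.leaf 0) (.leaf 0)) (.node (.leaf 0) (.leaf 0)))) (.node (.node (.node (.leaf 0) (.leaf 0)) (.node (.leaf 0) (.leaf 0))) (.node (.node (.leaf 0) (.leaf 0)) (.node (.leaf 0) (.leaf 0))))) (.node (.node (.node (.node (.leaf 0) (.leaf 0)) (.node (.leaf 0) (.leaf 0))) (.node (.node (.leaf 0) (.leaf 0)) (.node (.leaf 0) (.leaf 0)))) (.node (.node (.node (.leaf 0) (.leaf 0)) (.node (.leaf 0) (.leaf 0))) (.node (.node (.leaf 0) (.leaf 0)) (.node (.leaf 0) (.leaf 0)))))) (.node (.node (.node (.node (.node (.leaf 0) (.leaf 0)) (.node (.leaf 0) (.leaf 0))) (.node (.node (.leaf 0) (.leaf 0)) (.node (.leaf 0) (.leaf 0)))) (.node (.node (.node (.leaf 0) (.leaf 0)) (.node (.leaf 0) (.leaf 0))) (.node (.node (.leaf 0) (.leaf 0)) (.node (.leaf 0) (.leaf 0))))) (.node (.node (.node (.node (.leaf 0) (.leaf 0)) (.node (.leaf 0) (.leaf 0))) (.node (.node (.leaf 0) (.leaf 0)) (.node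 (.leaf 0) (.leaf 0)))) (.node (.node (.node (.leaf 0) (.leaf 0)) (.node (.leaf 0) (.leaf 0))) (.node (.node (.leaf 0) (.leaf 0)) (.node (.leaf 0) (.leaf 0)))))))

/-- A suborbit and a mover, part 491. -/
def redCodePart491 : Janko1.Tree ℕ := (.node (.node (.node (.node (.node (.node (.leaf 0) (.leaf 0)) (.node (.leaf 0) (.leaf 0))) (.node (.node (.leaf 0) (.leaf 0)) (.node (.leaf 0) (.leaf 0)))) (.node (.node (.node (.leaf 0) (.leaf 0)) (.node (.leaf 0) (.leaf 0))) (.node (.node (.leaf 0) (.leaf 0)) (.node (.leaf 0) (.leaf 0))))) (.node (.node (.node (.node (.leaf 0) (.leaf 0)) (.node (.leaf 0) (.leaf 0))) (.node (.node (.leaf 0) (.leaf 0)) (.node (.leaf 0) (.leaf 0)))) (.node (.node (.node (.leaf 0) (.leaf 0)) (.node (.leaf 0) (.leaf 0))) (.node (.node (.leaf 0) (.leaf 0)) (.node (.leaf 0) (.leaf 0)))))) (.node (.node (.node (.node (.node (.leaf 0) (.leaf 0)) (.node (.leaf 0) (.leaf 0))) (.node (.node (.leaf 0) (.leaf 0)) (.node (.leaf 0) (.leaf 0)))) (.node (.node (.node (.leaf 0) (.leaf 0)) (.node (.leaf 0) (.leaf 0))) (.node (.node (.leaf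 0) (.leaf 0)) (.node (.leaf 0) (.leaf 0))))) (.node (.node (.node (.node (.leaf 0) (.leaf 0)) (.node (.leaf 0) (.leaf 0))) (.node (.node (.leaf 0) (.leaf 0)) (.node (.leaf 0) (.leaf 0)))) (.node (.node (.node (.leaf 0) (.leaf 0)) (.node (.leaf 0) (.leaf 0))) (.node (.node (.leaf 0) (.leaf 0)) (.node (.leaf 0) (.leaf 0)))))))

/-- A suborbit and a mover, part 492. -/
def redCodePart492 : Janko1.Tree ℕ := (.node (.node (.node (.node (.node (.node (.leaf 0) (.leaf 0)) (.node (.leaf 0) (.leaf 0))) (.node (.node (.leaf 0) (.leaf 0)) (.node (.leaf 0) (.leaf 0)))) (.node (.node (.node (.leaf 0) (.leaf 0)) (.node (.leaf 0) (.leaf 0))) (.node (.node (.leaf 0) (.leaf 0)) (.node (.leaf 0) (.leaf 0))))) (.node (.node (.node (.node (.leaf 0) (.leaf 0)) (.node (.leaf 0) (.leaf 0))) (.node (.node (.leaf 0) (.leaf 0)) (.node (.leaf 0) (.leaf 0)))) (.node (.node (.node (.leaf 0) (.leaf 0)) (.node (.leaf 0) (.leaf 0))) (.node (.node (.leaf 0) (.leaf 0)) (.node (.leaf 0) (.leaf 0)))))) (.node (.node (.node (.node (.node (.leaf 0) (.leaf 0)) (.node (.leaf 0) (.leaf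 0))) (.node (.node (.leaf 0) (.leaf 0)) (.node (.leaf 0) (.leaf 0)))) (.node (.node (.node (.leaf 0) (.leaf 0)) (.node (.leaf 0) (.leaf 0))) (.node (.node (.leaf 0) (.leaf 0)) (.node (.leaf 0) (.leaf 0))))) (.node (.node (.node (.node (.leaf 0) (.leaf 0)) (.node (.leaf 0) (.leaf 0))) (.node (.node (.leaf 0) (.leaf 0)) (.node (.leaf 0) (.leaf 0)))) (.node (.node (.node (.leaf 0) (.leaf 0)) (.node (.leaf 0) (.leaf 0))) (.node (.node (.leaf 0) (.leaf 0)) (.node (.leaf 0) (.leaf 0)))))))

/-- A suborbit and a mover, part 493. -/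
def redCodePart493 : Janko1.Tree ℕ := (.node (.node (.node (.node (.node (.node (.leaf 0) (.leaf 0)) (.node (.leaf 0) (.leaf 0))) (.node (.node (.leaf 0) (.leaf 0)) (.node (.leaf 0) (.leaf 0)))) (.node (.node (.node (.leaf 0) (.leaf 0)) (.node (.leaf 0) (.leaf 0))) (.node (.node (.leaf 0) (.leaf 0)) (.node (.leaf 0) (.leaf 0))))) (.node (.node (.node (.node (.leaf 0) (.leaf 0)) (.node (.leaf 0) (.leaf 0))) (.node (.node (.leaf 0) (.leaf 0)) (.node (.leaf 0) (.leaf 0)))) (.node (.node (.node (.leaf 0) (.leaf 0)) (.node (.leaf 0) (.leaf 0))) (.node (.node (.leaf 0) (.leaf 0)) (.node (.leaf 0) (.leaf 0)))))) (.node (.node (.node (.node (.node (.leaf 0) (.leaf 0)) (.node (.leaf 0) (.leaf 0))) (.node (.node (.leaf 0) (.leaf 0)) (.node (.leaf 0) (.leaf 0)))) (.node (.node (.node (.leaf 0) (.leaf 0)) (.node (.leaf 0) (.leaf 0))) (.node (.node (.leaf 0) (.leaf 0)) (.node (.leaf 0) (.leaf 0))))) (.node (.node (.node (.node (.leaf 0) (.leaf 0)) (.node (.leaf 0) (.leaf 0))) (.node (.node (.leaf 0) (.leaf 0)) (.node (.leaf 0) (.leaf 0)))) (.node (.node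 (.node (.leaf 0) (.leaf 0)) (.node (.leaf 0) (.leaf 0))) (.node (.node (.leaf 0) (.leaf 0)) (.node (.leaf 0) (.leaf 0)))))))

/-- A suborbit and a mover, part 494. -/
def redCodePart494 : Janko1.Tree ℕ := (.node (.node (.node (.node (.node (.node (.leaf 0) (.leaf 0)) (.node (.leaf 0) (.leaf 0))) (.node (.node (.leaf 0) (.leaf 0)) (.node (.leaf 0) (.leaf 0)))) (.node (.node (.node (.leaf 0) (.leaf 0)) (.node (.leaf 0) (.leaf 0))) (.node (.node (.leaf 0) (.leaf 0)) (.node (.leaf 0) (.leaf 0))))) (.node (.node (.node (.node (.leaf 0) (.leaf 0)) (.node (.leaf 0) (.leaf 0))) (.node (.node (.leaf 0) (.leaf 0)) (.node (.leaf 0) (.leaf 0)))) (.node (.node (.node (.leaf 0) (.leaf 0)) (.node (.leaf 0) (.leaf 0))) (.node (.node (.leaf 0) (.leaf 0)) (.node (.leaf 0) (.leaf 0)))))) (.node (.node (.node (.node (.node (.leaf 0) (.leaf 0)) (.node (.leaf 0) (.leaf 0))) (.node (.node (.leaf 0) (.leaf 0)) (.node (.leaf 0) (.leaf 0)))) (.node (.node (.node (.leaf 0) (.leaf 0)) (.node (.leaf 0) (.leaf 0))) (.node (.node (.leaf 0) (.leaf 0)) (.node (.leaf 0) (.leaf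 0))))) (.node (.node (.node (.node (.leaf 0) (.leaf 0)) (.node (.leaf 0) (.leaf 0))) (.node (.node (.leaf 0) (.leaf 0)) (.node (.leaf 0) (.leaf 0)))) (.node (.node (.node (.leaf 0) (.leaf 0)) (.node (.leaf 0) (.leaf 0))) (.node (.node (.leaf 0) (.leaf 0)) (.node (.leaf 0) (.leaf 0)))))))

/-- A suborbit and a mover, part 495. -/
def redCodePart495 : Janko1.Tree ℕ := (.node (.node (.node (.node (.node (.node (.leaf 0) (.leaf 0)) (.node (.leaf 0) (.leaf 0))) (.node (.node (.leaf 0) (.leaf 0)) (.node (.leaf 0) (.leaf 0)))) (.node (.node (.node (.leaf 0) (.leaf 0)) (.node (.leaf 0) (.leaf 0))) (.node (.node (.leaf 0) (.leaf 0)) (.node (.leaf 0) (.leaf 0))))) (.node (.node (.node (.node (.leaf 0) (.leaf 0)) (.node (.leaf 0) (.leaf 0))) (.node (.node (.leaf 0) (.leaf 0)) (.node (.leaf 0) (.leaf 0)))) (.node (.node (.node (.leaf 0) (.leaf 0)) (.node (.leaf 0) (.leaf 0))) (.node (.node (.leaf 0) (.leaf 0)) (.node (.leaf 0) (.leaf 0)))))) (.node (.node (.node (.node (.node (.leaf 0) (.leaf 0)) (.node (.leaf 0) (.leaf 0))) (.node (.node (.leaf 0) (.leaf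 0)) (.node (.leaf 0) (.leaf 0)))) (.node (.node (.node (.leaf 0) (.leaf 0)) (.node (.leaf 0) (.leaf 0))) (.node (.node (.leaf 0) (.leaf 0)) (.node (.leaf 0) (.leaf 0))))) (.node (.node (.node (.node (.leaf 0) (.leaf 0)) (.node (.leaf 0) (.leaf 0))) (.node (.node (.leaf 0) (.leaf 0)) (.node (.leaf 0) (.leaf 0)))) (.node (.node (.node (.leaf 0) (.leaf 0)) (.node (.leaf 0) (.leaf 0))) (.node (.node (.leaf 0) (.leaf 0)) (.node (.leaf 0) (.leaf 0)))))))

/-- A suborbit and a mover, part 496. -/
def redCodePart496 : Janko1.Tree ℕ := (.node (.node (.node (.node (.node (.node (.leaf 0) (.leaf 0)) (.node (.leaf 0) (.leaf 0))) (.node (.node (.leaf 0) (.leaf 0)) (.node (.leaf 0) (.leaf 0)))) (.node (.node (.node (.leaf 0) (.leaf 0)) (.node (.leaf 0) (.leaf 0))) (.node (.node (.leaf 0) (.leaf 0)) (.node (.leaf 0) (.leaf 0))))) (.node (.node (.node (.node (.leaf 0) (.leaf 0)) (.node (.leaf 0) (.leaf 0))) (.node (.node (.leaf 0) (.leaf 0)) (.node (.leaf 0) (.leaf 0)))) (.node (.node (.node (.leaf 0) (.leaf 0)) (.node (.leaf 0) (.leaf 0))) (.node (.node (.leaf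 0) (.leaf 0)) (.node (.leaf 0) (.leaf 0)))))) (.node (.node (.node (.node (.node (.leaf 0) (.leaf 0)) (.node (.leaf 0) (.leaf 0))) (.node (.node (.leaf 0) (.leaf 0)) (.node (.leaf 0) (.leaf 0)))) (.node (.node (.node (.leaf 0) (.leaf 0)) (.node (.leaf 0) (.leaf 0))) (.node (.node (.leaf 0) (.leaf 0)) (.node (.leaf 0) (.leaf 0))))) (.node (.node (.node (.node (.leaf 0) (.leaf 0)) (.node (.leaf 0) (.leaf 0))) (.node (.node (.leaf 0) (.leaf 0)) (.node (.leaf 0) (.leaf 0)))) (.node (.node (.node (.leaf 0) (.leaf 0)) (.node (.leaf 0) (.leaf 0))) (.node (.node (.leaf 0) (.leaf 0)) (.node (.leaf 0) (.leaf 0)))))))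

/-- A suborbit and a mover, part 497. -/
def redCodePart497 : Janko1.Tree ℕ := (.node (.node (.node (.node (.node (.node (.leaf 0) (.leaf 0)) (.node (.leaf 0) (.leaf 0))) (.node (.node (.leaf 0) (.leaf 0)) (.node (.leaf 0) (.leaf 0)))) (.node (.node (.node (.leaf 0) (.leaf 0)) (.node (.leaf 0) (.leaf 0))) (.node (.node (.leaf 0) (.leaf 0)) (.node (.leaf 0) (.leaf 0))))) (.node (.node (.node (.node (.leaf 0) (.leaf 0)) (.node (.leaf 0) (.leaf 0))) (.node (.node (.leaf 0) (.leaf 0)) (.node (.leaf 0) (.leaf 0)))) (.node (.node (.node (.leaf 0) (.leaf 0)) (.node (.leaf 0) (.leaf 0))) (.node (.node (.leaf 0) (.leaf 0)) (.node (.leaf 0) (.leaf 0)))))) (.node (.node (.node (.node (.node (.leaf 0) (.leaf 0)) (.node (.leaf 0) (.leaf 0))) (.node (.node (.leaf 0) (.leaf 0)) (.node (.leaf 0) (.leaf 0)))) (.node (.node (.node (.leaf 0) (.leaf 0)) (.node (.leaf 0) (.leaf 0))) (.node (.node (.leaf 0) (.leaf 0)) (.node (.leaf 0) (.leaf 0))))) (.node (.node (.node (.node (.leaf 0) (.leaf 0)) (.node (.leaf 0) (.leaf 0))) (.node (.node (.leaf 0) (.leaf 0)) (.node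 (.leaf 0) (.leaf 0)))) (.node (.node (.node (.leaf 0) (.leaf 0)) (.node (.leaf 0) (.leaf 0))) (.node (.node (.leaf 0) (.leaf 0)) (.node (.leaf 0) (.leaf 0)))))))

/-- A suborbit and a mover, part 498. -/
def redCodePart498 : Janko1.Tree ℕ := (.node (.node (.node (.node (.node (.node (.leaf 0) (.leaf 0)) (.node (.leaf 0) (.leaf 0))) (.node (.node (.leaf 0) (.leaf 0)) (.node (.leaf 0) (.leaf 0)))) (.node (.node (.node (.leaf 0) (.leaf 0)) (.node (.leaf 0) (.leaf 0))) (.node (.node (.leaf 0) (.leaf 0)) (.node (.leaf 0) (.leaf 0))))) (.node (.node (.node (.node (.leaf 0) (.leaf 0)) (.node (.leaf 0) (.leaf 0))) (.node (.node (.leaf 0) (.leaf 0)) (.node (.leaf 0) (.leaf 0)))) (.node (.node (.node (.leaf 0) (.leaf 0)) (.node (.leaf 0) (.leaf 0))) (.node (.node (.leaf 0) (.leaf 0)) (.node (.leaf 0) (.leaf 0)))))) (.node (.node (.node (.node (.node (.leaf 0) (.leaf 0)) (.node (.leaf 0) (.leaf 0))) (.node (.node (.leaf 0) (.leaf 0)) (.node (.leaf 0) (.leaf 0)))) (.node (.node (.node (.leaf 0) (.leaf 0)) (.node (.leaf 0) (.leaf 0))) (.node (.node (.leaf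 0) (.leaf 0)) (.node (.leaf 0) (.leaf 0))))) (.node (.node (.node (.node (.leaf 0) (.leaf 0)) (.node (.leaf 0) (.leaf 0))) (.node (.node (.leaf 0) (.leaf 0)) (.node (.leaf 0) (.leaf 0)))) (.node (.node (.node (.leaf 0) (.leaf 0)) (.node (.leaf 0) (.leaf 0))) (.node (.node (.leaf 0) (.leaf 0)) (.node (.leaf 0) (.leaf 0)))))))

/-- A suborbit and a mover, part 499. -/
def redCodePart499 : Janko1.Tree ℕ := (.node (.node (.node (.node (.node (.node (.leaf 0) (.leaf 0)) (.node (.leaf 0) (.leaf 0))) (.node (.node (.leaf 0) (.leaf 0)) (.node (.leaf 0) (.leaf 0)))) (.node (.node (.node (.leaf 0) (.leaf 0)) (.node (.leaf 0) (.leaf 0))) (.node (.node (.leaf 0) (.leaf 0)) (.node (.leaf 0) (.leaf 0))))) (.node (.node (.node (.node (.leaf 0) (.leaf 0)) (.node (.leaf 0) (.leaf 0))) (.node (.node (.leaf 0) (.leaf 0)) (.node (.leaf 0) (.leaf 0)))) (.node (.node (.node (.leaf 0) (.leaf 0)) (.node (.leaf 0) (.leaf 0))) (.node (.node (.leaf 0) (.leaf 0)) (.node (.leaf 0) (.leaf 0)))))) (.node (.node (.node (.node (.node (.leaf 0) (.leaf 0)) (.node (.leaf 0) (.leaf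 0))) (.node (.node (.leaf 0) (.leaf 0)) (.node (.leaf 0) (.leaf 0)))) (.node (.node (.node (.leaf 0) (.leaf 0)) (.node (.leaf 0) (.leaf 0))) (.node (.node (.leaf 0) (.leaf 0)) (.node (.leaf 0) (.leaf 0))))) (.node (.node (.node (.node (.leaf 0) (.leaf 0)) (.node (.leaf 0) (.leaf 0))) (.node (.node (.leaf 0) (.leaf 0)) (.node (.leaf 0) (.leaf 0)))) (.node (.node (.node (.leaf 0) (.leaf 0)) (.node (.leaf 0) (.leaf 0))) (.node (.node (.leaf 0) (.leaf 0)) (.node (.leaf 0) (.leaf 0)))))))

/-- A suborbit and a mover, part 500. -/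
def redCodePart500 : Janko1.Tree ℕ := (.node (.node (.node (.node (.node (.node (.leaf 0) (.leaf 0)) (.node (.leaf 0) (.leaf 0))) (.node (.node (.leaf 0) (.leaf 0)) (.node (.leaf 0) (.leaf 0)))) (.node (.node (.node (.leaf 0) (.leaf 0)) (.node (.leaf 0) (.leaf 0))) (.node (.node (.leaf 0) (.leaf 0)) (.node (.leaf 0) (.leaf 0))))) (.node (.node (.node (.node (.leaf 0) (.leaf 0)) (.node (.leaf 0) (.leaf 0))) (.node (.node (.leaf 0) (.leaf 0)) (.node (.leaf 0) (.leaf 0)))) (.node (.node (.node (.leaf 0) (.leaf 0)) (.node (.leaf 0) (.leaf 0))) (.node (.node (.leaf 0) (.leaf 0)) (.node (.leaf 0) (.leaf 0)))))) (.node (.node (.node (.node (.node (.leaf 0) (.leaf 0)) (.node (.leaf 0) (.leaf 0))) (.node (.node (.leaf 0) (.leaf 0)) (.node (.leaf 0) (.leaf 0)))) (.node (.node (.node (.leaf 0) (.leaf 0)) (.node (.leaf 0) (.leaf 0))) (.node (.node (.leaf 0) (.leaf 0)) (.node (.leaf 0) (.leaf 0))))) (.node (.node (.node (.node (.leaf 0) (.leaf 0)) (.node (.leaf 0) (.leaf 0))) (.node (.node (.leaf 0) (.leaf 0)) (.node (.leaf 0) (.leaf 0)))) (.node (.node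 (.node (.leaf 0) (.leaf 0)) (.node (.leaf 0) (.leaf 0))) (.node (.node (.leaf 0) (.leaf 0)) (.node (.leaf 0) (.leaf 0)))))))

/-- A suborbit and a mover, part 501. -/
def redCodePart501 : Janko1.Tree ℕ := (.node (.node (.node (.node (.node (.node (.leaf 0) (.leaf 0)) (.node (.leaf 0) (.leaf 0))) (.node (.node (.leaf 0) (.leaf 0)) (.node (.leaf 0) (.leaf 0)))) (.node (.node (.node (.leaf 0) (.leaf 0)) (.node (.leaf 0) (.leaf 0))) (.node (.node (.leaf 0) (.leaf 0)) (.node (.leaf 0) (.leaf 0))))) (.node (.node (.node (.node (.leaf 0) (.leaf 0)) (.node (.leaf 0) (.leaf 0))) (.node (.node (.leaf 0) (.leaf 0)) (.node (.leaf 0) (.leaf 0)))) (.node (.node (.node (.leaf 0) (.leaf 0)) (.node (.leaf 0) (.leaf 0))) (.node (.node (.leaf 0) (.leaf 0)) (.node (.leaf 0) (.leaf 0)))))) (.node (.node (.node (.node (.node (.leaf 0) (.leaf 0)) (.node (.leaf 0) (.leaf 0))) (.node (.node (.leaf 0) (.leaf 0)) (.node (.leaf 0) (.leaf 0)))) (.node (.node (.node (.leaf 0) (.leaf 0)) (.node (.leaf 0) (.leaf 0))) (.node (.node (.leaf 0) (.leaf 0)) (.node (.leaf 0) (.leaf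 0))))) (.node (.node (.node (.node (.leaf 0) (.leaf 0)) (.node (.leaf 0) (.leaf 0))) (.node (.node (.leaf 0) (.leaf 0)) (.node (.leaf 0) (.leaf 0)))) (.node (.node (.node (.leaf 0) (.leaf 0)) (.node (.leaf 0) (.leaf 0))) (.node (.node (.leaf 0) (.leaf 0)) (.node (.leaf 0) (.leaf 0)))))))

/-- A suborbit and a mover, part 502. -/
def redCodePart502 : Janko1.Tree ℕ := (.node (.node (.node (.node (.node (.node (.leaf 0) (.leaf 0)) (.node (.leaf 0) (.leaf 0))) (.node (.node (.leaf 0) (.leaf 0)) (.node (.leaf 0) (.leaf 0)))) (.node (.node (.node (.leaf 0) (.leaf 0)) (.node (.leaf 0) (.leaf 0))) (.node (.node (.leaf 0) (.leaf 0)) (.node (.leaf 0) (.leaf 0))))) (.node (.node (.node (.node (.leaf 0) (.leaf 0)) (.node (.leaf 0) (.leaf 0))) (.node (.node (.leaf 0) (.leaf 0)) (.node (.leaf 0) (.leaf 0)))) (.node (.node (.node (.leaf 0) (.leaf 0)) (.node (.leaf 0) (.leaf 0))) (.node (.node (.leaf 0) (.leaf 0)) (.node (.leaf 0) (.leaf 0)))))) (.node (.node (.node (.node (.node (.leaf 0) (.leaf 0)) (.node (.leaf 0) (.leaf 0))) (.node (.node (.leaf 0) (.leaf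 0)) (.node (.leaf 0) (.leaf 0)))) (.node (.node (.node (.leaf 0) (.leaf 0)) (.node (.leaf 0) (.leaf 0))) (.node (.node (.leaf 0) (.leaf 0)) (.node (.leaf 0) (.leaf 0))))) (.node (.node (.node (.node (.leaf 0) (.leaf 0)) (.node (.leaf 0) (.leaf 0))) (.node (.node (.leaf 0) (.leaf 0)) (.node (.leaf 0) (.leaf 0)))) (.node (.node (.node (.leaf 0) (.leaf 0)) (.node (.leaf 0) (.leaf 0))) (.node (.node (.leaf 0) (.leaf 0)) (.node (.leaf 0) (.leaf 0)))))))

/-- A suborbit and a mover, part 503. -/
def redCodePart503 : Janko1.Tree ℕ := (.node (.node (.node (.node (.node (.node (.leaf 0) (.leaf 0)) (.node (.leaf 0) (.leaf 0))) (.node (.node (.leaf 0) (.leaf 0)) (.node (.leaf 0) (.leaf 0)))) (.node (.node (.node (.leaf 0) (.leaf 0)) (.node (.leaf 0) (.leaf 0))) (.node (.node (.leaf 0) (.leaf 0)) (.node (.leaf 0) (.leaf 0))))) (.node (.node (.node (.node (.leaf 0) (.leaf 0)) (.node (.leaf 0) (.leaf 0))) (.node (.node (.leaf 0) (.leaf 0)) (.node (.leaf 0) (.leaf 0)))) (.node (.node (.node (.leaf 0) (.leaf 0)) (.node (.leaf 0) (.leaf 0))) (.node (.node (.leaf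 0) (.leaf 0)) (.node (.leaf 0) (.leaf 0)))))) (.node (.node (.node (.node (.node (.leaf 0) (.leaf 0)) (.node (.leaf 0) (.leaf 0))) (.node (.node (.leaf 0) (.leaf 0)) (.node (.leaf 0) (.leaf 0)))) (.node (.node (.node (.leaf 0) (.leaf 0)) (.node (.leaf 0) (.leaf 0))) (.node (.node (.leaf 0) (.leaf 0)) (.node (.leaf 0) (.leaf 0))))) (.node (.node (.node (.node (.leaf 0) (.leaf 0)) (.node (.leaf 0) (.leaf 0))) (.node (.node (.leaf 0) (.leaf 0)) (.node (.leaf 0) (.leaf 0)))) (.node (.node (.node (.leaf 0) (.leaf 0)) (.node (.leaf 0) (.leaf 0))) (.node (.node (.leaf 0) (.leaf 0)) (.node (.leaf 0) (.leaf 0)))))))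

/-- A suborbit and a mover, part 504. -/
def redCodePart504 : Janko1.Tree ℕ := (.node (.node (.node (.node (.node (.node (.leaf 0) (.leaf 0)) (.node (.leaf 0) (.leaf 0))) (.node (.node (.leaf 0) (.leaf 0)) (.node (.leaf 0) (.leaf 0)))) (.node (.node (.node (.leaf 0) (.leaf 0)) (.node (.leaf 0) (.leaf 0))) (.node (.node (.leaf 0) (.leaf 0)) (.node (.leaf 0) (.leaf 0))))) (.node (.node (.node (.node (.leaf 0) (.leaf 0)) (.node (.leaf 0) (.leaf 0))) (.node (.node (.leaf 0) (.leaf 0)) (.node (.leaf 0) (.leaf 0)))) (.node (.node (.node (.leaf 0) (.leaf 0)) (.node (.leaf 0) (.leaf 0))) (.node (.node (.leaf 0) (.leaf 0)) (.node (.leaf 0) (.leaf 0)))))) (.node (.node (.node (.node (.node (.leaf 0) (.leaf 0)) (.node (.leaf 0) (.leaf 0))) (.node (.node (.leaf 0) (.leaf 0)) (.node (.leaf 0) (.leaf 0)))) (.node (.node (.node (.leaf 0) (.leaf 0)) (.node (.leaf 0) (.leaf 0))) (.node (.node (.leaf 0) (.leaf 0)) (.node (.leaf 0) (.leaf 0))))) (.node (.node (.node (.node (.leaf 0) (.leaf 0)) (.node (.leaf 0) (.leaf 0))) (.node (.node (.leaf 0) (.leaf 0)) (.node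 (.leaf 0) (.leaf 0)))) (.node (.node (.node (.leaf 0) (.leaf 0)) (.node (.leaf 0) (.leaf 0))) (.node (.node (.leaf 0) (.leaf 0)) (.node (.leaf 0) (.leaf 0)))))))

/-- A suborbit and a mover, part 505. -/
def redCodePart505 : Janko1.Tree ℕ := (.node (.node (.node (.node (.node (.node (.leaf 0) (.leaf 0)) (.node (.leaf 0) (.leaf 0))) (.node (.node (.leaf 0) (.leaf 0)) (.node (.leaf 0) (.leaf 0)))) (.node (.node (.node (.leaf 0) (.leaf 0)) (.node (.leaf 0) (.leaf 0))) (.node (.node (.leaf 0) (.leaf 0)) (.node (.leaf 0) (.leaf 0))))) (.node (.node (.node (.node (.leaf 0) (.leaf 0)) (.node (.leaf 0) (.leaf 0))) (.node (.node (.leaf 0) (.leaf 0)) (.node (.leaf 0) (.leaf 0)))) (.node (.node (.node (.leaf 0) (.leaf 0)) (.node (.leaf 0) (.leaf 0))) (.node (.node (.leaf 0) (.leaf 0)) (.node (.leaf 0) (.leaf 0)))))) (.node (.node (.node (.node (.node (.leaf 0) (.leaf 0)) (.node (.leaf 0) (.leaf 0))) (.node (.node (.leaf 0) (.leaf 0)) (.node (.leaf 0) (.leaf 0)))) (.node (.node (.node (.leaf 0) (.leaf 0)) (.node (.leaf 0) (.leaf 0))) (.node (.node (.leaf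 0) (.leaf 0)) (.node (.leaf 0) (.leaf 0))))) (.node (.node (.node (.node (.leaf 0) (.leaf 0)) (.node (.leaf 0) (.leaf 0))) (.node (.node (.leaf 0) (.leaf 0)) (.node (.leaf 0) (.leaf 0)))) (.node (.node (.node (.leaf 0) (.leaf 0)) (.node (.leaf 0) (.leaf 0))) (.node (.node (.leaf 0) (.leaf 0)) (.node (.leaf 0) (.leaf 0)))))))

/-- A suborbit and a mover, part 506. -/
def redCodePart506 : Janko1.Tree ℕ := (.node (.node (.node (.node (.node (.node (.leaf 0) (.leaf 0)) (.node (.leaf 0) (.leaf 0))) (.node (.node (.leaf 0) (.leaf 0)) (.node (.leaf 0) (.leaf 0)))) (.node (.node (.node (.leaf 0) (.leaf 0)) (.node (.leaf 0) (.leaf 0))) (.node (.node (.leaf 0) (.leaf 0)) (.node (.leaf 0) (.leaf 0))))) (.node (.node (.node (.node (.leaf 0) (.leaf 0)) (.node (.leaf 0) (.leaf 0))) (.node (.node (.leaf 0) (.leaf 0)) (.node (.leaf 0) (.leaf 0)))) (.node (.node (.node (.leaf 0) (.leaf 0)) (.node (.leaf 0) (.leaf 0))) (.node (.node (.leaf 0) (.leaf 0)) (.node (.leaf 0) (.leaf 0)))))) (.node (.node (.node (.node (.node (.leaf 0) (.leaf 0)) (.node (.leaf 0) (.leaf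 0))) (.node (.node (.leaf 0) (.leaf 0)) (.node (.leaf 0) (.leaf 0)))) (.node (.node (.node (.leaf 0) (.leaf 0)) (.node (.leaf 0) (.leaf 0))) (.node (.node (.leaf 0) (.leaf 0)) (.node (.leaf 0) (.leaf 0))))) (.node (.node (.node (.node (.leaf 0) (.leaf 0)) (.node (.leaf 0) (.leaf 0))) (.node (.node (.leaf 0) (.leaf 0)) (.node (.leaf 0) (.leaf 0)))) (.node (.node (.node (.leaf 0) (.leaf 0)) (.node (.leaf 0) (.leaf 0))) (.node (.node (.leaf 0) (.leaf 0)) (.node (.leaf 0) (.leaf 0)))))))

/-- A suborbit and a mover, part 507. -/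
def redCodePart507 : Janko1.Tree ℕ := (.node (.node (.node (.node (.node (.node (.leaf 0) (.leaf 0)) (.node (.leaf 0) (.leaf 0))) (.node (.node (.leaf 0) (.leaf 0)) (.node (.leaf 0) (.leaf 0)))) (.node (.node (.node (.leaf 0) (.leaf 0)) (.node (.leaf 0) (.leaf 0))) (.node (.node (.leaf 0) (.leaf 0)) (.node (.leaf 0) (.leaf 0))))) (.node (.node (.node (.node (.leaf 0) (.leaf 0)) (.node (.leaf 0) (.leaf 0))) (.node (.node (.leaf 0) (.leaf 0)) (.node (.leaf 0) (.leaf 0)))) (.node (.node (.node (.leaf 0) (.leaf 0)) (.node (.leaf 0) (.leaf 0))) (.node (.node (.leaf 0) (.leaf 0)) (.node (.leaf 0) (.leaf 0)))))) (.node (.node (.node (.node (.node (.leaf 0) (.leaf 0)) (.node (.leaf 0) (.leaf 0))) (.node (.node (.leaf 0) (.leaf 0)) (.node (.leaf 0) (.leaf 0)))) (.node (.node (.node (.leaf 0) (.leaf 0)) (.node (.leaf 0) (.leaf 0))) (.node (.node (.leaf 0) (.leaf 0)) (.node (.leaf 0) (.leaf 0))))) (.node (.node (.node (.node (.leaf 0) (.leaf 0)) (.node (.leaf 0) (.leaf 0))) (.node (.node (.leaf 0) (.leaf 0)) (.node (.leaf 0) (.leaf 0)))) (.node (.node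 (.node (.leaf 0) (.leaf 0)) (.node (.leaf 0) (.leaf 0))) (.node (.node (.leaf 0) (.leaf 0)) (.node (.leaf 0) (.leaf 0)))))))

/-- A suborbit and a mover, part 508. -/
def redCodePart508 : Janko1.Tree ℕ := (.node (.node (.node (.node (.node (.node (.leaf 0) (.leaf 0)) (.node (.leaf 0) (.leaf 0))) (.node (.node (.leaf 0) (.leaf 0)) (.node (.leaf 0) (.leaf 0)))) (.node (.node (.node (.leaf 0) (.leaf 0)) (.node (.leaf 0) (.leaf 0))) (.node (.node (.leaf 0) (.leaf 0)) (.node (.leaf 0) (.leaf 0))))) (.node (.node (.node (.node (.leaf 0) (.leaf 0)) (.node (.leaf 0) (.leaf 0))) (.node (.node (.leaf 0) (.leaf 0)) (.node (.leaf 0) (.leaf 0)))) (.node (.node (.node (.leaf 0) (.leaf 0)) (.node (.leaf 0) (.leaf 0))) (.node (.node (.leaf 0) (.leaf 0)) (.node (.leaf 0) (.leaf 0)))))) (.node (.node (.node (.node (.node (.leaf 0) (.leaf 0)) (.node (.leaf 0) (.leaf 0))) (.node (.node (.leaf 0) (.leaf 0)) (.node (.leaf 0) (.leaf 0)))) (.node (.node (.node (.leaf 0) (.leaf 0)) (.node (.leaf 0) (.leaf 0))) (.node (.node (.leaf 0) (.leaf 0)) (.node (.leaf 0) (.leaf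 0))))) (.node (.node (.node (.node (.leaf 0) (.leaf 0)) (.node (.leaf 0) (.leaf 0))) (.node (.node (.leaf 0) (.leaf 0)) (.node (.leaf 0) (.leaf 0)))) (.node (.node (.node (.leaf 0) (.leaf 0)) (.node (.leaf 0) (.leaf 0))) (.node (.node (.leaf 0) (.leaf 0)) (.node (.leaf 0) (.leaf 0)))))))

/-- A suborbit and a mover, part 509. -/
def redCodePart509 : Janko1.Tree ℕ := (.node (.node (.node (.node (.node (.node (.leaf 0) (.leaf 0)) (.node (.leaf 0) (.leaf 0))) (.node (.node (.leaf 0) (.leaf 0)) (.node (.leaf 0) (.leaf 0)))) (.node (.node (.node (.leaf 0) (.leaf 0)) (.node (.leaf 0) (.leaf 0))) (.node (.node (.leaf 0) (.leaf 0)) (.node (.leaf 0) (.leaf 0))))) (.node (.node (.node (.node (.leaf 0) (.leaf 0)) (.node (.leaf 0) (.leaf 0))) (.node (.node (.leaf 0) (.leaf 0)) (.node (.leaf 0) (.leaf 0)))) (.node (.node (.node (.leaf 0) (.leaf 0)) (.node (.leaf 0) (.leaf 0))) (.node (.node (.leaf 0) (.leaf 0)) (.node (.leaf 0) (.leaf 0)))))) (.node (.node (.node (.node (.node (.leaf 0) (.leaf 0)) (.node (.leaf 0) (.leaf 0))) (.node (.node (.leaf 0) (.leaf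 0)) (.node (.leaf 0) (.leaf 0)))) (.node (.node (.node (.leaf 0) (.leaf 0)) (.node (.leaf 0) (.leaf 0))) (.node (.node (.leaf 0) (.leaf 0)) (.node (.leaf 0) (.leaf 0))))) (.node (.node (.node (.node (.leaf 0) (.leaf 0)) (.node (.leaf 0) (.leaf 0))) (.node (.node (.leaf 0) (.leaf 0)) (.node (.leaf 0) (.leaf 0)))) (.node (.node (.node (.leaf 0) (.leaf 0)) (.node (.leaf 0) (.leaf 0))) (.node (.node (.leaf 0) (.leaf 0)) (.node (.leaf 0) (.leaf 0)))))))

/-- A suborbit and a mover, part 510. -/
def redCodePart510 : Janko1.Tree ℕ := (.node (.node (.node (.node (.node (.node (.leaf 0) (.leaf 0)) (.node (.leaf 0) (.leaf 0))) (.node (.node (.leaf 0) (.leaf 0)) (.node (.leaf 0) (.leaf 0)))) (.node (.node (.node (.leaf 0) (.leaf 0)) (.node (.leaf 0) (.leaf 0))) (.node (.node (.leaf 0) (.leaf 0)) (.node (.leaf 0) (.leaf 0))))) (.node (.node (.node (.node (.leaf 0) (.leaf 0)) (.node (.leaf 0) (.leaf 0))) (.node (.node (.leaf 0) (.leaf 0)) (.node (.leaf 0) (.leaf 0)))) (.node (.node (.node (.leaf 0) (.leaf 0)) (.node (.leaf 0) (.leaf 0))) (.node (.node (.leaf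 0) (.leaf 0)) (.node (.leaf 0) (.leaf 0)))))) (.node (.node (.node (.node (.node (.leaf 0) (.leaf 0)) (.node (.leaf 0) (.leaf 0))) (.node (.node (.leaf 0) (.leaf 0)) (.node (.leaf 0) (.leaf 0)))) (.node (.node (.node (.leaf 0) (.leaf 0)) (.node (.leaf 0) (.leaf 0))) (.node (.node (.leaf 0) (.leaf 0)) (.node (.leaf 0) (.leaf 0))))) (.node (.node (.node (.node (.leaf 0) (.leaf 0)) (.node (.leaf 0) (.leaf 0))) (.node (.node (.leaf 0) (.leaf 0)) (.node (.leaf 0) (.leaf 0)))) (.node (.node (.node (.leaf 0) (.leaf 0)) (.node (.leaf 0) (.leaf 0))) (.node (.node (.leaf 0) (.leaf 0)) (.node (.leaf 0) (.leaf 0)))))))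

/-- A suborbit and a mover, part 511. -/
def redCodePart511 : Janko1.Tree ℕ := (.node (.node (.node (.node (.node (.node (.leaf 0) (.leaf 0)) (.node (.leaf 0) (.leaf 0))) (.node (.node (.leaf 0) (.leaf 0)) (.node (.leaf 0) (.leaf 0)))) (.node (.node (.node (.leaf 0) (.leaf 0)) (.node (.leaf 0) (.leaf 0))) (.node (.node (.leaf 0) (.leaf 0)) (.node (.leaf 0) (.leaf 0))))) (.node (.node (.node (.node (.leaf 0) (.leaf 0)) (.node (.leaf 0) (.leaf 0))) (.node (.node (.leaf 0) (.leaf 0)) (.node (.leaf 0) (.leaf 0)))) (.node (.node (.node (.leaf 0) (.leaf 0)) (.node (.leaf 0) (.leaf 0))) (.node (.node (.leaf 0) (.leaf 0)) (.node (.leaf 0) (.leaf 0)))))) (.node (.node (.node (.node (.node (.leaf 0) (.leaf 0)) (.node (.leaf 0) (.leaf 0))) (.node (.node (.leaf 0) (.leaf 0)) (.node (.leaf 0) (.leaf 0)))) (.node (.node (.node (.leaf 0) (.leaf 0)) (.node (.leaf 0) (.leaf 0))) (.node (.node (.leaf 0) (.leaf 0)) (.node (.leaf 0) (.leaf 0))))) (.node (.node (.node (.node (.leaf 0) (.leaf 0)) (.node (.leaf 0) (.leaf 0))) (.node (.node (.leaf 0) (.leaf 0)) (.node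 (.leaf 0) (.leaf 0)))) (.node (.node (.node (.leaf 0) (.leaf 0)) (.node (.leaf 0) (.leaf 0))) (.node (.node (.leaf 0) (.leaf 0)) (.node (.leaf 0) (.leaf 0)))))))

/-- A suborbit and a mover, block 0. -/
def redCodeBlock0 : Janko1.Tree ℕ := (.node (.node (.node (.node (.node redCodePart0 redCodePart1) (.node redCodePart2 redCodePart3)) (.node (.node redCodePart4 redCodePart5) (.node redCodePart6 redCodePart7))) (.node (.node (.node redCodePart8 redCodePart9) (.node redCodePart10 redCodePart11)) (.node (.node redCodePart12 redCodePart13) (.node redCodePart14 redCodePart15)))) (.node (.node (.node (.node redCodePart16 redCodePart17) (.node redCodePart18 redCodePart19)) (.node (.node redCodePart20 redCodePart21) (.node redCodePart22 redCodePart23))) (.node (.node (.node redCodePart24 redCodePart25) (.node redCodePart26 redCodePart27)) (.node (.node redCodePart28 redCodePart29) (.node redCodePart30 redCodePart31)))))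

/-- A suborbit and a mover, block 1. -/
def redCodeBlock1 : Janko1.Tree ℕ := (.node (.node (.node (.node (.node redCodePart32 redCodePart33) (.node redCodePart34 redCodePart35)) (.node (.node redCodePart36 redCodePart37) (.node redCodePart38 redCodePart39))) (.node (.node (.node redCodePart40 redCodePart41) (.node redCodePart42 redCodePart43)) (.node (.node redCodePart44 redCodePart45) (.node redCodePart46 redCodePart47)))) (.node (.node (.node (.node redCodePart48 redCodePart49) (.node redCodePart50 redCodePart51)) (.node (.node redCodePart52 redCodePart53) (.node redCodePart54 redCodePart55))) (.node (.node (.node redCodePart56 redCodePart57) (.node redCodePart58 redCodePart59)) (.node (.node redCodePart60 redCodePart61) (.node redCodePart62 redCodePart63)))))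

/-- A suborbit and a mover, block 2. -/
def redCodeBlock2 : Janko1.Tree ℕ := (.node (.node (.node (.node (.node redCodePart64 redCodePart65) (.node redCodePart66 redCodePart67)) (.node (.node redCodePart68 redCodePart69) (.node redCodePart70 redCodePart71))) (.node (.node (.node redCodePart72 redCodePart73) (.node redCodePart74 redCodePart75)) (.node (.node redCodePart76 redCodePart77) (.node redCodePart78 redCodePart79)))) (.node (.node (.node (.node redCodePart80 redCodePart81) (.node redCodePart82 redCodePart83)) (.node (.node redCodePart84 redCodePart85) (.node redCodePart86 redCodePart87))) (.node (.node (.node redCodePart88 redCodePart89) (.node redCodePart90 redCodePart91)) (.node (.node redCodePart92 redCodePart93) (.node redCodePart94 redCodePart95)))))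

/-- A suborbit and a mover, block 3. -/
def redCodeBlock3 : Janko1.Tree ℕ := (.node (.node (.node (.node (.node redCodePart96 redCodePart97) (.node redCodePart98 redCodePart99)) (.node (.node redCodePart100 redCodePart101) (.node redCodePart102 redCodePart103))) (.node (.node (.node redCodePart104 redCodePart105) (.node redCodePart106 redCodePart107)) (.node (.node redCodePart108 redCodePart109) (.node redCodePart110 redCodePart111)))) (.node (.node (.node (.node redCodePart112 redCodePart113) (.node redCodePart114 redCodePart115)) (.node (.node redCodePart116 redCodePart117) (.node redCodePart118 redCodePart119))) (.node (.node (.node redCodePart120 redCodePart121) (.node redCodePart122 redCodePart123)) (.node (.node redCodePart124 redCodePart125) (.node redCodePart126 redCodePart127)))))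

/-- A suborbit and a mover, block 4. -/
def redCodeBlock4 : Janko1.Tree ℕ := (.node (.node (.node (.node (.node redCodePart128 redCodePart129) (.node redCodePart130 redCodePart131)) (.node (.node redCodePart132 redCodePart133) (.node redCodePart134 redCodePart135))) (.node (.node (.node redCodePart136 redCodePart137) (.node redCodePart138 redCodePart139)) (.node (.node redCodePart140 redCodePart141) (.node redCodePart142 redCodePart143)))) (.node (.node (.node (.node redCodePart144 redCodePart145) (.node redCodePart146 redCodePart147)) (.node (.node redCodePart148 redCodePart149) (.node redCodePart150 redCodePart151))) (.node (.node (.node redCodePart152 redCodePart153) (.node redCodePart154 redCodePart155)) (.node (.node redCodePart156 redCodePart157) (.node redCodePart158 redCodePart159)))))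

/-- A suborbit and a mover, block 5. -/
def redCodeBlock5 : Janko1.Tree ℕ := (.node (.node (.node (.node (.node redCodePart160 redCodePart161) (.node redCodePart162 redCodePart163)) (.node (.node redCodePart164 redCodePart165) (.node redCodePart166 redCodePart167))) (.node (.node (.node redCodePart168 redCodePart169) (.node redCodePart170 redCodePart171)) (.node (.node redCodePart172 redCodePart173) (.node redCodePart174 redCodePart175)))) (.node (.node (.node (.node redCodePart176 redCodePart177) (.node redCodePart178 redCodePart179)) (.node (.node redCodePart180 redCodePart181) (.node redCodePart182 redCodePart183))) (.node (.node (.node redCodePart184 redCodePart185) (.node redCodePart186 redCodePart187)) (.node (.node redCodePart188 redCodePart189) (.node redCodePart190 redCodePart191)))))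

/-- A suborbit and a mover, block 6. -/
def redCodeBlock6 : Janko1.Tree ℕ := (.node (.node (.node (.node (.node redCodePart192 redCodePart193) (.node redCodePart194 redCodePart195)) (.node (.node redCodePart196 redCodePart197) (.node redCodePart198 redCodePart199))) (.node (.node (.node redCodePart200 redCodePart201) (.node redCodePart202 redCodePart203)) (.node (.node redCodePart204 redCodePart205) (.node redCodePart206 redCodePart207)))) (.node (.node (.node (.node redCodePart208 redCodePart209) (.node redCodePart210 redCodePart211)) (.node (.node redCodePart212 redCodePart213) (.node redCodePart214 redCodePart215))) (.node (.node (.node redCodePart216 redCodePart217) (.node redCodePart218 redCodePart219)) (.node (.node redCodePart220 redCodePart221) (.node redCodePart222 redCodePart223)))))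

/-- A suborbit and a mover, block 7. -/
def redCodeBlock7 : Janko1.Tree ℕ := (.node (.node (.node (.node (.node redCodePart224 redCodePart225) (.node redCodePart226 redCodePart227)) (.node (.node redCodePart228 redCodePart229) (.node redCodePart230 redCodePart231))) (.node (.node (.node redCodePart232 redCodePart233) (.node redCodePart234 redCodePart235)) (.node (.node redCodePart236 redCodePart237) (.node redCodePart238 redCodePart239)))) (.node (.node (.node (.node redCodePart240 redCodePart241) (.node redCodePart242 redCodePart243)) (.node (.node redCodePart244 redCodePart245) (.node redCodePart246 redCodePart247))) (.node (.node (.node redCodePart248 redCodePart249) (.node redCodePart250 redCodePart251)) (.node (.node redCodePart252 redCodePart253) (.node redCodePart254 redCodePart255)))))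

/-- A suborbit and a mover, block 8. -/
def redCodeBlock8 : Janko1.Tree ℕ := (.node (.node (.node (.node (.node redCodePart256 redCodePart257) (.node redCodePart258 redCodePart259)) (.node (.node redCodePart260 redCodePart261) (.node redCodePart262 redCodePart263))) (.node (.node (.node redCodePart264 redCodePart265) (.node redCodePart266 redCodePart267)) (.node (.node redCodePart268 redCodePart269) (.node redCodePart270 redCodePart271)))) (.node (.node (.node (.node redCodePart272 redCodePart273) (.node redCodePart274 redCodePart275)) (.node (.node redCodePart276 redCodePart277) (.node redCodePart278 redCodePart279))) (.node (.node (.node redCodePart280 redCodePart281) (.node redCodePart282 redCodePart283)) (.node (.node redCodePart284 redCodePart285) (.node redCodePart286 redCodePart287)))))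

/-- A suborbit and a mover, block 9. -/
def redCodeBlock9 : Janko1.Tree ℕ := (.node (.node (.node (.node (.node redCodePart288 redCodePart289) (.node redCodePart290 redCodePart291)) (.node (.node redCodePart292 redCodePart293) (.node redCodePart294 redCodePart295))) (.node (.node (.node redCodePart296 redCodePart297) (.node redCodePart298 redCodePart299)) (.node (.node redCodePart300 redCodePart301) (.node redCodePart302 redCodePart303)))) (.node (.node (.node (.node redCodePart304 redCodePart305) (.node redCodePart306 redCodePart307)) (.node (.node redCodePart308 redCodePart309) (.node redCodePart310 redCodePart311))) (.node (.node (.node redCodePart312 redCodePart313) (.node redCodePart314 redCodePart315)) (.node (.node redCodePart316 redCodePart317) (.node redCodePart318 redCodePart319)))))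

/-- A suborbit and a mover, block 10. -/
def redCodeBlock10 : Janko1.Tree ℕ := (.node (.node (.node (.node (.node redCodePart320 redCodePart321) (.node redCodePart322 redCodePart323)) (.node (.node redCodePart324 redCodePart325) (.node redCodePart326 redCodePart327))) (.node (.node (.node redCodePart328 redCodePart329) (.node redCodePart330 redCodePart331)) (.node (.node redCodePart332 redCodePart333) (.node redCodePart334 redCodePart335)))) (.node (.node (.node (.node redCodePart336 redCodePart337) (.node redCodePart338 redCodePart339)) (.node (.node redCodePart340 redCodePart341) (.node redCodePart342 redCodePart343))) (.node (.node (.node redCodePart344 redCodePart345) (.node redCodePart346 redCodePart347)) (.node (.node redCodePart348 redCodePart349) (.node redCodePart350 redCodePart351)))))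

/-- A suborbit and a mover, block 11. -/
def redCodeBlock11 : Janko1.Tree ℕ := (.node (.node (.node (.node (.node redCodePart352 redCodePart353) (.node redCodePart354 redCodePart355)) (.node (.node redCodePart356 redCodePart357) (.node redCodePart358 redCodePart359))) (.node (.node (.node redCodePart360 redCodePart361) (.node redCodePart362 redCodePart363)) (.node (.node redCodePart364 redCodePart365) (.node redCodePart366 redCodePart367)))) (.node (.node (.node (.node redCodePart368 redCodePart369) (.node redCodePart370 redCodePart371)) (.node (.node redCodePart372 redCodePart373) (.node redCodePart374 redCodePart375))) (.node (.node (.node redCodePart376 redCodePart377) (.node redCodePart378 redCodePart379)) (.node (.node redCodePart380 redCodePart381) (.node redCodePart382 redCodePart383)))))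

/-- A suborbit and a mover, block 12. -/
def redCodeBlock12 : Janko1.Tree ℕ := (.node (.node (.node (.node (.node redCodePart384 redCodePart385) (.node redCodePart386 redCodePart387)) (.node (.node redCodePart388 redCodePart389) (.node redCodePart390 redCodePart391))) (.node (.node (.node redCodePart392 redCodePart393) (.node redCodePart394 redCodePart395)) (.node (.node redCodePart396 redCodePart397) (.node redCodePart398 redCodePart399)))) (.node (.node (.node (.node redCodePart400 redCodePart401) (.node redCodePart402 redCodePart403)) (.node (.node redCodePart404 redCodePart405) (.node redCodePart406 redCodePart407))) (.node (.node (.node redCodePart408 redCodePart409) (.node redCodePart410 redCodePart411)) (.node (.node redCodePart412 redCodePart413) (.node redCodePart414 redCodePart415)))))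

/-- A suborbit and a mover, block 13. -/
def redCodeBlock13 : Janko1.Tree ℕ := (.node (.node (.node (.node (.node redCodePart416 redCodePart417) (.node redCodePart418 redCodePart419)) (.node (.node redCodePart420 redCodePart421) (.node redCodePart422 redCodePart423))) (.node (.node (.node redCodePart424 redCodePart425) (.node redCodePart426 redCodePart427)) (.node (.node redCodePart428 redCodePart429) (.node redCodePart430 redCodePart431)))) (.node (.node (.node (.node redCodePart432 redCodePart433) (.node redCodePart434 redCodePart435)) (.node (.node redCodePart436 redCodePart437) (.node redCodePart438 redCodePart439))) (.node (.node (.node redCodePart440 redCodePart441) (.node redCodePart442 redCodePart443)) (.node (.node redCodePart444 redCodePart445) (.node redCodePart446 redCodePart447)))))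

/-- A suborbit and a mover, block 14. -/
def redCodeBlock14 : Janko1.Tree ℕ := (.node (.node (.node (.node (.node redCodePart448 redCodePart449) (.node redCodePart450 redCodePart451)) (.node (.node redCodePart452 redCodePart453) (.node redCodePart454 redCodePart455))) (.node (.node (.node redCodePart456 redCodePart457) (.node redCodePart458 redCodePart459)) (.node (.node redCodePart460 redCodePart461) (.node redCodePart462 redCodePart463)))) (.node (.node (.node (.node redCodePart464 redCodePart465) (.node redCodePart466 redCodePart467)) (.node (.node redCodePart468 redCodePart469) (.node redCodePart470 redCodePart471))) (.node (.node (.node redCodePart472 redCodePart473) (.node redCodePart474 redCodePart475)) (.node (.node redCodePart476 redCodePart477) (.node redCodePart478 redCodePart479)))))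

/-- A suborbit and a mover, block 15. -/
def redCodeBlock15 : Janko1.Tree ℕ := (.node (.node (.node (.node (.node redCodePart480 redCodePart481) (.node redCodePart482 redCodePart483)) (.node (.node redCodePart484 redCodePart485) (.node redCodePart486 redCodePart487))) (.node (.node (.node redCodePart488 redCodePart489) (.node redCodePart490 redCodePart491)) (.node (.node redCodePart492 redCodePart493) (.node redCodePart494 redCodePart495)))) (.node (.node (.node (.node redCodePart496 redCodePart497) (.node redCodePart498 redCodePart499)) (.node (.node redCodePart500 redCodePart501) (.node redCodePart502 redCodePart503))) (.node (.node (.node redCodePart504 redCodePart505) (.node redCodePart506 redCodePart507)) (.node (.node redCodePart508 redCodePart509) (.node redCodePart510 redCodePart511)))))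

/-- A suborbit and a mover. -/
def redCodeTree : Janko1.Tree ℕ := (.node (.node (.node (.node redCodeBlock0 redCodeBlock1) (.node redCodeBlock2 redCodeBlock3)) (.node (.node redCodeBlock4 redCodeBlock5) (.node redCodeBlock6 redCodeBlock7))) (.node (.node (.node redCodeBlock8 redCodeBlock9) (.node redCodeBlock10 redCodeBlock11)) (.node (.node redCodeBlock12 redCodeBlock13) (.node redCodeBlock14 redCodeBlock15))))

/-- A suborbit and a mover, by index. -/
def redCode (i : ℕ) : ℕ := redCodeTree.get 15 i

end Cfsg.Agent.Janko3
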