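/-
The line stabiliser in the triple cover of `J₃`.
-/
import Cfsg.Agent.Janko1.Calc

set_option autoImplicit false

namespace Cfsg.Agent.Janko3

open Cfsg.Agent.Janko1

/-- An element of the line stabiliser, part 0. -/
def kCodePart0 : Janko1.Tree ℕ := (.node (.node (.node (.node (.node (.node (.leaf 9523133880129403551745) (.leaf 19480050253860247191553)) (.node (.leaf 37818131268884947279873) (.leaf 66798833503918511824897))) (.node (.node (.leaf 75853160267482155976705) (.leaf 153476983322603824381953)) (.node (.leaf 302250478249787735015425) (.leaf 331274126670085407006721)))) (.node (.node (.node (.leaf 350107962032182110928897) (.leaf 359034458751800969355265)) (.node (.leaf 604610528798100114378753) (.leaf 834827229618732556360705))) (.node (.node (.leaf 1210107565283851686118401) (.leaf 1437223999942942727378945)) (.node (.leaf 1892783774330118428726273) (.leaf 1967309709124319630101505))))) (.node (.node (.node (.node (.leaf 180785554299551953881874720539392614401) (.leaf 180785554299551953881874795310411153408)) (.node (.leaf 341653143749711829942316558552144150529) (.leaf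 341653143749711829942316699856563863552))) (.node (.node (.leaf 680980198759814646332534720627472351233) (.leaf 680980198759814646332535002274214182912)) (.node (.leaf 1203714715891792129025845662177793622017) (.leaf 1203714715891792129025846160022438936576)))) (.node (.node (.node (.leaf 1382397769803252959429216832699815198721) (.leaf 1382397769803252959429217404446127947776)) (.node (.leaf 2724919990045287515360851688475618968577) (.leaf 2724919990045287515360852815476110131200))) (.node (.node (.leaf 5445187697470634764233044109380013850625) (.leaf 5445187697470634764233046361456844472320)) (.node (.leaf 5967366851388102024396167060482624151553) (.leaf 5967366851388102024396169528527489597440)))))) (.node (.node (.node (.node (.node (.leaf 6297607306201885626668324932927325626369) (.leaf 6297607306201885626668327537556450181120)) (.node (.leaf 6477130909357340460265858837642530201601) (.leaf 6477130909357340460265861516520927002624))) (.node (.node (.leaf 10931591807795187132161589283867272415233) (.leaf 10931591807795187132161593805067675238400)) (.node (.leaf 15022957572922209967644944959454326068225)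 (.leaf 15022957572922209967644951172803909910528)))) (.node (.node (.node (.leaf 21783389733572141708934280144551713705985) (.leaf 21783389733572141708934289153950511792128)) (.node (.leaf 25930603800530214993402132585072240892929) (.leaf 25930603800530214993402143309718571974656))) (.node (.node (.leaf 34057504380371406925481496715804729183233) (.leaf 34057504380371406925481510801658389463040)) (.node (.leaf 35455832149823756718316125754385169422337) (.leaf 35455832149823756718316140418573608681472))))) (.node (.node (.node (.node (.leaf 87112287270409187030410562523811331178497) (.leaf 87112287270409187030410598552608903794688)) (.node (.leaf 108895674367258171303999606265803740024833) (.leaf 108895674367258171303999633285202464210945))) (.node (.node (.leaf 108895675624757665627940519728194198179840) (.leaf 108895675624757665627940564766388958269441)) (.node (.leaf 174224572517707433744856985009225587490817) (.leaf 174224572517707433744857057066819895984128)))) (.node (.node (.node (.leaf 175606968984286636517971851556347025850369) (.leaf 175606968984286636517971923042195015204865))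 (.node (.leaf 175606969628173915689249761836591013199872) (.leaf 175606969628173915689249834465930829135873))) (.node (.node (.leaf 348449164497501025579896138436256104185857) (.leaf 348449164497501025579896282551452770502656)) (.node (.leaf 359380714765648737161494894348766582147073) (.leaf 359380714765648737161495033942762844061697)))))))

/-- An element of the line stabiliser, part 1. -/
def kCodePart1 : Janko1.Tree ℕ := (.node (.node (.node (.node (.node (.node (.leaf 359380735533563571358271672256222135322624) (.leaf 359380735533563571358271820892593434658817)) (.node (.leaf 609786024286882817298453168093655562452993) (.leaf 609786024286882817298453420295244110402560))) (.node (.node (.leaf 624808936378945177986289481438773642302465) (.leaf 624808936378945177986289727427012546527233)) (.node (.leaf 624808959046981606122432153878395966493696) (.leaf 624808959046981606122432412293305912562689)))) (.node (.node (.node (.leaf 696898370612000964663428467625496393285633) (.leaf 696898370612000964663428755855906938306560)) (.node (.leaf 697579184576092048844229747074959776169985) (.leaf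 697579184576092048844230035023723478646785))) (.node (.node (.leaf 697579267571672535323459628645961200320512) (.leaf 697579267571672535323459917157915407958017)) (.node (.leaf 1393796616456996934796587853865117626138625) (.leaf 1393796616456996934796588430325887113756672))))) (.node (.node (.node (.node (.leaf 1394138186513538787479451464806397875716097) (.leaf 1394138186513538787479452041125862930644993)) (.node (.leaf 1394138228041455540724041239575991813275648) (.leaf 1394138228041455540724041816178014180999169))) (.node (.node (.leaf 2787593152415014102667871679501440911409153) (.leaf 2787593152415014102667872832422946593047552)) (.node (.leaf 2790318067210224748522059030480510178558977) (.leaf 2790318067210224748522060182275015365885953)))) (.node (.node (.node (.leaf 2790318069803835403126789453284474069451776) (.leaf 2790318069803835403126790607332977021027329)) (.node (.leaf 3048930012201865543356315212473401329319937) (.leaf 3048930012201865543356316473481298891544576))) (.node (.node (.leaf 3084385835218172635714325547805878501545985) (.leaf 3084385835218172635714326794149587566198785))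 (.node (.leaf 3084385839714435233698721170578864207337472) (.leaf 3084385839714435233698722446250944571676673)))))) (.node (.node (.node (.node (.node (.leaf 3223154604147499418355023114831363997433857) (.leaf 3223154604147499418355024447896863903353856)) (.node (.leaf 3257212059192090452392281584580761277205505) (.leaf 3257212059192090452392282903560407511728129))) (.node (.node (.leaf 3257212083846540322846216862814313865841664) (.leaf 3257212083846540322846218209965636830399489)) (.node (.leaf 3310266889465647448716501487179714118287361) (.leaf 3310266889465647448716502856274010789387264)))) (.node (.node (.node (.leaf 3336197445193046614423679534128869158689793) (.leaf 3336197445193046614423680892498519443636225)) (.node (.leaf 3336197469163034485396570920210803413490688) (.leaf 3336197469163034485396572300029716619336705))) (.node (.node (.leaf 5575186310179528588779094219354189152124929) (.leaf 5575186310179528588779096525197202727903232)) (.node (.leaf 5575367074802361617850302240824140633219073) (.leaf 5575367074802361617850304546592382989107201))))) (.node (.node (.node (.node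 (.leaf 5575367085024676253467967207563648454107136) (.leaf 5575367085024676253467969513481420163522561)) (.node (.leaf 7665881297187798096543473821352220642246657) (.leaf 7665881297187798096543476991886414225547264))) (.node (.node (.leaf 7672358157904540721039795866183094696615937) (.leaf 7672358157904540721039799034038409643425793)) (.node (.leaf 7672358292711080978112760823388976426721280) (.leaf 7672358292711080978112763996601880903098369)))) (.node (.node (.node (.leaf 11150372604478049297658737125377178591035393) (.leaf 11150372604478049297658741737063199174361088)) (.node (.leaf 11155817781770485344579408303239864499896321) (.leaf 11155817781770485344579412912673808227237889))) (.node (.node (.leaf 11155817786942341339603407369648410147749888) (.leaf 11155817786942341339603411983586501119246337)) (.node (.leaf 13241067591698868158728790001690928027271169) (.leaf 13241067591698868158728795478068128706027520)))))))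

/-- An element of the line stabiliser, part 2. -/
def kCodePart2 : Janko1.Tree ℕ := (.node (.node (.node (.node (.node (.node (.leaf 13247034698671524126522681065044678780477441) (.leaf 13247034698671524126522686538953834266361857)) (.node (.leaf 13247034828215056390016837472628657560313856) (.leaf 13247034828215056390016842951473742043242497))) (.node (.node (.leaf 17422457285117757880130884143614026418487297) (.leaf 17422457285117757880130891349373471059820544)) (.node (.leaf 17423660802414300806874221959598462514446337) (.leaf 17423660802414300806874229164860062371414017)))) (.node (.node (.node (.leaf 17423660900955872885577371634883279311814656) (.leaf 17423660900955872885577378841140446191894529)) (.node (.leaf 18119355531175303202947581918174703404449793) (.leaf 18119355531175303202947589412164507076288512))) (.node (.node (.leaf 18125653023997067741823476377009852363464705) (.leaf 18125653023997067741823483868395026595708929)) (.node (.leaf 18125653080858426734306843291567054752210944) (.leaf 18125653080858426734306850788161416681644033))))) (.node (.node (.node (.node (.leaf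 44601491726299700188159276012400553708617728) (.leaf 44601491726299700188159294459145177178046465)) (.node (.leaf 44601830720976683297335430454095071414452225) (.leaf 44601830720976683297335448900698390451585024))) (.node (.node (.leaf 44601832050194854787681682940670519227187201) (.leaf 44601832050194854787681701387554797849280513)) (.node (.leaf 45995288342736097797982053597473073314922497) (.leaf 45995288342736097797982071467756927297126400)))) (.node (.node (.node (.leaf 45995288342745922087715970159644644932190209) (.leaf 45995288342745922087715989182850037876654081)) (.node (.leaf 45995627254336648083251022463569271621419008) (.leaf 45995627254336648083251041486633360146169857))) (.node (.node (.leaf 45995627295885164153913618264256692650901505) (.leaf 45995627295885164153913636134399293752606721)) (.node (.leaf 45995628583574468160318664721557946166804480) (.leaf 45995628583574468160318682591981455301279745)))))) (.node (.node (.node (.node (.node (.leaf 45995628625113159941247342230691538668748801) (.leaf 45995628625113159941247361254036535238459392)) (.node (.leaf 89202991428108737931795331127531502426923008)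 (.leaf 89202991428108737931795368021024047959638017))) (.node (.node (.leaf 89203150945852806031729106275359728454344705) (.leaf 89203150945852806031729143168777502767194112)) (.node (.leaf 89203161579514532838849653069209399684235265) (.leaf 89203161579514532838849689962763522095980545)))) (.node (.node (.node (.leaf 94778177737963728157419702589363007518670849) (.leaf 94778177737963728157419737177012539475632128)) (.node (.leaf 94778177738125967624790433441597915284905985) (.leaf 94778177738125967624790472640933474192072705))) (.node (.node (.leaf 94778337234938628630254793483310637334396928) (.leaf 94778337234938628630254832682571425223024641)) (.node (.leaf 94778337245485481621735812770376954505338881) (.leaf 94778337245485481621735847357951728328638465))))) (.node (.node (.node (.node (.leaf 94778347868924834379370363816846939670978560) (.leaf 94778347868924834379370398404558048506945537)) (.node (.leaf 94778347879309447903480645334149321434603521) (.leaf 94778347879309447903480684533546444537200640))) (.node (.node (.leaf 178405962252879423893099663818322374555664384) (.leaf 178405962252879423893099737605298944280100865))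 (.node (.leaf 178411406111328299418266940459993336834490369) (.leaf 178411406111328299418267014244717829703139328)))) (.node (.node (.node (.leaf 178411406775922173355028402128667046500630529) (.leaf 178411406775922173355028475917894868422164481)) (.node (.leaf 189556334857316749912798698912753104394911745) (.leaf 189556334857316749912798768088043653536219136))) (.node (.node (.leaf 189556334857336873863659465803586585634078721) (.leaf 189556334857336873863659544202249175916675073)) (.node (.leaf 189561778705381190177221344214352242667421696) (.leaf 189561778705381190177221422610762756119396353)))))))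

/-- An element of the line stabiliser, part 3. -/
def kCodePart3 : Janko1.Tree ℕ := (.node (.node (.node (.node (.node (.node (.leaf 189561778710593769442941976485763444170096641) (.leaf 189561778710593769442942045658801922923036673)) (.node (.leaf 189561779370015312022957908417438751584747520) (.leaf 189561779370015312022957977594980552922955777))) (.node (.node (.leaf 189561779375207767337817759962958416566091777) (.leaf 189561779375207767337817838363872252628303872)) (.node (.leaf 312210445075051574197043023090499523191070720) (.leaf 312210445075051574197043152217713124508172289)))) (.node (.node (.node (.leaf 312216387850920933195605584272253382876553217) (.leaf 312216387850920933195605713396998939001053184)) (.node (.leaf 312216400146016440756258999502193540366073857) (.leaf 312216400146016440756259128631859930825056257))) (.node (.node (.leaf 325451512666222881825853074812635581907992577) (.leaf 325451512666222881825853198463471982546608128)) (.node (.leaf 325451512666486335270835775185612055009910785) (.leaf 325451512666486335270835909789202856678612993))))) (.node (.node (.node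 (.node (.leaf 325457455182477615775121163318415860386758656) (.leaf 325457455182477615775121297919538617190014977)) (.node (.leaf 325457455312548708560921479584337417621037057) (.leaf 325457455312548708560921603232705934455209985))) (.node (.node (.leaf 325457467478100030232993550641128340837195776) (.leaf 325457467478100030232993674294417530617421825)) (.node (.leaf 325457467607907669573811150104941984321986561) (.leaf 325457467607907669573811284710985414398181376)))) (.node (.node (.node (.leaf 356811928493442528129984916195564688659976192) (.leaf 356811928493442528129985063769519477376417793)) (.node (.leaf 356833701249311549363096473179304704633475073) (.leaf 356833701249311549363096620744250094501498880))) (.node (.node (.leaf 356833706566182977584655124088490792304246785) (.leaf 356833706566182977584655271671448382749020161)) (.node (.leaf 356899040780631797772057943661351950918615041) (.leaf 356899040780631797772058091199277942062452736)))))) (.node (.node (.node (.node (.node (.leaf 356899040780672352685327081043899590322950145) (.leaf 356899040780672352685327228653883176561676289))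 (.node (.leaf 356920813533904680479422401077840120884756480) (.leaf 356920813533904680479422548678814308325396481))) (.node (.node (.leaf 356920813535243319510845559722620177585541121) (.leaf 356920813535243319510845707251536771541893121)) (.node (.leaf 356920818850857218534772881777895655079940096) (.leaf 356920818850857218534773029324824447952097281)))) (.node (.node (.node (.leaf 356920818852155302652926902932041681319497729) (.leaf 356920818852155302652927050551028067726262272)) (.node (.leaf 713623888888277078251304712669070062428096512) (.leaf 713623888888277078251305007816992833967489025))) (.node (.node (.leaf 713634735409491865647206761107300427946788865) (.leaf 713634735409491865647207056250701999081785344)) (.node (.leaf 713634777944786468063256771297513093244387329) (.leaf 713634777944786468063257066449904288628475905))))) (.node (.node (.node (.node (.leaf 713972338052772039021430290551800681690824705) (.leaf 713972338052772039021430585555608256563906560)) (.node (.leaf 713972338052773301717852509856336623782332417) (.leaf 713972338052773301717852805148374591986468865)))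 (.node (.node (.leaf 713983184532448456500813874959192988095873024) (.leaf 713983184532448456500814170246709755897186305)) (.node (.leaf 713983184553218911583135562207602391251945473) (.leaf 713983184553218911583135857206888791492001793)))) (.node (.node (.node (.leaf 713983227067745584316961879108510902622095360) (.leaf 713983227067745584316962174116786901339867137)) (.node (.leaf 713983227088514776702861346620038799459092481) (.leaf 713983227088514776702861641916545165739687936))) (.node (.node (.leaf 1427247693038348049259447542882984109648396288) (.leaf 1427247693038348049259448133178794605826539521)) (.node (.leaf 1427248373353851602312621486330566490082787329) (.leaf 1427248373353851602312622076626095339418435584)))))))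

/-- An element of the line stabiliser, part 4. -/
def kCodePart4 : Janko1.Tree ℕ := (.node (.node (.node (.node (.node (.node (.leaf 1427248373686077511232099253367480495233826817) (.leaf 1427248373686077511232099843663572225836990465)) (.node (.leaf 1427944591408797751330763169453796523241373697) (.leaf 1427944591408797751330763759461376608874545152))) (.node (.node (.leaf 1427944591408878841352678667075863846613696513) (.leaf 1427944591408878841352679257659904753236197377)) (.node (.leaf 1427945271558147844524903885632341441727430656) (.leaf 1427945271558147844524904476216100701608099841)))) (.node (.node (.node (.leaf 1427945271641305723897457883019526255409119233) (.leaf 1427945271641305723897458473026824797379624961)) (.node (.leaf 1427945271890535933495466203695769100205703168) (.leaf 1427945271890535933495466793703630420263845889))) (.node (.node (.leaf 1427945271973612722846104702596195462059933697) (.leaf 1427945271973612722846105293180517500128854016)) (.node (.leaf 1561052176524921648102844812542292083899318272) (.leaf 1561052176524921648102845458178339886459781121))))) (.node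 (.node (.node (.node (.leaf 1561053354984193036759871523991141317370658817) (.leaf 1561053354984193036759872169626691275147395072)) (.node (.leaf 1561053367611747958444390723468449157826478081) (.leaf 1561053367611747958444391369104979136992198657))) (.node (.node (.leaf 1578474633809815784491511233197546336744898561) (.leaf 1578474633809815784491511871627834694664667136)) (.node (.leaf 1578474633809926822758857115821694985647112193) (.leaf 1578474633809926822758857768663502232710496257)))) (.node (.node (.node (.leaf 1578475812071780407507270830274671663902621696) (.leaf 1578475812071780407507271483115981066320691201)) (.node (.leaf 1578475812170545601069834794970612908635144193) (.leaf 1578475812170545601069835433400403544315527169))) (.node (.node (.leaf 1578475824699557405733735371535242910996054016) (.leaf 1578475824699557405733736009966013445520441345)) (.node (.leaf 1578475824798211561028953431989757295447982081) (.leaf 1578475824798211561028954084832046596847828992)))))) (.node (.node (.node (.node (.node (.leaf 1650255156322204253661391413048625626597236736) (.leaf 1650255156322204253661392095578161164293505025))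 (.node (.leaf 1650261610191430011520073133447542808093335553) (.leaf 1650261610191430011520073815974399467153727488))) (.node (.node (.leaf 1650261621821982786920450192997033719845879809) (.leaf 1650261621821982786920450875529233704849448961)) (.node (.leaf 1657921037619006190796965143677613906616909825) (.leaf 1657921037619006190796965823036615250730491904)))) (.node (.node (.node (.leaf 1657921037619198378509766265584767994001825793) (.leaf 1657921037619198378509766951284837725042319361)) (.node (.leaf 1657927491218233007187851538374521100894732288) (.leaf 1657927491218233007187852224071911953538424833))) (.node (.node (.leaf 1657927491353425408398573899116646327747026945) (.leaf 1657927491353425408398574578472968960966918145)) (.node (.leaf 1657927502849170158021084406167610542975557632) (.leaf 1657927502849170158021085085529276334395826177))))) (.node (.node (.node (.node (.leaf 1657927502984170371519005635490979269436448769) (.leaf 1657927502984170371519006321193713280518979584)) (.node (.leaf 1694856637414730257836883379728464320535879680) (.leaf 1694856637414730257836884080704740083676217345)))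 (.node (.node (.leaf 1694862930369484191684965835735272305222377473) (.leaf 1694862930369484191684966536708943438923587584)) (.node (.leaf 1694862932695380030519877058550405963899207681) (.leaf 1694862932695380030519877759529283469946544129)))) (.node (.node (.node (.leaf 1712975992945398124463218608858527233344536577) (.leaf 1712975992945398124463219302340813192813502464)) (.node (.leaf 1712975992945651278247074452850003942735765505) (.leaf 1712975992945651278247075161320269509233369089))) (.node (.node (.leaf 1712982285785921903757306792299278088072593408) (.leaf 1712982285785921903757307500766939025445642241)) (.node (.leaf 1712982285843290699318817697948173386203160577) (.leaf 1712982285843290699318818391427854787414065153)))))))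

/-- An element of the line stabiliser, part 5. -/
def kCodePart5 : Janko1.Tree ℕ := (.node (.node (.node (.node (.node (.node (.leaf 1712982288112324050167183280497022351280594944) (.leaf 1712982288112324050167183973981910053656092673)) (.node (.leaf 1712982288169439691944838319672471600186417153) (.leaf 1712982288169439691944839028145338839038164992))) (.node (.node (.leaf 2854495388070378291467110998349059229642392576) (.leaf 2854495388070378291467112178940681046566371329)) (.node (.leaf 2854498107673453813358374294781810361106433025) (.leaf 2854498107673453813358375475372305177536103424)))) (.node (.node (.node (.leaf 2854498110331907272100467811061026878728962049) (.leaf 2854498110331907272100468991653772397609223169)) (.node (.leaf 2857282981222788232487869920488602529589886977) (.leaf 2857282981222788232487871099927302840832230400))) (.node (.node (.leaf 2857282981222790765310772445584494209168049153) (.leaf 2857282981222790765310773627329037531770520577)) (.node (.leaf 2857285700820671459996478466710662209915060224) (.leaf 2857285700820671459996479648454078532026369025))))) (.node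 (.node (.node (.node (.leaf 2857285700823270143724528486497422696668726273) (.leaf 2857285700823270143724529665934996010641129473)) (.node (.leaf 2857285703479129984391630591558114378783917056) (.leaf 2857285703479129984391631770997938391982539777))) (.node (.node (.leaf 2857285703481726135296778082790218672138880001) (.leaf 2857285703481726135296779264535885693479550976)) (.node (.leaf 3924931221402836459315584943678887136247977984) (.leaf 3924931221402836459315586566992393110498574337)))) (.node (.node (.node (.leaf 3924966544312139613337766477933797805889460225) (.leaf 3924966544312139613337768101232639591642601472)) (.node (.leaf 3924966610773492593592376812671330375204077569) (.leaf 3924966610773492593592378435999418074521966593))) (.node (.node (.leaf 3927980151414944424627226309848584585711452161) (.leaf 3927980151414944424627227931901082662399940608)) (.node (.leaf 3927980151414991233613573915747301915504449537) (.leaf 3927980151414991233613575540321815787259074561)))))) (.node (.node (.node (.node (.node (.leaf 3928015474315161153230414880181459883427102720) (.leaf 3928015474315161153230416504741309566742468609))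 (.node (.leaf 3928015474319751316051423448466058081149687809) (.leaf 3928015474319751316051425070503891975035944961))) (.node (.node (.leaf 3928015540776607751464973985417138580004313088) (.leaf 3928015540776607751464975607484218381759977473)) (.node (.leaf 3928015540781151105299634944019995760942684161) (.leaf 3928015540781151105299636568609091352185536512)))) (.node (.node (.node (.leaf 5708990792091492606624930238880138721629339648) (.leaf 5708990792091492606624932600063388952547033089)) (.node (.leaf 5708992131953961315699284465106892998808993793) (.leaf 5708992131953961315699286826289571483407646720))) (.node (.node (.leaf 5708992153221604256881282181274745361454333953) (.leaf 5708992153221604256881284542458540950405808129)) (.node (.leaf 5709165016664000093623139427215104112184000513) (.leaf 5709165016664000093623141788326296748793298944))))) (.node (.node (.node (.node (.leaf 5709165016664005084994959974157085652797128705) (.leaf 5709165016664005084994962335412393478017024001)) (.node (.leaf 5709166356525170807711022460727005764785274880) (.leaf 5709166356525170807711024821981741843692421121)))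 (.node (.node (.leaf 5709166356525824915418322375531006399057264641) (.leaf 5709166356525824915418324736641627290159022081)) (.node (.leaf 5709166377792823731643914825912681766624198656) (.leaf 5709166377792823731643917187024419761267179521)))) (.node (.node (.node (.leaf 5709166377793472847979394193558528078169276417) (.leaf 5709166377793472847979396554814381260623839232)) (.node (.leaf 6779426569596334302509394263794529223342853120) (.leaf 6779426569596334302509397067699640521826238465))) (.node (.node (.leaf 6779460568614673812509829078630429783253093377) (.leaf 6779460568614673812509831882521455228065188864)) (.node (.leaf 6779460597857680932877161583231690858051403777) (.leaf 6779460597857680932877164387150851726311459841)))))))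

/-- An element of the line stabiliser, part 6. -/
def kCodePart6 : Janko1.Tree ℕ := (.node (.node (.node (.node (.node (.node (.leaf 6782649724200463968159158181705832312486756353) (.leaf 6782649724200463968159160984277878111064329216)) (.node (.leaf 6782649724200472755055139176362728788218907649) (.leaf 6782649724200472755055141981600905586597202945))) (.node (.node (.leaf 6782683723169476744659314882714246910502764544) (.leaf 6782683723169476744659317687938337855220780033)) (.node (.leaf 6782683723194149028289139061249413466137070593) (.leaf 6782683723194149028289141863807373441655898113)))) (.node (.node (.node (.leaf 6782683752412501438825862935546185211520257024) (.leaf 6782683752412501438825865738132280579874393089)) (.node (.leaf 6782683752437164935559706115425258822317411329) (.leaf 6782683752437164935559708920677485159881637888))) (.node (.node (.leaf 8920298148532149422535330227601692631844789248) (.leaf 8920298148532149422535333916950535961075777537)) (.node (.leaf 8920323940896193988682491080860548595906518017) (.leaf 8920323940896193988682494770198667278751374336))))) (.node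 (.node (.node (.node (.leaf 8920324010016005419055851182174861877063450625) (.leaf 8920324010016005419055854871534344090718575617)) (.node (.leaf 8923608415421526317107617525535690033934630913) (.leaf 8923608415421526317107621213515439066494540800))) (.node (.node (.leaf 8923608415421570667545047110561095014956932097) (.leaf 8923608415421570667545050801279032640803970049)) (.node (.leaf 8923634207737542154644491771856868468799832064) (.leaf 8923634207737542154644495462564081448315788289)))) (.node (.node (.node (.leaf 8923634207761600895383805487397739417355426817) (.leaf 8923634207761600895383809175366763833380569089)) (.node (.leaf 8923634276857442285899964602246962377007832064) (.leaf 8923634276857442285899968290237350293991857153))) (.node (.node (.leaf 8923634276881456676201848728655145484379233281) (.leaf 8923634276881456676201852419383721964909101056)) (.node (.leaf 9277110053099451329040340350092555048848495616) (.leaf 9277110053099451329040344187015343271176044545)))))) (.node (.node (.node (.node (.node (.leaf 9277124975035648217654456531987315225642701825) (.leaf 9277124975035648217654460368903890098326639616))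 (.node (.leaf 9277125025546263978363596085087445266876858369) (.leaf 9277125025546263978363599922016384166625580033))) (.node (.node (.leaf 9277719839123641778800147915546636824221843457) (.leaf 9277719839123641778800151752217223458001556480)) (.node (.leaf 9277719839123689857912975829254322509531091969) (.leaf 9277719839123689857912979666429312320346821633)))) (.node (.node (.node (.leaf 9277734761014406161509647262557693921517895680) (.leaf 9277734761014406161509651099726470382749783041)) (.node (.leaf 9277734761037170630986127954762744029048247297) (.leaf 9277734761037170630986131791427117341429727233))) (.node (.node (.leaf 9277734811525118080451696198747487874002752512) (.leaf 9277734811525118080451700035424225185203524609)) (.node (.leaf 9277734811547834470815348976488247558825612289) (.leaf 9277734811547834470815352813669388018936446976))))) (.node (.node (.node (.node (.leaf 22976040150167076679001334658201404085389967361) (.leaf 22976040150167076679001344081893481719798054912)) (.node (.leaf 22976040501836171249643010076803116992609533952) (.leaf 22976040501836171249643019500495481365543845889)))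 (.node (.node (.leaf 22976040672647069575561275259886187973844205569) (.leaf 22976040672647069575561284683578190807148216321)) (.node (.leaf 22980918438267453509045431166461238463455887360) (.leaf 22980918438267453509045440597359075542505308161)))) (.node (.node (.node (.leaf 22980918789853521481375003020692930959587360769) (.leaf 22980918789853521481375012451591054661085446145)) (.node (.leaf 22980918960565878235221818609017907060756594689) (.leaf 22980918960565878235221828039915669332233879552))) (.node (.node (.leaf 22987190522859823972959646526277917672367865857) (.leaf 22987190522859823972959655950546456024786731009)) (.node (.leaf 22987190874347076085319144402614766439365672961) (.leaf 22987190874347076085319153826883591523780476928)))))))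

/-- An element of the line stabiliser, part 7. -/
def kCodePart7 : Janko1.Tree ℕ := (.node (.node (.node (.node (.node (.node (.leaf 22987191045241213380639132635624777326272921600) (.leaf 22987191045241213380639142059893240986995933185)) (.node (.leaf 23016460772348619356592345982262479677280026625) (.leaf 23016460772348619356592355353496273041928364032))) (.node (.node (.leaf 23016465185022083963286311751608674850231689216) (.leaf 23016465185022083963286321122845146165777997825)) (.node (.leaf 23016466216129011378755441953637933653864685569) (.leaf 23016466216129011378755451324870328435481837569)))) (.node (.node (.node (.leaf 23020642162000631073280184153994316711559569409) (.leaf 23020642162000631073280193522922267062833455105)) (.node (.leaf 23020646574777810296467896934410789723236933633) (.leaf 23020646574777810296467906303341418076734291968))) (.node (.node (.leaf 23020647605895446804403132441497037578382147584) (.leaf 23020647605895446804403141810423589307781619713)) (.node (.leaf 23021338880182802794582437843752657246660730881) (.leaf 23021338880182802794582447365155255592578859009)))))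 (.node (.node (.node (.node (.leaf 23021339060329471590315391885406777562823335936) (.leaf 23021339060329471590315401258081722761039904769)) (.node (.leaf 23021343472946064677007714086005724705762336768) (.leaf 23021343472946064677007723607405718428897648641))) (.node (.node (.leaf 23021343472992744781357120552877819900408692737) (.leaf 23021343472992744781357129925555443139529023489)) (.node (.leaf 23021344325360176637571177624813956291249717249) (.leaf 23021344325360176637571187146218101609133531136)))) (.node (.node (.node (.leaf 23021344504214034048398220059152769434651860993) (.leaf 23021344504214034048398229431826316101402435584)) (.node (.leaf 23025520269855685724775528775771884256783122432) (.leaf 23025520269855685724775538289680492805484470273))) (.node (.node (.leaf 23025524862717367425395928668701478924031500289) (.leaf 23025524862717367425395938182607482843595685888)) (.node (.leaf 23025525715090164434506985960274251050756628481) (.leaf 23025525715090164434506995474184406629594832897)))))) (.node (.node (.node (.node (.node (.leaf 23032489252777028224474725541189743534139269121)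 (.leaf 23032489252777028224474735061439420334652661760)) (.node (.leaf 23032493845597181948920758958646174101518041089) (.leaf 23032493845597181948920768478893246337129668609))) (.node (.node (.leaf 23032494697912629870478148626957246379543633920) (.leaf 23032494697912629870478158147208470216535326721)) (.node (.leaf 24309903982897091796372121505415854657238081537) (.leaf 24309903982897091796372131559179182734923997185)))) (.node (.node (.node (.leaf 24309908416838397533501450126449409099638710273) (.leaf 24309908416838397533501460180215415952667377664)) (.node (.leaf 24309909438308553795387741208856976029294592000) (.leaf 24309909438308553795387751262618892742152036353))) (.node (.node (.leaf 24314084873377281399755962784097400652543705089) (.leaf 24314084873377281399755972798085293868383797249)) (.node (.leaf 24314085214412602195161681857565761466735329281) (.leaf 24314085214412602195161691871553926577581670400))))) (.node (.node (.node (.node (.leaf 24314085372549296710939086414013372065193861120) (.leaf 24314085372549296710939096465470857129316384769)) (.node (.leaf 24314085372595946074764402926757053148652847104)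 (.leaf 24314085372595946074764412940744870738729779201))) (.node (.node (.leaf 24314089806594255682536000564903965972907491329) (.leaf 24314089806594255682536010616364129864101535745)) (.node (.leaf 24314090828074664207303339704197957579872280577) (.leaf 24314090828074664207303349755654031240486658048)))) (.node (.node (.node (.leaf 24314782270878269043827259401078274916721164289) (.leaf 24314782270878269043827269456282754828000698368)) (.node (.leaf 24314786704808865153700385745770561551187714048) (.leaf 24314786704808865153700395800977720327979343873))) (.node (.node (.leaf 24314787726393444649170300503801682034769993729) (.leaf 24314787726393444649170310559004750632546533377)) (.node (.leaf 24318963161477819934482168757509492712140914689) (.leaf 24318963161477819934482178778703145372596977664)))))))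

/-- An element of the line stabiliser, part 8. -/
def kCodePart8 : Janko1.Tree ℕ := (.node (.node (.node (.node (.node (.node (.leaf 24318963502429902235855139866636939181923909632) (.leaf 24318963502429902235855149887830863621447024641)) (.node (.leaf 24318963660514643220781371745555150805823193089) (.leaf 24318963660514643220781381766748727833985761281))) (.node (.node (.leaf 24325235246070078884760063141910238266359087104) (.leaf 24325235246070078884760073156474592200096956417)) (.node (.leaf 24325235586923618544474137158793344568185274369) (.leaf 24325235586923618544474147173357970390599745537)))) (.node (.node (.node (.leaf 24325235745189928175160150837343384819550273537) (.leaf 24325235745189928175160160851907663237071568896)) (.node (.leaf 24358686364439047756320801966124389623769661440) (.leaf 24358686364439047756320810854860884722621562881))) (.node (.node (.leaf 24358686692846540292874074073232560075791613953) (.leaf 24358686692846540292874082961969341088447741953)) (.node (.leaf 24358686874291425359336387498906122371266134017) (.leaf 24358686874291425359336396387642556687673524224)))))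 (.node (.node (.node (.node (.leaf 24359383591097800612982335996032871647015886849) (.leaf 24359383591097800612982344816459194229806211072)) (.node (.leaf 24359388186519284922349516229547867980345524225) (.leaf 24359388186519284922349525049971586765074489345))) (.node (.node (.leaf 24359389036607470739305906839429232571902468096) (.leaf 24359389036607470739305915659857104188431548417)) (.node (.leaf 24363564652539475252772408494788885814888775681) (.leaf 24363564652539475252772417390731140358268321793)))) (.node (.node (.node (.leaf 24363564980770672827561611170521980613528002561) (.leaf 24363564980770672827561619983454313399290314753)) (.node (.leaf 24363564980864002632460860404438527424090669057) (.leaf 24363564980864002632460869300381067765398847488))) (.node (.node (.leaf 24363565162210071244734627440317026263804100608) (.leaf 24363565162210071244734636336259220018410176513)) (.node (.leaf 24363569576290821235363240715150077224525258752) (.leaf 24363569576290821235363249528079806205595361281)))))) (.node (.node (.node (.node (.node (.leaf 24363570426337235687230021029513190349109084161)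 (.leaf 24363570426337235687230029842447072226491523072)) (.node (.leaf 24369836737131682942431574001802437604474568705) (.leaf 24369836737131682942431582891115393421248970752))) (.node (.node (.leaf 24369837065357607902812511806765024716922175488) (.leaf 24369837065357607902812520696078266441033383937)) (.node (.leaf 24369837246885518497999481299322362135593418753) (.leaf 24369837246885518497999490188635257279533498369)))) (.node (.node (.node (.leaf 24370533963691792478249113790563502908583854080) (.leaf 24370533963691792478249122609836903946057179137)) (.node (.leaf 24370538559170625043281508802482342133449760769) (.leaf 24370538559170625043281517621753139430756073472))) (.node (.node (.leaf 24370539409159934687819440044184952928758423553) (.leaf 24370539409159934687819448863459903064206614529)) (.node (.leaf 24488309954787006045175316697819288316686835712) (.leaf 24488309954787006045175325607884488634823409665))))) (.node (.node (.node (.node (.leaf 24488314379091084274498470481728924297122086913) (.leaf 24488314379091084274498479391796789784120270849)) (.node (.leaf 24488315388930687760984384504584322261236981761)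 (.leaf 24488315388930687760984393414648110389697650688))) (.node (.node (.leaf 24492491344438886421379164699484708911966126081) (.leaf 24492491344438886421379173607244066216514560000)) (.node (.leaf 24492495768847134611253075600178857226381959168) (.leaf 24492495768847134611253084507940879751356555265)))) (.node (.node (.node (.leaf 24492496778696930523543045226862024568500068353) (.leaf 24492496778696930523543054134619969644931383297)) (.node (.leaf 24493188242768050941980138811627300044436283393) (.leaf 24493188242768050941980147723133652195952762881))) (.node (.node (.leaf 24493192667061876433060523007982173561347579905) (.leaf 24493192667061876433060531919491190972133474304)) (.node (.leaf 24493193677015386427054142674451339985769529344) (.leaf 24493193677015386427054151585956279999338258433)))))))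

/-- An element of the line stabiliser, part 9. -/
def kCodePart9 : Janko1.Tree ℕ := (.node (.node (.node (.node (.node (.node (.leaf 24537789554347651561472338108434918000342220800) (.leaf 24537789554347651561472348109452861163201126401)) (.node (.leaf 24537794147442996761931607070483595893791662081) (.leaf 24537794147442996761931617071498936495351414784))) (.node (.node (.leaf 24537794997198642906630669243067123462899261441) (.leaf 24537794997198642906630679244086614834762883073)) (.node (.leaf 24541970944020300986461041023245943179711635457) (.leaf 24541970944020300986461051016769896545442209792)))) (.node (.node (.node (.leaf 24541975537214523191227222198331231826572623873) (.leaf 24541975537214523191227232191852582624661889025)) (.node (.leaf 24541976386928640527863465050583738338647351296) (.leaf 24541976386928640527863475044109239971276275713))) (.node (.node (.leaf 24548939926941653310449971705802434798260723713) (.leaf 24548939926941653310449981705667456415614255105)) (.node (.leaf 24548944520094104209554918025985412948354424832) (.leaf 24548944520094104209554928025847832062579580929)))))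 (.node (.node (.node (.node (.leaf 24548945369751329644742028262418615381946155009) (.leaf 24548945369751329644742038262285185272829206528)) (.node (.leaf 45806428046872023374672814158387037849063014400) (.leaf 45806428046872023374672833066588014028171337729))) (.node (.node (.leaf 45806433163107107810124266880706180915038068737) (.leaf 45806433163107107810124285788904900567729455104)) (.node (.leaf 45806433332962633635469884977406436424269520897) (.leaf 45806433332962633635469903885609458377796165633)))) (.node (.node (.node (.leaf 45818275317795190119625232660796855108484816897) (.leaf 45818275317795190119625251563521454086914383872)) (.node (.leaf 45818280434040375294092089206178316585501999105) (.leaf 45818280434040375294092108108900659140694728705))) (.node (.node (.leaf 45818280603766357587181466701386207948989079552) (.leaf 45818280603766357587181485604112852760045568001)) (.node (.leaf 45818972216129456181224581507598729147708416001) (.leaf 45818972216129456181224600420411391340957417473)))))) (.node (.node (.node (.node (.node (.leaf 45818977332244853899729856660158460355770671104)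 (.leaf 45818977332244853899729875572968866080459137025)) (.node (.leaf 45818977502089975165863869358627810611195559937) (.leaf 45818977502089975165863888271442518533866610688))) (.node (.node (.leaf 45895631039629299280962881569903698048593240065) (.leaf 45895631039629299280962900404317693259829755905)) (.node (.leaf 45895631209111050859581432744549344542770528256) (.leaf 45895631209111050859581451541493039244777758721)))) (.node (.node (.node (.leaf 45895636143568740583794382281888986748644581376) (.leaf 45895636143568740583794401116300739864655110145)) (.node (.leaf 45895636302079128810873774756413955637407522817) (.leaf 45895636302079128810873793553360328805507473409))) (.node (.node (.leaf 45895636302126092433208130839318982950333202433) (.leaf 45895636302126092433208149673735023523897892864)) (.node (.leaf 45895636993662068565986766750111808187862687745) (.leaf 45895636993662068565986785547053682519399661568))))) (.node (.node (.node (.node (.leaf 45901903293729301678149907630927063978965278721) (.leaf 45901903293729301678149926431041292874354458625)) (.node (.leaf 45901908386718280196981713935422070116996808705)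 (.leaf 45901908386718280196981732735538977375588065280))) (.node (.node (.leaf 45901909078165926574586023438371610042547970048) (.leaf 45901909078165926574586042238484018503218176001)) (.node (.leaf 45902600192068526749288103765076103044475789313) (.leaf 45902600192068526749288122559713954745792143360)))) (.node (.node (.node (.leaf 45902605284922667828879456541519563004638732288) (.leaf 45902605284922667828879475336160093107636076545)) (.node (.leaf 45902605976484676117469603679495359029382938625) (.leaf 45902605976484676117469622474131390399072313345))) (.node (.node (.leaf 45907478310552445842543317415112742610933923840) (.leaf 45907478310552445842543336244050360621718396929)) (.node (.leaf 45907483414502292239376520496613215321213444097) (.leaf 45907483414502292239376539325548591339624480768)))))))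

/-- An element of the line stabiliser, part 10. -/
def kCodePart10 : Janko1.Tree ℕ := (.node (.node (.node (.node (.node (.node (.leaf 45907483572929552396677379331247434270028947457) (.leaf 45907483572929552396677398160187097700997603329)) (.node (.leaf 45908175208886447915907586584780984220181946369) (.leaf 45908175208886447915907605423806665445659975680))) (.node (.node (.leaf 45908180312706750661635051738474898619352760321) (.leaf 45908180312706750661635070577498337807486246913)) (.node (.leaf 45908180471253454146974097877741129834340360192) (.leaf 45908180471253454146974116716768856376822743041)))) (.node (.node (.node (.leaf 45940232529694134479677190784108971436848275457) (.leaf 45940232529694134479677209710756696774915727360)) (.node (.leaf 45940237622335158417654324581861225687519608833) (.leaf 45940237622335158417654343508506694086727655425))) (.node (.node (.leaf 45940237804486023139483093468756664128853057536) (.leaf 45940237804486023139483112395406420398032568321)) (.node (.leaf 45946504774458204464690184554862682685025951744) (.leaf 45946504774458204464690203553279978635645837313)))))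 (.node (.node (.node (.node (.leaf 45946509706885889134271132223176825945832046593) (.leaf 45946509706885889134271151221591517318866935808)) (.node (.leaf 45946510389413392278696139491418543864770879489) (.leaf 45946510389413392278696158489837597532899786753))) (.node (.node (.leaf 45952079800617017587805390368550974550586761217) (.leaf 45952079800617017587805409289722322688076169217)) (.node (.leaf 45952079960721582650026313953497019313893163009) (.leaf 45952079960721582650026332957678922798389665793)))) (.node (.node (.node (.leaf 45952084893190795176939384325887820271569756160) (.leaf 45952084893190795176939403330067119139612278785)) (.node (.leaf 45952084893268689473916626939496909196901834752) (.leaf 45952084893268689473916645860666000498736832513))) (.node (.node (.leaf 45952085075289767155724414078540701960337637377) (.leaf 45952085075289767155724432999714081086820671488)) (.node (.leaf 45952085575744006018047909766672023382923550721) (.leaf 45952085575744006018047928770855684591270912000)))))) (.node (.node (.node (.node (.node (.leaf 45952776698951303713941731656074802671623618560)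 (.leaf 45952776698951303713941750587334214023706140673)) (.node (.leaf 45952781791472884442730175475509238821487190017) (.leaf 45952781791472884442730194406766393292918636544))) (.node (.node (.leaf 45952781973613648306694043213028164686414176257) (.leaf 45952781973613648306694062144289606924637380609)) (.node (.leaf 45956261350477542013043312069938923104452632577) (.leaf 45956261350477542013043331067779758330682032128)))) (.node (.node (.node (.leaf 45956266282879000893179020162640972590667145217) (.leaf 45956266282879000893179039160479203194113777665)) (.node (.leaf 45956266965474014414308389661922861004254887936) (.leaf 45956266965474014414308408659765453909452267521))) (.node (.node (.leaf 47099871438533276983362987275620663779917963265) (.leaf 47099871438533276983363006755093893607103471616)) (.node (.leaf 47099876553766055263962617917667166474756759552) (.leaf 47099876553766055263962637397143075180540788737))))) (.node (.node (.node (.node (.leaf 47099877234714876938045153647068881601217888257) (.leaf 47099877234714876938045173126540277451652734977)) (.node (.leaf 47106143523120434610517801047773912990692163585)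 (.leaf 47106143523120434610517819345214933178272325633))) (.node (.node (.leaf 47106143523151365087095116343254279733519777792) (.leaf 47106143523151365087095135825898043754263224321)) (.node (.leaf 47106148459203232220851065803741639080050581504) (.leaf 47106148459203232220851084101180055102261575681)))) (.node (.node (.node (.leaf 47106148638405075250158191485992923545127231489) (.leaf 47106148638405075250158210968639366341213626369)) (.node (.leaf 47106149139404596256368161800517038146591006721) (.leaf 47106149139404596256368180097959818525694648320))) (.node (.node (.leaf 47106149319219029061393121764755144347714920449) (.leaf 47106149319219029061393141247397074327295950848)) (.node (.leaf 47106840421490884272974770351912091915793801217) (.leaf 47106840421490884272974789829079478742477373441)))))))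

/-- An element of the line stabiliser, part 11. -/
def kCodePart11 : Janko1.Tree ℕ := (.node (.node (.node (.node (.node (.node (.leaf 47106845536609300167219588273346312950176219137) (.leaf 47106845536609300167219607750516378590844690432)) (.node (.leaf 47106846217537647204371589950114223700379312128) (.leaf 47106846217537647204371609427279776588790571009))) (.node (.node (.leaf 47111718709383548748200146735215593252762836993) (.leaf 47111718709383548748200165038421220974118584320)) (.node (.leaf 47111723645508148147230173709289518941937475585) (.leaf 47111723645508148147230192012492542459370430465)))) (.node (.node (.node (.leaf 47111724325735464159662859984126288495391031296) (.leaf 47111724325735464159662878287333676414599831553)) (.node (.leaf 47115900099139517994928000654494382579471491072) (.leaf 47115900099139517994928018951358942042774462465))) (.node (.node (.leaf 47115905035196608027419991009316129866730455041) (.leaf 47115905035196608027420009306178085119454224384)) (.node (.leaf 47115905715465208508262302613266781974877593601) (.leaf 47115905715465208508262320910133101590835380225)))))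 (.node (.node (.node (.node (.leaf 47322878901484561923280171268735641308092243969) (.leaf 47322878901484561923280189659850975596832292865)) (.node (.leaf 47322884006083678477072681363988233167126593537) (.leaf 47322884006083678477072699755106232315515379712))) (.node (.node (.leaf 47322884675401887479263979249998558196326866944) (.leaf 47322884675401887479263997641112058096011780097)) (.node (.leaf 47329150986102944557708864965683490519611744257) (.leaf 47329150986102944557708883359969359001922117632)))) (.node (.node (.node (.leaf 47329156090722536223800884199155912316167462912) (.leaf 47329156090722536223800902593444445555035144193)) (.node (.leaf 47329156759905907311382753471528665606235815937) (.leaf 47329156759905907311382771865812699634877997057))) (.node (.node (.leaf 47329847884442331452366578633102835140345921536) (.leaf 47329847884442331452366597021912326428407504897)) (.node (.leaf 47329852988927055671551592060905847204085899265) (.leaf 47329852988927055671551610449718003287548043265)))))) (.node (.node (.node (.node (.node (.leaf 47329853658224363214893850923729667037570605057)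 (.leaf 47329853658224363214893869312537323975219544064)) (.node (.leaf 47373752467496562912643524873930958095574523905) (.leaf 47373752467496562912643544241283134008661655552))) (.node (.node (.leaf 47373757401253464802976868623559764924614975489) (.leaf 47373757401253464802976887990909338733804412929)) (.node (.leaf 47373758080125337805211919241469777135242592256) (.leaf 47373758080125337805211938608823712827322802177)))) (.node (.node (.node (.leaf 47379327653759930322951970184254611260923060224) (.leaf 47379327653759930322951989557371394707672948737)) (.node (.leaf 47379332587558117691861264874785292737390329857) (.leaf 47379332587558117691861284247899474041701015552))) (.node (.node (.leaf 47379333266456215473375229456519406629876293633) (.leaf 47379333266456215473375248829637949862275203073)) (.node (.leaf 47383509043515636532177858894293360763471937537) (.leaf 47383509043515636532177878261069075952068337665))))) (.node (.node (.node (.node (.leaf 47383513977246587336919694206252282808016986112) (.leaf 47383513977246587336919713573025395847832027137)) (.node (.leaf 47383514656186213094608025263459560787688955905)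 (.leaf 47383514656186213094608044630237035716724023296))) (.node (.node (.leaf 68553884878230975820859469900976942038233849857) (.leaf 68553884878230975820859479326686843787708276736)) (.node (.leaf 68553890673041789280935163155351782538610868225) (.leaf 68553890673041789280935172581059005937969471489)))) (.node (.node (.node (.leaf 68553891013563184715967729463366650445315514368) (.leaf 68553891013563184715967738889078808036314841089)) (.node (.leaf 68558763166191058886955417121308511161133694976) (.leaf 68558763166191058886955426550188947104191422465))) (.node (.node (.leaf 68558768961012612338480596243832002208061267969) (.leaf 68558768961012612338480605672709759685026250752)) (.node (.leaf 68558769301668814313762981961889066984107352065) (.leaf 68558769301668814313762991390771758716923486209)))))))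

/-- An element of the line stabiliser, part 12. -/
def kCodePart12 : Janko1.Tree ℕ := (.node (.node (.node (.node (.node (.node (.leaf 68560156962859611252952055073483649870257528833) (.leaf 68560156962859611252952064497752399799249928193)) (.node (.leaf 68560162757535587214373426469026378824221401088) (.leaf 68560162757535587214373435893292450338446581761))) (.node (.node (.leaf 68560163098202011563712551737748511125791703041) (.leaf 68560163098202011563712561162019516780130803712)) (.node (.leaf 68602667588164755858836972679440084136146124800) (.leaf 68602667588164755858836982163372310820129234945)))) (.node (.node (.node (.leaf 68602673544113553890966725463258786274952241153) (.leaf 68602673544113553890966734947193616705444126721)) (.node (.leaf 68602673713875790971415589690788048500760256513) (.leaf 68602673713875790971415599174717882074054934528))) (.node (.node (.leaf 68609636571003021925712262266776334891332296705) (.leaf 68609636571003021925712271743214571771643568128)) (.node (.leaf 68609642526977801407634060634989992308744658944) (.leaf 68609642526977801407634070111430832993748533249)))))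 (.node (.node (.node (.node (.leaf 68609642696796899847068154674518728578334605313) (.leaf 68609642696796899847068164150954572360955617281)) (.node (.leaf 68615211757349476543872298849256887576246099969) (.leaf 68615211757349476543872308333765574978164637697))) (.node (.node (.leaf 68615217713240925369606140238417383424484589569) (.leaf 68615217713240925369606149722928674618122330112)) (.node (.leaf 68615217883086219234292190261750830736617922560) (.leaf 68615217883086219234292199746257125085741588481)))) (.node (.node (.node (.leaf 68732988428349698134339685163226781860728152065) (.leaf 68732988428349698134339713553630747610975502337)) (.node (.leaf 68732993182541479172904904145270634427248222208) (.leaf 68732993182541479172904932535672343524410400769))) (.node (.node (.leaf 68732993533571869711834120865175680706467266561) (.leaf 68732993533571869711834149255581467561422954496)) (.node (.leaf 68736472919662484779896580758897801785243795456) (.leaf 68736472919662484779896609146131233354792771585)))))) (.node (.node (.node (.node (.node (.leaf 68736477674092817874188746725145790606156505089)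 (.leaf 68736477674092817874188775112376965509773721600)) (.node (.leaf 68736478025019555594590977560163881907864674305) (.leaf 68736478025019555594591005947399134724057210881))) (.node (.node (.leaf 68738563614639108435880205872533267567146639361) (.leaf 68738563614639108435880234263513693970954723328)) (.node (.leaf 68738568368965696074116366150317570159485845505) (.leaf 68738568368965696074116394541295740051779690497)))) (.node (.node (.node (.leaf 68738568719757140476438289935203289896664965120) (.leaf 68738568719757140476438318326185537559838523393)) (.node (.leaf 68776892841891003318616511520350268197125120000) (.leaf 68776892841891003318616539817079005265155719169))) (.node (.node (.leaf 68776897604541117406088234298294645110150922241) (.leaf 68776897604541117406088262595025774464135618561)) (.node (.leaf 68776898115312541476394257084575833387148795905) (.leaf 68776898115312541476394285381302811919579766784))))) (.node (.node (.node (.node (.leaf 68792224604241188111518543771817580696443052033) (.leaf 68792224604241188111518572076040307568145489921)) (.node (.leaf 68792229366880440394248168555111944847932678145)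 (.leaf 68792229366880440394248196859337063954036948992))) (.node (.node (.leaf 68792229877595003105561707974475971312731947008) (.leaf 68792229877595003105561736278696939629205020673)) (.node (.leaf 68793618400831683366668835806608975421329506305) (.leaf 68793618400831683366668864097573104961938546688)))) (.node (.node (.node (.leaf 68793623163414043688528206088385782253979983872) (.leaf 68793623163414043688528234379352304061505495041)) (.node (.leaf 68793623674195629047970416372610065575593533441) (.leaf 68793623674195629047970444663572436612802543617))) (.node (.node (.leaf 69981830149830641876682846322213626054315286529) (.leaf 69981830149830641876682874085428288487994433536)) (.node (.leaf 69981834924292855320269049885087068963454779393) (.leaf 69981834924292855320269077648299475981037674497)))))))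

/-- An element of the line stabiliser, part 13. -/
def kCodePart13 : Janko1.Tree ℕ := (.node (.node (.node (.node (.node (.node (.leaf 69981835263692694509904814802198023373064249344) (.leaf 69981835263692694509904842565414520105793159169)) (.node (.leaf 69985314641143327605362903670406177685445287937) (.leaf 69985314641143327605362931430450305938627952641))) (.node (.node (.leaf 69985319415844488552249457094276458400306110464) (.leaf 69985319415844488552249484854318331224305704961)) (.node (.leaf 69985319755140186778841945115350459609904250881) (.leaf 69985319755140186778841972875396422303706456064)))) (.node (.node (.node (.leaf 69987405336119757647526802402205878502790725632) (.leaf 69987405336119757647526830165997001590068944897)) (.node (.leaf 69987410110717265835307491826887457435298045953) (.leaf 69987410110717265835307519590676325248176160768))) (.node (.node (.leaf 69987410449878066191378568564786413081599352833) (.leaf 69987410449878066191378596328579370622344241153)) (.node (.leaf 70025734571679723783380687368579673349674893313) (.leaf 70025734571679723783380716255604220501638012928)))))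 (.node (.node (.node (.node (.leaf 70025739335990895852626515082282471054693654528) (.leaf 70025739335990895852626543969309411729549189121)) (.node (.leaf 70025739847427187252869799461956560389201354753) (.leaf 70025739847427187252869828348979348592945922049))) (.node (.node (.leaf 70041066334029684895375319074895104134581739520) (.leaf 70041066334029684895375347969413641089914634241)) (.node (.leaf 70041071098330695853741071392831878605410795521) (.leaf 70041071098330695853741100287352809032398168065)))) (.node (.node (.node (.leaf 70041071609709395549990028843276472216260206593) (.leaf 70041071609709395549990057737793250204336676864)) (.node (.leaf 70042460130619926818471136046188584985895657473) (.leaf 70042460130619926818471164927448524610424954881))) (.node (.node (.leaf 70042464894864075467113708380953834297047015425) (.leaf 70042464894864075467113737262216167425153564672)) (.node (.leaf 70042465406310498505360612850060362067105415168) (.leaf 70042465406310498505360641731318542775930085377)))))) (.node (.node (.node (.node (.node (.leaf 70114937052429464185879384297240968059596906497)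 (.leaf 70114937052429464185879394405480404522134274049)) (.node (.leaf 70114937552806163356674321814902781595095162881) (.leaf 70114937552806163356674349632016173433780068353))) (.node (.node (.leaf 70114942317782172332250259199410532211505651713) (.leaf 70114942317782172332250287016526315924117127168)) (.node (.leaf 70114942826891838677650851067303673516643188736) (.leaf 70114942826891838677650878884415305170448048129)))) (.node (.node (.node (.leaf 70114942826969905612793928840211463673185771520) (.leaf 70114942826969905612793938948448222197911199745)) (.node (.leaf 70114943177128010878811548227250739245001867265) (.leaf 70114943177128010878811558335492419179331657728))) (.node (.node (.leaf 70115634631655679549863858063716600766213062656) (.leaf 70115634631655679549863886915289159975464804353)) (.node (.leaf 70115639394487250373313393391279044043313520641) (.leaf 70115639394487250373313422242849359793456611328))))) (.node (.node (.node (.node (.leaf 70115639725246813000227100767863545233427079169) (.leaf 70115639725246813000227129619437937504613834753)) (.node (.leaf 70119118262329523575311785738722338261566496769)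 (.leaf 70119118262329523575311794521678289594726105089))) (.node (.node (.leaf 70119119122968173031409992401133210921418825729) (.leaf 70119119122968173031410021249535235950009917440)) (.node (.leaf 70119123886038781262310037096231888502988668929) (.leaf 70119123886038781262310065944631670059749810177)))) (.node (.node (.node (.leaf 70119124216616806201878411036547210232796954625) (.leaf 70119124216616806201878419819505765724983549952)) (.node (.leaf 70119124216694599859281917596028467923367501824) (.leaf 70119124216694599859281946444432326155590369281))) (.node (.node (.leaf 70119124387708018064902377696518100606972485632) (.leaf 70119124387708018064902386479471660066507071489)) (.node (.leaf 70119815340389902154531732016312016720904790017) (.leaf 70119815340389902154531742127721987377012482048)))))))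

/-- An element of the line stabiliser, part 14. -/
def kCodePart14 : Janko1.Tree ℕ := (.node (.node (.node (.node (.node (.node (.leaf 70119821114940535531881357077524256164319199233) (.leaf 70119821114940535531881367188931548766437318657)) (.node (.leaf 70119821465233478712508405078201103423702638592) (.leaf 70119821465233478712508415189613317500075900929))) (.node (.node (.leaf 70121209137058261382077618672237416026759888896) (.leaf 70121209137058261382077628779035700668588564481)) (.node (.leaf 70121209817944897663684324093027710416816447489) (.leaf 70121209817944897663684352945176730279465910273)))) (.node (.node (.node (.leaf 70121214580911366298234148818066946062056366080) (.leaf 70121214580911366298234177670213722607531859969)) (.node (.leaf 70121214911432376928842031096145564192934658049) (.leaf 70121214911432376928842059948296417272301559808))) (.node (.node (.leaf 70121214911463348643675791655146580420388265985) (.leaf 70121214911463348643675801761942187059993247744)) (.node (.leaf 70121215261767030865007121797882339328746790913) (.leaf 70121215261767030865007131904682867326630043649)))))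 (.node (.node (.node (.node (.leaf 70126087245167809231352674829555288278739075072) (.leaf 70126087245167809231352683605017249808428195841)) (.node (.leaf 70126093199480800505333514916177008783521898497) (.leaf 70126093199480800505333523691641574530131959809))) (.node (.node (.leaf 70126093370629360564601574468853488905627901953) (.leaf 70126093370629360564601583244313058574375993344)) (.node (.leaf 70130269315155871314885097669732745866951917569) (.leaf 70130269315155871314885125494340127509295685632)))) (.node (.node (.node (.leaf 70130274080121749424931999478885349584864829440) (.leaf 70130274080121749424932027303495123049306546177)) (.node (.leaf 70130274589174523036987752331183642034110095361) (.leaf 70130274589174523036987780155789263472259366913))) (.node (.node (.leaf 70131662431514010636307733674852121255633641473) (.leaf 70131662431514010636307742458384533306841505792)) (.node (.leaf 70131663111746589300204840078503971183722127360) (.leaf 70131663111746589300204867889852755495274807297)))))) (.node (.node (.node (.node (.node (.leaf 70131667876654875884513527060604150988402720769)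 (.leaf 70131667876654875884513554871955327154252701697)) (.node (.leaf 70131668385744158091352226308209108120342896640) (.leaf 70131668385744158091352235091744124375473995777))) (.node (.node (.leaf 70131668385775403083925520306892941707597340673) (.leaf 70131668385775403083925548118239965866193215488)) (.node (.leaf 70131668556918699540983956004664602550849388545) (.leaf 70131668556918699540983964788194622786301485057)))) (.node (.node (.node (.leaf 70159538542494400657992428070812054267344584704) (.leaf 70159538542494400657992436869332653112794750977)) (.node (.leaf 70159544327668473863468662768656851181959716865) (.leaf 70159544327668473863468671567174784458890018816))) (.node (.node (.leaf 70159544657555689894872986771778283437019045889) (.leaf 70159544657555689894872995570301138536096669697)) (.node (.leaf 70164416830454646438924721109887726872862728193) (.leaf 70164416830454646438924729911578859911669481473))))) (.node (.node (.node (.node (.leaf 70164422615638941483667598387113312556580806656) (.leaf 70164422615638941483667607188801779911129899009)) (.node (.leaf 70164422945661512215178390921580354788021895169)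 (.leaf 70164422945661512215178399723273744029130629120))) (.node (.node (.leaf 70165810627122843367582115146956795062205489153) (.leaf 70165810627122843367582123944036242086959325184)) (.node (.leaf 70165816412162109082063326708669656209903714305) (.leaf 70165816412162109082063335505746437601927307265)))) (.node (.node (.node (.leaf 70165816742194872179964306516183902412324544512) (.leaf 70165816742194872179964315313265605574729531393)) (.node (.leaf 70208321243456044317862750571546149029327036417) (.leaf 70208321243456044317862760645774186209446207488))) (.node (.node (.leaf 70208327198075380789586913282833048285822853120) (.leaf 70208327198075380789586923357063688387930767361)) (.node (.leaf 70208327367505290212341337244431872163626237953) (.leaf 70208327367505290212341347318657516645285781505)))))))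

/-- An element of the line stabiliser, part 15. -/
def kCodePart15 : Janko1.Tree ℕ := (.node (.node (.node (.node (.node (.node (.leaf 70215290226294076820112530255975944758589661185) (.leaf 70215290226294076820112540322709992135150682113)) (.node (.leaf 70215296180939607647508455008498997544785952769) (.leaf 70215296180939607647508465075235647901204111360))) (.node (.node (.leaf 70215296350426653311365205577134264041953452032) (.leaf 70215296350426653311365215643865918733027385345)) (.node (.leaf 70220865412640510779534026947308928443722383360) (.leaf 70220865412640510779534037022113426341688926209)))) (.node (.node (.node (.leaf 70220871367202985832844584405980412686230511617) (.leaf 70220871367202985832844594480787513551370592257)) (.node (.leaf 70220871536715739133963731261459911174313222145) (.leaf 70220871536715739133963741336262016432003497984))) (.node (.node (.leaf 91435146189659817682041310660634700149300486145) (.leaf 91435146189659817682041348402961371320857665536)) (.node (.leaf 91435151806021884221630786804728530869571108865) (.leaf 91435151806021884221630824547052747196844826625)))))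 (.node (.node (.node (.node (.leaf 91435151965565752251180088697246167539048783872) (.leaf 91435151965565752251180126439575095597900840961)) (.node (.leaf 91438630681138494789569346567500288328319713281) (.leaf 91438630681138494789569384381019721620384841728))) (.node (.node (.leaf 91438631523126616496412817389951489157873467392) (.leaf 91438631523126616496412855203471420294609125377)) (.node (.leaf 91438631703989883105847817297005356377096470529) (.leaf 91438631703989883105847855110524516234397040641)))) (.node (.node (.node (.leaf 91444902765647758040520935795344375068221390848) (.leaf 91444902765647758040520973616069567804914876417)) (.node (.leaf 91444902765725814636386652193974433045503025153) (.leaf 91444902765725814636386689931689418151480606721))) (.node (.node (.leaf 91444903607801901450786760771543735633715478529) (.leaf 91444903607801901450786798592269426202182352897)) (.node (.leaf 91444903788566595113797955435161821032636153857) (.leaf 91444903788566595113797993255886740224955531264)))))) (.node (.node (.node (.node (.node (.leaf 91444908382082648472759546938906019031593082880)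 (.leaf 91444908382082648472759584676618549389722394625)) (.node (.leaf 91444908541512062488579252660826488583756005377) (.leaf 91444908541512062488579290398543730622049902592))) (.node (.node (.leaf 91445599664049452339024751326861704803121184768) (.leaf 91445599664049452339024789072935370866907242497)) (.node (.leaf 91445605280292319533709756398268830357431263233) (.leaf 91445605280292319533709794144340041621905162240)))) (.node (.node (.node (.leaf 91445605439841115970910463029194099357363822593) (.leaf 91445605439841115970910500775270022256703578113)) (.node (.leaf 91450477952035669606805226971462430087245398017) (.leaf 91450477952035669606805264784693633071857156097))) (.node (.node (.leaf 91450478794091210478928547626495917643696062465) (.leaf 91450478794091210478928585439727618363532328960)) (.node (.leaf 91450478974788272486728029200578290430857265152) (.leaf 91450478974788272486728067013809219884055461889))))) (.node (.node (.node (.node (.leaf 91568950651878651621918154557851754903942209537) (.leaf 91568950651878651621918192429305639676816736257)) (.node (.leaf 91568956275551695403291468903098326664563744768)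 (.leaf 91568956275551695403291506774549743398889201665))) (.node (.node (.leaf 91568956447390658346190205353865826390878797825) (.leaf 91568956447390658346190243225321965989262352384)) (.node (.leaf 91578707227944607793571677576902170040204345344) (.leaf 91578707227944607793571715443744368747297726465)))) (.node (.node (.node (.leaf 91578712851612236389455845988733246961367392257) (.leaf 91578712851612236389455883855572977726674518016)) (.node (.leaf 91578713023337232631245570880278033060744749057) (.leaf 91578713023337232631245608747122486638645616641))) (.node (.node (.leaf 91579404126268509543865978272621327422981234689) (.leaf 91579404126268509543866016147822207087958564864)) (.node (.leaf 91579409749821866667706983378889052752216932353) (.leaf 91579409749821866667707021254087464423667097601)))))))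

/-- An element of the line stabiliser, part 16. -/
def kCodePart16 : Janko1.Tree ℕ := (.node (.node (.node (.node (.node (.node (.leaf 91579409921666062848619651755020763744182476800) (.leaf 91579409921666062848619689630223898183255277569)) (.node (.leaf 91658153643306760141972465248854810194960531456) (.leaf 91658153643306760141972502972734745401798778881))) (.node (.node (.leaf 91658159247373427532068452059642418649825812481) (.leaf 91658159247373427532068489783519887879624015872)) (.node (.leaf 91658159426523185175057340291611156116056137729) (.leaf 91658159426523185175057378015493335015973986305)))) (.node (.node (.node (.leaf 91667910219372493583451702190646936222426030081) (.leaf 91667910219372493583451739909915185363608936448)) (.node (.leaf 91667915823434231971677811851126692620208783361) (.leaf 91667915823434231971677849570392475881063931905))) (.node (.node (.leaf 91667916002469718736842009189432298221139402752) (.leaf 91667916002469718736842046908702791100373483521)) (.node (.leaf 91668607117696354610468052702857341265371996161) (.leaf 91668607117696354610468090430484271364237770753)))))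 (.node (.node (.node (.node (.leaf 91668612721643639519761916718941897077309923328) (.leaf 91668612721643639519761954446566361244433915905)) (.node (.leaf 91668612900798812407661072770024382578156453889) (.leaf 91668612900798812407661110497653556318637744128))) (.node (.node (.leaf 92821276885441306525297791498896671287174905856) (.leaf 92821276885441306525297828666780069970843877377)) (.node (.leaf 92821277734075487121039090484678156390206881793) (.leaf 92821277734075487121039127652562039724482691073)))) (.node (.node (.node (.leaf 92821277895664896649818742980275365868277530625) (.leaf 92821277895664896649818780148158480396931186688)) (.node (.leaf 92827548969950437544443726567922085143907598337) (.leaf 92827548969950437544443763743011243272192540673))) (.node (.node (.leaf 92827549818750853165442202919098388375002038273) (.leaf 92827549818750853165442240094188031140933222400)) (.node (.leaf 92827549980241659799545366224422517898033053696) (.leaf 92827549980241659799545403399511391761793744897)))))) (.node (.node (.node (.node (.node (.leaf 92833124156338400252511756404948515312195682305)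 (.leaf 92833124156338400252511793572543683688487124992)) (.node (.leaf 92833125005040029961778335615231897501813637120) (.leaf 92833125005040029961778372782827550419101827073))) (.node (.node (.leaf 92833125166463418262497355487749285030159073281) (.leaf 92833125166463418262497392655344169154722742273)) (.node (.leaf 92910479855601594633078818302614634582549659649) (.leaf 92910479855601594633078856651089651234905407489)))) (.node (.node (.node (.leaf 92910480716863390878898457226406365403130511361) (.leaf 92910480716863390878898495574881877426243190784)) (.node (.leaf 92910480885099072261876776227873310600805302272) (.leaf 92910480885099072261876814576348040624169222145))) (.node (.node (.leaf 92916751940110807217622897510054059509498855425) (.leaf 92916751940110807217622935865734835606395224064)) (.node (.leaf 92916752801538807233182348367041740029930176512) (.leaf 92916752801538807233182386722723011484786507777))))) (.node (.node (.node (.node (.leaf 92916752969675703536324476627391308918339813377) (.leaf 92916752969675703536324514983071798276797841409)) (.node (.leaf 92922327126498638050412004502451335965565927424)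 (.leaf 92922327126498638050412042850638122310455869441))) (.node (.node (.leaf 92922327987828065594909371646671572451910041601) (.leaf 92922327987828065594909409994858854058048028673)) (.node (.leaf 92922328155897512309164498151850906467518578689) (.leaf 92922328155897512309164536500037406086867861504)))) (.node (.node (.node (.leaf 114230689343130114327443641682265235620282580992) (.leaf 114230689343130114327443688926394275580839329793)) (.node (.leaf 114230689843511772408734714160887446812657582081) (.leaf 114230689843511772408734761405016984611543269377))) (.node (.node (.leaf 114230690195170360453519628323056194567192920065) (.leaf 114230690195170360453519675567185173017421496320)) (.node (.leaf 114236264529434949104379712210257402407245971457) (.leaf 114236264529434949104379759448045374154821812224)))))))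

/-- An element of the line stabiliser, part 17. -/
def kCodePart17 : Janko1.Tree ℕ := (.node (.node (.node (.node (.node (.node (.leaf 114236265029883995927336229043956264399299362816) (.leaf 114236265029883995927336276281744733888453885953)) (.node (.leaf 114236265381392200125338194706752534363903180801) (.leaf 114236265381392200125338241944540444510830854145))) (.node (.node (.leaf 114241142817369141932105708391283288574924111873) (.leaf 114241142817369141932105755635700558946038267905)) (.node (.leaf 114241143317901458266920597523811232796714811393) (.leaf 114241143317901458266920644768229000999589773312)))) (.node (.node (.node (.leaf 114241143669477080679464462848017738359220862976) (.leaf 114241143669477080679464510092434947123357892609)) (.node (.leaf 114314317307760605469037490969239533977826508801) (.leaf 114314317307760605469037519248386636299446190081))) (.node (.node (.leaf 114314317478581949354748716237265964202276896768) (.leaf 114314317478581949354748744516412581976368758785)) (.node (.leaf 114314317978953161876254082185862640225157840897) (.leaf 114314317978953161876254110465009606248129314816)))))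 (.node (.node (.node (.node (.leaf 114330345968387544639991102409293329726540283904) (.leaf 114330345968387544639991130681234672706635644929)) (.node (.leaf 114330346139110346953623624527643977392525950977) (.leaf 114330346139110346953623652799584835741405085696))) (.node (.node (.leaf 114330346639632156762574498848820920444147417089) (.leaf 114330346639632156762574527120762127022477557761)) (.node (.leaf 114331042866591973114006621109145249679478571009) (.leaf 114331042866591973114006649394633420317183197184)))) (.node (.node (.node (.leaf 114331043037465219289747942727186414476307136513) (.leaf 114331043037465219289747971012674100463505981441)) (.node (.leaf 114331043537935218198354180902262037108395884544) (.leaf 114331043537935218198354209187750071428188405761))) (.node (.node (.leaf 115607760519970754741771188216978246665869918208) (.leaf 115607760519970754741771217141761395965315727361)) (.node (.leaf 115607760699432060832655401498287968332577521665) (.leaf 115607760699432060832655430423070620715090903040)))))) (.node (.node (.node (.node (.node (.leaf 115607761210437229552240912885655307232737443841)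 (.leaf 115607761210437229552240941810438319408964190209)) (.node (.leaf 115623789180597806377099070803620027191817093121) (.leaf 115623789180597806377099099721197417149801447424))) (.node (.node (.leaf 115623789359960478198954439245978981853739286529) (.leaf 115623789359960478198954468163555874810938736641)) (.node (.leaf 115623789871116092206762928944712602343580909568) (.leaf 115623789871116092206762957862289855075204661249)))) (.node (.node (.node (.leaf 115624486078802102619308935344653274261561032705) (.leaf 115624486078802102619308964275777491877192990721)) (.node (.leaf 115624486258315462999460282147027091489802108928) (.leaf 115624486258315462999460311078150812085384134657))) (.node (.node (.leaf 115624486769419173409966740455466719338742087681) (.leaf 115624486769419173409966769386590799811727015936)) (.node (.leaf 115702538527562373393701892668145712672117309441) (.leaf 115702538527562373393701939266638718849012285441))))) (.node (.node (.node (.node (.leaf 115702539036583902409329990282451996143926722561) (.leaf 115702539036583902409330036880945486140264284160)) (.node (.leaf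 115702539366975034768690173488935775983401828352) (.leaf 115702539366975034768690220087428708280337383425))) (.node (.node (.leaf 115708113713867097132370617306307971365663227904) (.leaf 115708113713867097132370663898459909329464197121)) (.node (.leaf 115708114222956318175063010324657525948231581697) (.leaf 115708114222956318175063056916809947634825641985)))) (.node (.node (.node (.leaf 115708114553196793231644580603325311655866482689) (.leaf 115708114553196793231644627195477175649626570752)) (.node (.leaf 115712992001801482207235372201388257526052683777) (.leaf 115712992001801482207235418800169494113379631104))) (.node (.node (.leaf 115712992510973699305783219535205690221401423872) (.leaf 115712992510973699305783266133987410621841358849)) (.node (.leaf 115712992841281562747496249299842919782718455809) (.leaf 115712992841281562747496295898624082393574801409)))))))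

/-- An element of the line stabiliser, part 18. -/
def kCodePart18 : Janko1.Tree ℕ := (.node (.node (.node (.node (.node (.node (.leaf 115741565001131098178738156807626060972645629953) (.leaf 115741565001131098178738184607157825349267505152)) (.node (.leaf 115741565161318729255277226902009227911721320449) (.leaf 115741565161318729255277254701540496196006789121))) (.node (.node (.leaf 115741565680963768909199763425060638266656571392) (.leaf 115741565680963768909199791224592253975087218689)) (.node (.leaf 115747140006660895144925334379709958131604914177) (.leaf 115747140006660895144925382214134813673593716736)))) (.node (.node (.node (.leaf 115747140528310282724170787111567860526945091584) (.leaf 115747140528310282724170834945993212257869316097)) (.node (.leaf 115747140867341316441475147376323660791557472257) (.leaf 115747140867341316441475195210748440804432412673))) (.node (.node (.leaf 115752715192965811487252295491198448213761933313) (.leaf 115752715192965811487252343319282235542643752961)) (.node (.leaf 115752715714682617875250866741449118158583578625) (.leaf 115752715714682617875250914569533401579890278400)))))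 (.node (.node (.node (.node (.leaf 115752716053562962915424258429711237248077398016) (.leaf 115752716053562962915424306257794948957663870977)) (.node (.leaf 115757593480900115947464109973954462201485017088) (.leaf 115757593480900115947464157808667548154018791425))) (.node (.node (.leaf 115757593661758169700332412622977348219820851201) (.leaf 115757593661758169700332440415303353254881198081)) (.node (.leaf 115757593821847015697042545531160826618212204544) (.leaf 115757593821847015697042573323486335477221441537)))) (.node (.node (.node (.leaf 115757594002699887016958526336077635440760455169) (.leaf 115757594002699887016958574170791217575800029185)) (.node (.leaf 115757594341642742601989125373947841470942871553) (.leaf 115757594341642742601989153166273697734832898048))) (.node (.node (.leaf 115757594341647925034941417154472764538588708865) (.leaf 115757594341647925034941464989185774865258463232)) (.node (.leaf 115758290559962576980816876608758191158055862272) (.leaf 115758290559962576980816904414631023850826186753)))))) (.node (.node (.node (.node (.node (.leaf 115758290720202020383814761660918442975503073281)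 (.leaf 115758290720202020383814789466790779472794812416)) (.node (.leaf 115758291239945692880651964211244855876384931841) (.leaf 115758291239945692880651992017117539881673834497))) (.node (.node (.leaf 137061774138034397701193836593175826425639419905) (.leaf 137061774138034397701193893243703473724765315073)) (.node (.leaf 137061779413828440160097464279413971318678249472) (.leaf 137061779413828440160097520929939164230834012161)))) (.node (.node (.node (.leaf 137061779743103218890387548405549388517676752897) (.leaf 137061779743103218890387605056079081649404403712)) (.node (.leaf 137072227612434417268809414827968157723079548928) (.leaf 137072227612434417268809471473019427873267671041))) (.node (.node (.leaf 137072232888098854872851762317198953240894455809) (.leaf 137072232888098854872851818962247769061993816064)) (.node (.leaf 137072233217368218298810456738522369313298472961) (.leaf 137072233217368218298810513383575685244372729857))))) (.node (.node (.node (.node (.leaf 137073621408967705908442026949184257673800998913) (.leaf 137073621408967705908442083603458899916594692096)) (.node (.leaf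 137073626684626971656489350439346392627018801153) (.leaf 137073626684626971656489407093618580431378079745))) (.node (.node (.leaf 137073627014031537367379294427635202360497750016) (.leaf 137073627014031537367379351081911890326270844929)) (.node (.leaf 137151674187220811816651402109755544299213185024) (.leaf 137151674187220811816651421055426183762584600577)))) (.node (.node (.node (.leaf 137151679112135171448320407852945701789981802497) (.leaf 137151679112135171448320426798618808879761416193)) (.node (.leaf 137151679632854803210325043409810187938663849985) (.leaf 137151679632854803210325062355479005870006755328))) (.node (.node (.leaf 137160733865077157834002230654766449002312433665) (.leaf 137160733865077157834002249594960711265307156480)) (.node (.leaf 137160738789747216099489198050698488336145801216) (.leaf 137160738789747216099489216990895218231714275329)))))))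

/-- An element of the line stabiliser, part 19. -/
def kCodePart19 : Janko1.Tree ℕ := (.node (.node (.node (.node (.node (.node (.leaf 137160739310597121738759171326285360265351421953) (.leaf 137160739310597121738759190266477801150634590209)) (.node (.leaf 137162824559944469086897825922517459579223236609) (.leaf 137162824559944469086897844871070402851465355265))) (.node (.node (.leaf 137162829484729224339081780109203981134259576833) (.leaf 137162829484729224339081799057759391884431654912)) (.node (.leaf 137162830005334888984029550906957981186718236672) (.leaf 137162830005334888984029569855509102933349326849)))) (.node (.node (.node (.leaf 137196275678614814282759224420651865771599814657) (.leaf 137196275678614814282759243237195304828095455233)) (.node (.leaf 137196280611836585434641389515280697646915805185) (.leaf 137196280611836585434641408331826591547720269824))) (.node (.node (.leaf 137196281112950570496745453912235457441765064704) (.leaf 137196281112950570496745472728777063421058310145)) (.node (.leaf 137205335356470896846665070259813416801220452352) (.leaf 137205335356470896846665089070880478657062699009)))))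 (.node (.node (.node (.node (.leaf 137205340289449096323734699826815679284058849281) (.leaf 137205340289449096323734718637885195990627082241)) (.node (.leaf 137205340790692686240700044420777788350952202241) (.leaf 137205340790692686240700063231843017284487503872))) (.node (.node (.leaf 137207426051338674337492439196264310244158537729) (.leaf 137207426051338674337492458015690053109223088128)) (.node (.leaf 137207430984430901778847744477388330664672190464) (.leaf 137207430984430901778847763296816528226145820673)))) (.node (.node (.node (.leaf 137207431485430190032518187740683367823792168961) (.leaf 137207431485430190032518206560107277618398691329)) (.node (.leaf 137284781580382659124953030276578096277971083264) (.leaf 137284781580382659124953087056232957178313465857))) (.node (.node (.leaf 137284786864484599406524076313841377365316419585) (.leaf 137284786864484599406524133093493770272307748864)) (.node (.leaf 137284787206054716914447813903857770137114402817) (.leaf 137284787206054716914447870683514675220690583553)))))) (.node (.node (.node (.node (.node (.leaf 137295235054782881358205902147906762602495107073)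 (.leaf 137295235054782881358205958922085246353799200768)) (.node (.leaf 137295240338754791270261844502971563788520726529) (.leaf 137295240338754791270261901277147579604380180481))) (.node (.node (.leaf 137295240680319736506249958448949211404664127488) (.leaf 137295240680319736506250015223129739287762903041)) (.node (.leaf 137296628851316190181210496926323635250096324609) (.leaf 137296628851316190181210553709725491094181978113)))) (.node (.node (.node (.leaf 137296634135283110719543979816573025976777203712) (.leaf 137296634135283110719544036599972413775796060161)) (.node (.leaf 137296634476982832725802266289407248952851505153) (.leaf 137296634476982832725802323072811148870573645824))) (.node (.node (.leaf 137329383081745932446293031734929129021674381313) (.leaf 137329383081745932446293088311669808547269525504)) (.node (.leaf 137329388345244818669242185267402426092227731457) (.leaf 137329388345244818669242241844140639273562955777))))) (.node (.node (.node (.node (.leaf 137329388695122408069238918078282739941178949632) (.leaf 137329388695122408069238974655025451692743270401)) (.node (.leaf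 137330080139504237566327311530259998676411809793) (.leaf 137330080139504237566327330439037154665397575680))) (.node (.node (.leaf 137330085084024913217413808938483872780330819584) (.leaf 137330085084024913217413827847263495158472138753)) (.node (.leaf 137330085593446370646952590086970891026131083265) (.leaf 137330085593446370646952608995746212701240623105)))) (.node (.node (.node (.leaf 137339139817360786665263286911695010772801380353) (.leaf 137339139817360786665263305814995789561108389889)) (.node (.leaf 137339144761637221500290947499180772585447120897) (.leaf 137339144761637221500290966402484017769654321152))) (.node (.node (.leaf 137339145271188222462093222804077842700576030720) (.leaf 137339145271188222462093241707376787329650876417)) (.node (.leaf 137339836556145931474002642443413480676238901249) (.leaf 137339836556145931474002699014677783052720087041)))))))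

/-- An element of the line stabiliser, part 20. -/
def kCodePart20 : Janko1.Tree ℕ := (.node (.node (.node (.node (.node (.node (.leaf 137339841819515030656938067782952819792201932800) (.leaf 137339841819515030656938124354214655882581590017)) (.node (.leaf 137339842169387630742626209459798288601918283777) (.leaf 137339842169387630742626266031064623152904560640))) (.node (.node (.leaf 137341230352679443378599637613172148492077965312) (.leaf 137341230352679443378599694193659822961240072193)) (.node (.leaf 137341230512228361549874484097307822383712722944) (.leaf 137341230512228361549874503008967282181544148993)))) (.node (.node (.node (.leaf 137341235456618763026582780803400356956270034945) (.leaf 137341235456618763026582799715062282995105882113)) (.node (.leaf 137341235616043126900676941933709967310498906113) (.leaf 137341235616043126900676998514195175383962296320))) (.node (.node (.leaf 137341235965926192788948749221174571015233167361) (.leaf 137341235965926192788948768132832196505353871360)) (.node (.leaf 137341235966050747086129378071758845651827318785) (.leaf 137341235966050747086129434652248552237613268993)))))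 (.node (.node (.node (.node (.leaf 183401593940960170503283100898039254603255549953) (.leaf 183401593940960170503283176751160664228583445505)) (.node (.leaf 183401600781146671440356789363465007409399859201) (.leaf 183401600781146671440356864626221342949080862721))) (.node (.node (.leaf 183401600781165454137599201561906071966703453184) (.leaf 183401600781165454137599277415021268268214161409)) (.node (.leaf 183401604872510441193728358892241881222014309377) (.leaf 183401604872510441193728434745364427749375116288)))) (.node (.node (.node (.leaf 183401614416368704635867496795868704674404669440) (.leaf 183401614416368704635867572058610428803008169985)) (.node (.leaf 183401625262869843561479421861000951162124931073) (.leaf 183401625262869843561479497123758440089809098752))) (.node (.node (.leaf 183401681053244157694939055505496458484201296896) (.leaf 183401681053244157694939131358365666546801476609)) (.node (.leaf 183401687893432599385275108026164775151860748289) (.leaf 183401687893432599385275183879027769864826655744)))))) (.node (.node (.node (.node (.node (.leaf 183401691984817104035136437692548740927068341249)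 (.leaf 183401691984817104035136513545419085868303421441)) (.node (.leaf 183401942390083092793296517344321805908681196545) (.leaf 183401942390083092793296593197371157946967298048))) (.node (.node (.leaf 183401949230311166396175610048765144930718848001) (.leaf 183401949230311166396175685901808283621830722561)) (.node (.leaf 183401953321672987768098293445786200953461968896) (.leaf 183401953321672987768098369298836689896149619713)))) (.node (.node (.node (.leaf 183404214149725920965190956582255692779524493312) (.leaf 183404214149725920965191031843859106813562099713)) (.node (.leaf 183404227784947352120747580739743350743434790913) (.leaf 183404227784947352120747656001332153368755867648))) (.node (.node (.leaf 183404238631445804973963366849398934053619013633) (.leaf 183404238631445804973963442111003501476408461313)) (.node (.leaf 183404301262012457478953834741868675224381724673) (.leaf 183404301262012457478953910005669845877898872832))))) (.node (.node (.node (.node (.leaf 183404314897231335412887575893749251085114576897) (.leaf 183404314897231335412887651157535810328361211905)) (.node (.leaf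 183404325743733080448800433404127880742304745472) (.leaf 183404325743733080448800508667930204782159499265))) (.node (.node (.leaf 185899284224772863566669093068016137435750109184) (.leaf 185899284224772863566669169954085978949680142337)) (.node (.leaf 185899297854678074876313778347141811847316375553) (.leaf 185899297854678074876313855233196989173612449792)))) (.node (.node (.node (.leaf 185899308767640570570276833960289843507609245697) (.leaf 185899308767640570570276910846360808722673436673)) (.node (.leaf 185899364576627276038861181264162929521523168256) (.leaf 185899364576627276038861257855189008305928800257))) (.node (.node (.leaf 185899383589883801646604695336651415479426489345) (.leaf 185899383589883801646604771927668491456735089664)) (.node (.leaf 185899384966981528021449716864077037996491671553) (.leaf 185899384966981528021449793455110410925179935745)))))))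

/-- An element of the line stabiliser, part 21. -/
def kCodePart21 : Janko1.Tree ℕ := (.node (.node (.node (.node (.node (.node (.leaf 185901897593352160167884656379608687411439114241) (.leaf 185901897593352160167884733264525607419670693888)) (.node (.leaf 185901911223256632263915385249400821499755532289) (.leaf 185901911223256632263915462134303077322767505409))) (.node (.node (.leaf 185901922136216575003657859897501598210129922048) (.leaf 185901922136216575003657936782419641920356126721)) (.node (.leaf 185901977945184501486344488045206727003003684865) (.leaf 185901977945184501486344564634863711494764764160)))) (.node (.node (.node (.leaf 185901984705638739702537361933117753892274702337) (.leaf 185901984705638739702537438820232430520042557441)) (.node (.leaf 185901996958479235368158223878441819676569768961) (.leaf 185901996958479235368158300468089801357208848385))) (.node (.node (.leaf 185901998335540662632444030051126274222047926272) (.leaf 185901998335540662632444106938226286662930401281)) (.node (.leaf 185901998335562727274611077692630409821687389184) (.leaf 185901998335562727274611154282294688479527834625)))))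 (.node (.node (.node (.node (.leaf 185902009248503760381216449410614908482224689153) (.leaf 185902009248503760381216526297730708809514522624)) (.node (.leaf 185902326394345753789449171723703939050401963009) (.leaf 185902326394345753789449248315666766541479744513))) (.node (.node (.leaf 185902345407626249422201859866150639810148567040) (.leaf 185902345407626249422201936458104464515820690433)) (.node (.leaf 185902346784685642040422517509543470736721581057) (.leaf 185902346784685642040422594101513592397853362176)))) (.node (.node (.node (.leaf 186612908113661183824266475678115282441799768065) (.leaf 186612908113661183824266550203001880321903298560)) (.node (.leaf 186612921682421864054370599692273711249348399105) (.leaf 186612921682421864054370674217145674628575303681))) (.node (.node (.leaf 186612932590067400956210062058286046187306354688) (.leaf 186612932590067400956210136583173744678798397441)) (.node (.leaf 186615521482240390343058842419516759299687188481) (.leaf 186615521482240390343058916943250435674090803201)))))) (.node (.node (.node (.node (.node (.leaf 186615535051000464715409055557564068792235497472)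 (.leaf 186615535051000464715409130081283110668234917889)) (.node (.leaf 186615545958643452198577435602657526117180674049) (.leaf 186615545958643452198577510126392303103779575808))) (.node (.node (.leaf 186615608594527016686705149135103238782924656640) (.leaf 186615608594527016686705223661034671776809392129)) (.node (.leaf 186615622163284405001514503789098448396726306817) (.leaf 186615622163284405001514578315015246890594766848)))) (.node (.node (.node (.leaf 186615633070930680849565620523884496504675145729) (.leaf 186615633070930680849565695049817030108394293249)) (.node (.leaf 188753859919503941755948435590234985973987941377) (.leaf 188753859919503941755948508934634112183540651009))) (.node (.node (.leaf 188753878991246414265447491259326400359910344704) (.leaf 188753878991246414265447564603716490777018768385)) (.node (.leaf 188753880378978008971869385531079971865044194305) (.leaf 188753880378978008971869458875486412010142304256))))) (.node (.node (.node (.node (.leaf 188756473288061126655946113469572488667884688384) (.leaf 188756473288061126655946186812602520584846313473)) (.node (.leaf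 188756492359841932899786612315559849696115039233) (.leaf 188756492359841932899786685658580845816552363008))) (.node (.node (.leaf 188756493747559163859730782746896593338762266625) (.leaf 188756493747559163859730856089933939212960668673)) (.node (.leaf 188756821737222334593758087090250638138853558273) (.leaf 188756821737222334593758160435586513055079996416)))) (.node (.node (.node (.leaf 188756840808988906406337365846644687267061830657) (.leaf 188756840808988906406337439191971526412585666561)) (.node (.leaf 188756842196682163538327815078252699392857873408) (.leaf 188756842196682163538327888423595888270346032129))) (.node (.node (.leaf 191251456285402880205490462828775106755926459393) (.leaf 191251456285402880205490534844973728158977134592)) (.node (.leaf 191251463099023637029095940900926614858744468481) (.leaf 191251463099023637029096012917119075714488894465)))))))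

/-- An element of the line stabiliser, part 22. -/
def kCodePart22 : Janko1.Tree ℕ := (.node (.node (.node (.node (.node (.node (.leaf 191251467139857886637485977003845871465676181504) (.leaf 191251467139857886637486049020045639666320282625)) (.node (.leaf 191251543397686826894219376393882017970657464321) (.leaf 191251543397686826894219448409828437810936288257))) (.node (.node (.leaf 191251543397690108772300082613588921740421498881) (.leaf 191251543397690108772300159352188928925264518144)) (.node (.leaf 191251550211290749171781734647185235949854426112) (.leaf 191251550211290749171781806663125495217101246465)))) (.node (.node (.node (.leaf 191251554252164623086811209564503105930992292865) (.leaf 191251554252164623086811281580450672545507607552)) (.node (.leaf 191251562480066445810416956787402392849308193793) (.leaf 191251562480066445810417033525993417018211567617))) (.node (.node (.leaf 191251563798678099786104267678432026539783625728) (.leaf 191251563798678099786104344417039380645468967937)) (.node (.leaf 191251804734525835600493991993057740155399443456) (.leaf 191251804734525835600494064009184303971361129473)))))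 (.node (.node (.node (.node (.leaf 191251811548169275679762449182353000837546020865) (.leaf 191251811548169275679762521198473404082894672896)) (.node (.leaf 191251815589020473714775699044822796088290345985) (.leaf 191251815589020473714775771060950506704305426433))) (.node (.node (.leaf 191254156766247249284714876173052829134656379905) (.leaf 191254156766247249284714952910283742026856403969)) (.node (.leaf 191254175848661923882415168470504984099139618816) (.leaf 191254175848661923882415245207726913971425385473)))) (.node (.node (.node (.leaf 191254177167259339623889458587253101399536833537) (.leaf 191254177167259339623889535324491361234320885760)) (.node (.leaf 191254505215408542172450643486735431991660385280) (.leaf 191254505215408542172450720226272187883123640321))) (.node (.node (.leaf 191254524297808853001390291236633914145472781313) (.leaf 191254524297808853001390367976161687042793149440)) (.node (.leaf 191254525616382298740138327990560661592210933761) (.leaf 191254525616382298740138404730104764430338235393)))))) (.node (.node (.node (.node (.node (.leaf 191965080139731190167963373097959349084044137472)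 (.leaf 191965080139731190167963451902559821498033406977)) (.node (.leaf 191965086902841323632383750483340439241727447041) (.leaf 191965086902841323632383829287934708227500938240))) (.node (.node (.leaf 191965091020770829893312675481097461002447913985) (.leaf 191965091020770829893312754285699027437469339649)) (.node (.leaf 191965167252015210234352593116335903927800202241) (.leaf 191965167252015210234352671920684174779014483968)))) (.node (.node (.node (.leaf 191965174015108395294425423894385612614806803457) (.leaf 191965174015108395294425502698727680012038734849)) (.node (.leaf 191965178133077533445621721923698499556769566720) (.leaf 191965178133077533445621800728047864405709296641))) (.node (.node (.leaf 191965428588854186043603769042537742426499485697) (.leaf 191965428588854186043603847847066157253443720193)) (.node (.leaf 191965435351986995180066444882823021131523458048) (.leaf 191965435351986995180066523687345232506854084609))))) (.node (.node (.node (.node (.leaf 191965439469933343592949344623722429771085255681) (.leaf 191965439469933343592949423428251938621480797184)) (.node (.leaf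 366446032983319432881381870009408775091147282433) (.leaf 366446032983319432881382020977630972917758564352))) (.node (.node (.leaf 366446043893623429503464144597157134689454528512) (.leaf 366446043893623429503464295565390562924866076673)) (.node (.leaf 366446052015202626209293053171450464078603517953) (.leaf 366446052015202626209293204139671508515605747713)))) (.node (.node (.node (.leaf 366446282032793597025041481423370513559563308033) (.leaf 366446282032793597025041632981928475797321973760)) (.node (.leaf 366446313352081803017080454421797513066911894529) (.leaf 366446313352081803017080605980341389452614601729))) (.node (.node (.leaf 366446314721187935489537895078734507587760324608) (.leaf 366446314721187935489538046637304856930497858561)) (.node (.leaf 366448721176817854359575802539072029951231295489) (.leaf 366448721176817854359575954096405013081756273665)))))))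

/-- An element of the line stabiliser, part 23. -/
def kCodePart23 : Janko1.Tree ℕ := (.node (.node (.node (.node (.node (.node (.leaf 366448733464180030445874386171312664288365647873) (.leaf 366448733464180030445874537138273854217421094913)) (.node (.leaf 366448744374486701716642117189048510293486370817) (.leaf 366448744374486701716642268156020930636167550976))) (.node (.node (.leaf 366448752496070410134560700440525107597045438464) (.leaf 366448752496070410134560851407485144137342654465)) (.node (.leaf 366448752496089194109354889855774180792845503488) (.leaf 366448752496089194109355041413093078095475277825)))) (.node (.node (.node (.leaf 366448753865174554923447454936938795386948553729) (.leaf 366448753865174554923447606494284165624058383360)) (.node (.leaf 366448907688755824871653242494671651993243123712) (.leaf 366448907688755824871653393463938684930419103745))) (.node (.node (.leaf 366448918599055325186571691272508884521790248961) (.leaf 366448918599055325186571842241787147871838541825)) (.node (.leaf 366448926720641582800332149773535909954959448065) (.leaf 366448926720641582800332300742801789507410100224)))))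 (.node (.node (.node (.node (.leaf 366448982513676948974755753960717126563318467584) (.leaf 366448982513676948974755905520175808733527968769)) (.node (.leaf 366449013832927513285501085724095537936257286145) (.leaf 366449013832927513285501237283540134256027634688))) (.node (.node (.leaf 366449015202050526974341127258717186302645144577) (.leaf 366449015202050526974341278818188255555286499329)) (.node (.leaf 368586892296158695422038713546210063286365328384) (.leaf 368586892296158695422038863333699310259152620545)))) (.node (.node (.node (.leaf 368586904543646015579778413603894000581721200641) (.leaf 368586904543646015579778565752707790538409017345)) (.node (.leaf 368586915387484761193531476905162825841385147393) (.leaf 368586915387484761193531626692662771072227612673))) (.node (.node (.leaf 368586915387488659221606077856890189810501713921) (.leaf 368586915387488659221606230005715239862849280000)) (.node (.leaf 368586916775222152856247112407343641018183981057) (.leaf 368586916775222152856247262194823911597117805568)))))) (.node (.node (.node (.node (.node (.leaf 368586923578187633257516860080701907197500102656)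 (.leaf 368586923578187633257517012229514599839723689985)) (.node (.leaf 368589605024506659953264530927875302781291102208) (.leaf 368589605024506659953264683075428084840468617217))) (.node (.node (.leaf 368589615868351852984045463004023555248896907265) (.leaf 368589615868351852984045615151587597408520378369)) (.node (.leaf 368589624059055448824529493632457147879227136001) (.leaf 368589624059055448824529645780008832624693903360)))) (.node (.node (.node (.leaf 368589779249082375928304799806476280320531929089) (.leaf 368589779249082375928304951956334905387836250112)) (.node (.leaf 368589790092920508095727276925082214415534135296) (.leaf 368589790092920508095727429074952099582472912897))) (.node (.node (.leaf 368589798283626668299287290572627675464444444673) (.leaf 368589798283626668299287442722485203222110181377)) (.node (.leaf 368589854113857696993756557646151825775822116865) (.leaf 368589854113857696993756707435010167045278929921))))) (.node (.node (.node (.node (.leaf 368589877205229767083090559695875805893650027521) (.leaf 368589877205229767083090709484744845420355128320)) (.node (.leaf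 368589878592943184940128141150547046729951742976) (.leaf 368589878592943184940128290939396411576515303425))) (.node (.node (.leaf 368590028338452927122718035856514349018542246913) (.leaf 368590028338452927122718185642850674505766410240)) (.node (.leaf 368590051429801019588566902702615987006926755840) (.leaf 368590051429801019588567052488963010723262239745)))) (.node (.node (.node (.leaf 368590052817492292867170199680516294865862005761) (.leaf 368590052817492292867170349466843643931045399553)) (.node (.leaf 368943716421628716852262695021692906910847107072) (.leaf 368943716421628716852262845252045314301272561665))) (.node (.node (.leaf 368943727334591248109767199225247726575613941761) (.leaf 368943727334591248109767349455611420449926289409)) (.node (.leaf 368943735522631813007665174427963732069724461057) (.leaf 368943735522631813007665324658315012458865524736)))))))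

/-- An element of the line stabiliser, part 24. -/
def kCodePart24 : Janko1.Tree ℕ := (.node (.node (.node (.node (.node (.node (.leaf 368946416902489393060612444756874129157965518849) (.leaf 368946416902489393060612594985965528650828748800)) (.node (.leaf 368946427815454488725766026948732194912729044992) (.leaf 368946427815454488725766177177834880894363009025))) (.node (.node (.leaf 368946436003499549886254732992167949805183074305) (.leaf 368946436003499549886254883221258222297573529601)) (.node (.leaf 368946591127065155889204902656908521820878018561) (.leaf 368946591127065155889205052888305764321913765889)))) (.node (.node (.node (.leaf 368946602040023065149024765882239831133097852929) (.leaf 368946602040023065149024916113648360122053335040)) (.node (.leaf 368946610228070801195883415898456085212997130240) (.leaf 368946610228070801195883566129852200717534631937))) (.node (.node (.leaf 371084575710541955392675866975337677317494803457) (.leaf 371084575710541955392676020452175741231232456704)) (.node (.leaf 371084598876304711598963843067978584070584014848) (.leaf 371084598876304711598963996544827372630654325761)))))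 (.node (.node (.node (.node (.leaf 371084600258725231855733587071460393919397237761) (.leaf 371084600258725231855733740548289448453883825153)) (.node (.leaf 371084837047380241597528191361475754380511677440) (.leaf 371084837047380241597528340116128605319791676417))) (.node (.node (.leaf 371084868361351544415611238274692778992625811457) (.leaf 371084868361351544415611387029331570468130393088)) (.node (.leaf 371084869701214658358838690818032151727917534209) (.leaf 371084869701214658358838839572697399667776323585)))) (.node (.node (.node (.leaf 371087276191404505119289246677147113976353033217) (.leaf 371087276191404505119289395430574985808394616832)) (.node (.leaf 371087307505358926698699518450624952019695176705) (.leaf 371087307505358926698699667204038764412125350913))) (.node (.node (.leaf 371087308845201280414707671734311091021796638720) (.leaf 371087308845201280414707820487751359856033926145)) (.node (.leaf 371087537528240920212432242622549067860133024768) (.leaf 371087537528240920212432396100756226070491433985)))))) (.node (.node (.node (.node (.node (.leaf 371087537528263602356421365601949174308082843649)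 (.leaf 371087537528263602356421514357502745179815152641)) (.node (.leaf 371087560694049794817680584155977357454827064321) (.leaf 371087560694049794817680737634195240310761592833))) (.node (.node (.leaf 371087562076446223362418425970108378246005397505) (.leaf 371087562076446223362418579448306527048168903680)) (.node (.leaf 371087568842197252062072448518916152367280327680) (.leaf 371087568842197252062072597274455663776846348289)))) (.node (.node (.node (.leaf 371087570182077243656422442352962675013677222913) (.leaf 371087570182077243656422591108528642863444560896)) (.node (.leaf 371087711752836109764190277433438481942645315585) (.leaf 371087711752836109764190430909123624370818257921))) (.node (.node (.leaf 371087734918621010571195458709987166621285225473) (.leaf 371087734918621010571195612185683033666801372160)) (.node (.leaf 371087736300995408618625396352281107488942066688) (.leaf 371087736300995408618625549827957240509726988289))))) (.node (.node (.node (.node (.leaf 372155272824885080758107221327104921751315316737) (.leaf 372155272824885080758107374361402412084858719233)) (.node (.leaf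 372155304109613361244015732996953807862806645760) (.leaf 372155304109613361244015886031237222239905021953))) (.node (.node (.leaf 372155305484036412102236302477853595239326419969) (.leaf 372155305484036412102236455512163456185175936000)) (.node (.leaf 372157711968909346879544776993714087893663222784) (.leaf 372157711968909346879544930026786599119974599681)))) (.node (.node (.node (.leaf 372157743253620749952015234915648836874681221121) (.leaf 372157743253620749952015387948707272168700382208)) (.node (.leaf 372157744628023025133517561300431872001893764097) (.leaf 372157744628023025133517714333516753842120196097))) (.node (.node (.leaf 372157973305768435092096427379733173469129509889) (.leaf 372157973305768435092096580414931383735130030080)) (.node (.leaf 372158004590459077915057411779960155993724685313) (.leaf 372158004590459077915057564815144290304886082561)))))))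

/-- An element of the line stabiliser, part 25. -/
def kCodePart25 : Janko1.Tree ℕ := (.node (.node (.node (.node (.node (.node (.leaf 372158005964898994800143553661846311978579558400) (.leaf 372158005964898994800143706697056892834331233281)) (.node (.leaf 374295883045714926303451751117141482055261493249) (.leaf 374295883045714926303451901199778664993711985665))) (.node (.node (.leaf 374295906206160807300849288581312866765256528897) (.leaf 374295906206160807300849438663960714976460540928)) (.node (.leaf 374295907519461394440215690809159403040746245120) (.leaf 374295907519461394440215840891787550211713800193)))) (.node (.node (.node (.leaf 374298844863413850560867217391222014511529593857) (.leaf 374298844863413850560867367475228291746648037376)) (.node (.leaf 374298868023905853745321640509444423254496778240) (.leaf 374298868023905853745321790593461365761516246017))) (.node (.node (.leaf 374298869337182463283485828240805462348727325697) (.leaf 374298869337182463283485978324802703787373366273)) (.node (.leaf 374299019088009117449217804290027191350463042560) (.leaf 374299019088009117449217954371511452803397585921)))))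 (.node (.node (.node (.node (.leaf 374299042248477028936488352135405686559536581633) (.leaf 374299042248477028936488502216900613256184862721)) (.node (.leaf 374299043561731611765448409463110974696661194753) (.leaf 374299043561731611765448559544586200353879888896))) (.node (.node (.leaf 548420026691042730595561646967175434740380995585) (.leaf 548420026691042730595561722672654755049585018880)) (.node (.leaf 548420034876426747291279497420348114150289872897) (.leaf 548420034876426747291279573125812823047612665857)))) (.node (.node (.node (.leaf 548420048447847869931352366833334293428005537792) (.leaf 548420048447847869931352442538811386124535109633)) (.node (.leaf 548420452684689238898350059915985310092512201729) (.leaf 548420452684689238898350286737224189068884054016))) (.node (.node (.leaf 548420470437876560395128678847235087480267480065) (.leaf 548420470437876560395128905668463241811113544705)) (.node (.leaf 548420474526583826341330192917453943441551527936) (.leaf 548420474526583826341330419738698473914387405825)))))) (.node (.node (.node (.node (.node (.leaf 548422891828713541779174306419361871776006017025)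 (.leaf 548422891828713541779174533239447829238630587393)) (.node (.leaf 548422901396476537826449695613636267712478480385) (.leaf 548422901396476537826449771317854580124170622977))) (.node (.node (.leaf 548422909581865774801427564604451669953359646720) (.leaf 548422909581865774801427640308655370954730932225)) (.node (.leaf 548422909581884560038919386345552782420015057920) (.leaf 548422909581884560038919613165628015262073622529)))) (.node (.node (.node (.leaf 548422913670569791677433555323534072344043068417) (.leaf 548422913670569791677433782143625681305593187328)) (.node (.leaf 548422923153282279454734266768928741777446311937) (.leaf 548422923153282279454734342473144826580448055296))) (.node (.node (.leaf 548422988508765674281692539408999820563973183488) (.leaf 548422988508765674281692615115632062375655903233)) (.node (.leaf 548422996694150414741532655989960209552848226305) (.leaf 548422996694150414741532731696577839956668487680))))) (.node (.node (.node (.node (.leaf 548423010265566298340126271456080219628515102721) (.leaf 548423010265566298340126347162710233829889050625)) (.node (.leaf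 548423066053287348610516047471962497176586165248) (.leaf 548423066053287348610516274294138124882180312065))) (.node (.node (.leaf 548423083806436343964001544124268173604318875649) (.leaf 548423083806436343964001770946433076666752834560)) (.node (.leaf 548423087895159791482489536232372479223425141761) (.leaf 548423087895159791482489763054553758402930020353)))) (.node (.node (.node (.leaf 549133813830397800489856133616267779551131109377) (.leaf 549133813830397800489856360732473855671762194432)) (.node (.leaf 549133843836388020561560372713590253704534562817) (.leaf 549133843836388020561560599829781665639136004097))) (.node (.node (.leaf 549133846561306057149844086029644260073585807360) (.leaf 549133846561306057149844313145861619381181093889)) (.node (.leaf 549136340086687913797131944580073995450408507392) (.leaf 549136340086687913797132171697541079465374287873)))))))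

/-- An element of the line stabiliser, part 26. -/
def kCodePart26 : Janko1.Tree ℕ := (.node (.node (.node (.node (.node (.node (.leaf 549136370092682633949241249229146674563685322753) (.leaf 549136370092682633949241476346599094393382639616)) (.node (.leaf 549136372817597393596345654826079579142942656513) (.leaf 549136372817597393596345881943557946348098588673))) (.node (.node (.leaf 549136601423545056232858588905894817001059160065) (.leaf 549136601423545056232858816021164144399716194305)) (.node (.leaf 549136631429538446555117789951124781038129678336) (.leaf 549136631429538446555118017066379444248345874433)))) (.node (.node (.node (.leaf 549136634154457824396962289396510679252456708097) (.leaf 549136634154457824396962516511791289838932101120)) (.node (.leaf 550917873507424773715778330421922690514685007872) (.leaf 550917873507424773715778555914815260661067057153))) (.node (.node (.leaf 550917903454928887102335112983317829887292116993) (.leaf 550917903454928887102335338476195815012486354944)) (.node (.leaf 550917906113385566937115722667862952995797370881) (.leaf 550917906113385566937115948160766809627727269889)))))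 (.node (.node (.node (.node (.leaf 550918134844299404577481152787189516613331720193) (.leaf 550918134844299404577481229525427573367996161025)) (.node (.leaf 550918155245293321877650863304688269694509521921) (.leaf 550918155245293321877650940042936998292374946816))) (.node (.node (.leaf 550918157946263188555233140503376923096492540928) (.leaf 550918157946263188555233217241607659292825491457)) (.node (.leaf 550920399763714812152438147554290651256593092609) (.leaf 550920399763714812152438373048444229297314469889)))) (.node (.node (.node (.leaf 550920399763736265804349537819413165168810525697) (.leaf 550920399763736265804349614559020316193570953216)) (.node (.leaf 550920420164706087574673011436530673602637862912) (.leaf 550920420164706087574673088176148496493950016513))) (.node (.node (.leaf 550920422865716238930581044000013303666711206913) (.leaf 550920422865716238930581120739613134159663334401)) (.node (.leaf 550920429711223543525761097364194898081217021952) (.leaf 550920429711223543525761322858333891101551267841)))))) (.node (.node (.node (.node (.node (.leaf 550920432369676935218488177430415879887749388289)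 (.leaf 550920432369676935218488402924580744417191168000)) (.node (.leaf 550920661100571997623917153300349807917066127361) (.leaf 550920661100571997623917378792305629341522890752))) (.node (.node (.leaf 550920691048079387966501270497372924603208308737) (.leaf 550920691048079387966501495989314161004012668929)) (.node (.leaf 550920693706537291148488818169408724839894126592) (.leaf 550920693706537291148489043661375832750659999745)))) (.node (.node (.node (.leaf 550920922437430440674113281777667283234616515584) (.leaf 550920922437430440674113358515184764038954353665)) (.node (.leaf 550920942838440539524286549625914640999660913665) (.leaf 550920942838440539524286626363442793673823623169))) (.node (.node (.leaf 550920945539434383795643401085376509959279745025) (.leaf 550920945539434383795643477822886670208504175616)) (.node (.leaf 551631334018240338597281093593527999022475286528) (.leaf 551631334018240338597281167675693866134037073921))))) (.node (.node (.node (.node (.leaf 551631342145138351302405386468779480959901272065) (.leaf 551631342145138351302405460550930710271252535296)) (.node (.leaf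 551631355777703887115650461895056312275912626177) (.leaf 551631355777703887115650535977219902296734337025))) (.node (.node (.leaf 551634208723674099019182794632829106767267893249) (.leaf 551634208723674099019182868713733965981275424768)) (.node (.leaf 551634216850577350988608294971397519613536802817) (.leaf 551634216850577350988608369052287741028986785793)))) (.node (.node (.node (.leaf 551634230483138371271963868119296003002092521472) (.leaf 551634230483138371271963942200198585129378551809)) (.node (.leaf 551634295835963310107349891161920214220453480449) (.leaf 551634295835963310107349965245239002834443737089))) (.node (.node (.leaf 551634303962861944119727038749746333985720504320) (.leaf 551634303962861944119727112833050484803577088001)) (.node (.leaf 551634317595422362333417967679879651478775306241) (.leaf 551634317595422362333418041763196163004483768320)))))))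

/-- An element of the line stabiliser, part 27. -/
def kCodePart27 : Janko1.Tree ℕ := (.node (.node (.node (.node (.node (.node (.leaf 551988145901539948054900159910933750250704242689) (.leaf 551988145901539948054900236797004715466594752513)) (.node (.leaf 551988154089582495627661534264416115684939403264) (.leaf 551988154089582495627661611150472420010917660673))) (.node (.node (.leaf 551988167719489603243568957831882469984640210945) (.leaf 551988167719489603243569034717951184498061742080)) (.node (.leaf 551988309279612703416139498140133233013989871617) (.leaf 551988309279612703416139725551487238503242668033)))) (.node (.node (.node (.leaf 551988339160655448640345028570872563430819137536) (.leaf 551988339160655448640345255982211908032533139457)) (.node (.leaf 551988341944059485431125779251584178857592756225) (.leaf 551988341944059485431126006662949391667512248320))) (.node (.node (.leaf 551990835535902773479696274638674915395440248833) (.leaf 551990835535902773479696502051289928778983706624)) (.node (.leaf 551990865416950030415984226191679825949217003521) (.leaf 551990865416950030415984453604280178446075725825)))))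 (.node (.node (.node (.node (.leaf 551990868200350896733388061408033189785529520128) (.leaf 551990868200350896733388288820659410493004847105)) (.node (.leaf 551991020606973783332562574310248549854078343168) (.leaf 551991020606973783332562651195058507172406628353))) (.node (.node (.leaf 551991028795021448252338327145656853031848806401) (.leaf 551991028795021448252338404030452149461883328512)) (.node (.leaf 551991042424924059605647766317485770158964740097) (.leaf 551991042424924059605647843202293476778901014529)))) (.node (.node (.node (.leaf 551991096872759884303388493624664266380386244608) (.leaf 551991096872759884303388721035081523147669800961)) (.node (.leaf 551991107719262966626502326655620954530456801281) (.leaf 551991107719262966626502403542844841248818235392))) (.node (.node (.leaf 551991115907306116239210530729101671487565764609) (.leaf 551991115907306116239210607616310897319998918657)) (.node (.leaf 551991126753805917877621480273671624282241273857) (.leaf 551991126753805917877621707684074220159614064640)))))) (.node (.node (.node (.node (.node (.leaf 551991129537208003605575750256692117328921397248)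 (.leaf 551991129537208003605575827143913753347237648385)) (.node (.leaf 551991129537211284290278407958282068602168313857) (.leaf 551991129537211284290278635368710532690919067649))) (.node (.node (.leaf 554129442115669472275212158812369954444191204353) (.leaf 554129442115669472275212231861259194257906866176)) (.node (.leaf 554129462569832465011770397542074318056569444352) (.leaf 554129462569832465011770470590974256101813918721)))) (.node (.node (.node (.leaf 554129465276119206920526034076369391226390584321) (.leaf 554129465276119206920526107125251290690562294785)) (.node (.leaf 554131707035106252355108550836277354103746075648) (.leaf 554131707035106252355108623886535688187554563073))) (.node (.node (.leaf 554131727489245275103795816674584911138756494337) (.leaf 554131727489245275103795889724853943477398935553)) (.node (.leaf 554131730195572294047842659580653831518474475521) (.leaf 554131730195572294047842732630904825279317285888))))) (.node (.node (.node (.node (.leaf 554132229708800463976833763247261844116369053697) (.leaf 554132229708800463976833836295430507979806874625)) (.node (.leaf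 554132250162979645906444615410570317414903847937) (.leaf 554132250162979645906444688458749679536393683968))) (.node (.node (.leaf 554132252869290483307908287666685226985101722624) (.leaf 554132252869290483307908360714846550502168074241)) (.node (.leaf 556627126976234580586363069863289938812854082560) (.leaf 556627126976234580586363292995179974459999652865)))) (.node (.node (.node (.leaf 556627144676252704930012617965174664261161979905) (.leaf 556627144676252704930012841097054054427614256128)) (.node (.leaf 556627148695840148066688677267935386811946765313) (.leaf 556627148695840148066688900399831080552671744001))) (.node (.node (.leaf 556629566120258839116749886780272001218659224577) (.leaf 556629566120258839116750109911009115352103129088)) (.node (.leaf 556629583820260781895533343525065870883491421185) (.leaf 556629583820260781895533566655792339561160903681)))))))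

/-- An element of the line stabiliser, part 28. -/
def kCodePart28 : Janko1.Tree ℕ := (.node (.node (.node (.node (.node (.node (.leaf 556629587839826080431499451198836503309545115648) (.leaf 556629587839826080431499674329579275538934012929)) (.node (.leaf 556629740344832612976791785802775926439297945601) (.leaf 556629740344832612976792008935602710815661104129))) (.node (.node (.leaf 556629758044812521470178071717386762790106565632) (.leaf 556629758044812521470178294850202901688197058561)) (.node (.leaf 556629762064416157558292703724166109646557289473) (.leaf 556629762064416157558292926856998552093905652736)))) (.node (.node (.node (.leaf 556983937522349037432110301673943106710792051712) (.leaf 556983937522349037432110378559755091865895437313)) (.node (.leaf 556983938904727978734337202690594457999285686273) (.leaf 556983938904727978734337432758460315938789530625))) (.node (.node (.leaf 556983956535626291677323951634003351282517019648) (.leaf 556983956535626291677324181701858491173514514433)) (.node (.leaf 556983957918025961609593578075583413055737299969) (.leaf 556983957918025961609593654961406116233526908929)))))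 (.node (.node (.node (.node (.leaf 556983960677481904452154418971712532705421301761) (.leaf 556983960677481904452154495857517223690420362240)) (.node (.leaf 556983960677502633082196914623564715499745451009) (.leaf 556983960677502633082197144691436152367941159936))) (.node (.node (.leaf 556986202441785861869871763519957287297431902209) (.leaf 556986202441785861869871840407138366722579373057)) (.node (.leaf 556986222837438808446160078980029784210394848257) (.leaf 556986222837438808446160155867221581681634313216)))) (.node (.node (.node (.leaf 556986225596934910477064892881954413997949715456) (.leaf 556986225596934910477064969769128199279616727041)) (.node (.leaf 556986378048752204300859071368109789649592392704) (.leaf 556986378048752204300859301434822726075344227329))) (.node (.node (.leaf 556986395679634324262696686664650932029578809345) (.leaf 556986395679634324262696916731353150431839132672)) (.node (.leaf 556986399821488642791020627323176188628109888513) (.leaf 556986399821488642791020857389894703984974237697)))))) (.node (.node (.node (.node (.node (.leaf 556986552273326055504921162714241759276045437953)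 (.leaf 556986552273326055504921392783044365944721248256)) (.node (.leaf 556986569904186030873469213062587405405647281153) (.leaf 556986569904186030873469443131379294028278270977))) (.node (.node (.leaf 556986574046078675537665889319262169089854410752) (.leaf 556986574046078675537666119388070354664723848193)) (.node (.leaf 556986725115479992389198077891816906085547639809) (.leaf 556986725115479992389198154776908315290321295360)))) (.node (.node (.node (.leaf 556986745511173223606673947538121971413627181056) (.leaf 556986745511173223606674024423224098667665300481)) (.node (.leaf 556986748270653136481664349185003899761999223809) (.leaf 556986748270653136481664426070088014799941665793))) (.node (.node (.leaf 1461858548640457954896707076404466426592971228160) (.leaf 1461858548640457954896707681014919234145938868225)) (.node (.leaf 1461858558149777107883348087296110248427532061697) (.leaf 1461858558149777107883348691906548970126836270080))))) (.node (.node (.node (.node (.leaf 1461858570423869717765346993238323374967525246977) (.leaf 1461858570423869717765347597848775039036987804673)) (.node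 (.leaf 1461861597570488935720904780232722918043322682369) (.leaf 1461861597570488935720905384844508791094582477825))) (.node (.node (.leaf 1461861607079762650960205465807074383721588099072) (.leaf 1461861607079762650960206070418846170920791837697)) (.node (.leaf 1461861619353876028690189806404659404074593584129) (.leaf 1461861619353876028690190411016444133614969456640)))) (.node (.node (.node (.leaf 1461861684682773568136812730695815363069079488513) (.leaf 1461861684682773568136813335305043191513199676416)) (.node (.leaf 1461861694192071945446735498491342432628564853761) (.leaf 1461861694192071945446736103100556175248014215169))) (.node (.node (.leaf 1461861706466139897068491763132780441426837638144) (.leaf 1461861706466139897068492367742007126389068170241)) (.node (.leaf 1465069847808854162894214269273263721791589745665) (.leaf 1465069847808854162894214874621653819897983012864)))))))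

/-- An element of the line stabiliser, part 29. -/
def kCodePart29 : Janko1.Tree ℕ := (.node (.node (.node (.node (.node (.node (.leaf 1465069855970335434591613517318792131370814575617) (.leaf 1465069855970335434591614122667177761054178444289)) (.node (.leaf 1465069857291586797358323807342421018815862149120) (.leaf 1465069857291586797358324412690813945975099397121))) (.node (.node (.leaf 1465070283370305232304179419021466271110965235713) (.leaf 1465070283370305232304180024369604167630471599105)) (.node (.leaf 1465070291531763835965157784479233715494931432448) (.leaf 1465070291531763835965158389827367143616331911169)))) (.node (.node (.node (.leaf 1465070292852996302978514089792377509753358685185) (.leaf 1465070292852996302978514695140518235324047983616)) (.node (.leaf 1465070370482589832959497721577365202629043459072) (.leaf 1465070370482589832959498326925899415932918334465))) (.node (.node (.leaf 1465070378644029639959270486962197038401636536321) (.leaf 1465070378644029639959271092310726783280880849920)) (.node (.leaf 1465070379965303693609823024624565244580220404737) (.leaf 1465070379965303693609823629973102286910323167233)))))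 (.node (.node (.node (.node (.leaf 1467924343188949162985583534643779675745042863104) (.leaf 1467924343188949162985584137040690757242310394881)) (.node (.leaf 1467924351315849095062267034742060595342757334017) (.leaf 1467924351315849095062267636548608291597243155457))) (.node (.node (.leaf 1467924351315870555116804761389552777161923891201) (.leaf 1467924351315870555116805363786459334161028125696)) (.node (.leaf 1467924352722192436028113016374172536503771628545) (.leaf 1467924352722192436028113618771086397575809470465)))) (.node (.node (.node (.leaf 1467924360867703537496546607762854115192951310336) (.leaf 1467924360867703537496547209569387732190844947457)) (.node (.leaf 1467924373112553136470081660987188260210229150721) (.leaf 1467924373112553136470082262793734842668028561408))) (.node (.node (.leaf 1467924778750400207134146660586151564731269284865) (.leaf 1467924778750400207134147262982810444641599492096)) (.node (.leaf 1467924786877298908166116819302611491807118267393) (.leaf 1467924786877298908166117421699265847244299994113)))))) (.node (.node (.node (.node (.node (.leaf 1467924788283602015233937531877342557253339713536)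 (.leaf 1467924788283602015233938134274004216736839144449)) (.node (.leaf 1467924865862684881375091942640346338286370820097) (.leaf 1467924865862684881375092545037401534981079077889))) (.node (.node (.leaf 1467924873989564686898827497979744154380674302976) (.leaf 1467924873989564686898828100376794826575649443841)) (.node (.leaf 1467924875395909357541021511017065110376327189505) (.leaf 1467924875395909357541022113414123086619280966656)))) (.node (.node (.node (.leaf 1467927400245880069468988410618184200232748222465) (.leaf 1467927400245880069468989012426064961985527680000)) (.node (.leaf 1467927409797689085572203447056544571271318897665) (.leaf 1467927409797689085572204048864411253769115305985))) (.node (.node (.leaf 1467927422042559448813601341322930855093346503680) (.leaf 1467927422042559448813601943130810503022054507521)) (.node (.leaf 1467927487358164706883695821864002966042816578560) (.leaf 1467927487358164706883696423669325683188459669505))))) (.node (.node (.node (.node (.leaf 1467927496909998381477417600465136873729392905217) (.leaf 1467927496909998381477418202270445511647430214656))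 (.node (.leaf 1467927509154823310774419716544001318110181754881) (.leaf 1467927509154823310774420318349322921460745899009))) (.node (.node (.leaf 1468281163262951690221837227291658217603953362945) (.leaf 1468281163262951690221837834263294248999558056960)) (.node (.leaf 1468281172785563117944693893354966863666278859777) (.leaf 1468281172785563117944694500326588838895030929409)))) (.node (.node (.node (.leaf 1468281185017120430773157889353571570985466334208) (.leaf 1468281185017120430773158496325206481987311797249)) (.node (.leaf 1468284212192982665824406263265819938788150903808) (.leaf 1468284212192982665824406870238789035682044610561))) (.node (.node (.leaf 1468284221715548659833131252003605164315522894849) (.leaf 1468284221715548659833131858976560205044179305472)) (.node (.leaf 1468284233947126748108049390236328205003500587009) (.leaf 1468284233947126748108049997209296181476257696769)))))))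

/-- An element of the line stabiliser, part 30. -/
def kCodePart30 : Janko1.Tree ℕ := (.node (.node (.node (.node (.node (.node (.leaf 1468284299305267297051886940311668861394047470593) (.leaf 1468284299305267297051887547282079913680806380545)) (.node (.leaf 1468284308827857960729717225959211505908513802240) (.leaf 1468284308827857960729717832929608502057414167553))) (.node (.node (.leaf 1468284321059390611264722679110354472089590727681) (.leaf 1468284321059390611264723286080764403984199354368)) (.node (.leaf 1470065214688131230046505983837752776848967733249) (.leaf 1470065214688131230046506589481290794428375536641)))) (.node (.node (.node (.leaf 1470065222900123239199079246901327754680496849920) (.leaf 1470065222900123239199079852544861254358861352961)) (.node (.leaf 1470065224255934504349678362332841177228586816513) (.leaf 1470065224255934504349678967976382030457867371520))) (.node (.node (.leaf 1470065650249582347565301775997682027814818190336) (.leaf 1470065650249582347565302381640967843807298094081)) (.node (.leaf 1470065658461551566957278720065706682394963087361) (.leaf 1470065658461551566957279325708987980511354852352)))))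 (.node (.node (.node (.node (.leaf 1470065659817344035476382796367133622929259004929) (.leaf 1470065659817344035476383402010422274570041954305)) (.node (.leaf 1470065737361866973727134230137916914096072066049) (.leaf 1470065737361866973727134835781599046872970825728))) (.node (.node (.leaf 1470065745573817419060214811405479019173094921217) (.leaf 1470065745573817419060215417049156634047289525249)) (.node (.leaf 1470065746929651352492354190758176389121518342144) (.leaf 1470065746929651352492354796401861357521705407489)))) (.node (.node (.node (.leaf 1647044101489668107722166204847158481408861668353) (.leaf 1647044101489668107722166886048558518452782928896)) (.node (.leaf 1647044110972361112816459125573070919314008216576) (.leaf 1647044110972361112816459806774477169706711158785))) (.node (.node (.leaf 1647044113742492419371800299898377111983742816257) (.leaf 1647044113742492419371800981099774372777141732353)) (.node (.leaf 1647044275714240574557686986130572779192338912257) (.leaf 1647044275714240574557687667331828701064542064641)))))) (.node (.node (.node (.node (.node (.leaf 1647044285196952490639424015012859973218501431297)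 (.leaf 1647044285196952490639424696214122108414518625280)) (.node (.leaf 1647044287967044165274794508918678861882802045952) (.leaf 1647044287967044165274795190119932007480377250817))) (.node (.node (.leaf 1647044362826506429356861318737289899607717875712) (.leaf 1647044362826506429356861999938725965457211261953)) (.node (.leaf 1647044372309239073969600881016353768849066165249) (.leaf 1647044372309239073969601562217796048046589514753)))) (.node (.node (.node (.leaf 1647044375079349522426183250179842194261674071041) (.leaf 1647044375079349522426183931381275483835737346048)) (.node (.leaf 1647757636859948487124467034382878901559886905345) (.leaf 1647757636859948487124467564763592997729016517632))) (.node (.node (.leaf 1647757649112750128187518930215176434303929160705) (.leaf 1647757649112750128187519460595884369900832063489)) (.node (.leaf 1647757650434024169139287380591390546936409920512) (.leaf 1647757650434024169139287910972109164279347811329))))) (.node (.node (.node (.node (.leaf 1647757898196805676547448227675007687351301313536) (.leaf 1647757898196805676547448758055973985081592152065))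 (.node (.leaf 1647757910449629985646928259649983873039924761601) (.leaf 1647757910449629985646928790030944010224516731904))) (.node (.node (.leaf 1647757911770860508099116677479009413247674646529) (.leaf 1647757911770860508099117207859980232179160486913)) (.node (.leaf 1647758072421356116760415845601536452515920385025) (.leaf 1647758072421356116760416375982214519879421137921)))) (.node (.node (.node (.leaf 1647758084674201162033947467076144818447740600320) (.leaf 1647758084674201162033947997456816725238215644161)) (.node (.leaf 1647758085995454482060609731870040977044383208449) (.leaf 1647758085995454482060610262250723565608320925696))) (.node (.node (.leaf 1649898508401665921046370465919746650283753608192) (.leaf 1649898508401665921046370992463538011007113789441)) (.node (.leaf 1649898520611932185023061494156961782111484810241) (.leaf 1649898520611932185023062020700746936083136123904)))))))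

/-- An element of the line stabiliser, part 31. -/
def kCodePart31 : Janko1.Tree ℕ := (.node (.node (.node (.node (.node (.node (.leaf 1649898522010301497846603676402478756209002315777) (.leaf 1649898522010301497846604202946274588628201018369)) (.node (.leaf 1649898769738523029248103263846436370685291959297) (.leaf 1649898769738523029248103790390479932969819575297))) (.node (.node (.leaf 1649898781948812090598721852684290516368257744896) (.leaf 1649898781948812090598722379228327871927645410305)) (.node (.leaf 1649898783347137869911430339563015392389365765121) (.leaf 1649898783347137869911430866107063426397058924544)))) (.node (.node (.node (.leaf 1649898943963073517577329164420404119145736601601) (.leaf 1649898943963073517577329690964159451063521416192)) (.node (.leaf 1649898956173383300090731172828451543870124069889) (.leaf 1649898956173383300090731699372200669035341316097))) (.node (.node (.leaf 1649898957571731762651674998588607890796198269952) (.leaf 1649898957571731762651675525132367694436349514753)) (.node (.leaf 1650612220724091417783436024559493740965081944064) (.leaf 1650612220724091417783436701923971049160306590721)))))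 (.node (.node (.node (.node (.leaf 1650612230249319807562565774014152759893919007745) (.leaf 1650612230249319807562566451378636222064294401025)) (.node (.leaf 1650612232926405113672360980057606087522716259329) (.leaf 1650612232926405113672361657422080563392379129856))) (.node (.node (.leaf 1650612394948663973438681162342011231469256573953) (.leaf 1650612394948663973438681839706344424492760077312)) (.node (.leaf 1650612404473911144644926388423716196126563537920) (.leaf 1650612404473911144644927065788055543100309803009)))) (.node (.node (.node (.leaf 1650612407150956811496235107609030262372926787585) (.leaf 1650612407150956811496235784973360623046712361985)) (.node (.leaf 1650612482060929787497243966363585046437738615809) (.leaf 1650612482060929787497244643728098383438588973057))) (.node (.node (.leaf 1650612491586197679895990426513250104483327807489) (.leaf 1650612491586197679895991103877769595458526643200)) (.node (.leaf 1650612494263262257467348205369296787472496198656) (.leaf 1650612494263262257467348882733807292122766808065)))))) (.node (.node (.node (.node (.node (.leaf 1653466627593553985933689284963497524254094693377)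 (.leaf 1653466627593553985933689814753915827656718291969)) (.node (.leaf 1653466639880915506570354095886180387361525891072) (.leaf 1653466639880915506570354625676592480713852359681))) (.node (.node (.leaf 1653466641244724810519929393316830766207022928897) (.leaf 1653466641244724810519929923107253587484926312448)) (.node (.leaf 1653466716061651172708281929497137590982100947969) (.leaf 1653466716061651172708282610993685554096059224065)))) (.node (.node (.node (.leaf 1653466725637390185854031673429196990683395690497) (.leaf 1653466725637390185854032354925751163847654245376)) (.node (.leaf 1653466728357010739742398883552621537691990754304) (.leaf 1653466728357010739742399565049166665181855519745))) (.node (.node (.leaf 1653466888930411127039873162798873409991073628161) (.leaf 1653466888930411127039873692589543914954811282432)) (.node (.leaf 1653466890286223687890317840735071603192637722624) (.leaf 1653466890286223687890318522231475451134931371009))))) (.node (.node (.node (.node (.leaf 1653466899861981474849844566134170570217796666369) (.leaf 1653466899861981474849845247630580628185372726273))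 (.node (.leaf 1653466901217795331162450546590863069009054536705) (.leaf 1653466901217795331162451076381527363949123633153))) (.node (.node (.leaf 1653466902581561230663868884391327289661190083584) (.leaf 1653466902581561230663869414182002312527635026945)) (.node (.leaf 1653466902581562526126029959353219047534082692097) (.leaf 1653466902581562526126030640849620059828067012608)))) (.node (.node (.node (.leaf 1653466977398489453862340176606973249237924447233) (.leaf 1653466977398489453862340858103557241157511582720)) (.node (.leaf 1653466986974268098660665552472877813566442345472) (.leaf 1653466986974268098660666233969468015535467827201))) (.node (.node (.leaf 1653466989693867931623926577013984406564966010881) (.leaf 1653466989693867931623927258510565562835491881985)) (.node (.leaf 1653467063154961534385535155550195105842273981440) (.leaf 1653467063154961534385535685340577380439275110401)))))))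

/-- An element of the line stabiliser, part 32. -/
def kCodePart32 : Janko1.Tree ℕ := (.node (.node (.node (.node (.node (.node (.leaf 1653467075442366588733579948203901671559772804097) (.leaf 1653467075442366588733580477994277736105718584320)) (.node (.leaf 1653467076806155156308557369770688265628414935041) (.leaf 1653467076806155156308557899561075058127264584705))) (.node (.node (.leaf 1827591029874749557955353962007413473110679653377) (.leaf 1827591029874749557955354415059308318424274863104)) (.node (.leaf 1827591042106326338094080827221672014292693551105) (.leaf 1827591042106326338094081280273552780354530085889)))) (.node (.node (.node (.leaf 1827591053011308928901744526781931329241880232960) (.leaf 1827591053011308928901744979833826723221983987713)) (.node (.leaf 1827593556131058447705796233583649389920964839424) (.leaf 1827593556131058447705796686636877300734465969153))) (.node (.node (.leaf 1827593568362597597564657219381211674792725873665) (.leaf 1827593568362597597564657672434425506349634816000)) (.node (.leaf 1827593579267604842822184119321845621368290839553) (.leaf 1827593579267604842822184572375074080822521267201)))))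 (.node (.node (.node (.node (.leaf 1827593904580206076580279664875892333865853289473) (.leaf 1827593904580206076580280117926886459248611428353)) (.node (.leaf 1827593916811758198221079401246582744501362134016) (.leaf 1827593916811758198221079854297562790653290120193))) (.node (.node (.leaf 1827593927716727794414238265654160143447361587201) (.leaf 1827593927716727794414238718705154817491788663808)) (.node (.leaf 1827947930273998604016845182446579366152943732737) (.leaf 1827947930273998604016845938172974672417304120321)))) (.node (.node (.node (.leaf 1827947941136469259303880742399605493616404333568) (.leaf 1827947941136469259303881498125988406175491721217)) (.node (.leaf 1827947950688304226821986591280451082846895377409) (.leaf 1827947950688304226821987347006846931177463874560))) (.node (.node (.leaf 1827950282305738228935478806655439190793809071104) (.leaf 1827950282305738228935479562380501431558263538689)) (.node (.leaf 1827950293168192010359488345531021809535866144769) (.leaf 1827950293168192010359489101256071656622435896320)))))) (.node (.node (.node (.node (.node (.leaf 1827950302720002323427723740476575079387485438977)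 (.leaf 1827950302720002323427724496201637862221372491777)) (.node (.leaf 1827950717867170490225870188407315815224863884289) (.leaf 1827950717867170490225870944134503755030616639488))) (.node (.node (.leaf 1827950728729599598177822629688452810488109632513) (.leaf 1827950728729599598177823385415628356591815230465)) (.node (.leaf 1827950738281451450722697773922301227480298588160) (.leaf 1827950738281451450722698529649489709328108129281)))) (.node (.node (.node (.leaf 1832943208719738445261201323738333140825112871937) (.leaf 1832943208719738445261201779594133071048912406529)) (.node (.leaf 1832943220972582887118191956104325780471305243648) (.leaf 1832943220972582887118192411960111651234553824257))) (.node (.node (.leaf 1832943231843005541233691745798393133559644162049) (.leaf 1832943231843005541233692201654193635539687083008)) (.node (.leaf 1832943297171884899966081405867507303871340348417) (.leaf 1832943297171884899966082159232719359904781469696))))) (.node (.node (.node (.node (.leaf 1832943308084866220273933730765852414566422580225) (.leaf 1832943308084866220273934484131052073596063581185))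 (.node (.leaf 1832943317615433548653809382615217780879528593408) (.leaf 1832943317615433548653810135980430408665994923009))) (.node (.node (.leaf 1832945649203624534860031030934682925132646221825) (.leaf 1832945649203624534860031784298561915666184571905)) (.node (.leaf 1832945660116588970148548954270655177490473419776) (.leaf 1832945660116588970148549707634521771047589021697)))) (.node (.node (.node (.leaf 1832945669647131636465222910579639533795089091585) (.leaf 1832945669647131636465223663943519096084878590976)) (.node (.leaf 1832945734976047348797346290648203028170392767489) (.leaf 1832945734976047348797346746505336023894096643072))) (.node (.node (.leaf 1832945747228854137787009833241533227921871210497) (.leaf 1832945747228854137787010289098652164180184435713)) (.node (.leaf 1832945758099301450170187158027005668200526414848) (.leaf 1832945758099301450170187613884139235654705350657)))))))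

/-- An element of the line stabiliser, part 33. -/
def kCodePart33 : Janko1.Tree ℕ := (.node (.node (.node (.node (.node (.node (.leaf 1832946083425194968870078460473031446840863098880) (.leaf 1832946083425194968870078916327930657133816220673)) (.node (.leaf 1832946084765056787356098791454857305938671471616) (.leaf 1832946084765056787356099544820861995513512723457))) (.node (.node (.leaf 1832946095677996567942206492841319662838205679617) (.leaf 1832946095677996567942207246207311955412460276736)) (.node (.leaf 1832946095678014733459487834795602540144979117057) (.leaf 1832946095678014733459488290650487690998320728064)))) (.node (.node (.node (.leaf 1832946105208580762579197310843834441117443032065) (.leaf 1832946105208580762579198064209839702421147256833)) (.node (.leaf 1832946106548424415547936746138036473039543634945) (.leaf 1832946106548424415547937201992936255083917640705))) (.node (.node (.leaf 1833300109118987500196251581921105163928564435968) (.leaf 1833300109118987500196252339565961832967993033729)) (.node (.leaf 1833300120010701162351114706364529029255716702209) (.leaf 1833300120010701162351115464009373334276690971648)))))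 (.node (.node (.node (.node (.leaf 1833300129512025476257251938799202560949858862081) (.leaf 1833300129512025476257252696444059805040852371457)) (.node (.leaf 1833302461150727126303305225992290823214235386881) (.leaf 1833302461150727126303305983635814426753766033408))) (.node (.node (.leaf 1833302472042423922446158058506152883230234676225) (.leaf 1833302472042423922446158816149664122778686587905)) (.node (.leaf 1833302481543723562635133319122793184790587148288) (.leaf 1833302481543723562635134076766317363384895966209)))) (.node (.node (.node (.leaf 1833302896712159377365833585316716387170380187649) (.leaf 1833302896712159377365834342962365689751205874689)) (.node (.leaf 1833302907603831511452919616080827406602332013568) (.leaf 1833302907603831511452920373726464345167927740417))) (.node (.node (.leaf 1833302917105172698969543101578726870938456460289) (.leaf 1833302917105172698969543859224376748546683044864)) (.node (.leaf 1833656832550140696853265737525695608554544171008) (.leaf 1833656832550140696853266188659129064704793676801)))))) (.node (.node (.node (.node (.node (.leaf 1833656844816277409881204711921457907107305653249)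 (.leaf 1833656844816277409881205163054877280707252062208)) (.node (.leaf 1833656855707967706700202011788900648434225155073) (.leaf 1833656855707967706700202462922334673042184635393))) (.node (.node (.leaf 1833659358806449591602507469884657846149147296769) (.leaf 1833659358806449591602507921019424367799293184001)) (.node (.leaf 1833659371072548655320966280968858302642316676096) (.leaf 1833659371072548655320966732103610741737337160705)))) (.node (.node (.node (.leaf 1833659381964263629652656966658227884741339121665) (.leaf 1833659381964263629652657417792994974823433145344)) (.node (.leaf 1833659707255597206446183331619679212904062684161) (.leaf 1833659707255597206446183782752211949123467248640))) (.node (.node (.leaf 1833659719521709265009396571608724628756608059393) (.leaf 1833659719521709265009397022741243282446655458305)) (.node (.leaf 1833659730413386586243510573773268727604727809024) (.leaf 1833659730413386586243511024905802032277008943105))))) (.node (.node (.node (.node (.leaf 0) (.leaf 0)) (.node (.leaf 0) (.leaf 0))) (.node (.node (.leaf 0) (.leaf 0)) (.node (.leaf 0) (.leaf 0))))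 (.node (.node (.node (.leaf 0) (.leaf 0)) (.node (.leaf 0) (.leaf 0))) (.node (.node (.leaf 0) (.leaf 0)) (.node (.leaf 0) (.leaf 0)))))))

/-- An element of the line stabiliser, part 34. -/
def kCodePart34 : Janko1.Tree ℕ := (.node (.node (.node (.node (.node (.node (.leaf 0) (.leaf 0)) (.node (.leaf 0) (.leaf 0))) (.node (.node (.leaf 0) (.leaf 0)) (.node (.leaf 0) (.leaf 0)))) (.node (.node (.node (.leaf 0) (.leaf 0)) (.node (.leaf 0) (.leaf 0))) (.node (.node (.leaf 0) (.leaf 0)) (.node (.leaf 0) (.leaf 0))))) (.node (.node (.node (.node (.leaf 0) (.leaf 0)) (.node (.leaf 0) (.leaf 0))) (.node (.node (.leaf 0) (.leaf 0)) (.node (.leaf 0) (.leaf 0)))) (.node (.node (.node (.leaf 0) (.leaf 0)) (.node (.leaf 0) (.leaf 0))) (.node (.node (.leaf 0) (.leaf 0)) (.node (.leaf 0) (.leaf 0)))))) (.node (.node (.node (.node (.node (.leaf 0) (.leaf 0)) (.node (.leaf 0) (.leaf 0))) (.node (.node (.leaf 0) (.leaf 0)) (.node (.leaf 0) (.leaf 0)))) (.node (.node (.node (.leaf 0) (.leaf 0)) (.node (.leaf 0) (.leaf 0))) (.node (.node (.leaf 0) (.leaf 0)) (.node (.leaf 0) (.leaf 0))))) (.node (.node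 (.node (.node (.leaf 0) (.leaf 0)) (.node (.leaf 0) (.leaf 0))) (.node (.node (.leaf 0) (.leaf 0)) (.node (.leaf 0) (.leaf 0)))) (.node (.node (.node (.leaf 0) (.leaf 0)) (.node (.leaf 0) (.leaf 0))) (.node (.node (.leaf 0) (.leaf 0)) (.node (.leaf 0) (.leaf 0)))))))

/-- An element of the line stabiliser, part 35. -/
def kCodePart35 : Janko1.Tree ℕ := (.node (.node (.node (.node (.node (.node (.leaf 0) (.leaf 0)) (.node (.leaf 0) (.leaf 0))) (.node (.node (.leaf 0) (.leaf 0)) (.node (.leaf 0) (.leaf 0)))) (.node (.node (.node (.leaf 0) (.leaf 0)) (.node (.leaf 0) (.leaf 0))) (.node (.node (.leaf 0) (.leaf 0)) (.node (.leaf 0) (.leaf 0))))) (.node (.node (.node (.node (.leaf 0) (.leaf 0)) (.node (.leaf 0) (.leaf 0))) (.node (.node (.leaf 0) (.leaf 0)) (.node (.leaf 0) (.leaf 0)))) (.node (.node (.node (.leaf 0) (.leaf 0)) (.node (.leaf 0) (.leaf 0))) (.node (.node (.leaf 0) (.leaf 0)) (.node (.leaf 0) (.leaf 0)))))) (.node (.node (.node (.node (.node (.leaf 0) (.leaf 0)) (.node (.leaf 0) (.leaf 0))) (.node (.node (.leaf 0) (.leaf 0)) (.node (.leaf 0) (.leaf 0)))) (.node (.node (.node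 (.leaf 0) (.leaf 0)) (.node (.leaf 0) (.leaf 0))) (.node (.node (.leaf 0) (.leaf 0)) (.node (.leaf 0) (.leaf 0))))) (.node (.node (.node (.node (.leaf 0) (.leaf 0)) (.node (.leaf 0) (.leaf 0))) (.node (.node (.leaf 0) (.leaf 0)) (.node (.leaf 0) (.leaf 0)))) (.node (.node (.node (.leaf 0) (.leaf 0)) (.node (.leaf 0) (.leaf 0))) (.node (.node (.leaf 0) (.leaf 0)) (.node (.leaf 0) (.leaf 0)))))))

/-- An element of the line stabiliser, part 36. -/
def kCodePart36 : Janko1.Tree ℕ := (.node (.node (.node (.node (.node (.node (.leaf 0) (.leaf 0)) (.node (.leaf 0) (.leaf 0))) (.node (.node (.leaf 0) (.leaf 0)) (.node (.leaf 0) (.leaf 0)))) (.node (.node (.node (.leaf 0) (.leaf 0)) (.node (.leaf 0) (.leaf 0))) (.node (.node (.leaf 0) (.leaf 0)) (.node (.leaf 0) (.leaf 0))))) (.node (.node (.node (.node (.leaf 0) (.leaf 0)) (.node (.leaf 0) (.leaf 0))) (.node (.node (.leaf 0) (.leaf 0)) (.node (.leaf 0) (.leaf 0)))) (.node (.node (.node (.leaf 0) (.leaf 0)) (.node (.leaf 0) (.leaf 0))) (.node (.node (.leaf 0) (.leaf 0)) (.node (.leaf 0) (.leaf 0)))))) (.node (.node (.node (.node (.node (.leaf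 0) (.leaf 0)) (.node (.leaf 0) (.leaf 0))) (.node (.node (.leaf 0) (.leaf 0)) (.node (.leaf 0) (.leaf 0)))) (.node (.node (.node (.leaf 0) (.leaf 0)) (.node (.leaf 0) (.leaf 0))) (.node (.node (.leaf 0) (.leaf 0)) (.node (.leaf 0) (.leaf 0))))) (.node (.node (.node (.node (.leaf 0) (.leaf 0)) (.node (.leaf 0) (.leaf 0))) (.node (.node (.leaf 0) (.leaf 0)) (.node (.leaf 0) (.leaf 0)))) (.node (.node (.node (.leaf 0) (.leaf 0)) (.node (.leaf 0) (.leaf 0))) (.node (.node (.leaf 0) (.leaf 0)) (.node (.leaf 0) (.leaf 0)))))))

/-- An element of the line stabiliser, part 37. -/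
def kCodePart37 : Janko1.Tree ℕ := (.node (.node (.node (.node (.node (.node (.leaf 0) (.leaf 0)) (.node (.leaf 0) (.leaf 0))) (.node (.node (.leaf 0) (.leaf 0)) (.node (.leaf 0) (.leaf 0)))) (.node (.node (.node (.leaf 0) (.leaf 0)) (.node (.leaf 0) (.leaf 0))) (.node (.node (.leaf 0) (.leaf 0)) (.node (.leaf 0) (.leaf 0))))) (.node (.node (.node (.node (.leaf 0) (.leaf 0)) (.node (.leaf 0) (.leaf 0))) (.node (.node (.leaf 0) (.leaf 0)) (.node (.leaf 0) (.leaf 0)))) (.node (.node (.node (.leaf 0) (.leaf 0)) (.node (.leaf 0) (.leaf 0))) (.node (.node (.leaf 0) (.leaf 0)) (.node (.leaf 0) (.leaf 0)))))) (.node (.node (.node (.node (.node (.leaf 0) (.leaf 0)) (.node (.leaf 0) (.leaf 0))) (.node (.node (.leaf 0) (.leaf 0)) (.node (.leaf 0) (.leaf 0)))) (.node (.node (.node (.leaf 0) (.leaf 0)) (.node (.leaf 0) (.leaf 0))) (.node (.node (.leaf 0) (.leaf 0)) (.node (.leaf 0) (.leaf 0))))) (.node (.node (.node (.node (.leaf 0) (.leaf 0)) (.node (.leaf 0) (.leaf 0))) (.node (.node (.leaf 0) (.leaf 0)) (.node (.leaf 0) (.leaf 0)))) (.node (.node (.node (.leaf 0) (.leaf 0)) (.node (.leaf 0) (.leaf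 0))) (.node (.node (.leaf 0) (.leaf 0)) (.node (.leaf 0) (.leaf 0)))))))

/-- An element of the line stabiliser, part 38. -/
def kCodePart38 : Janko1.Tree ℕ := (.node (.node (.node (.node (.node (.node (.leaf 0) (.leaf 0)) (.node (.leaf 0) (.leaf 0))) (.node (.node (.leaf 0) (.leaf 0)) (.node (.leaf 0) (.leaf 0)))) (.node (.node (.node (.leaf 0) (.leaf 0)) (.node (.leaf 0) (.leaf 0))) (.node (.node (.leaf 0) (.leaf 0)) (.node (.leaf 0) (.leaf 0))))) (.node (.node (.node (.node (.leaf 0) (.leaf 0)) (.node (.leaf 0) (.leaf 0))) (.node (.node (.leaf 0) (.leaf 0)) (.node (.leaf 0) (.leaf 0)))) (.node (.node (.node (.leaf 0) (.leaf 0)) (.node (.leaf 0) (.leaf 0))) (.node (.node (.leaf 0) (.leaf 0)) (.node (.leaf 0) (.leaf 0)))))) (.node (.node (.node (.node (.node (.leaf 0) (.leaf 0)) (.node (.leaf 0) (.leaf 0))) (.node (.node (.leaf 0) (.leaf 0)) (.node (.leaf 0) (.leaf 0)))) (.node (.node (.node (.leaf 0) (.leaf 0)) (.node (.leaf 0) (.leaf 0))) (.node (.node (.leaf 0) (.leaf 0)) (.node (.leaf 0) (.leaf 0))))) (.node (.node (.node (.node (.leaf 0) (.leaf 0)) (.node (.leaf 0) (.leaf 0)))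 (.node (.node (.leaf 0) (.leaf 0)) (.node (.leaf 0) (.leaf 0)))) (.node (.node (.node (.leaf 0) (.leaf 0)) (.node (.leaf 0) (.leaf 0))) (.node (.node (.leaf 0) (.leaf 0)) (.node (.leaf 0) (.leaf 0)))))))

/-- An element of the line stabiliser, part 39. -/
def kCodePart39 : Janko1.Tree ℕ := (.node (.node (.node (.node (.node (.node (.leaf 0) (.leaf 0)) (.node (.leaf 0) (.leaf 0))) (.node (.node (.leaf 0) (.leaf 0)) (.node (.leaf 0) (.leaf 0)))) (.node (.node (.node (.leaf 0) (.leaf 0)) (.node (.leaf 0) (.leaf 0))) (.node (.node (.leaf 0) (.leaf 0)) (.node (.leaf 0) (.leaf 0))))) (.node (.node (.node (.node (.leaf 0) (.leaf 0)) (.node (.leaf 0) (.leaf 0))) (.node (.node (.leaf 0) (.leaf 0)) (.node (.leaf 0) (.leaf 0)))) (.node (.node (.node (.leaf 0) (.leaf 0)) (.node (.leaf 0) (.leaf 0))) (.node (.node (.leaf 0) (.leaf 0)) (.node (.leaf 0) (.leaf 0)))))) (.node (.node (.node (.node (.node (.leaf 0) (.leaf 0)) (.node (.leaf 0) (.leaf 0))) (.node (.node (.leaf 0) (.leaf 0)) (.node (.leaf 0) (.leaf 0)))) (.node (.node (.node (.leaf 0) (.leaf 0)) (.node (.leaf 0) (.leaf 0))) (.node (.node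 (.leaf 0) (.leaf 0)) (.node (.leaf 0) (.leaf 0))))) (.node (.node (.node (.node (.leaf 0) (.leaf 0)) (.node (.leaf 0) (.leaf 0))) (.node (.node (.leaf 0) (.leaf 0)) (.node (.leaf 0) (.leaf 0)))) (.node (.node (.node (.leaf 0) (.leaf 0)) (.node (.leaf 0) (.leaf 0))) (.node (.node (.leaf 0) (.leaf 0)) (.node (.leaf 0) (.leaf 0)))))))

/-- An element of the line stabiliser, part 40. -/
def kCodePart40 : Janko1.Tree ℕ := (.node (.node (.node (.node (.node (.node (.leaf 0) (.leaf 0)) (.node (.leaf 0) (.leaf 0))) (.node (.node (.leaf 0) (.leaf 0)) (.node (.leaf 0) (.leaf 0)))) (.node (.node (.node (.leaf 0) (.leaf 0)) (.node (.leaf 0) (.leaf 0))) (.node (.node (.leaf 0) (.leaf 0)) (.node (.leaf 0) (.leaf 0))))) (.node (.node (.node (.node (.leaf 0) (.leaf 0)) (.node (.leaf 0) (.leaf 0))) (.node (.node (.leaf 0) (.leaf 0)) (.node (.leaf 0) (.leaf 0)))) (.node (.node (.node (.leaf 0) (.leaf 0)) (.node (.leaf 0) (.leaf 0))) (.node (.node (.leaf 0) (.leaf 0)) (.node (.leaf 0) (.leaf 0)))))) (.node (.node (.node (.node (.node (.leaf 0) (.leaf 0)) (.node (.leaf 0) (.leaf 0))) (.node (.node (.leaf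 0) (.leaf 0)) (.node (.leaf 0) (.leaf 0)))) (.node (.node (.node (.leaf 0) (.leaf 0)) (.node (.leaf 0) (.leaf 0))) (.node (.node (.leaf 0) (.leaf 0)) (.node (.leaf 0) (.leaf 0))))) (.node (.node (.node (.node (.leaf 0) (.leaf 0)) (.node (.leaf 0) (.leaf 0))) (.node (.node (.leaf 0) (.leaf 0)) (.node (.leaf 0) (.leaf 0)))) (.node (.node (.node (.leaf 0) (.leaf 0)) (.node (.leaf 0) (.leaf 0))) (.node (.node (.leaf 0) (.leaf 0)) (.node (.leaf 0) (.leaf 0)))))))

/-- An element of the line stabiliser, part 41. -/
def kCodePart41 : Janko1.Tree ℕ := (.node (.node (.node (.node (.node (.node (.leaf 0) (.leaf 0)) (.node (.leaf 0) (.leaf 0))) (.node (.node (.leaf 0) (.leaf 0)) (.node (.leaf 0) (.leaf 0)))) (.node (.node (.node (.leaf 0) (.leaf 0)) (.node (.leaf 0) (.leaf 0))) (.node (.node (.leaf 0) (.leaf 0)) (.node (.leaf 0) (.leaf 0))))) (.node (.node (.node (.node (.leaf 0) (.leaf 0)) (.node (.leaf 0) (.leaf 0))) (.node (.node (.leaf 0) (.leaf 0)) (.node (.leaf 0) (.leaf 0)))) (.node (.node (.node (.leaf 0) (.leaf 0)) (.node (.leaf 0) (.leaf 0))) (.node (.node (.leaf 0) (.leaf 0)) (.node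 (.leaf 0) (.leaf 0)))))) (.node (.node (.node (.node (.node (.leaf 0) (.leaf 0)) (.node (.leaf 0) (.leaf 0))) (.node (.node (.leaf 0) (.leaf 0)) (.node (.leaf 0) (.leaf 0)))) (.node (.node (.node (.leaf 0) (.leaf 0)) (.node (.leaf 0) (.leaf 0))) (.node (.node (.leaf 0) (.leaf 0)) (.node (.leaf 0) (.leaf 0))))) (.node (.node (.node (.node (.leaf 0) (.leaf 0)) (.node (.leaf 0) (.leaf 0))) (.node (.node (.leaf 0) (.leaf 0)) (.node (.leaf 0) (.leaf 0)))) (.node (.node (.node (.leaf 0) (.leaf 0)) (.node (.leaf 0) (.leaf 0))) (.node (.node (.leaf 0) (.leaf 0)) (.node (.leaf 0) (.leaf 0)))))))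

/-- An element of the line stabiliser, part 42. -/
def kCodePart42 : Janko1.Tree ℕ := (.node (.node (.node (.node (.node (.node (.leaf 0) (.leaf 0)) (.node (.leaf 0) (.leaf 0))) (.node (.node (.leaf 0) (.leaf 0)) (.node (.leaf 0) (.leaf 0)))) (.node (.node (.node (.leaf 0) (.leaf 0)) (.node (.leaf 0) (.leaf 0))) (.node (.node (.leaf 0) (.leaf 0)) (.node (.leaf 0) (.leaf 0))))) (.node (.node (.node (.node (.leaf 0) (.leaf 0)) (.node (.leaf 0) (.leaf 0))) (.node (.node (.leaf 0) (.leaf 0)) (.node (.leaf 0) (.leaf 0)))) (.node (.node (.node (.leaf 0) (.leaf 0)) (.node (.leaf 0) (.leaf 0))) (.node (.node (.leaf 0) (.leaf 0)) (.node (.leaf 0) (.leaf 0)))))) (.node (.node (.node (.node (.node (.leaf 0) (.leaf 0)) (.node (.leaf 0) (.leaf 0))) (.node (.node (.leaf 0) (.leaf 0)) (.node (.leaf 0) (.leaf 0)))) (.node (.node (.node (.leaf 0) (.leaf 0)) (.node (.leaf 0) (.leaf 0))) (.node (.node (.leaf 0) (.leaf 0)) (.node (.leaf 0) (.leaf 0))))) (.node (.node (.node (.node (.leaf 0) (.leaf 0)) (.node (.leaf 0) (.leaf 0))) (.node (.node (.leaf 0) (.leaf 0)) (.node (.leaf 0) (.leaf 0)))) (.node (.node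 (.node (.leaf 0) (.leaf 0)) (.node (.leaf 0) (.leaf 0))) (.node (.node (.leaf 0) (.leaf 0)) (.node (.leaf 0) (.leaf 0)))))))

/-- An element of the line stabiliser, part 43. -/
def kCodePart43 : Janko1.Tree ℕ := (.node (.node (.node (.node (.node (.node (.leaf 0) (.leaf 0)) (.node (.leaf 0) (.leaf 0))) (.node (.node (.leaf 0) (.leaf 0)) (.node (.leaf 0) (.leaf 0)))) (.node (.node (.node (.leaf 0) (.leaf 0)) (.node (.leaf 0) (.leaf 0))) (.node (.node (.leaf 0) (.leaf 0)) (.node (.leaf 0) (.leaf 0))))) (.node (.node (.node (.node (.leaf 0) (.leaf 0)) (.node (.leaf 0) (.leaf 0))) (.node (.node (.leaf 0) (.leaf 0)) (.node (.leaf 0) (.leaf 0)))) (.node (.node (.node (.leaf 0) (.leaf 0)) (.node (.leaf 0) (.leaf 0))) (.node (.node (.leaf 0) (.leaf 0)) (.node (.leaf 0) (.leaf 0)))))) (.node (.node (.node (.node (.node (.leaf 0) (.leaf 0)) (.node (.leaf 0) (.leaf 0))) (.node (.node (.leaf 0) (.leaf 0)) (.node (.leaf 0) (.leaf 0)))) (.node (.node (.node (.leaf 0) (.leaf 0)) (.node (.leaf 0) (.leaf 0))) (.node (.node (.leaf 0) (.leaf 0)) (.node (.leaf 0) (.leaf 0))))) (.node (.node (.node (.node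 (.leaf 0) (.leaf 0)) (.node (.leaf 0) (.leaf 0))) (.node (.node (.leaf 0) (.leaf 0)) (.node (.leaf 0) (.leaf 0)))) (.node (.node (.node (.leaf 0) (.leaf 0)) (.node (.leaf 0) (.leaf 0))) (.node (.node (.leaf 0) (.leaf 0)) (.node (.leaf 0) (.leaf 0)))))))

/-- An element of the line stabiliser, part 44. -/
def kCodePart44 : Janko1.Tree ℕ := (.node (.node (.node (.node (.node (.node (.leaf 0) (.leaf 0)) (.node (.leaf 0) (.leaf 0))) (.node (.node (.leaf 0) (.leaf 0)) (.node (.leaf 0) (.leaf 0)))) (.node (.node (.node (.leaf 0) (.leaf 0)) (.node (.leaf 0) (.leaf 0))) (.node (.node (.leaf 0) (.leaf 0)) (.node (.leaf 0) (.leaf 0))))) (.node (.node (.node (.node (.leaf 0) (.leaf 0)) (.node (.leaf 0) (.leaf 0))) (.node (.node (.leaf 0) (.leaf 0)) (.node (.leaf 0) (.leaf 0)))) (.node (.node (.node (.leaf 0) (.leaf 0)) (.node (.leaf 0) (.leaf 0))) (.node (.node (.leaf 0) (.leaf 0)) (.node (.leaf 0) (.leaf 0)))))) (.node (.node (.node (.node (.node (.leaf 0) (.leaf 0)) (.node (.leaf 0) (.leaf 0))) (.node (.node (.leaf 0) (.leaf 0)) (.node (.leaf 0) (.leaf 0)))) (.node (.node (.node (.leaf 0) (.leaf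 0)) (.node (.leaf 0) (.leaf 0))) (.node (.node (.leaf 0) (.leaf 0)) (.node (.leaf 0) (.leaf 0))))) (.node (.node (.node (.node (.leaf 0) (.leaf 0)) (.node (.leaf 0) (.leaf 0))) (.node (.node (.leaf 0) (.leaf 0)) (.node (.leaf 0) (.leaf 0)))) (.node (.node (.node (.leaf 0) (.leaf 0)) (.node (.leaf 0) (.leaf 0))) (.node (.node (.leaf 0) (.leaf 0)) (.node (.leaf 0) (.leaf 0)))))))

/-- An element of the line stabiliser, part 45. -/
def kCodePart45 : Janko1.Tree ℕ := (.node (.node (.node (.node (.node (.node (.leaf 0) (.leaf 0)) (.node (.leaf 0) (.leaf 0))) (.node (.node (.leaf 0) (.leaf 0)) (.node (.leaf 0) (.leaf 0)))) (.node (.node (.node (.leaf 0) (.leaf 0)) (.node (.leaf 0) (.leaf 0))) (.node (.node (.leaf 0) (.leaf 0)) (.node (.leaf 0) (.leaf 0))))) (.node (.node (.node (.node (.leaf 0) (.leaf 0)) (.node (.leaf 0) (.leaf 0))) (.node (.node (.leaf 0) (.leaf 0)) (.node (.leaf 0) (.leaf 0)))) (.node (.node (.node (.leaf 0) (.leaf 0)) (.node (.leaf 0) (.leaf 0))) (.node (.node (.leaf 0) (.leaf 0)) (.node (.leaf 0) (.leaf 0)))))) (.node (.node (.node (.node (.node (.leaf 0) (.leaf 0)) (.node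 (.leaf 0) (.leaf 0))) (.node (.node (.leaf 0) (.leaf 0)) (.node (.leaf 0) (.leaf 0)))) (.node (.node (.node (.leaf 0) (.leaf 0)) (.node (.leaf 0) (.leaf 0))) (.node (.node (.leaf 0) (.leaf 0)) (.node (.leaf 0) (.leaf 0))))) (.node (.node (.node (.node (.leaf 0) (.leaf 0)) (.node (.leaf 0) (.leaf 0))) (.node (.node (.leaf 0) (.leaf 0)) (.node (.leaf 0) (.leaf 0)))) (.node (.node (.node (.leaf 0) (.leaf 0)) (.node (.leaf 0) (.leaf 0))) (.node (.node (.leaf 0) (.leaf 0)) (.node (.leaf 0) (.leaf 0)))))))

/-- An element of the line stabiliser, part 46. -/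
def kCodePart46 : Janko1.Tree ℕ := (.node (.node (.node (.node (.node (.node (.leaf 0) (.leaf 0)) (.node (.leaf 0) (.leaf 0))) (.node (.node (.leaf 0) (.leaf 0)) (.node (.leaf 0) (.leaf 0)))) (.node (.node (.node (.leaf 0) (.leaf 0)) (.node (.leaf 0) (.leaf 0))) (.node (.node (.leaf 0) (.leaf 0)) (.node (.leaf 0) (.leaf 0))))) (.node (.node (.node (.node (.leaf 0) (.leaf 0)) (.node (.leaf 0) (.leaf 0))) (.node (.node (.leaf 0) (.leaf 0)) (.node (.leaf 0) (.leaf 0)))) (.node (.node (.node (.leaf 0) (.leaf 0)) (.node (.leaf 0) (.leaf 0))) (.node (.node (.leaf 0) (.leaf 0)) (.node (.leaf 0) (.leaf 0)))))) (.node (.node (.node (.node (.node (.leaf 0) (.leaf 0)) (.node (.leaf 0) (.leaf 0))) (.node (.node (.leaf 0) (.leaf 0)) (.node (.leaf 0) (.leaf 0)))) (.node (.node (.node (.leaf 0) (.leaf 0)) (.node (.leaf 0) (.leaf 0))) (.node (.node (.leaf 0) (.leaf 0)) (.node (.leaf 0) (.leaf 0))))) (.node (.node (.node (.node (.leaf 0) (.leaf 0)) (.node (.leaf 0) (.leaf 0))) (.node (.node (.leaf 0) (.leaf 0)) (.node (.leaf 0) (.leaf 0)))) (.node (.node (.node (.leaf 0) (.leaf 0)) (.node (.leaf 0) (.leaf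 0))) (.node (.node (.leaf 0) (.leaf 0)) (.node (.leaf 0) (.leaf 0)))))))

/-- An element of the line stabiliser, part 47. -/
def kCodePart47 : Janko1.Tree ℕ := (.node (.node (.node (.node (.node (.node (.leaf 0) (.leaf 0)) (.node (.leaf 0) (.leaf 0))) (.node (.node (.leaf 0) (.leaf 0)) (.node (.leaf 0) (.leaf 0)))) (.node (.node (.node (.leaf 0) (.leaf 0)) (.node (.leaf 0) (.leaf 0))) (.node (.node (.leaf 0) (.leaf 0)) (.node (.leaf 0) (.leaf 0))))) (.node (.node (.node (.node (.leaf 0) (.leaf 0)) (.node (.leaf 0) (.leaf 0))) (.node (.node (.leaf 0) (.leaf 0)) (.node (.leaf 0) (.leaf 0)))) (.node (.node (.node (.leaf 0) (.leaf 0)) (.node (.leaf 0) (.leaf 0))) (.node (.node (.leaf 0) (.leaf 0)) (.node (.leaf 0) (.leaf 0)))))) (.node (.node (.node (.node (.node (.leaf 0) (.leaf 0)) (.node (.leaf 0) (.leaf 0))) (.node (.node (.leaf 0) (.leaf 0)) (.node (.leaf 0) (.leaf 0)))) (.node (.node (.node (.leaf 0) (.leaf 0)) (.node (.leaf 0) (.leaf 0))) (.node (.node (.leaf 0) (.leaf 0)) (.node (.leaf 0) (.leaf 0))))) (.node (.node (.node (.node (.leaf 0) (.leaf 0)) (.node (.leaf 0) (.leaf 0)))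 (.node (.node (.leaf 0) (.leaf 0)) (.node (.leaf 0) (.leaf 0)))) (.node (.node (.node (.leaf 0) (.leaf 0)) (.node (.leaf 0) (.leaf 0))) (.node (.node (.leaf 0) (.leaf 0)) (.node (.leaf 0) (.leaf 0)))))))

/-- An element of the line stabiliser, part 48. -/
def kCodePart48 : Janko1.Tree ℕ := (.node (.node (.node (.node (.node (.node (.leaf 0) (.leaf 0)) (.node (.leaf 0) (.leaf 0))) (.node (.node (.leaf 0) (.leaf 0)) (.node (.leaf 0) (.leaf 0)))) (.node (.node (.node (.leaf 0) (.leaf 0)) (.node (.leaf 0) (.leaf 0))) (.node (.node (.leaf 0) (.leaf 0)) (.node (.leaf 0) (.leaf 0))))) (.node (.node (.node (.node (.leaf 0) (.leaf 0)) (.node (.leaf 0) (.leaf 0))) (.node (.node (.leaf 0) (.leaf 0)) (.node (.leaf 0) (.leaf 0)))) (.node (.node (.node (.leaf 0) (.leaf 0)) (.node (.leaf 0) (.leaf 0))) (.node (.node (.leaf 0) (.leaf 0)) (.node (.leaf 0) (.leaf 0)))))) (.node (.node (.node (.node (.node (.leaf 0) (.leaf 0)) (.node (.leaf 0) (.leaf 0))) (.node (.node (.leaf 0) (.leaf 0)) (.node (.leaf 0) (.leaf 0)))) (.node (.node (.node (.leaf 0) (.leaf 0)) (.node (.leaf 0) (.leaf 0))) (.node (.node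 (.leaf 0) (.leaf 0)) (.node (.leaf 0) (.leaf 0))))) (.node (.node (.node (.node (.leaf 0) (.leaf 0)) (.node (.leaf 0) (.leaf 0))) (.node (.node (.leaf 0) (.leaf 0)) (.node (.leaf 0) (.leaf 0)))) (.node (.node (.node (.leaf 0) (.leaf 0)) (.node (.leaf 0) (.leaf 0))) (.node (.node (.leaf 0) (.leaf 0)) (.node (.leaf 0) (.leaf 0)))))))

/-- An element of the line stabiliser, part 49. -/
def kCodePart49 : Janko1.Tree ℕ := (.node (.node (.node (.node (.node (.node (.leaf 0) (.leaf 0)) (.node (.leaf 0) (.leaf 0))) (.node (.node (.leaf 0) (.leaf 0)) (.node (.leaf 0) (.leaf 0)))) (.node (.node (.node (.leaf 0) (.leaf 0)) (.node (.leaf 0) (.leaf 0))) (.node (.node (.leaf 0) (.leaf 0)) (.node (.leaf 0) (.leaf 0))))) (.node (.node (.node (.node (.leaf 0) (.leaf 0)) (.node (.leaf 0) (.leaf 0))) (.node (.node (.leaf 0) (.leaf 0)) (.node (.leaf 0) (.leaf 0)))) (.node (.node (.node (.leaf 0) (.leaf 0)) (.node (.leaf 0) (.leaf 0))) (.node (.node (.leaf 0) (.leaf 0)) (.node (.leaf 0) (.leaf 0)))))) (.node (.node (.node (.node (.node (.leaf 0) (.leaf 0)) (.node (.leaf 0) (.leaf 0))) (.node (.node (.leaf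 0) (.leaf 0)) (.node (.leaf 0) (.leaf 0)))) (.node (.node (.node (.leaf 0) (.leaf 0)) (.node (.leaf 0) (.leaf 0))) (.node (.node (.leaf 0) (.leaf 0)) (.node (.leaf 0) (.leaf 0))))) (.node (.node (.node (.node (.leaf 0) (.leaf 0)) (.node (.leaf 0) (.leaf 0))) (.node (.node (.leaf 0) (.leaf 0)) (.node (.leaf 0) (.leaf 0)))) (.node (.node (.node (.leaf 0) (.leaf 0)) (.node (.leaf 0) (.leaf 0))) (.node (.node (.leaf 0) (.leaf 0)) (.node (.leaf 0) (.leaf 0)))))))

/-- An element of the line stabiliser, part 50. -/
def kCodePart50 : Janko1.Tree ℕ := (.node (.node (.node (.node (.node (.node (.leaf 0) (.leaf 0)) (.node (.leaf 0) (.leaf 0))) (.node (.node (.leaf 0) (.leaf 0)) (.node (.leaf 0) (.leaf 0)))) (.node (.node (.node (.leaf 0) (.leaf 0)) (.node (.leaf 0) (.leaf 0))) (.node (.node (.leaf 0) (.leaf 0)) (.node (.leaf 0) (.leaf 0))))) (.node (.node (.node (.node (.leaf 0) (.leaf 0)) (.node (.leaf 0) (.leaf 0))) (.node (.node (.leaf 0) (.leaf 0)) (.node (.leaf 0) (.leaf 0)))) (.node (.node (.node (.leaf 0) (.leaf 0)) (.node (.leaf 0) (.leaf 0))) (.node (.node (.leaf 0) (.leaf 0)) (.node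 (.leaf 0) (.leaf 0)))))) (.node (.node (.node (.node (.node (.leaf 0) (.leaf 0)) (.node (.leaf 0) (.leaf 0))) (.node (.node (.leaf 0) (.leaf 0)) (.node (.leaf 0) (.leaf 0)))) (.node (.node (.node (.leaf 0) (.leaf 0)) (.node (.leaf 0) (.leaf 0))) (.node (.node (.leaf 0) (.leaf 0)) (.node (.leaf 0) (.leaf 0))))) (.node (.node (.node (.node (.leaf 0) (.leaf 0)) (.node (.leaf 0) (.leaf 0))) (.node (.node (.leaf 0) (.leaf 0)) (.node (.leaf 0) (.leaf 0)))) (.node (.node (.node (.leaf 0) (.leaf 0)) (.node (.leaf 0) (.leaf 0))) (.node (.node (.leaf 0) (.leaf 0)) (.node (.leaf 0) (.leaf 0)))))))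

/-- An element of the line stabiliser, part 51. -/
def kCodePart51 : Janko1.Tree ℕ := (.node (.node (.node (.node (.node (.node (.leaf 0) (.leaf 0)) (.node (.leaf 0) (.leaf 0))) (.node (.node (.leaf 0) (.leaf 0)) (.node (.leaf 0) (.leaf 0)))) (.node (.node (.node (.leaf 0) (.leaf 0)) (.node (.leaf 0) (.leaf 0))) (.node (.node (.leaf 0) (.leaf 0)) (.node (.leaf 0) (.leaf 0))))) (.node (.node (.node (.node (.leaf 0) (.leaf 0)) (.node (.leaf 0) (.leaf 0))) (.node (.node (.leaf 0) (.leaf 0)) (.node (.leaf 0) (.leaf 0)))) (.node (.node (.node (.leaf 0) (.leaf 0)) (.node (.leaf 0) (.leaf 0))) (.node (.node (.leaf 0) (.leaf 0)) (.node (.leaf 0) (.leaf 0)))))) (.node (.node (.node (.node (.node (.leaf 0) (.leaf 0)) (.node (.leaf 0) (.leaf 0))) (.node (.node (.leaf 0) (.leaf 0)) (.node (.leaf 0) (.leaf 0)))) (.node (.node (.node (.leaf 0) (.leaf 0)) (.node (.leaf 0) (.leaf 0))) (.node (.node (.leaf 0) (.leaf 0)) (.node (.leaf 0) (.leaf 0))))) (.node (.node (.node (.node (.leaf 0) (.leaf 0)) (.node (.leaf 0) (.leaf 0))) (.node (.node (.leaf 0) (.leaf 0)) (.node (.leaf 0) (.leaf 0)))) (.node (.node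 (.node (.leaf 0) (.leaf 0)) (.node (.leaf 0) (.leaf 0))) (.node (.node (.leaf 0) (.leaf 0)) (.node (.leaf 0) (.leaf 0)))))))

/-- An element of the line stabiliser, part 52. -/
def kCodePart52 : Janko1.Tree ℕ := (.node (.node (.node (.node (.node (.node (.leaf 0) (.leaf 0)) (.node (.leaf 0) (.leaf 0))) (.node (.node (.leaf 0) (.leaf 0)) (.node (.leaf 0) (.leaf 0)))) (.node (.node (.node (.leaf 0) (.leaf 0)) (.node (.leaf 0) (.leaf 0))) (.node (.node (.leaf 0) (.leaf 0)) (.node (.leaf 0) (.leaf 0))))) (.node (.node (.node (.node (.leaf 0) (.leaf 0)) (.node (.leaf 0) (.leaf 0))) (.node (.node (.leaf 0) (.leaf 0)) (.node (.leaf 0) (.leaf 0)))) (.node (.node (.node (.leaf 0) (.leaf 0)) (.node (.leaf 0) (.leaf 0))) (.node (.node (.leaf 0) (.leaf 0)) (.node (.leaf 0) (.leaf 0)))))) (.node (.node (.node (.node (.node (.leaf 0) (.leaf 0)) (.node (.leaf 0) (.leaf 0))) (.node (.node (.leaf 0) (.leaf 0)) (.node (.leaf 0) (.leaf 0)))) (.node (.node (.node (.leaf 0) (.leaf 0)) (.node (.leaf 0) (.leaf 0))) (.node (.node (.leaf 0) (.leaf 0)) (.node (.leaf 0) (.leaf 0))))) (.node (.node (.node (.node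 (.leaf 0) (.leaf 0)) (.node (.leaf 0) (.leaf 0))) (.node (.node (.leaf 0) (.leaf 0)) (.node (.leaf 0) (.leaf 0)))) (.node (.node (.node (.leaf 0) (.leaf 0)) (.node (.leaf 0) (.leaf 0))) (.node (.node (.leaf 0) (.leaf 0)) (.node (.leaf 0) (.leaf 0)))))))

/-- An element of the line stabiliser, part 53. -/
def kCodePart53 : Janko1.Tree ℕ := (.node (.node (.node (.node (.node (.node (.leaf 0) (.leaf 0)) (.node (.leaf 0) (.leaf 0))) (.node (.node (.leaf 0) (.leaf 0)) (.node (.leaf 0) (.leaf 0)))) (.node (.node (.node (.leaf 0) (.leaf 0)) (.node (.leaf 0) (.leaf 0))) (.node (.node (.leaf 0) (.leaf 0)) (.node (.leaf 0) (.leaf 0))))) (.node (.node (.node (.node (.leaf 0) (.leaf 0)) (.node (.leaf 0) (.leaf 0))) (.node (.node (.leaf 0) (.leaf 0)) (.node (.leaf 0) (.leaf 0)))) (.node (.node (.node (.leaf 0) (.leaf 0)) (.node (.leaf 0) (.leaf 0))) (.node (.node (.leaf 0) (.leaf 0)) (.node (.leaf 0) (.leaf 0)))))) (.node (.node (.node (.node (.node (.leaf 0) (.leaf 0)) (.node (.leaf 0) (.leaf 0))) (.node (.node (.leaf 0) (.leaf 0)) (.node (.leaf 0) (.leaf 0)))) (.node (.node (.node (.leaf 0) (.leaf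 0)) (.node (.leaf 0) (.leaf 0))) (.node (.node (.leaf 0) (.leaf 0)) (.node (.leaf 0) (.leaf 0))))) (.node (.node (.node (.node (.leaf 0) (.leaf 0)) (.node (.leaf 0) (.leaf 0))) (.node (.node (.leaf 0) (.leaf 0)) (.node (.leaf 0) (.leaf 0)))) (.node (.node (.node (.leaf 0) (.leaf 0)) (.node (.leaf 0) (.leaf 0))) (.node (.node (.leaf 0) (.leaf 0)) (.node (.leaf 0) (.leaf 0)))))))

/-- An element of the line stabiliser, part 54. -/
def kCodePart54 : Janko1.Tree ℕ := (.node (.node (.node (.node (.node (.node (.leaf 0) (.leaf 0)) (.node (.leaf 0) (.leaf 0))) (.node (.node (.leaf 0) (.leaf 0)) (.node (.leaf 0) (.leaf 0)))) (.node (.node (.node (.leaf 0) (.leaf 0)) (.node (.leaf 0) (.leaf 0))) (.node (.node (.leaf 0) (.leaf 0)) (.node (.leaf 0) (.leaf 0))))) (.node (.node (.node (.node (.leaf 0) (.leaf 0)) (.node (.leaf 0) (.leaf 0))) (.node (.node (.leaf 0) (.leaf 0)) (.node (.leaf 0) (.leaf 0)))) (.node (.node (.node (.leaf 0) (.leaf 0)) (.node (.leaf 0) (.leaf 0))) (.node (.node (.leaf 0) (.leaf 0)) (.node (.leaf 0) (.leaf 0)))))) (.node (.node (.node (.node (.node (.leaf 0) (.leaf 0)) (.node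 (.leaf 0) (.leaf 0))) (.node (.node (.leaf 0) (.leaf 0)) (.node (.leaf 0) (.leaf 0)))) (.node (.node (.node (.leaf 0) (.leaf 0)) (.node (.leaf 0) (.leaf 0))) (.node (.node (.leaf 0) (.leaf 0)) (.node (.leaf 0) (.leaf 0))))) (.node (.node (.node (.node (.leaf 0) (.leaf 0)) (.node (.leaf 0) (.leaf 0))) (.node (.node (.leaf 0) (.leaf 0)) (.node (.leaf 0) (.leaf 0)))) (.node (.node (.node (.leaf 0) (.leaf 0)) (.node (.leaf 0) (.leaf 0))) (.node (.node (.leaf 0) (.leaf 0)) (.node (.leaf 0) (.leaf 0)))))))

/-- An element of the line stabiliser, part 55. -/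
def kCodePart55 : Janko1.Tree ℕ := (.node (.node (.node (.node (.node (.node (.leaf 0) (.leaf 0)) (.node (.leaf 0) (.leaf 0))) (.node (.node (.leaf 0) (.leaf 0)) (.node (.leaf 0) (.leaf 0)))) (.node (.node (.node (.leaf 0) (.leaf 0)) (.node (.leaf 0) (.leaf 0))) (.node (.node (.leaf 0) (.leaf 0)) (.node (.leaf 0) (.leaf 0))))) (.node (.node (.node (.node (.leaf 0) (.leaf 0)) (.node (.leaf 0) (.leaf 0))) (.node (.node (.leaf 0) (.leaf 0)) (.node (.leaf 0) (.leaf 0)))) (.node (.node (.node (.leaf 0) (.leaf 0)) (.node (.leaf 0) (.leaf 0))) (.node (.node (.leaf 0) (.leaf 0)) (.node (.leaf 0) (.leaf 0)))))) (.node (.node (.node (.node (.node (.leaf 0) (.leaf 0)) (.node (.leaf 0) (.leaf 0))) (.node (.node (.leaf 0) (.leaf 0)) (.node (.leaf 0) (.leaf 0)))) (.node (.node (.node (.leaf 0) (.leaf 0)) (.node (.leaf 0) (.leaf 0))) (.node (.node (.leaf 0) (.leaf 0)) (.node (.leaf 0) (.leaf 0))))) (.node (.node (.node (.node (.leaf 0) (.leaf 0)) (.node (.leaf 0) (.leaf 0))) (.node (.node (.leaf 0) (.leaf 0)) (.node (.leaf 0) (.leaf 0)))) (.node (.node (.node (.leaf 0) (.leaf 0)) (.node (.leaf 0) (.leaf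 0))) (.node (.node (.leaf 0) (.leaf 0)) (.node (.leaf 0) (.leaf 0)))))))

/-- An element of the line stabiliser, part 56. -/
def kCodePart56 : Janko1.Tree ℕ := (.node (.node (.node (.node (.node (.node (.leaf 0) (.leaf 0)) (.node (.leaf 0) (.leaf 0))) (.node (.node (.leaf 0) (.leaf 0)) (.node (.leaf 0) (.leaf 0)))) (.node (.node (.node (.leaf 0) (.leaf 0)) (.node (.leaf 0) (.leaf 0))) (.node (.node (.leaf 0) (.leaf 0)) (.node (.leaf 0) (.leaf 0))))) (.node (.node (.node (.node (.leaf 0) (.leaf 0)) (.node (.leaf 0) (.leaf 0))) (.node (.node (.leaf 0) (.leaf 0)) (.node (.leaf 0) (.leaf 0)))) (.node (.node (.node (.leaf 0) (.leaf 0)) (.node (.leaf 0) (.leaf 0))) (.node (.node (.leaf 0) (.leaf 0)) (.node (.leaf 0) (.leaf 0)))))) (.node (.node (.node (.node (.node (.leaf 0) (.leaf 0)) (.node (.leaf 0) (.leaf 0))) (.node (.node (.leaf 0) (.leaf 0)) (.node (.leaf 0) (.leaf 0)))) (.node (.node (.node (.leaf 0) (.leaf 0)) (.node (.leaf 0) (.leaf 0))) (.node (.node (.leaf 0) (.leaf 0)) (.node (.leaf 0) (.leaf 0))))) (.node (.node (.node (.node (.leaf 0) (.leaf 0)) (.node (.leaf 0) (.leaf 0)))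 (.node (.node (.leaf 0) (.leaf 0)) (.node (.leaf 0) (.leaf 0)))) (.node (.node (.node (.leaf 0) (.leaf 0)) (.node (.leaf 0) (.leaf 0))) (.node (.node (.leaf 0) (.leaf 0)) (.node (.leaf 0) (.leaf 0)))))))

/-- An element of the line stabiliser, part 57. -/
def kCodePart57 : Janko1.Tree ℕ := (.node (.node (.node (.node (.node (.node (.leaf 0) (.leaf 0)) (.node (.leaf 0) (.leaf 0))) (.node (.node (.leaf 0) (.leaf 0)) (.node (.leaf 0) (.leaf 0)))) (.node (.node (.node (.leaf 0) (.leaf 0)) (.node (.leaf 0) (.leaf 0))) (.node (.node (.leaf 0) (.leaf 0)) (.node (.leaf 0) (.leaf 0))))) (.node (.node (.node (.node (.leaf 0) (.leaf 0)) (.node (.leaf 0) (.leaf 0))) (.node (.node (.leaf 0) (.leaf 0)) (.node (.leaf 0) (.leaf 0)))) (.node (.node (.node (.leaf 0) (.leaf 0)) (.node (.leaf 0) (.leaf 0))) (.node (.node (.leaf 0) (.leaf 0)) (.node (.leaf 0) (.leaf 0)))))) (.node (.node (.node (.node (.node (.leaf 0) (.leaf 0)) (.node (.leaf 0) (.leaf 0))) (.node (.node (.leaf 0) (.leaf 0)) (.node (.leaf 0) (.leaf 0)))) (.node (.node (.node (.leaf 0) (.leaf 0)) (.node (.leaf 0) (.leaf 0))) (.node (.node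 (.leaf 0) (.leaf 0)) (.node (.leaf 0) (.leaf 0))))) (.node (.node (.node (.node (.leaf 0) (.leaf 0)) (.node (.leaf 0) (.leaf 0))) (.node (.node (.leaf 0) (.leaf 0)) (.node (.leaf 0) (.leaf 0)))) (.node (.node (.node (.leaf 0) (.leaf 0)) (.node (.leaf 0) (.leaf 0))) (.node (.node (.leaf 0) (.leaf 0)) (.node (.leaf 0) (.leaf 0)))))))

/-- An element of the line stabiliser, part 58. -/
def kCodePart58 : Janko1.Tree ℕ := (.node (.node (.node (.node (.node (.node (.leaf 0) (.leaf 0)) (.node (.leaf 0) (.leaf 0))) (.node (.node (.leaf 0) (.leaf 0)) (.node (.leaf 0) (.leaf 0)))) (.node (.node (.node (.leaf 0) (.leaf 0)) (.node (.leaf 0) (.leaf 0))) (.node (.node (.leaf 0) (.leaf 0)) (.node (.leaf 0) (.leaf 0))))) (.node (.node (.node (.node (.leaf 0) (.leaf 0)) (.node (.leaf 0) (.leaf 0))) (.node (.node (.leaf 0) (.leaf 0)) (.node (.leaf 0) (.leaf 0)))) (.node (.node (.node (.leaf 0) (.leaf 0)) (.node (.leaf 0) (.leaf 0))) (.node (.node (.leaf 0) (.leaf 0)) (.node (.leaf 0) (.leaf 0)))))) (.node (.node (.node (.node (.node (.leaf 0) (.leaf 0)) (.node (.leaf 0) (.leaf 0))) (.node (.node (.leaf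 0) (.leaf 0)) (.node (.leaf 0) (.leaf 0)))) (.node (.node (.node (.leaf 0) (.leaf 0)) (.node (.leaf 0) (.leaf 0))) (.node (.node (.leaf 0) (.leaf 0)) (.node (.leaf 0) (.leaf 0))))) (.node (.node (.node (.node (.leaf 0) (.leaf 0)) (.node (.leaf 0) (.leaf 0))) (.node (.node (.leaf 0) (.leaf 0)) (.node (.leaf 0) (.leaf 0)))) (.node (.node (.node (.leaf 0) (.leaf 0)) (.node (.leaf 0) (.leaf 0))) (.node (.node (.leaf 0) (.leaf 0)) (.node (.leaf 0) (.leaf 0)))))))

/-- An element of the line stabiliser, part 59. -/
def kCodePart59 : Janko1.Tree ℕ := (.node (.node (.node (.node (.node (.node (.leaf 0) (.leaf 0)) (.node (.leaf 0) (.leaf 0))) (.node (.node (.leaf 0) (.leaf 0)) (.node (.leaf 0) (.leaf 0)))) (.node (.node (.node (.leaf 0) (.leaf 0)) (.node (.leaf 0) (.leaf 0))) (.node (.node (.leaf 0) (.leaf 0)) (.node (.leaf 0) (.leaf 0))))) (.node (.node (.node (.node (.leaf 0) (.leaf 0)) (.node (.leaf 0) (.leaf 0))) (.node (.node (.leaf 0) (.leaf 0)) (.node (.leaf 0) (.leaf 0)))) (.node (.node (.node (.leaf 0) (.leaf 0)) (.node (.leaf 0) (.leaf 0))) (.node (.node (.leaf 0) (.leaf 0)) (.node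 (.leaf 0) (.leaf 0)))))) (.node (.node (.node (.node (.node (.leaf 0) (.leaf 0)) (.node (.leaf 0) (.leaf 0))) (.node (.node (.leaf 0) (.leaf 0)) (.node (.leaf 0) (.leaf 0)))) (.node (.node (.node (.leaf 0) (.leaf 0)) (.node (.leaf 0) (.leaf 0))) (.node (.node (.leaf 0) (.leaf 0)) (.node (.leaf 0) (.leaf 0))))) (.node (.node (.node (.node (.leaf 0) (.leaf 0)) (.node (.leaf 0) (.leaf 0))) (.node (.node (.leaf 0) (.leaf 0)) (.node (.leaf 0) (.leaf 0)))) (.node (.node (.node (.leaf 0) (.leaf 0)) (.node (.leaf 0) (.leaf 0))) (.node (.node (.leaf 0) (.leaf 0)) (.node (.leaf 0) (.leaf 0)))))))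

/-- An element of the line stabiliser, part 60. -/
def kCodePart60 : Janko1.Tree ℕ := (.node (.node (.node (.node (.node (.node (.leaf 0) (.leaf 0)) (.node (.leaf 0) (.leaf 0))) (.node (.node (.leaf 0) (.leaf 0)) (.node (.leaf 0) (.leaf 0)))) (.node (.node (.node (.leaf 0) (.leaf 0)) (.node (.leaf 0) (.leaf 0))) (.node (.node (.leaf 0) (.leaf 0)) (.node (.leaf 0) (.leaf 0))))) (.node (.node (.node (.node (.leaf 0) (.leaf 0)) (.node (.leaf 0) (.leaf 0))) (.node (.node (.leaf 0) (.leaf 0)) (.node (.leaf 0) (.leaf 0)))) (.node (.node (.node (.leaf 0) (.leaf 0)) (.node (.leaf 0) (.leaf 0))) (.node (.node (.leaf 0) (.leaf 0)) (.node (.leaf 0) (.leaf 0)))))) (.node (.node (.node (.node (.node (.leaf 0) (.leaf 0)) (.node (.leaf 0) (.leaf 0))) (.node (.node (.leaf 0) (.leaf 0)) (.node (.leaf 0) (.leaf 0)))) (.node (.node (.node (.leaf 0) (.leaf 0)) (.node (.leaf 0) (.leaf 0))) (.node (.node (.leaf 0) (.leaf 0)) (.node (.leaf 0) (.leaf 0))))) (.node (.node (.node (.node (.leaf 0) (.leaf 0)) (.node (.leaf 0) (.leaf 0))) (.node (.node (.leaf 0) (.leaf 0)) (.node (.leaf 0) (.leaf 0)))) (.node (.node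 (.node (.leaf 0) (.leaf 0)) (.node (.leaf 0) (.leaf 0))) (.node (.node (.leaf 0) (.leaf 0)) (.node (.leaf 0) (.leaf 0)))))))

/-- An element of the line stabiliser, part 61. -/
def kCodePart61 : Janko1.Tree ℕ := (.node (.node (.node (.node (.node (.node (.leaf 0) (.leaf 0)) (.node (.leaf 0) (.leaf 0))) (.node (.node (.leaf 0) (.leaf 0)) (.node (.leaf 0) (.leaf 0)))) (.node (.node (.node (.leaf 0) (.leaf 0)) (.node (.leaf 0) (.leaf 0))) (.node (.node (.leaf 0) (.leaf 0)) (.node (.leaf 0) (.leaf 0))))) (.node (.node (.node (.node (.leaf 0) (.leaf 0)) (.node (.leaf 0) (.leaf 0))) (.node (.node (.leaf 0) (.leaf 0)) (.node (.leaf 0) (.leaf 0)))) (.node (.node (.node (.leaf 0) (.leaf 0)) (.node (.leaf 0) (.leaf 0))) (.node (.node (.leaf 0) (.leaf 0)) (.node (.leaf 0) (.leaf 0)))))) (.node (.node (.node (.node (.node (.leaf 0) (.leaf 0)) (.node (.leaf 0) (.leaf 0))) (.node (.node (.leaf 0) (.leaf 0)) (.node (.leaf 0) (.leaf 0)))) (.node (.node (.node (.leaf 0) (.leaf 0)) (.node (.leaf 0) (.leaf 0))) (.node (.node (.leaf 0) (.leaf 0)) (.node (.leaf 0) (.leaf 0))))) (.node (.node (.node (.node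 (.leaf 0) (.leaf 0)) (.node (.leaf 0) (.leaf 0))) (.node (.node (.leaf 0) (.leaf 0)) (.node (.leaf 0) (.leaf 0)))) (.node (.node (.node (.leaf 0) (.leaf 0)) (.node (.leaf 0) (.leaf 0))) (.node (.node (.leaf 0) (.leaf 0)) (.node (.leaf 0) (.leaf 0)))))))

/-- An element of the line stabiliser, part 62. -/
def kCodePart62 : Janko1.Tree ℕ := (.node (.node (.node (.node (.node (.node (.leaf 0) (.leaf 0)) (.node (.leaf 0) (.leaf 0))) (.node (.node (.leaf 0) (.leaf 0)) (.node (.leaf 0) (.leaf 0)))) (.node (.node (.node (.leaf 0) (.leaf 0)) (.node (.leaf 0) (.leaf 0))) (.node (.node (.leaf 0) (.leaf 0)) (.node (.leaf 0) (.leaf 0))))) (.node (.node (.node (.node (.leaf 0) (.leaf 0)) (.node (.leaf 0) (.leaf 0))) (.node (.node (.leaf 0) (.leaf 0)) (.node (.leaf 0) (.leaf 0)))) (.node (.node (.node (.leaf 0) (.leaf 0)) (.node (.leaf 0) (.leaf 0))) (.node (.node (.leaf 0) (.leaf 0)) (.node (.leaf 0) (.leaf 0)))))) (.node (.node (.node (.node (.node (.leaf 0) (.leaf 0)) (.node (.leaf 0) (.leaf 0))) (.node (.node (.leaf 0) (.leaf 0)) (.node (.leaf 0) (.leaf 0)))) (.node (.node (.node (.leaf 0) (.leaf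 0)) (.node (.leaf 0) (.leaf 0))) (.node (.node (.leaf 0) (.leaf 0)) (.node (.leaf 0) (.leaf 0))))) (.node (.node (.node (.node (.leaf 0) (.leaf 0)) (.node (.leaf 0) (.leaf 0))) (.node (.node (.leaf 0) (.leaf 0)) (.node (.leaf 0) (.leaf 0)))) (.node (.node (.node (.leaf 0) (.leaf 0)) (.node (.leaf 0) (.leaf 0))) (.node (.node (.leaf 0) (.leaf 0)) (.node (.leaf 0) (.leaf 0)))))))

/-- An element of the line stabiliser, part 63. -/
def kCodePart63 : Janko1.Tree ℕ := (.node (.node (.node (.node (.node (.node (.leaf 0) (.leaf 0)) (.node (.leaf 0) (.leaf 0))) (.node (.node (.leaf 0) (.leaf 0)) (.node (.leaf 0) (.leaf 0)))) (.node (.node (.node (.leaf 0) (.leaf 0)) (.node (.leaf 0) (.leaf 0))) (.node (.node (.leaf 0) (.leaf 0)) (.node (.leaf 0) (.leaf 0))))) (.node (.node (.node (.node (.leaf 0) (.leaf 0)) (.node (.leaf 0) (.leaf 0))) (.node (.node (.leaf 0) (.leaf 0)) (.node (.leaf 0) (.leaf 0)))) (.node (.node (.node (.leaf 0) (.leaf 0)) (.node (.leaf 0) (.leaf 0))) (.node (.node (.leaf 0) (.leaf 0)) (.node (.leaf 0) (.leaf 0)))))) (.node (.node (.node (.node (.node (.leaf 0) (.leaf 0)) (.node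 (.leaf 0) (.leaf 0))) (.node (.node (.leaf 0) (.leaf 0)) (.node (.leaf 0) (.leaf 0)))) (.node (.node (.node (.leaf 0) (.leaf 0)) (.node (.leaf 0) (.leaf 0))) (.node (.node (.leaf 0) (.leaf 0)) (.node (.leaf 0) (.leaf 0))))) (.node (.node (.node (.node (.leaf 0) (.leaf 0)) (.node (.leaf 0) (.leaf 0))) (.node (.node (.leaf 0) (.leaf 0)) (.node (.leaf 0) (.leaf 0)))) (.node (.node (.node (.leaf 0) (.leaf 0)) (.node (.leaf 0) (.leaf 0))) (.node (.node (.leaf 0) (.leaf 0)) (.node (.leaf 0) (.leaf 0)))))))

/-- An element of the line stabiliser, block 0. -/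
def kCodeBlock0 : Janko1.Tree ℕ := (.node (.node (.node (.node (.node kCodePart0 kCodePart1) (.node kCodePart2 kCodePart3)) (.node (.node kCodePart4 kCodePart5) (.node kCodePart6 kCodePart7))) (.node (.node (.node kCodePart8 kCodePart9) (.node kCodePart10 kCodePart11)) (.node (.node kCodePart12 kCodePart13) (.node kCodePart14 kCodePart15)))) (.node (.node (.node (.node kCodePart16 kCodePart17) (.node kCodePart18 kCodePart19)) (.node (.node kCodePart20 kCodePart21) (.node kCodePart22 kCodePart23))) (.node (.node (.node kCodePart24 kCodePart25) (.node kCodePart26 kCodePart27)) (.node (.node kCodePart28 kCodePart29) (.node kCodePart30 kCodePart31)))))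

/-- An element of the line stabiliser, block 1. -/
def kCodeBlock1 : Janko1.Tree ℕ := (.node (.node (.node (.node (.node kCodePart32 kCodePart33) (.node kCodePart34 kCodePart35)) (.node (.node kCodePart36 kCodePart37) (.node kCodePart38 kCodePart39))) (.node (.node (.node kCodePart40 kCodePart41) (.node kCodePart42 kCodePart43)) (.node (.node kCodePart44 kCodePart45) (.node kCodePart46 kCodePart47)))) (.node (.node (.node (.node kCodePart48 kCodePart49) (.node kCodePart50 kCodePart51)) (.node (.node kCodePart52 kCodePart53) (.node kCodePart54 kCodePart55))) (.node (.node (.node kCodePart56 kCodePart57) (.node kCodePart58 kCodePart59)) (.node (.node kCodePart60 kCodePart61) (.node kCodePart62 kCodePart63)))))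

/-- An element of the line stabiliser. -/
def kCodeTree : Janko1.Tree ℕ := (.node kCodeBlock0 kCodeBlock1)

/-- An element of the line stabiliser, by index. -/
def kCode (i : ℕ) : ℕ := kCodeTree.get 12 i

/-- How an element arises, part 0. -/
def kInfoPart0 : Janko1.Tree ℕ := (.node (.node (.node (.node (.node (.node (.leaf 106605) (.leaf 857692)) (.node (.leaf 827498) (.leaf 78973))) (.node (.node (.leaf 198749) (.leaf 217189)) (.node (.leaf 983138) (.leaf 88165)))) (.node (.node (.node (.leaf 889972) (.leaf 97373)) (.node (.leaf 375922) (.leaf 171077))) (.node (.node (.leaf 0) (.leaf 115813)) (.node (.leaf 284256) (.leaf 656492))))) (.node (.node (.node (.node (.leaf 365137) (.leaf 698426)) (.node (.leaf 236113) (.leaf 1075804))) (.node (.node (.leaf 703568) (.leaf 583261)) (.node (.leaf 340075) (.leaf 386665)))) (.node (.node (.node (.leaf 384104) (.leaf 1031789)) (.node (.leaf 588378) (.leaf 264298))) (.node (.node (.leaf 1027690) (.leaf 529467)) (.node (.leaf 254051) (.leaf 695920)))))) (.node (.node (.node (.node (.node (.leaf 817748) (.leaf 534113)) (.node (.leaf 915562) (.leaf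 989792))) (.node (.node (.leaf 801345) (.leaf 344162)) (.node (.leaf 756795) (.leaf 255544)))) (.node (.node (.node (.leaf 681553) (.leaf 701515)) (.node (.leaf 528988) (.leaf 461908))) (.node (.node (.leaf 581722) (.leaf 706137)) (.node (.leaf 378436) (.leaf 341592))))) (.node (.node (.node (.node (.leaf 181349) (.leaf 176229)) (.node (.leaf 707675) (.leaf 678489))) (.node (.node (.leaf 289898) (.leaf 704603)) (.node (.leaf 218221) (.leaf 298072)))) (.node (.node (.node (.leaf 470648) (.leaf 377956)) (.node (.leaf 1044557) (.leaf 474690))) (.node (.node (.leaf 608856) (.leaf 615010)) (.node (.leaf 331876) (.leaf 528468)))))))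

/-- How an element arises, part 1. -/
def kInfoPart1 : Janko1.Tree ℕ := (.node (.node (.node (.node (.node (.node (.leaf 807497) (.leaf 337960)) (.node (.leaf 278106) (.leaf 185445))) (.node (.node (.leaf 263770) (.leaf 762931)) (.node (.leaf 750699) (.leaf 266860)))) (.node (.node (.node (.leaf 863840) (.leaf 869978)) (.node (.leaf 586349) (.leaf 599125))) (.node (.node (.leaf 592989) (.leaf 753760)) (.node (.leaf 153685) (.leaf 976992))))) (.node (.node (.node (.node (.leaf 1072728) (.leaf 817252)) (.node (.leaf 242297) (.leaf 285787))) (.node (.node (.leaf 208981) (.leaf 203861)) (.node (.leaf 261212) (.leaf 923741)))) (.node (.node (.node (.leaf 585276) (.leaf 251976)) (.node (.leaf 116781) (.leaf 320052))) (.node (.node (.leaf 333370) (.leaf 384586)) (.node (.leaf 381528) (.leaf 345692)))))) (.node (.node (.node (.node (.node (.leaf 662624) (.leaf 647266)) (.node (.leaf 709217) (.leaf 683091))) (.node (.node (.leaf 584812) (.leaf 444522)) (.node (.leaf 172133) (.leaf 538212)))) (.node (.node (.node (.leaf 1023069) (.leaf 532058)) (.node (.leaf 525896) (.leaf 1029205))) (.node (.node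 (.leaf 162917) (.leaf 821352)) (.node (.leaf 382059) (.leaf 368217))))) (.node (.node (.node (.node (.leaf 358001) (.leaf 693360)) (.node (.leaf 963146) (.leaf 74877))) (.node (.node (.leaf 986706) (.leaf 555621)) (.node (.leaf 918612) (.leaf 992868)))) (.node (.node (.node (.leaf 737356) (.leaf 102509)) (.node (.leaf 988268) (.leaf 1030760))) (.node (.node (.leaf 1024612) (.leaf 991320)) (.node (.leaf 98405) (.leaf 93301)))))))

/-- How an element arises, part 2. -/
def kInfoPart2 : Janko1.Tree ℕ := (.node (.node (.node (.node (.node (.node (.leaf 291433) (.leaf 258147)) (.node (.leaf 707152) (.leaf 294473))) (.node (.node (.leaf 902216) (.leaf 130149)) (.node (.leaf 383561) (.leaf 335987)))) (.node (.node (.node (.leaf 348259) (.leaf 380521)) (.node (.leaf 765538) (.leaf 84037))) (.node (.node (.leaf 527977) (.leaf 520299)) (.node (.leaf 523355) (.leaf 531041))))) (.node (.node (.node (.node (.leaf 319081) (.leaf 374883)) (.node (.leaf 481909) (.leaf 464949))) (.node (.node (.leaf 449107) (.leaf 1087592)) (.node (.leaf 1103468) (.leaf 796256)))) (.node (.node (.node (.leaf 325193)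 (.leaf 803418)) (.node (.leaf 197748) (.leaf 458837))) (.node (.node (.leaf 484957) (.leaf 446549)) (.node (.leaf 1081450) (.leaf 1090642)))))) (.node (.node (.node (.node (.node (.leaf 453211) (.leaf 1093724)) (.node (.leaf 279105) (.leaf 933994))) (.node (.node (.leaf 205882) (.leaf 476789)) (.node (.leaf 939610) (.leaf 435297)))) (.node (.node (.node (.leaf 272961) (.leaf 922740)) (.node (.leaf 874548) (.leaf 930896))) (.node (.node (.leaf 206940) (.leaf 767592)) (.node (.leaf 202840) (.leaf 781900))))) (.node (.node (.node (.node (.leaf 930368) (.leaf 438361)) (.node (.leaf 926284) (.leaf 732736))) (.node (.node (.leaf 1019506) (.leaf 613973)) (.node (.leaf 215146) (.leaf 719474)))) (.node (.node (.node (.leaf 1049706) (.leaf 331347)) (.node (.leaf 1016400) (.leaf 617053))) (.node (.node (.leaf 1022572) (.leaf 610909)) (.node (.leaf 216148) (.leaf 722488)))))))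

/-- How an element arises, part 3. -/
def kInfoPart3 : Janko1.Tree ℕ := (.node (.node (.node (.node (.node (.node (.leaf 212056) (.leaf 728692)) (.node (.leaf 1034328) (.leaf 970348))) (.node (.node (.leaf 345193) (.leaf 967256)) (.node (.leaf 1058912) (.leaf 283209)))) (.node (.node (.node (.leaf 122978) (.leaf 741484)) (.node (.leaf 1080940) (.leaf 711788))) (.node (.node (.leaf 1052772) (.leaf 270913)) (.node (.leaf 1055842) (.leaf 275041))))) (.node (.node (.node (.node (.leaf 658529) (.leaf 738402)) (.node (.leaf 651353) (.leaf 744544))) (.node (.node (.leaf 1071722) (.leaf 225373)) (.node (.leaf 1087080) (.leaf 717914)))) (.node (.node (.node (.leaf 479808) (.leaf 859749)) (.node (.leaf 882755) (.leaf 841281))) (.node (.node (.leaf 457828) (.leaf 775787)) (.node (.leaf 486004) (.leaf 872037)))))) (.node (.node (.node (.node (.node (.leaf 482914) (.leaf 868973)) (.node (.leaf 151644) (.leaf 832105))) (.node (.node (.leaf 876579) (.leaf 324180)) (.node (.leaf 755817) (.leaf 409682)))) (.node (.node (.node (.leaf 442464) (.leaf 772699)) (.node (.leaf 624228) (.leaf 984163))) (.node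 (.node (.leaf 1099365) (.leaf 645216)) (.node (.leaf 1074787) (.leaf 1091697))))) (.node (.node (.node (.node (.leaf 973401) (.leaf 510528)) (.node (.leaf 976481) (.leaf 505442))) (.node (.node (.leaf 105580) (.leaf 657508)) (.node (.leaf 1102445) (.leaf 654426)))) (.node (.node (.node (.leaf 626804) (.leaf 1088625)) (.node (.leaf 1077867) (.leaf 1094761))) (.node (.node (.leaf 881756) (.leaf 679532)) (.node (.leaf 574553) (.leaf 890944)))))))

/-- How an element arises, part 4. -/
def kInfoPart4 : Janko1.Tree ℕ := (.node (.node (.node (.node (.node (.node (.leaf 830024) (.leaf 281195)) (.node (.leaf 878674) (.leaf 676456))) (.node (.node (.leaf 875632) (.leaf 665162)) (.node (.leaf 179308) (.leaf 606811)))) (.node (.node (.node (.leaf 175176) (.leaf 601675)) (.node (.leaf 255073) (.leaf 276059))) (.node (.node (.leaf 266257) (.leaf 771688)) (.node (.leaf 907884) (.leaf 996922))))) (.node (.node (.node (.node (.leaf 169042) (.leaf 872032)) (.node (.leaf 332349) (.leaf 1062496))) (.node (.node (.leaf 904810) (.leaf 321113)) (.node (.leaf 376883) (.leaf 317033)))) (.node (.node (.node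 (.leaf 170092) (.leaf 868972)) (.node (.leaf 165976) (.leaf 590945))) (.node (.node (.leaf 344645) (.leaf 306293)) (.node (.leaf 338517) (.leaf 1065540)))))) (.node (.node (.node (.node (.node (.leaf 609885) (.leaf 845378)) (.node (.leaf 393333) (.leaf 978012))) (.node (.node (.leaf 470131) (.leaf 423529)) (.node (.leaf 899680) (.leaf 645221)))) (.node (.node (.node (.leaf 612949) (.leaf 657509)) (.node (.leaf 114796) (.leaf 459373))) (.node (.node (.leaf 390221) (.leaf 984160)) (.node (.leaf 443507) (.leaf 952400))))) (.node (.node (.node (.node (.leaf 837708) (.leaf 417329)) (.node (.leaf 1005676) (.leaf 752744))) (.node (.node (.leaf 187498) (.leaf 454749)) (.node (.leaf 1049184) (.leaf 432721)))) (.node (.node (.node (.leaf 545875) (.leaf 539241)) (.node (.leaf 552027) (.leaf 536137))) (.node (.node (.leaf 396901) (.leaf 468061)) (.node (.leaf 184408) (.leaf 476197)))))))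

/-- How an element arises, part 5. -/
def kInfoPart5 : Janko1.Tree ℕ := (.node (.node (.node (.node (.node (.node (.leaf 453707) (.leaf 788584)) (.node (.leaf 462931) (.leaf 791634))) (.node (.node (.leaf 769617) (.leaf 826467)) (.node (.leaf 861289) (.leaf 928363)))) (.node (.node (.node (.leaf 687177) (.leaf 274002)) (.node (.leaf 573512) (.leaf 820315))) (.node (.node (.leaf 579684) (.leaf 594008)) (.node (.leaf 142396) (.leaf 937547))))) (.node (.node (.node (.node (.leaf 873561) (.leaf 922219)) (.node (.leaf 592496) (.leaf 280164))) (.node (.node (.leaf 603748) (.leaf 267848)) (.node (.leaf 982083) (.leaf 974433)))) (.node (.node (.node (.leaf 132186) (.leaf 843867)) (.node (.leaf 988765) (.leaf 953461))) (.node (.node (.leaf 979059) (.leaf 334930)) (.node (.leaf 985187) (.leaf 347228)))))) (.node (.node (.node (.node (.node (.leaf 133244) (.leaf 371826)) (.node (.leaf 885337) (.leaf 374880))) (.node (.node (.leaf 600164) (.leaf 308256)) (.node (.leaf 991837) (.leaf 956533)))) (.node (.node (.node (.leaf 488528) (.leaf 363084)) (.node (.leaf 159834) (.leaf 270914))) (.node (.node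 (.leaf 467500) (.leaf 969267)) (.node (.leaf 721505) (.leaf 366160))))) (.node (.node (.node (.node (.leaf 491642) (.leaf 353866)) (.node (.leaf 160868) (.leaf 275040))) (.node (.node (.leaf 1021545) (.leaf 283212)) (.node (.leaf 473698) (.leaf 433210)))) (.node (.node (.node (.leaf 992377) (.leaf 966251)) (.node (.leaf 739435) (.leaf 557658))) (.node (.node (.leaf 76914) (.leaf 617048)) (.node (.leaf 460396) (.leaf 712789)))))))

/-- How an element arises, part 6. -/
def kInfoPart6 : Janko1.Tree ℕ := (.node (.node (.node (.node (.node (.node (.leaf 389228) (.leaf 554588)) (.node (.leaf 745579) (.leaf 560672))) (.node (.node (.leaf 77908) (.leaf 610908)) (.node (.leaf 1053805) (.leaf 613970)))) (.node (.node (.node (.leaf 448090) (.leaf 709701)) (.node (.leaf 466488) (.leaf 416332))) (.node (.node (.leaf 867925) (.leaf 887933)) (.node (.leaf 908875) (.leaf 543852))))) (.node (.node (.node (.node (.leaf 469084) (.leaf 424512)) (.node (.leaf 398900) (.leaf 890949))) (.node (.node (.leaf 402002) (.leaf 522348)) (.node (.leaf 905747) (.leaf 546890)))) (.node (.node (.node (.leaf 83016) (.leaf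 549992)) (.node (.leaf 456786) (.leaf 1061449))) (.node (.node (.leaf 478304) (.leaf 1064537)) (.node (.leaf 649298) (.leaf 256072)))))) (.node (.node (.node (.node (.node (.leaf 95322) (.leaf 1038937)) (.node (.leaf 631402) (.leaf 226412))) (.node (.node (.leaf 822371) (.leaf 259170)) (.node (.leaf 652364) (.leaf 249940)))) (.node (.node (.node (.leaf 1009755) (.leaf 1048145)) (.node (.leaf 1012835) (.leaf 1032785))) (.node (.node (.leaf 759381) (.leaf 784477)) (.node (.leaf 628300) (.leaf 790621))))) (.node (.node (.node (.node (.leaf 132723) (.leaf 877644)) (.node (.leaf 215658) (.leaf 300641))) (.node (.node (.leaf 472161) (.leaf 1040994)) (.node (.leaf 754744) (.leaf 10329)))) (.node (.node (.node (.leaf 212564) (.leaf 297561)) (.node (.leaf 797792) (.leaf 416331))) (.node (.node (.leaf 129651) (.leaf 880704)) (.node (.leaf 216664) (.leaf 1070696)))))))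

/-- How an element arises, part 7. -/
def kInfoPart7 : Janko1.Tree ℕ := (.node (.node (.node (.node (.node (.node (.leaf 445545) (.leaf 1036868)) (.node (.leaf 400491) (.leaf 489065))) (.node (.node (.leaf 101481) (.leaf 108659)) (.node (.leaf 1086066) (.leaf 117338)))) (.node (.node (.node (.leaf 957008) (.leaf 890440)) (.node (.leaf 716888) (.leaf 696408))) (.node (.node (.leaf 414293) (.leaf 112204)) (.node (.leaf 925274) (.leaf 90723))))) (.node (.node (.node (.node (.leaf 950876) (.leaf 893554)) (.node (.leaf 110177) (.leaf 1078892))) (.node (.node (.leaf 713812) (.leaf 684146)) (.node (.leaf 518763) (.leaf 507993)))) (.node (.node (.node (.leaf 411229) (.leaf 431221)) (.node (.leaf 8769) (.leaf 91723))) (.node (.node (.leaf 708196) (.leaf 1081944)) (.node (.leaf 959586) (.leaf 498777)))))) (.node (.node (.node (.node (.node (.leaf 57977) (.leaf 914002)) (.node (.leaf 104049) (.leaf 1069650))) (.node (.node (.leaf 521779) (.leaf 511073)) (.node (.leaf 217692) (.leaf 693842)))) (.node (.node (.node (.leaf 797260) (.leaf 1092666)) (.node (.leaf 565337) (.leaf 960618))) (.node (.node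 (.leaf 709698) (.leaf 7274)) (.node (.leaf 927324) (.leaf 752176))))) (.node (.node (.node (.node (.leaf 276569) (.leaf 686708)) (.node (.leaf 554587) (.leaf 585777))) (.node (.node (.leaf 800322) (.leaf 1095796)) (.node (.leaf 827992) (.leaf 965732)))) (.node (.node (.node (.leaf 218712) (.leaf 225891)) (.node (.leaf 806488) (.leaf 1089648))) (.node (.node (.leaf 562281) (.leaf 579139)) (.node (.leaf 712788) (.leaf 33888)))))))

/-- How an element arises, part 8. -/
def kInfoPart8 : Janko1.Tree ℕ := (.node (.node (.node (.node (.node (.node (.leaf 328773) (.leaf 758380)) (.node (.leaf 557659) (.leaf 588881))) (.node (.node (.leaf 715872) (.leaf 34412)) (.node (.leaf 933450) (.leaf 764498)))) (.node (.node (.node (.leaf 6152) (.leaf 582753)) (.node (.leaf 996442) (.leaf 846912))) (.node (.node (.leaf 841280) (.leaf 170594)) (.node (.leaf 1051752) (.leaf 101973))))) (.node (.node (.node (.node (.leaf 261209) (.leaf 35388)) (.node (.leaf 850516) (.leaf 1013856))) (.node (.node (.leaf 931920) (.leaf 186936)) (.node (.leaf 412785) (.leaf 839756)))) (.node (.node (.node (.leaf 251977) (.leaf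 277083)) (.node (.leaf 536673) (.leaf 506451))) (.node (.node (.leaf 1057874) (.leaf 697936)) (.node (.leaf 856666) (.leaf 461393)))))) (.node (.node (.node (.node (.node (.leaf 367709) (.leaf 335421)) (.node (.leaf 409681) (.leaf 834650))) (.node (.node (.leaf 844396) (.leaf 169572)) (.node (.leaf 66653) (.leaf 105037)))) (.node (.node (.node (.leaf 264297) (.leaf 19522)) (.node (.leaf 853584) (.leaf 458329))) (.node (.node (.leaf 364629) (.leaf 347717)) (.node (.leaf 21074) (.leaf 818280))))) (.node (.node (.node (.node (.leaf 849992) (.leaf 611939)) (.node (.leaf 274517) (.leaf 239221))) (.node (.node (.leaf 25696) (.leaf 812098)) (.node (.leaf 647265) (.leaf 615011)))) (.node (.node (.node (.leaf 282741) (.leaf 34914)) (.node (.leaf 27236) (.leaf 815212))) (.node (.node (.leaf 856146) (.leaf 809048)) (.node (.leaf 706138) (.leaf 20036)))))))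

/-- How an element arises, part 9. -/
def kInfoPart9 : Janko1.Tree ℕ := (.node (.node (.node (.node (.node (.node (.leaf 600675) (.leaf 579681)) (.node (.leaf 29780) (.leaf 865362))) (.node (.node (.leaf 220768) (.leaf 683092)) (.node (.leaf 590419) (.leaf 576617)))) (.node (.node (.node (.leaf 29290) (.leaf 471149)) (.node (.leaf 234597) (.leaf 249437))) (.node (.node (.leaf 605795) (.leaf 573513)) (.node (.leaf 415333) (.leaf 873560))))) (.node (.node (.node (.node (.leaf 239709) (.leaf 694386)) (.node (.leaf 990288) (.leaf 1017440))) (.node (.node (.leaf 463977) (.leaf 427619)) (.node (.leaf 175724) (.leaf 937060)))) (.node (.node (.node (.leaf 987212) (.leaf 63593)) (.node (.leaf 932376) (.leaf 675944))) (.node (.node (.leaf 178778) (.leaf 371305)) (.node (.leaf 92763) (.leaf 1014388)))))) (.node (.node (.node (.node (.node (.leaf 455785) (.leaf 424515)) (.node (.leaf 354387) (.leaf 921706))) (.node (.node (.leaf 439401) (.leaf 446059)) (.node (.leaf 670776) (.leaf 878152)))) (.node (.node (.node (.leaf 906840) (.leaf 1076332)) (.node (.leaf 905746) (.leaf 48224))) (.node (.node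 (.leaf 1047676) (.leaf 120424)) (.node (.leaf 798304) (.leaf 119394))))) (.node (.node (.node (.node (.leaf 673890) (.leaf 881196)) (.node (.leaf 908876) (.leaf 47700))) (.node (.node (.leaf 807498) (.leaf 113264)) (.node (.leaf 398899) (.leaf 467033)))) (.node (.node (.node (.leaf 911968) (.leaf 327243)) (.node (.leaf 801348) (.leaf 250437))) (.node (.node (.leaf 436313) (.leaf 477803)) (.node (.leaf 903796) (.leaf 138821)))))))

/-- How an element arises, part 10. -/
def kInfoPart10 : Janko1.Tree ℕ := (.node (.node (.node (.node (.node (.node (.leaf 655955) (.leaf 124522)) (.node (.leaf 433209) (.leaf 472691))) (.node (.node (.leaf 909906) (.leaf 1073226)) (.node (.leaf 646739) (.leaf 123468)))) (.node (.node (.node (.leaf 379995) (.leaf 46128)) (.node (.leaf 30820) (.leaf 969268))) (.node (.node (.leaf 799812) (.leaf 845914)) (.node (.leaf 90185) (.leaf 727602))))) (.node (.node (.node (.node (.leaf 181864) (.leaf 306795)) (.node (.leaf 649795) (.leaf 775256))) (.node (.node (.leaf 386083) (.leaf 353865)) (.node (.leaf 936032) (.leaf 86091)))) (.node (.node (.node (.leaf 176738) (.leaf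 1072218)) (.node (.leaf 519273) (.leaf 526931))) (.node (.node (.leaf 796770) (.leaf 229965)) (.node (.leaf 983640) (.leaf 772156)))))) (.node (.node (.node (.node (.node (.leaf 383067) (.leaf 46652)) (.node (.leaf 2144) (.leaf 961106))) (.node (.node (.leaf 267365) (.leaf 226901)) (.node (.leaf 91217) (.leaf 87099)))) (.node (.node (.node (.leaf 329817) (.leaf 1082472)) (.node (.leaf 660067) (.leaf 768090))) (.node (.node (.leaf 1025138) (.leaf 68691)) (.node (.leaf 9825) (.leaf 82531))))) (.node (.node (.node (.node (.leaf 559193) (.leaf 598635)) (.node (.leaf 142393) (.leaf 1002052))) (.node (.node (.leaf 147017) (.leaf 939120)) (.node (.leaf 388699) (.leaf 485473)))) (.node (.node (.node (.leaf 41057) (.leaf 816210)) (.node (.leaf 435813) (.leaf 190056))) (.node (.node (.leaf 781412) (.leaf 595563)) (.node (.leaf 140905) (.leaf 70259)))))))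

/-- How an element arises, part 11. -/
def kInfoPart11 : Janko1.Tree ℕ := (.node (.node (.node (.node (.node (.node (.leaf 1086552) (.leaf 813168)) (.node (.leaf 553081) (.leaf 604723))) (.node (.node (.leaf 1063538) (.leaf 140355)) (.node (.leaf 394843) (.leaf 729172)))) (.node (.node (.node (.leaf 687180) (.leaf 185932)) (.node (.leaf 138353) (.leaf 145483))) (.node (.node (.leaf 391779) (.leaf 479353)) (.node (.leaf 438869) (.leaf 191058))))) (.node (.node (.node (.node (.leaf 26210) (.leaf 1099362)) (.node (.leaf 627825) (.leaf 809562))) (.node (.node (.leaf 362621) (.leaf 1001058)) (.node (.leaf 425581) (.leaf 1105528)))) (.node (.node (.node (.leaf 633953) (.leaf 621171)) (.node (.leaf 365693) (.leaf 1004144))) (.node (.node (.leaf 20568) (.leaf 461909)) (.node (.leaf 896106) (.leaf 794204)))))) (.node (.node (.node (.node (.node (.leaf 182826) (.leaf 340581)) (.node (.leaf 671324) (.leaf 946232))) (.node (.node (.leaf 30284) (.leaf 296541)) (.node (.leaf 320597) (.leaf 24164)))) (.node (.node (.node (.leaf 666208) (.leaf 544849)) (.node (.leaf 236645) (.leaf 915020))) (.node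 (.node (.leaf 1029202) (.leaf 47170)) (.node (.leaf 535139) (.leaf 550977))))) (.node (.node (.node (.node (.leaf 12914) (.leaf 299637)) (.node (.leaf 316445) (.leaf 48736))) (.node (.node (.leaf 200804) (.leaf 79453)) (.node (.leaf 534589) (.leaf 866898)))) (.node (.node (.node (.leaf 563813) (.leaf 1014858)) (.node (.leaf 201792) (.leaf 982080))) (.node (.node (.leaf 537693) (.leaf 862808)) (.node (.leaf 566893) (.leaf 1017936)))))))

/-- How an element arises, part 12. -/
def kInfoPart12 : Janko1.Tree ℕ := (.node (.node (.node (.node (.node (.node (.leaf 40557) (.leaf 75325)) (.node (.leaf 540781) (.leaf 875092))) (.node (.node (.leaf 569957) (.leaf 1021004)) (.node (.leaf 822370) (.leaf 210012)))) (.node (.node (.node (.leaf 1102940) (.leaf 663129)) (.node (.leaf 634473) (.leaf 650283))) (.node (.node (.leaf 89685) (.leaf 211048)) (.node (.leaf 1096802) (.leaf 889418))))) (.node (.node (.node (.node (.leaf 883284) (.leaf 661579)) (.node (.leaf 828516) (.leaf 204898))) (.node (.node (.leaf 1099864) (.leaf 892524)) (.node (.leaf 628297) (.leaf 1088098)))) (.node (.node (.node (.leaf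 760378) (.leaf 16475)) (.node (.leaf 346219) (.leaf 832602))) (.node (.node (.leaf 356957) (.leaf 318573)) (.node (.leaf 748144) (.leaf 1010784)))))) (.node (.node (.node (.node (.node (.leaf 333899) (.leaf 835684)) (.node (.leaf 114280) (.leaf 321621))) (.node (.node (.leaf 755316) (.leaf 1007706)) (.node (.leaf 342123) (.leaf 844888)))) (.node (.node (.node (.leaf 351853) (.leaf 324685)) (.node (.leaf 864352) (.leaf 697432))) (.node (.node (.leaf 305267) (.leaf 681024)) (.node (.leaf 843864) (.leaf 198188))))) (.node (.node (.node (.node (.leaf 8283) (.leaf 87641)) (.node (.leaf 802904) (.leaf 342609))) (.node (.node (.leaf 609385) (.leaf 194146)) (.node (.leaf 57467) (.leaf 685162)))) (.node (.node (.node (.leaf 308259) (.leaf 668770)) (.node (.leaf 615529) (.leaf 197216))) (.node (.node (.leaf 931418) (.leaf 253497)) (.node (.leaf 9307) (.leaf 78433)))))))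

/-- How an element arises, part 13. -/
def kInfoPart13 : Janko1.Tree ℕ := (.node (.node (.node (.node (.node (.node (.leaf 549435) (.leaf 500857)) (.node (.leaf 934504) (.leaf 265817))) (.node (.node (.leaf 41579) (.leaf 74345)) (.node (.leaf 552515) (.leaf 503881)))) (.node (.node (.node (.leaf 923220) (.leaf 1045100)) (.node (.leaf 1101418) (.leaf 1073764))) (.node (.node (.leaf 1032786) (.leaf 206408)) (.node (.leaf 1000500) (.leaf 280161))))) (.node (.node (.node (.node (.leaf 151145) (.leaf 887388)) (.node (.leaf 187992) (.leaf 272477))) (.node (.node (.leaf 1003600) (.leaf 267849)) (.node (.leaf 993874) (.leaf 896602)))) (.node (.node (.node (.leaf 184914) (.leaf 937546)) (.node (.leaf 253027) (.leaf 753234))) (.node (.node (.leaf 148041) (.leaf 60011)) (.node (.leaf 243285) (.leaf 284765)))))) (.node (.node (.node (.node (.node (.leaf 511581) (.leaf 717418)) (.node (.leaf 49768) (.leaf 584299))) (.node (.node (.leaf 379493) (.leaf 347229)) (.node (.leaf 424037) (.leaf 413285)))) (.node (.node (.node (.leaf 390733) (.leaf 481389)) (.node (.leaf 378435) (.leaf 675408))) (.node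 (.node (.leaf 286325) (.leaf 256077)) (.node (.leaf 52330) (.leaf 530521))))) (.node (.node (.node (.node (.leaf 421933) (.leaf 433773)) (.node (.leaf 585273) (.leaf 604275))) (.node (.node (.leaf 1088626) (.leaf 249941)) (.node (.leaf 510531) (.leaf 790620)))) (.node (.node (.node (.leaf 208976) (.leaf 399453)) (.node (.leaf 418917) (.leaf 439901))) (.node (.node (.leaf 848972) (.leaf 293475)) (.node (.leaf 855642) (.leaf 528469)))))))

/-- How an element arises, part 14. -/
def kInfoPart14 : Janko1.Tree ℕ := (.node (.node (.node (.node (.node (.node (.leaf 111692) (.leaf 487525)) (.node (.leaf 770098) (.leaf 343137))) (.node (.node (.leaf 849516) (.leaf 714316)) (.node (.leaf 289357) (.leaf 259173)))) (.node (.node (.node (.leaf 5708) (.leaf 784472)) (.node (.leaf 998496) (.leaf 436821))) (.node (.node (.leaf 116776) (.leaf 198746)) (.node (.leaf 773188) (.leaf 672306))))) (.node (.node (.node (.node (.leaf 1059924) (.leaf 671776)) (.node (.leaf 203860) (.leaf 185444))) (.node (.node (.leaf 852050) (.leaf 958546)) (.node (.leaf 49258) (.leaf 953458)))) (.node (.node (.node (.leaf 734816)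 (.leaf 339053)) (.node (.leaf 430173) (.leaf 410221))) (.node (.node (.leaf 1066050) (.leaf 674906)) (.node (.leaf 594009) (.leaf 950328)))))) (.node (.node (.node (.node (.node (.leaf 382549) (.leaf 334933)) (.node (.leaf 207898) (.leaf 402541))) (.node (.node (.leaf 690786) (.leaf 407141)) (.node (.leaf 855128) (.leaf 964700)))) (.node (.node (.node (.leaf 632949) (.leaf 623165)) (.node (.leaf 240753) (.leaf 870460))) (.node (.node (.leaf 149093) (.leaf 112746)) (.node (.leaf 908388) (.leaf 620125))))) (.node (.node (.node (.node (.leaf 247865) (.leaf 298611)) (.node (.leaf 154221) (.leaf 58453))) (.node (.node (.leaf 905304) (.leaf 626285)) (.node (.leaf 244841) (.leaf 867416)))) (.node (.node (.node (.leaf 973400) (.leaf 117876)) (.node (.leaf 949836) (.leaf 603745))) (.node (.node (.leaf 376419) (.leaf 358505)) (.node (.leaf 186418) (.leaf 158309)))))))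

/-- How an element arises, part 15. -/
def kInfoPart15 : Janko1.Tree ℕ := (.node (.node (.node (.node (.node (.node (.leaf 572531) (.leaf 607833)) (.node (.leaf 370275) (.leaf 895080))) (.node (.node (.leaf 70765) (.leaf 163373)) (.node (.leaf 956008) (.leaf 1051244)))) (.node (.node (.node (.leaf 739946) (.leaf 899146)) (.node (.leaf 191596) (.leaf 162405))) (.node (.node (.leaf 159833) (.leaf 158827)) (.node (.leaf 563285) (.leaf 580189))))) (.node (.node (.node (.node (.leaf 986180) (.leaf 121452)) (.node (.leaf 815732) (.leaf 1034842))) (.node (.node (.leaf 10849) (.leaf 137843)) (.node (.leaf 349795) (.leaf 363617)))) (.node (.node (.node (.leaf 812608) (.leaf 1050216)) (.node (.leaf 160865) (.leaf 164955))) (.node (.node (.leaf 843368) (.leaf 708682)) (.node (.leaf 343619) (.leaf 355425)))))) (.node (.node (.node (.node (.node (.leaf 566357) (.leaf 971888)) (.node (.leaf 330843) (.leaf 125544))) (.node (.node (.leaf 783458) (.leaf 751676)) (.node (.leaf 569437) (.leaf 962642)))) (.node (.node (.node (.leaf 989304) (.leaf 126562)) (.node (.leaf 159321) (.leaf 73323))) (.node (.node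 (.leaf 39529) (.leaf 705648)) (.node (.leaf 337507) (.leaf 978512))))) (.node (.node (.node (.node (.leaf 94321) (.leaf 965208)) (.node (.leaf 406115) (.leaf 429129))) (.node (.node (.leaf 392797) (.leaf 731236)) (.node (.leaf 1046628) (.leaf 959074)))) (.node (.node (.node (.leaf 412259) (.leaf 426049)) (.node (.leaf 395861) (.leaf 734248))) (.node (.node (.leaf 1043554) (.leaf 968292)) (.node (.leaf 208468) (.leaf 432217)))))))

/-- How an element arises, part 16. -/
def kInfoPart16 : Janko1.Tree ℕ := (.node (.node (.node (.node (.node (.node (.leaf 389717) (.leaf 723042)) (.node (.leaf 271979) (.leaf 854592))) (.node (.node (.leaf 636521) (.leaf 1028684)) (.node (.leaf 541805) (.leaf 53346)))) (.node (.node (.node (.leaf 941644) (.leaf 848466)) (.node (.leaf 33332) (.leaf 610403))) (.node (.node (.leaf 813650) (.leaf 22108)) (.node (.leaf 278107) (.leaf 851540))))) (.node (.node (.node (.node (.leaf 639585) (.leaf 616515)) (.node (.leaf 535653) (.leaf 54872))) (.node (.node (.leaf 941104) (.leaf 873050)) (.node (.leaf 1009754) (.leaf 405569)))) (.node (.node (.node (.leaf 678488)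 (.leaf 174674)) (.node (.leaf 649301) (.leaf 864856))) (.node (.node (.leaf 450147) (.leaf 53860)) (.node (.leaf 669290) (.leaf 557131)))))) (.node (.node (.node (.node (.node (.leaf 659557) (.leaf 630357)) (.node (.leaf 1012832) (.leaf 21602))) (.node (.node (.leaf 596561) (.leaf 173676)) (.node (.leaf 44642) (.leaf 882752)))) (.node (.node (.node (.leaf 465997) (.leaf 673322)) (.node (.leaf 205388) (.leaf 523877))) (.node (.node (.leaf 45124) (.leaf 266857)) (.node (.leaf 447565) (.leaf 664136))))) (.node (.node (.node (.node (.leaf 211552) (.leaf 762932)) (.node (.leaf 13408) (.leaf 876578))) (.node (.node (.leaf 459837) (.leaf 670308)) (.node (.leaf 210514) (.leaf 756794)))) (.node (.node (.node (.leaf 493169) (.leaf 737850)) (.node (.leaf 770660) (.leaf 668244))) (.node (.node (.leaf 419955) (.leaf 200284)) (.node (.leaf 490097) (.leaf 401499)))))))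

/-- How an element arises, part 17. -/
def kInfoPart17 : Janko1.Tree ℕ := (.node (.node (.node (.node (.node (.node (.leaf 773698) (.leaf 131157)) (.node (.leaf 988760) (.leaf 195168))) (.node (.node (.leaf 496209) (.leaf 740952)) (.node (.leaf 776816) (.leaf 137245)))) (.node (.node (.node (.leaf 991836) (.leaf 434785)) (.node (.leaf 478305) (.leaf 961610))) (.node (.node (.leaf 1022026) (.leaf 283737)) (.node (.leaf 130635) (.leaf 37473))))) (.node (.node (.node (.node (.leaf 456785) (.leaf 404083)) (.node (.leaf 1015880) (.leaf 277601))) (.node (.node (.leaf 870986) (.leaf 609)) (.node (.leaf 469081) (.leaf 397923)))) (.node (.node (.node (.leaf 1018964) (.leaf 271449)) (.node (.leaf 135763) (.leaf 183394))) (.node (.node (.leaf 4219) (.leaf 143985)) (.node (.leaf 608365) (.leaf 1053296)))))) (.node (.node (.node (.node (.node (.leaf 480837) (.leaf 460917)) (.node (.leaf 168016) (.leaf 139881))) (.node (.node (.leaf 822892) (.leaf 637549)) (.node (.leaf 712290) (.leaf 1013340)))) (.node (.node (.node (.leaf 67667) (.leaf 900180)) (.node (.leaf 614493) (.leaf 1059388))) (.node (.node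 (.leaf 715352) (.leaf 1007184)) (.node (.leaf 23136) (.leaf 913524))))) (.node (.node (.node (.node (.leaf 672850) (.leaf 323169)) (.node (.leaf 707672) (.leaf 45650))) (.node (.node (.leaf 644197) (.leaf 654949)) (.node (.leaf 669792) (.leaf 320049)))) (.node (.node (.node (.leaf 550441) (.leaf 44132)) (.node (.leaf 51826) (.leaf 657997))) (.node (.node (.leaf 663668) (.leaf 314961)) (.node (.leaf 701514) (.leaf 13936)))))))

/-- How an element arises, part 18. -/
def kInfoPart18 : Janko1.Tree ℕ := (.node (.node (.node (.node (.node (.node (.leaf 521309) (.leaf 733256)) (.node (.leaf 578137) (.leaf 564307))) (.node (.node (.leaf 286803) (.leaf 810092)) (.node (.leaf 221779) (.leaf 760936)))) (.node (.node (.node (.leaf 155733) (.leaf 151645)) (.node (.leaf 617581) (.leaf 1060960))) (.node (.node (.leaf 224867) (.leaf 268361)) (.node (.leaf 846460) (.leaf 957532))))) (.node (.node (.node (.node (.leaf 620597) (.leaf 1064034)) (.node (.leaf 227915) (.leaf 275561))) (.node (.node (.leaf 524381) (.leaf 528989)) (.node (.leaf 181348) (.leaf 171076)))) (.node (.node (.node (.leaf 834146)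 (.leaf 951384)) (.node (.leaf 289899) (.leaf 804952))) (.node (.node (.leaf 765036) (.leaf 1067052)) (.node (.leaf 945762) (.leaf 532061)))))) (.node (.node (.node (.node (.node (.leaf 176226) (.leaf 567379)) (.node (.leaf 292955) (.leaf 794706))) (.node (.node (.leaf 851040) (.leaf 1055312)) (.node (.leaf 840290) (.leaf 202324)))) (.node (.node (.node (.leaf 345691) (.leaf 32850)) (.node (.leaf 854124) (.leaf 469595))) (.node (.node (.leaf 847448) (.leaf 201288)) (.node (.leaf 341595) (.leaf 18508))))) (.node (.node (.node (.node (.leaf 488529) (.leaf 1052252)) (.node (.leaf 561253) (.leaf 196186))) (.node (.node (.leaf 333371) (.leaf 307281)) (.node (.leaf 473697) (.leaf 489579)))) (.node (.node (.node (.leaf 721508) (.leaf 4705)) (.node (.leaf 904300) (.leaf 982612))) (.node (.node (.leaf 467497) (.leaf 1068138)) (.node (.leaf 725610) (.leaf 64617)))))))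

/-- How an element arises, part 19. -/
def kInfoPart19 : Janko1.Tree ℕ := (.node (.node (.node (.node (.node (.node (.leaf 515181) (.leaf 545333)) (.node (.leaf 884834) (.leaf 1061980))) (.node (.node (.leaf 103027) (.leaf 121964)) (.node (.leaf 506957) (.leaf 979554)))) (.node (.node (.node (.leaf 355947) (.leaf 384105)) (.node (.leaf 584813) (.leaf 553541))) (.node (.node (.leaf 648817) (.leaf 217188)) (.node (.leaf 364123) (.leaf 783946))))) (.node (.node (.node (.node (.leaf 1090154) (.leaf 556645)) (.node (.leaf 659017) (.leaf 213088))) (.node (.node (.leaf 945258) (.leaf 790124)) (.node (.leaf 581725) (.leaf 559717)))) (.node (.node (.node (.leaf 651889) (.leaf 218218)) (.node (.leaf 1023592) (.leaf 1041504))) (.node (.node (.leaf 237667) (.leaf 888420)) (.node (.leaf 829548) (.leaf 156221)))))) (.node (.node (.node (.node (.node (.leaf 94813) (.leaf 1033306)) (.node (.leaf 820834) (.leaf 260681))) (.node (.node (.leaf 61037) (.leaf 150133)) (.node (.leaf 100965) (.leaf 14917)))) (.node (.node (.node (.leaf 233563) (.leaf 897642)) (.node (.leaf 59485) (.leaf 155229))) (.node (.node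 (.leaf 50776) (.leaf 894576)) (.node (.leaf 516705) (.leaf 1044556))))) (.node (.node (.node (.node (.leaf 1103964) (.leaf 562773)) (.node (.leaf 214128) (.leaf 745576))) (.node (.node (.leaf 766028) (.leaf 466493)) (.node (.leaf 779296) (.leaf 876148)))) (.node (.node (.node (.leaf 220244) (.leaf 739434)) (.node (.leaf 388165) (.leaf 460397))) (.node (.node (.leaf 319595) (.leaf 362041)) (.node (.leaf 440403) (.leaf 885338)))))))

/-- How an element arises, part 20. -/
def kInfoPart20 : Janko1.Tree ℕ := (.node (.node (.node (.node (.node (.node (.leaf 522857) (.leaf 499787)) (.node (.leaf 1097826) (.leaf 801898))) (.node (.node (.leaf 437339) (.leaf 474689)) (.node (.leaf 219226) (.leaf 97857)))) (.node (.node (.node (.leaf 771160) (.leaf 448093)) (.node (.leaf 519785) (.leaf 1039482))) (.node (.node (.leaf 314435) (.leaf 879218)) (.node (.leaf 1100888) (.leaf 792660))))) (.node (.node (.node (.node (.leaf 457324) (.leaf 192067)) (.node (.leaf 197745) (.leaf 553540))) (.node (.node (.leaf 588884) (.leaf 458332)) (.node (.leaf 323692) (.leaf 547442)))) (.node (.node (.node (.leaf 1008237)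 (.leaf 1015885)) (.node (.leaf 453212) (.leaf 134752))) (.node (.node (.leaf 469594) (.leaf 379996)) (.node (.leaf 585778) (.leaf 461392)))))) (.node (.node (.node (.node (.node (.leaf 316442) (.leaf 550444)) (.node (.leaf 30281) (.leaf 386080))) (.node (.node (.leaf 196185) (.leaf 51827)) (.node (.leaf 764499) (.leaf 544328)))) (.node (.node (.node (.leaf 418404) (.leaf 559712)) (.node (.leaf 309874) (.leaf 534586))) (.node (.node (.leaf 768091) (.leaf 135762)) (.node (.leaf 415330) (.leaf 556642))))) (.node (.node (.node (.node (.leaf 1005173) (.leaf 1022029)) (.node (.leaf 772155) (.leaf 130636))) (.node (.node (.leaf 117873) (.leaf 405568)) (.node (.leaf 733257) (.leaf 443508)))) (.node (.node (.node (.leaf 295532) (.leaf 873051)) (.node (.leaf 363620) (.leaf 257644))) (.node (.node (.leaf 423528) (.leaf 64616)) (.node (.leaf 845379) (.leaf 914529)))))))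

/-- How an element arises, part 21. -/
def kInfoPart21 : Janko1.Tree ℕ := (.node (.node (.node (.node (.node (.node (.leaf 118889) (.leaf 114795)) (.node (.leaf 736361) (.leaf 474208))) (.node (.node (.leaf 904297) (.leaf 864859)) (.node (.leaf 1088097) (.leaf 1065067)))) (.node (.node (.node (.leaf 234066) (.leaf 411772)) (.node (.leaf 420460) (.leaf 665161))) (.node (.node (.leaf 727145) (.leaf 470130)) (.node (.leaf 55922) (.leaf 920681))))) (.node (.node (.node (.node (.leaf 301648) (.leaf 327772)) (.node (.leaf 1094225) (.leaf 260682))) (.node (.node (.leaf 417330) (.leaf 676457)) (.node (.leaf 833139) (.leaf 276058)))) (.node (.node (.node (.leaf 501348) (.leaf 980073)) (.node (.leaf 854593) (.leaf 288876))) (.node (.node (.leaf 586872) (.leaf 674429)) (.node (.leaf 963147) (.leaf 983137)))))) (.node (.node (.node (.node (.node (.leaf 848465) (.leaf 291944)) (.node (.leaf 583788) (.leaf 67152))) (.node (.node (.leaf 504432) (.leaf 242764)) (.node (.leaf 851537) (.leaf 285786)))) (.node (.node (.node (.leaf 728133) (.leaf 671325)) (.node (.leaf 670779) (.leaf 739945))) (.node (.node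 (.leaf 253024) (.leaf 13409)) (.node (.leaf 990819) (.leaf 955481))))) (.node (.node (.node (.node (.leaf 105034) (.leaf 465508)) (.node (.leaf 262220) (.leaf 45121))) (.node (.node (.leaf 241764) (.leaf 952401)) (.node (.leaf 665691) (.leaf 447088)))) (.node (.node (.node (.leaf 265298) (.leaf 44641)) (.node (.leaf 993875) (.leaf 497762))) (.node (.node (.leaf 686193) (.leaf 736875)) (.node (.leaf 895581) (.leaf 841845)))))))

/-- How an element arises, part 22. -/
def kInfoPart22 : Janko1.Tree ℕ := (.node (.node (.node (.node (.node (.node (.leaf 1045097) (.leaf 996443)) (.node (.leaf 387180) (.leaf 727603))) (.node (.node (.leaf 769113) (.leaf 83568)) (.node (.leaf 886389) (.leaf 622704)))) (.node (.node (.node (.leaf 368216) (.leaf 1002595)) (.node (.leaf 522856) (.leaf 759921))) (.node (.node (.leaf 22629) (.leaf 198189)) (.node (.leaf 698425) (.leaf 733803))))) (.node (.node (.node (.node (.leaf 503884) (.leaf 625746)) (.node (.leaf 365140) (.leaf 99956))) (.node (.node (.leaf 591450) (.leaf 87642)) (.node (.leaf 516708) (.leaf 754745)))) (.node (.node (.node (.leaf 388160) (.leaf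 194149)) (.node (.leaf 779297) (.leaf 809563))) (.node (.node (.leaf 774763) (.leaf 348788)) (.node (.leaf 391268) (.leaf 197221)))))) (.node (.node (.node (.node (.node (.leaf 653888) (.leaf 874545)) (.node (.leaf 951387) (.leaf 992865))) (.node (.node (.leaf 110176) (.leaf 555616)) (.node (.leaf 662140) (.leaf 862289)))) (.node (.node (.node (.leaf 954467) (.leaf 490554)) (.node (.leaf 679021) (.leaf 561770))) (.node (.node (.leaf 938603) (.leaf 351852)) (.node (.leaf 957531) (.leaf 989793))))) (.node (.node (.node (.node (.leaf 109154) (.leaf 558700)) (.node (.leaf 222324) (.leaf 70760))) (.node (.node (.leaf 598632) (.leaf 518764)) (.node (.leaf 692313) (.leaf 410738)))) (.node (.node (.node (.leaf 511580) (.leaf 330324)) (.node (.leaf 162404) (.leaf 788083))) (.node (.node (.leaf 545330) (.leaf 881193)) (.node (.leaf 499298) (.leaf 327240)))))))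

/-- How an element arises, part 23. -/
def kInfoPart23 : Janko1.Tree ℕ := (.node (.node (.node (.node (.node (.node (.leaf 225370) (.leaf 803417)) (.node (.leaf 604724) (.leaf 524904))) (.node (.node (.leaf 37474) (.leaf 708195)) (.node (.leaf 770097) (.leaf 261740)))) (.node (.node (.node (.leaf 551528) (.leaf 441952)) (.node (.leaf 816211) (.leaf 71244))) (.node (.node (.leaf 595562) (.leaf 521778)) (.node (.leaf 608) (.leaf 407648))))) (.node (.node (.node (.node (.leaf 508536) (.leaf 119915)) (.node (.leaf 163368) (.leaf 785011))) (.node (.node (.leaf 548436) (.leaf 878153)) (.node (.leaf 1055843) (.leaf 1081945)))) (.node (.node (.node (.leaf 347712) (.leaf 1076843)) (.node (.leaf 658528) (.leaf 770659))) (.node (.node (.leaf 458832) (.leaf 851041)) (.node (.leaf 599124) (.leaf 91722)))))) (.node (.node (.node (.node (.node (.leaf 650284) (.leaf 265816)) (.node (.leaf 339540) (.leaf 558176))) (.node (.node (.leaf 464948) (.leaf 133714)) (.node (.leaf 35389) (.leaf 253498)))) (.node (.node (.node (.leaf 335418) (.leaf 561250)) (.node (.leaf 446546) (.leaf 847969))) (.node (.node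 (.leaf 35957) (.leaf 215661)) (.node (.leaf 1058915) (.leaf 1069649))))) (.node (.node (.node (.node (.leaf 648314) (.leaf 776819)) (.node (.leaf 932377) (.leaf 844891))) (.node (.node (.leaf 354388) (.leaf 1078889)) (.node (.leaf 651356) (.leaf 773699)))) (.node (.node (.node (.leaf 935529) (.leaf 832603)) (.node (.leaf 464474) (.leaf 480836))) (.node (.node (.leaf 792659) (.leaf 825961)) (.node (.leaf 691827) (.leaf 353348)))))))

/-- How an element arises, part 24. -/
def kInfoPart24 : Janko1.Tree ℕ := (.node (.node (.node (.node (.node (.node (.leaf 114283) (.leaf 26737)) (.node (.leaf 160370) (.leaf 629354))) (.node (.node (.leaf 509028) (.leaf 714857)) (.node (.leaf 456292) (.leaf 26209)))) (.node (.node (.node (.leaf 161360) (.leaf 829033)) (.node (.leaf 499786) (.leaf 711785))) (.node (.node (.leaf 289356) (.leaf 34915)) (.node (.leaf 605792) (.leaf 174675))))) (.node (.node (.node (.node (.leaf 657996) (.leaf 375388)) (.node (.leaf 224322) (.leaf 219227))) (.node (.node (.leaf 909405) (.leaf 314434)) (.node (.leaf 1089117) (.leaf 80474)))) (.node (.node (.node (.leaf 215145)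 (.leaf 257120)) (.node (.leaf 906301) (.leaf 322620))) (.node (.node (.leaf 332908) (.leaf 75324)) (.node (.leaf 220769) (.leaf 20035)))))) (.node (.node (.node (.node (.node (.leaf 216145) (.leaf 220243)) (.node (.leaf 44129) (.leaf 173675))) (.node (.node (.leaf 995409) (.leaf 1047147)) (.node (.leaf 419954) (.leaf 866901)))) (.node (.node (.node (.leaf 345194) (.leaf 1066053)) (.node (.leaf 292466) (.leaf 633456))) (.node (.node (.leaf 590420) (.leaf 587346)) (.node (.leaf 1001569) (.leaf 369256))))) (.node (.node (.node (.node (.leaf 724603) (.leaf 505970)) (.node (.leaf 946237) (.leaf 529464))) (.node (.node (.leaf 291432) (.leaf 802381)) (.node (.leaf 720507) (.leaf 501868)))) (.node (.node (.node (.leaf 41056) (.leaf 532586)) (.node (.leaf 294476) (.leaf 793197))) (.node (.node (.leaf 729691) (.leaf 737353)) (.node (.leaf 42596) (.leaf 981621)))))))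

/-- How an element arises, part 25. -/
def kInfoPart25 : Janko1.Tree ℕ := (.node (.node (.node (.node (.node (.node (.leaf 288378) (.leaf 17004)) (.node (.leaf 713811) (.leaf 574556))) (.node (.node (.leaf 397408) (.leaf 881755)) (.node (.leaf 159324) (.leaf 248928)))) (.node (.node (.node (.leaf 710763) (.leaf 700001)) (.node (.leaf 400490) (.leaf 875635))) (.node (.node (.leaf 795725) (.leaf 258148)) (.node (.leaf 716891) (.leaf 577624))))) (.node (.node (.node (.node (.leaf 403556) (.leaf 878675)) (.node (.leaf 802909) (.leaf 254050))) (.node (.node (.leaf 817249) (.leaf 800323)) (.node (.leaf 995949) (.leaf 276568)))) (.node (.node (.node (.leaf 148600) (.leaf 130146)) (.node (.leaf 282192) (.leaf 174189))) (.node (.node (.leaf 1013861) (.leaf 614492)) (.node (.leaf 338516) (.leaf 967789)))))) (.node (.node (.node (.node (.node (.leaf 165981) (.leaf 595058)) (.node (.leaf 811137) (.leaf 806491))) (.node (.node (.leaf 1002053) (.leaf 269426)) (.node (.leaf 411228) (.leaf 1006181)))) (.node (.node (.node (.leaf 344642) (.leaf 964701)) (.node (.leaf 877171) (.leaf 894009))) (.node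 (.node (.leaf 414826) (.leaf 797259)) (.node (.leaf 999021) (.leaf 281700))))) (.node (.node (.node (.node (.leaf 883283) (.leaf 884833)) (.node (.leaf 169045) (.leaf 598076))) (.node (.node (.leaf 414290) (.leaf 611442)) (.node (.leaf 332344) (.leaf 958549)))) (.node (.node (.node (.leaf 287834) (.leaf 465996)) (.node (.leaf 616512) (.leaf 838757))) (.node (.node (.leaf 451652) (.leaf 205389)) (.node (.leaf 118365) (.leaf 447562)))))))

/-- How an element arises, part 26. -/
def kInfoPart26 : Janko1.Tree ℕ := (.node (.node (.node (.node (.node (.node (.leaf 933453) (.leaf 845917)) (.node (.leaf 467032) (.leaf 533068))) (.node (.node (.leaf 119397) (.leaf 459832)) (.node (.leaf 936533) (.leaf 274512)))) (.node (.node (.node (.leaf 473162) (.leaf 210517)) (.node (.leaf 243280) (.leaf 563284))) (.node (.node (.leaf 997485) (.leaf 1046117)) (.node (.leaf 484952) (.leaf 10332))))) (.node (.node (.node (.node (.leaf 983641) (.leaf 392794)) (.node (.leaf 85088) (.leaf 204401))) (.node (.node (.leaf 877643) (.leaf 842321)) (.node (.leaf 1100385) (.leaf 569434)))) (.node (.node (.node (.leaf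 297560) (.leaf 389712)) (.node (.leaf 5707) (.leaf 208465))) (.node (.node (.leaf 883827) (.leaf 659020)) (.node (.leaf 1003605) (.leaf 147020)))))) (.node (.node (.node (.node (.node (.leaf 761451) (.leaf 39010)) (.node (.leaf 246364) (.leaf 566352))) (.node (.node (.leaf 1000501) (.leaf 1036869)) (.node (.leaf 481908) (.leaf 38488)))) (.node (.node (.node (.leaf 303738) (.leaf 395860)) (.node (.leaf 91220) (.leaf 537176))) (.node (.node (.leaf 421932) (.leaf 830025)) (.node (.leaf 223852) (.leaf 402536))))) (.node (.node (.node (.node (.leaf 137242) (.leaf 319082)) (.node (.leaf 552512) (.leaf 649796))) (.node (.node (.leaf 229962) (.leaf 1081449)) (.node (.leaf 136296) (.leaf 180859)))) (.node (.node (.node (.leaf 737853) (.leaf 671781)) (.node (.leaf 226896) (.leaf 399452))) (.node (.node (.leaf 46649) (.leaf 325192)) (.node (.leaf 546410) (.leaf 666741)))))))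

/-- How an element arises, part 27. -/
def kInfoPart27 : Janko1.Tree ℕ := (.node (.node (.node (.node (.node (.node (.leaf 117337) (.leaf 155732)) (.node (.leaf 938105) (.leaf 433772))) (.node (.node (.leaf 489068) (.leaf 655952)) (.node (.leaf 1095795) (.leaf 1075801)))) (.node (.node (.node (.leaf 136800) (.leaf 681027)) (.node (.leaf 1050221) (.leaf 638532))) (.node (.node (.leaf 1092667) (.leaf 1072729)) (.node (.leaf 131698) (.leaf 668771))))) (.node (.node (.node (.node (.leaf 1043069) (.leaf 1005677)) (.node (.leaf 376880) (.leaf 25195))) (.node (.node (.leaf 928865) (.leaf 909907)) (.node (.leaf 492130) (.leaf 646738)))) (.node (.node (.node (.leaf 69738) (.leaf 396898)) (.node (.leaf 116337) (.leaf 5243))) (.node (.node (.leaf 924737) (.leaf 439898)) (.node (.leaf 682569) (.leaf 233060)))))) (.node (.node (.node (.node (.node (.leaf 805489) (.leaf 765035)) (.node (.leaf 579140) (.leaf 644704))) (.node (.node (.leaf 617580) (.leaf 318568)) (.node (.leaf 487522) (.leaf 325732)))) (.node (.node (.node (.leaf 171603) (.leaf 6153)) (.node (.leaf 672307) (.leaf 321620))) (.node (.node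 (.leaf 484468) (.leaf 1010785)) (.node (.leaf 552026) (.leaf 140356))))) (.node (.node (.node (.node (.leaf 675411) (.leaf 324682)) (.node (.leaf 1049187) (.leaf 328768))) (.node (.node (.leaf 548972) (.leaf 43097)) (.node (.leaf 857693) (.leaf 902221)))) (.node (.node (.node (.leaf 61034) (.leaf 383564)) (.node (.leaf 583260) (.leaf 8768))) (.node (.node (.leaf 863845) (.leaf 244322)) (.node (.leaf 18024) (.leaf 386664)))))))

/-- How an element arises, part 28. -/
def kInfoPart28 : Janko1.Tree ℕ := (.node (.node (.node (.node (.node (.node (.leaf 823913) (.leaf 793707)) (.node (.leaf 642634) (.leaf 239220))) (.node (.node (.leaf 941641) (.leaf 973931)) (.node (.leaf 826977) (.leaf 803947)))) (.node (.node (.node (.leaf 144484) (.leaf 88164)) (.node (.leaf 349288) (.leaf 175181))) (.node (.node (.leaf 89684) (.leaf 723041)) (.node (.leaf 751677) (.leaf 817749))))) (.node (.node (.node (.node (.leaf 706683) (.leaf 677441)) (.node (.leaf 1096803) (.leaf 1055313))) (.node (.node (.leaf 874081) (.leaf 89186)) (.node (.leaf 763997) (.leaf 814709)))) (.node (.node (.node (.leaf 703571) (.leaf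 247868)) (.node (.leaf 336972) (.leaf 307282))) (.node (.node (.leaf 714315) (.leaf 266256)) (.node (.leaf 1102939) (.leaf 426048)))))) (.node (.node (.node (.node (.node (.leaf 177253) (.leaf 310372)) (.node (.leaf 711275) (.leaf 731233))) (.node (.node (.leaf 1099867) (.leaf 429130)) (.node (.leaf 865881) (.leaf 84032)))) (.node (.node (.node (.leaf 757877) (.leaf 437856)) (.node (.leaf 304748) (.leaf 680529))) (.node (.node (.leaf 19049) (.leaf 530524)) (.node (.leaf 182825) (.leaf 47171))))) (.node (.node (.node (.node (.leaf 535650) (.leaf 302692)) (.node (.leaf 633952) (.leaf 527474))) (.node (.node (.leaf 183929) (.leaf 607328)) (.node (.leaf 696931) (.leaf 296538)))) (.node (.node (.node (.leaf 33329) (.leaf 533608)) (.node (.leaf 379490) (.leaf 48739))) (.node (.node (.leaf 684643) (.leaf 299632)) (.node (.leaf 1083497) (.leaf 1065539)))))))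

/-- How an element arises, part 29. -/
def kInfoPart29 : Janko1.Tree ℕ := (.node (.node (.node (.node (.node (.node (.leaf 941107) (.leaf 982609)) (.node (.leaf 189011) (.leaf 489580))) (.node (.node (.leaf 1073225) (.leaf 231536)) (.node (.leaf 947307) (.leaf 590944)))) (.node (.node (.node (.leaf 187995) (.leaf 29777)) (.node (.leaf 596564) (.leaf 1062499))) (.node (.node (.leaf 152168) (.leaf 985673)) (.node (.leaf 184915) (.leaf 29289))))) (.node (.node (.node (.node (.leaf 23629) (.leaf 346712)) (.node (.leaf 991321) (.leaf 60504))) (.node (.node (.leaf 725089) (.leaf 664139)) (.node (.leaf 250432) (.leaf 520776)))) (.node (.node (.node (.leaf 910921) (.leaf 483396)) (.node (.leaf 797797) (.leaf 82530))) (.node (.node (.leaf 47701) (.leaf 342610)) (.node (.leaf 730201) (.leaf 670307)))))) (.node (.node (.node (.node (.node (.leaf 256636) (.leaf 517714)) (.node (.leaf 569954) (.leaf 178781))) (.node (.node (.leaf 455266) (.leaf 673323)) (.node (.leaf 259706) (.leaf 523876)))) (.node (.node (.node (.leaf 988265) (.leaf 968291)) (.node (.leaf 907881) (.leaf 486514))) (.node (.node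 (.leaf 509554) (.leaf 753237)) (.node (.leaf 994401) (.leaf 965211))))) (.node (.node (.node (.node (.leaf 238700) (.leaf 939123)) (.node (.leaf 500340) (.leaf 750173))) (.node (.node (.leaf 1033307) (.leaf 1019505)) (.node (.leaf 1066581) (.leaf 1074253)))) (.node (.node (.node (.leaf 934505) (.leaf 834651)) (.node (.leaf 391778) (.leaf 506448))) (.node (.node (.leaf 1060469) (.leaf 619116)) (.node (.leaf 156216) (.leaf 839755)))))))

/-- How an element arises, part 30. -/
def kInfoPart30 : Janko1.Tree ℕ := (.node (.node (.node (.node (.node (.node (.leaf 394844) (.leaf 1016401)) (.node (.leaf 9304) (.leaf 622194))) (.node (.node (.leaf 155226) (.leaf 846915)) (.node (.leaf 996923) (.leaf 1028169)))) (.node (.node (.node (.leaf 774213) (.leaf 789109)) (.node (.leaf 309348) (.leaf 58448))) (.node (.node (.leaf 1003123) (.leaf 441436)) (.node (.leaf 766029) (.leaf 559196))))) (.node (.node (.node (.node (.leaf 914005) (.leaf 930901)) (.node (.leaf 112) (.leaf 438360))) (.node (.node (.leaf 507992) (.leaf 785997)) (.node (.leaf 312408) (.leaf 922741)))) (.node (.node (.node (.leaf 268360)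 (.leaf 376420)) (.node (.leaf 440400) (.leaf 186421))) (.node (.node (.leaf 1064035) (.leaf 139880)) (.node (.leaf 1103961) (.leaf 370272)))))) (.node (.node (.node (.node (.node (.leaf 434292) (.leaf 192645)) (.node (.leaf 1067051) (.leaf 1093209))) (.node (.node (.leaf 1100889) (.leaf 1059387)) (.node (.leaf 437338) (.leaf 355948)))) (.node (.node (.node (.leaf 453704) (.leaf 145004)) (.node (.leaf 974961) (.leaf 942699))) (.node (.node (.leaf 1054819) (.leaf 578138)) (.node (.leaf 28257) (.leaf 185931))))) (.node (.node (.node (.node (.leaf 962641) (.leaf 945763)) (.node (.leaf 1057875) (.leaf 1071721))) (.node (.node (.leaf 163920) (.leaf 300136)) (.node (.leaf 542810) (.leaf 948859)))) (.node (.node (.node (.leaf 1051755) (.leaf 1080937)) (.node (.leaf 164954) (.leaf 191059))) (.node (.node (.leaf 855645) (.leaf 609388)) (.node (.leaf 272962) (.leaf 99426)))))))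

/-- How an element arises, part 31. -/
def kInfoPart31 : Janko1.Tree ℕ := (.node (.node (.node (.node (.node (.node (.leaf 930371) (.leaf 311884)) (.node (.leaf 852581) (.leaf 857181))) (.node (.node (.leaf 285260) (.leaf 34411)) (.node (.leaf 926283) (.leaf 305770)))) (.node (.node (.node (.leaf 562280) (.leaf 869477)) (.node (.leaf 279104) (.leaf 33891))) (.node (.node (.leaf 393796) (.leaf 864353)) (.node (.leaf 856149) (.leaf 888421))))) (.node (.node (.node (.node (.leaf 821355) (.leaf 777817)) (.node (.leaf 745065) (.leaf 663667))) (.node (.node (.leaf 853093) (.leaf 527980)) (.node (.leaf 827499) (.leaf 765537)))) (.node (.node (.node (.leaf 741953) (.leaf 14912)) (.node (.leaf 849997) (.leaf 891493))) (.node (.node (.leaf 360546) (.leaf 644192)) (.node (.leaf 738921) (.leaf 64098)))))) (.node (.node (.node (.node (.node (.leaf 1007187) (.leaf 1021001)) (.node (.leaf 707157) (.leaf 503400))) (.node (.node (.leaf 640592) (.leaf 912981)) (.node (.leaf 951923) (.leaf 965729)))) (.node (.node (.node (.leaf 518242) (.leaf 205885)) (.node (.leaf 876149) (.leaf 896109))) (.node (.node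 (.leaf 97372) (.leaf 1017937)) (.node (.leaf 958067) (.leaf 475736))))) (.node (.node (.node (.node (.leaf 210013) (.leaf 202845)) (.node (.leaf 329818) (.leaf 515676))) (.node (.node (.leaf 926829) (.leaf 428148)) (.node (.leaf 663128) (.leaf 222824)))) (.node (.node (.node (.leaf 97858) (.leaf 445026)) (.node (.leaf 521308) (.leaf 206941))) (.node (.node (.leaf 647772) (.leaf 225890)) (.node (.leaf 93296) (.leaf 1014857)))))))

/-- How an element arises, part 32. -/
def kInfoPart32 : Janko1.Tree ℕ := (.node (.node (.node (.node (.node (.node (.leaf 315492) (.leaf 696413)) (.node (.leaf 936037) (.leaf 425058))) (.node (.node (.leaf 2149) (.leaf 616036)) (.node (.leaf 278628) (.leaf 852051)))) (.node (.node (.node (.leaf 896603) (.leaf 497260)) (.node (.leaf 30821) (.leaf 609882))) (.node (.node (.leaf 284760) (.leaf 848971)) (.node (.leaf 279644) (.leaf 491114))))) (.node (.node (.node (.node (.leaf 31341) (.leaf 612944)) (.node (.leaf 890441) (.leaf 855131))) (.node (.node (.leaf 887387) (.leaf 494128)) (.node (.leaf 18507) (.leaf 124521)))) (.node (.node (.node (.leaf 468060) (.leaf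 138818)) (.node (.leaf 791635) (.leaf 367708))) (.node (.node (.leaf 620122) (.leaf 120425)) (.node (.leaf 454746) (.leaf 853587)))))) (.node (.node (.node (.node (.node (.leaf 597600) (.leaf 760377)) (.node (.leaf 623160) (.leaf 333898))) (.node (.node (.leaf 476192) (.leaf 850515)) (.node (.leaf 602724) (.leaf 357482)))) (.node (.node (.node (.leaf 1043555) (.leaf 227914)) (.node (.leaf 1054309) (.leaf 107616))) (.node (.node (.leaf 409194) (.leaf 834147)) (.node (.leaf 67666) (.leaf 432724))))) (.node (.node (.node (.node (.leaf 343616) (.leaf 233562)) (.node (.leaf 812613) (.leaf 40026))) (.node (.node (.leaf 1040481) (.leaf 429648)) (.node (.leaf 712289) (.leaf 237668)))) (.node (.node (.node (.leaf 318068) (.leaf 749669)) (.node (.leaf 352352) (.leaf 224864))) (.node (.node (.leaf 1051245) (.leaf 102508)) (.node (.leaf 912481) (.leaf 241252)))))))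

/-- How an element arises, part 33. -/
def kInfoPart33 : Janko1.Tree ℕ := (.node (.node (.node (.node (.node (.node (.leaf 1046627) (.leaf 221780)) (.node (.leaf 1045601) (.leaf 1026675))) (.node (.node (.leaf 349794) (.leaf 230512)) (.node (.leaf 1057373) (.leaf 1101925)))) (.node (.node (.node (.leaf 328306) (.leaf 40552)) (.node (.leaf 918609) (.leaf 245346))) (.node (.node (.leaf 993379) (.leaf 967257)) (.node (.leaf 74346) (.leaf 631888))))) (.node (.node (.node (.node (.leaf 455784) (.leaf 21603)) (.node (.leaf 987211) (.leaf 554092))) (.node (.node (.leaf 77416) (.leaf 972925)) (.node (.leaf 450612) (.leaf 54355)))) (.node (.node (.node (.leaf 990291) (.leaf 557128)) (.node (.leaf 78436) (.leaf 975997))) (.node (.node (.leaf 463978) (.leaf 53859)) (.node (.leaf 570458) (.leaf 424034)))))) (.node (.node (.node (.node (.node (.leaf 804953) (.leaf 827995)) (.node (.leaf 195173) (.leaf 75866))) (.node (.node (.leaf 564308) (.leaf 430168)) (.node (.leaf 404562) (.leaf 821859)))) (.node (.node (.node (.leaf 200285) (.leaf 82016)) (.node (.leaf 567376) (.leaf 1017443))) (.node (.node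 (.leaf 794705) (.leaf 374394)) (.node (.leaf 199269) (.leaf 7797))))) (.node (.node (.node (.node (.leaf 0) (.leaf 0)) (.node (.leaf 0) (.leaf 0))) (.node (.node (.leaf 0) (.leaf 0)) (.node (.leaf 0) (.leaf 0)))) (.node (.node (.node (.leaf 0) (.leaf 0)) (.node (.leaf 0) (.leaf 0))) (.node (.node (.leaf 0) (.leaf 0)) (.node (.leaf 0) (.leaf 0)))))))

/-- How an element arises, part 34. -/
def kInfoPart34 : Janko1.Tree ℕ := (.node (.node (.node (.node (.node (.node (.leaf 0) (.leaf 0)) (.node (.leaf 0) (.leaf 0))) (.node (.node (.leaf 0) (.leaf 0)) (.node (.leaf 0) (.leaf 0)))) (.node (.node (.node (.leaf 0) (.leaf 0)) (.node (.leaf 0) (.leaf 0))) (.node (.node (.leaf 0) (.leaf 0)) (.node (.leaf 0) (.leaf 0))))) (.node (.node (.node (.node (.leaf 0) (.leaf 0)) (.node (.leaf 0) (.leaf 0))) (.node (.node (.leaf 0) (.leaf 0)) (.node (.leaf 0) (.leaf 0)))) (.node (.node (.node (.leaf 0) (.leaf 0)) (.node (.leaf 0) (.leaf 0))) (.node (.node (.leaf 0) (.leaf 0)) (.node (.leaf 0) (.leaf 0)))))) (.node (.node (.node (.node (.node (.leaf 0) (.leaf 0)) (.node (.leaf 0) (.leaf 0))) (.node (.node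 (.leaf 0) (.leaf 0)) (.node (.leaf 0) (.leaf 0)))) (.node (.node (.node (.leaf 0) (.leaf 0)) (.node (.leaf 0) (.leaf 0))) (.node (.node (.leaf 0) (.leaf 0)) (.node (.leaf 0) (.leaf 0))))) (.node (.node (.node (.node (.leaf 0) (.leaf 0)) (.node (.leaf 0) (.leaf 0))) (.node (.node (.leaf 0) (.leaf 0)) (.node (.leaf 0) (.leaf 0)))) (.node (.node (.node (.leaf 0) (.leaf 0)) (.node (.leaf 0) (.leaf 0))) (.node (.node (.leaf 0) (.leaf 0)) (.node (.leaf 0) (.leaf 0)))))))

/-- How an element arises, part 35. -/
def kInfoPart35 : Janko1.Tree ℕ := (.node (.node (.node (.node (.node (.node (.leaf 0) (.leaf 0)) (.node (.leaf 0) (.leaf 0))) (.node (.node (.leaf 0) (.leaf 0)) (.node (.leaf 0) (.leaf 0)))) (.node (.node (.node (.leaf 0) (.leaf 0)) (.node (.leaf 0) (.leaf 0))) (.node (.node (.leaf 0) (.leaf 0)) (.node (.leaf 0) (.leaf 0))))) (.node (.node (.node (.node (.leaf 0) (.leaf 0)) (.node (.leaf 0) (.leaf 0))) (.node (.node (.leaf 0) (.leaf 0)) (.node (.leaf 0) (.leaf 0)))) (.node (.node (.node (.leaf 0) (.leaf 0)) (.node (.leaf 0) (.leaf 0))) (.node (.node (.leaf 0) (.leaf 0)) (.node (.leaf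 0) (.leaf 0)))))) (.node (.node (.node (.node (.node (.leaf 0) (.leaf 0)) (.node (.leaf 0) (.leaf 0))) (.node (.node (.leaf 0) (.leaf 0)) (.node (.leaf 0) (.leaf 0)))) (.node (.node (.node (.leaf 0) (.leaf 0)) (.node (.leaf 0) (.leaf 0))) (.node (.node (.leaf 0) (.leaf 0)) (.node (.leaf 0) (.leaf 0))))) (.node (.node (.node (.node (.leaf 0) (.leaf 0)) (.node (.leaf 0) (.leaf 0))) (.node (.node (.leaf 0) (.leaf 0)) (.node (.leaf 0) (.leaf 0)))) (.node (.node (.node (.leaf 0) (.leaf 0)) (.node (.leaf 0) (.leaf 0))) (.node (.node (.leaf 0) (.leaf 0)) (.node (.leaf 0) (.leaf 0)))))))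

/-- How an element arises, part 36. -/
def kInfoPart36 : Janko1.Tree ℕ := (.node (.node (.node (.node (.node (.node (.leaf 0) (.leaf 0)) (.node (.leaf 0) (.leaf 0))) (.node (.node (.leaf 0) (.leaf 0)) (.node (.leaf 0) (.leaf 0)))) (.node (.node (.node (.leaf 0) (.leaf 0)) (.node (.leaf 0) (.leaf 0))) (.node (.node (.leaf 0) (.leaf 0)) (.node (.leaf 0) (.leaf 0))))) (.node (.node (.node (.node (.leaf 0) (.leaf 0)) (.node (.leaf 0) (.leaf 0))) (.node (.node (.leaf 0) (.leaf 0)) (.node (.leaf 0) (.leaf 0)))) (.node (.node (.node (.leaf 0) (.leaf 0)) (.node (.leaf 0) (.leaf 0))) (.node (.node (.leaf 0) (.leaf 0)) (.node (.leaf 0) (.leaf 0)))))) (.node (.node (.node (.node (.node (.leaf 0) (.leaf 0)) (.node (.leaf 0) (.leaf 0))) (.node (.node (.leaf 0) (.leaf 0)) (.node (.leaf 0) (.leaf 0)))) (.node (.node (.node (.leaf 0) (.leaf 0)) (.node (.leaf 0) (.leaf 0))) (.node (.node (.leaf 0) (.leaf 0)) (.node (.leaf 0) (.leaf 0))))) (.node (.node (.node (.node (.leaf 0) (.leaf 0)) (.node (.leaf 0) (.leaf 0))) (.node (.node (.leaf 0) (.leaf 0)) (.node (.leaf 0) (.leaf 0)))) (.node (.node (.node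 (.leaf 0) (.leaf 0)) (.node (.leaf 0) (.leaf 0))) (.node (.node (.leaf 0) (.leaf 0)) (.node (.leaf 0) (.leaf 0)))))))

/-- How an element arises, part 37. -/
def kInfoPart37 : Janko1.Tree ℕ := (.node (.node (.node (.node (.node (.node (.leaf 0) (.leaf 0)) (.node (.leaf 0) (.leaf 0))) (.node (.node (.leaf 0) (.leaf 0)) (.node (.leaf 0) (.leaf 0)))) (.node (.node (.node (.leaf 0) (.leaf 0)) (.node (.leaf 0) (.leaf 0))) (.node (.node (.leaf 0) (.leaf 0)) (.node (.leaf 0) (.leaf 0))))) (.node (.node (.node (.node (.leaf 0) (.leaf 0)) (.node (.leaf 0) (.leaf 0))) (.node (.node (.leaf 0) (.leaf 0)) (.node (.leaf 0) (.leaf 0)))) (.node (.node (.node (.leaf 0) (.leaf 0)) (.node (.leaf 0) (.leaf 0))) (.node (.node (.leaf 0) (.leaf 0)) (.node (.leaf 0) (.leaf 0)))))) (.node (.node (.node (.node (.node (.leaf 0) (.leaf 0)) (.node (.leaf 0) (.leaf 0))) (.node (.node (.leaf 0) (.leaf 0)) (.node (.leaf 0) (.leaf 0)))) (.node (.node (.node (.leaf 0) (.leaf 0)) (.node (.leaf 0) (.leaf 0))) (.node (.node (.leaf 0) (.leaf 0)) (.node (.leaf 0) (.leaf 0))))) (.node (.node (.node (.node (.leaf 0) (.leaf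 0)) (.node (.leaf 0) (.leaf 0))) (.node (.node (.leaf 0) (.leaf 0)) (.node (.leaf 0) (.leaf 0)))) (.node (.node (.node (.leaf 0) (.leaf 0)) (.node (.leaf 0) (.leaf 0))) (.node (.node (.leaf 0) (.leaf 0)) (.node (.leaf 0) (.leaf 0)))))))

/-- How an element arises, part 38. -/
def kInfoPart38 : Janko1.Tree ℕ := (.node (.node (.node (.node (.node (.node (.leaf 0) (.leaf 0)) (.node (.leaf 0) (.leaf 0))) (.node (.node (.leaf 0) (.leaf 0)) (.node (.leaf 0) (.leaf 0)))) (.node (.node (.node (.leaf 0) (.leaf 0)) (.node (.leaf 0) (.leaf 0))) (.node (.node (.leaf 0) (.leaf 0)) (.node (.leaf 0) (.leaf 0))))) (.node (.node (.node (.node (.leaf 0) (.leaf 0)) (.node (.leaf 0) (.leaf 0))) (.node (.node (.leaf 0) (.leaf 0)) (.node (.leaf 0) (.leaf 0)))) (.node (.node (.node (.leaf 0) (.leaf 0)) (.node (.leaf 0) (.leaf 0))) (.node (.node (.leaf 0) (.leaf 0)) (.node (.leaf 0) (.leaf 0)))))) (.node (.node (.node (.node (.node (.leaf 0) (.leaf 0)) (.node (.leaf 0) (.leaf 0))) (.node (.node (.leaf 0) (.leaf 0)) (.node (.leaf 0) (.leaf 0)))) (.node (.node (.node (.leaf 0) (.leaf 0)) (.node (.leaf 0) (.leaf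 0))) (.node (.node (.leaf 0) (.leaf 0)) (.node (.leaf 0) (.leaf 0))))) (.node (.node (.node (.node (.leaf 0) (.leaf 0)) (.node (.leaf 0) (.leaf 0))) (.node (.node (.leaf 0) (.leaf 0)) (.node (.leaf 0) (.leaf 0)))) (.node (.node (.node (.leaf 0) (.leaf 0)) (.node (.leaf 0) (.leaf 0))) (.node (.node (.leaf 0) (.leaf 0)) (.node (.leaf 0) (.leaf 0)))))))

/-- How an element arises, part 39. -/
def kInfoPart39 : Janko1.Tree ℕ := (.node (.node (.node (.node (.node (.node (.leaf 0) (.leaf 0)) (.node (.leaf 0) (.leaf 0))) (.node (.node (.leaf 0) (.leaf 0)) (.node (.leaf 0) (.leaf 0)))) (.node (.node (.node (.leaf 0) (.leaf 0)) (.node (.leaf 0) (.leaf 0))) (.node (.node (.leaf 0) (.leaf 0)) (.node (.leaf 0) (.leaf 0))))) (.node (.node (.node (.node (.leaf 0) (.leaf 0)) (.node (.leaf 0) (.leaf 0))) (.node (.node (.leaf 0) (.leaf 0)) (.node (.leaf 0) (.leaf 0)))) (.node (.node (.node (.leaf 0) (.leaf 0)) (.node (.leaf 0) (.leaf 0))) (.node (.node (.leaf 0) (.leaf 0)) (.node (.leaf 0) (.leaf 0)))))) (.node (.node (.node (.node (.node (.leaf 0) (.leaf 0)) (.node (.leaf 0) (.leaf 0))) (.node (.node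 (.leaf 0) (.leaf 0)) (.node (.leaf 0) (.leaf 0)))) (.node (.node (.node (.leaf 0) (.leaf 0)) (.node (.leaf 0) (.leaf 0))) (.node (.node (.leaf 0) (.leaf 0)) (.node (.leaf 0) (.leaf 0))))) (.node (.node (.node (.node (.leaf 0) (.leaf 0)) (.node (.leaf 0) (.leaf 0))) (.node (.node (.leaf 0) (.leaf 0)) (.node (.leaf 0) (.leaf 0)))) (.node (.node (.node (.leaf 0) (.leaf 0)) (.node (.leaf 0) (.leaf 0))) (.node (.node (.leaf 0) (.leaf 0)) (.node (.leaf 0) (.leaf 0)))))))

/-- How an element arises, part 40. -/
def kInfoPart40 : Janko1.Tree ℕ := (.node (.node (.node (.node (.node (.node (.leaf 0) (.leaf 0)) (.node (.leaf 0) (.leaf 0))) (.node (.node (.leaf 0) (.leaf 0)) (.node (.leaf 0) (.leaf 0)))) (.node (.node (.node (.leaf 0) (.leaf 0)) (.node (.leaf 0) (.leaf 0))) (.node (.node (.leaf 0) (.leaf 0)) (.node (.leaf 0) (.leaf 0))))) (.node (.node (.node (.node (.leaf 0) (.leaf 0)) (.node (.leaf 0) (.leaf 0))) (.node (.node (.leaf 0) (.leaf 0)) (.node (.leaf 0) (.leaf 0)))) (.node (.node (.node (.leaf 0) (.leaf 0)) (.node (.leaf 0) (.leaf 0))) (.node (.node (.leaf 0) (.leaf 0)) (.node (.leaf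 0) (.leaf 0)))))) (.node (.node (.node (.node (.node (.leaf 0) (.leaf 0)) (.node (.leaf 0) (.leaf 0))) (.node (.node (.leaf 0) (.leaf 0)) (.node (.leaf 0) (.leaf 0)))) (.node (.node (.node (.leaf 0) (.leaf 0)) (.node (.leaf 0) (.leaf 0))) (.node (.node (.leaf 0) (.leaf 0)) (.node (.leaf 0) (.leaf 0))))) (.node (.node (.node (.node (.leaf 0) (.leaf 0)) (.node (.leaf 0) (.leaf 0))) (.node (.node (.leaf 0) (.leaf 0)) (.node (.leaf 0) (.leaf 0)))) (.node (.node (.node (.leaf 0) (.leaf 0)) (.node (.leaf 0) (.leaf 0))) (.node (.node (.leaf 0) (.leaf 0)) (.node (.leaf 0) (.leaf 0)))))))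

/-- How an element arises, part 41. -/
def kInfoPart41 : Janko1.Tree ℕ := (.node (.node (.node (.node (.node (.node (.leaf 0) (.leaf 0)) (.node (.leaf 0) (.leaf 0))) (.node (.node (.leaf 0) (.leaf 0)) (.node (.leaf 0) (.leaf 0)))) (.node (.node (.node (.leaf 0) (.leaf 0)) (.node (.leaf 0) (.leaf 0))) (.node (.node (.leaf 0) (.leaf 0)) (.node (.leaf 0) (.leaf 0))))) (.node (.node (.node (.node (.leaf 0) (.leaf 0)) (.node (.leaf 0) (.leaf 0))) (.node (.node (.leaf 0) (.leaf 0)) (.node (.leaf 0) (.leaf 0)))) (.node (.node (.node (.leaf 0) (.leaf 0)) (.node (.leaf 0) (.leaf 0))) (.node (.node (.leaf 0) (.leaf 0)) (.node (.leaf 0) (.leaf 0)))))) (.node (.node (.node (.node (.node (.leaf 0) (.leaf 0)) (.node (.leaf 0) (.leaf 0))) (.node (.node (.leaf 0) (.leaf 0)) (.node (.leaf 0) (.leaf 0)))) (.node (.node (.node (.leaf 0) (.leaf 0)) (.node (.leaf 0) (.leaf 0))) (.node (.node (.leaf 0) (.leaf 0)) (.node (.leaf 0) (.leaf 0))))) (.node (.node (.node (.node (.leaf 0) (.leaf 0)) (.node (.leaf 0) (.leaf 0))) (.node (.node (.leaf 0) (.leaf 0)) (.node (.leaf 0) (.leaf 0)))) (.node (.node (.node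 (.leaf 0) (.leaf 0)) (.node (.leaf 0) (.leaf 0))) (.node (.node (.leaf 0) (.leaf 0)) (.node (.leaf 0) (.leaf 0)))))))

/-- How an element arises, part 42. -/
def kInfoPart42 : Janko1.Tree ℕ := (.node (.node (.node (.node (.node (.node (.leaf 0) (.leaf 0)) (.node (.leaf 0) (.leaf 0))) (.node (.node (.leaf 0) (.leaf 0)) (.node (.leaf 0) (.leaf 0)))) (.node (.node (.node (.leaf 0) (.leaf 0)) (.node (.leaf 0) (.leaf 0))) (.node (.node (.leaf 0) (.leaf 0)) (.node (.leaf 0) (.leaf 0))))) (.node (.node (.node (.node (.leaf 0) (.leaf 0)) (.node (.leaf 0) (.leaf 0))) (.node (.node (.leaf 0) (.leaf 0)) (.node (.leaf 0) (.leaf 0)))) (.node (.node (.node (.leaf 0) (.leaf 0)) (.node (.leaf 0) (.leaf 0))) (.node (.node (.leaf 0) (.leaf 0)) (.node (.leaf 0) (.leaf 0)))))) (.node (.node (.node (.node (.node (.leaf 0) (.leaf 0)) (.node (.leaf 0) (.leaf 0))) (.node (.node (.leaf 0) (.leaf 0)) (.node (.leaf 0) (.leaf 0)))) (.node (.node (.node (.leaf 0) (.leaf 0)) (.node (.leaf 0) (.leaf 0))) (.node (.node (.leaf 0) (.leaf 0)) (.node (.leaf 0) (.leaf 0))))) (.node (.node (.node (.node (.leaf 0) (.leaf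 0)) (.node (.leaf 0) (.leaf 0))) (.node (.node (.leaf 0) (.leaf 0)) (.node (.leaf 0) (.leaf 0)))) (.node (.node (.node (.leaf 0) (.leaf 0)) (.node (.leaf 0) (.leaf 0))) (.node (.node (.leaf 0) (.leaf 0)) (.node (.leaf 0) (.leaf 0)))))))

/-- How an element arises, part 43. -/
def kInfoPart43 : Janko1.Tree ℕ := (.node (.node (.node (.node (.node (.node (.leaf 0) (.leaf 0)) (.node (.leaf 0) (.leaf 0))) (.node (.node (.leaf 0) (.leaf 0)) (.node (.leaf 0) (.leaf 0)))) (.node (.node (.node (.leaf 0) (.leaf 0)) (.node (.leaf 0) (.leaf 0))) (.node (.node (.leaf 0) (.leaf 0)) (.node (.leaf 0) (.leaf 0))))) (.node (.node (.node (.node (.leaf 0) (.leaf 0)) (.node (.leaf 0) (.leaf 0))) (.node (.node (.leaf 0) (.leaf 0)) (.node (.leaf 0) (.leaf 0)))) (.node (.node (.node (.leaf 0) (.leaf 0)) (.node (.leaf 0) (.leaf 0))) (.node (.node (.leaf 0) (.leaf 0)) (.node (.leaf 0) (.leaf 0)))))) (.node (.node (.node (.node (.node (.leaf 0) (.leaf 0)) (.node (.leaf 0) (.leaf 0))) (.node (.node (.leaf 0) (.leaf 0)) (.node (.leaf 0) (.leaf 0)))) (.node (.node (.node (.leaf 0) (.leaf 0)) (.node (.leaf 0) (.leaf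 0))) (.node (.node (.leaf 0) (.leaf 0)) (.node (.leaf 0) (.leaf 0))))) (.node (.node (.node (.node (.leaf 0) (.leaf 0)) (.node (.leaf 0) (.leaf 0))) (.node (.node (.leaf 0) (.leaf 0)) (.node (.leaf 0) (.leaf 0)))) (.node (.node (.node (.leaf 0) (.leaf 0)) (.node (.leaf 0) (.leaf 0))) (.node (.node (.leaf 0) (.leaf 0)) (.node (.leaf 0) (.leaf 0)))))))

/-- How an element arises, part 44. -/
def kInfoPart44 : Janko1.Tree ℕ := (.node (.node (.node (.node (.node (.node (.leaf 0) (.leaf 0)) (.node (.leaf 0) (.leaf 0))) (.node (.node (.leaf 0) (.leaf 0)) (.node (.leaf 0) (.leaf 0)))) (.node (.node (.node (.leaf 0) (.leaf 0)) (.node (.leaf 0) (.leaf 0))) (.node (.node (.leaf 0) (.leaf 0)) (.node (.leaf 0) (.leaf 0))))) (.node (.node (.node (.node (.leaf 0) (.leaf 0)) (.node (.leaf 0) (.leaf 0))) (.node (.node (.leaf 0) (.leaf 0)) (.node (.leaf 0) (.leaf 0)))) (.node (.node (.node (.leaf 0) (.leaf 0)) (.node (.leaf 0) (.leaf 0))) (.node (.node (.leaf 0) (.leaf 0)) (.node (.leaf 0) (.leaf 0)))))) (.node (.node (.node (.node (.node (.leaf 0) (.leaf 0)) (.node (.leaf 0) (.leaf 0))) (.node (.node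 (.leaf 0) (.leaf 0)) (.node (.leaf 0) (.leaf 0)))) (.node (.node (.node (.leaf 0) (.leaf 0)) (.node (.leaf 0) (.leaf 0))) (.node (.node (.leaf 0) (.leaf 0)) (.node (.leaf 0) (.leaf 0))))) (.node (.node (.node (.node (.leaf 0) (.leaf 0)) (.node (.leaf 0) (.leaf 0))) (.node (.node (.leaf 0) (.leaf 0)) (.node (.leaf 0) (.leaf 0)))) (.node (.node (.node (.leaf 0) (.leaf 0)) (.node (.leaf 0) (.leaf 0))) (.node (.node (.leaf 0) (.leaf 0)) (.node (.leaf 0) (.leaf 0)))))))

/-- How an element arises, part 45. -/
def kInfoPart45 : Janko1.Tree ℕ := (.node (.node (.node (.node (.node (.node (.leaf 0) (.leaf 0)) (.node (.leaf 0) (.leaf 0))) (.node (.node (.leaf 0) (.leaf 0)) (.node (.leaf 0) (.leaf 0)))) (.node (.node (.node (.leaf 0) (.leaf 0)) (.node (.leaf 0) (.leaf 0))) (.node (.node (.leaf 0) (.leaf 0)) (.node (.leaf 0) (.leaf 0))))) (.node (.node (.node (.node (.leaf 0) (.leaf 0)) (.node (.leaf 0) (.leaf 0))) (.node (.node (.leaf 0) (.leaf 0)) (.node (.leaf 0) (.leaf 0)))) (.node (.node (.node (.leaf 0) (.leaf 0)) (.node (.leaf 0) (.leaf 0))) (.node (.node (.leaf 0) (.leaf 0)) (.node (.leaf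 0) (.leaf 0)))))) (.node (.node (.node (.node (.node (.leaf 0) (.leaf 0)) (.node (.leaf 0) (.leaf 0))) (.node (.node (.leaf 0) (.leaf 0)) (.node (.leaf 0) (.leaf 0)))) (.node (.node (.node (.leaf 0) (.leaf 0)) (.node (.leaf 0) (.leaf 0))) (.node (.node (.leaf 0) (.leaf 0)) (.node (.leaf 0) (.leaf 0))))) (.node (.node (.node (.node (.leaf 0) (.leaf 0)) (.node (.leaf 0) (.leaf 0))) (.node (.node (.leaf 0) (.leaf 0)) (.node (.leaf 0) (.leaf 0)))) (.node (.node (.node (.leaf 0) (.leaf 0)) (.node (.leaf 0) (.leaf 0))) (.node (.node (.leaf 0) (.leaf 0)) (.node (.leaf 0) (.leaf 0)))))))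

/-- How an element arises, part 46. -/
def kInfoPart46 : Janko1.Tree ℕ := (.node (.node (.node (.node (.node (.node (.leaf 0) (.leaf 0)) (.node (.leaf 0) (.leaf 0))) (.node (.node (.leaf 0) (.leaf 0)) (.node (.leaf 0) (.leaf 0)))) (.node (.node (.node (.leaf 0) (.leaf 0)) (.node (.leaf 0) (.leaf 0))) (.node (.node (.leaf 0) (.leaf 0)) (.node (.leaf 0) (.leaf 0))))) (.node (.node (.node (.node (.leaf 0) (.leaf 0)) (.node (.leaf 0) (.leaf 0))) (.node (.node (.leaf 0) (.leaf 0)) (.node (.leaf 0) (.leaf 0)))) (.node (.node (.node (.leaf 0) (.leaf 0)) (.node (.leaf 0) (.leaf 0))) (.node (.node (.leaf 0) (.leaf 0)) (.node (.leaf 0) (.leaf 0)))))) (.node (.node (.node (.node (.node (.leaf 0) (.leaf 0)) (.node (.leaf 0) (.leaf 0))) (.node (.node (.leaf 0) (.leaf 0)) (.node (.leaf 0) (.leaf 0)))) (.node (.node (.node (.leaf 0) (.leaf 0)) (.node (.leaf 0) (.leaf 0))) (.node (.node (.leaf 0) (.leaf 0)) (.node (.leaf 0) (.leaf 0))))) (.node (.node (.node (.node (.leaf 0) (.leaf 0)) (.node (.leaf 0) (.leaf 0))) (.node (.node (.leaf 0) (.leaf 0)) (.node (.leaf 0) (.leaf 0)))) (.node (.node (.node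 (.leaf 0) (.leaf 0)) (.node (.leaf 0) (.leaf 0))) (.node (.node (.leaf 0) (.leaf 0)) (.node (.leaf 0) (.leaf 0)))))))

/-- How an element arises, part 47. -/
def kInfoPart47 : Janko1.Tree ℕ := (.node (.node (.node (.node (.node (.node (.leaf 0) (.leaf 0)) (.node (.leaf 0) (.leaf 0))) (.node (.node (.leaf 0) (.leaf 0)) (.node (.leaf 0) (.leaf 0)))) (.node (.node (.node (.leaf 0) (.leaf 0)) (.node (.leaf 0) (.leaf 0))) (.node (.node (.leaf 0) (.leaf 0)) (.node (.leaf 0) (.leaf 0))))) (.node (.node (.node (.node (.leaf 0) (.leaf 0)) (.node (.leaf 0) (.leaf 0))) (.node (.node (.leaf 0) (.leaf 0)) (.node (.leaf 0) (.leaf 0)))) (.node (.node (.node (.leaf 0) (.leaf 0)) (.node (.leaf 0) (.leaf 0))) (.node (.node (.leaf 0) (.leaf 0)) (.node (.leaf 0) (.leaf 0)))))) (.node (.node (.node (.node (.node (.leaf 0) (.leaf 0)) (.node (.leaf 0) (.leaf 0))) (.node (.node (.leaf 0) (.leaf 0)) (.node (.leaf 0) (.leaf 0)))) (.node (.node (.node (.leaf 0) (.leaf 0)) (.node (.leaf 0) (.leaf 0))) (.node (.node (.leaf 0) (.leaf 0)) (.node (.leaf 0) (.leaf 0))))) (.node (.node (.node (.node (.leaf 0) (.leaf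 0)) (.node (.leaf 0) (.leaf 0))) (.node (.node (.leaf 0) (.leaf 0)) (.node (.leaf 0) (.leaf 0)))) (.node (.node (.node (.leaf 0) (.leaf 0)) (.node (.leaf 0) (.leaf 0))) (.node (.node (.leaf 0) (.leaf 0)) (.node (.leaf 0) (.leaf 0)))))))

/-- How an element arises, part 48. -/
def kInfoPart48 : Janko1.Tree ℕ := (.node (.node (.node (.node (.node (.node (.leaf 0) (.leaf 0)) (.node (.leaf 0) (.leaf 0))) (.node (.node (.leaf 0) (.leaf 0)) (.node (.leaf 0) (.leaf 0)))) (.node (.node (.node (.leaf 0) (.leaf 0)) (.node (.leaf 0) (.leaf 0))) (.node (.node (.leaf 0) (.leaf 0)) (.node (.leaf 0) (.leaf 0))))) (.node (.node (.node (.node (.leaf 0) (.leaf 0)) (.node (.leaf 0) (.leaf 0))) (.node (.node (.leaf 0) (.leaf 0)) (.node (.leaf 0) (.leaf 0)))) (.node (.node (.node (.leaf 0) (.leaf 0)) (.node (.leaf 0) (.leaf 0))) (.node (.node (.leaf 0) (.leaf 0)) (.node (.leaf 0) (.leaf 0)))))) (.node (.node (.node (.node (.node (.leaf 0) (.leaf 0)) (.node (.leaf 0) (.leaf 0))) (.node (.node (.leaf 0) (.leaf 0)) (.node (.leaf 0) (.leaf 0)))) (.node (.node (.node (.leaf 0) (.leaf 0)) (.node (.leaf 0) (.leaf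 0))) (.node (.node (.leaf 0) (.leaf 0)) (.node (.leaf 0) (.leaf 0))))) (.node (.node (.node (.node (.leaf 0) (.leaf 0)) (.node (.leaf 0) (.leaf 0))) (.node (.node (.leaf 0) (.leaf 0)) (.node (.leaf 0) (.leaf 0)))) (.node (.node (.node (.leaf 0) (.leaf 0)) (.node (.leaf 0) (.leaf 0))) (.node (.node (.leaf 0) (.leaf 0)) (.node (.leaf 0) (.leaf 0)))))))

/-- How an element arises, part 49. -/
def kInfoPart49 : Janko1.Tree ℕ := (.node (.node (.node (.node (.node (.node (.leaf 0) (.leaf 0)) (.node (.leaf 0) (.leaf 0))) (.node (.node (.leaf 0) (.leaf 0)) (.node (.leaf 0) (.leaf 0)))) (.node (.node (.node (.leaf 0) (.leaf 0)) (.node (.leaf 0) (.leaf 0))) (.node (.node (.leaf 0) (.leaf 0)) (.node (.leaf 0) (.leaf 0))))) (.node (.node (.node (.node (.leaf 0) (.leaf 0)) (.node (.leaf 0) (.leaf 0))) (.node (.node (.leaf 0) (.leaf 0)) (.node (.leaf 0) (.leaf 0)))) (.node (.node (.node (.leaf 0) (.leaf 0)) (.node (.leaf 0) (.leaf 0))) (.node (.node (.leaf 0) (.leaf 0)) (.node (.leaf 0) (.leaf 0)))))) (.node (.node (.node (.node (.node (.leaf 0) (.leaf 0)) (.node (.leaf 0) (.leaf 0))) (.node (.node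 (.leaf 0) (.leaf 0)) (.node (.leaf 0) (.leaf 0)))) (.node (.node (.node (.leaf 0) (.leaf 0)) (.node (.leaf 0) (.leaf 0))) (.node (.node (.leaf 0) (.leaf 0)) (.node (.leaf 0) (.leaf 0))))) (.node (.node (.node (.node (.leaf 0) (.leaf 0)) (.node (.leaf 0) (.leaf 0))) (.node (.node (.leaf 0) (.leaf 0)) (.node (.leaf 0) (.leaf 0)))) (.node (.node (.node (.leaf 0) (.leaf 0)) (.node (.leaf 0) (.leaf 0))) (.node (.node (.leaf 0) (.leaf 0)) (.node (.leaf 0) (.leaf 0)))))))

/-- How an element arises, part 50. -/
def kInfoPart50 : Janko1.Tree ℕ := (.node (.node (.node (.node (.node (.node (.leaf 0) (.leaf 0)) (.node (.leaf 0) (.leaf 0))) (.node (.node (.leaf 0) (.leaf 0)) (.node (.leaf 0) (.leaf 0)))) (.node (.node (.node (.leaf 0) (.leaf 0)) (.node (.leaf 0) (.leaf 0))) (.node (.node (.leaf 0) (.leaf 0)) (.node (.leaf 0) (.leaf 0))))) (.node (.node (.node (.node (.leaf 0) (.leaf 0)) (.node (.leaf 0) (.leaf 0))) (.node (.node (.leaf 0) (.leaf 0)) (.node (.leaf 0) (.leaf 0)))) (.node (.node (.node (.leaf 0) (.leaf 0)) (.node (.leaf 0) (.leaf 0))) (.node (.node (.leaf 0) (.leaf 0)) (.node (.leaf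 0) (.leaf 0)))))) (.node (.node (.node (.node (.node (.leaf 0) (.leaf 0)) (.node (.leaf 0) (.leaf 0))) (.node (.node (.leaf 0) (.leaf 0)) (.node (.leaf 0) (.leaf 0)))) (.node (.node (.node (.leaf 0) (.leaf 0)) (.node (.leaf 0) (.leaf 0))) (.node (.node (.leaf 0) (.leaf 0)) (.node (.leaf 0) (.leaf 0))))) (.node (.node (.node (.node (.leaf 0) (.leaf 0)) (.node (.leaf 0) (.leaf 0))) (.node (.node (.leaf 0) (.leaf 0)) (.node (.leaf 0) (.leaf 0)))) (.node (.node (.node (.leaf 0) (.leaf 0)) (.node (.leaf 0) (.leaf 0))) (.node (.node (.leaf 0) (.leaf 0)) (.node (.leaf 0) (.leaf 0)))))))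

/-- How an element arises, part 51. -/
def kInfoPart51 : Janko1.Tree ℕ := (.node (.node (.node (.node (.node (.node (.leaf 0) (.leaf 0)) (.node (.leaf 0) (.leaf 0))) (.node (.node (.leaf 0) (.leaf 0)) (.node (.leaf 0) (.leaf 0)))) (.node (.node (.node (.leaf 0) (.leaf 0)) (.node (.leaf 0) (.leaf 0))) (.node (.node (.leaf 0) (.leaf 0)) (.node (.leaf 0) (.leaf 0))))) (.node (.node (.node (.node (.leaf 0) (.leaf 0)) (.node (.leaf 0) (.leaf 0))) (.node (.node (.leaf 0) (.leaf 0)) (.node (.leaf 0) (.leaf 0)))) (.node (.node (.node (.leaf 0) (.leaf 0)) (.node (.leaf 0) (.leaf 0))) (.node (.node (.leaf 0) (.leaf 0)) (.node (.leaf 0) (.leaf 0)))))) (.node (.node (.node (.node (.node (.leaf 0) (.leaf 0)) (.node (.leaf 0) (.leaf 0))) (.node (.node (.leaf 0) (.leaf 0)) (.node (.leaf 0) (.leaf 0)))) (.node (.node (.node (.leaf 0) (.leaf 0)) (.node (.leaf 0) (.leaf 0))) (.node (.node (.leaf 0) (.leaf 0)) (.node (.leaf 0) (.leaf 0))))) (.node (.node (.node (.node (.leaf 0) (.leaf 0)) (.node (.leaf 0) (.leaf 0))) (.node (.node (.leaf 0) (.leaf 0)) (.node (.leaf 0) (.leaf 0)))) (.node (.node (.node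 (.leaf 0) (.leaf 0)) (.node (.leaf 0) (.leaf 0))) (.node (.node (.leaf 0) (.leaf 0)) (.node (.leaf 0) (.leaf 0)))))))

/-- How an element arises, part 52. -/
def kInfoPart52 : Janko1.Tree ℕ := (.node (.node (.node (.node (.node (.node (.leaf 0) (.leaf 0)) (.node (.leaf 0) (.leaf 0))) (.node (.node (.leaf 0) (.leaf 0)) (.node (.leaf 0) (.leaf 0)))) (.node (.node (.node (.leaf 0) (.leaf 0)) (.node (.leaf 0) (.leaf 0))) (.node (.node (.leaf 0) (.leaf 0)) (.node (.leaf 0) (.leaf 0))))) (.node (.node (.node (.node (.leaf 0) (.leaf 0)) (.node (.leaf 0) (.leaf 0))) (.node (.node (.leaf 0) (.leaf 0)) (.node (.leaf 0) (.leaf 0)))) (.node (.node (.node (.leaf 0) (.leaf 0)) (.node (.leaf 0) (.leaf 0))) (.node (.node (.leaf 0) (.leaf 0)) (.node (.leaf 0) (.leaf 0)))))) (.node (.node (.node (.node (.node (.leaf 0) (.leaf 0)) (.node (.leaf 0) (.leaf 0))) (.node (.node (.leaf 0) (.leaf 0)) (.node (.leaf 0) (.leaf 0)))) (.node (.node (.node (.leaf 0) (.leaf 0)) (.node (.leaf 0) (.leaf 0))) (.node (.node (.leaf 0) (.leaf 0)) (.node (.leaf 0) (.leaf 0))))) (.node (.node (.node (.node (.leaf 0) (.leaf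 0)) (.node (.leaf 0) (.leaf 0))) (.node (.node (.leaf 0) (.leaf 0)) (.node (.leaf 0) (.leaf 0)))) (.node (.node (.node (.leaf 0) (.leaf 0)) (.node (.leaf 0) (.leaf 0))) (.node (.node (.leaf 0) (.leaf 0)) (.node (.leaf 0) (.leaf 0)))))))

/-- How an element arises, part 53. -/
def kInfoPart53 : Janko1.Tree ℕ := (.node (.node (.node (.node (.node (.node (.leaf 0) (.leaf 0)) (.node (.leaf 0) (.leaf 0))) (.node (.node (.leaf 0) (.leaf 0)) (.node (.leaf 0) (.leaf 0)))) (.node (.node (.node (.leaf 0) (.leaf 0)) (.node (.leaf 0) (.leaf 0))) (.node (.node (.leaf 0) (.leaf 0)) (.node (.leaf 0) (.leaf 0))))) (.node (.node (.node (.node (.leaf 0) (.leaf 0)) (.node (.leaf 0) (.leaf 0))) (.node (.node (.leaf 0) (.leaf 0)) (.node (.leaf 0) (.leaf 0)))) (.node (.node (.node (.leaf 0) (.leaf 0)) (.node (.leaf 0) (.leaf 0))) (.node (.node (.leaf 0) (.leaf 0)) (.node (.leaf 0) (.leaf 0)))))) (.node (.node (.node (.node (.node (.leaf 0) (.leaf 0)) (.node (.leaf 0) (.leaf 0))) (.node (.node (.leaf 0) (.leaf 0)) (.node (.leaf 0) (.leaf 0)))) (.node (.node (.node (.leaf 0) (.leaf 0)) (.node (.leaf 0) (.leaf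 0))) (.node (.node (.leaf 0) (.leaf 0)) (.node (.leaf 0) (.leaf 0))))) (.node (.node (.node (.node (.leaf 0) (.leaf 0)) (.node (.leaf 0) (.leaf 0))) (.node (.node (.leaf 0) (.leaf 0)) (.node (.leaf 0) (.leaf 0)))) (.node (.node (.node (.leaf 0) (.leaf 0)) (.node (.leaf 0) (.leaf 0))) (.node (.node (.leaf 0) (.leaf 0)) (.node (.leaf 0) (.leaf 0)))))))

/-- How an element arises, part 54. -/
def kInfoPart54 : Janko1.Tree ℕ := (.node (.node (.node (.node (.node (.node (.leaf 0) (.leaf 0)) (.node (.leaf 0) (.leaf 0))) (.node (.node (.leaf 0) (.leaf 0)) (.node (.leaf 0) (.leaf 0)))) (.node (.node (.node (.leaf 0) (.leaf 0)) (.node (.leaf 0) (.leaf 0))) (.node (.node (.leaf 0) (.leaf 0)) (.node (.leaf 0) (.leaf 0))))) (.node (.node (.node (.node (.leaf 0) (.leaf 0)) (.node (.leaf 0) (.leaf 0))) (.node (.node (.leaf 0) (.leaf 0)) (.node (.leaf 0) (.leaf 0)))) (.node (.node (.node (.leaf 0) (.leaf 0)) (.node (.leaf 0) (.leaf 0))) (.node (.node (.leaf 0) (.leaf 0)) (.node (.leaf 0) (.leaf 0)))))) (.node (.node (.node (.node (.node (.leaf 0) (.leaf 0)) (.node (.leaf 0) (.leaf 0))) (.node (.node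 (.leaf 0) (.leaf 0)) (.node (.leaf 0) (.leaf 0)))) (.node (.node (.node (.leaf 0) (.leaf 0)) (.node (.leaf 0) (.leaf 0))) (.node (.node (.leaf 0) (.leaf 0)) (.node (.leaf 0) (.leaf 0))))) (.node (.node (.node (.node (.leaf 0) (.leaf 0)) (.node (.leaf 0) (.leaf 0))) (.node (.node (.leaf 0) (.leaf 0)) (.node (.leaf 0) (.leaf 0)))) (.node (.node (.node (.leaf 0) (.leaf 0)) (.node (.leaf 0) (.leaf 0))) (.node (.node (.leaf 0) (.leaf 0)) (.node (.leaf 0) (.leaf 0)))))))

/-- How an element arises, part 55. -/
def kInfoPart55 : Janko1.Tree ℕ := (.node (.node (.node (.node (.node (.node (.leaf 0) (.leaf 0)) (.node (.leaf 0) (.leaf 0))) (.node (.node (.leaf 0) (.leaf 0)) (.node (.leaf 0) (.leaf 0)))) (.node (.node (.node (.leaf 0) (.leaf 0)) (.node (.leaf 0) (.leaf 0))) (.node (.node (.leaf 0) (.leaf 0)) (.node (.leaf 0) (.leaf 0))))) (.node (.node (.node (.node (.leaf 0) (.leaf 0)) (.node (.leaf 0) (.leaf 0))) (.node (.node (.leaf 0) (.leaf 0)) (.node (.leaf 0) (.leaf 0)))) (.node (.node (.node (.leaf 0) (.leaf 0)) (.node (.leaf 0) (.leaf 0))) (.node (.node (.leaf 0) (.leaf 0)) (.node (.leaf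 0) (.leaf 0)))))) (.node (.node (.node (.node (.node (.leaf 0) (.leaf 0)) (.node (.leaf 0) (.leaf 0))) (.node (.node (.leaf 0) (.leaf 0)) (.node (.leaf 0) (.leaf 0)))) (.node (.node (.node (.leaf 0) (.leaf 0)) (.node (.leaf 0) (.leaf 0))) (.node (.node (.leaf 0) (.leaf 0)) (.node (.leaf 0) (.leaf 0))))) (.node (.node (.node (.node (.leaf 0) (.leaf 0)) (.node (.leaf 0) (.leaf 0))) (.node (.node (.leaf 0) (.leaf 0)) (.node (.leaf 0) (.leaf 0)))) (.node (.node (.node (.leaf 0) (.leaf 0)) (.node (.leaf 0) (.leaf 0))) (.node (.node (.leaf 0) (.leaf 0)) (.node (.leaf 0) (.leaf 0)))))))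

/-- How an element arises, part 56. -/
def kInfoPart56 : Janko1.Tree ℕ := (.node (.node (.node (.node (.node (.node (.leaf 0) (.leaf 0)) (.node (.leaf 0) (.leaf 0))) (.node (.node (.leaf 0) (.leaf 0)) (.node (.leaf 0) (.leaf 0)))) (.node (.node (.node (.leaf 0) (.leaf 0)) (.node (.leaf 0) (.leaf 0))) (.node (.node (.leaf 0) (.leaf 0)) (.node (.leaf 0) (.leaf 0))))) (.node (.node (.node (.node (.leaf 0) (.leaf 0)) (.node (.leaf 0) (.leaf 0))) (.node (.node (.leaf 0) (.leaf 0)) (.node (.leaf 0) (.leaf 0)))) (.node (.node (.node (.leaf 0) (.leaf 0)) (.node (.leaf 0) (.leaf 0))) (.node (.node (.leaf 0) (.leaf 0)) (.node (.leaf 0) (.leaf 0)))))) (.node (.node (.node (.node (.node (.leaf 0) (.leaf 0)) (.node (.leaf 0) (.leaf 0))) (.node (.node (.leaf 0) (.leaf 0)) (.node (.leaf 0) (.leaf 0)))) (.node (.node (.node (.leaf 0) (.leaf 0)) (.node (.leaf 0) (.leaf 0))) (.node (.node (.leaf 0) (.leaf 0)) (.node (.leaf 0) (.leaf 0))))) (.node (.node (.node (.node (.leaf 0) (.leaf 0)) (.node (.leaf 0) (.leaf 0))) (.node (.node (.leaf 0) (.leaf 0)) (.node (.leaf 0) (.leaf 0)))) (.node (.node (.node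 (.leaf 0) (.leaf 0)) (.node (.leaf 0) (.leaf 0))) (.node (.node (.leaf 0) (.leaf 0)) (.node (.leaf 0) (.leaf 0)))))))

/-- How an element arises, part 57. -/
def kInfoPart57 : Janko1.Tree ℕ := (.node (.node (.node (.node (.node (.node (.leaf 0) (.leaf 0)) (.node (.leaf 0) (.leaf 0))) (.node (.node (.leaf 0) (.leaf 0)) (.node (.leaf 0) (.leaf 0)))) (.node (.node (.node (.leaf 0) (.leaf 0)) (.node (.leaf 0) (.leaf 0))) (.node (.node (.leaf 0) (.leaf 0)) (.node (.leaf 0) (.leaf 0))))) (.node (.node (.node (.node (.leaf 0) (.leaf 0)) (.node (.leaf 0) (.leaf 0))) (.node (.node (.leaf 0) (.leaf 0)) (.node (.leaf 0) (.leaf 0)))) (.node (.node (.node (.leaf 0) (.leaf 0)) (.node (.leaf 0) (.leaf 0))) (.node (.node (.leaf 0) (.leaf 0)) (.node (.leaf 0) (.leaf 0)))))) (.node (.node (.node (.node (.node (.leaf 0) (.leaf 0)) (.node (.leaf 0) (.leaf 0))) (.node (.node (.leaf 0) (.leaf 0)) (.node (.leaf 0) (.leaf 0)))) (.node (.node (.node (.leaf 0) (.leaf 0)) (.node (.leaf 0) (.leaf 0))) (.node (.node (.leaf 0) (.leaf 0)) (.node (.leaf 0) (.leaf 0))))) (.node (.node (.node (.node (.leaf 0) (.leaf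 0)) (.node (.leaf 0) (.leaf 0))) (.node (.node (.leaf 0) (.leaf 0)) (.node (.leaf 0) (.leaf 0)))) (.node (.node (.node (.leaf 0) (.leaf 0)) (.node (.leaf 0) (.leaf 0))) (.node (.node (.leaf 0) (.leaf 0)) (.node (.leaf 0) (.leaf 0)))))))

/-- How an element arises, part 58. -/
def kInfoPart58 : Janko1.Tree ℕ := (.node (.node (.node (.node (.node (.node (.leaf 0) (.leaf 0)) (.node (.leaf 0) (.leaf 0))) (.node (.node (.leaf 0) (.leaf 0)) (.node (.leaf 0) (.leaf 0)))) (.node (.node (.node (.leaf 0) (.leaf 0)) (.node (.leaf 0) (.leaf 0))) (.node (.node (.leaf 0) (.leaf 0)) (.node (.leaf 0) (.leaf 0))))) (.node (.node (.node (.node (.leaf 0) (.leaf 0)) (.node (.leaf 0) (.leaf 0))) (.node (.node (.leaf 0) (.leaf 0)) (.node (.leaf 0) (.leaf 0)))) (.node (.node (.node (.leaf 0) (.leaf 0)) (.node (.leaf 0) (.leaf 0))) (.node (.node (.leaf 0) (.leaf 0)) (.node (.leaf 0) (.leaf 0)))))) (.node (.node (.node (.node (.node (.leaf 0) (.leaf 0)) (.node (.leaf 0) (.leaf 0))) (.node (.node (.leaf 0) (.leaf 0)) (.node (.leaf 0) (.leaf 0)))) (.node (.node (.node (.leaf 0) (.leaf 0)) (.node (.leaf 0) (.leaf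 0))) (.node (.node (.leaf 0) (.leaf 0)) (.node (.leaf 0) (.leaf 0))))) (.node (.node (.node (.node (.leaf 0) (.leaf 0)) (.node (.leaf 0) (.leaf 0))) (.node (.node (.leaf 0) (.leaf 0)) (.node (.leaf 0) (.leaf 0)))) (.node (.node (.node (.leaf 0) (.leaf 0)) (.node (.leaf 0) (.leaf 0))) (.node (.node (.leaf 0) (.leaf 0)) (.node (.leaf 0) (.leaf 0)))))))

/-- How an element arises, part 59. -/
def kInfoPart59 : Janko1.Tree ℕ := (.node (.node (.node (.node (.node (.node (.leaf 0) (.leaf 0)) (.node (.leaf 0) (.leaf 0))) (.node (.node (.leaf 0) (.leaf 0)) (.node (.leaf 0) (.leaf 0)))) (.node (.node (.node (.leaf 0) (.leaf 0)) (.node (.leaf 0) (.leaf 0))) (.node (.node (.leaf 0) (.leaf 0)) (.node (.leaf 0) (.leaf 0))))) (.node (.node (.node (.node (.leaf 0) (.leaf 0)) (.node (.leaf 0) (.leaf 0))) (.node (.node (.leaf 0) (.leaf 0)) (.node (.leaf 0) (.leaf 0)))) (.node (.node (.node (.leaf 0) (.leaf 0)) (.node (.leaf 0) (.leaf 0))) (.node (.node (.leaf 0) (.leaf 0)) (.node (.leaf 0) (.leaf 0)))))) (.node (.node (.node (.node (.node (.leaf 0) (.leaf 0)) (.node (.leaf 0) (.leaf 0))) (.node (.node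 (.leaf 0) (.leaf 0)) (.node (.leaf 0) (.leaf 0)))) (.node (.node (.node (.leaf 0) (.leaf 0)) (.node (.leaf 0) (.leaf 0))) (.node (.node (.leaf 0) (.leaf 0)) (.node (.leaf 0) (.leaf 0))))) (.node (.node (.node (.node (.leaf 0) (.leaf 0)) (.node (.leaf 0) (.leaf 0))) (.node (.node (.leaf 0) (.leaf 0)) (.node (.leaf 0) (.leaf 0)))) (.node (.node (.node (.leaf 0) (.leaf 0)) (.node (.leaf 0) (.leaf 0))) (.node (.node (.leaf 0) (.leaf 0)) (.node (.leaf 0) (.leaf 0)))))))

/-- How an element arises, part 60. -/
def kInfoPart60 : Janko1.Tree ℕ := (.node (.node (.node (.node (.node (.node (.leaf 0) (.leaf 0)) (.node (.leaf 0) (.leaf 0))) (.node (.node (.leaf 0) (.leaf 0)) (.node (.leaf 0) (.leaf 0)))) (.node (.node (.node (.leaf 0) (.leaf 0)) (.node (.leaf 0) (.leaf 0))) (.node (.node (.leaf 0) (.leaf 0)) (.node (.leaf 0) (.leaf 0))))) (.node (.node (.node (.node (.leaf 0) (.leaf 0)) (.node (.leaf 0) (.leaf 0))) (.node (.node (.leaf 0) (.leaf 0)) (.node (.leaf 0) (.leaf 0)))) (.node (.node (.node (.leaf 0) (.leaf 0)) (.node (.leaf 0) (.leaf 0))) (.node (.node (.leaf 0) (.leaf 0)) (.node (.leaf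 0) (.leaf 0)))))) (.node (.node (.node (.node (.node (.leaf 0) (.leaf 0)) (.node (.leaf 0) (.leaf 0))) (.node (.node (.leaf 0) (.leaf 0)) (.node (.leaf 0) (.leaf 0)))) (.node (.node (.node (.leaf 0) (.leaf 0)) (.node (.leaf 0) (.leaf 0))) (.node (.node (.leaf 0) (.leaf 0)) (.node (.leaf 0) (.leaf 0))))) (.node (.node (.node (.node (.leaf 0) (.leaf 0)) (.node (.leaf 0) (.leaf 0))) (.node (.node (.leaf 0) (.leaf 0)) (.node (.leaf 0) (.leaf 0)))) (.node (.node (.node (.leaf 0) (.leaf 0)) (.node (.leaf 0) (.leaf 0))) (.node (.node (.leaf 0) (.leaf 0)) (.node (.leaf 0) (.leaf 0)))))))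

/-- How an element arises, part 61. -/
def kInfoPart61 : Janko1.Tree ℕ := (.node (.node (.node (.node (.node (.node (.leaf 0) (.leaf 0)) (.node (.leaf 0) (.leaf 0))) (.node (.node (.leaf 0) (.leaf 0)) (.node (.leaf 0) (.leaf 0)))) (.node (.node (.node (.leaf 0) (.leaf 0)) (.node (.leaf 0) (.leaf 0))) (.node (.node (.leaf 0) (.leaf 0)) (.node (.leaf 0) (.leaf 0))))) (.node (.node (.node (.node (.leaf 0) (.leaf 0)) (.node (.leaf 0) (.leaf 0))) (.node (.node (.leaf 0) (.leaf 0)) (.node (.leaf 0) (.leaf 0)))) (.node (.node (.node (.leaf 0) (.leaf 0)) (.node (.leaf 0) (.leaf 0))) (.node (.node (.leaf 0) (.leaf 0)) (.node (.leaf 0) (.leaf 0)))))) (.node (.node (.node (.node (.node (.leaf 0) (.leaf 0)) (.node (.leaf 0) (.leaf 0))) (.node (.node (.leaf 0) (.leaf 0)) (.node (.leaf 0) (.leaf 0)))) (.node (.node (.node (.leaf 0) (.leaf 0)) (.node (.leaf 0) (.leaf 0))) (.node (.node (.leaf 0) (.leaf 0)) (.node (.leaf 0) (.leaf 0))))) (.node (.node (.node (.node (.leaf 0) (.leaf 0)) (.node (.leaf 0) (.leaf 0))) (.node (.node (.leaf 0) (.leaf 0)) (.node (.leaf 0) (.leaf 0)))) (.node (.node (.node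 (.leaf 0) (.leaf 0)) (.node (.leaf 0) (.leaf 0))) (.node (.node (.leaf 0) (.leaf 0)) (.node (.leaf 0) (.leaf 0)))))))

/-- How an element arises, part 62. -/
def kInfoPart62 : Janko1.Tree ℕ := (.node (.node (.node (.node (.node (.node (.leaf 0) (.leaf 0)) (.node (.leaf 0) (.leaf 0))) (.node (.node (.leaf 0) (.leaf 0)) (.node (.leaf 0) (.leaf 0)))) (.node (.node (.node (.leaf 0) (.leaf 0)) (.node (.leaf 0) (.leaf 0))) (.node (.node (.leaf 0) (.leaf 0)) (.node (.leaf 0) (.leaf 0))))) (.node (.node (.node (.node (.leaf 0) (.leaf 0)) (.node (.leaf 0) (.leaf 0))) (.node (.node (.leaf 0) (.leaf 0)) (.node (.leaf 0) (.leaf 0)))) (.node (.node (.node (.leaf 0) (.leaf 0)) (.node (.leaf 0) (.leaf 0))) (.node (.node (.leaf 0) (.leaf 0)) (.node (.leaf 0) (.leaf 0)))))) (.node (.node (.node (.node (.node (.leaf 0) (.leaf 0)) (.node (.leaf 0) (.leaf 0))) (.node (.node (.leaf 0) (.leaf 0)) (.node (.leaf 0) (.leaf 0)))) (.node (.node (.node (.leaf 0) (.leaf 0)) (.node (.leaf 0) (.leaf 0))) (.node (.node (.leaf 0) (.leaf 0)) (.node (.leaf 0) (.leaf 0))))) (.node (.node (.node (.node (.leaf 0) (.leaf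 0)) (.node (.leaf 0) (.leaf 0))) (.node (.node (.leaf 0) (.leaf 0)) (.node (.leaf 0) (.leaf 0)))) (.node (.node (.node (.leaf 0) (.leaf 0)) (.node (.leaf 0) (.leaf 0))) (.node (.node (.leaf 0) (.leaf 0)) (.node (.leaf 0) (.leaf 0)))))))

/-- How an element arises, part 63. -/
def kInfoPart63 : Janko1.Tree ℕ := (.node (.node (.node (.node (.node (.node (.leaf 0) (.leaf 0)) (.node (.leaf 0) (.leaf 0))) (.node (.node (.leaf 0) (.leaf 0)) (.node (.leaf 0) (.leaf 0)))) (.node (.node (.node (.leaf 0) (.leaf 0)) (.node (.leaf 0) (.leaf 0))) (.node (.node (.leaf 0) (.leaf 0)) (.node (.leaf 0) (.leaf 0))))) (.node (.node (.node (.node (.leaf 0) (.leaf 0)) (.node (.leaf 0) (.leaf 0))) (.node (.node (.leaf 0) (.leaf 0)) (.node (.leaf 0) (.leaf 0)))) (.node (.node (.node (.leaf 0) (.leaf 0)) (.node (.leaf 0) (.leaf 0))) (.node (.node (.leaf 0) (.leaf 0)) (.node (.leaf 0) (.leaf 0)))))) (.node (.node (.node (.node (.node (.leaf 0) (.leaf 0)) (.node (.leaf 0) (.leaf 0))) (.node (.node (.leaf 0) (.leaf 0)) (.node (.leaf 0) (.leaf 0)))) (.node (.node (.node (.leaf 0) (.leaf 0)) (.node (.leaf 0) (.leaf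 0))) (.node (.node (.leaf 0) (.leaf 0)) (.node (.leaf 0) (.leaf 0))))) (.node (.node (.node (.node (.leaf 0) (.leaf 0)) (.node (.leaf 0) (.leaf 0))) (.node (.node (.leaf 0) (.leaf 0)) (.node (.leaf 0) (.leaf 0)))) (.node (.node (.node (.leaf 0) (.leaf 0)) (.node (.leaf 0) (.leaf 0))) (.node (.node (.leaf 0) (.leaf 0)) (.node (.leaf 0) (.leaf 0)))))))

/-- How an element arises, block 0. -/
def kInfoBlock0 : Janko1.Tree ℕ := (.node (.node (.node (.node (.node kInfoPart0 kInfoPart1) (.node kInfoPart2 kInfoPart3)) (.node (.node kInfoPart4 kInfoPart5) (.node kInfoPart6 kInfoPart7))) (.node (.node (.node kInfoPart8 kInfoPart9) (.node kInfoPart10 kInfoPart11)) (.node (.node kInfoPart12 kInfoPart13) (.node kInfoPart14 kInfoPart15)))) (.node (.node (.node (.node kInfoPart16 kInfoPart17) (.node kInfoPart18 kInfoPart19)) (.node (.node kInfoPart20 kInfoPart21) (.node kInfoPart22 kInfoPart23))) (.node (.node (.node kInfoPart24 kInfoPart25) (.node kInfoPart26 kInfoPart27)) (.node (.node kInfoPart28 kInfoPart29) (.node kInfoPart30 kInfoPart31)))))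

/-- How an element arises, block 1. -/
def kInfoBlock1 : Janko1.Tree ℕ := (.node (.node (.node (.node (.node kInfoPart32 kInfoPart33) (.node kInfoPart34 kInfoPart35)) (.node (.node kInfoPart36 kInfoPart37) (.node kInfoPart38 kInfoPart39))) (.node (.node (.node kInfoPart40 kInfoPart41) (.node kInfoPart42 kInfoPart43)) (.node (.node kInfoPart44 kInfoPart45) (.node kInfoPart46 kInfoPart47)))) (.node (.node (.node (.node kInfoPart48 kInfoPart49) (.node kInfoPart50 kInfoPart51)) (.node (.node kInfoPart52 kInfoPart53) (.node kInfoPart54 kInfoPart55))) (.node (.node (.node kInfoPart56 kInfoPart57) (.node kInfoPart58 kInfoPart59)) (.node (.node kInfoPart60 kInfoPart61) (.node kInfoPart62 kInfoPart63)))))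

/-- How an element arises. -/
def kInfoTree : Janko1.Tree ℕ := (.node kInfoBlock0 kInfoBlock1)

/-- How an element arises, by index. -/
def kInfo (i : ℕ) : ℕ := kInfoTree.get 12 i

/-- Closure of the stabiliser, part 0. -/
def kClosePart0 : Janko1.Tree ℕ := (.node (.node (.node (.node (.node (.node (.leaf 5395979848) (.leaf 4651489080)) (.node (.leaf 3251639640) (.leaf 3998228038))) (.node (.node (.leaf 8607763080) (.leaf 8271170965)) (.node (.leaf 3171950821) (.leaf 4069529350)))) (.node (.node (.node (.leaf 4682948873) (.leaf 5070918958)) (.node (.leaf 7363104213) (.leaf 7090474529))) (.node (.node (.leaf 7419725856) (.leaf 7205816918)) (.node (.leaf 8319403958) (.leaf 9056554617))))) (.node (.node (.node (.node (.leaf 3424655672) (.leaf 1988107244)) (.node (.leaf 3483377160) (.leaf 2877298890))) (.node (.node (.leaf 1841306173) (.leaf 4110423426)) (.node (.leaf 2584746777) (.leaf 2908757864)))) (.node (.node (.node (.leaf 7797213496) (.leaf 5486152642)) (.node (.leaf 5825892552) (.leaf 6501175804))) (.node (.node (.leaf 2495616696) (.leaf 5264908132)) (.node (.leaf 2265978430) (.leaf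 1960842613)))))) (.node (.node (.node (.node (.node (.leaf 3328186334) (.leaf 4133492997)) (.node (.leaf 3588234686) (.leaf 5227158520))) (.node (.node (.leaf 8684311229) (.leaf 7700746306)) (.node (.leaf 6309284006) (.leaf 6574573821)))) (.node (.node (.node (.leaf 6421482352) (.leaf 7001344186)) (.node (.leaf 8931774606) (.leaf 6988763189))) (.node (.node (.leaf 5956965369) (.leaf 5458891192)) (.node (.leaf 7852788198) (.leaf 7740591005))))) (.node (.node (.node (.node (.leaf 7254052278) (.leaf 7329549852)) (.node (.leaf 6976178384) (.leaf 6471813954))) (.node (.node (.leaf 6446648153) (.leaf 6951012585)) (.node (.leaf 8296336998) (.leaf 8246005380)))) (.node (.node (.node (.leaf 5435820968) (.leaf 7847545122)) (.node (.leaf 7822379273) (.leaf 5511318417))) (.node (.node (.leaf 8632928809) (.leaf 8658094698)) (.node (.leaf 7725912080) (.leaf 8709477076)))))))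

/-- Closure of the stabiliser, part 1. -/
def kClosePart1 : Janko1.Tree ℕ := (.node (.node (.node (.node (.node (.node (.leaf 8734642854) (.leaf 7751077929)) (.node (.leaf 8369735676) (.leaf 8344569877))) (.node (.node (.leaf 6499076326) (.leaf 6334449733)) (.node (.leaf 6359615588) (.leaf 6624905420)))) (.node (.node (.node (.leaf 4676654809) (.leaf 4626323218)) (.node (.leaf 4143977880) (.leaf 1866472092))) (.node (.node (.leaf 1816140422) (.leaf 4211086697)) (.node (.leaf 3197116622) (.leaf 3222282532))))) (.node (.node (.node (.node (.leaf 2919241952) (.leaf 3508542938)) (.node (.leaf 3533708785) (.leaf 2952796409))) (.node (.node (.leaf 7470057481) (.leaf 7444891594)) (.node (.leaf 6585061861) (.leaf 5876224154)))) (.node (.node (.node (.leaf 5851058353) (.leaf 6627004878)) (.node (.leaf 7180651044) (.leaf 7230982789))) (.node (.node (.leaf 7715425206) (.leaf 7903119821)) (.node (.leaf 7928285612) (.leaf 7765756876)))))) (.node (.node (.node (.node (.node (.leaf 9031388762) (.leaf 9006222728)) (.node (.leaf 5500834257) (.leaf 6007296944))) (.node (.node (.leaf 6032462866) (.leaf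 5526000106)) (.node (.leaf 7157583290) (.leaf 7056920024)))) (.node (.node (.node (.leaf 7013928990) (.leaf 8982106229)) (.node (.leaf 8956940380) (.leaf 6963597388))) (.node (.node (.leaf 3276805369) (.leaf 3301971258)) (.node (.leaf 1937775645) (.leaf 3399489802))))) (.node (.node (.node (.node (.leaf 3449821473) (.leaf 2013273094)) (.node (.leaf 3973062188) (.leaf 3947896413))) (.node (.node (.leaf 5277490193) (.leaf 3613400485)) (.node (.leaf 3563068748) (.leaf 5252324322)))) (.node (.node (.node (.leaf 5337259545) (.leaf 5312093746)) (.node (.leaf 5214576461) (.leaf 2545948322))) (.node (.node (.leaf 2520782473) (.leaf 5239742334)) (.node (.leaf 5096084724) (.leaf 5121250645)))))))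

/-- Closure of the stabiliser, part 2. -/
def kClosePart2 : Janko1.Tree ℕ := (.node (.node (.node (.node (.node (.node (.leaf 2002785702) (.leaf 2207258101)) (.node (.leaf 2307921420) (.leaf 2027951500))) (.node (.node (.leaf 4733280442) (.leaf 4708114640)) (.node (.leaf 2875203385) (.leaf 2677021488)))) (.node (.node (.node (.leaf 2702187362) (.leaf 2950700882)) (.node (.leaf 4044363468) (.leaf 4019197741))) (.node (.node (.leaf 4108327150) (.leaf 3378517957)) (.node (.leaf 3353352044) (.leaf 4208990420))))) (.node (.node (.node (.node (.leaf 2128610840) (.leaf 3510640954)) (.node (.leaf 483401969) (.leaf 3226474613))) (.node (.node (.leaf 2097160590) (.leaf 2959089076)) (.node (.leaf 2103444978) (.leaf 3535806800)))) (.node (.node (.node (.leaf 2053113361) (.leaf 3485475177)) (.node (.leaf 13639850) (.leaf 3176143012))) (.node (.node (.leaf 479207704) (.leaf 3201308766)) (.node (.leaf 2122326461) (.leaf 2925534669)))))) (.node (.node (.node (.node (.node (.leaf 2046828964) (.leaf 2883591534)) (.node (.leaf 2749367904) (.leaf 3401586196))) (.node (.node (.leaf 584064156) (.leaf 3297778824))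 (.node (.leaf 2776635976) (.leaf 2019563468)))) (.node (.node (.node (.leaf 2782922298) (.leaf 3451917933)) (.node (.leaf 2850031193) (.leaf 3426752086))) (.node (.node (.leaf 30415909) (.leaf 3247447154)) (.node (.leaf 579869782) (.leaf 3272612913))))) (.node (.node (.node (.node (.leaf 2743081578) (.leaf 1944066021)) (.node (.leaf 2843744937) (.leaf 1994397566))) (.node (.node (.leaf 4259317416) (.leaf 2543852884)) (.node (.leaf 533733368) (.leaf 5314191256)))) (.node (.node (.node (.leaf 4227866388) (.leaf 5235545604)) (.node (.leaf 4234151554) (.leaf 2518687125))) (.node (.node (.leaf 4284483233) (.leaf 2493521278)) (.node (.leaf 38805425) (.leaf 5398077410)))))))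

/-- Closure of the stabiliser, part 3. -/
def kClosePart3 : Janko1.Tree ℕ := (.node (.node (.node (.node (.node (.node (.leaf 529538946) (.leaf 5339357113)) (.node (.leaf 4253032190) (.leaf 5210379853))) (.node (.node (.leaf 4278198061) (.leaf 5260711462)) (.node (.leaf 1895826392) (.leaf 2211452329)))) (.node (.node (.node (.leaf 508567797) (.leaf 5119153458)) (.node (.leaf 1927290946) (.leaf 2021660329))) (.node (.node (.leaf 1920992178) (.leaf 2312115650)) (.node (.leaf 1962935249) (.leaf 2270172632))))) (.node (.node (.node (.node (.leaf 1057054) (.leaf 5068821769)) (.node (.leaf 504373420) (.leaf 5093987544))) (.node (.node (.leaf 1902125073) (.leaf 1996494530)) (.node (.leaf 1969233960) (.leaf 1954551440)))) (.node (.node (.node (.leaf 5593105584) (.leaf 6469717106)) (.node (.leaf 382733825) (.leaf 7323256629))) (.node (.node (.leaf 5670702774) (.leaf 6946818516)) (.node (.leaf 5676991626) (.leaf 6444551304)))))) (.node (.node (.node (.node (.node (.leaf 5643437225) (.leaf 6419385505)) (.node (.leaf 55578018) (.leaf 7356811108))) (.node (.node (.leaf 378539568) (.leaf 7247759134))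 (.node (.leaf 5586816741) (.leaf 6971984365)))) (.node (.node (.node (.leaf 5637148364) (.leaf 6997150142)) (.node (.leaf 6247416648) (.leaf 8711571892))) (.node (.node (.leaf 407901002) (.leaf 8662290245)) (.node (.leaf 6165631765) (.leaf 7757370298))))) (.node (.node (.node (.node (.leaf 6171919138) (.leaf 8736737821)) (.node (.leaf 6146753345) (.leaf 8686406150))) (.node (.node (.leaf 63968096) (.leaf 8611958668)) (.node (.leaf 403706673) (.leaf 8637124518)))) (.node (.node (.node (.leaf 6241129188) (.leaf 7732204544)) (.node (.leaf 6140465918) (.leaf 7707038761))) (.node (.node (.leaf 4539286920) (.leaf 1864374132)) (.node (.leaf 558897510) (.leaf 4624225485)))))))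

/-- Closure of the stabiliser, part 4. -/
def kClosePart4 : Janko1.Tree ℕ := (.node (.node (.node (.node (.node (.node (.leaf 4568652529) (.leaf 4217379642)) (.node (.leaf 4564452706) (.leaf 1814042541))) (.node (.node (.leaf 4589618561) (.leaf 1839208342)) (.node (.leaf 34609604) (.leaf 4649391212)))) (.node (.node (.node (.leaf 554703277) (.leaf 4674557110)) (.node (.leaf 4543486680) (.leaf 4150270752))) (.node (.node (.leaf 4593818306) (.leaf 4116716409)) (.node (.leaf 2994734400) (.leaf 2681217126))))) (.node (.node (.node (.node (.leaf 307240090) (.leaf 4710211188)) (.node (.leaf 2975865789) (.leaf 2944408214))) (.node (.node (.leaf 2969568538) (.leaf 2706382996)) (.node (.leaf 2894071097) (.leaf 2588942461)))) (.node (.node (.node (.leaf 5250128) (.leaf 4685045390)) (.node (.leaf 303045665) (.leaf 4735377061))) (.node (.node (.leaf 3001031588) (.leaf 2868910644)) (.node (.leaf 2900368342) (.leaf 2902465149)))))) (.node (.node (.node (.node (.node (.leaf 4937745296) (.leaf 3607108865)) (.node (.leaf 332405088) (.leaf 3943700956))) (.node (.node (.leaf 4891614028) (.leaf 5256519137))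 (.node (.leaf 4895802218) (.leaf 3556777242)))) (.node (.node (.node (.leaf 4870636425) (.leaf 3581943088)) (.node (.leaf 26220969) (.leaf 3994032510))) (.node (.node (.leaf 328210882) (.leaf 3968866725)) (.node (.leaf 4933557102) (.leaf 5281685010))))) (.node (.node (.node (.node (.leaf 4866448133) (.leaf 5231353336)) (.node (.leaf 4177528272) (.leaf 3372226545))) (.node (.node (.leaf 458235902) (.leaf 4023392026)) (.node (.leaf 4083162809) (.leaf 4202699033)))) (.node (.node (.node (.leaf 4076864938) (.leaf 3347060746)) (.node (.leaf 4135585225) (.leaf 3321894944))) (.node (.node (.leaf 9445252) (.leaf 4073723625)) (.node (.leaf 454041525) (.leaf 4048557896)))))))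

/-- Closure of the stabiliser, part 5. -/
def kClosePart5 : Janko1.Tree ℕ := (.node (.node (.node (.node (.node (.node (.leaf 4183826128) (.leaf 4102035786)) (.node (.leaf 4141883114) (.leaf 4127201584))) (.node (.node (.leaf 6846153832) (.leaf 5874124908)) (.node (.leaf 433066628) (.leaf 7442797104)))) (.node (.node (.node (.leaf 6925848968) (.leaf 6633295996)) (.node (.leaf 6921651266) (.leaf 5848959125))) (.node (.node (.leaf 6820988001) (.leaf 5823793206)) (.node (.leaf 47190621) (.leaf 7417631258))))) (.node (.node (.node (.node (.leaf 428872206) (.leaf 7467962953)) (.node (.leaf 6850351474) (.leaf 6591352981))) (.node (.node (.leaf 6825185697) (.leaf 6507466854)) (.node (.leaf 7563379744) (.leaf 7907314009)))) (.node (.node (.node (.leaf 206574210) (.leaf 7237274210)) (.node (.leaf 7651463485) (.leaf 7759465297))) (.node (.node (.leaf 7655654394) (.leaf 7932479858)) (.node (.leaf 7630488601) (.leaf 7856982408)))))) (.node (.node (.node (.node (.node (.leaf 42996232) (.leaf 7212108449)) (.node (.leaf 202379865) (.leaf 7186942528))) (.node (.node (.leaf 7559188820) (.leaf 7709133698))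 (.node (.leaf 7626297710) (.leaf 7734299496)))) (.node (.node (.node (.leaf 8213497080) (.leaf 7845449058)) (.node (.leaf 282070605) (.leaf 8252295973))) (.node (.node (.leaf 8167362298) (.leaf 5517609044)) (.node (.leaf 8163165394) (.leaf 7820283208))))) (.node (.node (.node (.node (.leaf 8188331249) (.leaf 7795117433)) (.node (.leaf 59772390) (.leaf 8277461740))) (.node (.node (.leaf 277876364) (.leaf 8302627646)) (.node (.leaf 8217693993) (.leaf 5442111669)))) (.node (.node (.node (.leaf 8192528144) (.leaf 5492443270)) (.node (.leaf 5536481904) (.leaf 6011489494))) (.node (.node (.leaf 256904709) (.leaf 9002029324)) (.node (.leaf 5567941634) (.leaf 5519708878)))))))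

/-- Closure of the stabiliser, part 6. -/
def kClosePart6 : Janko1.Tree ℕ := (.node (.node (.node (.node (.node (.node (.leaf 5561647690) (.leaf 6036655340)) (.node (.leaf 5444207209) (.leaf 5961157821))) (.node (.node (.leaf 17829430) (.leaf 9052360998)) (.node (.leaf 252710308) (.leaf 9027195125)))) (.node (.node (.node (.leaf 5542775761) (.leaf 5494543028)) (.node (.leaf 5450501096) (.leaf 5452599965))) (.node (.node (.leaf 8528069304) (.leaf 8975813894)) (.node (.leaf 357568073) (.leaf 7059017674))))) (.node (.node (.node (.node (.leaf 8490323022) (.leaf 6967791785)) (.node (.leaf 8494514834) (.leaf 8950648116))) (.node (.node (.leaf 8570012337) (.leaf 8925482269)) (.node (.leaf 51383946) (.leaf 7092572153)))) (.node (.node (.node (.leaf 353373664) (.leaf 7159680992)) (.node (.leaf 8523877405) (.leaf 7018123482))) (.node (.node (.leaf 8565820468) (.leaf 6992957632)) (.node (.leaf 6517949184) (.leaf 6338643681)))))) (.node (.node (.node (.node (.node (.leaf 231740236) (.leaf 8338278338)) (.node (.leaf 6549410760) (.leaf 6618614057))) (.node (.node (.leaf 6543114970) (.leaf 6363809482))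 (.node (.leaf 6576669433) (.leaf 6313477880)))) (.node (.node (.node (.leaf 22025013) (.leaf 8313112473)) (.node (.leaf 227545958) (.leaf 8363444192))) (.node (.node (.leaf 6524245018) (.leaf 6492784962)) (.node (.leaf 6582965217) (.leaf 6568282384))))) (.node (.node (.node (.node (.leaf 4456454273) (.leaf 4859109637)) (.node (.leaf 852498121) (.leaf 2044731356))) (.node (.node (.leaf 3525314228) (.leaf 2739935929)) (.node (.leaf 4481620042) (.leaf 4884275436)))) (.node (.node (.node (.leaf 894441218) (.leaf 2120228854)) (.node (.leaf 3500148365) (.leaf 2840599272))) (.node (.node (.leaf 4506785888) (.leaf 4909441190)) (.node (.leaf 902829864) (.leaf 2086674349)))))))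

/-- Closure of the stabiliser, part 7. -/
def kClosePart7 : Janko1.Tree ℕ := (.node (.node (.node (.node (.node (.node (.leaf 3474982590) (.leaf 2807044818)) (.node (.leaf 5244985620) (.leaf 4945089793))) (.node (.node (.leaf 2433752340) (.leaf 2168456060)) (.node (.leaf 2609911224) (.leaf 339745661)))) (.node (.node (.node (.leaf 5270151366) (.leaf 4978644258)) (.node (.leaf 2458918190) (.leaf 2143290213))) (.node (.node (.leaf 2660242922) (.leaf 75504422)) (.node (.leaf 3130004862) (.leaf 3591379546))))) (.node (.node (.node (.node (.leaf 5219819741) (.leaf 4852815056)) (.node (.leaf 1872764353) (.leaf 2362448909))) (.node (.node (.leaf 2484083965) (.leaf 2067792774)) (.node (.leaf 3934264388) (.leaf 4641005821)))) (.node (.node (.node (.leaf 2635077073) (.leaf 343939900)) (.node (.leaf 3104839061) (.leaf 3616545320))) (.node (.node (.leaf 1847598432) (.leaf 2387614710)) (.node (.leaf 3984596142) (.leaf 4615840046)))))) (.node (.node (.node (.node (.node (.leaf 3155170660) (.leaf 3566213769)) (.node (.leaf 1822432682) (.leaf 2412780508))) (.node (.node (.leaf 3959430245) (.leaf 4666171572))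 (.node (.leaf 547363100) (.leaf 2463113544)))) (.node (.node (.node (.leaf 3713009309) (.leaf 2664439128)) (.node (.leaf 3741325389) (.leaf 5272245532))) (.node (.node (.leaf 2248147300) (.leaf 898635502)) (.node (.leaf 3600815536) (.leaf 3477084062))))) (.node (.node (.node (.node (.leaf 127932750) (.leaf 2488279393)) (.node (.leaf 1115692085) (.leaf 4508876956))) (.node (.node (.leaf 3679454844) (.leaf 2639273345)) (.node (.leaf 3841988708) (.leaf 5221913837)))) (.node (.node (.node (.leaf 543168821) (.leaf 2437947698)) (.node (.leaf 3788506774) (.leaf 2614107546))) (.node (.node (.leaf 3917486214) (.leaf 5247079758)) (.node (.leaf 2214592857) (.leaf 848303901)))))))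

/-- Closure of the stabiliser, part 8. -/
def kClosePart8 : Janko1.Tree ℕ := (.node (.node (.node (.node (.node (.node (.leaf 3550483913) (.leaf 3527415733)) (.node (.leaf 1073749134) (.leaf 4458545426))) (.node (.node (.leaf 2315255918) (.leaf 890246988)) (.node (.leaf 3575649762) (.leaf 3502249860)))) (.node (.node (.node (.leaf 1124080756) (.leaf 4483711261)) (.node (.leaf 2836406306) (.leaf 3577742676))) (.node (.node (.leaf 4886371936) (.leaf 1130370364)) (.node (.leaf 2113935766) (.leaf 2321553866))))) (.node (.node (.node (.node (.leaf 2408585709) (.leaf 859833774)) (.node (.leaf 4668267642) (.leaf 4305453325))) (.node (.node (.leaf 3570409546) (.leaf 704651002)) (.node (.leaf 2802851920) (.leaf 3602908454)))) (.node (.node (.node (.leaf 2358254108) (.leaf 868222412)) (.node (.leaf 4911537785) (.leaf 1121981790))) (.node (.node (.leaf 2080381276) (.leaf 2254444929)) (.node (.leaf 4643101769) (.leaf 4355784970)))))) (.node (.node (.node (.node (.node (.leaf 3595575321) (.leaf 679485224)) (.node (.leaf 2735743033) (.leaf 3552576845))) (.node (.node (.leaf 4861206162) (.leaf 1080038653))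 (.node (.leaf 2038438333) (.leaf 2220890472)))) (.node (.node (.node (.leaf 2383419910) (.leaf 834667989)) (.node (.leaf 4617936016) (.leaf 4330618936))) (.node (.node (.leaf 3620741168) (.leaf 713039633)) (.node (.leaf 350229918) (.leaf 3675265144))))) (.node (.node (.node (.node (.leaf 4850712736) (.leaf 3848274198)) (.node (.leaf 2065701346) (.leaf 130029826))) (.node (.node (.leaf 337646957) (.leaf 3784316977)) (.node (.leaf 4942987474) (.leaf 3923771672)))) (.node (.node (.node (.leaf 2166364665) (.leaf 536877264)) (.node (.leaf 81794436) (.leaf 3708819626))) (.node (.node (.leaf 4976541901) (.leaf 3747610777)) (.node (.leaf 2141198864) (.leaf 549460201)))))))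

/-- Closure of the stabiliser, part 9. -/
def kClosePart9 : Janko1.Tree ℕ := (.node (.node (.node (.node (.node (.node (.leaf 4332716249) (.leaf 3990885601)) (.node (.leaf 719324838) (.leaf 3109035230))) (.node (.node (.leaf 832577261) (.leaf 1849694816)) (.node (.leaf 4307550428) (.leaf 3965719826)))) (.node (.node (.node (.leaf 710936197) (.leaf 3159366900)) (.node (.leaf 857743060) (.leaf 1824528961))) (.node (.node (.leaf 4357881878) (.leaf 3940554048)) (.node (.leaf 685770412) (.leaf 3134201029))))) (.node (.node (.node (.node (.leaf 866131646) (.leaf 1874860706)) (.node (.leaf 5003811884) (.leaf 4097842345))) (.node (.node (.leaf 3407873389) (.leaf 2177900318)) (.node (.leaf 1196432962) (.leaf 2757760097)))) (.node (.node (.node (.leaf 5054143598) (.leaf 4173339746)) (.node (.leaf 3458205076) (.leaf 2152734516))) (.node (.node (.leaf 1154489897) (.leaf 2858423466)) (.node (.leaf 5028977797) (.leaf 4198505536)))))) (.node (.node (.node (.node (.node (.leaf 3433039262) (.leaf 2077236997)) (.node (.leaf 1204821592) (.leaf 2791314624))) (.node (.node (.leaf 2073041846) (.leaf 3384804286))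 (.node (.leaf 5421144150) (.leaf 4819255658)))) (.node (.node (.node (.leaf 2785026049) (.leaf 2598377286)) (.node (.leaf 3163559042) (.leaf 1170211724))) (.node (.node (.leaf 4196406550) (.leaf 819994849)) (.node (.leaf 3343915924) (.leaf 603986630))))) (.node (.node (.node (.node (.leaf 5354035356) (.leaf 4794089837)) (.node (.leaf 3113227416) (.leaf 1161823086))) (.node (.node (.leaf 3369081773) (.leaf 629152477)) (.node (.leaf 5328869485) (.leaf 4768923700)))) (.node (.node (.node (.leaf 3138393177) (.leaf 1136657301)) (.node (.leaf 3394247622) (.leaf 637541108))) (.node (.node (.leaf 2173705117) (.leaf 3334472684)) (.node (.leaf 2751471496) (.leaf 2657097468)))))))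

/-- Closure of the stabiliser, part 10. -/
def kClosePart10 : Janko1.Tree ℕ := (.node (.node (.node (.node (.node (.node (.leaf 4095743301) (.leaf 828383522)) (.node (.leaf 2148539340) (.leaf 3359638501))) (.node (.node (.leaf 2852134858) (.leaf 2631931621)) (.node (.leaf 4171240676) (.leaf 778051784)))) (.node (.node (.node (.leaf 2625634553) (.leaf 1150294488)) (.node (.leaf 771758193) (.leaf 5052039538))) (.node (.node (.leaf 3357548686) (.leaf 3460308365)) (.node (.leaf 3897558390) (.leaf 2286950306))))) (.node (.node (.node (.node (.leaf 568335869) (.leaf 3067090476)) (.node (.leaf 3821018217) (.leaf 4221575385))) (.node (.node (.leaf 2592080132) (.leaf 1200626041)) (.node (.leaf 3864003932) (.leaf 2236618633)))) (.node (.node (.node (.leaf 94379542) (.leaf 3092256350)) (.node (.leaf 813701208) (.leaf 5026873532))) (.node (.node (.leaf 3382714461) (.leaf 3435142518)) (.node (.leaf 3770686594) (.leaf 4154466496)))))) (.node (.node (.node (.node (.node (.leaf 2650800278) (.leaf 1192237474)) (.node (.leaf 822089890) (.leaf 5001707901))) (.node (.node (.leaf 3332382836) (.leaf 3409976644))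 (.node (.leaf 3645900157) (.leaf 2337281888)))) (.node (.node (.node (.leaf 572530148) (.leaf 3041924725)) (.node (.leaf 3670023208) (.leaf 4120912146))) (.node (.node (.leaf 2510296920) (.leaf 3142588657)) (.node (.leaf 2391809856) (.leaf 3390052021))))) (.node (.node (.node (.node (.leaf 4064289000) (.leaf 5330967640)) (.node (.leaf 3088062461) (.leaf 2772436422))) (.node (.node (.leaf 2560628689) (.leaf 3167754456)) (.node (.leaf 4156560712) (.leaf 5135933085)))) (.node (.node (.node (.leaf 2366644057) (.leaf 3339720324)) (.node (.leaf 2232426654) (.leaf 469767682))) (.node (.node (.leaf 4013957281) (.leaf 5423242402)) (.node (.leaf 2535462842) (.leaf 3117422786)))))))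

/-- Closure of the stabiliser, part 11. -/
def kClosePart11 : Janko1.Tree ℕ := (.node (.node (.node (.node (.node (.node (.leaf 2341478258) (.leaf 3364886174)) (.node (.leaf 4039123202) (.leaf 5356133433))) (.node (.node (.leaf 3037730862) (.leaf 2722104741)) (.node (.leaf 4123006185) (.leaf 5161098860)))) (.node (.node (.node (.leaf 2333089924) (.leaf 67114569)) (.node (.leaf 3062896660) (.leaf 2822768060))) (.node (.node (.leaf 4223669530) (.leaf 5186264710)) (.node (.leaf 2282758253) (.leaf 465573408))))) (.node (.node (.node (.node (.leaf 635438437) (.leaf 2345670844)) (.node (.leaf 4791992516) (.leaf 4037025404))) (.node (.node (.leaf 1159732073) (.leaf 2537562500)) (.node (.leaf 643827078) (.leaf 2396002454)))) (.node (.node (.node (.leaf 4766826689) (.leaf 4062191254)) (.node (.leaf 1134566146) (.leaf 2512396726))) (.node (.node (.leaf 610272652) (.leaf 2370836549)) (.node (.leaf 4817158186) (.leaf 4011859557)))))) (.node (.node (.node (.node (.node (.leaf 1168120648) (.leaf 2562728349)) (.node (.leaf 5163188453) (.leaf 3667919033))) (.node (.node (.leaf 73408354) (.leaf 3641711850))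 (.node (.leaf 2720011381) (.leaf 574626838)))) (.node (.node (.node (.leaf 5188354282) (.leaf 3818914168)) (.node (.leaf 463478648) (.leaf 3893370041))) (.node (.node (.leaf 2820674630) (.leaf 562043877)) (.node (.leaf 5138022496) (.leaf 3768582518))))) (.node (.node (.node (.node (.leaf 476061513) (.leaf 3859815632)) (.node (.leaf 2770343052) (.leaf 96476156))) (.node (.node (.leaf 1250956809) (.leaf 3759152896)) (.node (.leaf 5344597600) (.leaf 2912951760)))) (.node (.node (.node (.leaf 2325743105) (.leaf 4296022628)) (.node (.leaf 1259345466) (.leaf 3658489626))) (.node (.node (.leaf 5319431801) (.leaf 3005226474)) (.node (.leaf 2275411466) (.leaf 4245690950)))))))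

/-- Closure of the stabiliser, part 12. -/
def kClosePart12 : Janko1.Tree ℕ := (.node (.node (.node (.node (.node (.node (.leaf 1217402352) (.leaf 3809484593)) (.node (.leaf 5403317810) (.leaf 2980060673))) (.node (.node (.leaf 2225079784) (.leaf 4270856869)) (.node (.leaf 3838843606) (.leaf 1326455654)))) (.node (.node (.node (.leaf 1948260624) (.leaf 4661977461)) (.node (.leaf 4586480049) (.leaf 2644510281))) (.node (.node (.leaf 3729791725) (.leaf 1334844188)) (.node (.leaf 1889540394) (.leaf 4611645790))))) (.node (.node (.node (.node (.leaf 4561314176) (.leaf 2577401426)) (.node (.leaf 3905952444) (.leaf 1292901173))) (.node (.node (.leaf 1914706241) (.leaf 4636811588)) (.node (.leaf 4536148378) (.leaf 2619344432)))) (.node (.node (.node (.leaf 4391441620) (.leaf 4238352633)) (.node (.leaf 2189427572) (.leaf 3914342065))) (.node (.node (.leaf 666900284) (.leaf 1905269104)) (.node (.leaf 4416607494) (.leaf 4288684210)))))) (.node (.node (.node (.node (.node (.leaf 2290090910) (.leaf 3872399074)) (.node (.leaf 624957150) (.leaf 1980766617))) (.node (.node (.leaf 4441773349) (.leaf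 4263518504)) (.node (.leaf 2239759269) (.leaf 3654295240)))) (.node (.node (.node (.leaf 675288853) (.leaf 1930435026)) (.node (.leaf 3016759730) (.leaf 2475693242))) (.node (.node (.leaf 3801094770) (.leaf 1860175405)) (.node (.leaf 4573894761) (.leaf 1279268178))))) (.node (.node (.node (.node (.leaf 2991593808) (.leaf 2425361569)) (.node (.leaf 3733985872) (.leaf 1885341180))) (.node (.node (.leaf 4548728986) (.leaf 1270879529)) (.node (.leaf 2932873609) (.leaf 2450527304)))) (.node (.node (.node (.leaf 3692042929) (.leaf 1835009574)) (.node (.leaf 4599060560) (.leaf 1228936432))) (.node (.node (.leaf 3650101630) (.leaf 2556429892)) (.node (.leaf 1934630926) (.leaf 3046121414)))))))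

/-- Closure of the stabiliser, part 13. -/
def kClosePart13 : Janko1.Tree ℕ := (.node (.node (.node (.node (.node (.node (.leaf 4265614460) (.leaf 1346380046)) (.node (.leaf 3910148525) (.leaf 2506098293))) (.node (.node (.leaf 1909465045) (.leaf 3071287204)) (.node (.leaf 4240448662) (.leaf 1354768596)))) (.node (.node (.node (.leaf 3868205460) (.leaf 2531264110)) (.node (.leaf 1984962452) (.leaf 3020955629))) (.node (.node (.leaf 4290780237) (.leaf 1304436925)) (.node (.leaf 2692744670) (.leaf 3696237325))))) (.node (.node (.node (.node (.leaf 5286928001) (.leaf 4601158717)) (.node (.leaf 700456478) (.leaf 2928678742))) (.node (.node (.leaf 2667578804) (.leaf 3805289300)) (.node (.leaf 5387591322) (.leaf 4575992996)))) (.node (.node (.node (.leaf 742399564) (.leaf 3012564725)) (.node (.leaf 2566915557) (.leaf 3738180470))) (.node (.node (.leaf 5362425448) (.leaf 4550827102)) (.node (.leaf 750788149) (.leaf 2987398948)))))) (.node (.node (.node (.node (.node (.leaf 4728030112) (.leaf 2227180694)) (.node (.leaf 1268782301) (.leaf 5364514917))) (.node (.node (.leaf 2429550998) (.leaf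 748691430)) (.node (.leaf 1879053877) (.leaf 2573212985)))) (.node (.node (.node (.leaf 659560362) (.leaf 1221596636)) (.node (.leaf 4488960510) (.leaf 5407508002))) (.node (.node (.leaf 3025142176) (.leaf 622859464)) (.node (.leaf 1302339185) (.leaf 4414505160))))) (.node (.node (.node (.node (.leaf 2524979545) (.leaf 2296387584)) (.node (.leaf 2621446641) (.leaf 5108663776))) (.node (.node (.leaf 3050308014) (.leaf 673191017)) (.node (.leaf 1344282272) (.leaf 4439670949)))) (.node (.node (.node (.leaf 1297096826) (.leaf 735059346)) (.node (.leaf 2550145344) (.leaf 2246055961))) (.node (.node (.leaf 4630513258) (.leaf 4989129793)) (.node (.leaf 4753195889) (.leaf 2327843925)))))))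

/-- Closure of the stabiliser, part 14. -/
def kClosePart14 : Janko1.Tree ℕ := (.node (.node (.node (.node (.node (.node (.leaf 651171696) (.leaf 1255151022)) (.node (.leaf 4514126356) (.leaf 5348787705))) (.node (.node (.leaf 4702864282) (.leaf 2277512316)) (.node (.leaf 3075473581) (.leaf 664802482)))) (.node (.node (.node (.leaf 1352670858) (.leaf 4389339350)) (.node (.leaf 2499813746) (.leaf 2195724266))) (.node (.node (.leaf 617617297) (.leaf 1263539653)) (.node (.leaf 4463794661) (.leaf 5323621928))))) (.node (.node (.node (.node (.leaf 2646612488) (.leaf 5083497905)) (.node (.leaf 1330651233) (.leaf 726670672))) (.node (.node (.leaf 4655679041) (.leaf 5014295666)) (.node (.leaf 1226839350) (.leaf 5289017568)))) (.node (.node (.node (.leaf 2454716808) (.leaf 698359709)) (.node (.leaf 1828722302) (.leaf 2699042080))) (.node (.node (.leaf 2579503650) (.leaf 5058332122)) (.node (.leaf 1277170956) (.leaf 5389680878)))))) (.node (.node (.node (.node (.node (.leaf 2479882421) (.leaf 740302780)) (.node (.leaf 1339039888) (.leaf 693116281))) (.node (.node (.leaf 1853888100) (.leaf 2673876234))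 (.node (.leaf 4605347440) (.leaf 5039461512)))) (.node (.node (.node (.leaf 3007323868) (.leaf 4467983200)) (.node (.leaf 4249886148) (.leaf 4698675181))) (.node (.node (.leaf 3662683080) (.leaf 613423769)) (.node (.leaf 2982157997) (.leaf 4493149058))))) (.node (.node (.node (.node (.leaf 4275051877) (.leaf 4723841028)) (.node (.leaf 3813678001) (.leaf 655366712))) (.node (.node (.leaf 2915049158) (.leaf 4518314873)) (.node (.leaf 4300217774) (.leaf 4749006878)))) (.node (.node (.node (.leaf 3763346330) (.leaf 646978178)) (.node (.leaf 5033166240) (.leaf 1891638033))) (.node (.node (.leaf 5064629517) (.leaf 4555020244)) (.node (.leaf 688920230) (.leaf 3725598782)))))))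

/-- Closure of the stabiliser, part 15. -/
def kClosePart15 : Janko1.Tree ℕ := (.node (.node (.node (.node (.node (.node (.leaf 4982834626) (.leaf 1916803930)) (.node (.leaf 5114961188) (.leaf 4529854301))) (.node (.node (.leaf 730863293) (.leaf 3901759572)) (.node (.leaf 5008000441) (.leaf 1950358400)))) (.node (.node (.node (.leaf 5089795390) (.leaf 4580186046)) (.node (.leaf 722474636) (.leaf 3834650661))) (.node (.node (.leaf 4472182254) (.leaf 3684697005)) (.node (.leaf 2009079329) (.leaf 3750762234))))) (.node (.node (.node (.node (.leaf 5375006762) (.leaf 117448137)) (.node (.leaf 3493860888) (.leaf 4325381473))) (.node (.node (.leaf 4779415773) (.leaf 2204114437)) (.node (.leaf 5076162901) (.leaf 3234865036)))) (.node (.node (.node (.leaf 3519026753) (.leaf 4375713168)) (.node (.leaf 4522513853) (.leaf 3793748942))) (.node (.node (.leaf 4804581574) (.leaf 2262834668)) (.node (.leaf 5126494646) (.leaf 3184533510)))))) (.node (.node (.node (.node (.node (.leaf 1975524944) (.leaf 3775928128)) (.node (.leaf 5299509265) (.leaf 520101298))) (.node (.node (.leaf 4497348052) (.leaf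 3718251460)) (.node (.leaf 2034245178) (.leaf 3624933089)))) (.node (.node (.node (.leaf 5416949752) (.leaf 515906920)) (.node (.leaf 3544192506) (.leaf 4350547322))) (.node (.node (.leaf 4829747444) (.leaf 2304777686)) (.node (.leaf 5101328780) (.leaf 3209699277))))) (.node (.node (.node (.node (.leaf 2726299188) (.leaf 5293217369)) (.node (.leaf 136321585) (.leaf 4526710150))) (.node (.node (.leaf 4958724002) (.leaf 1973425877)) (.node (.leaf 2793408078) (.leaf 5410657906)))) (.node (.node (.node (.leaf 593500792) (.leaf 4501544284)) (.node (.leaf 4832894953) (.leaf 2032146230))) (.node (.node (.leaf 2826962517) (.leaf 5368714792)) (.node (.leaf 597695122) (.leaf 4476378525)))))))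

/-- Closure of the stabiliser, part 16. -/
def kClosePart16 : Janko1.Tree ℕ := (.node (.node (.node (.node (.node (.node (.leaf 4916780992) (.leaf 2006980364)) (.node (.leaf 3629121794) (.leaf 4837081512))) (.node (.node (.leaf 513808637) (.leaf 2799704614)) (.node (.leaf 3720355022) (.leaf 587210581)))) (.node (.node (.node (.leaf 3754950909) (.leaf 4920967337)) (.node (.leaf 123738316) (.leaf 2833258996))) (.node (.node (.leaf 3686800565) (.leaf 599793470)) (.node (.leaf 3780116624) (.leaf 4962910630))))) (.node (.node (.node (.node (.leaf 526391526) (.leaf 2732595725)) (.node (.leaf 3795852516) (.leaf 138420076))) (.node (.node (.leaf 3180336302) (.leaf 3147825562)) (.node (.leaf 4371520706) (.leaf 1321207100)))) (.node (.node (.node (.leaf 2256543424) (.leaf 1056971436)) (.node (.leaf 3205502052) (.leaf 3122659741))) (.node (.node (.leaf 4346354928) (.leaf 1312818462)) (.node (.leaf 2298486441) (.leaf 1082137198)))))) (.node (.node (.node (.node (.node (.leaf 3230667973) (.leaf 3097493548)) (.node (.leaf 4321189081) (.leaf 1287652677))) (.node (.node (.leaf 2197823194) (.leaf 1090525773))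 (.node (.leaf 1088423485) (.leaf 4823454876)))) (.node (.node (.node (.leaf 3124756820) (.leaf 5105522418)) (.node (.leaf 1310727072) (.leaf 3542096634))) (.node (.node (.leaf 1096812126) (.leaf 4773123166)) (.node (.leaf 3099590993) (.leaf 5080356689))))) (.node (.node (.node (.node (.leaf 1285561297) (.leaf 3491764961)) (.node (.leaf 1063257700) (.leaf 4798289029))) (.node (.node (.leaf 3149922354) (.leaf 5130688288)) (.node (.leaf 1319115706) (.leaf 3516930760)))) (.node (.node (.node (.leaf 2961186388) (.leaf 5147464781)) (.node (.leaf 4401930573) (.leaf 2090862085))) (.node (.node (.leaf 4992276325) (.leaf 491787924)) (.node (.leaf 2936020518) (.leaf 5172630718)))))))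

/-- Closure of the stabiliser, part 17. -/
def kClosePart17 : Janko1.Tree ℕ := (.node (.node (.node (.node (.node (.node (.leaf 4427096420) (.leaf 2157970926)) (.node (.leaf 5017442188) (.leaf 143660741))) (.node (.node (.leaf 2885688893) (.leaf 5197796516)) (.node (.leaf 4452262198) (.leaf 2183136780)))) (.node (.node (.node (.leaf 5042608038) (.leaf 495982254)) (.node (.leaf 2130714400) (.leaf 5306844505))) (.node (.node (.leaf 4086307373) (.leaf 3188727104)) (.node (.leaf 4846526865) (.leaf 1142955425))))) (.node (.node (.node (.node (.leaf 2055216882) (.leaf 5382342002)) (.node (.leaf 4161804940) (.leaf 3213892977))) (.node (.node (.leaf 4972356008) (.leaf 1176509770)) (.node (.leaf 2105548553) (.leaf 5432673656)))) (.node (.node (.node (.leaf 4186970718) (.leaf 3239058826)) (.node (.leaf 4930412922) (.leaf 1184898488))) (.node (.node (.leaf 1098914086) (.leaf 4966063820)) (.node (.leaf 4028634597) (.leaf 2061507394)))))) (.node (.node (.node (.node (.node (.leaf 2470446376) (.leaf 4166000670)) (.node (.leaf 1065359629) (.leaf 4924120805))) (.node (.node (.leaf 4053800372) (.leaf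 2111839016)) (.node (.leaf 2445280530) (.leaf 4191166516)))) (.node (.node (.node (.leaf 1107302716) (.leaf 4840234678)) (.node (.leaf 4003468750) (.leaf 2137004937))) (.node (.node (.leaf 2420114737) (.leaf 4090503245)) (.node (.leaf 500176290) (.leaf 3856668732))))) (.node (.node (.node (.node (.leaf 5193597106) (.leaf 3825205596)) (.node (.leaf 2185237648) (.leaf 89136105))) (.node (.node (.leaf 487593353) (.leaf 3638565005)) (.node (.leaf 5143265681) (.leaf 3699376481)))) (.node (.node (.node (.leaf 2092962938) (.leaf 311434242)) (.node (.leaf 147854704) (.leaf 3890223286))) (.node (.node (.leaf 5168431500) (.leaf 3875537002)) (.node (.leaf 2160071761) (.leaf 324017176)))))))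

/-- Closure of the stabiliser, part 18. -/
def kClosePart18 : Janko1.Tree ℕ := (.node (.node (.node (.node (.node (.node (.leaf 3243247002) (.leaf 2443188401)) (.node (.leaf 1186995484) (.leaf 1071650386))) (.node (.node (.leaf 5428485310) (.leaf 4055893320)) (.node (.leaf 319821768) (.leaf 4420803856)))) (.node (.node (.node (.leaf 3883926836) (.leaf 5021638762)) (.node (.leaf 3881834886) (.leaf 2942310194))) (.node (.node (.leaf 84940770) (.leaf 4445969705)) (.node (.leaf 3850372374) (.leaf 5046804608))))) (.node (.node (.node (.node (.leaf 3831503309) (.leaf 2891978448)) (.node (.leaf 315627385) (.leaf 4395638010))) (.node (.node (.leaf 3192915345) (.leaf 2418022538)) (.node (.leaf 1145052470) (.leaf 1113593448)))) (.node (.node (.node (.leaf 3632268589) (.leaf 4996472985)) (.node (.leaf 5302656237) (.leaf 4005561681))) (.node (.node (.leaf 3705674092) (.leaf 2967475977)) (.node (.leaf 3218081128) (.leaf 2468354104)))))) (.node (.node (.node (.node (.node (.leaf 1178606853) (.leaf 1105204753)) (.node (.leaf 5378153684) (.leaf 4030727458))) (.node (.node (.leaf 4690287004) (.leaf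 2405433584)) (.node (.leaf 3439337205) (.leaf 1209016366)))) (.node (.node (.node (.leaf 4343208450) (.leaf 793773589)) (.node (.leaf 4715452886) (.leaf 2355101713))) (.node (.node (.leaf 3414171428) (.leaf 1242570820)) (.node (.leaf 4318042649) (.leaf 760219166))))) (.node (.node (.node (.node (.leaf 4740618613) (.leaf 2380267766)) (.node (.leaf 3464503054) (.leaf 1234182165))) (.node (.node (.leaf 4368374248) (.leaf 785384948)) (.node (.leaf 4874836881) (.leaf 3084911554)))) (.node (.node (.node (.leaf 5182069618) (.leaf 799022581)) (.node (.leaf 2864715261) (.leaf 3956285554))) (.node (.node (.leaf 4900002728) (.leaf 3059745736)) (.node (.leaf 5156903761) (.leaf 807411214)))))))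

/-- Closure of the stabiliser, part 19. -/
def kClosePart19 : Janko1.Tree ℕ := (.node (.node (.node (.node (.node (.node (.leaf 2764051996) (.leaf 3931119752)) (.node (.leaf 4950334402) (.leaf 3034579881))) (.node (.node (.leaf 5207235336) (.leaf 765468124)) (.node (.leaf 2814383686) (.leaf 3981451353)))) (.node (.node (.node (.leaf 3977249761) (.leaf 4384102453)) (.node (.leaf 3028294882) (.leaf 3313501881))) (.node (.node (.leaf 767566189) (.leaf 887101454)) (.node (.leaf 3952083896) (.leaf 4434434174))))) (.node (.node (.node (.node (.leaf 3078626481) (.leaf 3288336010)) (.node (.leaf 801120572) (.leaf 878712820))) (.node (.node (.leaf 3926918122) (.leaf 4409268396)) (.node (.leaf 3053460680) (.leaf 3263170224)))) (.node (.node (.node (.leaf 809509206) (.leaf 845158437)) (.node (.leaf 2604669229) (.leaf 4311751640))) (.node (.node (.leaf 3256883545) (.leaf 4719648722)) (.node (.leaf 4807728966) (.leaf 3420461869)))))) (.node (.node (.node (.node (.node (.leaf 2713721108) (.leaf 4362083313)) (.node (.leaf 3282049464) (.leaf 4744814480))) (.node (.node (.leaf 4757397341) (.leaf 3470793542))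 (.node (.leaf 2688555334) (.leaf 4336917514)))) (.node (.node (.node (.leaf 3307215250) (.leaf 4694482953)) (.node (.leaf 4782563188) (.leaf 3445627788))) (.node (.node (.leaf 1238369204) (.leaf 4761589946)) (.node (.leaf 781197753) (.leaf 2711624542))))) (.node (.node (.node (.node (.leaf 2373976454) (.leaf 3284148209)) (.node (.leaf 838866882) (.leaf 5150612150))) (.node (.node (.leaf 4405069434) (.leaf 2761956045)) (.node (.leaf 3269465985) (.leaf 4904195762)))) (.node (.node (.node (.leaf 880809945) (.leaf 5200943700)) (.node (.leaf 4379903641) (.leaf 2812287742))) (.node (.node (.leaf 3319797680) (.leaf 4954527360)) (.node (.leaf 1213203422) (.leaf 4786755728)))))))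

/-- Closure of the stabiliser, part 20. -/
def kClosePart20 : Janko1.Tree ℕ := (.node (.node (.node (.node (.node (.node (.leaf 789586312) (.leaf 2686458644)) (.node (.leaf 2399141949) (.leaf 3309313962))) (.node (.node (.leaf 1246757845) (.leaf 4811921473)) (.node (.leaf 872421224) (.leaf 5175777909)))) (.node (.node (.node (.leaf 4430235280) (.leaf 2862619364)) (.node (.leaf 756031906) (.leaf 2602572677))) (.node (.node (.leaf 3294631834) (.leaf 4879029913)) (.node (.leaf 2348810624) (.leaf 3258982360))))) (.node (.node (.node (.node (.leaf 8403292657) (.leaf 7874810044)) (.node (.leaf 6107957589) (.leaf 5683282966))) (.node (.node (.leaf 5865736665) (.leaf 5784996768)) (.node (.leaf 7244615117) (.leaf 7400853005)))) (.node (.node (.node (.leaf 7746883053) (.leaf 7621054701)) (.node (.leaf 7312772326) (.leaf 218108026))) (.node (.node (.leaf 8453624280) (.leaf 7916753109)) (.node (.leaf 5815404952) (.leaf 5810162569)))))) (.node (.node (.node (.node (.node (.leaf 7219449412) (.leaf 7426018878)) (.node (.leaf 8428458434) (.leaf 7941918886))) (.node (.node (.leaf 5840570818) (.leaf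 5759830970)) (.node (.leaf 7194283638) (.leaf 7451184556)))) (.node (.node (.node (.leaf 6057625964) (.leaf 5725225996)) (.node (.leaf 7772048940) (.leaf 7587500318))) (.node (.node (.leaf 7379881165) (.leaf 213913696)) (.node (.leaf 6082791814) (.leaf 5624562677))))) (.node (.node (.node (.node (.leaf 7721717190) (.leaf 7696552196)) (.node (.leaf 7287606452) (.leaf 167776401))) (.node (.node (.leaf 6190793526) (.leaf 7373589002)) (.node (.leaf 417335573) (.leaf 6061821034)))) (.node (.node (.node (.leaf 8469350230) (.leaf 7769951641)) (.node (.leaf 7948209374) (.leaf 6461327517))) (.node (.node (.leaf 5888803257) (.leaf 1603274693)) (.node (.leaf 1375734561) (.leaf 6723469826)))))))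

/-- Closure of the stabiliser, part 21. -/
def kClosePart21 : Janko1.Tree ℕ := (.node (.node (.node (.node (.node (.node (.leaf 6232736573) (.leaf 7281314192)) (.node (.leaf 421529900) (.leaf 6086986880))) (.node (.node (.leaf 8536459029) (.leaf 7719620242)) (.node (.leaf 7923043525) (.leaf 6436161598)))) (.node (.node (.node (.leaf 6132073244) (.leaf 7306480113)) (.node (.leaf 5913969092) (.leaf 1653606302))) (.node (.node (.leaf 186648902) (.leaf 6112152729)) (.node (.leaf 1417677624) (.leaf 6773801084))))) (.node (.node (.node (.node (.leaf 8595179308) (.leaf 7744786024)) (.node (.leaf 7881100460) (.leaf 6486493300))) (.node (.node (.leaf 5964300358) (.leaf 1645217764)) (.node (.leaf 1426066154) (.leaf 6748635661)))) (.node (.node (.node (.leaf 7694450989) (.leaf 8532263033)) (.node (.leaf 174068218) (.leaf 6239029130))) (.node (.node (.leaf 5622468437) (.leaf 423626977)) (.node (.leaf 7618953296) (.leaf 8590983686)))))) (.node (.node (.node (.node (.node (.leaf 224399841) (.leaf 6138365768)) (.node (.leaf 5681188788) (.leaf 188745978))) (.node (.node (.leaf 7585399090) (.leaf 8465154568))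 (.node (.leaf 211816904) (.leaf 6197086065)))) (.node (.node (.node (.leaf 5723131766) (.leaf 411044040)) (.node (.leaf 1649412018) (.leaf 5601496961))) (.node (.node (.leaf 6746539794) (.leaf 7660899836)) (.node (.leaf 6488589101) (.leaf 8816431514))))) (.node (.node (.node (.node (.leaf 1607469049) (.leaf 5651828634)) (.node (.leaf 6721374033) (.leaf 7635734037))) (.node (.node (.leaf 6463423316) (.leaf 8791265712)) (.node (.leaf 1657800720) (.leaf 5693771576)))) (.node (.node (.node (.leaf 6771705640) (.leaf 7568625030)) (.node (.leaf 6438257502) (.leaf 8875151745))) (.node (.node (.leaf 5755637688) (.leaf 1614807774)) (.node (.leaf 7453280988) (.leaf 6671041021)))))))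

/-- Closure of the stabiliser, part 22. -/
def kClosePart22 : Janko1.Tree ℕ := (.node (.node (.node (.node (.node (.node (.leaf 7935626250) (.leaf 1535120097)) (.node (.leaf 5780803418) (.leaf 1623196412))) (.node (.node (.leaf 7570722822) (.leaf 1423969681)) (.node (.leaf 7402949430) (.leaf 6645875194)))) (.node (.node (.node (.leaf 7868517337) (.leaf 1509954298)) (.node (.leaf 8881441808) (.leaf 7920943774))) (.node (.node (.leaf 5687480957) (.leaf 5920262718)) (.node (.leaf 5805969273) (.leaf 1589641989))))) (.node (.node (.node (.node (.leaf 7428115229) (.leaf 6696206372)) (.node (.leaf 7910460400) (.leaf 1543508752))) (.node (.node (.leaf 7662997461) (.leaf 1432358530)) (.node (.leaf 8822721506) (.leaf 7879000780)))) (.node (.node (.node (.leaf 5595206148) (.leaf 5970594396)) (.node (.leaf 7637831660) (.leaf 1382026848))) (.node (.node (.leaf 8797555705) (.leaf 7946109637)) (.node (.leaf 5645537878) (.leaf 5895096989)))))) (.node (.node (.node (.node (.node (.leaf 6698303969) (.leaf 7215255782)) (.node (.leaf 1549796166) (.leaf 8447331062))) (.node (.node (.leaf 1587549158) (.leaf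 5817503522)) (.node (.leaf 6673138148) (.leaf 7190090004)))) (.node (.node (.node (.leaf 1541407525) (.leaf 8422165260)) (.node (.leaf 1612715037) (.leaf 5842669296))) (.node (.node (.leaf 6647971842) (.leaf 7240421629)) (.node (.leaf 1516241740) (.leaf 8396999365))))) (.node (.node (.node (.node (.leaf 1621103564) (.leaf 5867835145)) (.node (.leaf 6375342377) (.leaf 1754271693))) (.node (.node (.leaf 6027216577) (.leaf 8753515640)) (.node (.leaf 922751542) (.leaf 7140803122)))) (.node (.node (.node (.leaf 8830059757) (.leaf 7999589717)) (.node (.leaf 295702700) (.leaf 6741297677))) (.node (.node (.leaf 7575965589) (.leaf 5505025980)) (.node (.leaf 8804893900) (.leaf 7974423918)))))))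

/-- Closure of the stabiliser, part 23. -/
def kClosePart23 : Janko1.Tree ℕ := (.node (.node (.node (.node (.node (.node (.leaf 6283067700) (.leaf 1804603390)) (.node (.leaf 6002050776) (.leaf 8703184017))) (.node (.node (.leaf 964694605) (.leaf 7040139396)) (.node (.leaf 161485022) (.leaf 6791629302)))) (.node (.node (.node (.leaf 7685017396) (.leaf 5463083013)) (.node (.leaf 6400507990) (.leaf 1796214756))) (.node (.node (.leaf 5951719154) (.leaf 8728349794)) (.node (.leaf 973083164) (.leaf 7115637309))))) (.node (.node (.node (.node (.leaf 8897168614) (.leaf 7898926396)) (.node (.leaf 291508421) (.leaf 6766463380))) (.node (.node (.leaf 7609519982) (.leaf 5530191902)) (.node (.leaf 7388271217) (.leaf 8417968682)))) (.node (.node (.node (.leaf 8112837585) (.leaf 5999952902)) (.node (.leaf 6661606082) (.leaf 1774191284))) (.node (.node (.leaf 5555358382) (.leaf 970983462)) (.node (.leaf 5922362418) (.leaf 1358958357)))))) (.node (.node (.node (.node (.node (.leaf 6199184906) (.leaf 6289363177)) (.node (.leaf 8138003488) (.leaf 5949621300))) (.node (.node (.leaf 5580524157) (.leaf 979371980))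 (.node (.leaf 6249516601) (.leaf 6406803714)))) (.node (.node (.node (.leaf 8087671786) (.leaf 6025118765)) (.node (.leaf 5479860812) (.leaf 929040397))) (.node (.node (.leaf 6148853160) (.leaf 6381637912)) (.node (.leaf 7270830634) (.leaf 8392802861))))) (.node (.node (.node (.node (.leaf 6711937800) (.leaf 1765802646)) (.node (.leaf 6014637016) (.leaf 1384124204))) (.node (.node (.leaf 7346328128) (.leaf 8443133980)) (.node (.leaf 6686771953) (.leaf 1740636861)))) (.node (.node (.node (.leaf 5989471217) (.leaf 1392512766)) (.node (.leaf 7117737874) (.leaf 5582623550))) (.node (.node (.leaf 1800408612) (.leaf 6255807193)) (.node (.leaf 8726250717) (.leaf 8142196389)))))))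

/-- Closure of the stabiliser, part 24. -/
def kClosePart24 : Janko1.Tree ℕ := (.node (.node (.node (.node (.node (.node (.leaf 7142903657) (.leaf 5481960228)) (.node (.leaf 1758465470) (.leaf 6155143986))) (.node (.node (.leaf 8751416580) (.leaf 8091864766)) (.node (.leaf 7042240304) (.leaf 5557457749)))) (.node (.node (.node (.leaf 1808797149) (.leaf 6205475608)) (.node (.leaf 8701084942) (.leaf 8117030612))) (.node (.node (.leaf 6427776061) (.leaf 6690968006)) (.node (.leaf 7522486493) (.leaf 5995760509))))) (.node (.node (.node (.node (.leaf 9042924174) (.leaf 7340036909)) (.node (.leaf 6762269922) (.leaf 6220153436))) (.node (.node (.leaf 5532289650) (.leaf 6901729185)) (.node (.leaf 7894730472) (.leaf 264243640)))) (.node (.node (.node (.leaf 6737104049) (.leaf 6119490117)) (.node (.leaf 5507123761) (.leaf 6801065938))) (.node (.node (.leaf 7995393794) (.leaf 150997481)) (.node (.leaf 6478107662) (.leaf 6665802205)))))) (.node (.node (.node (.node (.node (.leaf 6787435720) (.leaf 6178210406)) (.node (.leaf 7547652294) (.leaf 5928651620))) (.node (.node (.leaf 8992592492) (.leaf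 7381979972)) (.node (.leaf 5465180816) (.leaf 6859786216)))) (.node (.node (.node (.leaf 7970227921) (.leaf 268437970)) (.node (.leaf 6452941764) (.leaf 6716133876))) (.node (.node (.leaf 7497320692) (.leaf 6020926286)) (.node (.leaf 9017758229) (.leaf 7264539486))))) (.node (.node (.node (.node (.leaf 6853492808) (.leaf 7689208374)) (.node (.leaf 274729174) (.leaf 8800702304))) (.node (.node (.leaf 6176115460) (.leaf 163582002)) (.node (.leaf 6895436106) (.leaf 7613710904)))) (.node (.node (.node (.leaf 262146285) (.leaf 8892976969)) (.node (.leaf 6218058470) (.leaf 285216840))) (.node (.node (.leaf 6794772805) (.leaf 7580156033)) (.node (.leaf 157288636) (.leaf 8825868202)))))))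

/-- Closure of the stabiliser, part 25. -/
def kClosePart25 : Janko1.Tree ℕ := (.node (.node (.node (.node (.node (.node (.leaf 6117395133) (.leaf 297799705)) (.node (.leaf 1390413013) (.leaf 7491031946))) (.node (.node (.leaf 8390705588) (.leaf 9024047018)) (.node (.leaf 1763707930) (.leaf 6455038353)))) (.node (.node (.node (.leaf 1398801654) (.leaf 7516197745)) (.node (.leaf 8441037233) (.leaf 9049212913))) (.node (.node (.leaf 1738542128) (.leaf 6429872504)) (.node (.leaf 1365247228) (.leaf 7541363616))))) (.node (.node (.node (.node (.leaf 8415870986) (.leaf 8998881240)) (.node (.leaf 1772096585) (.leaf 6480204202))) (.node (.node (.leaf 5977936761) (.leaf 7168066560)) (.node (.leaf 8652850322) (.leaf 6777999185)))) (.node (.node (.node (.leaf 1482689746) (.leaf 952109162)) (.node (.leaf 6415191150) (.leaf 5731517604))) (.node (.node (.leaf 7009733237) (.leaf 8780780130)) (.node (.leaf 8025802894) (.leaf 395317961)))))) (.node (.node (.node (.node (.node (.leaf 6306139269) (.leaf 5697963165)) (.node (.leaf 5935993768) (.leaf 7100957737))) (.node (.node (.leaf 8678016193) (.leaf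 6727667634)) (.node (.leaf 6959401620) (.leaf 8906609184)))) (.node (.node (.node (.leaf 8050968669) (.leaf 391123610)) (.node (.leaf 1491078377) (.leaf 918554672))) (.node (.node (.leaf 5902439314) (.leaf 7067403314)) (.node (.leaf 8627684536) (.leaf 6752833392))))) (.node (.node (.node (.node (.leaf 1449135288) (.leaf 960497809)) (.node (.leaf 6390025372) (.leaf 5630854278))) (.node (.node (.leaf 6984567350) (.leaf 8856277561)) (.node (.leaf 8076134444) (.leaf 193991344)))) (.node (.node (.node (.leaf 6354375362) (.leaf 5771366438)) (.node (.leaf 8646561265) (.leaf 8356105745))) (.node (.node (.leaf 8431601856) (.leaf 8747223113)) (.node (.leaf 6295655056) (.leaf 5796532285)))))))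

/-- Closure of the stabiliser, part 26. -/
def kClosePart26 : Janko1.Tree ℕ := (.node (.node (.node (.node (.node (.node (.leaf 8621395538) (.leaf 8330939776)) (.node (.leaf 8406436057) (.leaf 8722057384))) (.node (.node (.leaf 6329209513) (.leaf 5746200588)) (.node (.leaf 8671727256) (.leaf 8305774074)))) (.node (.node (.node (.leaf 8381270258) (.leaf 8696891514)) (.node (.leaf 8335134673) (.leaf 7475298309))) (.node (.node (.leaf 8715767494) (.leaf 1695551801)) (.node (.leaf 5802821502) (.leaf 911213678))))) (.node (.node (.node (.node (.leaf 8325696706) (.leaf 5710549125)) (.node (.leaf 1367345445) (.leaf 7549752302))) (.node (.node (.leaf 6069158538) (.leaf 6531582964)) (.node (.leaf 8309968874) (.leaf 7500464416)))) (.node (.node (.node (.leaf 8376028328) (.leaf 5660217452)) (.node (.leaf 1400899854) (.leaf 7675581477))) (.node (.node (.leaf 6094324384) (.leaf 6607080414)) (.node (.leaf 8690601692) (.leaf 1661997416)))))) (.node (.node (.node (.node (.node (.leaf 5752489820) (.leaf 944768101)) (.node (.leaf 8360300544) (.leaf 7525630246))) (.node (.node (.leaf 8740933293) (.leaf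 1687163218)) (.node (.leaf 5777655701) (.leaf 936379460)))) (.node (.node (.node (.leaf 8350862553) (.leaf 5609885782)) (.node (.leaf 1409288508) (.leaf 7600083924))) (.node (.node (.leaf 6043992745) (.leaf 6556748813)) (.node (.leaf 6759121936) (.leaf 8498713565))))) (.node (.node (.node (.node (.leaf 958402766) (.leaf 6889147482)) (.node (.leaf 7065306821) (.leaf 6262098332))) (.node (.node (.leaf 6784287754) (.leaf 8574211126)) (.node (.leaf 950014133) (.leaf 6813649960)))) (.node (.node (.node (.leaf 7165970164) (.leaf 6161435077)) (.node (.leaf 6733956081) (.leaf 8549045236))) (.node (.node (.leaf 916459676) (.leaf 6914313281)) (.node (.leaf 7098861278) (.leaf 6211766750)))))))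

/-- Closure of the stabiliser, part 27. -/
def kClosePart27 : Janko1.Tree ℕ := (.node (.node (.node (.node (.node (.node (.leaf 6916412170) (.leaf 1484788734)) (.node (.leaf 6209670901) (.leaf 5931795617))) (.node (.node (.leaf 8553237344) (.leaf 8675921221)) (.node (.leaf 1666188326) (.leaf 8385467253)))) (.node (.node (.node (.leaf 940577166) (.leaf 6327110718)) (.node (.leaf 7504658465) (.leaf 8665433892))) (.node (.node (.leaf 1691354108) (.leaf 8435798924)) (.node (.leaf 932188532) (.leaf 6352276565))))) (.node (.node (.node (.node (.leaf 7529824790) (.leaf 8640268102)) (.node (.leaf 6891246321) (.leaf 1442845620))) (.node (.node (.leaf 6260002572) (.leaf 5898241154)) (.node (.leaf 8502905722) (.leaf 8625589598)))) (.node (.node (.node (.leaf 1699742749) (.leaf 8410633126)) (.node (.leaf 6815748824) (.leaf 1476400149))) (.node (.node (.leaf 6159339302) (.leaf 5973738648)) (.node (.leaf 907022757) (.leaf 6293556260)))))) (.node (.node (.node (.node (.node (.leaf 8578403145) (.leaf 8650755444)) (.node (.leaf 7479493136) (.leaf 8615102221))) (.node (.node (.leaf 6602887330) (.leaf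 7262439929)) (.node (.leaf 5653926633) (.leaf 7985955922)))) (.node (.node (.node (.leaf 7681871568) (.leaf 1704987050)) (.node (.leaf 6552555728) (.leaf 7371491744))) (.node (.node (.leaf 5603595010) (.leaf 7960790073)) (.node (.leaf 7606374073) (.leaf 1671432649))))) (.node (.node (.node (.node (.leaf 6527389881) (.leaf 7337937426)) (.node (.leaf 5704258328) (.leaf 7885292632))) (.node (.node (.leaf 7556042402) (.leaf 1713375712)) (.node (.leaf 8849981908) (.leaf 8477737026)))) (.node (.node (.node (.leaf 198185405) (.leaf 8121223046)) (.node (.leaf 5632955262) (.leaf 374344621))) (.node (.node (.leaf 8774484106) (.leaf 8603566524)) (.node (.leaf 399512020) (.leaf 8096057196)))))))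

/-- Closure of the stabiliser, part 28. -/
def kClosePart28 : Janko1.Tree ℕ := (.node (.node (.node (.node (.node (.node (.leaf 5733618581) (.leaf 114297798)) (.node (.leaf 8900313561) (.leaf 8544846273))) (.node (.node (.leaf 386929134) (.leaf 8146388797)) (.node (.leaf 5700064172) (.leaf 361761684)))) (.node (.node (.node (.leaf 1673529742) (.leaf 1415581005)) (.node (.leaf 8150581925) (.leaf 8044678433))) (.node (.node (.leaf 365955201) (.leaf 6299846994)) (.node (.leaf 7365198961) (.leaf 6041896762))))) (.node (.node (.node (.node (.leaf 7967083261) (.leaf 8348762825)) (.node (.leaf 8540654234) (.leaf 6955206585))) (.node (.node (.leaf 1715472756) (.leaf 1373638012)) (.node (.leaf 7331644538) (.leaf 6067062657)))) (.node (.node (.node (.leaf 7891585718) (.leaf 8323596992)) (.node (.leaf 8125416108) (.leaf 8069844210))) (.node (.node (.leaf 370149456) (.leaf 6383733096)) (.node (.leaf 8473545273) (.leaf 6980372506)))))) (.node (.node (.node (.node (.node (.leaf 8100250254) (.leaf 8019512584)) (.node (.leaf 110102706) (.leaf 6408898945))) (.node (.node (.leaf 8599374424) (.leaf 7005538304))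 (.node (.leaf 1707084125) (.leaf 1407192422)))) (.node (.node (.node (.leaf 7256147016) (.leaf 6092228456)) (.node (.leaf 7992249044) (.leaf 8373928602))) (.node (.node (.leaf 6703549349) (.leaf 8968472885)) (.node (.leaf 7786729552) (.leaf 7532974113))))) (.node (.node (.node (.node (.leaf 7086281529) (.leaf 8235520512)) (.node (.leaf 6678383550) (.leaf 8918141188))) (.node (.node (.leaf 7837061249) (.leaf 7482642440)) (.node (.leaf 7052727122) (.leaf 8260686458)))) (.node (.node (.node (.leaf 6653217676) (.leaf 8943307038)) (.node (.leaf 7811895402) (.leaf 7507808314))) (.node (.node (.leaf 7153390368) (.leaf 8285852241)) (.node (.leaf 5884609685) (.leaf 6229593833)))))))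

/-- Closure of the stabiliser, part 29. -/
def kClosePart29 : Janko1.Tree ℕ := (.node (.node (.node (.node (.node (.node (.leaf 1498418812) (.leaf 6879708993)) (.node (.leaf 6050288228) (.leaf 8482984585))) (.node (.node (.leaf 5859443900) (.leaf 6128930562)) (.node (.leaf 1456475742) (.leaf 6837765898)))) (.node (.node (.node (.leaf 6075453990) (.leaf 8558481938)) (.node (.leaf 5834278086) (.leaf 6187650840))) (.node (.node (.leaf 1506807181) (.leaf 6938429216)) (.node (.leaf 6100619837) (.leaf 8516538984))))) (.node (.node (.node (.node (.leaf 6942625366) (.leaf 7866421214)) (.node (.leaf 7488931706) (.leaf 1472201324))) (.node (.node (.leaf 8518633390) (.leaf 1574963854)) (.node (.leaf 6183457070) (.leaf 8963228390)))) (.node (.node (.node (.leaf 8254394270) (.leaf 5765071306)) (.node (.leaf 8922337612) (.leaf 981470921))) (.node (.node (.leaf 6883905181) (.leaf 7983861700)) (.node (.leaf 8485079005) (.leaf 1583352428)))))) (.node (.node (.node (.node (.node (.leaf 6225400133) (.leaf 8912896788)) (.node (.leaf 6841961972) (.leaf 7958695925))) (.node (.node (.leaf 8560576500) (.leaf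 1533020717)) (.node (.leaf 6124736860) (.leaf 8938062605)))) (.node (.node (.node (.leaf 7514097552) (.leaf 1463812686)) (.node (.leaf 8279560068) (.leaf 5790237133))) (.node (.node (.leaf 8947503413) (.leaf 1006636768)) (.node (.leaf 7539263321) (.leaf 1438646901))))) (.node (.node (.node (.node (.leaf 8229228349) (.leaf 5739905036)) (.node (.leaf 8972669286) (.leaf 1015025330))) (.node (.node (.leaf 5792334140) (.leaf 7147096746)) (.node (.leaf 1012925581) (.leaf 6657413052)))) (.node (.node (.node (.leaf 1461717974) (.leaf 7813993246)) (.node (.leaf 5742002489) (.leaf 7079987785))) (.node (.node (.leaf 1021314222) (.leaf 6707744638)) (.node (.leaf 1436552172) (.leaf 7788827373)))))))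

/-- Closure of the stabiliser, part 30. -/
def kClosePart30 : Janko1.Tree ℕ := (.node (.node (.node (.node (.node (.node (.leaf 5767168026) (.leaf 7046433400)) (.node (.leaf 987759796) (.leaf 6682578781))) (.node (.node (.leaf 1470106629) (.leaf 7839159044)) (.node (.leaf 1526730561) (.leaf 6077546962)))) (.node (.node (.node (.leaf 8935967073) (.leaf 5857348928)) (.node (.leaf 7952400873) (.leaf 1452282120))) (.node (.node (.leaf 1568673696) (.leaf 6102712460)) (.node (.leaf 8961132872) (.leaf 5832183153))))) (.node (.node (.node (.node (.leaf 7860126196) (.leaf 1502613793)) (.node (.leaf 1577062282) (.leaf 6052381149))) (.node (.node (.leaf 8910801274) (.leaf 5882514778)) (.node (.leaf 7977566326) (.leaf 1494225138)))) (.node (.node (.node (.leaf 6593449409) (.leaf 6804212502)) (.node (.leaf 5911873578) (.leaf 8080327742))) (.node (.node (.leaf 7030705514) (.leaf 177212293)) (.node (.leaf 6509563432) (.leaf 6904875820)))))) (.node (.node (.node (.node (.node (.leaf 5987371097) (.leaf 8130659420)) (.node (.leaf 7131368761) (.leaf 445647702))) (.node (.node (.leaf 6635392490) (.leaf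 6862932685)) (.node (.leaf 5945428104) (.leaf 8105493589)))) (.node (.node (.node (.leaf 7106202960) (.leaf 441453420)) (.node (.leaf 7411338341) (.leaf 5571086640))) (.node (.node (.leaf 7320110281) (.leaf 6875516609)) (.node (.leaf 1746931825) (.leaf 8457818548))))) (.node (.node (.node (.node (.leaf 7461670038) (.leaf 5470423322)) (.node (.leaf 7294944482) (.leaf 6833573592))) (.node (.node (.leaf 1780486234) (.leaf 8583647622)) (.node (.leaf 7436504188) (.leaf 5545920769)))) (.node (.node (.node (.leaf 7395607784) (.leaf 6934236842)) (.node (.leaf 1788874888) (.leaf 8508150173))) (.node (.node (.leaf 6829377612) (.leaf 9015658877)) (.node (.leaf 8585743334) (.leaf 1551897249)))))))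

/-- Closure of the stabiliser, part 31. -/
def kClosePart31 : Janko1.Tree ℕ := (.node (.node (.node (.node (.node (.node (.leaf 5474619720) (.leaf 8057258728)) (.node (.leaf 6930041005) (.leaf 9040824652))) (.node (.node (.leaf 8510245884) (.leaf 1518342864)) (.node (.leaf 5550117217) (.leaf 8006927058)))) (.node (.node (.node (.leaf 6871320702) (.leaf 8990493030)) (.node (.leaf 8459914261) (.leaf 1560285882))) (.node (.node (.leaf 5575282994) (.leaf 8032092913)) (.node (.leaf 437259209) (.leaf 8814334824))))) (.node (.node (.node (.node (.leaf 6867124769) (.leaf 8761901553)) (.node (.leaf 8107592370) (.leaf 235933740))) (.node (.node (.leaf 181406616) (.leaf 8873055105)) (.node (.leaf 6808404508) (.leaf 8862564466)))) (.node (.node (.node (.leaf 8082426577) (.leaf 248516629)) (.node (.leaf 449842098) (.leaf 8789169050))) (.node (.node (.leaf 6909067354) (.leaf 8837399020)) (.node (.leaf 8132758264) (.leaf 105910342)))))) (.node (.node (.node (.node (.node (.leaf 1524632066) (.leaf 1790971186)) (.node (.leaf 8004834182) (.leaf 7434405130))) (.node (.node (.leaf 9034531592) (.leaf 7391416142))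 (.node (.leaf 101716996) (.leaf 5981080846)))) (.node (.node (.node (.leaf 8782873302) (.leaf 7135561477)) (.node (.leaf 8835305408) (.leaf 6515854957))) (.node (.node (.leaf 1566575128) (.leaf 1749028121)) (.node (.leaf 240129070) (.leaf 5939137780))))) (.node (.node (.node (.node (.leaf 8808039149) (.leaf 7110395606)) (.node (.leaf 8029999980) (.leaf 7409239297))) (.node (.node (.leaf 8984199953) (.leaf 7315918765)) (.node (.leaf 8759807986) (.leaf 6641684118)))) (.node (.node (.node (.leaf 244323261) (.leaf 5905583397)) (.node (.leaf 8866759412) (.leaf 7034898156))) (.node (.node (.leaf 8860471257) (.leaf 6599740828)) (.node (.leaf 1558186417) (.leaf 1782582528)))))))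

/-- Closure of the stabiliser, part 32. -/
def kClosePart32 : Janko1.Tree ℕ := (.node (.node (.node (.node (.node (.node (.leaf 8055165853) (.leaf 7459570904)) (.node (.leaf 9009365730) (.leaf 7290752868))) (.node (.node (.leaf 1628440673) (.leaf 8842645277)) (.node (.leaf 8290043960) (.leaf 7646220997)))) (.node (.node (.node (.leaf 6394217265) (.leaf 8185188732)) (.node (.leaf 1636829346) (.leaf 8767147756))) (.node (.node (.leaf 8239712409) (.leaf 7595889300)) (.node (.leaf 6268388154) (.leaf 8160022934))))) (.node (.node (.node (.node (.leaf 1594886208) (.leaf 8884588294)) (.node (.leaf 8264878194) (.leaf 7671386798))) (.node (.node (.leaf 6369051416) (.leaf 8210354605)) (.node (.leaf 6565137985) (.leaf 8037337897)))) (.node (.node (.node (.leaf 8222937644) (.leaf 1723861585)) (.node (.leaf 5718938381) (.leaf 7832863820))) (.node (.node (.leaf 6539972040) (.leaf 8062503698)) (.node (.leaf 8172606022) (.leaf 1732250242)))))) (.node (.node (.node (.node (.node (.leaf 5668606684) (.leaf 7782532221)) (.node (.leaf 6615469682) (.leaf 8012171976))) (.node (.node (.leaf 8197771893) (.leaf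 1681918496)) (.node (.leaf 5618275062) (.leaf 7807698038)))) (.node (.node (.node (.leaf 7226786432) (.leaf 6371149710)) (.node (.leaf 1037044876) (.leaf 1599080188))) (.node (.node (.leaf 7077890785) (.leaf 8266974034)) (.node (.leaf 1679821414) (.leaf 7302283584))))) (.node (.node (.node (.node (.leaf 7801408022) (.leaf 6348082477)) (.node (.leaf 8016364056) (.leaf 1000343344))) (.node (.node (.leaf 1721764421) (.leaf 7277117517)) (.node (.leaf 7826573733) (.leaf 6280973590)))) (.node (.node (.node (.leaf 8041529894) (.leaf 1050675041)) (.node (.leaf 7176454737) (.leaf 6396315469))) (.node (.node (.leaf 1028656245) (.leaf 1632634598)) (.node (.leaf 7027559098) (.leaf 8292139817)))))))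

/-- Closure of the stabiliser, part 33. -/
def kClosePart33 : Janko1.Tree ℕ := (.node (.node (.node (.node (.node (.node (.leaf 7201620602) (.leaf 6270486388)) (.node (.leaf 1730153124) (.leaf 7352615246))) (.node (.node (.leaf 7776242172) (.leaf 6322916604)) (.node (.leaf 995101862) (.leaf 1641023181)))) (.node (.node (.node (.leaf 8066695261) (.leaf 1042286362)) (.node (.leaf 7128222464) (.leaf 8241808216))) (.node (.node (.leaf 6316622420) (.leaf 5662313566)) (.node (.leaf 1044385234) (.leaf 6535778576))))) (.node (.node (.node (.node (.leaf 7350519788) (.leaf 8174703426)) (.node (.leaf 6341788286) (.leaf 5611981892))) (.node (.node (.leaf 1002442161) (.leaf 6611276001)) (.node (.leaf 7300188070) (.leaf 8199869272)))) (.node (.node (.node (.leaf 6274679429) (.leaf 5712645165)) (.node (.leaf 1052773912) (.leaf 6560944378))) (.node (.node (.leaf 7275022293) (.leaf 8225035049)) (.node (.leaf 7593790522) (.leaf 7121928768)))))) (.node (.node (.node (.node (.node (.leaf 8153732106) (.leaf 7199526136)) (.node (.leaf 8771342680) (.leaf 990907206))) (.node (.node (.leaf 7669288016) (.leaf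 7071597154)) (.node (.leaf 8204063800) (.leaf 7224692010)))) (.node (.node (.node (.leaf 8888783145) (.leaf 1032850293)) (.node (.leaf 7644122145) (.leaf 7021265497))) (.node (.node (.leaf 8178897857) (.leaf 7174360337)) (.node (.leaf 8846840130) (.leaf 1024461660))))) (.node (.node (.node (.node (.leaf 0) (.leaf 0)) (.node (.leaf 0) (.leaf 0))) (.node (.node (.leaf 0) (.leaf 0)) (.node (.leaf 0) (.leaf 0)))) (.node (.node (.node (.leaf 0) (.leaf 0)) (.node (.leaf 0) (.leaf 0))) (.node (.node (.leaf 0) (.leaf 0)) (.node (.leaf 0) (.leaf 0)))))))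

/-- Closure of the stabiliser, part 34. -/
def kClosePart34 : Janko1.Tree ℕ := (.node (.node (.node (.node (.node (.node (.leaf 0) (.leaf 0)) (.node (.leaf 0) (.leaf 0))) (.node (.node (.leaf 0) (.leaf 0)) (.node (.leaf 0) (.leaf 0)))) (.node (.node (.node (.leaf 0) (.leaf 0)) (.node (.leaf 0) (.leaf 0))) (.node (.node (.leaf 0) (.leaf 0)) (.node (.leaf 0) (.leaf 0))))) (.node (.node (.node (.node (.leaf 0) (.leaf 0)) (.node (.leaf 0) (.leaf 0))) (.node (.node (.leaf 0) (.leaf 0)) (.node (.leaf 0) (.leaf 0)))) (.node (.node (.node (.leaf 0) (.leaf 0)) (.node (.leaf 0) (.leaf 0))) (.node (.node (.leaf 0) (.leaf 0)) (.node (.leaf 0) (.leaf 0)))))) (.node (.node (.node (.node (.node (.leaf 0) (.leaf 0)) (.node (.leaf 0) (.leaf 0))) (.node (.node (.leaf 0) (.leaf 0)) (.node (.leaf 0) (.leaf 0)))) (.node (.node (.node (.leaf 0) (.leaf 0)) (.node (.leaf 0) (.leaf 0))) (.node (.node (.leaf 0) (.leaf 0)) (.node (.leaf 0) (.leaf 0))))) (.node (.node (.node (.node (.leaf 0) (.leaf 0)) (.node (.leaf 0) (.leaf 0))) (.node (.node (.leaf 0) (.leaf 0)) (.node (.leaf 0) (.leaf 0)))) (.node (.node (.node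 (.leaf 0) (.leaf 0)) (.node (.leaf 0) (.leaf 0))) (.node (.node (.leaf 0) (.leaf 0)) (.node (.leaf 0) (.leaf 0)))))))

/-- Closure of the stabiliser, part 35. -/
def kClosePart35 : Janko1.Tree ℕ := (.node (.node (.node (.node (.node (.node (.leaf 0) (.leaf 0)) (.node (.leaf 0) (.leaf 0))) (.node (.node (.leaf 0) (.leaf 0)) (.node (.leaf 0) (.leaf 0)))) (.node (.node (.node (.leaf 0) (.leaf 0)) (.node (.leaf 0) (.leaf 0))) (.node (.node (.leaf 0) (.leaf 0)) (.node (.leaf 0) (.leaf 0))))) (.node (.node (.node (.node (.leaf 0) (.leaf 0)) (.node (.leaf 0) (.leaf 0))) (.node (.node (.leaf 0) (.leaf 0)) (.node (.leaf 0) (.leaf 0)))) (.node (.node (.node (.leaf 0) (.leaf 0)) (.node (.leaf 0) (.leaf 0))) (.node (.node (.leaf 0) (.leaf 0)) (.node (.leaf 0) (.leaf 0)))))) (.node (.node (.node (.node (.node (.leaf 0) (.leaf 0)) (.node (.leaf 0) (.leaf 0))) (.node (.node (.leaf 0) (.leaf 0)) (.node (.leaf 0) (.leaf 0)))) (.node (.node (.node (.leaf 0) (.leaf 0)) (.node (.leaf 0) (.leaf 0))) (.node (.node (.leaf 0) (.leaf 0)) (.node (.leaf 0) (.leaf 0))))) (.node (.node (.node (.node (.leaf 0) (.leaf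 0)) (.node (.leaf 0) (.leaf 0))) (.node (.node (.leaf 0) (.leaf 0)) (.node (.leaf 0) (.leaf 0)))) (.node (.node (.node (.leaf 0) (.leaf 0)) (.node (.leaf 0) (.leaf 0))) (.node (.node (.leaf 0) (.leaf 0)) (.node (.leaf 0) (.leaf 0)))))))

/-- Closure of the stabiliser, part 36. -/
def kClosePart36 : Janko1.Tree ℕ := (.node (.node (.node (.node (.node (.node (.leaf 0) (.leaf 0)) (.node (.leaf 0) (.leaf 0))) (.node (.node (.leaf 0) (.leaf 0)) (.node (.leaf 0) (.leaf 0)))) (.node (.node (.node (.leaf 0) (.leaf 0)) (.node (.leaf 0) (.leaf 0))) (.node (.node (.leaf 0) (.leaf 0)) (.node (.leaf 0) (.leaf 0))))) (.node (.node (.node (.node (.leaf 0) (.leaf 0)) (.node (.leaf 0) (.leaf 0))) (.node (.node (.leaf 0) (.leaf 0)) (.node (.leaf 0) (.leaf 0)))) (.node (.node (.node (.leaf 0) (.leaf 0)) (.node (.leaf 0) (.leaf 0))) (.node (.node (.leaf 0) (.leaf 0)) (.node (.leaf 0) (.leaf 0)))))) (.node (.node (.node (.node (.node (.leaf 0) (.leaf 0)) (.node (.leaf 0) (.leaf 0))) (.node (.node (.leaf 0) (.leaf 0)) (.node (.leaf 0) (.leaf 0)))) (.node (.node (.node (.leaf 0) (.leaf 0)) (.node (.leaf 0)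 (.leaf 0))) (.node (.node (.leaf 0) (.leaf 0)) (.node (.leaf 0) (.leaf 0))))) (.node (.node (.node (.node (.leaf 0) (.leaf 0)) (.node (.leaf 0) (.leaf 0))) (.node (.node (.leaf 0) (.leaf 0)) (.node (.leaf 0) (.leaf 0)))) (.node (.node (.node (.leaf 0) (.leaf 0)) (.node (.leaf 0) (.leaf 0))) (.node (.node (.leaf 0) (.leaf 0)) (.node (.leaf 0) (.leaf 0)))))))

/-- Closure of the stabiliser, part 37. -/
def kClosePart37 : Janko1.Tree ℕ := (.node (.node (.node (.node (.node (.node (.leaf 0) (.leaf 0)) (.node (.leaf 0) (.leaf 0))) (.node (.node (.leaf 0) (.leaf 0)) (.node (.leaf 0) (.leaf 0)))) (.node (.node (.node (.leaf 0) (.leaf 0)) (.node (.leaf 0) (.leaf 0))) (.node (.node (.leaf 0) (.leaf 0)) (.node (.leaf 0) (.leaf 0))))) (.node (.node (.node (.node (.leaf 0) (.leaf 0)) (.node (.leaf 0) (.leaf 0))) (.node (.node (.leaf 0) (.leaf 0)) (.node (.leaf 0) (.leaf 0)))) (.node (.node (.node (.leaf 0) (.leaf 0)) (.node (.leaf 0) (.leaf 0))) (.node (.node (.leaf 0) (.leaf 0)) (.node (.leaf 0) (.leaf 0)))))) (.node (.node (.node (.node (.node (.leaf 0) (.leaf 0)) (.node (.leaf 0) (.leaf 0)))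 (.node (.node (.leaf 0) (.leaf 0)) (.node (.leaf 0) (.leaf 0)))) (.node (.node (.node (.leaf 0) (.leaf 0)) (.node (.leaf 0) (.leaf 0))) (.node (.node (.leaf 0) (.leaf 0)) (.node (.leaf 0) (.leaf 0))))) (.node (.node (.node (.node (.leaf 0) (.leaf 0)) (.node (.leaf 0) (.leaf 0))) (.node (.node (.leaf 0) (.leaf 0)) (.node (.leaf 0) (.leaf 0)))) (.node (.node (.node (.leaf 0) (.leaf 0)) (.node (.leaf 0) (.leaf 0))) (.node (.node (.leaf 0) (.leaf 0)) (.node (.leaf 0) (.leaf 0)))))))

/-- Closure of the stabiliser, part 38. -/
def kClosePart38 : Janko1.Tree ℕ := (.node (.node (.node (.node (.node (.node (.leaf 0) (.leaf 0)) (.node (.leaf 0) (.leaf 0))) (.node (.node (.leaf 0) (.leaf 0)) (.node (.leaf 0) (.leaf 0)))) (.node (.node (.node (.leaf 0) (.leaf 0)) (.node (.leaf 0) (.leaf 0))) (.node (.node (.leaf 0) (.leaf 0)) (.node (.leaf 0) (.leaf 0))))) (.node (.node (.node (.node (.leaf 0) (.leaf 0)) (.node (.leaf 0) (.leaf 0))) (.node (.node (.leaf 0) (.leaf 0)) (.node (.leaf 0) (.leaf 0)))) (.node (.node (.node (.leaf 0) (.leaf 0)) (.node (.leaf 0) (.leaf 0))) (.node (.node (.leaf 0) (.leaf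 0)) (.node (.leaf 0) (.leaf 0)))))) (.node (.node (.node (.node (.node (.leaf 0) (.leaf 0)) (.node (.leaf 0) (.leaf 0))) (.node (.node (.leaf 0) (.leaf 0)) (.node (.leaf 0) (.leaf 0)))) (.node (.node (.node (.leaf 0) (.leaf 0)) (.node (.leaf 0) (.leaf 0))) (.node (.node (.leaf 0) (.leaf 0)) (.node (.leaf 0) (.leaf 0))))) (.node (.node (.node (.node (.leaf 0) (.leaf 0)) (.node (.leaf 0) (.leaf 0))) (.node (.node (.leaf 0) (.leaf 0)) (.node (.leaf 0) (.leaf 0)))) (.node (.node (.node (.leaf 0) (.leaf 0)) (.node (.leaf 0) (.leaf 0))) (.node (.node (.leaf 0) (.leaf 0)) (.node (.leaf 0) (.leaf 0)))))))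

/-- Closure of the stabiliser, part 39. -/
def kClosePart39 : Janko1.Tree ℕ := (.node (.node (.node (.node (.node (.node (.leaf 0) (.leaf 0)) (.node (.leaf 0) (.leaf 0))) (.node (.node (.leaf 0) (.leaf 0)) (.node (.leaf 0) (.leaf 0)))) (.node (.node (.node (.leaf 0) (.leaf 0)) (.node (.leaf 0) (.leaf 0))) (.node (.node (.leaf 0) (.leaf 0)) (.node (.leaf 0) (.leaf 0))))) (.node (.node (.node (.node (.leaf 0) (.leaf 0)) (.node (.leaf 0) (.leaf 0))) (.node (.node (.leaf 0) (.leaf 0)) (.node (.leaf 0) (.leaf 0)))) (.node (.node (.node (.leaf 0) (.leaf 0)) (.node (.leaf 0) (.leaf 0))) (.node (.node (.leaf 0) (.leaf 0)) (.node (.leaf 0) (.leaf 0)))))) (.node (.node (.node (.node (.node (.leaf 0) (.leaf 0)) (.node (.leaf 0) (.leaf 0))) (.node (.node (.leaf 0) (.leaf 0)) (.node (.leaf 0) (.leaf 0)))) (.node (.node (.node (.leaf 0) (.leaf 0)) (.node (.leaf 0) (.leaf 0))) (.node (.node (.leaf 0) (.leaf 0)) (.node (.leaf 0) (.leaf 0))))) (.node (.node (.node (.node (.leaf 0) (.leaf 0)) (.node (.leaf 0) (.leaf 0))) (.node (.node (.leaf 0) (.leaf 0)) (.node (.leaf 0) (.leaf 0)))) (.node (.node (.node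 (.leaf 0) (.leaf 0)) (.node (.leaf 0) (.leaf 0))) (.node (.node (.leaf 0) (.leaf 0)) (.node (.leaf 0) (.leaf 0)))))))

/-- Closure of the stabiliser, part 40. -/
def kClosePart40 : Janko1.Tree ℕ := (.node (.node (.node (.node (.node (.node (.leaf 0) (.leaf 0)) (.node (.leaf 0) (.leaf 0))) (.node (.node (.leaf 0) (.leaf 0)) (.node (.leaf 0) (.leaf 0)))) (.node (.node (.node (.leaf 0) (.leaf 0)) (.node (.leaf 0) (.leaf 0))) (.node (.node (.leaf 0) (.leaf 0)) (.node (.leaf 0) (.leaf 0))))) (.node (.node (.node (.node (.leaf 0) (.leaf 0)) (.node (.leaf 0) (.leaf 0))) (.node (.node (.leaf 0) (.leaf 0)) (.node (.leaf 0) (.leaf 0)))) (.node (.node (.node (.leaf 0) (.leaf 0)) (.node (.leaf 0) (.leaf 0))) (.node (.node (.leaf 0) (.leaf 0)) (.node (.leaf 0) (.leaf 0)))))) (.node (.node (.node (.node (.node (.leaf 0) (.leaf 0)) (.node (.leaf 0) (.leaf 0))) (.node (.node (.leaf 0) (.leaf 0)) (.node (.leaf 0) (.leaf 0)))) (.node (.node (.node (.leaf 0) (.leaf 0)) (.node (.leaf 0) (.leaf 0))) (.node (.node (.leaf 0) (.leaf 0)) (.node (.leaf 0) (.leaf 0))))) (.node (.node (.node (.node (.leaf 0) (.leaf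 0)) (.node (.leaf 0) (.leaf 0))) (.node (.node (.leaf 0) (.leaf 0)) (.node (.leaf 0) (.leaf 0)))) (.node (.node (.node (.leaf 0) (.leaf 0)) (.node (.leaf 0) (.leaf 0))) (.node (.node (.leaf 0) (.leaf 0)) (.node (.leaf 0) (.leaf 0)))))))

/-- Closure of the stabiliser, part 41. -/
def kClosePart41 : Janko1.Tree ℕ := (.node (.node (.node (.node (.node (.node (.leaf 0) (.leaf 0)) (.node (.leaf 0) (.leaf 0))) (.node (.node (.leaf 0) (.leaf 0)) (.node (.leaf 0) (.leaf 0)))) (.node (.node (.node (.leaf 0) (.leaf 0)) (.node (.leaf 0) (.leaf 0))) (.node (.node (.leaf 0) (.leaf 0)) (.node (.leaf 0) (.leaf 0))))) (.node (.node (.node (.node (.leaf 0) (.leaf 0)) (.node (.leaf 0) (.leaf 0))) (.node (.node (.leaf 0) (.leaf 0)) (.node (.leaf 0) (.leaf 0)))) (.node (.node (.node (.leaf 0) (.leaf 0)) (.node (.leaf 0) (.leaf 0))) (.node (.node (.leaf 0) (.leaf 0)) (.node (.leaf 0) (.leaf 0)))))) (.node (.node (.node (.node (.node (.leaf 0) (.leaf 0)) (.node (.leaf 0) (.leaf 0))) (.node (.node (.leaf 0) (.leaf 0)) (.node (.leaf 0) (.leaf 0)))) (.node (.node (.node (.leaf 0) (.leaf 0)) (.node (.leaf 0)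 (.leaf 0))) (.node (.node (.leaf 0) (.leaf 0)) (.node (.leaf 0) (.leaf 0))))) (.node (.node (.node (.node (.leaf 0) (.leaf 0)) (.node (.leaf 0) (.leaf 0))) (.node (.node (.leaf 0) (.leaf 0)) (.node (.leaf 0) (.leaf 0)))) (.node (.node (.node (.leaf 0) (.leaf 0)) (.node (.leaf 0) (.leaf 0))) (.node (.node (.leaf 0) (.leaf 0)) (.node (.leaf 0) (.leaf 0)))))))

/-- Closure of the stabiliser, part 42. -/
def kClosePart42 : Janko1.Tree ℕ := (.node (.node (.node (.node (.node (.node (.leaf 0) (.leaf 0)) (.node (.leaf 0) (.leaf 0))) (.node (.node (.leaf 0) (.leaf 0)) (.node (.leaf 0) (.leaf 0)))) (.node (.node (.node (.leaf 0) (.leaf 0)) (.node (.leaf 0) (.leaf 0))) (.node (.node (.leaf 0) (.leaf 0)) (.node (.leaf 0) (.leaf 0))))) (.node (.node (.node (.node (.leaf 0) (.leaf 0)) (.node (.leaf 0) (.leaf 0))) (.node (.node (.leaf 0) (.leaf 0)) (.node (.leaf 0) (.leaf 0)))) (.node (.node (.node (.leaf 0) (.leaf 0)) (.node (.leaf 0) (.leaf 0))) (.node (.node (.leaf 0) (.leaf 0)) (.node (.leaf 0) (.leaf 0)))))) (.node (.node (.node (.node (.node (.leaf 0) (.leaf 0)) (.node (.leaf 0) (.leaf 0)))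 (.node (.node (.leaf 0) (.leaf 0)) (.node (.leaf 0) (.leaf 0)))) (.node (.node (.node (.leaf 0) (.leaf 0)) (.node (.leaf 0) (.leaf 0))) (.node (.node (.leaf 0) (.leaf 0)) (.node (.leaf 0) (.leaf 0))))) (.node (.node (.node (.node (.leaf 0) (.leaf 0)) (.node (.leaf 0) (.leaf 0))) (.node (.node (.leaf 0) (.leaf 0)) (.node (.leaf 0) (.leaf 0)))) (.node (.node (.node (.leaf 0) (.leaf 0)) (.node (.leaf 0) (.leaf 0))) (.node (.node (.leaf 0) (.leaf 0)) (.node (.leaf 0) (.leaf 0)))))))

/-- Closure of the stabiliser, part 43. -/
def kClosePart43 : Janko1.Tree ℕ := (.node (.node (.node (.node (.node (.node (.leaf 0) (.leaf 0)) (.node (.leaf 0) (.leaf 0))) (.node (.node (.leaf 0) (.leaf 0)) (.node (.leaf 0) (.leaf 0)))) (.node (.node (.node (.leaf 0) (.leaf 0)) (.node (.leaf 0) (.leaf 0))) (.node (.node (.leaf 0) (.leaf 0)) (.node (.leaf 0) (.leaf 0))))) (.node (.node (.node (.node (.leaf 0) (.leaf 0)) (.node (.leaf 0) (.leaf 0))) (.node (.node (.leaf 0) (.leaf 0)) (.node (.leaf 0) (.leaf 0)))) (.node (.node (.node (.leaf 0) (.leaf 0)) (.node (.leaf 0) (.leaf 0))) (.node (.node (.leaf 0) (.leaf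 0)) (.node (.leaf 0) (.leaf 0)))))) (.node (.node (.node (.node (.node (.leaf 0) (.leaf 0)) (.node (.leaf 0) (.leaf 0))) (.node (.node (.leaf 0) (.leaf 0)) (.node (.leaf 0) (.leaf 0)))) (.node (.node (.node (.leaf 0) (.leaf 0)) (.node (.leaf 0) (.leaf 0))) (.node (.node (.leaf 0) (.leaf 0)) (.node (.leaf 0) (.leaf 0))))) (.node (.node (.node (.node (.leaf 0) (.leaf 0)) (.node (.leaf 0) (.leaf 0))) (.node (.node (.leaf 0) (.leaf 0)) (.node (.leaf 0) (.leaf 0)))) (.node (.node (.node (.leaf 0) (.leaf 0)) (.node (.leaf 0) (.leaf 0))) (.node (.node (.leaf 0) (.leaf 0)) (.node (.leaf 0) (.leaf 0)))))))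

/-- Closure of the stabiliser, part 44. -/
def kClosePart44 : Janko1.Tree ℕ := (.node (.node (.node (.node (.node (.node (.leaf 0) (.leaf 0)) (.node (.leaf 0) (.leaf 0))) (.node (.node (.leaf 0) (.leaf 0)) (.node (.leaf 0) (.leaf 0)))) (.node (.node (.node (.leaf 0) (.leaf 0)) (.node (.leaf 0) (.leaf 0))) (.node (.node (.leaf 0) (.leaf 0)) (.node (.leaf 0) (.leaf 0))))) (.node (.node (.node (.node (.leaf 0) (.leaf 0)) (.node (.leaf 0) (.leaf 0))) (.node (.node (.leaf 0) (.leaf 0)) (.node (.leaf 0) (.leaf 0)))) (.node (.node (.node (.leaf 0) (.leaf 0)) (.node (.leaf 0) (.leaf 0))) (.node (.node (.leaf 0) (.leaf 0)) (.node (.leaf 0) (.leaf 0)))))) (.node (.node (.node (.node (.node (.leaf 0) (.leaf 0)) (.node (.leaf 0) (.leaf 0))) (.node (.node (.leaf 0) (.leaf 0)) (.node (.leaf 0) (.leaf 0)))) (.node (.node (.node (.leaf 0) (.leaf 0)) (.node (.leaf 0) (.leaf 0))) (.node (.node (.leaf 0) (.leaf 0)) (.node (.leaf 0) (.leaf 0))))) (.node (.node (.node (.node (.leaf 0) (.leaf 0)) (.node (.leaf 0) (.leaf 0))) (.node (.node (.leaf 0) (.leaf 0)) (.node (.leaf 0) (.leaf 0)))) (.node (.node (.node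 (.leaf 0) (.leaf 0)) (.node (.leaf 0) (.leaf 0))) (.node (.node (.leaf 0) (.leaf 0)) (.node (.leaf 0) (.leaf 0)))))))

/-- Closure of the stabiliser, part 45. -/
def kClosePart45 : Janko1.Tree ℕ := (.node (.node (.node (.node (.node (.node (.leaf 0) (.leaf 0)) (.node (.leaf 0) (.leaf 0))) (.node (.node (.leaf 0) (.leaf 0)) (.node (.leaf 0) (.leaf 0)))) (.node (.node (.node (.leaf 0) (.leaf 0)) (.node (.leaf 0) (.leaf 0))) (.node (.node (.leaf 0) (.leaf 0)) (.node (.leaf 0) (.leaf 0))))) (.node (.node (.node (.node (.leaf 0) (.leaf 0)) (.node (.leaf 0) (.leaf 0))) (.node (.node (.leaf 0) (.leaf 0)) (.node (.leaf 0) (.leaf 0)))) (.node (.node (.node (.leaf 0) (.leaf 0)) (.node (.leaf 0) (.leaf 0))) (.node (.node (.leaf 0) (.leaf 0)) (.node (.leaf 0) (.leaf 0)))))) (.node (.node (.node (.node (.node (.leaf 0) (.leaf 0)) (.node (.leaf 0) (.leaf 0))) (.node (.node (.leaf 0) (.leaf 0)) (.node (.leaf 0) (.leaf 0)))) (.node (.node (.node (.leaf 0) (.leaf 0)) (.node (.leaf 0) (.leaf 0))) (.node (.node (.leaf 0) (.leaf 0)) (.node (.leaf 0) (.leaf 0))))) (.node (.node (.node (.node (.leaf 0) (.leaf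 0)) (.node (.leaf 0) (.leaf 0))) (.node (.node (.leaf 0) (.leaf 0)) (.node (.leaf 0) (.leaf 0)))) (.node (.node (.node (.leaf 0) (.leaf 0)) (.node (.leaf 0) (.leaf 0))) (.node (.node (.leaf 0) (.leaf 0)) (.node (.leaf 0) (.leaf 0)))))))

/-- Closure of the stabiliser, part 46. -/
def kClosePart46 : Janko1.Tree ℕ := (.node (.node (.node (.node (.node (.node (.leaf 0) (.leaf 0)) (.node (.leaf 0) (.leaf 0))) (.node (.node (.leaf 0) (.leaf 0)) (.node (.leaf 0) (.leaf 0)))) (.node (.node (.node (.leaf 0) (.leaf 0)) (.node (.leaf 0) (.leaf 0))) (.node (.node (.leaf 0) (.leaf 0)) (.node (.leaf 0) (.leaf 0))))) (.node (.node (.node (.node (.leaf 0) (.leaf 0)) (.node (.leaf 0) (.leaf 0))) (.node (.node (.leaf 0) (.leaf 0)) (.node (.leaf 0) (.leaf 0)))) (.node (.node (.node (.leaf 0) (.leaf 0)) (.node (.leaf 0) (.leaf 0))) (.node (.node (.leaf 0) (.leaf 0)) (.node (.leaf 0) (.leaf 0)))))) (.node (.node (.node (.node (.node (.leaf 0) (.leaf 0)) (.node (.leaf 0) (.leaf 0))) (.node (.node (.leaf 0) (.leaf 0)) (.node (.leaf 0) (.leaf 0)))) (.node (.node (.node (.leaf 0) (.leaf 0)) (.node (.leaf 0)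 (.leaf 0))) (.node (.node (.leaf 0) (.leaf 0)) (.node (.leaf 0) (.leaf 0))))) (.node (.node (.node (.node (.leaf 0) (.leaf 0)) (.node (.leaf 0) (.leaf 0))) (.node (.node (.leaf 0) (.leaf 0)) (.node (.leaf 0) (.leaf 0)))) (.node (.node (.node (.leaf 0) (.leaf 0)) (.node (.leaf 0) (.leaf 0))) (.node (.node (.leaf 0) (.leaf 0)) (.node (.leaf 0) (.leaf 0)))))))

/-- Closure of the stabiliser, part 47. -/
def kClosePart47 : Janko1.Tree ℕ := (.node (.node (.node (.node (.node (.node (.leaf 0) (.leaf 0)) (.node (.leaf 0) (.leaf 0))) (.node (.node (.leaf 0) (.leaf 0)) (.node (.leaf 0) (.leaf 0)))) (.node (.node (.node (.leaf 0) (.leaf 0)) (.node (.leaf 0) (.leaf 0))) (.node (.node (.leaf 0) (.leaf 0)) (.node (.leaf 0) (.leaf 0))))) (.node (.node (.node (.node (.leaf 0) (.leaf 0)) (.node (.leaf 0) (.leaf 0))) (.node (.node (.leaf 0) (.leaf 0)) (.node (.leaf 0) (.leaf 0)))) (.node (.node (.node (.leaf 0) (.leaf 0)) (.node (.leaf 0) (.leaf 0))) (.node (.node (.leaf 0) (.leaf 0)) (.node (.leaf 0) (.leaf 0)))))) (.node (.node (.node (.node (.node (.leaf 0) (.leaf 0)) (.node (.leaf 0) (.leaf 0)))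 (.node (.node (.leaf 0) (.leaf 0)) (.node (.leaf 0) (.leaf 0)))) (.node (.node (.node (.leaf 0) (.leaf 0)) (.node (.leaf 0) (.leaf 0))) (.node (.node (.leaf 0) (.leaf 0)) (.node (.leaf 0) (.leaf 0))))) (.node (.node (.node (.node (.leaf 0) (.leaf 0)) (.node (.leaf 0) (.leaf 0))) (.node (.node (.leaf 0) (.leaf 0)) (.node (.leaf 0) (.leaf 0)))) (.node (.node (.node (.leaf 0) (.leaf 0)) (.node (.leaf 0) (.leaf 0))) (.node (.node (.leaf 0) (.leaf 0)) (.node (.leaf 0) (.leaf 0)))))))

/-- Closure of the stabiliser, part 48. -/
def kClosePart48 : Janko1.Tree ℕ := (.node (.node (.node (.node (.node (.node (.leaf 0) (.leaf 0)) (.node (.leaf 0) (.leaf 0))) (.node (.node (.leaf 0) (.leaf 0)) (.node (.leaf 0) (.leaf 0)))) (.node (.node (.node (.leaf 0) (.leaf 0)) (.node (.leaf 0) (.leaf 0))) (.node (.node (.leaf 0) (.leaf 0)) (.node (.leaf 0) (.leaf 0))))) (.node (.node (.node (.node (.leaf 0) (.leaf 0)) (.node (.leaf 0) (.leaf 0))) (.node (.node (.leaf 0) (.leaf 0)) (.node (.leaf 0) (.leaf 0)))) (.node (.node (.node (.leaf 0) (.leaf 0)) (.node (.leaf 0) (.leaf 0))) (.node (.node (.leaf 0) (.leaf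 0)) (.node (.leaf 0) (.leaf 0)))))) (.node (.node (.node (.node (.node (.leaf 0) (.leaf 0)) (.node (.leaf 0) (.leaf 0))) (.node (.node (.leaf 0) (.leaf 0)) (.node (.leaf 0) (.leaf 0)))) (.node (.node (.node (.leaf 0) (.leaf 0)) (.node (.leaf 0) (.leaf 0))) (.node (.node (.leaf 0) (.leaf 0)) (.node (.leaf 0) (.leaf 0))))) (.node (.node (.node (.node (.leaf 0) (.leaf 0)) (.node (.leaf 0) (.leaf 0))) (.node (.node (.leaf 0) (.leaf 0)) (.node (.leaf 0) (.leaf 0)))) (.node (.node (.node (.leaf 0) (.leaf 0)) (.node (.leaf 0) (.leaf 0))) (.node (.node (.leaf 0) (.leaf 0)) (.node (.leaf 0) (.leaf 0)))))))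

/-- Closure of the stabiliser, part 49. -/
def kClosePart49 : Janko1.Tree ℕ := (.node (.node (.node (.node (.node (.node (.leaf 0) (.leaf 0)) (.node (.leaf 0) (.leaf 0))) (.node (.node (.leaf 0) (.leaf 0)) (.node (.leaf 0) (.leaf 0)))) (.node (.node (.node (.leaf 0) (.leaf 0)) (.node (.leaf 0) (.leaf 0))) (.node (.node (.leaf 0) (.leaf 0)) (.node (.leaf 0) (.leaf 0))))) (.node (.node (.node (.node (.leaf 0) (.leaf 0)) (.node (.leaf 0) (.leaf 0))) (.node (.node (.leaf 0) (.leaf 0)) (.node (.leaf 0) (.leaf 0)))) (.node (.node (.node (.leaf 0) (.leaf 0)) (.node (.leaf 0) (.leaf 0))) (.node (.node (.leaf 0) (.leaf 0)) (.node (.leaf 0) (.leaf 0)))))) (.node (.node (.node (.node (.node (.leaf 0) (.leaf 0)) (.node (.leaf 0) (.leaf 0))) (.node (.node (.leaf 0) (.leaf 0)) (.node (.leaf 0) (.leaf 0)))) (.node (.node (.node (.leaf 0) (.leaf 0)) (.node (.leaf 0) (.leaf 0))) (.node (.node (.leaf 0) (.leaf 0)) (.node (.leaf 0) (.leaf 0))))) (.node (.node (.node (.node (.leaf 0) (.leaf 0)) (.node (.leaf 0) (.leaf 0))) (.node (.node (.leaf 0) (.leaf 0)) (.node (.leaf 0) (.leaf 0)))) (.node (.node (.node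 (.leaf 0) (.leaf 0)) (.node (.leaf 0) (.leaf 0))) (.node (.node (.leaf 0) (.leaf 0)) (.node (.leaf 0) (.leaf 0)))))))

/-- Closure of the stabiliser, part 50. -/
def kClosePart50 : Janko1.Tree ℕ := (.node (.node (.node (.node (.node (.node (.leaf 0) (.leaf 0)) (.node (.leaf 0) (.leaf 0))) (.node (.node (.leaf 0) (.leaf 0)) (.node (.leaf 0) (.leaf 0)))) (.node (.node (.node (.leaf 0) (.leaf 0)) (.node (.leaf 0) (.leaf 0))) (.node (.node (.leaf 0) (.leaf 0)) (.node (.leaf 0) (.leaf 0))))) (.node (.node (.node (.node (.leaf 0) (.leaf 0)) (.node (.leaf 0) (.leaf 0))) (.node (.node (.leaf 0) (.leaf 0)) (.node (.leaf 0) (.leaf 0)))) (.node (.node (.node (.leaf 0) (.leaf 0)) (.node (.leaf 0) (.leaf 0))) (.node (.node (.leaf 0) (.leaf 0)) (.node (.leaf 0) (.leaf 0)))))) (.node (.node (.node (.node (.node (.leaf 0) (.leaf 0)) (.node (.leaf 0) (.leaf 0))) (.node (.node (.leaf 0) (.leaf 0)) (.node (.leaf 0) (.leaf 0)))) (.node (.node (.node (.leaf 0) (.leaf 0)) (.node (.leaf 0) (.leaf 0))) (.node (.node (.leaf 0) (.leaf 0)) (.node (.leaf 0) (.leaf 0))))) (.node (.node (.node (.node (.leaf 0) (.leaf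 0)) (.node (.leaf 0) (.leaf 0))) (.node (.node (.leaf 0) (.leaf 0)) (.node (.leaf 0) (.leaf 0)))) (.node (.node (.node (.leaf 0) (.leaf 0)) (.node (.leaf 0) (.leaf 0))) (.node (.node (.leaf 0) (.leaf 0)) (.node (.leaf 0) (.leaf 0)))))))

/-- Closure of the stabiliser, part 51. -/
def kClosePart51 : Janko1.Tree ℕ := (.node (.node (.node (.node (.node (.node (.leaf 0) (.leaf 0)) (.node (.leaf 0) (.leaf 0))) (.node (.node (.leaf 0) (.leaf 0)) (.node (.leaf 0) (.leaf 0)))) (.node (.node (.node (.leaf 0) (.leaf 0)) (.node (.leaf 0) (.leaf 0))) (.node (.node (.leaf 0) (.leaf 0)) (.node (.leaf 0) (.leaf 0))))) (.node (.node (.node (.node (.leaf 0) (.leaf 0)) (.node (.leaf 0) (.leaf 0))) (.node (.node (.leaf 0) (.leaf 0)) (.node (.leaf 0) (.leaf 0)))) (.node (.node (.node (.leaf 0) (.leaf 0)) (.node (.leaf 0) (.leaf 0))) (.node (.node (.leaf 0) (.leaf 0)) (.node (.leaf 0) (.leaf 0)))))) (.node (.node (.node (.node (.node (.leaf 0) (.leaf 0)) (.node (.leaf 0) (.leaf 0))) (.node (.node (.leaf 0) (.leaf 0)) (.node (.leaf 0) (.leaf 0)))) (.node (.node (.node (.leaf 0) (.leaf 0)) (.node (.leaf 0)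 (.leaf 0))) (.node (.node (.leaf 0) (.leaf 0)) (.node (.leaf 0) (.leaf 0))))) (.node (.node (.node (.node (.leaf 0) (.leaf 0)) (.node (.leaf 0) (.leaf 0))) (.node (.node (.leaf 0) (.leaf 0)) (.node (.leaf 0) (.leaf 0)))) (.node (.node (.node (.leaf 0) (.leaf 0)) (.node (.leaf 0) (.leaf 0))) (.node (.node (.leaf 0) (.leaf 0)) (.node (.leaf 0) (.leaf 0)))))))

/-- Closure of the stabiliser, part 52. -/
def kClosePart52 : Janko1.Tree ℕ := (.node (.node (.node (.node (.node (.node (.leaf 0) (.leaf 0)) (.node (.leaf 0) (.leaf 0))) (.node (.node (.leaf 0) (.leaf 0)) (.node (.leaf 0) (.leaf 0)))) (.node (.node (.node (.leaf 0) (.leaf 0)) (.node (.leaf 0) (.leaf 0))) (.node (.node (.leaf 0) (.leaf 0)) (.node (.leaf 0) (.leaf 0))))) (.node (.node (.node (.node (.leaf 0) (.leaf 0)) (.node (.leaf 0) (.leaf 0))) (.node (.node (.leaf 0) (.leaf 0)) (.node (.leaf 0) (.leaf 0)))) (.node (.node (.node (.leaf 0) (.leaf 0)) (.node (.leaf 0) (.leaf 0))) (.node (.node (.leaf 0) (.leaf 0)) (.node (.leaf 0) (.leaf 0)))))) (.node (.node (.node (.node (.node (.leaf 0) (.leaf 0)) (.node (.leaf 0) (.leaf 0)))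 (.node (.node (.leaf 0) (.leaf 0)) (.node (.leaf 0) (.leaf 0)))) (.node (.node (.node (.leaf 0) (.leaf 0)) (.node (.leaf 0) (.leaf 0))) (.node (.node (.leaf 0) (.leaf 0)) (.node (.leaf 0) (.leaf 0))))) (.node (.node (.node (.node (.leaf 0) (.leaf 0)) (.node (.leaf 0) (.leaf 0))) (.node (.node (.leaf 0) (.leaf 0)) (.node (.leaf 0) (.leaf 0)))) (.node (.node (.node (.leaf 0) (.leaf 0)) (.node (.leaf 0) (.leaf 0))) (.node (.node (.leaf 0) (.leaf 0)) (.node (.leaf 0) (.leaf 0)))))))

/-- Closure of the stabiliser, part 53. -/
def kClosePart53 : Janko1.Tree ℕ := (.node (.node (.node (.node (.node (.node (.leaf 0) (.leaf 0)) (.node (.leaf 0) (.leaf 0))) (.node (.node (.leaf 0) (.leaf 0)) (.node (.leaf 0) (.leaf 0)))) (.node (.node (.node (.leaf 0) (.leaf 0)) (.node (.leaf 0) (.leaf 0))) (.node (.node (.leaf 0) (.leaf 0)) (.node (.leaf 0) (.leaf 0))))) (.node (.node (.node (.node (.leaf 0) (.leaf 0)) (.node (.leaf 0) (.leaf 0))) (.node (.node (.leaf 0) (.leaf 0)) (.node (.leaf 0) (.leaf 0)))) (.node (.node (.node (.leaf 0) (.leaf 0)) (.node (.leaf 0) (.leaf 0))) (.node (.node (.leaf 0) (.leaf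 0)) (.node (.leaf 0) (.leaf 0)))))) (.node (.node (.node (.node (.node (.leaf 0) (.leaf 0)) (.node (.leaf 0) (.leaf 0))) (.node (.node (.leaf 0) (.leaf 0)) (.node (.leaf 0) (.leaf 0)))) (.node (.node (.node (.leaf 0) (.leaf 0)) (.node (.leaf 0) (.leaf 0))) (.node (.node (.leaf 0) (.leaf 0)) (.node (.leaf 0) (.leaf 0))))) (.node (.node (.node (.node (.leaf 0) (.leaf 0)) (.node (.leaf 0) (.leaf 0))) (.node (.node (.leaf 0) (.leaf 0)) (.node (.leaf 0) (.leaf 0)))) (.node (.node (.node (.leaf 0) (.leaf 0)) (.node (.leaf 0) (.leaf 0))) (.node (.node (.leaf 0) (.leaf 0)) (.node (.leaf 0) (.leaf 0)))))))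

/-- Closure of the stabiliser, part 54. -/
def kClosePart54 : Janko1.Tree ℕ := (.node (.node (.node (.node (.node (.node (.leaf 0) (.leaf 0)) (.node (.leaf 0) (.leaf 0))) (.node (.node (.leaf 0) (.leaf 0)) (.node (.leaf 0) (.leaf 0)))) (.node (.node (.node (.leaf 0) (.leaf 0)) (.node (.leaf 0) (.leaf 0))) (.node (.node (.leaf 0) (.leaf 0)) (.node (.leaf 0) (.leaf 0))))) (.node (.node (.node (.node (.leaf 0) (.leaf 0)) (.node (.leaf 0) (.leaf 0))) (.node (.node (.leaf 0) (.leaf 0)) (.node (.leaf 0) (.leaf 0)))) (.node (.node (.node (.leaf 0) (.leaf 0)) (.node (.leaf 0) (.leaf 0))) (.node (.node (.leaf 0) (.leaf 0)) (.node (.leaf 0) (.leaf 0)))))) (.node (.node (.node (.node (.node (.leaf 0) (.leaf 0)) (.node (.leaf 0) (.leaf 0))) (.node (.node (.leaf 0) (.leaf 0)) (.node (.leaf 0) (.leaf 0)))) (.node (.node (.node (.leaf 0) (.leaf 0)) (.node (.leaf 0) (.leaf 0))) (.node (.node (.leaf 0) (.leaf 0)) (.node (.leaf 0) (.leaf 0))))) (.node (.node (.node (.node (.leaf 0) (.leaf 0)) (.node (.leaf 0) (.leaf 0))) (.node (.node (.leaf 0) (.leaf 0)) (.node (.leaf 0) (.leaf 0)))) (.node (.node (.node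 (.leaf 0) (.leaf 0)) (.node (.leaf 0) (.leaf 0))) (.node (.node (.leaf 0) (.leaf 0)) (.node (.leaf 0) (.leaf 0)))))))

/-- Closure of the stabiliser, part 55. -/
def kClosePart55 : Janko1.Tree ℕ := (.node (.node (.node (.node (.node (.node (.leaf 0) (.leaf 0)) (.node (.leaf 0) (.leaf 0))) (.node (.node (.leaf 0) (.leaf 0)) (.node (.leaf 0) (.leaf 0)))) (.node (.node (.node (.leaf 0) (.leaf 0)) (.node (.leaf 0) (.leaf 0))) (.node (.node (.leaf 0) (.leaf 0)) (.node (.leaf 0) (.leaf 0))))) (.node (.node (.node (.node (.leaf 0) (.leaf 0)) (.node (.leaf 0) (.leaf 0))) (.node (.node (.leaf 0) (.leaf 0)) (.node (.leaf 0) (.leaf 0)))) (.node (.node (.node (.leaf 0) (.leaf 0)) (.node (.leaf 0) (.leaf 0))) (.node (.node (.leaf 0) (.leaf 0)) (.node (.leaf 0) (.leaf 0)))))) (.node (.node (.node (.node (.node (.leaf 0) (.leaf 0)) (.node (.leaf 0) (.leaf 0))) (.node (.node (.leaf 0) (.leaf 0)) (.node (.leaf 0) (.leaf 0)))) (.node (.node (.node (.leaf 0) (.leaf 0)) (.node (.leaf 0) (.leaf 0))) (.node (.node (.leaf 0) (.leaf 0)) (.node (.leaf 0) (.leaf 0))))) (.node (.node (.node (.node (.leaf 0) (.leaf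 0)) (.node (.leaf 0) (.leaf 0))) (.node (.node (.leaf 0) (.leaf 0)) (.node (.leaf 0) (.leaf 0)))) (.node (.node (.node (.leaf 0) (.leaf 0)) (.node (.leaf 0) (.leaf 0))) (.node (.node (.leaf 0) (.leaf 0)) (.node (.leaf 0) (.leaf 0)))))))

/-- Closure of the stabiliser, part 56. -/
def kClosePart56 : Janko1.Tree ℕ := (.node (.node (.node (.node (.node (.node (.leaf 0) (.leaf 0)) (.node (.leaf 0) (.leaf 0))) (.node (.node (.leaf 0) (.leaf 0)) (.node (.leaf 0) (.leaf 0)))) (.node (.node (.node (.leaf 0) (.leaf 0)) (.node (.leaf 0) (.leaf 0))) (.node (.node (.leaf 0) (.leaf 0)) (.node (.leaf 0) (.leaf 0))))) (.node (.node (.node (.node (.leaf 0) (.leaf 0)) (.node (.leaf 0) (.leaf 0))) (.node (.node (.leaf 0) (.leaf 0)) (.node (.leaf 0) (.leaf 0)))) (.node (.node (.node (.leaf 0) (.leaf 0)) (.node (.leaf 0) (.leaf 0))) (.node (.node (.leaf 0) (.leaf 0)) (.node (.leaf 0) (.leaf 0)))))) (.node (.node (.node (.node (.node (.leaf 0) (.leaf 0)) (.node (.leaf 0) (.leaf 0))) (.node (.node (.leaf 0) (.leaf 0)) (.node (.leaf 0) (.leaf 0)))) (.node (.node (.node (.leaf 0) (.leaf 0)) (.node (.leaf 0)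 (.leaf 0))) (.node (.node (.leaf 0) (.leaf 0)) (.node (.leaf 0) (.leaf 0))))) (.node (.node (.node (.node (.leaf 0) (.leaf 0)) (.node (.leaf 0) (.leaf 0))) (.node (.node (.leaf 0) (.leaf 0)) (.node (.leaf 0) (.leaf 0)))) (.node (.node (.node (.leaf 0) (.leaf 0)) (.node (.leaf 0) (.leaf 0))) (.node (.node (.leaf 0) (.leaf 0)) (.node (.leaf 0) (.leaf 0)))))))

/-- Closure of the stabiliser, part 57. -/
def kClosePart57 : Janko1.Tree ℕ := (.node (.node (.node (.node (.node (.node (.leaf 0) (.leaf 0)) (.node (.leaf 0) (.leaf 0))) (.node (.node (.leaf 0) (.leaf 0)) (.node (.leaf 0) (.leaf 0)))) (.node (.node (.node (.leaf 0) (.leaf 0)) (.node (.leaf 0) (.leaf 0))) (.node (.node (.leaf 0) (.leaf 0)) (.node (.leaf 0) (.leaf 0))))) (.node (.node (.node (.node (.leaf 0) (.leaf 0)) (.node (.leaf 0) (.leaf 0))) (.node (.node (.leaf 0) (.leaf 0)) (.node (.leaf 0) (.leaf 0)))) (.node (.node (.node (.leaf 0) (.leaf 0)) (.node (.leaf 0) (.leaf 0))) (.node (.node (.leaf 0) (.leaf 0)) (.node (.leaf 0) (.leaf 0)))))) (.node (.node (.node (.node (.node (.leaf 0) (.leaf 0)) (.node (.leaf 0) (.leaf 0)))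 (.node (.node (.leaf 0) (.leaf 0)) (.node (.leaf 0) (.leaf 0)))) (.node (.node (.node (.leaf 0) (.leaf 0)) (.node (.leaf 0) (.leaf 0))) (.node (.node (.leaf 0) (.leaf 0)) (.node (.leaf 0) (.leaf 0))))) (.node (.node (.node (.node (.leaf 0) (.leaf 0)) (.node (.leaf 0) (.leaf 0))) (.node (.node (.leaf 0) (.leaf 0)) (.node (.leaf 0) (.leaf 0)))) (.node (.node (.node (.leaf 0) (.leaf 0)) (.node (.leaf 0) (.leaf 0))) (.node (.node (.leaf 0) (.leaf 0)) (.node (.leaf 0) (.leaf 0)))))))

/-- Closure of the stabiliser, part 58. -/
def kClosePart58 : Janko1.Tree ℕ := (.node (.node (.node (.node (.node (.node (.leaf 0) (.leaf 0)) (.node (.leaf 0) (.leaf 0))) (.node (.node (.leaf 0) (.leaf 0)) (.node (.leaf 0) (.leaf 0)))) (.node (.node (.node (.leaf 0) (.leaf 0)) (.node (.leaf 0) (.leaf 0))) (.node (.node (.leaf 0) (.leaf 0)) (.node (.leaf 0) (.leaf 0))))) (.node (.node (.node (.node (.leaf 0) (.leaf 0)) (.node (.leaf 0) (.leaf 0))) (.node (.node (.leaf 0) (.leaf 0)) (.node (.leaf 0) (.leaf 0)))) (.node (.node (.node (.leaf 0) (.leaf 0)) (.node (.leaf 0) (.leaf 0))) (.node (.node (.leaf 0) (.leaf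 0)) (.node (.leaf 0) (.leaf 0)))))) (.node (.node (.node (.node (.node (.leaf 0) (.leaf 0)) (.node (.leaf 0) (.leaf 0))) (.node (.node (.leaf 0) (.leaf 0)) (.node (.leaf 0) (.leaf 0)))) (.node (.node (.node (.leaf 0) (.leaf 0)) (.node (.leaf 0) (.leaf 0))) (.node (.node (.leaf 0) (.leaf 0)) (.node (.leaf 0) (.leaf 0))))) (.node (.node (.node (.node (.leaf 0) (.leaf 0)) (.node (.leaf 0) (.leaf 0))) (.node (.node (.leaf 0) (.leaf 0)) (.node (.leaf 0) (.leaf 0)))) (.node (.node (.node (.leaf 0) (.leaf 0)) (.node (.leaf 0) (.leaf 0))) (.node (.node (.leaf 0) (.leaf 0)) (.node (.leaf 0) (.leaf 0)))))))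

/-- Closure of the stabiliser, part 59. -/
def kClosePart59 : Janko1.Tree ℕ := (.node (.node (.node (.node (.node (.node (.leaf 0) (.leaf 0)) (.node (.leaf 0) (.leaf 0))) (.node (.node (.leaf 0) (.leaf 0)) (.node (.leaf 0) (.leaf 0)))) (.node (.node (.node (.leaf 0) (.leaf 0)) (.node (.leaf 0) (.leaf 0))) (.node (.node (.leaf 0) (.leaf 0)) (.node (.leaf 0) (.leaf 0))))) (.node (.node (.node (.node (.leaf 0) (.leaf 0)) (.node (.leaf 0) (.leaf 0))) (.node (.node (.leaf 0) (.leaf 0)) (.node (.leaf 0) (.leaf 0)))) (.node (.node (.node (.leaf 0) (.leaf 0)) (.node (.leaf 0) (.leaf 0))) (.node (.node (.leaf 0) (.leaf 0)) (.node (.leaf 0) (.leaf 0)))))) (.node (.node (.node (.node (.node (.leaf 0) (.leaf 0)) (.node (.leaf 0) (.leaf 0))) (.node (.node (.leaf 0) (.leaf 0)) (.node (.leaf 0) (.leaf 0)))) (.node (.node (.node (.leaf 0) (.leaf 0)) (.node (.leaf 0) (.leaf 0))) (.node (.node (.leaf 0) (.leaf 0)) (.node (.leaf 0) (.leaf 0))))) (.node (.node (.node (.node (.leaf 0) (.leaf 0)) (.node (.leaf 0) (.leaf 0))) (.node (.node (.leaf 0) (.leaf 0)) (.node (.leaf 0) (.leaf 0)))) (.node (.node (.node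 (.leaf 0) (.leaf 0)) (.node (.leaf 0) (.leaf 0))) (.node (.node (.leaf 0) (.leaf 0)) (.node (.leaf 0) (.leaf 0)))))))

/-- Closure of the stabiliser, part 60. -/
def kClosePart60 : Janko1.Tree ℕ := (.node (.node (.node (.node (.node (.node (.leaf 0) (.leaf 0)) (.node (.leaf 0) (.leaf 0))) (.node (.node (.leaf 0) (.leaf 0)) (.node (.leaf 0) (.leaf 0)))) (.node (.node (.node (.leaf 0) (.leaf 0)) (.node (.leaf 0) (.leaf 0))) (.node (.node (.leaf 0) (.leaf 0)) (.node (.leaf 0) (.leaf 0))))) (.node (.node (.node (.node (.leaf 0) (.leaf 0)) (.node (.leaf 0) (.leaf 0))) (.node (.node (.leaf 0) (.leaf 0)) (.node (.leaf 0) (.leaf 0)))) (.node (.node (.node (.leaf 0) (.leaf 0)) (.node (.leaf 0) (.leaf 0))) (.node (.node (.leaf 0) (.leaf 0)) (.node (.leaf 0) (.leaf 0)))))) (.node (.node (.node (.node (.node (.leaf 0) (.leaf 0)) (.node (.leaf 0) (.leaf 0))) (.node (.node (.leaf 0) (.leaf 0)) (.node (.leaf 0) (.leaf 0)))) (.node (.node (.node (.leaf 0) (.leaf 0)) (.node (.leaf 0) (.leaf 0))) (.node (.node (.leaf 0) (.leaf 0)) (.node (.leaf 0) (.leaf 0))))) (.node (.node (.node (.node (.leaf 0) (.leaf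 0)) (.node (.leaf 0) (.leaf 0))) (.node (.node (.leaf 0) (.leaf 0)) (.node (.leaf 0) (.leaf 0)))) (.node (.node (.node (.leaf 0) (.leaf 0)) (.node (.leaf 0) (.leaf 0))) (.node (.node (.leaf 0) (.leaf 0)) (.node (.leaf 0) (.leaf 0)))))))

/-- Closure of the stabiliser, part 61. -/
def kClosePart61 : Janko1.Tree ℕ := (.node (.node (.node (.node (.node (.node (.leaf 0) (.leaf 0)) (.node (.leaf 0) (.leaf 0))) (.node (.node (.leaf 0) (.leaf 0)) (.node (.leaf 0) (.leaf 0)))) (.node (.node (.node (.leaf 0) (.leaf 0)) (.node (.leaf 0) (.leaf 0))) (.node (.node (.leaf 0) (.leaf 0)) (.node (.leaf 0) (.leaf 0))))) (.node (.node (.node (.node (.leaf 0) (.leaf 0)) (.node (.leaf 0) (.leaf 0))) (.node (.node (.leaf 0) (.leaf 0)) (.node (.leaf 0) (.leaf 0)))) (.node (.node (.node (.leaf 0) (.leaf 0)) (.node (.leaf 0) (.leaf 0))) (.node (.node (.leaf 0) (.leaf 0)) (.node (.leaf 0) (.leaf 0)))))) (.node (.node (.node (.node (.node (.leaf 0) (.leaf 0)) (.node (.leaf 0) (.leaf 0))) (.node (.node (.leaf 0) (.leaf 0)) (.node (.leaf 0) (.leaf 0)))) (.node (.node (.node (.leaf 0) (.leaf 0)) (.node (.leaf 0)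 (.leaf 0))) (.node (.node (.leaf 0) (.leaf 0)) (.node (.leaf 0) (.leaf 0))))) (.node (.node (.node (.node (.leaf 0) (.leaf 0)) (.node (.leaf 0) (.leaf 0))) (.node (.node (.leaf 0) (.leaf 0)) (.node (.leaf 0) (.leaf 0)))) (.node (.node (.node (.leaf 0) (.leaf 0)) (.node (.leaf 0) (.leaf 0))) (.node (.node (.leaf 0) (.leaf 0)) (.node (.leaf 0) (.leaf 0)))))))

/-- Closure of the stabiliser, part 62. -/
def kClosePart62 : Janko1.Tree ℕ := (.node (.node (.node (.node (.node (.node (.leaf 0) (.leaf 0)) (.node (.leaf 0) (.leaf 0))) (.node (.node (.leaf 0) (.leaf 0)) (.node (.leaf 0) (.leaf 0)))) (.node (.node (.node (.leaf 0) (.leaf 0)) (.node (.leaf 0) (.leaf 0))) (.node (.node (.leaf 0) (.leaf 0)) (.node (.leaf 0) (.leaf 0))))) (.node (.node (.node (.node (.leaf 0) (.leaf 0)) (.node (.leaf 0) (.leaf 0))) (.node (.node (.leaf 0) (.leaf 0)) (.node (.leaf 0) (.leaf 0)))) (.node (.node (.node (.leaf 0) (.leaf 0)) (.node (.leaf 0) (.leaf 0))) (.node (.node (.leaf 0) (.leaf 0)) (.node (.leaf 0) (.leaf 0)))))) (.node (.node (.node (.node (.node (.leaf 0) (.leaf 0)) (.node (.leaf 0) (.leaf 0)))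 (.node (.node (.leaf 0) (.leaf 0)) (.node (.leaf 0) (.leaf 0)))) (.node (.node (.node (.leaf 0) (.leaf 0)) (.node (.leaf 0) (.leaf 0))) (.node (.node (.leaf 0) (.leaf 0)) (.node (.leaf 0) (.leaf 0))))) (.node (.node (.node (.node (.leaf 0) (.leaf 0)) (.node (.leaf 0) (.leaf 0))) (.node (.node (.leaf 0) (.leaf 0)) (.node (.leaf 0) (.leaf 0)))) (.node (.node (.node (.leaf 0) (.leaf 0)) (.node (.leaf 0) (.leaf 0))) (.node (.node (.leaf 0) (.leaf 0)) (.node (.leaf 0) (.leaf 0)))))))

/-- Closure of the stabiliser, part 63. -/
def kClosePart63 : Janko1.Tree ℕ := (.node (.node (.node (.node (.node (.node (.leaf 0) (.leaf 0)) (.node (.leaf 0) (.leaf 0))) (.node (.node (.leaf 0) (.leaf 0)) (.node (.leaf 0) (.leaf 0)))) (.node (.node (.node (.leaf 0) (.leaf 0)) (.node (.leaf 0) (.leaf 0))) (.node (.node (.leaf 0) (.leaf 0)) (.node (.leaf 0) (.leaf 0))))) (.node (.node (.node (.node (.leaf 0) (.leaf 0)) (.node (.leaf 0) (.leaf 0))) (.node (.node (.leaf 0) (.leaf 0)) (.node (.leaf 0) (.leaf 0)))) (.node (.node (.node (.leaf 0) (.leaf 0)) (.node (.leaf 0) (.leaf 0))) (.node (.node (.leaf 0) (.leaf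 0)) (.node (.leaf 0) (.leaf 0)))))) (.node (.node (.node (.node (.node (.leaf 0) (.leaf 0)) (.node (.leaf 0) (.leaf 0))) (.node (.node (.leaf 0) (.leaf 0)) (.node (.leaf 0) (.leaf 0)))) (.node (.node (.node (.leaf 0) (.leaf 0)) (.node (.leaf 0) (.leaf 0))) (.node (.node (.leaf 0) (.leaf 0)) (.node (.leaf 0) (.leaf 0))))) (.node (.node (.node (.node (.leaf 0) (.leaf 0)) (.node (.leaf 0) (.leaf 0))) (.node (.node (.leaf 0) (.leaf 0)) (.node (.leaf 0) (.leaf 0)))) (.node (.node (.node (.leaf 0) (.leaf 0)) (.node (.leaf 0) (.leaf 0))) (.node (.node (.leaf 0) (.leaf 0)) (.node (.leaf 0) (.leaf 0)))))))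

/-- Closure of the stabiliser, block 0. -/
def kCloseBlock0 : Janko1.Tree ℕ := (.node (.node (.node (.node (.node kClosePart0 kClosePart1) (.node kClosePart2 kClosePart3)) (.node (.node kClosePart4 kClosePart5) (.node kClosePart6 kClosePart7))) (.node (.node (.node kClosePart8 kClosePart9) (.node kClosePart10 kClosePart11)) (.node (.node kClosePart12 kClosePart13) (.node kClosePart14 kClosePart15)))) (.node (.node (.node (.node kClosePart16 kClosePart17) (.node kClosePart18 kClosePart19)) (.node (.node kClosePart20 kClosePart21) (.node kClosePart22 kClosePart23))) (.node (.node (.node kClosePart24 kClosePart25) (.node kClosePart26 kClosePart27)) (.node (.node kClosePart28 kClosePart29) (.node kClosePart30 kClosePart31)))))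

/-- Closure of the stabiliser, block 1. -/
def kCloseBlock1 : Janko1.Tree ℕ := (.node (.node (.node (.node (.node kClosePart32 kClosePart33) (.node kClosePart34 kClosePart35)) (.node (.node kClosePart36 kClosePart37) (.node kClosePart38 kClosePart39))) (.node (.node (.node kClosePart40 kClosePart41) (.node kClosePart42 kClosePart43)) (.node (.node kClosePart44 kClosePart45) (.node kClosePart46 kClosePart47)))) (.node (.node (.node (.node kClosePart48 kClosePart49) (.node kClosePart50 kClosePart51)) (.node (.node kClosePart52 kClosePart53) (.node kClosePart54 kClosePart55))) (.node (.node (.node kClosePart56 kClosePart57) (.node kClosePart58 kClosePart59)) (.node (.node kClosePart60 kClosePart61) (.node kClosePart62 kClosePart63)))))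

/-- Closure of the stabiliser. -/
def kCloseTree : Janko1.Tree ℕ := (.node kCloseBlock0 kCloseBlock1)

/-- Closure of the stabiliser, by index. -/
def kClose (i : ℕ) : ℕ := kCloseTree.get 12 i

/-- A line moved by an element, part 0. -/
def kMoverPart0 : Janko1.Tree ℕ := (.node (.node (.node (.node (.node (.node (.leaf 1) (.leaf 1)) (.node (.leaf 1) (.leaf 1))) (.node (.node (.leaf 1) (.leaf 1)) (.node (.leaf 1) (.leaf 1)))) (.node (.node (.node (.leaf 1) (.leaf 1)) (.node (.leaf 1) (.leaf 1))) (.node (.node (.leaf 0) (.leaf 1)) (.node (.leaf 1) (.leaf 1))))) (.node (.node (.node (.node (.leaf 1) (.leaf 1)) (.node (.leaf 1) (.leaf 1))) (.node (.node (.leaf 1) (.leaf 1)) (.node (.leaf 1) (.leaf 1)))) (.node (.node (.node (.leaf 1) (.leaf 1)) (.node (.leaf 4) (.leaf 4))) (.node (.node (.leaf 1) (.leaf 1)) (.node (.leaf 1) (.leaf 1)))))) (.node (.node (.node (.node (.node (.leaf 1) (.leaf 1)) (.node (.leaf 1) (.leaf 1))) (.node (.node (.leaf 1) (.leaf 1)) (.node (.leaf 1) (.leaf 1)))) (.node (.node (.node (.leaf 1) (.leaf 1)) (.node (.leaf 1) (.leaf 1))) (.node (.node (.leaf 1) (.leaf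 1)) (.node (.leaf 1) (.leaf 1))))) (.node (.node (.node (.node (.leaf 1) (.leaf 1)) (.node (.leaf 1) (.leaf 1))) (.node (.node (.leaf 1) (.leaf 1)) (.node (.leaf 1) (.leaf 1)))) (.node (.node (.node (.leaf 1) (.leaf 1)) (.node (.leaf 1) (.leaf 1))) (.node (.node (.leaf 1) (.leaf 1)) (.node (.leaf 1) (.leaf 1)))))))

/-- A line moved by an element, part 1. -/
def kMoverPart1 : Janko1.Tree ℕ := (.node (.node (.node (.node (.node (.node (.leaf 1) (.leaf 1)) (.node (.leaf 1) (.leaf 1))) (.node (.node (.leaf 1) (.leaf 1)) (.node (.leaf 1) (.leaf 1)))) (.node (.node (.node (.leaf 1) (.leaf 1)) (.node (.leaf 1) (.leaf 1))) (.node (.node (.leaf 1) (.leaf 1)) (.node (.leaf 1) (.leaf 1))))) (.node (.node (.node (.node (.leaf 1) (.leaf 1)) (.node (.leaf 1) (.leaf 1))) (.node (.node (.leaf 4) (.leaf 4)) (.node (.leaf 4) (.leaf 4)))) (.node (.node (.node (.leaf 4) (.leaf 4)) (.node (.leaf 1) (.leaf 1))) (.node (.node (.leaf 1) (.leaf 1)) (.node (.leaf 1) (.leaf 1)))))) (.node (.node (.node (.node (.node (.leaf 1) (.leaf 1)) (.node (.leaf 1) (.leaf 1))) (.node (.node (.leaf 1) (.leaf 1)) (.node (.leaf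 1) (.leaf 1)))) (.node (.node (.node (.leaf 1) (.leaf 1)) (.node (.leaf 1) (.leaf 1))) (.node (.node (.leaf 1) (.leaf 1)) (.node (.leaf 1) (.leaf 1))))) (.node (.node (.node (.node (.leaf 1) (.leaf 1)) (.node (.leaf 1) (.leaf 1))) (.node (.node (.leaf 1) (.leaf 1)) (.node (.leaf 1) (.leaf 1)))) (.node (.node (.node (.leaf 1) (.leaf 1)) (.node (.leaf 1) (.leaf 1))) (.node (.node (.leaf 1) (.leaf 1)) (.node (.leaf 1) (.leaf 1)))))))

/-- A line moved by an element, part 2. -/
def kMoverPart2 : Janko1.Tree ℕ := (.node (.node (.node (.node (.node (.node (.leaf 1) (.leaf 1)) (.node (.leaf 1) (.leaf 1))) (.node (.node (.leaf 1) (.leaf 1)) (.node (.leaf 1) (.leaf 1)))) (.node (.node (.node (.leaf 1) (.leaf 1)) (.node (.leaf 1) (.leaf 1))) (.node (.node (.leaf 1) (.leaf 1)) (.node (.leaf 1) (.leaf 1))))) (.node (.node (.node (.node (.leaf 1) (.leaf 1)) (.node (.leaf 1) (.leaf 1))) (.node (.node (.leaf 1) (.leaf 1)) (.node (.leaf 1) (.leaf 1)))) (.node (.node (.node (.leaf 1) (.leaf 1)) (.node (.leaf 1) (.leaf 1))) (.node (.node (.leaf 1) (.leaf 1)) (.node (.leaf 1) (.leaf 1)))))) (.node (.node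 (.node (.node (.node (.leaf 1) (.leaf 1)) (.node (.leaf 1) (.leaf 1))) (.node (.node (.leaf 1) (.leaf 1)) (.node (.leaf 1) (.leaf 1)))) (.node (.node (.node (.leaf 1) (.leaf 1)) (.node (.leaf 1) (.leaf 1))) (.node (.node (.leaf 1) (.leaf 1)) (.node (.leaf 1) (.leaf 1))))) (.node (.node (.node (.node (.leaf 1) (.leaf 1)) (.node (.leaf 1) (.leaf 1))) (.node (.node (.leaf 1) (.leaf 1)) (.node (.leaf 1) (.leaf 1)))) (.node (.node (.node (.leaf 1) (.leaf 1)) (.node (.leaf 1) (.leaf 1))) (.node (.node (.leaf 1) (.leaf 1)) (.node (.leaf 1) (.leaf 1)))))))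

/-- A line moved by an element, part 3. -/
def kMoverPart3 : Janko1.Tree ℕ := (.node (.node (.node (.node (.node (.node (.leaf 1) (.leaf 1)) (.node (.leaf 1) (.leaf 1))) (.node (.node (.leaf 1) (.leaf 1)) (.node (.leaf 1) (.leaf 1)))) (.node (.node (.node (.leaf 1) (.leaf 1)) (.node (.leaf 1) (.leaf 1))) (.node (.node (.leaf 1) (.leaf 1)) (.node (.leaf 1) (.leaf 1))))) (.node (.node (.node (.node (.leaf 1) (.leaf 1)) (.node (.leaf 1) (.leaf 1))) (.node (.node (.leaf 1) (.leaf 1)) (.node (.leaf 1) (.leaf 1)))) (.node (.node (.node (.leaf 1) (.leaf 1)) (.node (.leaf 1) (.leaf 1))) (.node (.node (.leaf 1) (.leaf 1)) (.node (.leaf 1) (.leaf 1)))))) (.node (.node (.node (.node (.node (.leaf 1) (.leaf 1)) (.node (.leaf 1) (.leaf 1))) (.node (.node (.leaf 1) (.leaf 1)) (.node (.leaf 1) (.leaf 1)))) (.node (.node (.node (.leaf 1) (.leaf 1)) (.node (.leaf 1) (.leaf 1))) (.node (.node (.leaf 1) (.leaf 1)) (.node (.leaf 1) (.leaf 1))))) (.node (.node (.node (.node (.leaf 1) (.leaf 1)) (.node (.leaf 1) (.leaf 1))) (.node (.node (.leaf 1) (.leaf 1)) (.node (.leaf 1) (.leaf 1)))) (.node (.node (.node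 (.leaf 1) (.leaf 1)) (.node (.leaf 1) (.leaf 1))) (.node (.node (.leaf 1) (.leaf 1)) (.node (.leaf 1) (.leaf 1)))))))

/-- A line moved by an element, part 4. -/
def kMoverPart4 : Janko1.Tree ℕ := (.node (.node (.node (.node (.node (.node (.leaf 1) (.leaf 1)) (.node (.leaf 1) (.leaf 1))) (.node (.node (.leaf 1) (.leaf 1)) (.node (.leaf 1) (.leaf 1)))) (.node (.node (.node (.leaf 1) (.leaf 1)) (.node (.leaf 1) (.leaf 1))) (.node (.node (.leaf 1) (.leaf 1)) (.node (.leaf 1) (.leaf 1))))) (.node (.node (.node (.node (.leaf 1) (.leaf 1)) (.node (.leaf 1) (.leaf 1))) (.node (.node (.leaf 1) (.leaf 1)) (.node (.leaf 1) (.leaf 1)))) (.node (.node (.node (.leaf 1) (.leaf 1)) (.node (.leaf 1) (.leaf 1))) (.node (.node (.leaf 1) (.leaf 1)) (.node (.leaf 1) (.leaf 1)))))) (.node (.node (.node (.node (.node (.leaf 1) (.leaf 1)) (.node (.leaf 1) (.leaf 1))) (.node (.node (.leaf 1) (.leaf 1)) (.node (.leaf 1) (.leaf 1)))) (.node (.node (.node (.leaf 1) (.leaf 1)) (.node (.leaf 1) (.leaf 1))) (.node (.node (.leaf 1) (.leaf 1)) (.node (.leaf 1) (.leaf 1))))) (.node (.node (.node (.node (.leaf 1) (.leaf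 1)) (.node (.leaf 1) (.leaf 1))) (.node (.node (.leaf 1) (.leaf 1)) (.node (.leaf 1) (.leaf 1)))) (.node (.node (.node (.leaf 1) (.leaf 1)) (.node (.leaf 1) (.leaf 1))) (.node (.node (.leaf 1) (.leaf 1)) (.node (.leaf 1) (.leaf 1)))))))

/-- A line moved by an element, part 5. -/
def kMoverPart5 : Janko1.Tree ℕ := (.node (.node (.node (.node (.node (.node (.leaf 1) (.leaf 1)) (.node (.leaf 1) (.leaf 1))) (.node (.node (.leaf 4) (.leaf 4)) (.node (.leaf 4) (.leaf 4)))) (.node (.node (.node (.leaf 4) (.leaf 4)) (.node (.leaf 4) (.leaf 4))) (.node (.node (.leaf 4) (.leaf 4)) (.node (.leaf 4) (.leaf 4))))) (.node (.node (.node (.node (.leaf 4) (.leaf 4)) (.node (.leaf 4) (.leaf 4))) (.node (.node (.leaf 5) (.leaf 5)) (.node (.leaf 1) (.leaf 1)))) (.node (.node (.node (.leaf 1) (.leaf 1)) (.node (.leaf 1) (.leaf 1))) (.node (.node (.leaf 1) (.leaf 1)) (.node (.leaf 1) (.leaf 1)))))) (.node (.node (.node (.node (.node (.leaf 1) (.leaf 1)) (.node (.leaf 1) (.leaf 1))) (.node (.node (.leaf 1) (.leaf 1)) (.node (.leaf 1) (.leaf 1)))) (.node (.node (.node (.leaf 1) (.leaf 1)) (.node (.leaf 1)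 (.leaf 1))) (.node (.node (.leaf 1) (.leaf 1)) (.node (.leaf 1) (.leaf 1))))) (.node (.node (.node (.node (.leaf 1) (.leaf 1)) (.node (.leaf 1) (.leaf 1))) (.node (.node (.leaf 1) (.leaf 1)) (.node (.leaf 1) (.leaf 1)))) (.node (.node (.node (.leaf 1) (.leaf 1)) (.node (.leaf 1) (.leaf 1))) (.node (.node (.leaf 1) (.leaf 1)) (.node (.leaf 1) (.leaf 1)))))))

/-- A line moved by an element, part 6. -/
def kMoverPart6 : Janko1.Tree ℕ := (.node (.node (.node (.node (.node (.node (.leaf 1) (.leaf 1)) (.node (.leaf 1) (.leaf 1))) (.node (.node (.leaf 1) (.leaf 1)) (.node (.leaf 1) (.leaf 1)))) (.node (.node (.node (.leaf 1) (.leaf 1)) (.node (.leaf 1) (.leaf 1))) (.node (.node (.leaf 1) (.leaf 1)) (.node (.leaf 1) (.leaf 1))))) (.node (.node (.node (.node (.leaf 1) (.leaf 1)) (.node (.leaf 1) (.leaf 1))) (.node (.node (.leaf 1) (.leaf 1)) (.node (.leaf 1) (.leaf 1)))) (.node (.node (.node (.leaf 1) (.leaf 1)) (.node (.leaf 1) (.leaf 1))) (.node (.node (.leaf 1) (.leaf 1)) (.node (.leaf 1) (.leaf 1)))))) (.node (.node (.node (.node (.node (.leaf 1) (.leaf 1)) (.node (.leaf 1) (.leaf 1))) (.node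 (.node (.leaf 1) (.leaf 1)) (.node (.leaf 1) (.leaf 1)))) (.node (.node (.node (.leaf 1) (.leaf 1)) (.node (.leaf 1) (.leaf 1))) (.node (.node (.leaf 1) (.leaf 1)) (.node (.leaf 1) (.leaf 1))))) (.node (.node (.node (.node (.leaf 1) (.leaf 1)) (.node (.leaf 1) (.leaf 1))) (.node (.node (.leaf 1) (.leaf 1)) (.node (.leaf 1) (.leaf 1)))) (.node (.node (.node (.leaf 1) (.leaf 1)) (.node (.leaf 1) (.leaf 1))) (.node (.node (.leaf 1) (.leaf 1)) (.node (.leaf 1) (.leaf 1)))))))

/-- A line moved by an element, part 7. -/
def kMoverPart7 : Janko1.Tree ℕ := (.node (.node (.node (.node (.node (.node (.leaf 1) (.leaf 1)) (.node (.leaf 1) (.leaf 1))) (.node (.node (.leaf 1) (.leaf 1)) (.node (.leaf 1) (.leaf 1)))) (.node (.node (.node (.leaf 1) (.leaf 1)) (.node (.leaf 1) (.leaf 1))) (.node (.node (.leaf 1) (.leaf 1)) (.node (.leaf 1) (.leaf 1))))) (.node (.node (.node (.node (.leaf 1) (.leaf 1)) (.node (.leaf 1) (.leaf 1))) (.node (.node (.leaf 1) (.leaf 1)) (.node (.leaf 1) (.leaf 1)))) (.node (.node (.node (.leaf 1) (.leaf 1)) (.node (.leaf 1) (.leaf 1))) (.node (.node (.leaf 1) (.leaf 1)) (.node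 (.leaf 1) (.leaf 1)))))) (.node (.node (.node (.node (.node (.leaf 1) (.leaf 1)) (.node (.leaf 1) (.leaf 1))) (.node (.node (.leaf 1) (.leaf 1)) (.node (.leaf 1) (.leaf 1)))) (.node (.node (.node (.leaf 1) (.leaf 1)) (.node (.leaf 1) (.leaf 1))) (.node (.node (.leaf 1) (.leaf 1)) (.node (.leaf 1) (.leaf 1))))) (.node (.node (.node (.node (.leaf 1) (.leaf 1)) (.node (.leaf 1) (.leaf 1))) (.node (.node (.leaf 1) (.leaf 1)) (.node (.leaf 1) (.leaf 1)))) (.node (.node (.node (.leaf 1) (.leaf 1)) (.node (.leaf 1) (.leaf 1))) (.node (.node (.leaf 1) (.leaf 1)) (.node (.leaf 1) (.leaf 1)))))))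

/-- A line moved by an element, part 8. -/
def kMoverPart8 : Janko1.Tree ℕ := (.node (.node (.node (.node (.node (.node (.leaf 1) (.leaf 1)) (.node (.leaf 1) (.leaf 1))) (.node (.node (.leaf 1) (.leaf 1)) (.node (.leaf 1) (.leaf 1)))) (.node (.node (.node (.leaf 1) (.leaf 1)) (.node (.leaf 1) (.leaf 1))) (.node (.node (.leaf 1) (.leaf 1)) (.node (.leaf 1) (.leaf 1))))) (.node (.node (.node (.node (.leaf 1) (.leaf 1)) (.node (.leaf 1) (.leaf 1))) (.node (.node (.leaf 1) (.leaf 1)) (.node (.leaf 1) (.leaf 1)))) (.node (.node (.node (.leaf 1) (.leaf 1)) (.node (.leaf 1) (.leaf 1))) (.node (.node (.leaf 1) (.leaf 1)) (.node (.leaf 1) (.leaf 1)))))) (.node (.node (.node (.node (.node (.leaf 1) (.leaf 1)) (.node (.leaf 1) (.leaf 1))) (.node (.node (.leaf 1) (.leaf 1)) (.node (.leaf 1) (.leaf 1)))) (.node (.node (.node (.leaf 1) (.leaf 1)) (.node (.leaf 1) (.leaf 1))) (.node (.node (.leaf 1) (.leaf 1)) (.node (.leaf 1) (.leaf 1))))) (.node (.node (.node (.node (.leaf 1) (.leaf 1)) (.node (.leaf 1) (.leaf 1))) (.node (.node (.leaf 1) (.leaf 1)) (.node (.leaf 1) (.leaf 1)))) (.node (.node (.node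 (.leaf 1) (.leaf 1)) (.node (.leaf 1) (.leaf 1))) (.node (.node (.leaf 1) (.leaf 1)) (.node (.leaf 1) (.leaf 1)))))))

/-- A line moved by an element, part 9. -/
def kMoverPart9 : Janko1.Tree ℕ := (.node (.node (.node (.node (.node (.node (.leaf 1) (.leaf 1)) (.node (.leaf 1) (.leaf 1))) (.node (.node (.leaf 1) (.leaf 1)) (.node (.leaf 1) (.leaf 1)))) (.node (.node (.node (.leaf 1) (.leaf 1)) (.node (.leaf 1) (.leaf 1))) (.node (.node (.leaf 1) (.leaf 1)) (.node (.leaf 1) (.leaf 1))))) (.node (.node (.node (.node (.leaf 1) (.leaf 1)) (.node (.leaf 1) (.leaf 1))) (.node (.node (.leaf 1) (.leaf 1)) (.node (.leaf 1) (.leaf 1)))) (.node (.node (.node (.leaf 1) (.leaf 1)) (.node (.leaf 1) (.leaf 1))) (.node (.node (.leaf 1) (.leaf 1)) (.node (.leaf 1) (.leaf 1)))))) (.node (.node (.node (.node (.node (.leaf 1) (.leaf 1)) (.node (.leaf 1) (.leaf 1))) (.node (.node (.leaf 1) (.leaf 1)) (.node (.leaf 1) (.leaf 1)))) (.node (.node (.node (.leaf 1) (.leaf 1)) (.node (.leaf 1) (.leaf 1))) (.node (.node (.leaf 1) (.leaf 1)) (.node (.leaf 1) (.leaf 1))))) (.node (.node (.node (.node (.leaf 1) (.leaf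 1)) (.node (.leaf 1) (.leaf 1))) (.node (.node (.leaf 1) (.leaf 1)) (.node (.leaf 1) (.leaf 1)))) (.node (.node (.node (.leaf 1) (.leaf 1)) (.node (.leaf 1) (.leaf 1))) (.node (.node (.leaf 1) (.leaf 1)) (.node (.leaf 1) (.leaf 1)))))))

/-- A line moved by an element, part 10. -/
def kMoverPart10 : Janko1.Tree ℕ := (.node (.node (.node (.node (.node (.node (.leaf 1) (.leaf 1)) (.node (.leaf 1) (.leaf 1))) (.node (.node (.leaf 1) (.leaf 1)) (.node (.leaf 1) (.leaf 1)))) (.node (.node (.node (.leaf 1) (.leaf 1)) (.node (.leaf 1) (.leaf 1))) (.node (.node (.leaf 1) (.leaf 1)) (.node (.leaf 1) (.leaf 1))))) (.node (.node (.node (.node (.leaf 1) (.leaf 1)) (.node (.leaf 1) (.leaf 1))) (.node (.node (.leaf 1) (.leaf 1)) (.node (.leaf 1) (.leaf 1)))) (.node (.node (.node (.leaf 1) (.leaf 1)) (.node (.leaf 1) (.leaf 1))) (.node (.node (.leaf 1) (.leaf 1)) (.node (.leaf 1) (.leaf 1)))))) (.node (.node (.node (.node (.node (.leaf 1) (.leaf 1)) (.node (.leaf 1) (.leaf 1))) (.node (.node (.leaf 1) (.leaf 1)) (.node (.leaf 1) (.leaf 1)))) (.node (.node (.node (.leaf 1) (.leaf 1)) (.node (.leaf 1)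 (.leaf 1))) (.node (.node (.leaf 1) (.leaf 1)) (.node (.leaf 1) (.leaf 1))))) (.node (.node (.node (.node (.leaf 1) (.leaf 1)) (.node (.leaf 1) (.leaf 1))) (.node (.node (.leaf 1) (.leaf 1)) (.node (.leaf 1) (.leaf 1)))) (.node (.node (.node (.leaf 1) (.leaf 1)) (.node (.leaf 1) (.leaf 1))) (.node (.node (.leaf 1) (.leaf 1)) (.node (.leaf 1) (.leaf 1)))))))

/-- A line moved by an element, part 11. -/
def kMoverPart11 : Janko1.Tree ℕ := (.node (.node (.node (.node (.node (.node (.leaf 1) (.leaf 1)) (.node (.leaf 1) (.leaf 1))) (.node (.node (.leaf 1) (.leaf 1)) (.node (.leaf 1) (.leaf 1)))) (.node (.node (.node (.leaf 1) (.leaf 1)) (.node (.leaf 1) (.leaf 1))) (.node (.node (.leaf 1) (.leaf 1)) (.node (.leaf 1) (.leaf 1))))) (.node (.node (.node (.node (.leaf 1) (.leaf 1)) (.node (.leaf 1) (.leaf 1))) (.node (.node (.leaf 1) (.leaf 1)) (.node (.leaf 1) (.leaf 1)))) (.node (.node (.node (.leaf 1) (.leaf 1)) (.node (.leaf 1) (.leaf 1))) (.node (.node (.leaf 1) (.leaf 1)) (.node (.leaf 1) (.leaf 1)))))) (.node (.node (.node (.node (.node (.leaf 1) (.leaf 1)) (.node (.leaf 1) (.leaf 1)))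 (.node (.node (.leaf 1) (.leaf 1)) (.node (.leaf 1) (.leaf 1)))) (.node (.node (.node (.leaf 1) (.leaf 1)) (.node (.leaf 1) (.leaf 1))) (.node (.node (.leaf 1) (.leaf 1)) (.node (.leaf 1) (.leaf 1))))) (.node (.node (.node (.node (.leaf 1) (.leaf 1)) (.node (.leaf 1) (.leaf 1))) (.node (.node (.leaf 1) (.leaf 1)) (.node (.leaf 1) (.leaf 1)))) (.node (.node (.node (.leaf 1) (.leaf 1)) (.node (.leaf 1) (.leaf 1))) (.node (.node (.leaf 1) (.leaf 1)) (.node (.leaf 1) (.leaf 1)))))))

/-- A line moved by an element, part 12. -/
def kMoverPart12 : Janko1.Tree ℕ := (.node (.node (.node (.node (.node (.node (.leaf 1) (.leaf 1)) (.node (.leaf 1) (.leaf 1))) (.node (.node (.leaf 1) (.leaf 1)) (.node (.leaf 1) (.leaf 1)))) (.node (.node (.node (.leaf 1) (.leaf 1)) (.node (.leaf 1) (.leaf 1))) (.node (.node (.leaf 1) (.leaf 1)) (.node (.leaf 1) (.leaf 1))))) (.node (.node (.node (.node (.leaf 1) (.leaf 1)) (.node (.leaf 1) (.leaf 1))) (.node (.node (.leaf 1) (.leaf 1)) (.node (.leaf 1) (.leaf 1)))) (.node (.node (.node (.leaf 1) (.leaf 1)) (.node (.leaf 1) (.leaf 1))) (.node (.node (.leaf 1) (.leaf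 1)) (.node (.leaf 1) (.leaf 1)))))) (.node (.node (.node (.node (.node (.leaf 1) (.leaf 1)) (.node (.leaf 1) (.leaf 1))) (.node (.node (.leaf 1) (.leaf 1)) (.node (.leaf 1) (.leaf 1)))) (.node (.node (.node (.leaf 1) (.leaf 1)) (.node (.leaf 1) (.leaf 1))) (.node (.node (.leaf 1) (.leaf 1)) (.node (.leaf 1) (.leaf 1))))) (.node (.node (.node (.node (.leaf 1) (.leaf 1)) (.node (.leaf 1) (.leaf 1))) (.node (.node (.leaf 1) (.leaf 1)) (.node (.leaf 1) (.leaf 1)))) (.node (.node (.node (.leaf 1) (.leaf 1)) (.node (.leaf 1) (.leaf 1))) (.node (.node (.leaf 1) (.leaf 1)) (.node (.leaf 1) (.leaf 1)))))))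

/-- A line moved by an element, part 13. -/
def kMoverPart13 : Janko1.Tree ℕ := (.node (.node (.node (.node (.node (.node (.leaf 1) (.leaf 1)) (.node (.leaf 1) (.leaf 1))) (.node (.node (.leaf 1) (.leaf 1)) (.node (.leaf 1) (.leaf 1)))) (.node (.node (.node (.leaf 1) (.leaf 1)) (.node (.leaf 1) (.leaf 1))) (.node (.node (.leaf 1) (.leaf 1)) (.node (.leaf 1) (.leaf 1))))) (.node (.node (.node (.node (.leaf 1) (.leaf 1)) (.node (.leaf 1) (.leaf 1))) (.node (.node (.leaf 1) (.leaf 1)) (.node (.leaf 1) (.leaf 1)))) (.node (.node (.node (.leaf 1) (.leaf 1)) (.node (.leaf 1) (.leaf 1))) (.node (.node (.leaf 1) (.leaf 1)) (.node (.leaf 1) (.leaf 1)))))) (.node (.node (.node (.node (.node (.leaf 1) (.leaf 1)) (.node (.leaf 1) (.leaf 1))) (.node (.node (.leaf 1) (.leaf 1)) (.node (.leaf 1) (.leaf 1)))) (.node (.node (.node (.leaf 1) (.leaf 1)) (.node (.leaf 1) (.leaf 1))) (.node (.node (.leaf 1) (.leaf 1)) (.node (.leaf 1) (.leaf 1))))) (.node (.node (.node (.node (.leaf 1) (.leaf 1)) (.node (.leaf 1) (.leaf 1))) (.node (.node (.leaf 1) (.leaf 1)) (.node (.leaf 1) (.leaf 1)))) (.node (.node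 (.node (.leaf 1) (.leaf 1)) (.node (.leaf 1) (.leaf 1))) (.node (.node (.leaf 1) (.leaf 1)) (.node (.leaf 1) (.leaf 1)))))))

/-- A line moved by an element, part 14. -/
def kMoverPart14 : Janko1.Tree ℕ := (.node (.node (.node (.node (.node (.node (.leaf 1) (.leaf 1)) (.node (.leaf 1) (.leaf 1))) (.node (.node (.leaf 1) (.leaf 1)) (.node (.leaf 1) (.leaf 1)))) (.node (.node (.node (.leaf 1) (.leaf 1)) (.node (.leaf 1) (.leaf 1))) (.node (.node (.leaf 1) (.leaf 1)) (.node (.leaf 1) (.leaf 1))))) (.node (.node (.node (.node (.leaf 1) (.leaf 1)) (.node (.leaf 1) (.leaf 1))) (.node (.node (.leaf 1) (.leaf 1)) (.node (.leaf 1) (.leaf 1)))) (.node (.node (.node (.leaf 1) (.leaf 1)) (.node (.leaf 1) (.leaf 1))) (.node (.node (.leaf 1) (.leaf 1)) (.node (.leaf 1) (.leaf 1)))))) (.node (.node (.node (.node (.node (.leaf 1) (.leaf 1)) (.node (.leaf 1) (.leaf 1))) (.node (.node (.leaf 1) (.leaf 1)) (.node (.leaf 1) (.leaf 1)))) (.node (.node (.node (.leaf 1) (.leaf 1)) (.node (.leaf 1) (.leaf 1))) (.node (.node (.leaf 1) (.leaf 1)) (.node (.leaf 1) (.leaf 1))))) (.node (.node (.node (.node (.leaf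 1) (.leaf 1)) (.node (.leaf 1) (.leaf 1))) (.node (.node (.leaf 1) (.leaf 1)) (.node (.leaf 1) (.leaf 1)))) (.node (.node (.node (.leaf 1) (.leaf 1)) (.node (.leaf 1) (.leaf 1))) (.node (.node (.leaf 1) (.leaf 1)) (.node (.leaf 1) (.leaf 1)))))))

/-- A line moved by an element, part 15. -/
def kMoverPart15 : Janko1.Tree ℕ := (.node (.node (.node (.node (.node (.node (.leaf 1) (.leaf 1)) (.node (.leaf 1) (.leaf 1))) (.node (.node (.leaf 1) (.leaf 1)) (.node (.leaf 1) (.leaf 1)))) (.node (.node (.node (.leaf 1) (.leaf 1)) (.node (.leaf 1) (.leaf 1))) (.node (.node (.leaf 1) (.leaf 1)) (.node (.leaf 1) (.leaf 1))))) (.node (.node (.node (.node (.leaf 1) (.leaf 1)) (.node (.leaf 1) (.leaf 1))) (.node (.node (.leaf 1) (.leaf 1)) (.node (.leaf 1) (.leaf 1)))) (.node (.node (.node (.leaf 1) (.leaf 1)) (.node (.leaf 1) (.leaf 1))) (.node (.node (.leaf 1) (.leaf 1)) (.node (.leaf 1) (.leaf 1)))))) (.node (.node (.node (.node (.node (.leaf 1) (.leaf 1)) (.node (.leaf 1) (.leaf 1))) (.node (.node (.leaf 1) (.leaf 1)) (.node (.leaf 1) (.leaf 1)))) (.node (.node (.node (.leaf 1) (.leaf 1)) (.node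 (.leaf 1) (.leaf 1))) (.node (.node (.leaf 1) (.leaf 1)) (.node (.leaf 1) (.leaf 1))))) (.node (.node (.node (.node (.leaf 1) (.leaf 1)) (.node (.leaf 1) (.leaf 1))) (.node (.node (.leaf 1) (.leaf 1)) (.node (.leaf 1) (.leaf 1)))) (.node (.node (.node (.leaf 1) (.leaf 1)) (.node (.leaf 1) (.leaf 1))) (.node (.node (.leaf 1) (.leaf 1)) (.node (.leaf 1) (.leaf 1)))))))

/-- A line moved by an element, part 16. -/
def kMoverPart16 : Janko1.Tree ℕ := (.node (.node (.node (.node (.node (.node (.leaf 1) (.leaf 1)) (.node (.leaf 1) (.leaf 1))) (.node (.node (.leaf 1) (.leaf 1)) (.node (.leaf 1) (.leaf 1)))) (.node (.node (.node (.leaf 1) (.leaf 1)) (.node (.leaf 1) (.leaf 1))) (.node (.node (.leaf 1) (.leaf 1)) (.node (.leaf 1) (.leaf 1))))) (.node (.node (.node (.node (.leaf 1) (.leaf 1)) (.node (.leaf 1) (.leaf 1))) (.node (.node (.leaf 1) (.leaf 1)) (.node (.leaf 1) (.leaf 1)))) (.node (.node (.node (.leaf 1) (.leaf 1)) (.node (.leaf 1) (.leaf 1))) (.node (.node (.leaf 1) (.leaf 1)) (.node (.leaf 1) (.leaf 1)))))) (.node (.node (.node (.node (.node (.leaf 1) (.leaf 1)) (.node (.leaf 1) (.leaf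 1))) (.node (.node (.leaf 1) (.leaf 1)) (.node (.leaf 1) (.leaf 1)))) (.node (.node (.node (.leaf 1) (.leaf 1)) (.node (.leaf 1) (.leaf 1))) (.node (.node (.leaf 1) (.leaf 1)) (.node (.leaf 1) (.leaf 1))))) (.node (.node (.node (.node (.leaf 1) (.leaf 1)) (.node (.leaf 1) (.leaf 1))) (.node (.node (.leaf 1) (.leaf 1)) (.node (.leaf 1) (.leaf 1)))) (.node (.node (.node (.leaf 1) (.leaf 1)) (.node (.leaf 1) (.leaf 1))) (.node (.node (.leaf 1) (.leaf 1)) (.node (.leaf 1) (.leaf 1)))))))

/-- A line moved by an element, part 17. -/
def kMoverPart17 : Janko1.Tree ℕ := (.node (.node (.node (.node (.node (.node (.leaf 1) (.leaf 1)) (.node (.leaf 1) (.leaf 1))) (.node (.node (.leaf 1) (.leaf 1)) (.node (.leaf 1) (.leaf 1)))) (.node (.node (.node (.leaf 1) (.leaf 1)) (.node (.leaf 1) (.leaf 1))) (.node (.node (.leaf 1) (.leaf 1)) (.node (.leaf 1) (.leaf 1))))) (.node (.node (.node (.node (.leaf 1) (.leaf 1)) (.node (.leaf 1) (.leaf 1))) (.node (.node (.leaf 1) (.leaf 1)) (.node (.leaf 1) (.leaf 1)))) (.node (.node (.node (.leaf 1) (.leaf 1)) (.node (.leaf 1) (.leaf 1))) (.node (.node (.leaf 1)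 (.leaf 1)) (.node (.leaf 1) (.leaf 1)))))) (.node (.node (.node (.node (.node (.leaf 1) (.leaf 1)) (.node (.leaf 1) (.leaf 1))) (.node (.node (.leaf 1) (.leaf 1)) (.node (.leaf 1) (.leaf 1)))) (.node (.node (.node (.leaf 1) (.leaf 1)) (.node (.leaf 1) (.leaf 1))) (.node (.node (.leaf 1) (.leaf 1)) (.node (.leaf 1) (.leaf 1))))) (.node (.node (.node (.node (.leaf 1) (.leaf 1)) (.node (.leaf 1) (.leaf 1))) (.node (.node (.leaf 1) (.leaf 1)) (.node (.leaf 1) (.leaf 1)))) (.node (.node (.node (.leaf 1) (.leaf 1)) (.node (.leaf 1) (.leaf 1))) (.node (.node (.leaf 1) (.leaf 1)) (.node (.leaf 1) (.leaf 1)))))))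

/-- A line moved by an element, part 18. -/
def kMoverPart18 : Janko1.Tree ℕ := (.node (.node (.node (.node (.node (.node (.leaf 1) (.leaf 1)) (.node (.leaf 1) (.leaf 1))) (.node (.node (.leaf 1) (.leaf 1)) (.node (.leaf 1) (.leaf 1)))) (.node (.node (.node (.leaf 1) (.leaf 1)) (.node (.leaf 1) (.leaf 1))) (.node (.node (.leaf 1) (.leaf 1)) (.node (.leaf 1) (.leaf 1))))) (.node (.node (.node (.node (.leaf 1) (.leaf 1)) (.node (.leaf 1) (.leaf 1))) (.node (.node (.leaf 1) (.leaf 1)) (.node (.leaf 1) (.leaf 1)))) (.node (.node (.node (.leaf 1) (.leaf 1)) (.node (.leaf 1) (.leaf 1))) (.node (.node (.leaf 1) (.leaf 1)) (.node (.leaf 1) (.leaf 1)))))) (.node (.node (.node (.node (.node (.leaf 1) (.leaf 1)) (.node (.leaf 1) (.leaf 1))) (.node (.node (.leaf 1) (.leaf 1)) (.node (.leaf 1) (.leaf 1)))) (.node (.node (.node (.leaf 1) (.leaf 1)) (.node (.leaf 1) (.leaf 1))) (.node (.node (.leaf 1) (.leaf 1)) (.node (.leaf 1) (.leaf 1))))) (.node (.node (.node (.node (.leaf 1) (.leaf 1)) (.node (.leaf 1) (.leaf 1))) (.node (.node (.leaf 1) (.leaf 1)) (.node (.leaf 1) (.leaf 1)))) (.node (.node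 (.node (.leaf 1) (.leaf 1)) (.node (.leaf 1) (.leaf 1))) (.node (.node (.leaf 1) (.leaf 1)) (.node (.leaf 1) (.leaf 1)))))))

/-- A line moved by an element, part 19. -/
def kMoverPart19 : Janko1.Tree ℕ := (.node (.node (.node (.node (.node (.node (.leaf 1) (.leaf 1)) (.node (.leaf 1) (.leaf 1))) (.node (.node (.leaf 1) (.leaf 1)) (.node (.leaf 1) (.leaf 1)))) (.node (.node (.node (.leaf 1) (.leaf 1)) (.node (.leaf 1) (.leaf 1))) (.node (.node (.leaf 1) (.leaf 1)) (.node (.leaf 1) (.leaf 1))))) (.node (.node (.node (.node (.leaf 1) (.leaf 1)) (.node (.leaf 1) (.leaf 1))) (.node (.node (.leaf 1) (.leaf 1)) (.node (.leaf 1) (.leaf 1)))) (.node (.node (.node (.leaf 1) (.leaf 1)) (.node (.leaf 1) (.leaf 1))) (.node (.node (.leaf 1) (.leaf 1)) (.node (.leaf 1) (.leaf 1)))))) (.node (.node (.node (.node (.node (.leaf 1) (.leaf 1)) (.node (.leaf 1) (.leaf 1))) (.node (.node (.leaf 1) (.leaf 1)) (.node (.leaf 1) (.leaf 1)))) (.node (.node (.node (.leaf 1) (.leaf 1)) (.node (.leaf 1) (.leaf 1))) (.node (.node (.leaf 1) (.leaf 1)) (.node (.leaf 1) (.leaf 1))))) (.node (.node (.node (.node (.leaf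 1) (.leaf 1)) (.node (.leaf 1) (.leaf 1))) (.node (.node (.leaf 1) (.leaf 1)) (.node (.leaf 1) (.leaf 1)))) (.node (.node (.node (.leaf 1) (.leaf 1)) (.node (.leaf 1) (.leaf 1))) (.node (.node (.leaf 1) (.leaf 1)) (.node (.leaf 1) (.leaf 1)))))))

/-- A line moved by an element, part 20. -/
def kMoverPart20 : Janko1.Tree ℕ := (.node (.node (.node (.node (.node (.node (.leaf 1) (.leaf 1)) (.node (.leaf 1) (.leaf 1))) (.node (.node (.leaf 1) (.leaf 1)) (.node (.leaf 1) (.leaf 1)))) (.node (.node (.node (.leaf 1) (.leaf 1)) (.node (.leaf 1) (.leaf 1))) (.node (.node (.leaf 1) (.leaf 1)) (.node (.leaf 1) (.leaf 1))))) (.node (.node (.node (.node (.leaf 1) (.leaf 1)) (.node (.leaf 1) (.leaf 1))) (.node (.node (.leaf 1) (.leaf 1)) (.node (.leaf 1) (.leaf 1)))) (.node (.node (.node (.leaf 1) (.leaf 1)) (.node (.leaf 1) (.leaf 1))) (.node (.node (.leaf 1) (.leaf 1)) (.node (.leaf 1) (.leaf 1)))))) (.node (.node (.node (.node (.node (.leaf 1) (.leaf 1)) (.node (.leaf 1) (.leaf 1))) (.node (.node (.leaf 1) (.leaf 1)) (.node (.leaf 1) (.leaf 1)))) (.node (.node (.node (.leaf 1) (.leaf 1)) (.node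 (.leaf 1) (.leaf 1))) (.node (.node (.leaf 1) (.leaf 1)) (.node (.leaf 1) (.leaf 1))))) (.node (.node (.node (.node (.leaf 1) (.leaf 1)) (.node (.leaf 1) (.leaf 1))) (.node (.node (.leaf 1) (.leaf 1)) (.node (.leaf 1) (.leaf 1)))) (.node (.node (.node (.leaf 1) (.leaf 1)) (.node (.leaf 1) (.leaf 1))) (.node (.node (.leaf 1) (.leaf 1)) (.node (.leaf 1) (.leaf 1)))))))

/-- A line moved by an element, part 21. -/
def kMoverPart21 : Janko1.Tree ℕ := (.node (.node (.node (.node (.node (.node (.leaf 1) (.leaf 1)) (.node (.leaf 1) (.leaf 1))) (.node (.node (.leaf 1) (.leaf 1)) (.node (.leaf 1) (.leaf 1)))) (.node (.node (.node (.leaf 1) (.leaf 1)) (.node (.leaf 1) (.leaf 1))) (.node (.node (.leaf 1) (.leaf 1)) (.node (.leaf 1) (.leaf 1))))) (.node (.node (.node (.node (.leaf 1) (.leaf 1)) (.node (.leaf 1) (.leaf 1))) (.node (.node (.leaf 1) (.leaf 1)) (.node (.leaf 1) (.leaf 1)))) (.node (.node (.node (.leaf 1) (.leaf 1)) (.node (.leaf 1) (.leaf 1))) (.node (.node (.leaf 1) (.leaf 1)) (.node (.leaf 1) (.leaf 1)))))) (.node (.node (.node (.node (.node (.leaf 1) (.leaf 1)) (.node (.leaf 1) (.leaf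 1))) (.node (.node (.leaf 1) (.leaf 1)) (.node (.leaf 1) (.leaf 1)))) (.node (.node (.node (.leaf 1) (.leaf 1)) (.node (.leaf 1) (.leaf 1))) (.node (.node (.leaf 1) (.leaf 1)) (.node (.leaf 1) (.leaf 1))))) (.node (.node (.node (.node (.leaf 1) (.leaf 1)) (.node (.leaf 1) (.leaf 1))) (.node (.node (.leaf 1) (.leaf 1)) (.node (.leaf 1) (.leaf 1)))) (.node (.node (.node (.leaf 1) (.leaf 1)) (.node (.leaf 1) (.leaf 1))) (.node (.node (.leaf 1) (.leaf 1)) (.node (.leaf 1) (.leaf 1)))))))

/-- A line moved by an element, part 22. -/
def kMoverPart22 : Janko1.Tree ℕ := (.node (.node (.node (.node (.node (.node (.leaf 1) (.leaf 1)) (.node (.leaf 1) (.leaf 1))) (.node (.node (.leaf 1) (.leaf 1)) (.node (.leaf 1) (.leaf 1)))) (.node (.node (.node (.leaf 1) (.leaf 1)) (.node (.leaf 1) (.leaf 1))) (.node (.node (.leaf 1) (.leaf 1)) (.node (.leaf 1) (.leaf 1))))) (.node (.node (.node (.node (.leaf 1) (.leaf 1)) (.node (.leaf 1) (.leaf 1))) (.node (.node (.leaf 1) (.leaf 1)) (.node (.leaf 1) (.leaf 1)))) (.node (.node (.node (.leaf 1) (.leaf 1)) (.node (.leaf 1) (.leaf 1))) (.node (.node (.leaf 1)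 (.leaf 1)) (.node (.leaf 1) (.leaf 1)))))) (.node (.node (.node (.node (.node (.leaf 1) (.leaf 1)) (.node (.leaf 1) (.leaf 1))) (.node (.node (.leaf 1) (.leaf 1)) (.node (.leaf 1) (.leaf 1)))) (.node (.node (.node (.leaf 1) (.leaf 1)) (.node (.leaf 1) (.leaf 1))) (.node (.node (.leaf 1) (.leaf 1)) (.node (.leaf 1) (.leaf 1))))) (.node (.node (.node (.node (.leaf 1) (.leaf 1)) (.node (.leaf 1) (.leaf 1))) (.node (.node (.leaf 1) (.leaf 1)) (.node (.leaf 1) (.leaf 1)))) (.node (.node (.node (.leaf 1) (.leaf 1)) (.node (.leaf 1) (.leaf 1))) (.node (.node (.leaf 1) (.leaf 1)) (.node (.leaf 1) (.leaf 1)))))))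

/-- A line moved by an element, part 23. -/
def kMoverPart23 : Janko1.Tree ℕ := (.node (.node (.node (.node (.node (.node (.leaf 1) (.leaf 1)) (.node (.leaf 1) (.leaf 1))) (.node (.node (.leaf 1) (.leaf 1)) (.node (.leaf 1) (.leaf 1)))) (.node (.node (.node (.leaf 1) (.leaf 1)) (.node (.leaf 1) (.leaf 1))) (.node (.node (.leaf 1) (.leaf 1)) (.node (.leaf 1) (.leaf 1))))) (.node (.node (.node (.node (.leaf 1) (.leaf 1)) (.node (.leaf 1) (.leaf 1))) (.node (.node (.leaf 1) (.leaf 1)) (.node (.leaf 1) (.leaf 1)))) (.node (.node (.node (.leaf 1) (.leaf 1)) (.node (.leaf 1) (.leaf 1))) (.node (.node (.leaf 1) (.leaf 1)) (.node (.leaf 1) (.leaf 1)))))) (.node (.node (.node (.node (.node (.leaf 1) (.leaf 1)) (.node (.leaf 1) (.leaf 1))) (.node (.node (.leaf 1) (.leaf 1)) (.node (.leaf 1) (.leaf 1)))) (.node (.node (.node (.leaf 1) (.leaf 1)) (.node (.leaf 1) (.leaf 1))) (.node (.node (.leaf 1) (.leaf 1)) (.node (.leaf 1) (.leaf 1))))) (.node (.node (.node (.node (.leaf 1) (.leaf 1)) (.node (.leaf 1) (.leaf 1))) (.node (.node (.leaf 1) (.leaf 1)) (.node (.leaf 1) (.leaf 1)))) (.node (.node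 (.node (.leaf 1) (.leaf 1)) (.node (.leaf 1) (.leaf 1))) (.node (.node (.leaf 1) (.leaf 1)) (.node (.leaf 1) (.leaf 1)))))))

/-- A line moved by an element, part 24. -/
def kMoverPart24 : Janko1.Tree ℕ := (.node (.node (.node (.node (.node (.node (.leaf 1) (.leaf 1)) (.node (.leaf 1) (.leaf 1))) (.node (.node (.leaf 1) (.leaf 1)) (.node (.leaf 1) (.leaf 1)))) (.node (.node (.node (.leaf 1) (.leaf 1)) (.node (.leaf 1) (.leaf 1))) (.node (.node (.leaf 1) (.leaf 1)) (.node (.leaf 1) (.leaf 1))))) (.node (.node (.node (.node (.leaf 1) (.leaf 1)) (.node (.leaf 1) (.leaf 1))) (.node (.node (.leaf 1) (.leaf 1)) (.node (.leaf 1) (.leaf 1)))) (.node (.node (.node (.leaf 1) (.leaf 1)) (.node (.leaf 1) (.leaf 1))) (.node (.node (.leaf 1) (.leaf 1)) (.node (.leaf 1) (.leaf 1)))))) (.node (.node (.node (.node (.node (.leaf 1) (.leaf 1)) (.node (.leaf 1) (.leaf 1))) (.node (.node (.leaf 1) (.leaf 1)) (.node (.leaf 1) (.leaf 1)))) (.node (.node (.node (.leaf 1) (.leaf 1)) (.node (.leaf 1) (.leaf 1))) (.node (.node (.leaf 1) (.leaf 1)) (.node (.leaf 1) (.leaf 1))))) (.node (.node (.node (.node (.leaf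 1) (.leaf 1)) (.node (.leaf 1) (.leaf 1))) (.node (.node (.leaf 1) (.leaf 1)) (.node (.leaf 1) (.leaf 1)))) (.node (.node (.node (.leaf 1) (.leaf 1)) (.node (.leaf 1) (.leaf 1))) (.node (.node (.leaf 1) (.leaf 1)) (.node (.leaf 1) (.leaf 1)))))))

/-- A line moved by an element, part 25. -/
def kMoverPart25 : Janko1.Tree ℕ := (.node (.node (.node (.node (.node (.node (.leaf 1) (.leaf 1)) (.node (.leaf 1) (.leaf 1))) (.node (.node (.leaf 1) (.leaf 1)) (.node (.leaf 1) (.leaf 1)))) (.node (.node (.node (.leaf 1) (.leaf 1)) (.node (.leaf 1) (.leaf 1))) (.node (.node (.leaf 1) (.leaf 1)) (.node (.leaf 1) (.leaf 1))))) (.node (.node (.node (.node (.leaf 1) (.leaf 1)) (.node (.leaf 1) (.leaf 1))) (.node (.node (.leaf 1) (.leaf 1)) (.node (.leaf 1) (.leaf 1)))) (.node (.node (.node (.leaf 1) (.leaf 1)) (.node (.leaf 1) (.leaf 1))) (.node (.node (.leaf 1) (.leaf 1)) (.node (.leaf 1) (.leaf 1)))))) (.node (.node (.node (.node (.node (.leaf 1) (.leaf 1)) (.node (.leaf 1) (.leaf 1))) (.node (.node (.leaf 1) (.leaf 1)) (.node (.leaf 1) (.leaf 1)))) (.node (.node (.node (.leaf 1) (.leaf 1)) (.node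 (.leaf 1) (.leaf 1))) (.node (.node (.leaf 1) (.leaf 1)) (.node (.leaf 1) (.leaf 1))))) (.node (.node (.node (.node (.leaf 1) (.leaf 1)) (.node (.leaf 1) (.leaf 1))) (.node (.node (.leaf 1) (.leaf 1)) (.node (.leaf 1) (.leaf 1)))) (.node (.node (.node (.leaf 1) (.leaf 1)) (.node (.leaf 1) (.leaf 1))) (.node (.node (.leaf 1) (.leaf 1)) (.node (.leaf 1) (.leaf 1)))))))

/-- A line moved by an element, part 26. -/
def kMoverPart26 : Janko1.Tree ℕ := (.node (.node (.node (.node (.node (.node (.leaf 1) (.leaf 1)) (.node (.leaf 1) (.leaf 1))) (.node (.node (.leaf 1) (.leaf 1)) (.node (.leaf 1) (.leaf 1)))) (.node (.node (.node (.leaf 1) (.leaf 1)) (.node (.leaf 1) (.leaf 1))) (.node (.node (.leaf 1) (.leaf 1)) (.node (.leaf 1) (.leaf 1))))) (.node (.node (.node (.node (.leaf 1) (.leaf 1)) (.node (.leaf 1) (.leaf 1))) (.node (.node (.leaf 1) (.leaf 1)) (.node (.leaf 1) (.leaf 1)))) (.node (.node (.node (.leaf 1) (.leaf 1)) (.node (.leaf 1) (.leaf 1))) (.node (.node (.leaf 1) (.leaf 1)) (.node (.leaf 1) (.leaf 1)))))) (.node (.node (.node (.node (.node (.leaf 1) (.leaf 1)) (.node (.leaf 1) (.leaf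 1))) (.node (.node (.leaf 1) (.leaf 1)) (.node (.leaf 1) (.leaf 1)))) (.node (.node (.node (.leaf 1) (.leaf 1)) (.node (.leaf 1) (.leaf 1))) (.node (.node (.leaf 1) (.leaf 1)) (.node (.leaf 1) (.leaf 1))))) (.node (.node (.node (.node (.leaf 1) (.leaf 1)) (.node (.leaf 1) (.leaf 1))) (.node (.node (.leaf 1) (.leaf 1)) (.node (.leaf 1) (.leaf 1)))) (.node (.node (.node (.leaf 1) (.leaf 1)) (.node (.leaf 1) (.leaf 1))) (.node (.node (.leaf 1) (.leaf 1)) (.node (.leaf 1) (.leaf 1)))))))

/-- A line moved by an element, part 27. -/
def kMoverPart27 : Janko1.Tree ℕ := (.node (.node (.node (.node (.node (.node (.leaf 1) (.leaf 1)) (.node (.leaf 1) (.leaf 1))) (.node (.node (.leaf 1) (.leaf 1)) (.node (.leaf 1) (.leaf 1)))) (.node (.node (.node (.leaf 1) (.leaf 1)) (.node (.leaf 1) (.leaf 1))) (.node (.node (.leaf 1) (.leaf 1)) (.node (.leaf 1) (.leaf 1))))) (.node (.node (.node (.node (.leaf 1) (.leaf 1)) (.node (.leaf 1) (.leaf 1))) (.node (.node (.leaf 1) (.leaf 1)) (.node (.leaf 1) (.leaf 1)))) (.node (.node (.node (.leaf 1) (.leaf 1)) (.node (.leaf 1) (.leaf 1))) (.node (.node (.leaf 1)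 (.leaf 1)) (.node (.leaf 1) (.leaf 1)))))) (.node (.node (.node (.node (.node (.leaf 1) (.leaf 1)) (.node (.leaf 1) (.leaf 1))) (.node (.node (.leaf 1) (.leaf 1)) (.node (.leaf 1) (.leaf 1)))) (.node (.node (.node (.leaf 1) (.leaf 1)) (.node (.leaf 1) (.leaf 1))) (.node (.node (.leaf 1) (.leaf 1)) (.node (.leaf 1) (.leaf 1))))) (.node (.node (.node (.node (.leaf 1) (.leaf 1)) (.node (.leaf 1) (.leaf 1))) (.node (.node (.leaf 1) (.leaf 1)) (.node (.leaf 1) (.leaf 1)))) (.node (.node (.node (.leaf 1) (.leaf 1)) (.node (.leaf 1) (.leaf 1))) (.node (.node (.leaf 1) (.leaf 1)) (.node (.leaf 1) (.leaf 1)))))))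

/-- A line moved by an element, part 28. -/
def kMoverPart28 : Janko1.Tree ℕ := (.node (.node (.node (.node (.node (.node (.leaf 1) (.leaf 1)) (.node (.leaf 1) (.leaf 1))) (.node (.node (.leaf 1) (.leaf 1)) (.node (.leaf 1) (.leaf 1)))) (.node (.node (.node (.leaf 1) (.leaf 1)) (.node (.leaf 1) (.leaf 1))) (.node (.node (.leaf 1) (.leaf 1)) (.node (.leaf 1) (.leaf 1))))) (.node (.node (.node (.node (.leaf 1) (.leaf 1)) (.node (.leaf 1) (.leaf 1))) (.node (.node (.leaf 1) (.leaf 1)) (.node (.leaf 1) (.leaf 1)))) (.node (.node (.node (.leaf 1) (.leaf 1)) (.node (.leaf 1) (.leaf 1))) (.node (.node (.leaf 1) (.leaf 1)) (.node (.leaf 1) (.leaf 1)))))) (.node (.node (.node (.node (.node (.leaf 1) (.leaf 1)) (.node (.leaf 1) (.leaf 1))) (.node (.node (.leaf 1) (.leaf 1)) (.node (.leaf 1) (.leaf 1)))) (.node (.node (.node (.leaf 1) (.leaf 1)) (.node (.leaf 1) (.leaf 1))) (.node (.node (.leaf 1) (.leaf 1)) (.node (.leaf 1) (.leaf 1))))) (.node (.node (.node (.node (.leaf 1) (.leaf 1)) (.node (.leaf 1) (.leaf 1))) (.node (.node (.leaf 1) (.leaf 1)) (.node (.leaf 1) (.leaf 1)))) (.node (.node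 (.node (.leaf 1) (.leaf 1)) (.node (.leaf 1) (.leaf 1))) (.node (.node (.leaf 1) (.leaf 1)) (.node (.leaf 1) (.leaf 1)))))))

/-- A line moved by an element, part 29. -/
def kMoverPart29 : Janko1.Tree ℕ := (.node (.node (.node (.node (.node (.node (.leaf 1) (.leaf 1)) (.node (.leaf 1) (.leaf 1))) (.node (.node (.leaf 1) (.leaf 1)) (.node (.leaf 1) (.leaf 1)))) (.node (.node (.node (.leaf 1) (.leaf 1)) (.node (.leaf 1) (.leaf 1))) (.node (.node (.leaf 1) (.leaf 1)) (.node (.leaf 1) (.leaf 1))))) (.node (.node (.node (.node (.leaf 1) (.leaf 1)) (.node (.leaf 1) (.leaf 1))) (.node (.node (.leaf 1) (.leaf 1)) (.node (.leaf 1) (.leaf 1)))) (.node (.node (.node (.leaf 1) (.leaf 1)) (.node (.leaf 1) (.leaf 1))) (.node (.node (.leaf 1) (.leaf 1)) (.node (.leaf 1) (.leaf 1)))))) (.node (.node (.node (.node (.node (.leaf 1) (.leaf 1)) (.node (.leaf 1) (.leaf 1))) (.node (.node (.leaf 1) (.leaf 1)) (.node (.leaf 1) (.leaf 1)))) (.node (.node (.node (.leaf 1) (.leaf 1)) (.node (.leaf 1) (.leaf 1))) (.node (.node (.leaf 1) (.leaf 1)) (.node (.leaf 1) (.leaf 1))))) (.node (.node (.node (.node (.leaf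 1) (.leaf 1)) (.node (.leaf 1) (.leaf 1))) (.node (.node (.leaf 1) (.leaf 1)) (.node (.leaf 1) (.leaf 1)))) (.node (.node (.node (.leaf 1) (.leaf 1)) (.node (.leaf 1) (.leaf 1))) (.node (.node (.leaf 1) (.leaf 1)) (.node (.leaf 1) (.leaf 1)))))))

/-- A line moved by an element, part 30. -/
def kMoverPart30 : Janko1.Tree ℕ := (.node (.node (.node (.node (.node (.node (.leaf 1) (.leaf 1)) (.node (.leaf 1) (.leaf 1))) (.node (.node (.leaf 1) (.leaf 1)) (.node (.leaf 1) (.leaf 1)))) (.node (.node (.node (.leaf 1) (.leaf 1)) (.node (.leaf 1) (.leaf 1))) (.node (.node (.leaf 1) (.leaf 1)) (.node (.leaf 1) (.leaf 1))))) (.node (.node (.node (.node (.leaf 1) (.leaf 1)) (.node (.leaf 1) (.leaf 1))) (.node (.node (.leaf 1) (.leaf 1)) (.node (.leaf 1) (.leaf 1)))) (.node (.node (.node (.leaf 1) (.leaf 1)) (.node (.leaf 1) (.leaf 1))) (.node (.node (.leaf 1) (.leaf 1)) (.node (.leaf 1) (.leaf 1)))))) (.node (.node (.node (.node (.node (.leaf 1) (.leaf 1)) (.node (.leaf 1) (.leaf 1))) (.node (.node (.leaf 1) (.leaf 1)) (.node (.leaf 1) (.leaf 1)))) (.node (.node (.node (.leaf 1) (.leaf 1)) (.node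 (.leaf 1) (.leaf 1))) (.node (.node (.leaf 1) (.leaf 1)) (.node (.leaf 1) (.leaf 1))))) (.node (.node (.node (.node (.leaf 1) (.leaf 1)) (.node (.leaf 1) (.leaf 1))) (.node (.node (.leaf 1) (.leaf 1)) (.node (.leaf 1) (.leaf 1)))) (.node (.node (.node (.leaf 1) (.leaf 1)) (.node (.leaf 1) (.leaf 1))) (.node (.node (.leaf 1) (.leaf 1)) (.node (.leaf 1) (.leaf 1)))))))

/-- A line moved by an element, part 31. -/
def kMoverPart31 : Janko1.Tree ℕ := (.node (.node (.node (.node (.node (.node (.leaf 1) (.leaf 1)) (.node (.leaf 1) (.leaf 1))) (.node (.node (.leaf 1) (.leaf 1)) (.node (.leaf 1) (.leaf 1)))) (.node (.node (.node (.leaf 1) (.leaf 1)) (.node (.leaf 1) (.leaf 1))) (.node (.node (.leaf 1) (.leaf 1)) (.node (.leaf 1) (.leaf 1))))) (.node (.node (.node (.node (.leaf 1) (.leaf 1)) (.node (.leaf 1) (.leaf 1))) (.node (.node (.leaf 1) (.leaf 1)) (.node (.leaf 1) (.leaf 1)))) (.node (.node (.node (.leaf 1) (.leaf 1)) (.node (.leaf 1) (.leaf 1))) (.node (.node (.leaf 1) (.leaf 1)) (.node (.leaf 1) (.leaf 1)))))) (.node (.node (.node (.node (.node (.leaf 1) (.leaf 1)) (.node (.leaf 1) (.leaf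 1))) (.node (.node (.leaf 1) (.leaf 1)) (.node (.leaf 1) (.leaf 1)))) (.node (.node (.node (.leaf 1) (.leaf 1)) (.node (.leaf 1) (.leaf 1))) (.node (.node (.leaf 1) (.leaf 1)) (.node (.leaf 1) (.leaf 1))))) (.node (.node (.node (.node (.leaf 1) (.leaf 1)) (.node (.leaf 1) (.leaf 1))) (.node (.node (.leaf 1) (.leaf 1)) (.node (.leaf 1) (.leaf 1)))) (.node (.node (.node (.leaf 1) (.leaf 1)) (.node (.leaf 1) (.leaf 1))) (.node (.node (.leaf 1) (.leaf 1)) (.node (.leaf 1) (.leaf 1)))))))

/-- A line moved by an element, part 32. -/
def kMoverPart32 : Janko1.Tree ℕ := (.node (.node (.node (.node (.node (.node (.leaf 1) (.leaf 1)) (.node (.leaf 1) (.leaf 1))) (.node (.node (.leaf 1) (.leaf 1)) (.node (.leaf 1) (.leaf 1)))) (.node (.node (.node (.leaf 1) (.leaf 1)) (.node (.leaf 1) (.leaf 1))) (.node (.node (.leaf 1) (.leaf 1)) (.node (.leaf 1) (.leaf 1))))) (.node (.node (.node (.node (.leaf 1) (.leaf 1)) (.node (.leaf 1) (.leaf 1))) (.node (.node (.leaf 1) (.leaf 1)) (.node (.leaf 1) (.leaf 1)))) (.node (.node (.node (.leaf 1) (.leaf 1)) (.node (.leaf 1) (.leaf 1))) (.node (.node (.leaf 1)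 (.leaf 1)) (.node (.leaf 1) (.leaf 1)))))) (.node (.node (.node (.node (.node (.leaf 1) (.leaf 1)) (.node (.leaf 1) (.leaf 1))) (.node (.node (.leaf 1) (.leaf 1)) (.node (.leaf 1) (.leaf 1)))) (.node (.node (.node (.leaf 1) (.leaf 1)) (.node (.leaf 1) (.leaf 1))) (.node (.node (.leaf 1) (.leaf 1)) (.node (.leaf 1) (.leaf 1))))) (.node (.node (.node (.node (.leaf 1) (.leaf 1)) (.node (.leaf 1) (.leaf 1))) (.node (.node (.leaf 1) (.leaf 1)) (.node (.leaf 1) (.leaf 1)))) (.node (.node (.node (.leaf 1) (.leaf 1)) (.node (.leaf 1) (.leaf 1))) (.node (.node (.leaf 1) (.leaf 1)) (.node (.leaf 1) (.leaf 1)))))))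

/-- A line moved by an element, part 33. -/
def kMoverPart33 : Janko1.Tree ℕ := (.node (.node (.node (.node (.node (.node (.leaf 1) (.leaf 1)) (.node (.leaf 1) (.leaf 1))) (.node (.node (.leaf 1) (.leaf 1)) (.node (.leaf 1) (.leaf 1)))) (.node (.node (.node (.leaf 1) (.leaf 1)) (.node (.leaf 1) (.leaf 1))) (.node (.node (.leaf 1) (.leaf 1)) (.node (.leaf 1) (.leaf 1))))) (.node (.node (.node (.node (.leaf 1) (.leaf 1)) (.node (.leaf 1) (.leaf 1))) (.node (.node (.leaf 1) (.leaf 1)) (.node (.leaf 1) (.leaf 1)))) (.node (.node (.node (.leaf 1) (.leaf 1)) (.node (.leaf 1) (.leaf 1))) (.node (.node (.leaf 1) (.leaf 1)) (.node (.leaf 1) (.leaf 1)))))) (.node (.node (.node (.node (.node (.leaf 1) (.leaf 1)) (.node (.leaf 1) (.leaf 1))) (.node (.node (.leaf 1) (.leaf 1)) (.node (.leaf 1) (.leaf 1)))) (.node (.node (.node (.leaf 1) (.leaf 1)) (.node (.leaf 1) (.leaf 1))) (.node (.node (.leaf 1) (.leaf 1)) (.node (.leaf 1) (.leaf 1))))) (.node (.node (.node (.node (.leaf 0) (.leaf 0)) (.node (.leaf 0) (.leaf 0))) (.node (.node (.leaf 0) (.leaf 0)) (.node (.leaf 0) (.leaf 0)))) (.node (.node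 (.node (.leaf 0) (.leaf 0)) (.node (.leaf 0) (.leaf 0))) (.node (.node (.leaf 0) (.leaf 0)) (.node (.leaf 0) (.leaf 0)))))))

/-- A line moved by an element, part 34. -/
def kMoverPart34 : Janko1.Tree ℕ := (.node (.node (.node (.node (.node (.node (.leaf 0) (.leaf 0)) (.node (.leaf 0) (.leaf 0))) (.node (.node (.leaf 0) (.leaf 0)) (.node (.leaf 0) (.leaf 0)))) (.node (.node (.node (.leaf 0) (.leaf 0)) (.node (.leaf 0) (.leaf 0))) (.node (.node (.leaf 0) (.leaf 0)) (.node (.leaf 0) (.leaf 0))))) (.node (.node (.node (.node (.leaf 0) (.leaf 0)) (.node (.leaf 0) (.leaf 0))) (.node (.node (.leaf 0) (.leaf 0)) (.node (.leaf 0) (.leaf 0)))) (.node (.node (.node (.leaf 0) (.leaf 0)) (.node (.leaf 0) (.leaf 0))) (.node (.node (.leaf 0) (.leaf 0)) (.node (.leaf 0) (.leaf 0)))))) (.node (.node (.node (.node (.node (.leaf 0) (.leaf 0)) (.node (.leaf 0) (.leaf 0))) (.node (.node (.leaf 0) (.leaf 0)) (.node (.leaf 0) (.leaf 0)))) (.node (.node (.node (.leaf 0) (.leaf 0)) (.node (.leaf 0) (.leaf 0))) (.node (.node (.leaf 0) (.leaf 0)) (.node (.leaf 0) (.leaf 0))))) (.node (.node (.node (.node (.leaf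 0) (.leaf 0)) (.node (.leaf 0) (.leaf 0))) (.node (.node (.leaf 0) (.leaf 0)) (.node (.leaf 0) (.leaf 0)))) (.node (.node (.node (.leaf 0) (.leaf 0)) (.node (.leaf 0) (.leaf 0))) (.node (.node (.leaf 0) (.leaf 0)) (.node (.leaf 0) (.leaf 0)))))))

/-- A line moved by an element, part 35. -/
def kMoverPart35 : Janko1.Tree ℕ := (.node (.node (.node (.node (.node (.node (.leaf 0) (.leaf 0)) (.node (.leaf 0) (.leaf 0))) (.node (.node (.leaf 0) (.leaf 0)) (.node (.leaf 0) (.leaf 0)))) (.node (.node (.node (.leaf 0) (.leaf 0)) (.node (.leaf 0) (.leaf 0))) (.node (.node (.leaf 0) (.leaf 0)) (.node (.leaf 0) (.leaf 0))))) (.node (.node (.node (.node (.leaf 0) (.leaf 0)) (.node (.leaf 0) (.leaf 0))) (.node (.node (.leaf 0) (.leaf 0)) (.node (.leaf 0) (.leaf 0)))) (.node (.node (.node (.leaf 0) (.leaf 0)) (.node (.leaf 0) (.leaf 0))) (.node (.node (.leaf 0) (.leaf 0)) (.node (.leaf 0) (.leaf 0)))))) (.node (.node (.node (.node (.node (.leaf 0) (.leaf 0)) (.node (.leaf 0) (.leaf 0))) (.node (.node (.leaf 0) (.leaf 0)) (.node (.leaf 0) (.leaf 0)))) (.node (.node (.node (.leaf 0) (.leaf 0)) (.node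 (.leaf 0) (.leaf 0))) (.node (.node (.leaf 0) (.leaf 0)) (.node (.leaf 0) (.leaf 0))))) (.node (.node (.node (.node (.leaf 0) (.leaf 0)) (.node (.leaf 0) (.leaf 0))) (.node (.node (.leaf 0) (.leaf 0)) (.node (.leaf 0) (.leaf 0)))) (.node (.node (.node (.leaf 0) (.leaf 0)) (.node (.leaf 0) (.leaf 0))) (.node (.node (.leaf 0) (.leaf 0)) (.node (.leaf 0) (.leaf 0)))))))

/-- A line moved by an element, part 36. -/
def kMoverPart36 : Janko1.Tree ℕ := (.node (.node (.node (.node (.node (.node (.leaf 0) (.leaf 0)) (.node (.leaf 0) (.leaf 0))) (.node (.node (.leaf 0) (.leaf 0)) (.node (.leaf 0) (.leaf 0)))) (.node (.node (.node (.leaf 0) (.leaf 0)) (.node (.leaf 0) (.leaf 0))) (.node (.node (.leaf 0) (.leaf 0)) (.node (.leaf 0) (.leaf 0))))) (.node (.node (.node (.node (.leaf 0) (.leaf 0)) (.node (.leaf 0) (.leaf 0))) (.node (.node (.leaf 0) (.leaf 0)) (.node (.leaf 0) (.leaf 0)))) (.node (.node (.node (.leaf 0) (.leaf 0)) (.node (.leaf 0) (.leaf 0))) (.node (.node (.leaf 0) (.leaf 0)) (.node (.leaf 0) (.leaf 0)))))) (.node (.node (.node (.node (.node (.leaf 0) (.leaf 0)) (.node (.leaf 0) (.leaf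 0))) (.node (.node (.leaf 0) (.leaf 0)) (.node (.leaf 0) (.leaf 0)))) (.node (.node (.node (.leaf 0) (.leaf 0)) (.node (.leaf 0) (.leaf 0))) (.node (.node (.leaf 0) (.leaf 0)) (.node (.leaf 0) (.leaf 0))))) (.node (.node (.node (.node (.leaf 0) (.leaf 0)) (.node (.leaf 0) (.leaf 0))) (.node (.node (.leaf 0) (.leaf 0)) (.node (.leaf 0) (.leaf 0)))) (.node (.node (.node (.leaf 0) (.leaf 0)) (.node (.leaf 0) (.leaf 0))) (.node (.node (.leaf 0) (.leaf 0)) (.node (.leaf 0) (.leaf 0)))))))

/-- A line moved by an element, part 37. -/
def kMoverPart37 : Janko1.Tree ℕ := (.node (.node (.node (.node (.node (.node (.leaf 0) (.leaf 0)) (.node (.leaf 0) (.leaf 0))) (.node (.node (.leaf 0) (.leaf 0)) (.node (.leaf 0) (.leaf 0)))) (.node (.node (.node (.leaf 0) (.leaf 0)) (.node (.leaf 0) (.leaf 0))) (.node (.node (.leaf 0) (.leaf 0)) (.node (.leaf 0) (.leaf 0))))) (.node (.node (.node (.node (.leaf 0) (.leaf 0)) (.node (.leaf 0) (.leaf 0))) (.node (.node (.leaf 0) (.leaf 0)) (.node (.leaf 0) (.leaf 0)))) (.node (.node (.node (.leaf 0) (.leaf 0)) (.node (.leaf 0) (.leaf 0))) (.node (.node (.leaf 0)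 (.leaf 0)) (.node (.leaf 0) (.leaf 0)))))) (.node (.node (.node (.node (.node (.leaf 0) (.leaf 0)) (.node (.leaf 0) (.leaf 0))) (.node (.node (.leaf 0) (.leaf 0)) (.node (.leaf 0) (.leaf 0)))) (.node (.node (.node (.leaf 0) (.leaf 0)) (.node (.leaf 0) (.leaf 0))) (.node (.node (.leaf 0) (.leaf 0)) (.node (.leaf 0) (.leaf 0))))) (.node (.node (.node (.node (.leaf 0) (.leaf 0)) (.node (.leaf 0) (.leaf 0))) (.node (.node (.leaf 0) (.leaf 0)) (.node (.leaf 0) (.leaf 0)))) (.node (.node (.node (.leaf 0) (.leaf 0)) (.node (.leaf 0) (.leaf 0))) (.node (.node (.leaf 0) (.leaf 0)) (.node (.leaf 0) (.leaf 0)))))))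

/-- A line moved by an element, part 38. -/
def kMoverPart38 : Janko1.Tree ℕ := (.node (.node (.node (.node (.node (.node (.leaf 0) (.leaf 0)) (.node (.leaf 0) (.leaf 0))) (.node (.node (.leaf 0) (.leaf 0)) (.node (.leaf 0) (.leaf 0)))) (.node (.node (.node (.leaf 0) (.leaf 0)) (.node (.leaf 0) (.leaf 0))) (.node (.node (.leaf 0) (.leaf 0)) (.node (.leaf 0) (.leaf 0))))) (.node (.node (.node (.node (.leaf 0) (.leaf 0)) (.node (.leaf 0) (.leaf 0))) (.node (.node (.leaf 0) (.leaf 0)) (.node (.leaf 0) (.leaf 0)))) (.node (.node (.node (.leaf 0) (.leaf 0)) (.node (.leaf 0) (.leaf 0))) (.node (.node (.leaf 0) (.leaf 0)) (.node (.leaf 0) (.leaf 0)))))) (.node (.node (.node (.node (.node (.leaf 0) (.leaf 0)) (.node (.leaf 0) (.leaf 0))) (.node (.node (.leaf 0) (.leaf 0)) (.node (.leaf 0) (.leaf 0)))) (.node (.node (.node (.leaf 0) (.leaf 0)) (.node (.leaf 0) (.leaf 0))) (.node (.node (.leaf 0) (.leaf 0)) (.node (.leaf 0) (.leaf 0))))) (.node (.node (.node (.node (.leaf 0) (.leaf 0)) (.node (.leaf 0) (.leaf 0))) (.node (.node (.leaf 0) (.leaf 0)) (.node (.leaf 0) (.leaf 0)))) (.node (.node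 (.node (.leaf 0) (.leaf 0)) (.node (.leaf 0) (.leaf 0))) (.node (.node (.leaf 0) (.leaf 0)) (.node (.leaf 0) (.leaf 0)))))))

/-- A line moved by an element, part 39. -/
def kMoverPart39 : Janko1.Tree ℕ := (.node (.node (.node (.node (.node (.node (.leaf 0) (.leaf 0)) (.node (.leaf 0) (.leaf 0))) (.node (.node (.leaf 0) (.leaf 0)) (.node (.leaf 0) (.leaf 0)))) (.node (.node (.node (.leaf 0) (.leaf 0)) (.node (.leaf 0) (.leaf 0))) (.node (.node (.leaf 0) (.leaf 0)) (.node (.leaf 0) (.leaf 0))))) (.node (.node (.node (.node (.leaf 0) (.leaf 0)) (.node (.leaf 0) (.leaf 0))) (.node (.node (.leaf 0) (.leaf 0)) (.node (.leaf 0) (.leaf 0)))) (.node (.node (.node (.leaf 0) (.leaf 0)) (.node (.leaf 0) (.leaf 0))) (.node (.node (.leaf 0) (.leaf 0)) (.node (.leaf 0) (.leaf 0)))))) (.node (.node (.node (.node (.node (.leaf 0) (.leaf 0)) (.node (.leaf 0) (.leaf 0))) (.node (.node (.leaf 0) (.leaf 0)) (.node (.leaf 0) (.leaf 0)))) (.node (.node (.node (.leaf 0) (.leaf 0)) (.node (.leaf 0) (.leaf 0))) (.node (.node (.leaf 0) (.leaf 0)) (.node (.leaf 0) (.leaf 0))))) (.node (.node (.node (.node (.leaf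 0) (.leaf 0)) (.node (.leaf 0) (.leaf 0))) (.node (.node (.leaf 0) (.leaf 0)) (.node (.leaf 0) (.leaf 0)))) (.node (.node (.node (.leaf 0) (.leaf 0)) (.node (.leaf 0) (.leaf 0))) (.node (.node (.leaf 0) (.leaf 0)) (.node (.leaf 0) (.leaf 0)))))))

/-- A line moved by an element, part 40. -/
def kMoverPart40 : Janko1.Tree ℕ := (.node (.node (.node (.node (.node (.node (.leaf 0) (.leaf 0)) (.node (.leaf 0) (.leaf 0))) (.node (.node (.leaf 0) (.leaf 0)) (.node (.leaf 0) (.leaf 0)))) (.node (.node (.node (.leaf 0) (.leaf 0)) (.node (.leaf 0) (.leaf 0))) (.node (.node (.leaf 0) (.leaf 0)) (.node (.leaf 0) (.leaf 0))))) (.node (.node (.node (.node (.leaf 0) (.leaf 0)) (.node (.leaf 0) (.leaf 0))) (.node (.node (.leaf 0) (.leaf 0)) (.node (.leaf 0) (.leaf 0)))) (.node (.node (.node (.leaf 0) (.leaf 0)) (.node (.leaf 0) (.leaf 0))) (.node (.node (.leaf 0) (.leaf 0)) (.node (.leaf 0) (.leaf 0)))))) (.node (.node (.node (.node (.node (.leaf 0) (.leaf 0)) (.node (.leaf 0) (.leaf 0))) (.node (.node (.leaf 0) (.leaf 0)) (.node (.leaf 0) (.leaf 0)))) (.node (.node (.node (.leaf 0) (.leaf 0)) (.node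 (.leaf 0) (.leaf 0))) (.node (.node (.leaf 0) (.leaf 0)) (.node (.leaf 0) (.leaf 0))))) (.node (.node (.node (.node (.leaf 0) (.leaf 0)) (.node (.leaf 0) (.leaf 0))) (.node (.node (.leaf 0) (.leaf 0)) (.node (.leaf 0) (.leaf 0)))) (.node (.node (.node (.leaf 0) (.leaf 0)) (.node (.leaf 0) (.leaf 0))) (.node (.node (.leaf 0) (.leaf 0)) (.node (.leaf 0) (.leaf 0)))))))

/-- A line moved by an element, part 41. -/
def kMoverPart41 : Janko1.Tree ℕ := (.node (.node (.node (.node (.node (.node (.leaf 0) (.leaf 0)) (.node (.leaf 0) (.leaf 0))) (.node (.node (.leaf 0) (.leaf 0)) (.node (.leaf 0) (.leaf 0)))) (.node (.node (.node (.leaf 0) (.leaf 0)) (.node (.leaf 0) (.leaf 0))) (.node (.node (.leaf 0) (.leaf 0)) (.node (.leaf 0) (.leaf 0))))) (.node (.node (.node (.node (.leaf 0) (.leaf 0)) (.node (.leaf 0) (.leaf 0))) (.node (.node (.leaf 0) (.leaf 0)) (.node (.leaf 0) (.leaf 0)))) (.node (.node (.node (.leaf 0) (.leaf 0)) (.node (.leaf 0) (.leaf 0))) (.node (.node (.leaf 0) (.leaf 0)) (.node (.leaf 0) (.leaf 0)))))) (.node (.node (.node (.node (.node (.leaf 0) (.leaf 0)) (.node (.leaf 0) (.leaf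 0))) (.node (.node (.leaf 0) (.leaf 0)) (.node (.leaf 0) (.leaf 0)))) (.node (.node (.node (.leaf 0) (.leaf 0)) (.node (.leaf 0) (.leaf 0))) (.node (.node (.leaf 0) (.leaf 0)) (.node (.leaf 0) (.leaf 0))))) (.node (.node (.node (.node (.leaf 0) (.leaf 0)) (.node (.leaf 0) (.leaf 0))) (.node (.node (.leaf 0) (.leaf 0)) (.node (.leaf 0) (.leaf 0)))) (.node (.node (.node (.leaf 0) (.leaf 0)) (.node (.leaf 0) (.leaf 0))) (.node (.node (.leaf 0) (.leaf 0)) (.node (.leaf 0) (.leaf 0)))))))

/-- A line moved by an element, part 42. -/
def kMoverPart42 : Janko1.Tree ℕ := (.node (.node (.node (.node (.node (.node (.leaf 0) (.leaf 0)) (.node (.leaf 0) (.leaf 0))) (.node (.node (.leaf 0) (.leaf 0)) (.node (.leaf 0) (.leaf 0)))) (.node (.node (.node (.leaf 0) (.leaf 0)) (.node (.leaf 0) (.leaf 0))) (.node (.node (.leaf 0) (.leaf 0)) (.node (.leaf 0) (.leaf 0))))) (.node (.node (.node (.node (.leaf 0) (.leaf 0)) (.node (.leaf 0) (.leaf 0))) (.node (.node (.leaf 0) (.leaf 0)) (.node (.leaf 0) (.leaf 0)))) (.node (.node (.node (.leaf 0) (.leaf 0)) (.node (.leaf 0) (.leaf 0))) (.node (.node (.leaf 0)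 (.leaf 0)) (.node (.leaf 0) (.leaf 0)))))) (.node (.node (.node (.node (.node (.leaf 0) (.leaf 0)) (.node (.leaf 0) (.leaf 0))) (.node (.node (.leaf 0) (.leaf 0)) (.node (.leaf 0) (.leaf 0)))) (.node (.node (.node (.leaf 0) (.leaf 0)) (.node (.leaf 0) (.leaf 0))) (.node (.node (.leaf 0) (.leaf 0)) (.node (.leaf 0) (.leaf 0))))) (.node (.node (.node (.node (.leaf 0) (.leaf 0)) (.node (.leaf 0) (.leaf 0))) (.node (.node (.leaf 0) (.leaf 0)) (.node (.leaf 0) (.leaf 0)))) (.node (.node (.node (.leaf 0) (.leaf 0)) (.node (.leaf 0) (.leaf 0))) (.node (.node (.leaf 0) (.leaf 0)) (.node (.leaf 0) (.leaf 0)))))))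

/-- A line moved by an element, part 43. -/
def kMoverPart43 : Janko1.Tree ℕ := (.node (.node (.node (.node (.node (.node (.leaf 0) (.leaf 0)) (.node (.leaf 0) (.leaf 0))) (.node (.node (.leaf 0) (.leaf 0)) (.node (.leaf 0) (.leaf 0)))) (.node (.node (.node (.leaf 0) (.leaf 0)) (.node (.leaf 0) (.leaf 0))) (.node (.node (.leaf 0) (.leaf 0)) (.node (.leaf 0) (.leaf 0))))) (.node (.node (.node (.node (.leaf 0) (.leaf 0)) (.node (.leaf 0) (.leaf 0))) (.node (.node (.leaf 0) (.leaf 0)) (.node (.leaf 0) (.leaf 0)))) (.node (.node (.node (.leaf 0) (.leaf 0)) (.node (.leaf 0) (.leaf 0))) (.node (.node (.leaf 0) (.leaf 0)) (.node (.leaf 0) (.leaf 0)))))) (.node (.node (.node (.node (.node (.leaf 0) (.leaf 0)) (.node (.leaf 0) (.leaf 0))) (.node (.node (.leaf 0) (.leaf 0)) (.node (.leaf 0) (.leaf 0)))) (.node (.node (.node (.leaf 0) (.leaf 0)) (.node (.leaf 0) (.leaf 0))) (.node (.node (.leaf 0) (.leaf 0)) (.node (.leaf 0) (.leaf 0))))) (.node (.node (.node (.node (.leaf 0) (.leaf 0)) (.node (.leaf 0) (.leaf 0))) (.node (.node (.leaf 0) (.leaf 0)) (.node (.leaf 0) (.leaf 0)))) (.node (.node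 (.node (.leaf 0) (.leaf 0)) (.node (.leaf 0) (.leaf 0))) (.node (.node (.leaf 0) (.leaf 0)) (.node (.leaf 0) (.leaf 0)))))))

/-- A line moved by an element, part 44. -/
def kMoverPart44 : Janko1.Tree ℕ := (.node (.node (.node (.node (.node (.node (.leaf 0) (.leaf 0)) (.node (.leaf 0) (.leaf 0))) (.node (.node (.leaf 0) (.leaf 0)) (.node (.leaf 0) (.leaf 0)))) (.node (.node (.node (.leaf 0) (.leaf 0)) (.node (.leaf 0) (.leaf 0))) (.node (.node (.leaf 0) (.leaf 0)) (.node (.leaf 0) (.leaf 0))))) (.node (.node (.node (.node (.leaf 0) (.leaf 0)) (.node (.leaf 0) (.leaf 0))) (.node (.node (.leaf 0) (.leaf 0)) (.node (.leaf 0) (.leaf 0)))) (.node (.node (.node (.leaf 0) (.leaf 0)) (.node (.leaf 0) (.leaf 0))) (.node (.node (.leaf 0) (.leaf 0)) (.node (.leaf 0) (.leaf 0)))))) (.node (.node (.node (.node (.node (.leaf 0) (.leaf 0)) (.node (.leaf 0) (.leaf 0))) (.node (.node (.leaf 0) (.leaf 0)) (.node (.leaf 0) (.leaf 0)))) (.node (.node (.node (.leaf 0) (.leaf 0)) (.node (.leaf 0) (.leaf 0))) (.node (.node (.leaf 0) (.leaf 0)) (.node (.leaf 0) (.leaf 0))))) (.node (.node (.node (.node (.leaf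 0) (.leaf 0)) (.node (.leaf 0) (.leaf 0))) (.node (.node (.leaf 0) (.leaf 0)) (.node (.leaf 0) (.leaf 0)))) (.node (.node (.node (.leaf 0) (.leaf 0)) (.node (.leaf 0) (.leaf 0))) (.node (.node (.leaf 0) (.leaf 0)) (.node (.leaf 0) (.leaf 0)))))))

/-- A line moved by an element, part 45. -/
def kMoverPart45 : Janko1.Tree ℕ := (.node (.node (.node (.node (.node (.node (.leaf 0) (.leaf 0)) (.node (.leaf 0) (.leaf 0))) (.node (.node (.leaf 0) (.leaf 0)) (.node (.leaf 0) (.leaf 0)))) (.node (.node (.node (.leaf 0) (.leaf 0)) (.node (.leaf 0) (.leaf 0))) (.node (.node (.leaf 0) (.leaf 0)) (.node (.leaf 0) (.leaf 0))))) (.node (.node (.node (.node (.leaf 0) (.leaf 0)) (.node (.leaf 0) (.leaf 0))) (.node (.node (.leaf 0) (.leaf 0)) (.node (.leaf 0) (.leaf 0)))) (.node (.node (.node (.leaf 0) (.leaf 0)) (.node (.leaf 0) (.leaf 0))) (.node (.node (.leaf 0) (.leaf 0)) (.node (.leaf 0) (.leaf 0)))))) (.node (.node (.node (.node (.node (.leaf 0) (.leaf 0)) (.node (.leaf 0) (.leaf 0))) (.node (.node (.leaf 0) (.leaf 0)) (.node (.leaf 0) (.leaf 0)))) (.node (.node (.node (.leaf 0) (.leaf 0)) (.node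 (.leaf 0) (.leaf 0))) (.node (.node (.leaf 0) (.leaf 0)) (.node (.leaf 0) (.leaf 0))))) (.node (.node (.node (.node (.leaf 0) (.leaf 0)) (.node (.leaf 0) (.leaf 0))) (.node (.node (.leaf 0) (.leaf 0)) (.node (.leaf 0) (.leaf 0)))) (.node (.node (.node (.leaf 0) (.leaf 0)) (.node (.leaf 0) (.leaf 0))) (.node (.node (.leaf 0) (.leaf 0)) (.node (.leaf 0) (.leaf 0)))))))

/-- A line moved by an element, part 46. -/
def kMoverPart46 : Janko1.Tree ℕ := (.node (.node (.node (.node (.node (.node (.leaf 0) (.leaf 0)) (.node (.leaf 0) (.leaf 0))) (.node (.node (.leaf 0) (.leaf 0)) (.node (.leaf 0) (.leaf 0)))) (.node (.node (.node (.leaf 0) (.leaf 0)) (.node (.leaf 0) (.leaf 0))) (.node (.node (.leaf 0) (.leaf 0)) (.node (.leaf 0) (.leaf 0))))) (.node (.node (.node (.node (.leaf 0) (.leaf 0)) (.node (.leaf 0) (.leaf 0))) (.node (.node (.leaf 0) (.leaf 0)) (.node (.leaf 0) (.leaf 0)))) (.node (.node (.node (.leaf 0) (.leaf 0)) (.node (.leaf 0) (.leaf 0))) (.node (.node (.leaf 0) (.leaf 0)) (.node (.leaf 0) (.leaf 0)))))) (.node (.node (.node (.node (.node (.leaf 0) (.leaf 0)) (.node (.leaf 0) (.leaf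 0))) (.node (.node (.leaf 0) (.leaf 0)) (.node (.leaf 0) (.leaf 0)))) (.node (.node (.node (.leaf 0) (.leaf 0)) (.node (.leaf 0) (.leaf 0))) (.node (.node (.leaf 0) (.leaf 0)) (.node (.leaf 0) (.leaf 0))))) (.node (.node (.node (.node (.leaf 0) (.leaf 0)) (.node (.leaf 0) (.leaf 0))) (.node (.node (.leaf 0) (.leaf 0)) (.node (.leaf 0) (.leaf 0)))) (.node (.node (.node (.leaf 0) (.leaf 0)) (.node (.leaf 0) (.leaf 0))) (.node (.node (.leaf 0) (.leaf 0)) (.node (.leaf 0) (.leaf 0)))))))

/-- A line moved by an element, part 47. -/
def kMoverPart47 : Janko1.Tree ℕ := (.node (.node (.node (.node (.node (.node (.leaf 0) (.leaf 0)) (.node (.leaf 0) (.leaf 0))) (.node (.node (.leaf 0) (.leaf 0)) (.node (.leaf 0) (.leaf 0)))) (.node (.node (.node (.leaf 0) (.leaf 0)) (.node (.leaf 0) (.leaf 0))) (.node (.node (.leaf 0) (.leaf 0)) (.node (.leaf 0) (.leaf 0))))) (.node (.node (.node (.node (.leaf 0) (.leaf 0)) (.node (.leaf 0) (.leaf 0))) (.node (.node (.leaf 0) (.leaf 0)) (.node (.leaf 0) (.leaf 0)))) (.node (.node (.node (.leaf 0) (.leaf 0)) (.node (.leaf 0) (.leaf 0))) (.node (.node (.leaf 0)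 (.leaf 0)) (.node (.leaf 0) (.leaf 0)))))) (.node (.node (.node (.node (.node (.leaf 0) (.leaf 0)) (.node (.leaf 0) (.leaf 0))) (.node (.node (.leaf 0) (.leaf 0)) (.node (.leaf 0) (.leaf 0)))) (.node (.node (.node (.leaf 0) (.leaf 0)) (.node (.leaf 0) (.leaf 0))) (.node (.node (.leaf 0) (.leaf 0)) (.node (.leaf 0) (.leaf 0))))) (.node (.node (.node (.node (.leaf 0) (.leaf 0)) (.node (.leaf 0) (.leaf 0))) (.node (.node (.leaf 0) (.leaf 0)) (.node (.leaf 0) (.leaf 0)))) (.node (.node (.node (.leaf 0) (.leaf 0)) (.node (.leaf 0) (.leaf 0))) (.node (.node (.leaf 0) (.leaf 0)) (.node (.leaf 0) (.leaf 0)))))))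

/-- A line moved by an element, part 48. -/
def kMoverPart48 : Janko1.Tree ℕ := (.node (.node (.node (.node (.node (.node (.leaf 0) (.leaf 0)) (.node (.leaf 0) (.leaf 0))) (.node (.node (.leaf 0) (.leaf 0)) (.node (.leaf 0) (.leaf 0)))) (.node (.node (.node (.leaf 0) (.leaf 0)) (.node (.leaf 0) (.leaf 0))) (.node (.node (.leaf 0) (.leaf 0)) (.node (.leaf 0) (.leaf 0))))) (.node (.node (.node (.node (.leaf 0) (.leaf 0)) (.node (.leaf 0) (.leaf 0))) (.node (.node (.leaf 0) (.leaf 0)) (.node (.leaf 0) (.leaf 0)))) (.node (.node (.node (.leaf 0) (.leaf 0)) (.node (.leaf 0) (.leaf 0))) (.node (.node (.leaf 0) (.leaf 0)) (.node (.leaf 0) (.leaf 0)))))) (.node (.node (.node (.node (.node (.leaf 0) (.leaf 0)) (.node (.leaf 0) (.leaf 0))) (.node (.node (.leaf 0) (.leaf 0)) (.node (.leaf 0) (.leaf 0)))) (.node (.node (.node (.leaf 0) (.leaf 0)) (.node (.leaf 0) (.leaf 0))) (.node (.node (.leaf 0) (.leaf 0)) (.node (.leaf 0) (.leaf 0))))) (.node (.node (.node (.node (.leaf 0) (.leaf 0)) (.node (.leaf 0) (.leaf 0))) (.node (.node (.leaf 0) (.leaf 0)) (.node (.leaf 0) (.leaf 0)))) (.node (.node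 (.node (.leaf 0) (.leaf 0)) (.node (.leaf 0) (.leaf 0))) (.node (.node (.leaf 0) (.leaf 0)) (.node (.leaf 0) (.leaf 0)))))))

/-- A line moved by an element, part 49. -/
def kMoverPart49 : Janko1.Tree ℕ := (.node (.node (.node (.node (.node (.node (.leaf 0) (.leaf 0)) (.node (.leaf 0) (.leaf 0))) (.node (.node (.leaf 0) (.leaf 0)) (.node (.leaf 0) (.leaf 0)))) (.node (.node (.node (.leaf 0) (.leaf 0)) (.node (.leaf 0) (.leaf 0))) (.node (.node (.leaf 0) (.leaf 0)) (.node (.leaf 0) (.leaf 0))))) (.node (.node (.node (.node (.leaf 0) (.leaf 0)) (.node (.leaf 0) (.leaf 0))) (.node (.node (.leaf 0) (.leaf 0)) (.node (.leaf 0) (.leaf 0)))) (.node (.node (.node (.leaf 0) (.leaf 0)) (.node (.leaf 0) (.leaf 0))) (.node (.node (.leaf 0) (.leaf 0)) (.node (.leaf 0) (.leaf 0)))))) (.node (.node (.node (.node (.node (.leaf 0) (.leaf 0)) (.node (.leaf 0) (.leaf 0))) (.node (.node (.leaf 0) (.leaf 0)) (.node (.leaf 0) (.leaf 0)))) (.node (.node (.node (.leaf 0) (.leaf 0)) (.node (.leaf 0) (.leaf 0))) (.node (.node (.leaf 0) (.leaf 0)) (.node (.leaf 0) (.leaf 0))))) (.node (.node (.node (.node (.leaf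 0) (.leaf 0)) (.node (.leaf 0) (.leaf 0))) (.node (.node (.leaf 0) (.leaf 0)) (.node (.leaf 0) (.leaf 0)))) (.node (.node (.node (.leaf 0) (.leaf 0)) (.node (.leaf 0) (.leaf 0))) (.node (.node (.leaf 0) (.leaf 0)) (.node (.leaf 0) (.leaf 0)))))))

/-- A line moved by an element, part 50. -/
def kMoverPart50 : Janko1.Tree ℕ := (.node (.node (.node (.node (.node (.node (.leaf 0) (.leaf 0)) (.node (.leaf 0) (.leaf 0))) (.node (.node (.leaf 0) (.leaf 0)) (.node (.leaf 0) (.leaf 0)))) (.node (.node (.node (.leaf 0) (.leaf 0)) (.node (.leaf 0) (.leaf 0))) (.node (.node (.leaf 0) (.leaf 0)) (.node (.leaf 0) (.leaf 0))))) (.node (.node (.node (.node (.leaf 0) (.leaf 0)) (.node (.leaf 0) (.leaf 0))) (.node (.node (.leaf 0) (.leaf 0)) (.node (.leaf 0) (.leaf 0)))) (.node (.node (.node (.leaf 0) (.leaf 0)) (.node (.leaf 0) (.leaf 0))) (.node (.node (.leaf 0) (.leaf 0)) (.node (.leaf 0) (.leaf 0)))))) (.node (.node (.node (.node (.node (.leaf 0) (.leaf 0)) (.node (.leaf 0) (.leaf 0))) (.node (.node (.leaf 0) (.leaf 0)) (.node (.leaf 0) (.leaf 0)))) (.node (.node (.node (.leaf 0) (.leaf 0)) (.node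 (.leaf 0) (.leaf 0))) (.node (.node (.leaf 0) (.leaf 0)) (.node (.leaf 0) (.leaf 0))))) (.node (.node (.node (.node (.leaf 0) (.leaf 0)) (.node (.leaf 0) (.leaf 0))) (.node (.node (.leaf 0) (.leaf 0)) (.node (.leaf 0) (.leaf 0)))) (.node (.node (.node (.leaf 0) (.leaf 0)) (.node (.leaf 0) (.leaf 0))) (.node (.node (.leaf 0) (.leaf 0)) (.node (.leaf 0) (.leaf 0)))))))

/-- A line moved by an element, part 51. -/
def kMoverPart51 : Janko1.Tree ℕ := (.node (.node (.node (.node (.node (.node (.leaf 0) (.leaf 0)) (.node (.leaf 0) (.leaf 0))) (.node (.node (.leaf 0) (.leaf 0)) (.node (.leaf 0) (.leaf 0)))) (.node (.node (.node (.leaf 0) (.leaf 0)) (.node (.leaf 0) (.leaf 0))) (.node (.node (.leaf 0) (.leaf 0)) (.node (.leaf 0) (.leaf 0))))) (.node (.node (.node (.node (.leaf 0) (.leaf 0)) (.node (.leaf 0) (.leaf 0))) (.node (.node (.leaf 0) (.leaf 0)) (.node (.leaf 0) (.leaf 0)))) (.node (.node (.node (.leaf 0) (.leaf 0)) (.node (.leaf 0) (.leaf 0))) (.node (.node (.leaf 0) (.leaf 0)) (.node (.leaf 0) (.leaf 0)))))) (.node (.node (.node (.node (.node (.leaf 0) (.leaf 0)) (.node (.leaf 0) (.leaf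 0))) (.node (.node (.leaf 0) (.leaf 0)) (.node (.leaf 0) (.leaf 0)))) (.node (.node (.node (.leaf 0) (.leaf 0)) (.node (.leaf 0) (.leaf 0))) (.node (.node (.leaf 0) (.leaf 0)) (.node (.leaf 0) (.leaf 0))))) (.node (.node (.node (.node (.leaf 0) (.leaf 0)) (.node (.leaf 0) (.leaf 0))) (.node (.node (.leaf 0) (.leaf 0)) (.node (.leaf 0) (.leaf 0)))) (.node (.node (.node (.leaf 0) (.leaf 0)) (.node (.leaf 0) (.leaf 0))) (.node (.node (.leaf 0) (.leaf 0)) (.node (.leaf 0) (.leaf 0)))))))

/-- A line moved by an element, part 52. -/
def kMoverPart52 : Janko1.Tree ℕ := (.node (.node (.node (.node (.node (.node (.leaf 0) (.leaf 0)) (.node (.leaf 0) (.leaf 0))) (.node (.node (.leaf 0) (.leaf 0)) (.node (.leaf 0) (.leaf 0)))) (.node (.node (.node (.leaf 0) (.leaf 0)) (.node (.leaf 0) (.leaf 0))) (.node (.node (.leaf 0) (.leaf 0)) (.node (.leaf 0) (.leaf 0))))) (.node (.node (.node (.node (.leaf 0) (.leaf 0)) (.node (.leaf 0) (.leaf 0))) (.node (.node (.leaf 0) (.leaf 0)) (.node (.leaf 0) (.leaf 0)))) (.node (.node (.node (.leaf 0) (.leaf 0)) (.node (.leaf 0) (.leaf 0))) (.node (.node (.leaf 0)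 (.leaf 0)) (.node (.leaf 0) (.leaf 0)))))) (.node (.node (.node (.node (.node (.leaf 0) (.leaf 0)) (.node (.leaf 0) (.leaf 0))) (.node (.node (.leaf 0) (.leaf 0)) (.node (.leaf 0) (.leaf 0)))) (.node (.node (.node (.leaf 0) (.leaf 0)) (.node (.leaf 0) (.leaf 0))) (.node (.node (.leaf 0) (.leaf 0)) (.node (.leaf 0) (.leaf 0))))) (.node (.node (.node (.node (.leaf 0) (.leaf 0)) (.node (.leaf 0) (.leaf 0))) (.node (.node (.leaf 0) (.leaf 0)) (.node (.leaf 0) (.leaf 0)))) (.node (.node (.node (.leaf 0) (.leaf 0)) (.node (.leaf 0) (.leaf 0))) (.node (.node (.leaf 0) (.leaf 0)) (.node (.leaf 0) (.leaf 0)))))))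

/-- A line moved by an element, part 53. -/
def kMoverPart53 : Janko1.Tree ℕ := (.node (.node (.node (.node (.node (.node (.leaf 0) (.leaf 0)) (.node (.leaf 0) (.leaf 0))) (.node (.node (.leaf 0) (.leaf 0)) (.node (.leaf 0) (.leaf 0)))) (.node (.node (.node (.leaf 0) (.leaf 0)) (.node (.leaf 0) (.leaf 0))) (.node (.node (.leaf 0) (.leaf 0)) (.node (.leaf 0) (.leaf 0))))) (.node (.node (.node (.node (.leaf 0) (.leaf 0)) (.node (.leaf 0) (.leaf 0))) (.node (.node (.leaf 0) (.leaf 0)) (.node (.leaf 0) (.leaf 0)))) (.node (.node (.node (.leaf 0) (.leaf 0)) (.node (.leaf 0) (.leaf 0))) (.node (.node (.leaf 0) (.leaf 0)) (.node (.leaf 0) (.leaf 0)))))) (.node (.node (.node (.node (.node (.leaf 0) (.leaf 0)) (.node (.leaf 0) (.leaf 0))) (.node (.node (.leaf 0) (.leaf 0)) (.node (.leaf 0) (.leaf 0)))) (.node (.node (.node (.leaf 0) (.leaf 0)) (.node (.leaf 0) (.leaf 0))) (.node (.node (.leaf 0) (.leaf 0)) (.node (.leaf 0) (.leaf 0))))) (.node (.node (.node (.node (.leaf 0) (.leaf 0)) (.node (.leaf 0) (.leaf 0))) (.node (.node (.leaf 0) (.leaf 0)) (.node (.leaf 0) (.leaf 0)))) (.node (.node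 (.node (.leaf 0) (.leaf 0)) (.node (.leaf 0) (.leaf 0))) (.node (.node (.leaf 0) (.leaf 0)) (.node (.leaf 0) (.leaf 0)))))))

/-- A line moved by an element, part 54. -/
def kMoverPart54 : Janko1.Tree ℕ := (.node (.node (.node (.node (.node (.node (.leaf 0) (.leaf 0)) (.node (.leaf 0) (.leaf 0))) (.node (.node (.leaf 0) (.leaf 0)) (.node (.leaf 0) (.leaf 0)))) (.node (.node (.node (.leaf 0) (.leaf 0)) (.node (.leaf 0) (.leaf 0))) (.node (.node (.leaf 0) (.leaf 0)) (.node (.leaf 0) (.leaf 0))))) (.node (.node (.node (.node (.leaf 0) (.leaf 0)) (.node (.leaf 0) (.leaf 0))) (.node (.node (.leaf 0) (.leaf 0)) (.node (.leaf 0) (.leaf 0)))) (.node (.node (.node (.leaf 0) (.leaf 0)) (.node (.leaf 0) (.leaf 0))) (.node (.node (.leaf 0) (.leaf 0)) (.node (.leaf 0) (.leaf 0)))))) (.node (.node (.node (.node (.node (.leaf 0) (.leaf 0)) (.node (.leaf 0) (.leaf 0))) (.node (.node (.leaf 0) (.leaf 0)) (.node (.leaf 0) (.leaf 0)))) (.node (.node (.node (.leaf 0) (.leaf 0)) (.node (.leaf 0) (.leaf 0))) (.node (.node (.leaf 0) (.leaf 0)) (.node (.leaf 0) (.leaf 0))))) (.node (.node (.node (.node (.leaf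 0) (.leaf 0)) (.node (.leaf 0) (.leaf 0))) (.node (.node (.leaf 0) (.leaf 0)) (.node (.leaf 0) (.leaf 0)))) (.node (.node (.node (.leaf 0) (.leaf 0)) (.node (.leaf 0) (.leaf 0))) (.node (.node (.leaf 0) (.leaf 0)) (.node (.leaf 0) (.leaf 0)))))))

/-- A line moved by an element, part 55. -/
def kMoverPart55 : Janko1.Tree ℕ := (.node (.node (.node (.node (.node (.node (.leaf 0) (.leaf 0)) (.node (.leaf 0) (.leaf 0))) (.node (.node (.leaf 0) (.leaf 0)) (.node (.leaf 0) (.leaf 0)))) (.node (.node (.node (.leaf 0) (.leaf 0)) (.node (.leaf 0) (.leaf 0))) (.node (.node (.leaf 0) (.leaf 0)) (.node (.leaf 0) (.leaf 0))))) (.node (.node (.node (.node (.leaf 0) (.leaf 0)) (.node (.leaf 0) (.leaf 0))) (.node (.node (.leaf 0) (.leaf 0)) (.node (.leaf 0) (.leaf 0)))) (.node (.node (.node (.leaf 0) (.leaf 0)) (.node (.leaf 0) (.leaf 0))) (.node (.node (.leaf 0) (.leaf 0)) (.node (.leaf 0) (.leaf 0)))))) (.node (.node (.node (.node (.node (.leaf 0) (.leaf 0)) (.node (.leaf 0) (.leaf 0))) (.node (.node (.leaf 0) (.leaf 0)) (.node (.leaf 0) (.leaf 0)))) (.node (.node (.node (.leaf 0) (.leaf 0)) (.node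 (.leaf 0) (.leaf 0))) (.node (.node (.leaf 0) (.leaf 0)) (.node (.leaf 0) (.leaf 0))))) (.node (.node (.node (.node (.leaf 0) (.leaf 0)) (.node (.leaf 0) (.leaf 0))) (.node (.node (.leaf 0) (.leaf 0)) (.node (.leaf 0) (.leaf 0)))) (.node (.node (.node (.leaf 0) (.leaf 0)) (.node (.leaf 0) (.leaf 0))) (.node (.node (.leaf 0) (.leaf 0)) (.node (.leaf 0) (.leaf 0)))))))

/-- A line moved by an element, part 56. -/
def kMoverPart56 : Janko1.Tree ℕ := (.node (.node (.node (.node (.node (.node (.leaf 0) (.leaf 0)) (.node (.leaf 0) (.leaf 0))) (.node (.node (.leaf 0) (.leaf 0)) (.node (.leaf 0) (.leaf 0)))) (.node (.node (.node (.leaf 0) (.leaf 0)) (.node (.leaf 0) (.leaf 0))) (.node (.node (.leaf 0) (.leaf 0)) (.node (.leaf 0) (.leaf 0))))) (.node (.node (.node (.node (.leaf 0) (.leaf 0)) (.node (.leaf 0) (.leaf 0))) (.node (.node (.leaf 0) (.leaf 0)) (.node (.leaf 0) (.leaf 0)))) (.node (.node (.node (.leaf 0) (.leaf 0)) (.node (.leaf 0) (.leaf 0))) (.node (.node (.leaf 0) (.leaf 0)) (.node (.leaf 0) (.leaf 0)))))) (.node (.node (.node (.node (.node (.leaf 0) (.leaf 0)) (.node (.leaf 0) (.leaf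 0))) (.node (.node (.leaf 0) (.leaf 0)) (.node (.leaf 0) (.leaf 0)))) (.node (.node (.node (.leaf 0) (.leaf 0)) (.node (.leaf 0) (.leaf 0))) (.node (.node (.leaf 0) (.leaf 0)) (.node (.leaf 0) (.leaf 0))))) (.node (.node (.node (.node (.leaf 0) (.leaf 0)) (.node (.leaf 0) (.leaf 0))) (.node (.node (.leaf 0) (.leaf 0)) (.node (.leaf 0) (.leaf 0)))) (.node (.node (.node (.leaf 0) (.leaf 0)) (.node (.leaf 0) (.leaf 0))) (.node (.node (.leaf 0) (.leaf 0)) (.node (.leaf 0) (.leaf 0)))))))

/-- A line moved by an element, part 57. -/
def kMoverPart57 : Janko1.Tree ℕ := (.node (.node (.node (.node (.node (.node (.leaf 0) (.leaf 0)) (.node (.leaf 0) (.leaf 0))) (.node (.node (.leaf 0) (.leaf 0)) (.node (.leaf 0) (.leaf 0)))) (.node (.node (.node (.leaf 0) (.leaf 0)) (.node (.leaf 0) (.leaf 0))) (.node (.node (.leaf 0) (.leaf 0)) (.node (.leaf 0) (.leaf 0))))) (.node (.node (.node (.node (.leaf 0) (.leaf 0)) (.node (.leaf 0) (.leaf 0))) (.node (.node (.leaf 0) (.leaf 0)) (.node (.leaf 0) (.leaf 0)))) (.node (.node (.node (.leaf 0) (.leaf 0)) (.node (.leaf 0) (.leaf 0))) (.node (.node (.leaf 0)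 (.leaf 0)) (.node (.leaf 0) (.leaf 0)))))) (.node (.node (.node (.node (.node (.leaf 0) (.leaf 0)) (.node (.leaf 0) (.leaf 0))) (.node (.node (.leaf 0) (.leaf 0)) (.node (.leaf 0) (.leaf 0)))) (.node (.node (.node (.leaf 0) (.leaf 0)) (.node (.leaf 0) (.leaf 0))) (.node (.node (.leaf 0) (.leaf 0)) (.node (.leaf 0) (.leaf 0))))) (.node (.node (.node (.node (.leaf 0) (.leaf 0)) (.node (.leaf 0) (.leaf 0))) (.node (.node (.leaf 0) (.leaf 0)) (.node (.leaf 0) (.leaf 0)))) (.node (.node (.node (.leaf 0) (.leaf 0)) (.node (.leaf 0) (.leaf 0))) (.node (.node (.leaf 0) (.leaf 0)) (.node (.leaf 0) (.leaf 0)))))))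

/-- A line moved by an element, part 58. -/
def kMoverPart58 : Janko1.Tree ℕ := (.node (.node (.node (.node (.node (.node (.leaf 0) (.leaf 0)) (.node (.leaf 0) (.leaf 0))) (.node (.node (.leaf 0) (.leaf 0)) (.node (.leaf 0) (.leaf 0)))) (.node (.node (.node (.leaf 0) (.leaf 0)) (.node (.leaf 0) (.leaf 0))) (.node (.node (.leaf 0) (.leaf 0)) (.node (.leaf 0) (.leaf 0))))) (.node (.node (.node (.node (.leaf 0) (.leaf 0)) (.node (.leaf 0) (.leaf 0))) (.node (.node (.leaf 0) (.leaf 0)) (.node (.leaf 0) (.leaf 0)))) (.node (.node (.node (.leaf 0) (.leaf 0)) (.node (.leaf 0) (.leaf 0))) (.node (.node (.leaf 0) (.leaf 0)) (.node (.leaf 0) (.leaf 0)))))) (.node (.node (.node (.node (.node (.leaf 0) (.leaf 0)) (.node (.leaf 0) (.leaf 0))) (.node (.node (.leaf 0) (.leaf 0)) (.node (.leaf 0) (.leaf 0)))) (.node (.node (.node (.leaf 0) (.leaf 0)) (.node (.leaf 0) (.leaf 0))) (.node (.node (.leaf 0) (.leaf 0)) (.node (.leaf 0) (.leaf 0))))) (.node (.node (.node (.node (.leaf 0) (.leaf 0)) (.node (.leaf 0) (.leaf 0))) (.node (.node (.leaf 0) (.leaf 0)) (.node (.leaf 0) (.leaf 0)))) (.node (.node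 (.node (.leaf 0) (.leaf 0)) (.node (.leaf 0) (.leaf 0))) (.node (.node (.leaf 0) (.leaf 0)) (.node (.leaf 0) (.leaf 0)))))))

/-- A line moved by an element, part 59. -/
def kMoverPart59 : Janko1.Tree ℕ := (.node (.node (.node (.node (.node (.node (.leaf 0) (.leaf 0)) (.node (.leaf 0) (.leaf 0))) (.node (.node (.leaf 0) (.leaf 0)) (.node (.leaf 0) (.leaf 0)))) (.node (.node (.node (.leaf 0) (.leaf 0)) (.node (.leaf 0) (.leaf 0))) (.node (.node (.leaf 0) (.leaf 0)) (.node (.leaf 0) (.leaf 0))))) (.node (.node (.node (.node (.leaf 0) (.leaf 0)) (.node (.leaf 0) (.leaf 0))) (.node (.node (.leaf 0) (.leaf 0)) (.node (.leaf 0) (.leaf 0)))) (.node (.node (.node (.leaf 0) (.leaf 0)) (.node (.leaf 0) (.leaf 0))) (.node (.node (.leaf 0) (.leaf 0)) (.node (.leaf 0) (.leaf 0)))))) (.node (.node (.node (.node (.node (.leaf 0) (.leaf 0)) (.node (.leaf 0) (.leaf 0))) (.node (.node (.leaf 0) (.leaf 0)) (.node (.leaf 0) (.leaf 0)))) (.node (.node (.node (.leaf 0) (.leaf 0)) (.node (.leaf 0) (.leaf 0))) (.node (.node (.leaf 0) (.leaf 0)) (.node (.leaf 0) (.leaf 0))))) (.node (.node (.node (.node (.leaf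 0) (.leaf 0)) (.node (.leaf 0) (.leaf 0))) (.node (.node (.leaf 0) (.leaf 0)) (.node (.leaf 0) (.leaf 0)))) (.node (.node (.node (.leaf 0) (.leaf 0)) (.node (.leaf 0) (.leaf 0))) (.node (.node (.leaf 0) (.leaf 0)) (.node (.leaf 0) (.leaf 0)))))))

/-- A line moved by an element, part 60. -/
def kMoverPart60 : Janko1.Tree ℕ := (.node (.node (.node (.node (.node (.node (.leaf 0) (.leaf 0)) (.node (.leaf 0) (.leaf 0))) (.node (.node (.leaf 0) (.leaf 0)) (.node (.leaf 0) (.leaf 0)))) (.node (.node (.node (.leaf 0) (.leaf 0)) (.node (.leaf 0) (.leaf 0))) (.node (.node (.leaf 0) (.leaf 0)) (.node (.leaf 0) (.leaf 0))))) (.node (.node (.node (.node (.leaf 0) (.leaf 0)) (.node (.leaf 0) (.leaf 0))) (.node (.node (.leaf 0) (.leaf 0)) (.node (.leaf 0) (.leaf 0)))) (.node (.node (.node (.leaf 0) (.leaf 0)) (.node (.leaf 0) (.leaf 0))) (.node (.node (.leaf 0) (.leaf 0)) (.node (.leaf 0) (.leaf 0)))))) (.node (.node (.node (.node (.node (.leaf 0) (.leaf 0)) (.node (.leaf 0) (.leaf 0))) (.node (.node (.leaf 0) (.leaf 0)) (.node (.leaf 0) (.leaf 0)))) (.node (.node (.node (.leaf 0) (.leaf 0)) (.node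 (.leaf 0) (.leaf 0))) (.node (.node (.leaf 0) (.leaf 0)) (.node (.leaf 0) (.leaf 0))))) (.node (.node (.node (.node (.leaf 0) (.leaf 0)) (.node (.leaf 0) (.leaf 0))) (.node (.node (.leaf 0) (.leaf 0)) (.node (.leaf 0) (.leaf 0)))) (.node (.node (.node (.leaf 0) (.leaf 0)) (.node (.leaf 0) (.leaf 0))) (.node (.node (.leaf 0) (.leaf 0)) (.node (.leaf 0) (.leaf 0)))))))

/-- A line moved by an element, part 61. -/
def kMoverPart61 : Janko1.Tree ℕ := (.node (.node (.node (.node (.node (.node (.leaf 0) (.leaf 0)) (.node (.leaf 0) (.leaf 0))) (.node (.node (.leaf 0) (.leaf 0)) (.node (.leaf 0) (.leaf 0)))) (.node (.node (.node (.leaf 0) (.leaf 0)) (.node (.leaf 0) (.leaf 0))) (.node (.node (.leaf 0) (.leaf 0)) (.node (.leaf 0) (.leaf 0))))) (.node (.node (.node (.node (.leaf 0) (.leaf 0)) (.node (.leaf 0) (.leaf 0))) (.node (.node (.leaf 0) (.leaf 0)) (.node (.leaf 0) (.leaf 0)))) (.node (.node (.node (.leaf 0) (.leaf 0)) (.node (.leaf 0) (.leaf 0))) (.node (.node (.leaf 0) (.leaf 0)) (.node (.leaf 0) (.leaf 0)))))) (.node (.node (.node (.node (.node (.leaf 0) (.leaf 0)) (.node (.leaf 0) (.leaf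 0))) (.node (.node (.leaf 0) (.leaf 0)) (.node (.leaf 0) (.leaf 0)))) (.node (.node (.node (.leaf 0) (.leaf 0)) (.node (.leaf 0) (.leaf 0))) (.node (.node (.leaf 0) (.leaf 0)) (.node (.leaf 0) (.leaf 0))))) (.node (.node (.node (.node (.leaf 0) (.leaf 0)) (.node (.leaf 0) (.leaf 0))) (.node (.node (.leaf 0) (.leaf 0)) (.node (.leaf 0) (.leaf 0)))) (.node (.node (.node (.leaf 0) (.leaf 0)) (.node (.leaf 0) (.leaf 0))) (.node (.node (.leaf 0) (.leaf 0)) (.node (.leaf 0) (.leaf 0)))))))

/-- A line moved by an element, part 62. -/
def kMoverPart62 : Janko1.Tree ℕ := (.node (.node (.node (.node (.node (.node (.leaf 0) (.leaf 0)) (.node (.leaf 0) (.leaf 0))) (.node (.node (.leaf 0) (.leaf 0)) (.node (.leaf 0) (.leaf 0)))) (.node (.node (.node (.leaf 0) (.leaf 0)) (.node (.leaf 0) (.leaf 0))) (.node (.node (.leaf 0) (.leaf 0)) (.node (.leaf 0) (.leaf 0))))) (.node (.node (.node (.node (.leaf 0) (.leaf 0)) (.node (.leaf 0) (.leaf 0))) (.node (.node (.leaf 0) (.leaf 0)) (.node (.leaf 0) (.leaf 0)))) (.node (.node (.node (.leaf 0) (.leaf 0)) (.node (.leaf 0) (.leaf 0))) (.node (.node (.leaf 0)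 (.leaf 0)) (.node (.leaf 0) (.leaf 0)))))) (.node (.node (.node (.node (.node (.leaf 0) (.leaf 0)) (.node (.leaf 0) (.leaf 0))) (.node (.node (.leaf 0) (.leaf 0)) (.node (.leaf 0) (.leaf 0)))) (.node (.node (.node (.leaf 0) (.leaf 0)) (.node (.leaf 0) (.leaf 0))) (.node (.node (.leaf 0) (.leaf 0)) (.node (.leaf 0) (.leaf 0))))) (.node (.node (.node (.node (.leaf 0) (.leaf 0)) (.node (.leaf 0) (.leaf 0))) (.node (.node (.leaf 0) (.leaf 0)) (.node (.leaf 0) (.leaf 0)))) (.node (.node (.node (.leaf 0) (.leaf 0)) (.node (.leaf 0) (.leaf 0))) (.node (.node (.leaf 0) (.leaf 0)) (.node (.leaf 0) (.leaf 0)))))))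

/-- A line moved by an element, part 63. -/
def kMoverPart63 : Janko1.Tree ℕ := (.node (.node (.node (.node (.node (.node (.leaf 0) (.leaf 0)) (.node (.leaf 0) (.leaf 0))) (.node (.node (.leaf 0) (.leaf 0)) (.node (.leaf 0) (.leaf 0)))) (.node (.node (.node (.leaf 0) (.leaf 0)) (.node (.leaf 0) (.leaf 0))) (.node (.node (.leaf 0) (.leaf 0)) (.node (.leaf 0) (.leaf 0))))) (.node (.node (.node (.node (.leaf 0) (.leaf 0)) (.node (.leaf 0) (.leaf 0))) (.node (.node (.leaf 0) (.leaf 0)) (.node (.leaf 0) (.leaf 0)))) (.node (.node (.node (.leaf 0) (.leaf 0)) (.node (.leaf 0) (.leaf 0))) (.node (.node (.leaf 0) (.leaf 0)) (.node (.leaf 0) (.leaf 0)))))) (.node (.node (.node (.node (.node (.leaf 0) (.leaf 0)) (.node (.leaf 0) (.leaf 0))) (.node (.node (.leaf 0) (.leaf 0)) (.node (.leaf 0) (.leaf 0)))) (.node (.node (.node (.leaf 0) (.leaf 0)) (.node (.leaf 0) (.leaf 0))) (.node (.node (.leaf 0) (.leaf 0)) (.node (.leaf 0) (.leaf 0))))) (.node (.node (.node (.node (.leaf 0) (.leaf 0)) (.node (.leaf 0) (.leaf 0))) (.node (.node (.leaf 0) (.leaf 0)) (.node (.leaf 0) (.leaf 0)))) (.node (.node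 (.node (.leaf 0) (.leaf 0)) (.node (.leaf 0) (.leaf 0))) (.node (.node (.leaf 0) (.leaf 0)) (.node (.leaf 0) (.leaf 0)))))))

/-- A line moved by an element, block 0. -/
def kMoverBlock0 : Janko1.Tree ℕ := (.node (.node (.node (.node (.node kMoverPart0 kMoverPart1) (.node kMoverPart2 kMoverPart3)) (.node (.node kMoverPart4 kMoverPart5) (.node kMoverPart6 kMoverPart7))) (.node (.node (.node kMoverPart8 kMoverPart9) (.node kMoverPart10 kMoverPart11)) (.node (.node kMoverPart12 kMoverPart13) (.node kMoverPart14 kMoverPart15)))) (.node (.node (.node (.node kMoverPart16 kMoverPart17) (.node kMoverPart18 kMoverPart19)) (.node (.node kMoverPart20 kMoverPart21) (.node kMoverPart22 kMoverPart23))) (.node (.node (.node kMoverPart24 kMoverPart25) (.node kMoverPart26 kMoverPart27)) (.node (.node kMoverPart28 kMoverPart29) (.node kMoverPart30 kMoverPart31)))))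

/-- A line moved by an element, block 1. -/
def kMoverBlock1 : Janko1.Tree ℕ := (.node (.node (.node (.node (.node kMoverPart32 kMoverPart33) (.node kMoverPart34 kMoverPart35)) (.node (.node kMoverPart36 kMoverPart37) (.node kMoverPart38 kMoverPart39))) (.node (.node (.node kMoverPart40 kMoverPart41) (.node kMoverPart42 kMoverPart43)) (.node (.node kMoverPart44 kMoverPart45) (.node kMoverPart46 kMoverPart47)))) (.node (.node (.node (.node kMoverPart48 kMoverPart49) (.node kMoverPart50 kMoverPart51)) (.node (.node kMoverPart52 kMoverPart53) (.node kMoverPart54 kMoverPart55))) (.node (.node (.node kMoverPart56 kMoverPart57) (.node kMoverPart58 kMoverPart59)) (.node (.node kMoverPart60 kMoverPart61) (.node kMoverPart62 kMoverPart63)))))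

/-- A line moved by an element. -/
def kMoverTree : Janko1.Tree ℕ := (.node kMoverBlock0 kMoverBlock1)

/-- A line moved by an element, by index. -/
def kMover (i : ℕ) : ℕ := kMoverTree.get 12 i

/-- Index of the first stabiliser generator. -/
def kGenA : ℕ := 520

/-- Index of the second stabiliser generator. -/
def kGenB : ℕ := 1769

/-- Index of the identity. -/
def kOne : ℕ := 12

/-- Schreier pair of the first generator. -/
def kSrcA : ℕ := 10788

/-- Schreier pair of the second generator. -/
def kSrcB : ℕ := 3955

/-- The code of the first group generator. -/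
def xCode : ℕ := 34437927984854584074524859150368680136269646080

/-- The code of the second group generator. -/
def yCode : ℕ := 1561058459287085174074785633843895267745595792

/-- A suborbit representative, part 0. -/
def repIdxPart0 : Janko1.Tree ℕ := (.node (.node (.node (.node (.node (.leaf 0) (.leaf 1)) (.node (.leaf 4) (.leaf 8))) (.node (.node (.leaf 9) (.leaf 10)) (.node (.leaf 12) (.leaf 13)))) (.node (.node (.node (.leaf 17) (.leaf 19)) (.node (.leaf 32) (.leaf 34))) (.node (.node (.leaf 78) (.leaf 168)) (.node (.leaf 175) (.leaf 178))))) (.node (.node (.node (.node (.leaf 179) (.leaf 186)) (.node (.leaf 188) (.leaf 196))) (.node (.node (.leaf 197) (.leaf 213)) (.node (.leaf 214) (.leaf 345)))) (.node (.node (.node (.leaf 347) (.leaf 392)) (.node (.leaf 435) (.leaf 436))) (.node (.node (.leaf 0) (.leaf 0)) (.node (.leaf 0) (.leaf 0))))))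

/-- A suborbit representative. -/
def repIdxTree : Janko1.Tree ℕ := repIdxPart0

/-- A suborbit representative, by index. -/
def repIdx (i : ℕ) : ℕ := repIdxTree.get 5 i

/-- The number of suborbits. -/
def numRep : ℕ := 28

/-- Index of the base line. -/
def tOne : ℕ := 0

/-- A defining generator, part 0. -/
def genCodePart0 : Janko1.Tree ℕ := (.node (.node (.node (.node (.node (.node (.leaf 1210107565283851686118401) (.leaf 2925857772772135150066342066286272728737304805377)) (.node (.leaf 2925857772772135150066340858541043610025145140225) (.leaf 2925860560365287560004886946310432006303883723777))) (.node (.node (.leaf 2923006062257616707413038538273747232490420961281) (.leaf 2857285700823270143724528486497422696668726273)) (.node (.leaf 2925860560365287560004885736202868976453183079425) (.leaf 2857285700823270143724529665934996010641129473)))) (.node (.node (.node (.leaf 2923006062257616707413039747198413924516549886977) (.leaf 2925860560365287562542664026844309775341898956801)) (.node (.leaf 2925860560365287562540190563437939543739207779328) (.leaf 2925860560365287560007364035314822382583442046976)))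 (.node (.node (.leaf 2925860560365284966394237177282133612353740080128) (.leaf 2925860560362629106551096611770701565366977429505)) (.node (.leaf 2925860557643028627175157528064285450922023191553) (.leaf 2925857772772137746214772542625906609713082008576))))) (.node (.node (.node (.node (.leaf 2923006064979875642780548663831230398599871332353) (.leaf 2857285703481726135296778082790218672138880001)) (.node (.leaf 1210107565283851686118401) (.leaf 1461501638692032385887438687164689509264143155716))) (.node (.node (.leaf 5708990776140751507373111964357478365106800642) (.leaf 365732221255902219521185930787304836589930217536)) (.node (.leaf 1298153442871853398703616588546304) (.leaf 689601926562231162448178728534144)))) (.node (.node (.node (.leaf 21799339130872620334530366487353142288392) (.leaf 174224571863530396823016114950666738204704)) (.node (.leaf 87112285936830849052296079348945720983568) (.leaf 604610528798100114378753))) (.node (.node (.leaf 153476983322603824381953) (.leaf 1210107565283851686118401)) (.node (.leaf 302250478249787735015425) (.leaf 19480050253860247191553)))))) (.node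 (.node (.node (.node (.node (.leaf 75853160267482155976705) (.leaf 9523133880129403551745)) (.node (.leaf 37818131268884947279873) (.leaf 1967309709124319630101505))) (.node (.node (.leaf 834827229618732556360705) (.leaf 1892783774330118428726273)) (.node (.leaf 66798833503918511824897) (.leaf 359034458751800969355265)))) (.node (.node (.node (.leaf 1437223999942942727378945) (.leaf 350107962032182110928897)) (.node (.leaf 331274126670085407006721) (.leaf 0))) (.node (.node (.leaf 0) (.leaf 0)) (.node (.leaf 0) (.leaf 0))))) (.node (.node (.node (.node (.leaf 0) (.leaf 0)) (.node (.leaf 0) (.leaf 0))) (.node (.node (.leaf 0) (.leaf 0)) (.node (.leaf 0) (.leaf 0)))) (.node (.node (.node (.leaf 0) (.leaf 0)) (.node (.leaf 0) (.leaf 0))) (.node (.node (.leaf 0) (.leaf 0)) (.node (.leaf 0) (.leaf 0)))))))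

/-- A defining generator. -/
def genCodeTree : Janko1.Tree ℕ := genCodePart0

/-- A defining generator, by index. -/
def genCode (i : ℕ) : ℕ := genCodeTree.get 6 i

/-- The inverse of a defining generator, part 0. -/
def genInvPart0 : Janko1.Tree ℕ := (.node (.node (.node (.node (.node (.node (.leaf 1210107565283851686118401) (.leaf 2925857772772135150066340858541043610025145140225)) (.node (.leaf 2925857772772135150066342066286272728737304805377) (.leaf 2925860560365287560004885736202868976453183079425))) (.node (.node (.leaf 2923006062257616707413039747198413924516549886977) (.leaf 2857285700823270143724529665934996010641129473)) (.node (.leaf 2925860560365287560004886946310432006303883723777) (.leaf 2857285700823270143724528486497422696668726273)))) (.node (.node (.node (.leaf 2923006062257616707413038538273747232490420961281) (.leaf 2925860560365287562542662816739050334501576115201)) (.node (.leaf 2925860560365287562540189355691557503521369621505) (.leaf 2925860560365287560007365243058898579789920076801))) (.node (.node (.leaf 2925860560365284966394235967176876425511178338305) (.leaf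 2925860560362629106551095404024321775851586716672)) (.node (.leaf 2925860557643028627175158735808360524429766164480) (.leaf 2925857772772137746214773752732316718061322240001))))) (.node (.node (.node (.node (.leaf 2923006064979875642780549872758201809932182881280) (.leaf 2857285703481726135296779264535885693479550976)) (.node (.leaf 1210107565283851686118401) (.leaf 5708990776140751507373111964357478365106800642))) (.node (.node (.leaf 1461501638692032385887438687164689509264143155716) (.leaf 21799339130872620334530366487353142288392)) (.node (.leaf 87112285936830849052296079348945720983568) (.leaf 174224571863530396823016114950666738204704)))) (.node (.node (.node (.leaf 365732221255902219521185930787304836589930217536) (.leaf 689601926562231162448178728534144)) (.node (.leaf 1298153442871853398703616588546304) (.leaf 153476983322603824381953))) (.node (.node (.leaf 604610528798100114378753) (.leaf 1210107565283851686118401)) (.node (.leaf 9523133880129403551745) (.leaf 37818131268884947279873)))))) (.node (.node (.node (.node (.node (.leaf 75853160267482155976705) (.leaf 302250478249787735015425))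 (.node (.leaf 19480050253860247191553) (.leaf 1967309709124319630101505))) (.node (.node (.leaf 834827229618732556360705) (.leaf 1892783774330118428726273)) (.node (.leaf 66798833503918511824897) (.leaf 359034458751800969355265)))) (.node (.node (.node (.leaf 1437223999942942727378945) (.leaf 350107962032182110928897)) (.node (.leaf 331274126670085407006721) (.leaf 0))) (.node (.node (.leaf 0) (.leaf 0)) (.node (.leaf 0) (.leaf 0))))) (.node (.node (.node (.node (.leaf 0) (.leaf 0)) (.node (.leaf 0) (.leaf 0))) (.node (.node (.leaf 0) (.leaf 0)) (.node (.leaf 0) (.leaf 0)))) (.node (.node (.node (.leaf 0) (.leaf 0)) (.node (.leaf 0) (.leaf 0))) (.node (.node (.leaf 0) (.leaf 0)) (.node (.leaf 0) (.leaf 0)))))))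

/-- The inverse of a defining generator. -/
def genInvTree : Janko1.Tree ℕ := genInvPart0

/-- The inverse of a defining generator, by index. -/
def genInv (i : ℕ) : ℕ := genInvTree.get 6 i

/-- Decomposition of a defining generator, part 0. -/
def genDecPart0 : Janko1.Tree ℕ := (.node (.node (.node (.node (.node (.node (.leaf 48) (.leaf 1326)) (.node (.leaf 1321) (.leaf 110))) (.node (.node (.leaf 1357) (.leaf 1344)) (.node (.leaf 105) (.leaf 1348)))) (.node (.node (.node (.leaf 1354) (.leaf 342)) (.node (.leaf 1302) (.leaf 1329))) (.node (.node (.leaf 358) (.leaf 1318)) (.node (.leaf 1337) (.leaf 349))))) (.node (.node (.node (.node (.leaf 1309) (.leaf 1360)) (.node (.leaf 48) (.leaf 17345))) (.node (.node (.leaf 37576) (.leaf 54240)) (.node (.leaf 114953) (.leaf 236924)))) (.node (.node (.node (.leaf 396314) (.leaf 729100)) (.node (.leaf 1382972) (.leaf 40))) (.node (.node (.leaf 20) (.leaf 48)) (.node (.leaf 24) (.leaf 4)))))) (.node (.node (.node (.node (.node (.leaf 16) (.leaf 0)) (.node (.leaf 8) (.leaf 60))) (.node (.node (.leaf 44) (.leaf 56)) (.node (.leaf 12) (.leaf 36))))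 (.node (.node (.node (.leaf 52) (.leaf 32)) (.node (.leaf 28) (.leaf 0))) (.node (.node (.leaf 0) (.leaf 0)) (.node (.leaf 0) (.leaf 0))))) (.node (.node (.node (.node (.leaf 0) (.leaf 0)) (.node (.leaf 0) (.leaf 0))) (.node (.node (.leaf 0) (.leaf 0)) (.node (.leaf 0) (.leaf 0)))) (.node (.node (.node (.leaf 0) (.leaf 0)) (.node (.leaf 0) (.leaf 0))) (.node (.node (.leaf 0) (.leaf 0)) (.node (.leaf 0) (.leaf 0)))))))

/-- Decomposition of a defining generator. -/
def genDecTree : Janko1.Tree ℕ := genDecPart0

/-- Decomposition of a defining generator, by index. -/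
def genDec (i : ℕ) : ℕ := genDecTree.get 6 i

end Cfsg.Agent.Janko3
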