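/-
Points of a block containing two given points.
-/
import Cfsg.Agent.Janko1.Calc

set_option autoImplicit false

namespace Cfsg.Agent.Janko3

open Cfsg.Agent.Janko1

/-- A point of the block, part 0. -/
def ptCodePart0 : Janko1.Tree ℕ := (.node (.node (.node (.node (.node (.node (.leaf 0) (.leaf 0)) (.node (.leaf 0) (.leaf 0))) (.node (.node (.leaf 0) (.leaf 0)) (.node (.leaf 0) (.leaf 0)))) (.node (.node (.node (.leaf 0) (.leaf 0)) (.node (.leaf 0) (.leaf 0))) (.node (.node (.leaf 0) (.leaf 0)) (.node (.leaf 0) (.leaf 0))))) (.node (.node (.node (.node (.leaf 0) (.leaf 0)) (.node (.leaf 0) (.leaf 0))) (.node (.node (.leaf 0) (.leaf 0)) (.node (.leaf 0) (.leaf 0)))) (.node (.node (.node (.leaf 0) (.leaf 0)) (.node (.leaf 0) (.leaf 0))) (.node (.node (.leaf 0) (.leaf 0)) (.node (.leaf 0) (.leaf 0)))))) (.node (.node (.node (.node (.node (.leaf 0) (.leaf 0)) (.node (.leaf 0) (.leaf 0))) (.node (.node (.leaf 0) (.leaf 0)) (.node (.leaf 0) (.leaf 0)))) (.node (.node (.node (.leaf 0) (.leaf 0)) (.node (.leaf 0)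 (.leaf 0))) (.node (.node (.leaf 0) (.leaf 0)) (.node (.leaf 0) (.leaf 0))))) (.node (.node (.node (.node (.leaf 0) (.leaf 0)) (.node (.leaf 0) (.leaf 0))) (.node (.node (.leaf 0) (.leaf 0)) (.node (.leaf 0) (.leaf 0)))) (.node (.node (.node (.leaf 0) (.leaf 0)) (.node (.leaf 0) (.leaf 0))) (.node (.node (.leaf 0) (.leaf 0)) (.node (.leaf 0) (.leaf 0)))))))

/-- A point of the block, part 1. -/
def ptCodePart1 : Janko1.Tree ℕ := (.node (.node (.node (.node (.node (.node (.leaf 0) (.leaf 0)) (.node (.leaf 0) (.leaf 0))) (.node (.node (.leaf 0) (.leaf 0)) (.node (.leaf 0) (.leaf 0)))) (.node (.node (.node (.leaf 0) (.leaf 0)) (.node (.leaf 0) (.leaf 0))) (.node (.node (.leaf 0) (.leaf 0)) (.node (.leaf 0) (.leaf 0))))) (.node (.node (.node (.node (.leaf 0) (.leaf 0)) (.node (.leaf 0) (.leaf 0))) (.node (.node (.leaf 0) (.leaf 0)) (.node (.leaf 0) (.leaf 0)))) (.node (.node (.node (.leaf 0) (.leaf 0)) (.node (.leaf 0) (.leaf 0))) (.node (.node (.leaf 0) (.leaf 0)) (.node (.leaf 0) (.leaf 0)))))) (.node (.node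 (.node (.node (.node (.leaf 0) (.leaf 0)) (.node (.leaf 0) (.leaf 0))) (.node (.node (.leaf 0) (.leaf 0)) (.node (.leaf 0) (.leaf 0)))) (.node (.node (.node (.leaf 0) (.leaf 0)) (.node (.leaf 0) (.leaf 0))) (.node (.node (.leaf 0) (.leaf 0)) (.node (.leaf 0) (.leaf 0))))) (.node (.node (.node (.node (.leaf 0) (.leaf 0)) (.node (.leaf 0) (.leaf 0))) (.node (.node (.leaf 0) (.leaf 0)) (.node (.leaf 0) (.leaf 0)))) (.node (.node (.node (.leaf 0) (.leaf 0)) (.node (.leaf 0) (.leaf 0))) (.node (.node (.leaf 0) (.leaf 0)) (.node (.leaf 0) (.leaf 0)))))))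

/-- A point of the block, part 2. -/
def ptCodePart2 : Janko1.Tree ℕ := (.node (.node (.node (.node (.node (.node (.leaf 0) (.leaf 0)) (.node (.leaf 0) (.leaf 0))) (.node (.node (.leaf 0) (.leaf 0)) (.node (.leaf 0) (.leaf 0)))) (.node (.node (.node (.leaf 0) (.leaf 0)) (.node (.leaf 0) (.leaf 0))) (.node (.node (.leaf 0) (.leaf 0)) (.node (.leaf 0) (.leaf 0))))) (.node (.node (.node (.node (.leaf 0) (.leaf 0)) (.node (.leaf 0) (.leaf 0))) (.node (.node (.leaf 0) (.leaf 0)) (.node (.leaf 0) (.leaf 0)))) (.node (.node (.node (.leaf 0) (.leaf 0)) (.node (.leaf 0) (.leaf 0))) (.node (.node (.leaf 0) (.leaf 0)) (.node (.leaf 0) (.leaf 0)))))) (.node (.node (.node (.node (.node (.leaf 0) (.leaf 0)) (.node (.leaf 0) (.leaf 0))) (.node (.node (.leaf 0) (.leaf 0)) (.node (.leaf 0) (.leaf 0)))) (.node (.node (.node (.leaf 0) (.leaf 0)) (.node (.leaf 0) (.leaf 0))) (.node (.node (.leaf 0) (.leaf 0)) (.node (.leaf 0) (.leaf 0))))) (.node (.node (.node (.node (.leaf 0) (.leaf 0)) (.node (.leaf 0) (.leaf 0))) (.node (.node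 (.leaf 0) (.leaf 0)) (.node (.leaf 0) (.leaf 0)))) (.node (.node (.node (.leaf 0) (.leaf 0)) (.node (.leaf 0) (.leaf 0))) (.node (.node (.leaf 0) (.leaf 0)) (.node (.leaf 0) (.leaf 0)))))))

/-- A point of the block, part 3. -/
def ptCodePart3 : Janko1.Tree ℕ := (.node (.node (.node (.node (.node (.node (.leaf 0) (.leaf 0)) (.node (.leaf 0) (.leaf 0))) (.node (.node (.leaf 0) (.leaf 0)) (.node (.leaf 0) (.leaf 0)))) (.node (.node (.node (.leaf 0) (.leaf 0)) (.node (.leaf 0) (.leaf 0))) (.node (.node (.leaf 0) (.leaf 0)) (.node (.leaf 0) (.leaf 0))))) (.node (.node (.node (.node (.leaf 0) (.leaf 0)) (.node (.leaf 0) (.leaf 0))) (.node (.node (.leaf 0) (.leaf 0)) (.node (.leaf 0) (.leaf 0)))) (.node (.node (.node (.leaf 0) (.leaf 0)) (.node (.leaf 0) (.leaf 0))) (.node (.node (.leaf 0) (.leaf 0)) (.node (.leaf 0) (.leaf 0)))))) (.node (.node (.node (.node (.node (.leaf 0) (.leaf 0)) (.node (.leaf 0) (.leaf 0))) (.node (.node (.leaf 0) (.leaf 0)) (.node (.leaf 0) (.leaf 0)))) (.node (.node (.node (.leaf 0) (.leaf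 0)) (.node (.leaf 0) (.leaf 0))) (.node (.node (.leaf 0) (.leaf 0)) (.node (.leaf 0) (.leaf 0))))) (.node (.node (.node (.node (.leaf 0) (.leaf 0)) (.node (.leaf 0) (.leaf 0))) (.node (.node (.leaf 0) (.leaf 0)) (.node (.leaf 0) (.leaf 0)))) (.node (.node (.node (.leaf 0) (.leaf 0)) (.node (.leaf 0) (.leaf 0))) (.node (.node (.leaf 0) (.leaf 0)) (.node (.leaf 0) (.leaf 0)))))))

/-- A point of the block, part 4. -/
def ptCodePart4 : Janko1.Tree ℕ := (.node (.node (.node (.node (.node (.node (.leaf 0) (.leaf 0)) (.node (.leaf 0) (.leaf 0))) (.node (.node (.leaf 0) (.leaf 0)) (.node (.leaf 0) (.leaf 0)))) (.node (.node (.node (.leaf 0) (.leaf 0)) (.node (.leaf 0) (.leaf 0))) (.node (.node (.leaf 0) (.leaf 0)) (.node (.leaf 0) (.leaf 0))))) (.node (.node (.node (.node (.leaf 0) (.leaf 0)) (.node (.leaf 0) (.leaf 0))) (.node (.node (.leaf 0) (.leaf 0)) (.node (.leaf 0) (.leaf 0)))) (.node (.node (.node (.leaf 0) (.leaf 0)) (.node (.leaf 0) (.leaf 0))) (.node (.node (.leaf 0) (.leaf 0)) (.node (.leaf 0) (.leaf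 0)))))) (.node (.node (.node (.node (.node (.leaf 0) (.leaf 0)) (.node (.leaf 0) (.leaf 0))) (.node (.node (.leaf 0) (.leaf 0)) (.node (.leaf 0) (.leaf 0)))) (.node (.node (.node (.leaf 0) (.leaf 0)) (.node (.leaf 0) (.leaf 0))) (.node (.node (.leaf 0) (.leaf 0)) (.node (.leaf 0) (.leaf 0))))) (.node (.node (.node (.node (.leaf 0) (.leaf 0)) (.node (.leaf 0) (.leaf 0))) (.node (.node (.leaf 0) (.leaf 0)) (.node (.leaf 0) (.leaf 0)))) (.node (.node (.node (.leaf 0) (.leaf 0)) (.node (.leaf 0) (.leaf 0))) (.node (.node (.leaf 0) (.leaf 0)) (.node (.leaf 0) (.leaf 0)))))))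

/-- A point of the block, part 5. -/
def ptCodePart5 : Janko1.Tree ℕ := (.node (.node (.node (.node (.node (.node (.leaf 0) (.leaf 0)) (.node (.leaf 0) (.leaf 0))) (.node (.node (.leaf 0) (.leaf 0)) (.node (.leaf 0) (.leaf 0)))) (.node (.node (.node (.leaf 0) (.leaf 0)) (.node (.leaf 0) (.leaf 0))) (.node (.node (.leaf 0) (.leaf 0)) (.node (.leaf 0) (.leaf 0))))) (.node (.node (.node (.node (.leaf 0) (.leaf 0)) (.node (.leaf 0) (.leaf 0))) (.node (.node (.leaf 0) (.leaf 0)) (.node (.leaf 0) (.leaf 0)))) (.node (.node (.node (.leaf 0) (.leaf 0)) (.node (.leaf 0) (.leaf 0))) (.node (.node (.leaf 0) (.leaf 0)) (.node (.leaf 0) (.leaf 0)))))) (.node (.node (.node (.node (.node (.leaf 0) (.leaf 0)) (.node (.leaf 0) (.leaf 0))) (.node (.node (.leaf 0) (.leaf 0)) (.node (.leaf 0) (.leaf 0)))) (.node (.node (.node (.leaf 0) (.leaf 0)) (.node (.leaf 0) (.leaf 0))) (.node (.node (.leaf 0) (.leaf 0)) (.node (.leaf 0) (.leaf 0))))) (.node (.node (.node (.node (.leaf 0) (.leaf 0)) (.node (.leaf 0) (.leaf 0))) (.node (.node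 (.leaf 0) (.leaf 0)) (.node (.leaf 0) (.leaf 0)))) (.node (.node (.node (.leaf 0) (.leaf 0)) (.node (.leaf 0) (.leaf 0))) (.node (.node (.leaf 0) (.leaf 0)) (.node (.leaf 0) (.leaf 0)))))))

/-- A point of the block, part 6. -/
def ptCodePart6 : Janko1.Tree ℕ := (.node (.node (.node (.node (.node (.node (.leaf 0) (.leaf 0)) (.node (.leaf 0) (.leaf 0))) (.node (.node (.leaf 0) (.leaf 0)) (.node (.leaf 0) (.leaf 0)))) (.node (.node (.node (.leaf 0) (.leaf 0)) (.node (.leaf 0) (.leaf 0))) (.node (.node (.leaf 0) (.leaf 0)) (.node (.leaf 0) (.leaf 0))))) (.node (.node (.node (.node (.leaf 0) (.leaf 0)) (.node (.leaf 0) (.leaf 0))) (.node (.node (.leaf 0) (.leaf 0)) (.node (.leaf 0) (.leaf 0)))) (.node (.node (.node (.leaf 0) (.leaf 0)) (.node (.leaf 0) (.leaf 0))) (.node (.node (.leaf 0) (.leaf 0)) (.node (.leaf 0) (.leaf 0)))))) (.node (.node (.node (.node (.node (.leaf 0) (.leaf 0)) (.node (.leaf 0) (.leaf 0))) (.node (.node (.leaf 0) (.leaf 0)) (.node (.leaf 0) (.leaf 0)))) (.node (.node (.node (.leaf 0) (.leaf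 0)) (.node (.leaf 0) (.leaf 0))) (.node (.node (.leaf 0) (.leaf 0)) (.node (.leaf 0) (.leaf 0))))) (.node (.node (.node (.node (.leaf 0) (.leaf 0)) (.node (.leaf 0) (.leaf 0))) (.node (.node (.leaf 0) (.leaf 0)) (.node (.leaf 0) (.leaf 0)))) (.node (.node (.node (.leaf 0) (.leaf 0)) (.node (.leaf 0) (.leaf 0))) (.node (.node (.leaf 0) (.leaf 0)) (.node (.leaf 0) (.leaf 0)))))))

/-- A point of the block, part 7. -/
def ptCodePart7 : Janko1.Tree ℕ := (.node (.node (.node (.node (.node (.node (.leaf 0) (.leaf 0)) (.node (.leaf 0) (.leaf 0))) (.node (.node (.leaf 0) (.leaf 0)) (.node (.leaf 0) (.leaf 0)))) (.node (.node (.node (.leaf 0) (.leaf 0)) (.node (.leaf 0) (.leaf 0))) (.node (.node (.leaf 0) (.leaf 0)) (.node (.leaf 0) (.leaf 0))))) (.node (.node (.node (.node (.leaf 0) (.leaf 0)) (.node (.leaf 0) (.leaf 0))) (.node (.node (.leaf 0) (.leaf 0)) (.node (.leaf 0) (.leaf 0)))) (.node (.node (.node (.leaf 0) (.leaf 0)) (.node (.leaf 0) (.leaf 0))) (.node (.node (.leaf 0) (.leaf 0)) (.node (.leaf 0) (.leaf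 0)))))) (.node (.node (.node (.node (.node (.leaf 0) (.leaf 0)) (.node (.leaf 0) (.leaf 0))) (.node (.node (.leaf 0) (.leaf 0)) (.node (.leaf 0) (.leaf 0)))) (.node (.node (.node (.leaf 0) (.leaf 0)) (.node (.leaf 0) (.leaf 0))) (.node (.node (.leaf 0) (.leaf 0)) (.node (.leaf 0) (.leaf 0))))) (.node (.node (.node (.node (.leaf 0) (.leaf 0)) (.node (.leaf 0) (.leaf 0))) (.node (.node (.leaf 0) (.leaf 0)) (.node (.leaf 0) (.leaf 0)))) (.node (.node (.node (.leaf 0) (.leaf 0)) (.node (.leaf 0) (.leaf 0))) (.node (.node (.leaf 0) (.leaf 0)) (.node (.leaf 0) (.leaf 0)))))))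

/-- A point of the block, part 8. -/
def ptCodePart8 : Janko1.Tree ℕ := (.node (.node (.node (.node (.node (.node (.leaf 0) (.leaf 0)) (.node (.leaf 0) (.leaf 0))) (.node (.node (.leaf 0) (.leaf 0)) (.node (.leaf 0) (.leaf 0)))) (.node (.node (.node (.leaf 0) (.leaf 0)) (.node (.leaf 0) (.leaf 0))) (.node (.node (.leaf 0) (.leaf 0)) (.node (.leaf 0) (.leaf 0))))) (.node (.node (.node (.node (.leaf 0) (.leaf 0)) (.node (.leaf 0) (.leaf 0))) (.node (.node (.leaf 0) (.leaf 0)) (.node (.leaf 0) (.leaf 0)))) (.node (.node (.node (.leaf 0) (.leaf 0)) (.node (.leaf 0) (.leaf 0))) (.node (.node (.leaf 0) (.leaf 0)) (.node (.leaf 0) (.leaf 0)))))) (.node (.node (.node (.node (.node (.leaf 0) (.leaf 0)) (.node (.leaf 0) (.leaf 0))) (.node (.node (.leaf 0) (.leaf 0)) (.node (.leaf 0) (.leaf 0)))) (.node (.node (.node (.leaf 0) (.leaf 0)) (.node (.leaf 0) (.leaf 0))) (.node (.node (.leaf 0) (.leaf 0)) (.node (.leaf 0) (.leaf 0))))) (.node (.node (.node (.node (.leaf 0) (.leaf 0)) (.node (.leaf 0) (.leaf 0))) (.node (.node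 (.leaf 0) (.leaf 0)) (.node (.leaf 0) (.leaf 0)))) (.node (.node (.node (.leaf 0) (.leaf 0)) (.node (.leaf 0) (.leaf 0))) (.node (.node (.leaf 0) (.leaf 0)) (.node (.leaf 0) (.leaf 0)))))))

/-- A point of the block, part 9. -/
def ptCodePart9 : Janko1.Tree ℕ := (.node (.node (.node (.node (.node (.node (.leaf 0) (.leaf 0)) (.node (.leaf 0) (.leaf 0))) (.node (.node (.leaf 0) (.leaf 0)) (.node (.leaf 0) (.leaf 0)))) (.node (.node (.node (.leaf 0) (.leaf 0)) (.node (.leaf 0) (.leaf 0))) (.node (.node (.leaf 0) (.leaf 0)) (.node (.leaf 0) (.leaf 0))))) (.node (.node (.node (.node (.leaf 0) (.leaf 0)) (.node (.leaf 0) (.leaf 0))) (.node (.node (.leaf 0) (.leaf 0)) (.node (.leaf 0) (.leaf 0)))) (.node (.node (.node (.leaf 0) (.leaf 0)) (.node (.leaf 0) (.leaf 0))) (.node (.node (.leaf 0) (.leaf 0)) (.node (.leaf 0) (.leaf 0)))))) (.node (.node (.node (.node (.node (.leaf 0) (.leaf 0)) (.node (.leaf 0) (.leaf 0))) (.node (.node (.leaf 0) (.leaf 0)) (.node (.leaf 0) (.leaf 0)))) (.node (.node (.node (.leaf 0) (.leaf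 0)) (.node (.leaf 0) (.leaf 0))) (.node (.node (.leaf 0) (.leaf 0)) (.node (.leaf 0) (.leaf 0))))) (.node (.node (.node (.node (.leaf 0) (.leaf 0)) (.node (.leaf 0) (.leaf 0))) (.node (.node (.leaf 0) (.leaf 0)) (.node (.leaf 0) (.leaf 0)))) (.node (.node (.node (.leaf 0) (.leaf 0)) (.node (.leaf 0) (.leaf 0))) (.node (.node (.leaf 0) (.leaf 0)) (.node (.leaf 0) (.leaf 0)))))))

/-- A point of the block, part 10. -/
def ptCodePart10 : Janko1.Tree ℕ := (.node (.node (.node (.node (.node (.node (.leaf 0) (.leaf 0)) (.node (.leaf 0) (.leaf 0))) (.node (.node (.leaf 0) (.leaf 0)) (.node (.leaf 0) (.leaf 0)))) (.node (.node (.node (.leaf 0) (.leaf 0)) (.node (.leaf 0) (.leaf 0))) (.node (.node (.leaf 0) (.leaf 0)) (.node (.leaf 0) (.leaf 0))))) (.node (.node (.node (.node (.leaf 0) (.leaf 0)) (.node (.leaf 0) (.leaf 0))) (.node (.node (.leaf 0) (.leaf 0)) (.node (.leaf 0) (.leaf 0)))) (.node (.node (.node (.leaf 0) (.leaf 0)) (.node (.leaf 0) (.leaf 0))) (.node (.node (.leaf 0) (.leaf 0)) (.node (.leaf 0) (.leaf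 0)))))) (.node (.node (.node (.node (.node (.leaf 0) (.leaf 0)) (.node (.leaf 0) (.leaf 0))) (.node (.node (.leaf 0) (.leaf 0)) (.node (.leaf 0) (.leaf 0)))) (.node (.node (.node (.leaf 0) (.leaf 0)) (.node (.leaf 0) (.leaf 0))) (.node (.node (.leaf 0) (.leaf 0)) (.node (.leaf 0) (.leaf 0))))) (.node (.node (.node (.node (.leaf 0) (.leaf 0)) (.node (.leaf 0) (.leaf 0))) (.node (.node (.leaf 0) (.leaf 0)) (.node (.leaf 0) (.leaf 0)))) (.node (.node (.node (.leaf 0) (.leaf 0)) (.node (.leaf 0) (.leaf 0))) (.node (.node (.leaf 0) (.leaf 0)) (.node (.leaf 0) (.leaf 0)))))))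

/-- A point of the block, part 11. -/
def ptCodePart11 : Janko1.Tree ℕ := (.node (.node (.node (.node (.node (.node (.leaf 0) (.leaf 0)) (.node (.leaf 0) (.leaf 0))) (.node (.node (.leaf 0) (.leaf 0)) (.node (.leaf 0) (.leaf 0)))) (.node (.node (.node (.leaf 0) (.leaf 0)) (.node (.leaf 0) (.leaf 0))) (.node (.node (.leaf 0) (.leaf 0)) (.node (.leaf 0) (.leaf 0))))) (.node (.node (.node (.node (.leaf 0) (.leaf 0)) (.node (.leaf 0) (.leaf 0))) (.node (.node (.leaf 0) (.leaf 0)) (.node (.leaf 0) (.leaf 0)))) (.node (.node (.node (.leaf 0) (.leaf 0)) (.node (.leaf 0) (.leaf 0))) (.node (.node (.leaf 0) (.leaf 0)) (.node (.leaf 0) (.leaf 0)))))) (.node (.node (.node (.node (.node (.leaf 0) (.leaf 0)) (.node (.leaf 0) (.leaf 0))) (.node (.node (.leaf 0) (.leaf 0)) (.node (.leaf 0) (.leaf 0)))) (.node (.node (.node (.leaf 0) (.leaf 0)) (.node (.leaf 0) (.leaf 0))) (.node (.node (.leaf 0) (.leaf 0)) (.node (.leaf 0) (.leaf 0))))) (.node (.node (.node (.node (.leaf 0) (.leaf 0)) (.node (.leaf 0) (.leaf 0))) (.node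 (.node (.leaf 0) (.leaf 0)) (.node (.leaf 0) (.leaf 0)))) (.node (.node (.node (.leaf 0) (.leaf 0)) (.node (.leaf 0) (.leaf 0))) (.node (.node (.leaf 0) (.leaf 0)) (.node (.leaf 0) (.leaf 0)))))))

/-- A point of the block, part 12. -/
def ptCodePart12 : Janko1.Tree ℕ := (.node (.node (.node (.node (.node (.node (.leaf 0) (.leaf 0)) (.node (.leaf 0) (.leaf 0))) (.node (.node (.leaf 0) (.leaf 0)) (.node (.leaf 0) (.leaf 0)))) (.node (.node (.node (.leaf 0) (.leaf 0)) (.node (.leaf 0) (.leaf 0))) (.node (.node (.leaf 0) (.leaf 0)) (.node (.leaf 0) (.leaf 0))))) (.node (.node (.node (.node (.leaf 0) (.leaf 0)) (.node (.leaf 0) (.leaf 0))) (.node (.node (.leaf 0) (.leaf 0)) (.node (.leaf 0) (.leaf 0)))) (.node (.node (.node (.leaf 0) (.leaf 0)) (.node (.leaf 0) (.leaf 0))) (.node (.node (.leaf 0) (.leaf 0)) (.node (.leaf 0) (.leaf 0)))))) (.node (.node (.node (.node (.node (.leaf 0) (.leaf 0)) (.node (.leaf 0) (.leaf 0))) (.node (.node (.leaf 0) (.leaf 0)) (.node (.leaf 0) (.leaf 0)))) (.node (.node (.node (.leaf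 0) (.leaf 0)) (.node (.leaf 0) (.leaf 0))) (.node (.node (.leaf 0) (.leaf 0)) (.node (.leaf 0) (.leaf 0))))) (.node (.node (.node (.node (.leaf 0) (.leaf 0)) (.node (.leaf 0) (.leaf 0))) (.node (.node (.leaf 0) (.leaf 0)) (.node (.leaf 0) (.leaf 0)))) (.node (.node (.node (.leaf 0) (.leaf 0)) (.node (.leaf 0) (.leaf 0))) (.node (.node (.leaf 0) (.leaf 0)) (.node (.leaf 0) (.leaf 0)))))))

/-- A point of the block, part 13. -/
def ptCodePart13 : Janko1.Tree ℕ := (.node (.node (.node (.node (.node (.node (.leaf 0) (.leaf 0)) (.node (.leaf 0) (.leaf 0))) (.node (.node (.leaf 0) (.leaf 0)) (.node (.leaf 0) (.leaf 0)))) (.node (.node (.node (.leaf 0) (.leaf 0)) (.node (.leaf 0) (.leaf 0))) (.node (.node (.leaf 0) (.leaf 0)) (.node (.leaf 0) (.leaf 0))))) (.node (.node (.node (.node (.leaf 0) (.leaf 0)) (.node (.leaf 0) (.leaf 0))) (.node (.node (.leaf 0) (.leaf 0)) (.node (.leaf 0) (.leaf 0)))) (.node (.node (.node (.leaf 0) (.leaf 0)) (.node (.leaf 0) (.leaf 0))) (.node (.node (.leaf 0) (.leaf 0)) (.node (.leaf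 0) (.leaf 0)))))) (.node (.node (.node (.node (.node (.leaf 0) (.leaf 0)) (.node (.leaf 0) (.leaf 0))) (.node (.node (.leaf 0) (.leaf 0)) (.node (.leaf 0) (.leaf 0)))) (.node (.node (.node (.leaf 0) (.leaf 0)) (.node (.leaf 0) (.leaf 0))) (.node (.node (.leaf 0) (.leaf 0)) (.node (.leaf 0) (.leaf 0))))) (.node (.node (.node (.node (.leaf 0) (.leaf 0)) (.node (.leaf 0) (.leaf 0))) (.node (.node (.leaf 0) (.leaf 0)) (.node (.leaf 0) (.leaf 0)))) (.node (.node (.node (.leaf 0) (.leaf 0)) (.node (.leaf 0) (.leaf 0))) (.node (.node (.leaf 0) (.leaf 0)) (.node (.leaf 0) (.leaf 0)))))))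

/-- A point of the block, part 14. -/
def ptCodePart14 : Janko1.Tree ℕ := (.node (.node (.node (.node (.node (.node (.leaf 0) (.leaf 0)) (.node (.leaf 0) (.leaf 0))) (.node (.node (.leaf 0) (.leaf 0)) (.node (.leaf 0) (.leaf 0)))) (.node (.node (.node (.leaf 0) (.leaf 0)) (.node (.leaf 0) (.leaf 0))) (.node (.node (.leaf 0) (.leaf 0)) (.node (.leaf 0) (.leaf 0))))) (.node (.node (.node (.node (.leaf 0) (.leaf 0)) (.node (.leaf 0) (.leaf 0))) (.node (.node (.leaf 0) (.leaf 0)) (.node (.leaf 0) (.leaf 0)))) (.node (.node (.node (.leaf 0) (.leaf 0)) (.node (.leaf 0) (.leaf 0))) (.node (.node (.leaf 0) (.leaf 0)) (.node (.leaf 0) (.leaf 0)))))) (.node (.node (.node (.node (.node (.leaf 0) (.leaf 0)) (.node (.leaf 0) (.leaf 0))) (.node (.node (.leaf 0) (.leaf 0)) (.node (.leaf 0) (.leaf 0)))) (.node (.node (.node (.leaf 0) (.leaf 0)) (.node (.leaf 0) (.leaf 0))) (.node (.node (.leaf 0) (.leaf 0)) (.node (.leaf 0) (.leaf 0))))) (.node (.node (.node (.node (.leaf 0) (.leaf 0)) (.node (.leaf 0) (.leaf 0))) (.node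 (.node (.leaf 0) (.leaf 0)) (.node (.leaf 0) (.leaf 0)))) (.node (.node (.node (.leaf 0) (.leaf 0)) (.node (.leaf 0) (.leaf 0))) (.node (.node (.leaf 0) (.leaf 0)) (.node (.leaf 0) (.leaf 0)))))))

/-- A point of the block, part 15. -/
def ptCodePart15 : Janko1.Tree ℕ := (.node (.node (.node (.node (.node (.node (.leaf 0) (.leaf 0)) (.node (.leaf 0) (.leaf 0))) (.node (.node (.leaf 0) (.leaf 0)) (.node (.leaf 0) (.leaf 0)))) (.node (.node (.node (.leaf 0) (.leaf 0)) (.node (.leaf 0) (.leaf 0))) (.node (.node (.leaf 0) (.leaf 0)) (.node (.leaf 0) (.leaf 0))))) (.node (.node (.node (.node (.leaf 0) (.leaf 0)) (.node (.leaf 0) (.leaf 0))) (.node (.node (.leaf 0) (.leaf 0)) (.node (.leaf 0) (.leaf 0)))) (.node (.node (.node (.leaf 0) (.leaf 0)) (.node (.leaf 0) (.leaf 0))) (.node (.node (.leaf 0) (.leaf 0)) (.node (.leaf 0) (.leaf 0)))))) (.node (.node (.node (.node (.node (.leaf 0) (.leaf 0)) (.node (.leaf 0) (.leaf 0))) (.node (.node (.leaf 0) (.leaf 0)) (.node (.leaf 0) (.leaf 0)))) (.node (.node (.node (.leaf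 0) (.leaf 0)) (.node (.leaf 0) (.leaf 0))) (.node (.node (.leaf 0) (.leaf 0)) (.node (.leaf 0) (.leaf 0))))) (.node (.node (.node (.node (.leaf 0) (.leaf 0)) (.node (.leaf 0) (.leaf 0))) (.node (.node (.leaf 0) (.leaf 0)) (.node (.leaf 0) (.leaf 0)))) (.node (.node (.node (.leaf 0) (.leaf 0)) (.node (.leaf 0) (.leaf 0))) (.node (.node (.leaf 0) (.leaf 0)) (.node (.leaf 0) (.leaf 0)))))))

/-- A point of the block, part 16. -/
def ptCodePart16 : Janko1.Tree ℕ := (.node (.node (.node (.node (.node (.node (.leaf 0) (.leaf 0)) (.node (.leaf 0) (.leaf 0))) (.node (.node (.leaf 0) (.leaf 0)) (.node (.leaf 0) (.leaf 0)))) (.node (.node (.node (.leaf 0) (.leaf 0)) (.node (.leaf 0) (.leaf 0))) (.node (.node (.leaf 0) (.leaf 0)) (.node (.leaf 0) (.leaf 0))))) (.node (.node (.node (.node (.leaf 0) (.leaf 0)) (.node (.leaf 0) (.leaf 0))) (.node (.node (.leaf 0) (.leaf 0)) (.node (.leaf 0) (.leaf 0)))) (.node (.node (.node (.leaf 0) (.leaf 0)) (.node (.leaf 0) (.leaf 0))) (.node (.node (.leaf 0) (.leaf 0)) (.node (.leaf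 0) (.leaf 0)))))) (.node (.node (.node (.node (.node (.leaf 0) (.leaf 0)) (.node (.leaf 0) (.leaf 0))) (.node (.node (.leaf 0) (.leaf 0)) (.node (.leaf 0) (.leaf 0)))) (.node (.node (.node (.leaf 0) (.leaf 0)) (.node (.leaf 0) (.leaf 0))) (.node (.node (.leaf 0) (.leaf 0)) (.node (.leaf 0) (.leaf 0))))) (.node (.node (.node (.node (.leaf 0) (.leaf 0)) (.node (.leaf 0) (.leaf 0))) (.node (.node (.leaf 0) (.leaf 0)) (.node (.leaf 0) (.leaf 0)))) (.node (.node (.node (.leaf 0) (.leaf 0)) (.node (.leaf 0) (.leaf 0))) (.node (.node (.leaf 0) (.leaf 0)) (.node (.leaf 0) (.leaf 0)))))))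

/-- A point of the block, part 17. -/
def ptCodePart17 : Janko1.Tree ℕ := (.node (.node (.node (.node (.node (.node (.leaf 0) (.leaf 0)) (.node (.leaf 0) (.leaf 0))) (.node (.node (.leaf 0) (.leaf 0)) (.node (.leaf 0) (.leaf 0)))) (.node (.node (.node (.leaf 0) (.leaf 0)) (.node (.leaf 0) (.leaf 0))) (.node (.node (.leaf 0) (.leaf 0)) (.node (.leaf 0) (.leaf 0))))) (.node (.node (.node (.node (.leaf 0) (.leaf 0)) (.node (.leaf 0) (.leaf 0))) (.node (.node (.leaf 0) (.leaf 0)) (.node (.leaf 0) (.leaf 0)))) (.node (.node (.node (.leaf 0) (.leaf 0)) (.node (.leaf 0) (.leaf 0))) (.node (.node (.leaf 0) (.leaf 0)) (.node (.leaf 0) (.leaf 0)))))) (.node (.node (.node (.node (.node (.leaf 0) (.leaf 0)) (.node (.leaf 0) (.leaf 0))) (.node (.node (.leaf 0) (.leaf 0)) (.node (.leaf 0) (.leaf 0)))) (.node (.node (.node (.leaf 0) (.leaf 0)) (.node (.leaf 0) (.leaf 0))) (.node (.node (.leaf 0) (.leaf 0)) (.node (.leaf 0) (.leaf 0))))) (.node (.node (.node (.node (.leaf 0) (.leaf 0)) (.node (.leaf 0) (.leaf 0))) (.node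 (.node (.leaf 0) (.leaf 0)) (.node (.leaf 0) (.leaf 0)))) (.node (.node (.node (.leaf 0) (.leaf 0)) (.node (.leaf 0) (.leaf 0))) (.node (.node (.leaf 0) (.leaf 0)) (.node (.leaf 0) (.leaf 0)))))))

/-- A point of the block, part 18. -/
def ptCodePart18 : Janko1.Tree ℕ := (.node (.node (.node (.node (.node (.node (.leaf 0) (.leaf 0)) (.node (.leaf 0) (.leaf 0))) (.node (.node (.leaf 0) (.leaf 0)) (.node (.leaf 0) (.leaf 0)))) (.node (.node (.node (.leaf 0) (.leaf 0)) (.node (.leaf 0) (.leaf 0))) (.node (.node (.leaf 0) (.leaf 0)) (.node (.leaf 0) (.leaf 0))))) (.node (.node (.node (.node (.leaf 0) (.leaf 0)) (.node (.leaf 0) (.leaf 0))) (.node (.node (.leaf 0) (.leaf 0)) (.node (.leaf 0) (.leaf 0)))) (.node (.node (.node (.leaf 0) (.leaf 0)) (.node (.leaf 0) (.leaf 0))) (.node (.node (.leaf 0) (.leaf 0)) (.node (.leaf 0) (.leaf 0)))))) (.node (.node (.node (.node (.node (.leaf 0) (.leaf 0)) (.node (.leaf 0) (.leaf 0))) (.node (.node (.leaf 0) (.leaf 0)) (.node (.leaf 0) (.leaf 0)))) (.node (.node (.node (.leaf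 0) (.leaf 0)) (.node (.leaf 0) (.leaf 0))) (.node (.node (.leaf 0) (.leaf 0)) (.node (.leaf 0) (.leaf 0))))) (.node (.node (.node (.node (.leaf 0) (.leaf 0)) (.node (.leaf 0) (.leaf 0))) (.node (.node (.leaf 0) (.leaf 0)) (.node (.leaf 0) (.leaf 0)))) (.node (.node (.node (.leaf 0) (.leaf 0)) (.node (.leaf 0) (.leaf 0))) (.node (.node (.leaf 0) (.leaf 0)) (.node (.leaf 0) (.leaf 0)))))))

/-- A point of the block, part 19. -/
def ptCodePart19 : Janko1.Tree ℕ := (.node (.node (.node (.node (.node (.node (.leaf 0) (.leaf 0)) (.node (.leaf 0) (.leaf 0))) (.node (.node (.leaf 0) (.leaf 0)) (.node (.leaf 0) (.leaf 0)))) (.node (.node (.node (.leaf 0) (.leaf 204925)) (.node (.leaf 1785934) (.leaf 2523373))) (.node (.node (.leaf 459200) (.leaf 32950484)) (.node (.leaf 955244) (.leaf 1802485))))) (.node (.node (.node (.node (.leaf 24101201) (.leaf 24822485)) (.node (.leaf 1803126) (.leaf 34996249))) (.node (.node (.leaf 28656212) (.leaf 31823922)) (.node (.leaf 33129098) (.leaf 30542486)))) (.node (.node (.node (.leaf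 2530594) (.leaf 6048770)) (.node (.leaf 1807262) (.leaf 19366464))) (.node (.node (.leaf 16827342) (.leaf 28689890)) (.node (.leaf 24696974) (.leaf 548977)))))) (.node (.node (.node (.node (.node (.leaf 16424981) (.leaf 2589438)) (.node (.leaf 20660456) (.leaf 34882406))) (.node (.node (.leaf 15794480) (.leaf 23781173)) (.node (.leaf 3523622) (.leaf 1808446)))) (.node (.node (.node (.leaf 19876192) (.leaf 12861896)) (.node (.leaf 23580904) (.leaf 7610046))) (.node (.node (.leaf 29972989) (.leaf 2785384)) (.node (.leaf 30065666) (.leaf 7603617))))) (.node (.node (.node (.node (.leaf 11338378) (.leaf 20057094)) (.node (.leaf 30622690) (.leaf 27279608))) (.node (.node (.leaf 9690728) (.leaf 2972036)) (.node (.leaf 28655922) (.leaf 18743830)))) (.node (.node (.node (.leaf 33497108) (.leaf 26935493)) (.node (.leaf 2905201) (.leaf 2793588))) (.node (.node (.leaf 19800152) (.leaf 14618858)) (.node (.leaf 33542336) (.leaf 33459156)))))))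

/-- A point of the block, part 20. -/
def ptCodePart20 : Janko1.Tree ℕ := (.node (.node (.node (.node (.node (.node (.leaf 30655153) (.leaf 30622757)) (.node (.leaf 32983544) (.leaf 31147485))) (.node (.node (.leaf 21454753) (.leaf 33359153)) (.node (.leaf 6328180) (.leaf 23681630)))) (.node (.node (.node (.leaf 33457088) (.leaf 31530298)) (.node (.leaf 32988357) (.leaf 30547149))) (.node (.node (.leaf 31149108) (.leaf 26056710)) (.node (.leaf 29525865) (.leaf 26056164))))) (.node (.node (.node (.node (.leaf 26729765) (.leaf 32834026)) (.node (.leaf 231565) (.leaf 1804061))) (.node (.node (.leaf 1236532) (.leaf 28574188)) (.node (.leaf 30064900) (.leaf 8602628)))) (.node (.node (.node (.leaf 33212540) (.leaf 23775845)) (.node (.leaf 952478) (.leaf 5984453))) (.node (.node (.leaf 2530436) (.leaf 1806429)) (.node (.leaf 32986166) (.leaf 32345700)))))) (.node (.node (.node (.node (.node (.leaf 4423993) (.leaf 25608841)) (.node (.leaf 5734470) (.leaf 5881926))) (.node (.node (.leaf 4805356) (.leaf 13669121))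 (.node (.leaf 19582465) (.leaf 15319654)))) (.node (.node (.node (.leaf 26614480) (.leaf 21615054)) (.node (.leaf 32982754) (.leaf 32982125))) (.node (.node (.leaf 33493594) (.leaf 29426662)) (.node (.leaf 32834226) (.leaf 30589597))))) (.node (.node (.node (.node (.leaf 33461108) (.leaf 32511030)) (.node (.leaf 23677278) (.leaf 30245580))) (.node (.node (.leaf 24380086) (.leaf 31178817)) (.node (.leaf 21447868) (.leaf 6050560)))) (.node (.node (.node (.leaf 3804822) (.leaf 31523158)) (.node (.leaf 20054924) (.leaf 25592425))) (.node (.node (.leaf 25248336) (.leaf 33129461)) (.node (.leaf 2968204) (.leaf 5982317)))))))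

/-- A point of the block, part 21. -/
def ptCodePart21 : Janko1.Tree ℕ := (.node (.node (.node (.node (.node (.node (.leaf 2902656) (.leaf 23630680)) (.node (.leaf 5983116) (.leaf 33493068))) (.node (.node (.leaf 27762009) (.leaf 13600217)) (.node (.leaf 3408317) (.leaf 20054714)))) (.node (.node (.node (.leaf 26936356) (.leaf 28558320)) (.node (.leaf 7194024) (.leaf 13042506))) (.node (.node (.leaf 33459706) (.leaf 30658256)) (.node (.leaf 32950493) (.leaf 30197048))))) (.node (.node (.node (.node (.leaf 30245500) (.leaf 6324300)) (.node (.leaf 31753228) (.leaf 32833618))) (.node (.node (.leaf 23630677) (.leaf 23777317)) (.node (.leaf 31822542) (.leaf 30657726)))) (.node (.node (.node (.leaf 30589488) (.leaf 21549320)) (.node (.leaf 6554948) (.leaf 26362213))) (.node (.node (.leaf 2787229) (.leaf 2594504)) (.node (.leaf 4104358) (.leaf 5985316)))))) (.node (.node (.node (.node (.node (.leaf 13664416) (.leaf 11862936)) (.node (.leaf 16565112) (.leaf 3425140))) (.node (.node (.leaf 1802373) (.leaf 2788664))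 (.node (.leaf 2596529) (.leaf 31755862)))) (.node (.node (.node (.leaf 22469550) (.leaf 15925466)) (.node (.leaf 3413452) (.leaf 15178125))) (.node (.node (.leaf 19552617) (.leaf 9192920)) (.node (.leaf 4773346) (.leaf 31968964))))) (.node (.node (.node (.node (.leaf 23627814) (.leaf 30544020)) (.node (.leaf 30544716) (.leaf 28557796))) (.node (.node (.leaf 25002577) (.leaf 2546721)) (.node (.leaf 2790336) (.leaf 32002993)))) (.node (.node (.node (.leaf 6046898) (.leaf 6048668)) (.node (.leaf 30658140) (.leaf 7734614))) (.node (.node (.leaf 30294912) (.leaf 15172576)) (.node (.leaf 7602417) (.leaf 29524853)))))))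

/-- A point of the block, part 22. -/
def ptCodePart22 : Janko1.Tree ℕ := (.node (.node (.node (.node (.node (.node (.leaf 4803501) (.leaf 24822646)) (.node (.leaf 22058828) (.leaf 20203665))) (.node (.node (.leaf 27557961) (.leaf 23627806)) (.node (.leaf 32001460) (.leaf 33360708)))) (.node (.node (.node (.leaf 32837481) (.leaf 31146858)) (.node (.leaf 26362785) (.leaf 25428857))) (.node (.node (.leaf 26657634) (.leaf 22053600)) (.node (.leaf 4424710) (.leaf 16483369))))) (.node (.node (.node (.node (.leaf 4184220) (.leaf 5982934)) (.node (.leaf 21548236) (.leaf 872416))) (.node (.node (.leaf 6048892) (.leaf 30379480)) (.node (.leaf 15057908) (.leaf 16030250)))) (.node (.node (.node (.leaf 17848660) (.leaf 28561330)) (.node (.leaf 26939652) (.leaf 5195414))) (.node (.node (.leaf 18865053) (.leaf 17372058)) (.node (.leaf 10357056) (.leaf 23675452)))))) (.node (.node (.node (.node (.node (.leaf 21549796) (.leaf 32953190)) (.node (.leaf 15319721) (.leaf 24674929))) (.node (.node (.leaf 28049736) (.leaf 4183657))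 (.node (.leaf 2596989) (.leaf 21498254)))) (.node (.node (.node (.leaf 4414361) (.leaf 2967762)) (.node (.leaf 16029440) (.leaf 18859881))) (.node (.node (.leaf 17845324) (.leaf 8602306)) (.node (.leaf 3524816) (.leaf 5195422))))) (.node (.node (.node (.node (.leaf 28067745) (.leaf 4771996)) (.node (.leaf 7734368) (.leaf 12142466))) (.node (.node (.leaf 20665166) (.leaf 31967929)) (.node (.leaf 33490868) (.leaf 32344406)))) (.node (.node (.node (.leaf 33459813) (.leaf 30658409)) (.node (.leaf 32952469) (.leaf 30658454))) (.node (.node (.leaf 30377812) (.leaf 7717325)) (.node (.leaf 23584910) (.leaf 28023993)))))))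

/-- A point of the block, part 23. -/
def ptCodePart23 : Janko1.Tree ℕ := (.node (.node (.node (.node (.node (.node (.leaf 1564689) (.leaf 7606810)) (.node (.leaf 14752226) (.leaf 9345048))) (.node (.node (.leaf 31822684) (.leaf 33459021)) (.node (.leaf 21449853) (.leaf 30544169)))) (.node (.node (.node (.leaf 232786) (.leaf 32836913)) (.node (.leaf 31967145) (.leaf 23778202))) (.node (.node (.leaf 32949972) (.leaf 232389)) (.node (.leaf 32836761) (.leaf 24106816))))) (.node (.node (.node (.node (.leaf 25600117) (.leaf 34786333)) (.node (.leaf 6408761) (.leaf 32347749))) (.node (.node (.leaf 15795078) (.leaf 31823721)) (.node (.leaf 19792134) (.leaf 31972692)))) (.node (.node (.node (.leaf 12141529) (.leaf 4181561)) (.node (.leaf 6052678) (.leaf 7341000))) (.node (.node (.leaf 19874508) (.leaf 4882885)) (.node (.leaf 11338422) (.leaf 1233913)))))) (.node (.node (.node (.node (.node (.leaf 1808077) (.leaf 3967588)) (.node (.leaf 2907793) (.leaf 30626921))) (.node (.node (.leaf 16572020) (.leaf 33359312)) (.node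 (.leaf 33457730) (.leaf 30628996)))) (.node (.node (.node (.leaf 30628928) (.leaf 28951992)) (.node (.leaf 21454482) (.leaf 30563957))) (.node (.node (.leaf 1138582) (.leaf 32513577)) (.node (.leaf 18383481) (.leaf 12862989))))) (.node (.node (.node (.node (.leaf 19797224) (.leaf 12862824)) (.node (.leaf 28689482) (.leaf 22696378))) (.node (.node (.leaf 10469402) (.leaf 3410870)) (.node (.leaf 9195265) (.leaf 4770602)))) (.node (.node (.node (.leaf 30066886) (.leaf 28052038)) (.node (.leaf 6557062) (.leaf 11764593))) (.node (.node (.leaf 24845317) (.leaf 16425341)) (.node (.leaf 7332026) (.leaf 17848022)))))))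

/-- A point of the block, part 24. -/
def ptCodePart24 : Janko1.Tree ℕ := (.node (.node (.node (.node (.node (.node (.leaf 15178556) (.leaf 10584733)) (.node (.leaf 20054730) (.leaf 8013392))) (.node (.node (.leaf 21908924) (.leaf 563796)) (.node (.leaf 1919406) (.leaf 13043472)))) (.node (.node (.node (.leaf 6346392) (.leaf 15320814)) (.node (.leaf 28576856) (.leaf 25499729))) (.node (.node (.leaf 6280717) (.leaf 1563638)) (.node (.leaf 19733564) (.leaf 7723026))))) (.node (.node (.node (.node (.leaf 14653121) (.leaf 11454242)) (.node (.leaf 34784408) (.leaf 13672500))) (.node (.node (.leaf 35031725) (.leaf 17356706)) (.node (.leaf 17355853) (.leaf 21938346)))) (.node (.node (.node (.leaf 546148) (.leaf 6327993)) (.node (.leaf 22714841) (.leaf 9683088))) (.node (.node (.leaf 13943733) (.leaf 15794320)) (.node (.leaf 18959728) (.leaf 24843925)))))) (.node (.node (.node (.node (.node (.leaf 13049401) (.leaf 11343533)) (.node (.leaf 24072632) (.leaf 12800949))) (.node (.node (.leaf 14651098) (.leaf 17369460))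 (.node (.leaf 24069962) (.leaf 28564190)))) (.node (.node (.node (.leaf 19372301) (.leaf 21912441)) (.node (.leaf 13950458) (.leaf 18322534))) (.node (.node (.leaf 28956064) (.leaf 25436392)) (.node (.leaf 19551397) (.leaf 22695590))))) (.node (.node (.node (.node (.leaf 26608798) (.leaf 10470773)) (.node (.leaf 1558361) (.leaf 25615236))) (.node (.node (.leaf 31185053) (.leaf 29525400)) (.node (.leaf 29072125) (.leaf 27564870)))) (.node (.node (.node (.leaf 24101241) (.leaf 6281252)) (.node (.leaf 35003228) (.leaf 18748782))) (.node (.node (.leaf 19368882) (.leaf 28024420)) (.node (.leaf 16571390) (.leaf 25436344)))))))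

/-- A point of the block, part 25. -/
def ptCodePart25 : Janko1.Tree ℕ := (.node (.node (.node (.node (.node (.node (.leaf 16569720) (.leaf 12803614)) (.node (.leaf 17684326) (.leaf 15654734))) (.node (.node (.leaf 17503990) (.leaf 7723277)) (.node (.leaf 26532057) (.leaf 26730733)))) (.node (.node (.node (.leaf 22708353) (.leaf 31180320)) (.node (.leaf 7179930) (.leaf 19879473))) (.node (.node (.leaf 19548937) (.leaf 7197146)) (.node (.leaf 24830396) (.leaf 25615868))))) (.node (.node (.node (.node (.leaf 35031629) (.leaf 34997704)) (.node (.leaf 6456761) (.leaf 9192438))) (.node (.node (.leaf 14648044) (.leaf 466752)) (.node (.leaf 558126) (.leaf 19825416)))) (.node (.node (.node (.leaf 15947382) (.leaf 21545106)) (.node (.leaf 7341396) (.leaf 464466))) (.node (.node (.leaf 23955945) (.leaf 23779997)) (.node (.leaf 2906541) (.leaf 15794522)))))) (.node (.node (.node (.node (.node (.leaf 2591733) (.leaf 31973762)) (.node (.leaf 33129821) (.leaf 4889473))) (.node (.node (.leaf 33217172) (.leaf 33544202))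 (.node (.leaf 1131497) (.leaf 32841100)))) (.node (.node (.node (.leaf 30547494) (.leaf 528084)) (.node (.leaf 28066733) (.leaf 28066745))) (.node (.node (.leaf 24908985) (.leaf 15057686)) (.node (.leaf 21829945) (.leaf 11338468))))) (.node (.node (.node (.node (.leaf 17045085) (.leaf 11867138)) (.node (.leaf 6410453) (.leaf 10355533))) (.node (.node (.leaf 564201) (.leaf 7740552)) (.node (.leaf 7347764) (.leaf 4427982)))) (.node (.node (.node (.leaf 24692534) (.leaf 28578680)) (.node (.leaf 28577737) (.leaf 9261408))) (.node (.node (.leaf 7737994) (.leaf 16833646)) (.node (.leaf 11457617) (.leaf 13048838)))))))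

/-- A point of the block, part 26. -/
def ptCodePart26 : Janko1.Tree ℕ := (.node (.node (.node (.node (.node (.node (.leaf 17367322) (.leaf 5148577)) (.node (.leaf 17374862) (.leaf 5888925))) (.node (.node (.leaf 34904262) (.leaf 26366481)) (.node (.leaf 24908685) (.leaf 6281400)))) (.node (.node (.node (.leaf 30104496) (.leaf 5196214)) (.node (.leaf 23956996) (.leaf 12164257))) (.node (.node (.leaf 23400424) (.leaf 11460824)) (.node (.leaf 1921114) (.leaf 10588464))))) (.node (.node (.node (.node (.leaf 18746058) (.leaf 9199412)) (.node (.leaf 4426634) (.leaf 7182233))) (.node (.node (.leaf 20234637) (.leaf 15647116)) (.node (.leaf 34447546) (.leaf 33805364)))) (.node (.node (.node (.leaf 16027228) (.leaf 19581289)) (.node (.leaf 27757008) (.leaf 24677941))) (.node (.node (.leaf 1560094) (.leaf 29532606)) (.node (.leaf 30069890) (.leaf 23584422)))))) (.node (.node (.node (.node (.node (.leaf 16834717) (.leaf 35036489)) (.node (.leaf 34791734) (.leaf 30073116))) (.node (.node (.leaf 23578137) (.leaf 29809920))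 (.node (.leaf 24678516) (.leaf 15818341)))) (.node (.node (.node (.leaf 12165094) (.leaf 24617160)) (.node (.leaf 15794744) (.leaf 21946681))) (.node (.node (.leaf 28955632) (.leaf 28067253)) (.node (.leaf 2591813) (.leaf 956121))))) (.node (.node (.node (.node (.leaf 6051017) (.leaf 2589245)) (.node (.leaf 9346697) (.leaf 4768018))) (.node (.node (.leaf 2906965) (.leaf 10355110)) (.node (.leaf 2525185) (.leaf 525097)))) (.node (.node (.node (.leaf 6037876) (.leaf 4065250)) (.node (.leaf 4807036) (.leaf 32512562))) (.node (.node (.leaf 21452209) (.leaf 15171972)) (.node (.leaf 28023144) (.leaf 12801761)))))))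

/-- A point of the block, part 27. -/
def ptCodePart27 : Janko1.Tree ℕ := (.node (.node (.node (.node (.node (.node (.leaf 21616856) (.leaf 21455082)) (.node (.leaf 32511924) (.leaf 15177949))) (.node (.node (.leaf 23957630) (.leaf 20206940)) (.node (.leaf 12798704) (.leaf 8018226)))) (.node (.node (.node (.leaf 15650798) (.leaf 27756517)) (.node (.leaf 35311116) (.leaf 21908441))) (.node (.node (.leaf 10587649) (.leaf 10588597)) (.node (.leaf 25600318) (.leaf 34900866))))) (.node (.node (.node (.node (.leaf 34998525) (.leaf 21268070)) (.node (.leaf 7178854) (.leaf 16276457))) (.node (.node (.leaf 22581476) (.leaf 21270026)) (.node (.leaf 24677397) (.leaf 9339982)))) (.node (.node (.node (.leaf 16567650) (.leaf 560262)) (.node (.leaf 9340756) (.leaf 25436408))) (.node (.node (.leaf 24912246) (.leaf 25253352)) (.node (.leaf 23581022) (.leaf 4807028)))))) (.node (.node (.node (.node (.node (.leaf 13047213) (.leaf 22693053)) (.node (.leaf 13666322) (.leaf 22584742))) (.node (.node (.leaf 31153389) (.leaf 29491740))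 (.node (.leaf 25055068) (.leaf 29810742)))) (.node (.node (.node (.leaf 29333232) (.leaf 24379869)) (.node (.leaf 13944338) (.leaf 28660016))) (.node (.node (.leaf 5886261) (.leaf 35004524)) (.node (.leaf 7177424) (.leaf 5148621))))) (.node (.node (.node (.node (.leaf 23956972) (.leaf 24102581)) (.node (.leaf 16273286) (.leaf 24386802))) (.node (.node (.leaf 29432538) (.leaf 29071090)) (.node (.leaf 35004148) (.leaf 7725208)))) (.node (.node (.node (.leaf 28053733) (.leaf 22467201)) (.node (.leaf 23403276) (.leaf 544768))) (.node (.node (.leaf 15176374) (.leaf 5194590)) (.node (.leaf 28055792) (.leaf 14651480)))))))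

/-- A point of the block, part 28. -/
def ptCodePart28 : Janko1.Tree ℕ := (.node (.node (.node (.node (.node (.node (.leaf 27280784) (.leaf 29966525)) (.node (.leaf 24610341) (.leaf 28951698))) (.node (.node (.leaf 25431744) (.leaf 7184486)) (.node (.leaf 16482697) (.leaf 17850734)))) (.node (.node (.node (.leaf 16029474) (.leaf 17354105)) (.node (.leaf 19369341) (.leaf 16482438))) (.node (.node (.leaf 30249601) (.leaf 24694441)) (.node (.leaf 21274894) (.leaf 15944570))))) (.node (.node (.node (.node (.leaf 1564538) (.leaf 25499898)) (.node (.leaf 30302432) (.leaf 31526746))) (.node (.node (.leaf 6345124) (.leaf 6344824)) (.node (.leaf 30301840) (.leaf 26058810)))) (.node (.node (.node (.leaf 9344088) (.leaf 17352568)) (.node (.leaf 3425849) (.leaf 16274780))) (.node (.node (.leaf 11654096) (.leaf 13604473)) (.node (.leaf 11654854) (.leaf 16423486)))))) (.node (.node (.node (.node (.node (.leaf 3411681) (.leaf 30105801)) (.node (.leaf 25057013) (.leaf 5882513))) (.node (.node (.leaf 19366866) (.leaf 10358272))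 (.node (.leaf 14747946) (.leaf 24904338)))) (.node (.node (.node (.leaf 31179829) (.leaf 28688820)) (.node (.leaf 14620361) (.leaf 3525985))) (.node (.node (.leaf 16029193) (.leaf 493649)) (.node (.leaf 21905966) (.leaf 7604873))))) (.node (.node (.node (.node (.leaf 20236396) (.leaf 25248037)) (.node (.leaf 5734694) (.leaf 8607242))) (.node (.node (.leaf 1561570) (.leaf 9683364)) (.node (.leaf 5149013) (.leaf 21907836)))) (.node (.node (.node (.leaf 27559616) (.leaf 17368938)) (.node (.leaf 23396880) (.leaf 4807973))) (.node (.node (.leaf 19581981) (.leaf 24824581)) (.node (.leaf 20204324) (.leaf 26368929)))))))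

/-- A point of the block, part 29. -/
def ptCodePart29 : Janko1.Tree ℕ := (.node (.node (.node (.node (.node (.node (.leaf 3530345) (.leaf 15647278)) (.node (.leaf 29072314) (.leaf 11176541))) (.node (.node (.leaf 24610496) (.leaf 26053585)) (.node (.leaf 34084322) (.leaf 34445698)))) (.node (.node (.node (.leaf 4768006) (.leaf 14647536)) (.node (.leaf 20201808) (.leaf 19727690))) (.node (.node (.leaf 10591900) (.leaf 3527148)) (.node (.leaf 7340589) (.leaf 25057306))))) (.node (.node (.node (.node (.leaf 3528846) (.leaf 4888716)) (.node (.leaf 12144566) (.leaf 34079230))) (.node (.node (.leaf 28660709) (.leaf 14617770)) (.node (.leaf 19583100) (.leaf 26368768)))) (.node (.node (.node (.leaf 23583494) (.leaf 29805285)) (.node (.leaf 25595864) (.leaf 28562570))) (.node (.node (.leaf 19829638) (.leaf 15947210)) (.node (.leaf 22470425) (.leaf 5889289)))))) (.node (.node (.node (.node (.node (.leaf 16829046) (.leaf 27756226)) (.node (.leaf 1918886) (.leaf 563340))) (.node (.node (.leaf 13943192) (.leaf 29067112))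 (.node (.leaf 20665190) (.leaf 24693980)))) (.node (.node (.node (.leaf 24608825) (.leaf 34784966)) (.node (.leaf 24072020) (.leaf 26051094))) (.node (.node (.leaf 25058616) (.leaf 17679308)) (.node (.leaf 5889973) (.leaf 13599325))))) (.node (.node (.node (.node (.leaf 27280514) (.leaf 18318430)) (.node (.leaf 756169) (.leaf 29071774))) (.node (.node (.leaf 12308348) (.leaf 6559502)) (.node (.leaf 6555025) (.leaf 30066025)))) (.node (.node (.node (.leaf 14617030) (.leaf 28560589)) (.node (.leaf 30201098) (.leaf 530181))) (.node (.node (.leaf 7807133) (.leaf 18325500)) (.node (.leaf 6278822) (.leaf 34445352)))))))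

/-- A point of the block, part 30. -/
def ptCodePart30 : Janko1.Tree ℕ := (.node (.node (.node (.node (.node (.node (.leaf 26056698) (.leaf 34888224)) (.node (.leaf 24698513) (.leaf 35000425))) (.node (.node (.leaf 14620369) (.leaf 29806761)) (.node (.leaf 20205176) (.leaf 34883370)))) (.node (.node (.node (.leaf 23579877) (.leaf 24069282)) (.node (.leaf 25610665) (.leaf 25318000))) (.node (.node (.leaf 12308142) (.leaf 20122332)) (.node (.leaf 15322986) (.leaf 17634848))))) (.node (.node (.node (.node (.leaf 27760080) (.leaf 28954821)) (.node (.leaf 25055825) (.leaf 22714749))) (.node (.node (.leaf 22714537) (.leaf 29426085)) (.node (.leaf 21945294) (.leaf 13047492)))) (.node (.node (.node (.leaf 29527568) (.leaf 24108850)) (.node (.leaf 4885169) (.leaf 21831425))) (.node (.node (.leaf 15818900) (.leaf 7807001)) (.node (.leaf 29068130) (.leaf 30253009)))))) (.node (.node (.node (.node (.node (.leaf 27560993) (.leaf 13667676)) (.node (.leaf 15322934) (.leaf 17498233))) (.node (.node (.leaf 13947228) (.leaf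 30066906)) (.node (.leaf 29329624) (.leaf 28696122)))) (.node (.node (.node (.leaf 28660181) (.leaf 19369712)) (.node (.leaf 28019817) (.leaf 28069072))) (.node (.node (.leaf 8603998) (.leaf 6346230)) (.node (.leaf 25599534) (.leaf 12863718))))) (.node (.node (.node (.node (.leaf 4890448) (.leaf 21270952)) (.node (.leaf 22695040) (.leaf 3425650))) (.node (.node (.leaf 14655618) (.leaf 18961322)) (.node (.leaf 12865780) (.leaf 9261944)))) (.node (.node (.node (.leaf 17040138) (.leaf 11175078)) (.node (.leaf 7195988) (.leaf 7200429))) (.node (.node (.leaf 524398) (.leaf 15056945)) (.node (.leaf 26056380) (.leaf 22469530)))))))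

/-- A point of the block, part 31. -/
def ptCodePart31 : Janko1.Tree ℕ := (.node (.node (.node (.node (.node (.node (.leaf 6461562) (.leaf 24379564)) (.node (.leaf 19829245) (.leaf 10473992))) (.node (.node (.leaf 21912196) (.leaf 23399541)) (.node (.leaf 7799178) (.leaf 7326976)))) (.node (.node (.node (.leaf 34885638) (.leaf 19584804)) (.node (.leaf 6326641) (.leaf 35031485))) (.node (.node (.leaf 24610590) (.leaf 24384562)) (.node (.leaf 12158760) (.leaf 26362969))))) (.node (.node (.node (.node (.leaf 527489) (.leaf 562774)) (.node (.leaf 3528465) (.leaf 12307644))) (.node (.node (.leaf 19373301) (.leaf 5886892)) (.node (.leaf 17375126) (.leaf 17849538)))) (.node (.node (.node (.leaf 28955734) (.leaf 7179842)) (.node (.leaf 25315321) (.leaf 18325308))) (.node (.node (.leaf 7331626) (.leaf 28575513)) (.node (.leaf 17500197) (.leaf 4889684)))))) (.node (.node (.node (.node (.node (.leaf 17683609) (.leaf 12309605)) (.node (.leaf 34789788) (.leaf 22698932))) (.node (.node (.leaf 31149620) (.leaf 6461630))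 (.node (.leaf 24107948) (.leaf 16274162)))) (.node (.node (.node (.leaf 17043685) (.leaf 26052534)) (.node (.leaf 29973272) (.leaf 19874610))) (.node (.node (.leaf 11343422) (.leaf 25498220)) (.node (.leaf 14752333) (.leaf 5734782))))) (.node (.node (.node (.node (.leaf 34081116) (.leaf 29966621)) (.node (.leaf 22058388) (.leaf 34902666))) (.node (.node (.leaf 24908873) (.leaf 30101665)) (.node (.leaf 6408585) (.leaf 29433112)))) (.node (.node (.node (.leaf 28958404) (.leaf 30101472)) (.node (.leaf 26369632) (.leaf 17044070))) (.node (.node (.leaf 19732060) (.leaf 21828784)) (.node (.leaf 24611977) (.leaf 22239958)))))))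

/-- A point of the block, part 32. -/
def ptCodePart32 : Janko1.Tree ℕ := (.node (.node (.node (.node (.node (.node (.leaf 25315718) (.leaf 26725889)) (.node (.leaf 20235862) (.leaf 7178498))) (.node (.node (.leaf 3412693) (.leaf 17044406)) (.node (.leaf 4427378) (.leaf 15930610)))) (.node (.node (.node (.leaf 18862540) (.leaf 35004286)) (.node (.leaf 22697664) (.leaf 16485309))) (.node (.node (.leaf 16270922) (.leaf 8019544)) (.node (.leaf 16571501) (.leaf 11654188))))) (.node (.node (.node (.node (.leaf 28576886) (.leaf 20207344)) (.node (.leaf 9198453) (.leaf 24821884))) (.node (.node (.leaf 11764190) (.leaf 26526245)) (.node (.leaf 16420729) (.leaf 16418878)))) (.node (.node (.node (.leaf 25005505) (.leaf 19733338)) (.node (.leaf 3414581) (.leaf 22240141))) (.node (.node (.leaf 11338926) (.leaf 30249469)) (.node (.leaf 6410386) (.leaf 26530100)))))) (.node (.node (.node (.node (.node (.leaf 6556816) (.leaf 30197677)) (.node (.leaf 1560817) (.leaf 30068912))) (.node (.node (.leaf 498584) (.leaf 9683412))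 (.node (.leaf 16570514) (.leaf 29528654)))) (.node (.node (.node (.leaf 25251310) (.leaf 26659826)) (.node (.leaf 15815661) (.leaf 4886417))) (.node (.node (.leaf 23583622) (.leaf 28957336)) (.node (.leaf 29527280) (.leaf 29330173))))) (.node (.node (.node (.node (.leaf 20240504) (.leaf 34443620)) (.node (.leaf 20666744) (.leaf 22053002))) (.node (.node (.leaf 8606289) (.leaf 24071020)) (.node (.leaf 6463313) (.leaf 7180558)))) (.node (.node (.node (.leaf 6460924) (.leaf 11866773)) (.node (.leaf 6276812) (.leaf 24108629))) (.node (.node (.leaf 6280901) (.leaf 6462738)) (.node (.leaf 25615974) (.leaf 33800469)))))))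

/-- A point of the block, part 33. -/
def ptCodePart33 : Janko1.Tree ℕ := (.node (.node (.node (.node (.node (.node (.leaf 34785036) (.leaf 24106494)) (.node (.leaf 26530185) (.leaf 11651834))) (.node (.node (.leaf 11457206) (.leaf 15943994)) (.node (.leaf 19013362) (.leaf 22712465)))) (.node (.node (.node (.leaf 26661132) (.leaf 25055474)) (.node (.leaf 29804552) (.leaf 22712804))) (.node (.node (.leaf 31182088) (.leaf 25495330)) (.node (.leaf 8019866) (.leaf 757917))))) (.node (.node (.node (.node (.leaf 30298421) (.leaf 19798536)) (.node (.leaf 6332104) (.leaf 35312796))) (.node (.node (.leaf 9690157) (.leaf 19877926)) (.node (.leaf 3408956) (.leaf 7736850)))) (.node (.node (.node (.leaf 34787604) (.leaf 23401689)) (.node (.leaf 29973029) (.leaf 31183998))) (.node (.node (.leaf 29330690) (.leaf 23402206)) (.node (.leaf 28068824) (.leaf 7803798)))))) (.node (.node (.node (.node (.node (.leaf 18750560) (.leaf 24828808)) (.node (.leaf 7605628) (.leaf 20664814))) (.node (.node (.leaf 27759714) (.leaf 18962752))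 (.node (.leaf 29497204) (.leaf 25004258)))) (.node (.node (.node (.leaf 22711416) (.leaf 29493722)) (.node (.leaf 35312038) (.leaf 22695200))) (.node (.node (.leaf 22060896) (.leaf 34905938)) (.node (.leaf 34086877) (.leaf 13945610))))) (.node (.node (.node (.node (.leaf 16026978) (.leaf 755408)) (.node (.leaf 26939697) (.leaf 10591238))) (.node (.node (.leaf 15931762) (.leaf 20126554)) (.node (.leaf 529049) (.leaf 15061682)))) (.node (.node (.node (.leaf 17351757) (.leaf 15948313)) (.node (.leaf 544724) (.leaf 5149561))) (.node (.node (.leaf 19797300) (.leaf 17679432)) (.node (.leaf 545460) (.leaf 21552641)))))))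

/-- A point of the block, part 34. -/
def ptCodePart34 : Janko1.Tree ℕ := (.node (.node (.node (.node (.node (.node (.leaf 267914) (.leaf 2711042)) (.node (.leaf 32511622) (.leaf 21611376))) (.node (.node (.leaf 7325104) (.leaf 1233101)) (.node (.leaf 4278984) (.leaf 32986777)))) (.node (.node (.node (.leaf 33365521) (.leaf 23773381)) (.node (.leaf 23631794) (.leaf 21453542))) (.node (.node (.leaf 31965344) (.leaf 21618810)) (.node (.leaf 31760481) (.leaf 12158426))))) (.node (.node (.node (.node (.leaf 19830918) (.leaf 26611473)) (.node (.leaf 31526764) (.leaf 4429046))) (.node (.node (.leaf 19007248) (.leaf 26369005)) (.node (.leaf 18956309) (.leaf 22583449)))) (.node (.node (.node (.leaf 17047860) (.leaf 24614581)) (.node (.leaf 26662530) (.leaf 21943818))) (.node (.node (.leaf 29073348) (.leaf 16834001)) (.node (.leaf 24845525) (.leaf 7330516)))))) (.node (.node (.node (.node (.node (.leaf 7800842) (.leaf 15933182)) (.node (.leaf 22585528) (.leaf 16277764))) (.node (.node (.leaf 24075249) (.leaf 19547661))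 (.node (.leaf 29528097) (.leaf 34888744)))) (.node (.node (.node (.leaf 21942122) (.leaf 6557489)) (.node (.leaf 3528269) (.leaf 18323322))) (.node (.node (.leaf 6347202) (.leaf 24842032)) (.node (.leaf 18325685) (.leaf 21913789))))) (.node (.node (.node (.node (.leaf 17685649) (.leaf 11768346)) (.node (.leaf 10363160) (.leaf 563084))) (.node (.node (.leaf 7720681) (.leaf 11460437)) (.node (.leaf 9685776) (.leaf 29330005)))) (.node (.node (.node (.leaf 34900773) (.leaf 12307792)) (.node (.leaf 26725097) (.leaf 34081516))) (.node (.node (.leaf 29332257) (.leaf 30248292)) (.node (.leaf 29429502) (.leaf 26943518)))))))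

/-- A point of the block, part 35. -/
def ptCodePart35 : Janko1.Tree ℕ := (.node (.node (.node (.node (.node (.node (.leaf 21827438) (.leaf 23961942)) (.node (.leaf 25315409) (.leaf 957509))) (.node (.node (.leaf 30563310) (.leaf 17503492)) (.node (.leaf 7741630) (.leaf 25255612)))) (.node (.node (.node (.leaf 957517) (.leaf 6052117)) (.node (.leaf 31758824) (.leaf 10363304))) (.node (.node (.leaf 28696298) (.leaf 31972778)) (.node (.leaf 31826352) (.leaf 21501157))))) (.node (.node (.node (.node (.leaf 21618170) (.leaf 4808864)) (.node (.leaf 34444690) (.leaf 28069526))) (.node (.node (.leaf 4428808) (.leaf 14654792)) (.node (.leaf 31152470) (.leaf 6411617)))) (.node (.node (.node (.leaf 23402086) (.leaf 26663910)) (.node (.leaf 14750277) (.leaf 15928042))) (.node (.node (.leaf 28073041) (.leaf 19548450)) (.node (.leaf 29331178) (.leaf 31525188)))))) (.node (.node (.node (.node (.node (.leaf 28575917) (.leaf 10584537)) (.node (.leaf 19587076) (.leaf 17358480))) (.node (.node (.leaf 24380653) (.leaf 29498354))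 (.node (.leaf 16028689) (.leaf 19008048)))) (.node (.node (.node (.leaf 18961189) (.leaf 5201158)) (.node (.leaf 15058014) (.leaf 12801257))) (.node (.node (.leaf 19828809) (.leaf 23959657)) (.node (.leaf 19551873) (.leaf 19550721))))) (.node (.node (.node (.node (.leaf 7199029) (.leaf 28696080)) (.node (.leaf 34446149) (.leaf 16423217))) (.node (.node (.leaf 35031204) (.leaf 30199128)) (.node (.leaf 25611060) (.leaf 24073585)))) (.node (.node (.node (.leaf 25593100) (.leaf 6462276)) (.node (.leaf 4768940) (.leaf 6341836))) (.node (.node (.leaf 16273390) (.leaf 35310284)) (.node (.leaf 30296860) (.leaf 11864218)))))))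

/-- A point of the block, part 36. -/
def ptCodePart36 : Janko1.Tree ℕ := (.node (.node (.node (.node (.node (.node (.leaf 5198998) (.leaf 9263189)) (.node (.leaf 7330276) (.leaf 6276313))) (.node (.node (.leaf 1232217) (.leaf 30548370)) (.node (.leaf 2542448) (.leaf 493920)))) (.node (.node (.node (.leaf 7718993) (.leaf 2901541)) (.node (.leaf 21553505) (.leaf 23626009))) (.node (.node (.leaf 21615921) (.leaf 30596706)) (.node (.leaf 18390149) (.leaf 17681264))))) (.node (.node (.node (.node (.leaf 15943157) (.leaf 17844632)) (.node (.leaf 16418354) (.leaf 29496137))) (.node (.node (.leaf 6554405) (.leaf 30104664)) (.node (.leaf 25248601) (.leaf 24840853)))) (.node (.node (.node (.leaf 7804782) (.leaf 26727113)) (.node (.leaf 25500648) (.leaf 28025188))) (.node (.node (.leaf 20127914) (.leaf 493482)) (.node (.leaf 20203718) (.leaf 15060470)))))) (.node (.node (.node (.node (.node (.leaf 20128070) (.leaf 20055922)) (.node (.leaf 13046881) (.leaf 15813557))) (.node (.node (.leaf 12868098) (.leaf 5148017))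 (.node (.leaf 12162206) (.leaf 13604209)))) (.node (.node (.node (.leaf 19550305) (.leaf 15322722)) (.node (.leaf 19583394) (.leaf 21943982))) (.node (.node (.leaf 29499340) (.leaf 25429645)) (.node (.leaf 15944142) (.leaf 20127222))))) (.node (.node (.node (.node (.leaf 31526712) (.leaf 21273070)) (.node (.leaf 25007041) (.leaf 25006877))) (.node (.node (.leaf 30200768) (.leaf 23400476)) (.node (.leaf 31183560) (.leaf 15059022)))) (.node (.node (.node (.leaf 11650288) (.leaf 11652880)) (.node (.leaf 20238034) (.leaf 26533710))) (.node (.node (.leaf 15173902) (.leaf 28663438)) (.node (.leaf 29433758) (.leaf 7724710)))))))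

/-- A point of the block, part 37. -/
def ptCodePart37 : Janko1.Tree ℕ := (.node (.node (.node (.node (.node (.node (.leaf 19793833) (.leaf 19732598)) (.node (.leaf 25004684) (.leaf 12147990))) (.node (.node (.leaf 11176753) (.leaf 26659237)) (.node (.leaf 25430638) (.leaf 32988009)))) (.node (.node (.node (.leaf 33490276) (.leaf 18389173)) (.node (.leaf 235320) (.leaf 31792777))) (.node (.node (.leaf 30623361) (.leaf 15799732)) (.node (.leaf 16272601) (.leaf 33217161))))) (.node (.node (.node (.node (.leaf 31759970) (.leaf 32513334)) (.node (.leaf 31825990) (.leaf 30597160))) (.node (.node (.leaf 30595429) (.leaf 21454866)) (.node (.leaf 30661140) (.leaf 31824618)))) (.node (.node (.node (.leaf 23680190) (.leaf 22700232)) (.node (.leaf 28661141) (.leaf 12801722))) (.node (.node (.leaf 24823322) (.leaf 547038)) (.node (.leaf 5887376) (.leaf 18865036)))))) (.node (.node (.node (.node (.node (.leaf 17352364) (.leaf 10472320)) (.node (.leaf 13603252) (.leaf 17629557))) (.node (.node (.leaf 27286740) (.leaf 18866082))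 (.node (.leaf 1918676) (.leaf 754066)))) (.node (.node (.node (.leaf 19011737) (.leaf 19730088)) (.node (.leaf 16488893) (.leaf 3426504))) (.node (.node (.leaf 11656774) (.leaf 11771446)) (.node (.leaf 26942866) (.leaf 7724926))))) (.node (.node (.node (.node (.leaf 24682808) (.leaf 15817758)) (.node (.leaf 11179458) (.leaf 28688789))) (.node (.node (.leaf 15943458) (.leaf 4428969)) (.node (.leaf 11769382) (.leaf 18962185)))) (.node (.node (.node (.leaf 22233478) (.leaf 26616088)) (.node (.leaf 14622446) (.leaf 19794901))) (.node (.node (.leaf 8608861) (.leaf 22056697)) (.node (.leaf 28053541) (.leaf 15818946)))))))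

/-- A point of the block, part 38. -/
def ptCodePart38 : Janko1.Tree ℕ := (.node (.node (.node (.node (.node (.node (.leaf 12163504) (.leaf 34085997)) (.node (.leaf 26728396) (.leaf 34905221))) (.node (.node (.leaf 12158530) (.leaf 7326584)) (.node (.leaf 5149934) (.leaf 34085877)))) (.node (.node (.node (.leaf 30301250) (.leaf 18386306)) (.node (.leaf 29808933) (.leaf 13607306))) (.node (.node (.leaf 759737) (.leaf 21831066)) (.node (.leaf 10359886) (.leaf 525878))))) (.node (.node (.node (.node (.leaf 15173670) (.leaf 35033148)) (.node (.leaf 9718773) (.leaf 21586261))) (.node (.node (.leaf 25920004) (.leaf 17307904)) (.node (.leaf 28090262) (.leaf 28401868)))) (.node (.node (.node (.leaf 9722957) (.leaf 6848701)) (.node (.leaf 22120793) (.leaf 27694513))) (.node (.node (.leaf 32281392) (.leaf 26446212)) (.node (.leaf 28236270) (.leaf 17304821)))))) (.node (.node (.node (.node (.node (.leaf 32180374) (.leaf 16435298)) (.node (.leaf 32855694) (.leaf 32282102))) (.node (.node (.leaf 20848640) (.leaf 7032916))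 (.node (.leaf 7031958) (.leaf 13555354)))) (.node (.node (.node (.leaf 25986808) (.leaf 28396465)) (.node (.leaf 21635478) (.leaf 24691248))) (.node (.node (.leaf 5701646) (.leaf 21634326)) (.node (.leaf 33481090) (.leaf 9717705))))) (.node (.node (.node (.node (.leaf 28401660) (.leaf 10427256)) (.node (.leaf 12114016) (.leaf 30720760))) (.node (.node (.leaf 8966414) (.leaf 28269386)) (.node (.leaf 18549222) (.leaf 33196666)))) (.node (.node (.node (.leaf 33474104) (.leaf 409984)) (.node (.leaf 852640) (.leaf 28509089))) (.node (.node (.leaf 17304922) (.leaf 32277814)) (.node (.leaf 32178381) (.leaf 8422604)))))))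

/-- A point of the block, part 39. -/
def ptCodePart39 : Janko1.Tree ℕ := (.node (.node (.node (.node (.node (.node (.leaf 14244390) (.leaf 14730609)) (.node (.leaf 34853240) (.leaf 14865500))) (.node (.node (.leaf 32179749) (.leaf 28778825)) (.node (.leaf 32850834) (.leaf 29393536)))) (.node (.node (.node (.leaf 104957) (.leaf 16025081)) (.node (.leaf 12831800) (.leaf 1656272))) (.node (.node (.leaf 6292609) (.leaf 23135849)) (.node (.leaf 105426) (.leaf 24921286))))) (.node (.node (.node (.node (.leaf 27745781) (.leaf 22798621)) (.node (.leaf 21872806) (.leaf 31037734))) (.node (.node (.leaf 7028790) (.leaf 28088454)) (.node (.leaf 24692326) (.leaf 17304960)))) (.node (.node (.node (.leaf 23008745) (.leaf 12010741)) (.node (.leaf 28771721) (.leaf 31038274))) (.node (.node (.leaf 11506284) (.leaf 8674792)) (.node (.leaf 8084406) (.leaf 33554842)))))) (.node (.node (.node (.node (.node (.leaf 35079521) (.leaf 1985824)) (.node (.leaf 21010602) (.leaf 7036974))) (.node (.node (.leaf 3072246) (.leaf 11408466))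 (.node (.leaf 28870029) (.leaf 12013890)))) (.node (.node (.node (.leaf 28514002) (.leaf 25676828)) (.node (.leaf 7539813) (.leaf 25133609))) (.node (.node (.leaf 13372222) (.leaf 35378949)) (.node (.leaf 23008822) (.leaf 17354104))))) (.node (.node (.node (.node (.leaf 13877502) (.leaf 25125034)) (.node (.leaf 21586278) (.leaf 9965016))) (.node (.node (.leaf 21880789) (.leaf 33197272)) (.node (.leaf 1659962) (.leaf 35079150)))) (.node (.node (.node (.leaf 6456678) (.leaf 34963781)) (.node (.leaf 18307916) (.leaf 3214117))) (.node (.node (.leaf 24331169) (.leaf 8675560)) (.node (.leaf 29138102) (.leaf 1655448)))))))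

/-- A point of the block, part 40. -/
def ptCodePart40 : Janko1.Tree ℕ := (.node (.node (.node (.node (.node (.node (.leaf 22255296) (.leaf 12014156)) (.node (.leaf 28515742) (.leaf 35379789))) (.node (.node (.leaf 9410362) (.leaf 24384845)) (.node (.leaf 35149245) (.leaf 2645421)))) (.node (.node (.node (.leaf 9406877) (.leaf 12799606)) (.node (.leaf 21336112) (.leaf 35380105))) (.node (.node (.leaf 33195558) (.leaf 18861262)) (.node (.leaf 17144733) (.leaf 6969888))))) (.node (.node (.node (.node (.leaf 3955044) (.leaf 5787849)) (.node (.leaf 525525) (.leaf 2574468))) (.node (.node (.leaf 2572877) (.leaf 31037430)) (.node (.leaf 28088013) (.leaf 24740746)))) (.node (.node (.node (.leaf 104925) (.leaf 12011921)) (.node (.leaf 21880922) (.leaf 28771276))) (.node (.node (.leaf 35381086) (.leaf 1985596)) (.node (.leaf 13324169) (.leaf 21336762)))))) (.node (.node (.node (.node (.node (.leaf 28263381) (.leaf 7506132)) (.node (.leaf 22121006) (.leaf 3916694))) (.node (.node (.leaf 24117608) (.leaf 24696477))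 (.node (.leaf 28394922) (.leaf 28236068)))) (.node (.node (.node (.leaf 32284104) (.leaf 28400802)) (.node (.leaf 13567917) (.leaf 4640333))) (.node (.node (.leaf 28775514) (.leaf 21879476)) (.node (.leaf 28500108) (.leaf 12246925))))) (.node (.node (.node (.node (.leaf 2957713) (.leaf 5688512)) (.node (.leaf 30054425) (.leaf 25991333))) (.node (.node (.leaf 5708728) (.leaf 28231533)) (.node (.leaf 24691717) (.leaf 17142069)))) (.node (.node (.node (.leaf 35377642) (.leaf 21875182)) (.node (.leaf 28872928) (.leaf 26838010))) (.node (.node (.leaf 8427397) (.leaf 18653602)) (.node (.leaf 21873425) (.leaf 25987957)))))))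

/-- A point of the block, part 41. -/
def ptCodePart41 : Janko1.Tree ℕ := (.node (.node (.node (.node (.node (.node (.leaf 7032385) (.leaf 28233016)) (.node (.leaf 32280374) (.leaf 15581708))) (.node (.node (.leaf 24498041) (.leaf 28084754)) (.node (.leaf 28396148) (.leaf 11584037)))) (.node (.node (.node (.leaf 8967937) (.leaf 5915985)) (.node (.leaf 23070817) (.leaf 8083474))) (.node (.node (.leaf 19582748) (.leaf 12245060)) (.node (.leaf 1987917) (.leaf 21119900))))) (.node (.node (.node (.node (.leaf 33610378) (.leaf 21432161)) (.node (.leaf 34849005) (.leaf 11239994))) (.node (.node (.leaf 35248276) (.leaf 12746953)) (.node (.leaf 2645817) (.leaf 22123264)))) (.node (.node (.node (.leaf 15763581) (.leaf 11231124)) (.node (.leaf 20373161) (.leaf 11510030))) (.node (.node (.leaf 35148284) (.leaf 892288)) (.node (.leaf 7539174) (.leaf 6967528)))))) (.node (.node (.node (.node (.node (.leaf 17974441) (.leaf 9705689)) (.node (.leaf 23518041) (.leaf 5704945))) (.node (.node (.leaf 6296373) (.leaf 28544953))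 (.node (.leaf 25561696) (.leaf 33606340)))) (.node (.node (.node (.leaf 35148804) (.leaf 17899537)) (.node (.leaf 4575125) (.leaf 34854824))) (.node (.node (.leaf 26500322) (.leaf 23140644)) (.node (.leaf 20601097) (.leaf 15404889))))) (.node (.node (.node (.node (.leaf 15404914) (.leaf 11834189)) (.node (.leaf 4577941) (.leaf 25679721))) (.node (.node (.leaf 30116120) (.leaf 24746068)) (.node (.leaf 24070968) (.leaf 13878448)))) (.node (.node (.node (.leaf 26497788) (.leaf 15401994)) (.node (.leaf 11507970) (.leaf 29149477))) (.node (.node (.leaf 34183030) (.leaf 31704294)) (.node (.leaf 7544608) (.leaf 21338053)))))))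

/-- A point of the block, part 42. -/
def ptCodePart42 : Janko1.Tree ℕ := (.node (.node (.node (.node (.node (.node (.leaf 411598) (.leaf 6967216)) (.node (.leaf 9968253) (.leaf 10426176))) (.node (.node (.leaf 18546888) (.leaf 17531698)) (.node (.leaf 30051276) (.leaf 3069994)))) (.node (.node (.node (.leaf 12321628) (.leaf 18875198)) (.node (.leaf 25921484) (.leaf 35119169))) (.node (.node (.leaf 13524310) (.leaf 30053294)) (.node (.leaf 20840849) (.leaf 30115750))))) (.node (.node (.node (.node (.leaf 13639561) (.leaf 35083065)) (.node (.leaf 137926) (.leaf 22780989))) (.node (.node (.leaf 5785681) (.leaf 26607997)) (.node (.leaf 18863333) (.leaf 10900728)))) (.node (.node (.node (.leaf 19581750) (.leaf 13551860)) (.node (.leaf 33195341) (.leaf 16305490))) (.node (.node (.leaf 5788294) (.leaf 28494573)) (.node (.leaf 14996749) (.leaf 16308668)))))) (.node (.node (.node (.node (.node (.leaf 12752909) (.leaf 11277974)) (.node (.leaf 13436821) (.leaf 14868862))) (.node (.node (.leaf 29132070) (.leaf 18880909))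 (.node (.leaf 12143534) (.leaf 13553702)))) (.node (.node (.node (.leaf 30728414) (.leaf 1841474)) (.node (.leaf 12830600) (.leaf 11405842))) (.node (.node (.leaf 11280382) (.leaf 14866525)) (.node (.leaf 21628150) (.leaf 14242793))))) (.node (.node (.node (.node (.leaf 9961677) (.leaf 11225225)) (.node (.leaf 27315908) (.leaf 30346982))) (.node (.node (.leaf 17793504) (.leaf 28512228)) (.node (.leaf 15582800) (.leaf 17310114)))) (.node (.node (.node (.leaf 31032314) (.leaf 14600221)) (.node (.leaf 14799925) (.leaf 31033140))) (.node (.node (.leaf 28396233) (.leaf 21434992)) (.node (.leaf 21758457) (.leaf 21435034)))))))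

/-- A point of the block, part 43. -/
def ptCodePart43 : Janko1.Tree ℕ := (.node (.node (.node (.node (.node (.node (.leaf 7275610) (.leaf 35117946)) (.node (.leaf 22253849) (.leaf 21434109))) (.node (.node (.leaf 2638088) (.leaf 34182112)) (.node (.leaf 5702460) (.leaf 34181000)))) (.node (.node (.node (.leaf 17358085) (.leaf 16307636)) (.node (.leaf 23135149) (.leaf 17977244))) (.node (.node (.leaf 24927916) (.leaf 17893352)) (.node (.leaf 21452993) (.leaf 5706772))))) (.node (.node (.node (.node (.leaf 21006861) (.leaf 9406261)) (.node (.leaf 17140990) (.leaf 3350038))) (.node (.node (.leaf 19582042) (.leaf 4052912)) (.node (.leaf 14794958) (.leaf 14795884)))) (.node (.node (.node (.leaf 33117384) (.leaf 13436817)) (.node (.leaf 12109792) (.leaf 16439398))) (.node (.node (.leaf 28495604) (.leaf 12804470)) (.node (.leaf 28541529) (.leaf 6964306)))))) (.node (.node (.node (.node (.node (.leaf 23138976) (.leaf 8668113)) (.node (.leaf 33705036) (.leaf 26854137))) (.node (.node (.leaf 29988996) (.leaf 35148782))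 (.node (.leaf 6971229) (.leaf 26448733)))) (.node (.node (.node (.leaf 34849845) (.leaf 21764282)) (.node (.leaf 18208764) (.leaf 11225429))) (.node (.node (.leaf 12108978) (.leaf 20842861)) (.node (.leaf 14992736) (.leaf 18207172))))) (.node (.node (.node (.node (.leaf 20599905) (.leaf 13371190)) (.node (.leaf 131784) (.leaf 5692308))) (.node (.node (.leaf 11228409) (.leaf 28496666)) (.node (.leaf 16031006) (.leaf 9962164)))) (.node (.node (.node (.leaf 12145248) (.leaf 11407194)) (.node (.leaf 1659816) (.leaf 30905874))) (.node (.node (.leaf 9754208) (.leaf 1986954)) (.node (.leaf 27910548) (.leaf 26837217)))))))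

/-- A point of the block, part 44. -/
def ptCodePart44 : Janko1.Tree ℕ := (.node (.node (.node (.node (.node (.node (.leaf 26447422) (.leaf 23137222)) (.node (.leaf 14600192) (.leaf 11273114))) (.node (.node (.leaf 33559109) (.leaf 26860800)) (.node (.leaf 23136620) (.leaf 21627664)))) (.node (.node (.node (.leaf 9752856) (.leaf 25563408)) (.node (.leaf 4145664) (.leaf 25562513))) (.node (.node (.leaf 20988464) (.leaf 12144222)) (.node (.leaf 6526298) (.leaf 29154621))))) (.node (.node (.node (.node (.leaf 4145672) (.leaf 13321890)) (.node (.leaf 26840144) (.leaf 22778488))) (.node (.node (.leaf 28874885) (.leaf 13524496)) (.node (.leaf 22251201) (.leaf 24926260)))) (.node (.node (.node (.leaf 5687382) (.leaf 8082950)) (.node (.leaf 13519458) (.leaf 10898826))) (.node (.node (.leaf 7278790) (.leaf 21370306)) (.node (.leaf 16031880) (.leaf 13323074)))))) (.node (.node (.node (.node (.node (.leaf 20599457) (.leaf 30117397)) (.node (.leaf 24740517) (.leaf 21335949))) (.node (.node (.leaf 1656328) (.leaf 22780965))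 (.node (.leaf 29333684) (.leaf 26499901)))) (.node (.node (.node (.leaf 17303053) (.leaf 29151288)) (.node (.leaf 17308584) (.leaf 9701930))) (.node (.node (.leaf 12114752) (.leaf 8002910)) (.node (.leaf 33726308) (.leaf 17302469))))) (.node (.node (.node (.node (.leaf 20993616) (.leaf 28775468)) (.node (.leaf 4637605) (.leaf 33725400))) (.node (.node (.leaf 19582026) (.leaf 33118896)) (.node (.leaf 17793598) (.leaf 24502433)))) (.node (.node (.node (.leaf 12114713) (.leaf 11225609)) (.node (.leaf 9028138) (.leaf 9752229))) (.node (.node (.leaf 21452578) (.leaf 3918341)) (.node (.leaf 4047861) (.leaf 3432753)))))))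

/-- A point of the block, part 45. -/
def ptCodePart45 : Janko1.Tree ℕ := (.node (.node (.node (.node (.node (.node (.leaf 6463356) (.leaf 16025478)) (.node (.leaf 10426260) (.leaf 12800589))) (.node (.node (.leaf 24939590) (.leaf 25446924)) (.node (.leaf 27906305) (.leaf 33118237)))) (.node (.node (.node (.leaf 891020) (.leaf 13632356)) (.node (.leaf 8078622) (.leaf 13374225))) (.node (.node (.leaf 14605648) (.leaf 13637684)) (.node (.leaf 25447474) (.leaf 5704905))))) (.node (.node (.node (.node (.leaf 21446940) (.leaf 887354)) (.node (.leaf 35246185) (.leaf 14605314))) (.node (.node (.leaf 6856605) (.leaf 14240957)) (.node (.leaf 2674086) (.leaf 9734098)))) (.node (.node (.node (.leaf 28270953) (.leaf 34182825)) (.node (.leaf 21579577) (.leaf 856805))) (.node (.node (.leaf 5791573) (.leaf 22125169)) (.node (.leaf 26480005) (.leaf 10421740)))))) (.node (.node (.node (.node (.node (.leaf 14861824) (.leaf 18302720)) (.node (.leaf 6294101) (.leaf 4149965))) (.node (.node (.leaf 14736564) (.leaf 28496829))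 (.node (.leaf 25446660) (.leaf 29984628)))) (.node (.node (.node (.leaf 17531888) (.leaf 13435721)) (.node (.leaf 30905997) (.leaf 33725792))) (.node (.node (.leaf 17702401) (.leaf 11901321)) (.node (.leaf 29148674) (.leaf 24119958))))) (.node (.node (.node (.node (.leaf 22119092) (.leaf 20841454)) (.node (.leaf 3211817) (.leaf 9036040))) (.node (.node (.leaf 24496233) (.leaf 24747250)) (.node (.leaf 24926485) (.leaf 25921798)))) (.node (.node (.node (.leaf 26498446) (.leaf 853644)) (.node (.leaf 9702197) (.leaf 3426834))) (.node (.node (.leaf 15767753) (.leaf 12247457)) (.node (.leaf 17699368) (.leaf 35086501)))))))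

/-- A point of the block, part 46. -/
def ptCodePart46 : Janko1.Tree ℕ := (.node (.node (.node (.node (.node (.node (.leaf 11247245) (.leaf 13210497)) (.node (.leaf 11587680) (.leaf 2643302))) (.node (.node (.leaf 1657048) (.leaf 24921570)) (.node (.leaf 7280022) (.leaf 16304397)))) (.node (.node (.node (.leaf 5784104) (.leaf 24943692)) (.node (.leaf 34178570) (.leaf 24936549))) (.node (.node (.leaf 26840413) (.leaf 34971880)) (.node (.leaf 12832749) (.leaf 21008570))))) (.node (.node (.node (.node (.leaf 14240700) (.leaf 7278374)) (.node (.leaf 9034580) (.leaf 3064102))) (.node (.node (.leaf 33556160) (.leaf 27318920)) (.node (.leaf 9739026) (.leaf 20367293)))) (.node (.node (.node (.leaf 17896208) (.leaf 27692814)) (.node (.leaf 2950053) (.leaf 21335614))) (.node (.node (.leaf 31708776) (.leaf 30117534)) (.node (.leaf 17898049) (.leaf 26856622)))))) (.node (.node (.node (.node (.node (.leaf 22798056) (.leaf 25559882)) (.node (.leaf 29398306) (.leaf 22257073))) (.node (.node (.leaf 30119980) (.leaf 25140950))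 (.node (.leaf 24072398) (.leaf 26839152)))) (.node (.node (.node (.leaf 26495401) (.leaf 7512261)) (.node (.leaf 28266328) (.leaf 25125062))) (.node (.node (.leaf 530977) (.leaf 13209669)) (.node (.leaf 6855205) (.leaf 24125456))))) (.node (.node (.node (.node (.leaf 25986598) (.leaf 13556554)) (.node (.leaf 27631577) (.leaf 6461865))) (.node (.node (.leaf 5914914) (.leaf 14734173)) (.node (.leaf 35151322) (.leaf 24071248)))) (.node (.node (.node (.leaf 29335534) (.leaf 4145800)) (.node (.leaf 887872) (.leaf 29152889))) (.node (.node (.leaf 8034252) (.leaf 2299748)) (.node (.leaf 16031694) (.leaf 24069196)))))))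

/-- A point of the block, part 47. -/
def ptCodePart47 : Janko1.Tree ℕ := (.node (.node (.node (.node (.node (.node (.leaf 12142296) (.leaf 13520430)) (.node (.leaf 23516049) (.leaf 28543886))) (.node (.node (.leaf 30203318) (.leaf 1835622)) (.node (.leaf 26859872) (.leaf 98661)))) (.node (.node (.node (.leaf 17539014) (.leaf 11509138)) (.node (.leaf 14732090) (.leaf 12142728))) (.node (.node (.leaf 11246937) (.leaf 9033041)) (.node (.leaf 35116897) (.leaf 21579296))))) (.node (.node (.node (.node (.leaf 27627802) (.leaf 16308626)) (.node (.leaf 27905593) (.leaf 28496449))) (.node (.node (.leaf 3918218) (.leaf 3952194)) (.node (.leaf 27902574) (.leaf 11587658)))) (.node (.node (.node (.leaf 18877684) (.leaf 26445417)) (.node (.leaf 22250426) (.leaf 6296894))) (.node (.node (.leaf 11587142) (.leaf 14998572)) (.node (.leaf 1841234) (.leaf 20988813)))))) (.node (.node (.node (.node (.node (.leaf 25141469) (.leaf 12798682)) (.node (.leaf 14733952) (.leaf 31048686))) (.node (.node (.leaf 27690669) (.leaf 22250376))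 (.node (.leaf 4153728) (.leaf 12751062)))) (.node (.node (.node (.leaf 13638806) (.leaf 14868314)) (.node (.leaf 10903689) (.leaf 8028292))) (.node (.node (.leaf 16305765) (.leaf 11410537)) (.node (.leaf 19580842) (.leaf 12242690))))) (.node (.node (.node (.node (.leaf 20993453) (.leaf 30908120)) (.node (.leaf 30492338) (.leaf 13439634))) (.node (.node (.leaf 2642038) (.leaf 13323961)) (.node (.leaf 10896213) (.leaf 5690142)))) (.node (.node (.node (.leaf 26478022) (.leaf 8969009)) (.node (.leaf 11405354) (.leaf 9752448))) (.node (.node (.leaf 1838096) (.leaf 13883868)) (.node (.leaf 21758477) (.leaf 23072976)))))))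

/-- A point of the block, part 48. -/
def ptCodePart48 : Janko1.Tree ℕ := (.node (.node (.node (.node (.node (.node (.leaf 6458429) (.leaf 3349864)) (.node (.leaf 13207256) (.leaf 18303605))) (.node (.node (.leaf 24121560) (.leaf 7506890)) (.node (.leaf 27744653) (.leaf 26854581)))) (.node (.node (.node (.leaf 8963801) (.leaf 25678069)) (.node (.leaf 5709250) (.leaf 33719770))) (.node (.node (.leaf 33611154) (.leaf 2299864)) (.node (.leaf 8033718) (.leaf 4149946))))) (.node (.node (.node (.node (.leaf 17357116) (.leaf 30202290)) (.node (.leaf 5704664) (.leaf 30494289))) (.node (.node (.leaf 21124968) (.leaf 11404562)) (.node (.leaf 21766393) (.leaf 6856978)))) (.node (.node (.node (.leaf 33561468) (.leaf 29983061)) (.node (.leaf 21449728) (.leaf 11239662))) (.node (.node (.leaf 7278600) (.leaf 15404526)) (.node (.leaf 33706302) (.leaf 34964884)))))) (.node (.node (.node (.node (.node (.leaf 27746382) (.leaf 3952581)) (.node (.leaf 21368722) (.leaf 29988602))) (.node (.node (.leaf 35082250) (.leaf 20599473))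 (.node (.leaf 11829756) (.leaf 24075428)))) (.node (.node (.node (.leaf 25674000) (.leaf 25677305)) (.node (.leaf 24124169) (.leaf 23137614))) (.node (.node (.leaf 21433120) (.leaf 14867949)) (.node (.leaf 10898734) (.leaf 9031797))))) (.node (.node (.node (.node (.leaf 6849222) (.leaf 6456974)) (.node (.leaf 30199056) (.leaf 24502046))) (.node (.node (.leaf 25118394) (.leaf 9739114)) (.node (.leaf 17702714) (.leaf 18881576)))) (.node (.node (.node (.leaf 7540310) (.leaf 18881000)) (.node (.leaf 3921574) (.leaf 13440070))) (.node (.node (.leaf 3071028) (.leaf 18550474)) (.node (.leaf 27312313) (.leaf 12796725)))))))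

/-- A point of the block, part 49. -/
def ptCodePart49 : Janko1.Tree ℕ := (.node (.node (.node (.node (.node (.node (.leaf 30723809) (.leaf 9752046)) (.node (.leaf 3949918) (.leaf 11247074))) (.node (.node (.leaf 12835686) (.leaf 8670844)) (.node (.leaf 30727513) (.leaf 33710132)))) (.node (.node (.node (.leaf 11274429) (.leaf 10424781)) (.node (.leaf 2673385) (.leaf 26446260))) (.node (.node (.leaf 27693194) (.leaf 23072269)) (.node (.leaf 17894296) (.leaf 22254842))))) (.node (.node (.node (.node (.leaf 11508716) (.leaf 5785542)) (.node (.leaf 26612273) (.leaf 31703578))) (.node (.node (.leaf 30900882) (.leaf 13436761)) (.node (.leaf 13324857) (.leaf 11228517)))) (.node (.node (.node (.leaf 24384448) (.leaf 23077013)) (.node (.leaf 31053253) (.leaf 11584890))) (.node (.node (.leaf 417712) (.leaf 4574461)) (.node (.leaf 3064712) (.leaf 12326604)))))) (.node (.node (.node (.node (.node (.leaf 25124996) (.leaf 28265294)) (.node (.leaf 30722540) (.leaf 22126048))) (.node (.node (.leaf 2645881) (.leaf 30344516))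 (.node (.leaf 25926274) (.leaf 21372670)))) (.node (.node (.node (.leaf 3218465) (.leaf 11501688)) (.node (.leaf 33559453) (.leaf 414321))) (.node (.node (.leaf 9408332) (.leaf 24927760)) (.node (.leaf 17794534) (.leaf 27690280))))) (.node (.node (.node (.node (.leaf 7276658) (.leaf 25449769)) (.node (.leaf 30345465) (.leaf 20600625))) (.node (.node (.leaf 7996577) (.leaf 30119553)) (.node (.leaf 35083614) (.leaf 24495408)))) (.node (.node (.node (.leaf 17535684) (.leaf 12326320)) (.node (.leaf 12755041) (.leaf 8426502))) (.node (.node (.leaf 8970345) (.leaf 6851650)) (.node (.leaf 30199517) (.leaf 34967580)))))))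

/-- A point of the block, part 50. -/
def ptCodePart50 : Janko1.Tree ℕ := (.node (.node (.node (.node (.node (.node (.leaf 25134568) (.leaf 3952078)) (.node (.leaf 33115446) (.leaf 29990008))) (.node (.node (.leaf 29398012) (.leaf 28494205)) (.node (.leaf 33557798) (.leaf 8077626)))) (.node (.node (.node (.leaf 2300530) (.leaf 9408961)) (.node (.leaf 13372920) (.leaf 5686953))) (.node (.node (.leaf 21763545) (.leaf 26611673)) (.node (.leaf 24742264) (.leaf 3347073))))) (.node (.node (.node (.node (.leaf 11836838) (.leaf 27910580)) (.node (.leaf 17354380) (.leaf 30723646))) (.node (.node (.leaf 7511046) (.leaf 15584426)) (.node (.leaf 22778486) (.leaf 9969109)))) (.node (.node (.node (.leaf 24748197) (.leaf 12246613)) (.node (.leaf 10424192) (.leaf 30052998))) (.node (.node (.leaf 4048725) (.leaf 21365156)) (.node (.leaf 34968410) (.leaf 12798284)))))) (.node (.node (.node (.node (.node (.leaf 17143336) (.leaf 8966590)) (.node (.leaf 17975318) (.leaf 3948902))) (.node (.node (.leaf 11225054) (.leaf 2956345))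 (.node (.leaf 7510438) (.leaf 2677502)))) (.node (.node (.node (.leaf 8425094) (.leaf 33562554)) (.node (.leaf 35113658) (.leaf 28876597))) (.node (.node (.leaf 8968993) (.leaf 24380202)) (.node (.leaf 30056616) (.leaf 35116853))))) (.node (.node (.node (.node (.leaf 3921870) (.leaf 33611765)) (.node (.leaf 26612822) (.leaf 21583050))) (.node (.node (.leaf 18308794) (.leaf 32986496)) (.node (.leaf 856976) (.leaf 33708828)))) (.node (.node (.node (.leaf 29136582) (.leaf 13885420)) (.node (.leaf 5921745) (.leaf 26482873))) (.node (.node (.leaf 23515846) (.leaf 8347414)) (.node (.leaf 18303597) (.leaf 23140108)))))))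

/-- A point of the block, part 51. -/
def ptCodePart51 : Janko1.Tree ℕ := (.node (.node (.node (.node (.node (.node (.leaf 28876685) (.leaf 22775204)) (.node (.leaf 30906062) (.leaf 4150516))) (.node (.node (.leaf 24925700) (.leaf 30048649)) (.node (.leaf 26615432) (.leaf 12748600)))) (.node (.node (.node (.leaf 8424257) (.leaf 25927892)) (.node (.leaf 27743737) (.leaf 33611901))) (.node (.node (.leaf 26497866) (.leaf 139041)) (.node (.leaf 33720569) (.leaf 30490762))))) (.node (.node (.node (.node (.leaf 34853589) (.leaf 3922426)) (.node (.leaf 23518173) (.leaf 6966957))) (.node (.node (.leaf 6967798) (.leaf 34854478)) (.node (.leaf 26612824) (.leaf 9706198)))) (.node (.node (.node (.leaf 31050900) (.leaf 34851796)) (.node (.leaf 22119697) (.leaf 29401185))) (.node (.node (.leaf 29990604) (.leaf 21628012)) (.node (.leaf 21340106) (.leaf 4048356)))))) (.node (.node (.node (.node (.node (.leaf 12322250) (.leaf 2950282)) (.node (.leaf 13327224) (.leaf 11504612))) (.node (.node (.leaf 33707234) (.leaf 30497456))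 (.node (.leaf 23519466) (.leaf 18877722)))) (.node (.node (.node (.leaf 139332) (.leaf 8342309)) (.node (.leaf 25124396) (.leaf 3218200))) (.node (.node (.leaf 21125890) (.leaf 11274841)) (.node (.leaf 12114601) (.leaf 18208004))))) (.node (.node (.node (.node (.leaf 12017033) (.leaf 28233417)) (.node (.leaf 27741045) (.leaf 2579960))) (.node (.node (.leaf 525905) (.leaf 35243098)) (.node (.leaf 28084698) (.leaf 4644064)))) (.node (.node (.node (.leaf 2578745) (.leaf 8343217)) (.node (.leaf 28510273) (.leaf 21010709))) (.node (.node (.leaf 24332074) (.leaf 35113702)) (.node (.leaf 525889) (.leaf 1990292)))))))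

/-- A point of the block, part 52. -/
def ptCodePart52 : Janko1.Tree ℕ := (.node (.node (.node (.node (.node (.node (.leaf 1658793) (.leaf 15589736)) (.node (.leaf 17536928) (.leaf 34178104))) (.node (.node (.leaf 5788850) (.leaf 3211574)) (.node (.leaf 22779037) (.leaf 16439240)))) (.node (.node (.node (.leaf 9033297) (.leaf 27743112)) (.node (.leaf 30344233) (.leaf 18875989))) (.node (.node (.leaf 24120412) (.leaf 3917940)) (.node (.leaf 15403150) (.leaf 15409404))))) (.node (.node (.node (.node (.leaf 26614386) (.leaf 3217832)) (.node (.leaf 24068217) (.leaf 417824))) (.node (.node (.leaf 8033026) (.leaf 17356058)) (.node (.leaf 8340378) (.leaf 8081161)))) (.node (.node (.node (.leaf 1843325) (.leaf 27738968)) (.node (.leaf 24937252) (.leaf 19554713))) (.node (.node (.leaf 11897017) (.leaf 33197809)) (.node (.leaf 19546620) (.leaf 12801465)))))) (.node (.node (.node (.node (.node (.leaf 14798858) (.leaf 19582516)) (.node (.leaf 6856789) (.leaf 14996869))) (.node (.node (.leaf 35145953) (.leaf 9733501))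 (.node (.leaf 19582660) (.leaf 25451030)))) (.node (.node (.node (.leaf 12750640) (.leaf 23513674)) (.node (.leaf 5691097) (.leaf 15766090))) (.node (.node (.leaf 29333181) (.leaf 12143186)) (.node (.leaf 18882460) (.leaf 105869))))) (.node (.node (.node (.node (.leaf 31708805) (.leaf 28267726)) (.node (.leaf 26844229) (.leaf 2293857))) (.node (.node (.leaf 14598926) (.leaf 33701928)) (.node (.leaf 17977404) (.leaf 4051537)))) (.node (.node (.node (.leaf 11226156) (.leaf 35376976)) (.node (.leaf 32178184) (.leaf 21446736))) (.node (.node (.leaf 6298710) (.leaf 35376909)) (.node (.leaf 28395881) (.leaf 19553892)))))))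

/-- A point of the block, part 53. -/
def ptCodePart53 : Janko1.Tree ℕ := (.node (.node (.node (.node (.node (.node (.leaf 28513148) (.leaf 12829290)) (.node (.leaf 22797794) (.leaf 34182798))) (.node (.node (.leaf 34971258) (.leaf 9967074)) (.node (.leaf 892424) (.leaf 33719306)))) (.node (.node (.node (.leaf 12141817) (.leaf 2299698)) (.node (.leaf 35118949) (.leaf 23069826))) (.node (.node (.leaf 11247166) (.leaf 5688768)) (.node (.leaf 854892) (.leaf 17800365))))) (.node (.node (.node (.node (.leaf 5790046) (.leaf 29133616)) (.node (.leaf 27906574) (.leaf 19546898))) (.node (.node (.leaf 8670353) (.leaf 30055116)) (.node (.leaf 6523332) (.leaf 25560436)))) (.node (.node (.node (.leaf 22775669) (.leaf 32982034)) (.node (.leaf 6295950) (.leaf 4055460))) (.node (.node (.leaf 21336220) (.leaf 12833936)) (.node (.leaf 11405513) (.leaf 26478390)))))) (.node (.node (.node (.node (.node (.leaf 24920589) (.leaf 11406716)) (.node (.leaf 4047748) (.leaf 8030604))) (.node (.node (.leaf 6292884) (.leaf 11272286))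 (.node (.leaf 21581401) (.leaf 25121488)))) (.node (.node (.node (.leaf 26484213) (.leaf 31703737)) (.node (.leaf 11829978) (.leaf 21634698))) (.node (.node (.leaf 35249778) (.leaf 24501654)) (.node (.leaf 29334534) (.leaf 30346688))))) (.node (.node (.node (.node (.leaf 8346188) (.leaf 25446730)) (.node (.leaf 25122801) (.leaf 28868977))) (.node (.node (.leaf 13207938) (.leaf 29152374)) (.node (.leaf 29335117) (.leaf 22796370)))) (.node (.node (.node (.leaf 13372237) (.leaf 31708229)) (.node (.leaf 13326840) (.leaf 35246365))) (.node (.node (.leaf 29136438) (.leaf 21453818)) (.node (.leaf 30497340) (.leaf 13574137)))))))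

/-- A point of the block, part 54. -/
def ptCodePart54 : Janko1.Tree ℕ := (.node (.node (.node (.node (.node (.node (.leaf 12329402) (.leaf 3064684)) (.node (.leaf 24500744) (.leaf 26484906))) (.node (.node (.leaf 24499389) (.leaf 12016665)) (.node (.leaf 7536708) (.leaf 29990714)))) (.node (.node (.node (.leaf 11900544) (.leaf 3917912)) (.node (.leaf 30049425) (.leaf 21449296))) (.node (.node (.leaf 20995281) (.leaf 32986184)) (.node (.leaf 24381708) (.leaf 14799968))))) (.node (.node (.node (.node (.leaf 25564690) (.leaf 857370)) (.node (.leaf 24942609) (.leaf 21430512))) (.node (.node (.leaf 31053964) (.leaf 5920204)) (.node (.leaf 25992594) (.leaf 3345554)))) (.node (.node (.node (.leaf 33113042) (.leaf 21372029)) (.node (.leaf 34965290) (.leaf 26853393))) (.node (.node (.leaf 25122836) (.leaf 30347242)) (.node (.leaf 15764530) (.leaf 18203822)))))) (.node (.node (.node (.node (.node (.leaf 32987313) (.leaf 414177)) (.node (.leaf 9733429) (.leaf 21634408))) (.node (.node (.leaf 30200388) (.leaf 24379984))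 (.node (.leaf 16436525) (.leaf 26495269)))) (.node (.node (.node (.leaf 12329354) (.leaf 20366864)) (.node (.leaf 28541870) (.leaf 6461829))) (.node (.node (.leaf 21583908) (.leaf 13208529)) (.node (.leaf 30907776) (.leaf 22796468))))) (.node (.node (.node (.node (.leaf 4577353) (.leaf 14860348)) (.node (.leaf 8341560) (.leaf 35145476))) (.node (.node (.leaf 21447909) (.leaf 30723308)) (.node (.leaf 27744250) (.leaf 33199414)))) (.node (.node (.node (.leaf 8029934) (.leaf 10898545)) (.node (.leaf 20367786) (.leaf 30202542))) (.node (.node (.leaf 18552773) (.leaf 8031342)) (.node (.leaf 25135736) (.leaf 22794158)))))))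

/-- A point of the block, part 55. -/
def ptCodePart55 : Janko1.Tree ℕ := (.node (.node (.node (.node (.node (.node (.leaf 6461152) (.leaf 3954238)) (.node (.leaf 28775249) (.leaf 35377462))) (.node (.node (.leaf 29396020) (.leaf 14801576)) (.node (.leaf 28774582) (.leaf 18203470)))) (.node (.node (.node (.leaf 28231742) (.leaf 31031812)) (.node (.leaf 12017764) (.leaf 32277209))) (.node (.node (.leaf 18209709) (.leaf 24335028)) (.node (.leaf 32181812) (.leaf 18546769))))) (.node (.node (.node (.node (.leaf 4644520) (.leaf 7033865)) (.node (.leaf 3063868) (.leaf 12753065))) (.node (.node (.leaf 3350024) (.leaf 7281802)) (.node (.leaf 32983202) (.leaf 9737926)))) (.node (.node (.node (.leaf 14245233) (.leaf 12239197)) (.node (.leaf 15581488) (.leaf 27627749))) (.node (.node (.leaf 2300046) (.leaf 13523564)) (.node (.leaf 7275348) (.leaf 102902)))))) (.node (.node (.node (.node (.node (.leaf 17143748) (.leaf 6528185)) (.node (.leaf 13376506) (.leaf 11589942))) (.node (.node (.leaf 7509984) (.leaf 17140338))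 (.node (.leaf 22778673) (.leaf 25140888)))) (.node (.node (.node (.leaf 11837102) (.leaf 18865281)) (.node (.leaf 33703701) (.leaf 35243924))) (.node (.node (.leaf 98724) (.leaf 24940012)) (.node (.leaf 11590370) (.leaf 16024553))))) (.node (.node (.node (.node (.leaf 16441330) (.leaf 4571840)) (.node (.leaf 30725170) (.leaf 9749194))) (.node (.node (.leaf 33720932) (.leaf 2956068)) (.node (.leaf 19550358) (.leaf 17980386)))) (.node (.node (.node (.leaf 31050773) (.leaf 1988792)) (.node (.leaf 14731597) (.leaf 17695682))) (.node (.node (.leaf 18553660) (.leaf 11896344)) (.node (.leaf 17979644) (.leaf 16026560)))))))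

/-- A point of the block, part 56. -/
def ptCodePart56 : Janko1.Tree ℕ := (.node (.node (.node (.node (.node (.node (.leaf 17537404) (.leaf 20841746)) (.node (.leaf 13523916) (.leaf 17537500))) (.node (.node (.leaf 7539542) (.leaf 21004981)) (.node (.leaf 13636608) (.leaf 17891334)))) (.node (.node (.node (.leaf 20599745) (.leaf 24939972)) (.node (.leaf 18861493) (.leaf 20368296))) (.node (.node (.leaf 7995574) (.leaf 15407749)) (.node (.leaf 8669830) (.leaf 1657314))))) (.node (.node (.node (.node (.leaf 26608084) (.leaf 8425412)) (.node (.leaf 18861026) (.leaf 4573937))) (.node (.node (.leaf 28543696) (.leaf 35243985)) (.node (.leaf 888981) (.leaf 8000370)))) (.node (.node (.node (.leaf 17351281) (.leaf 14993249)) (.node (.leaf 9411758) (.leaf 30496988))) (.node (.node (.leaf 4052680) (.leaf 13325177)) (.node (.leaf 25922410) (.leaf 3213664)))))) (.node (.node (.node (.node (.node (.leaf 1837190) (.leaf 29334522)) (.node (.leaf 8673524) (.leaf 16302172))) (.node (.node (.leaf 9755728) (.leaf 14862476))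 (.node (.leaf 27627354) (.leaf 11836030)))) (.node (.node (.node (.leaf 2295072) (.leaf 16436078)) (.node (.leaf 11902986) (.leaf 20843278))) (.node (.node (.leaf 17354904) (.leaf 14732630)) (.node (.leaf 14600000) (.leaf 10426086))))) (.node (.node (.node (.node (.leaf 24746308) (.leaf 25451369)) (.node (.leaf 33559024) (.leaf 33197918))) (.node (.node (.leaf 8424492) (.leaf 30905290)) (.node (.leaf 29151084) (.leaf 14238100)))) (.node (.node (.node (.leaf 17140434) (.leaf 8083924)) (.node (.leaf 7504960) (.leaf 21437125))) (.node (.node (.leaf 1982765) (.leaf 9409158)) (.node (.leaf 7507418) (.leaf 8428286)))))))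

/-- A point of the block, part 57. -/
def ptCodePart57 : Janko1.Tree ℕ := (.node (.node (.node (.node (.node (.node (.leaf 28875965) (.leaf 3425546)) (.node (.leaf 3346173) (.leaf 21333049))) (.node (.node (.leaf 33117832) (.leaf 15761842)) (.node (.leaf 2298898) (.leaf 26479988)))) (.node (.node (.node (.leaf 33611236) (.leaf 11243386)) (.node (.leaf 3426484) (.leaf 16303757))) (.node (.node (.leaf 17703018) (.leaf 15589712)) (.node (.leaf 35080790) (.leaf 8343384))))) (.node (.node (.node (.node (.leaf 22792412) (.leaf 27629184)) (.node (.leaf 34967201) (.leaf 22791972))) (.node (.node (.leaf 1990740) (.leaf 3069478)) (.node (.leaf 4571157) (.leaf 19580421)))) (.node (.node (.node (.leaf 30118445) (.leaf 10901524)) (.node (.leaf 15764474) (.leaf 23765242))) (.node (.node (.leaf 23760092) (.leaf 23762417)) (.node (.leaf 23233450) (.leaf 14193762)))))) (.node (.node (.node (.node (.node (.leaf 16290930) (.leaf 23760892)) (.node (.leaf 31888428) (.leaf 23236006))) (.node (.node (.leaf 6508000) (.leaf 31004624))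 (.node (.leaf 6068052) (.leaf 33018905)))) (.node (.node (.node (.leaf 16289380) (.leaf 14650732)) (.node (.leaf 25483258) (.leaf 16420414))) (.node (.node (.leaf 25479422) (.leaf 27164998)) (.node (.leaf 6510001) (.leaf 16731016))))) (.node (.node (.node (.node (.leaf 6510693) (.leaf 6506021)) (.node (.leaf 31576302) (.leaf 22446969))) (.node (.node (.leaf 30478878) (.leaf 34674224)) (.node (.leaf 5086444) (.leaf 7821902)))) (.node (.node (.node (.leaf 32818049) (.leaf 8773025)) (.node (.leaf 30478150) (.leaf 26083392))) (.node (.node (.leaf 32133576) (.leaf 20797505)) (.node (.leaf 20471324) (.leaf 2444214)))))))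

/-- A point of the block, part 58. -/
def ptCodePart58 : Janko1.Tree ℕ := (.node (.node (.node (.node (.node (.node (.leaf 15028993) (.leaf 25774745)) (.node (.leaf 7736930) (.leaf 32281752))) (.node (.node (.leaf 6512974) (.leaf 29528594)) (.node (.leaf 29115182) (.leaf 14861666)))) (.node (.node (.node (.leaf 7822150) (.leaf 21586057)) (.node (.leaf 3806904) (.leaf 14770444))) (.node (.node (.leaf 24609138) (.leaf 20470517)) (.node (.leaf 791242) (.leaf 791752))))) (.node (.node (.node (.node (.leaf 27481634) (.leaf 11540208)) (.node (.leaf 23765410) (.leaf 23761989))) (.node (.node (.leaf 12980914) (.leaf 29286256)) (.node (.leaf 3837725) (.leaf 13700505)))) (.node (.node (.node (.leaf 363558) (.leaf 10961180)) (.node (.leaf 24611190) (.leaf 27166913))) (.node (.node (.leaf 14752834) (.leaf 21925536)) (.node (.leaf 12979869) (.leaf 28185213)))))) (.node (.node (.node (.node (.node (.leaf 22567172) (.leaf 14964641)) (.node (.leaf 21102656) (.leaf 2248996))) (.node (.node (.leaf 34249549) (.leaf 28019849))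 (.node (.leaf 23239604) (.leaf 14192376)))) (.node (.node (.node (.leaf 26446045) (.leaf 9853820)) (.node (.leaf 5079062) (.leaf 8102329))) (.node (.node (.leaf 12983861) (.leaf 30477174)) (.node (.leaf 28545570) (.leaf 2251114))))) (.node (.node (.node (.node (.leaf 14861137) (.leaf 28778232)) (.node (.leaf 4752097) (.leaf 9524197))) (.node (.node (.leaf 28428578) (.leaf 20798696)) (.node (.leaf 14651762) (.leaf 30261373)))) (.node (.node (.node (.leaf 12704210) (.leaf 6491693)) (.node (.leaf 5656773) (.leaf 6757062))) (.node (.node (.leaf 22662498) (.leaf 28776736)) (.node (.leaf 23318872) (.leaf 9473738)))))))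

/-- A point of the block, part 59. -/
def ptCodePart59 : Janko1.Tree ℕ := (.node (.node (.node (.node (.node (.node (.leaf 24007540) (.leaf 17042509)) (.node (.leaf 21318768) (.leaf 21109290))) (.node (.node (.leaf 9847581) (.leaf 7822037)) (.node (.leaf 28185396) (.leaf 13700294)))) (.node (.node (.node (.leaf 28646928) (.leaf 14671068)) (.node (.leaf 918174) (.leaf 34636314))) (.node (.node (.leaf 7868254) (.leaf 14080370)) (.node (.leaf 3806706) (.leaf 21569477))))) (.node (.node (.node (.node (.leaf 24496369) (.leaf 27690700)) (.node (.leaf 25779820) (.leaf 25269970))) (.node (.node (.leaf 27694622) (.leaf 12704512)) (.node (.leaf 14190294) (.leaf 25612574)))) (.node (.node (.node (.leaf 14729266) (.leaf 7820176)) (.node (.leaf 6560745) (.leaf 26495550))) (.node (.node (.leaf 19291753) (.leaf 7870385)) (.node (.leaf 24544900) (.leaf 8442802)))))) (.node (.node (.node (.node (.node (.leaf 2284152) (.leaf 23450730)) (.node (.leaf 4752666) (.leaf 13114962))) (.node (.node (.leaf 10737238) (.leaf 17483217))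 (.node (.leaf 22138257) (.leaf 2245505)))) (.node (.node (.node (.leaf 9473104) (.leaf 14965402)) (.node (.leaf 18781868) (.leaf 4986854))) (.node (.node (.leaf 24714933) (.leaf 14666045)) (.node (.leaf 10475482) (.leaf 22450218))))) (.node (.node (.node (.node (.leaf 20499104) (.leaf 29116190)) (.node (.leaf 18351782) (.leaf 24631773))) (.node (.node (.leaf 12524666) (.leaf 794560)) (.node (.leaf 31575376) (.leaf 26083664)))) (.node (.node (.node (.leaf 2838718) (.leaf 18077032)) (.node (.leaf 20793665) (.leaf 15030510))) (.node (.node (.leaf 31346160) (.leaf 9519285)) (.node (.leaf 1592006) (.leaf 9375388)))))))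

/-- A point of the block, part 60. -/
def ptCodePart60 : Janko1.Tree ℕ := (.node (.node (.node (.node (.node (.node (.leaf 9847626) (.leaf 24380280)) (.node (.leaf 27168925) (.leaf 33014362))) (.node (.node (.leaf 9016114) (.leaf 9110142)) (.node (.leaf 20501149) (.leaf 14189370)))) (.node (.node (.node (.leaf 31278996) (.leaf 10969422)) (.node (.leaf 10969454) (.leaf 18989321))) (.node (.node (.leaf 27689182) (.leaf 14765122)) (.node (.leaf 33014354) (.leaf 28787657))))) (.node (.node (.node (.node (.leaf 14075176) (.leaf 31885417)) (.node (.leaf 18761824) (.leaf 18991745))) (.node (.node (.leaf 25483664) (.leaf 28185700)) (.node (.leaf 22511705) (.leaf 32281098)))) (.node (.node (.node (.leaf 12422741) (.leaf 24549246)) (.node (.leaf 4756864) (.leaf 6931378))) (.node (.node (.leaf 21581793) (.leaf 2250068)) (.node (.leaf 26467289) (.leaf 31883998)))))) (.node (.node (.node (.node (.node (.leaf 9849829) (.leaf 19793094)) (.node (.leaf 32822505) (.leaf 32131873))) (.node (.node (.leaf 25772888) (.leaf 2442589))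 (.node (.leaf 9112413) (.leaf 9273957)))) (.node (.node (.node (.leaf 15714868) (.leaf 20468434)) (.node (.leaf 8765656) (.leaf 1312902))) (.node (.node (.leaf 12179681) (.leaf 9182893)) (.node (.leaf 16833190) (.leaf 31283264))))) (.node (.node (.node (.node (.leaf 8100613) (.leaf 1314189)) (.node (.leaf 787800) (.leaf 16731201))) (.node (.node (.leaf 29787866) (.leaf 14664664)) (.node (.leaf 26565545) (.leaf 363924)))) (.node (.node (.node (.leaf 5079266) (.leaf 7949621)) (.node (.leaf 3804629) (.leaf 18992142))) (.node (.node (.leaf 9521405) (.leaf 11870290)) (.node (.leaf 31245869) (.leaf 17486540)))))))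

/-- A point of the block, part 61. -/
def ptCodePart61 : Janko1.Tree ℕ := (.node (.node (.node (.node (.node (.node (.leaf 3524888) (.leaf 9011409)) (.node (.leaf 9175177) (.leaf 11944918))) (.node (.node (.leaf 27695289) (.leaf 12524806)) (.node (.leaf 5087284) (.leaf 11534908)))) (.node (.node (.node (.leaf 12706025) (.leaf 28646997)) (.node (.leaf 7656686) (.leaf 22667680))) (.node (.node (.leaf 11947813) (.leaf 24544512)) (.node (.leaf 7740806) (.leaf 26823106))))) (.node (.node (.node (.node (.leaf 3804726) (.leaf 25678869)) (.node (.leaf 6509334) (.leaf 35198050))) (.node (.node (.leaf 14667464) (.leaf 23758925)) (.node (.leaf 10733696) (.leaf 23235712)))) (.node (.node (.node (.leaf 24549037) (.leaf 29286180)) (.node (.leaf 22514824) (.leaf 25477634))) (.node (.node (.leaf 8439544) (.leaf 12703313)) (.node (.leaf 6936005) (.leaf 7819648)))))) (.node (.node (.node (.node (.node (.leaf 15323580) (.leaf 5310452)) (.node (.leaf 2447117) (.leaf 11951110))) (.node (.node (.leaf 15372485) (.leaf 23449258))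 (.node (.leaf 24628505) (.leaf 23448584)))) (.node (.node (.node (.leaf 19799300) (.leaf 24812854)) (.node (.leaf 5653697) (.leaf 15719989))) (.node (.node (.leaf 26445681) (.leaf 31344200)) (.node (.leaf 5081730) (.leaf 35198110))))) (.node (.node (.node (.node (.leaf 22567917) (.leaf 18760949)) (.node (.leaf 9472045) (.leaf 22514041))) (.node (.node (.leaf 6931353) (.leaf 4738641)) (.node (.leaf 12422745) (.leaf 12522297)))) (.node (.node (.node (.leaf 2250393) (.leaf 12326944)) (.node (.leaf 4988670) (.leaf 22776958))) (.node (.node (.leaf 18390858) (.leaf 15766497)) (.node (.leaf 23448174) (.leaf 19794392)))))))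

/-- A point of the block, part 62. -/
def ptCodePart62 : Janko1.Tree ℕ := (.node (.node (.node (.node (.node (.node (.leaf 12703877) (.leaf 23625965)) (.node (.leaf 22174861) (.leaf 32136690))) (.node (.node (.leaf 15326266) (.leaf 23446369)) (.node (.leaf 28021541) (.leaf 34642661)))) (.node (.node (.node (.leaf 28184948) (.leaf 34251012)) (.node (.leaf 25674786) (.leaf 23712542))) (.node (.node (.leaf 14176022) (.leaf 21222706)) (.node (.leaf 29527288) (.leaf 26906809))))) (.node (.node (.node (.node (.leaf 29119748) (.leaf 26498633)) (.node (.leaf 14764793) (.leaf 15370609))) (.node (.node (.leaf 22896788) (.leaf 16830086)) (.node (.leaf 6494684) (.leaf 14916173)))) (.node (.node (.node (.leaf 23710665) (.leaf 12327809)) (.node (.leaf 18390938) (.leaf 7636982))) (.node (.node (.leaf 18993325) (.leaf 26450104)) (.node (.leaf 22516870) (.leaf 6555636)))))) (.node (.node (.node (.node (.node (.leaf 15031566) (.leaf 22661836)) (.node (.leaf 27165785) (.leaf 6753046))) (.node (.node (.leaf 4791421) (.leaf 12423769))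 (.node (.leaf 8871696) (.leaf 19794421)))) (.node (.node (.node (.leaf 18777386) (.leaf 819469)) (.node (.leaf 25485606) (.leaf 16291817))) (.node (.node (.leaf 25778804) (.leaf 14176961)) (.node (.leaf 28184637) (.leaf 14178632))))) (.node (.node (.node (.node (.leaf 21582816) (.leaf 7870377)) (.node (.leaf 29532030) (.leaf 31000237))) (.node (.node (.leaf 21223228) (.leaf 21104968)) (.node (.leaf 1314068) (.leaf 22448962)))) (.node (.node (.node (.leaf 23633730) (.leaf 11865214)) (.node (.leaf 32658249) (.leaf 18355996))) (.node (.node (.leaf 18764030) (.leaf 24712200)) (.node (.leaf 21579389) (.leaf 27169626)))))))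

/-- A point of the block, part 63. -/
def ptCodePart63 : Janko1.Tree ℕ := (.node (.node (.node (.node (.node (.node (.leaf 8098334) (.leaf 30268346)) (.node (.leaf 1198074) (.leaf 19291913))) (.node (.node (.leaf 11541465) (.leaf 35347080)) (.node (.leaf 1312654) (.leaf 35345462)))) (.node (.node (.node (.leaf 6758548) (.leaf 9182749)) (.node (.leaf 28774801) (.leaf 12521628))) (.node (.node (.leaf 3530338) (.leaf 27694693)) (.node (.leaf 9014052) (.leaf 14914590))))) (.node (.node (.node (.node (.leaf 21569032) (.leaf 23876532)) (.node (.leaf 7865097) (.leaf 8766333))) (.node (.node (.leaf 26496374) (.leaf 24711382)) (.node (.leaf 26561238) (.leaf 14861825)))) (.node (.node (.node (.leaf 23233114) (.leaf 11868438)) (.node (.leaf 23233589) (.leaf 19094685))) (.node (.node (.leaf 6062377) (.leaf 9274712)) (.node (.leaf 23626758) (.leaf 18073118)))))) (.node (.node (.node (.node (.node (.leaf 12699378) (.leaf 5653545)) (.node (.leaf 14959488) (.leaf 3809568))) (.node (.node (.leaf 7818392) (.leaf 16728882))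 (.node (.leaf 28018588) (.leaf 4752008)))) (.node (.node (.node (.leaf 23450992) (.leaf 16292464)) (.node (.leaf 24810708) (.leaf 29787933))) (.node (.node (.leaf 27313576) (.leaf 368717)) (.node (.leaf 8554965) (.leaf 331732))))) (.node (.node (.node (.node (.leaf 25920260) (.leaf 16827373)) (.node (.leaf 2447594) (.leaf 4738898))) (.node (.node (.leaf 104397) (.leaf 4786889)) (.node (.leaf 18072300) (.leaf 33722118)))) (.node (.node (.node (.leaf 25266545) (.leaf 21102792)) (.node (.leaf 21924844) (.leaf 3523213))) (.node (.node (.leaf 11063965) (.leaf 9181633)) (.node (.leaf 20504061) (.leaf 4462370)))))))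

/-- A point of the block, part 64. -/
def ptCodePart64 : Janko1.Tree ℕ := (.node (.node (.node (.node (.node (.node (.leaf 4792310) (.leaf 5655921)) (.node (.leaf 7658089) (.leaf 29644984))) (.node (.node (.leaf 33721798) (.leaf 9378170)) (.node (.leaf 9853966) (.leaf 31251712)))) (.node (.node (.node (.leaf 917553) (.leaf 34835878)) (.node (.leaf 31707677) (.leaf 18388506))) (.node (.node (.leaf 24006625) (.leaf 16423813)) (.node (.leaf 14652914) (.leaf 14912658))))) (.node (.node (.node (.node (.leaf 21562425) (.leaf 22170484)) (.node (.leaf 14655421) (.leaf 26087980))) (.node (.node (.leaf 15319145) (.leaf 25479478)) (.node (.leaf 33722270) (.leaf 26559809)))) (.node (.node (.node (.leaf 7637761) (.leaf 7637765)) (.node (.leaf 12324932) (.leaf 22776269))) (.node (.node (.leaf 22776285) (.leaf 24379560)) (.node (.leaf 3839086) (.leaf 9472673)))))) (.node (.node (.node (.node (.node (.leaf 2285352) (.leaf 2840009)) (.node (.leaf 34250838) (.leaf 4461432))) (.node (.node (.leaf 32821500) (.leaf 14914557))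 (.node (.leaf 2250821) (.leaf 2449216)))) (.node (.node (.node (.leaf 14749502) (.leaf 15715393)) (.node (.leaf 20499205) (.leaf 28792916))) (.node (.node (.leaf 28443768) (.leaf 28430550)) (.node (.leaf 21108837) (.leaf 28541668))))) (.node (.node (.node (.node (.leaf 27313828) (.leaf 23318537)) (.node (.leaf 14647945) (.leaf 4458354))) (.node (.node (.leaf 8558753) (.leaf 31282369)) (.node (.leaf 32137180) (.leaf 6496505)))) (.node (.node (.node (.leaf 22142052) (.leaf 367681)) (.node (.leaf 28787318) (.leaf 4785626))) (.node (.node (.leaf 26495700) (.leaf 14753706)) (.node (.leaf 32281576) (.leaf 26462334)))))))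

/-- A point of the block, part 65. -/
def ptCodePart65 : Janko1.Tree ℕ := (.node (.node (.node (.node (.node (.node (.leaf 15376808) (.leaf 23322052)) (.node (.leaf 7733449) (.leaf 22175374))) (.node (.node (.leaf 8552582) (.leaf 5655716)) (.node (.leaf 21922566) (.leaf 31575677)))) (.node (.node (.node (.leaf 2441753) (.leaf 9011296)) (.node (.leaf 11863841) (.leaf 9376428))) (.node (.node (.leaf 17483036) (.leaf 12173692)) (.node (.leaf 31575182) (.leaf 29742600))))) (.node (.node (.node (.node (.leaf 21220222) (.leaf 18783897)) (.node (.leaf 21923826) (.leaf 17488033))) (.node (.node (.leaf 23875697) (.leaf 6752249)) (.node (.leaf 25612762) (.leaf 25681530)))) (.node (.node (.node (.leaf 20796213) (.leaf 23317809)) (.node (.leaf 14077782) (.leaf 2283016))) (.node (.node (.leaf 29743537) (.leaf 35343368)) (.node (.leaf 22172294) (.leaf 21108401)))))) (.node (.node (.node (.node (.node (.leaf 22892741) (.leaf 330748)) (.node (.leaf 21320132) (.leaf 32658588))) (.node (.node (.leaf 9178654) (.leaf 26906510))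 (.node (.leaf 16832385) (.leaf 14730321)))) (.node (.node (.node (.leaf 17042110) (.leaf 29841218)) (.node (.leaf 19792701) (.leaf 8556604))) (.node (.node (.leaf 18997550) (.leaf 26821234)) (.node (.leaf 22512452) (.leaf 8871628))))) (.node (.node (.node (.node (.leaf 14748472) (.leaf 24497001)) (.node (.leaf 26085912) (.leaf 18996028))) (.node (.node (.leaf 10735954) (.leaf 28790865)) (.node (.leaf 10472089) (.leaf 26908764)))) (.node (.node (.node (.leaf 18071797) (.leaf 8444512)) (.node (.leaf 30998709) (.leaf 31277234))) (.node (.node (.leaf 29839069) (.leaf 26907057)) (.node (.leaf 18782670) (.leaf 28024396)))))))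

/-- A point of the block, part 66. -/
def ptCodePart66 : Janko1.Tree ℕ := (.node (.node (.node (.node (.node (.node (.leaf 3803486) (.leaf 3523457)) (.node (.leaf 24629245) (.leaf 34838353))) (.node (.node (.leaf 7659297) (.leaf 31248605)) (.node (.leaf 6752273) (.leaf 7872140)))) (.node (.node (.node (.leaf 6555934) (.leaf 6554332)) (.node (.leaf 31710128) (.leaf 2835473))) (.node (.node (.leaf 4738206) (.leaf 2285774)) (.node (.leaf 9274466) (.leaf 24543444))))) (.node (.node (.node (.node (.leaf 8768677) (.leaf 26564198)) (.node (.leaf 25480222) (.leaf 21581384))) (.node (.node (.leaf 7870785) (.leaf 5312298)) (.node (.leaf 101298) (.leaf 28790550)))) (.node (.node (.node (.leaf 9472496) (.leaf 35345708)) (.node (.leaf 26447214) (.leaf 10962017))) (.node (.node (.leaf 7946384) (.leaf 10477502)) (.node (.leaf 4792108) (.leaf 787372)))))) (.node (.node (.node (.node (.node (.leaf 11540340) (.leaf 25925976)) (.node (.leaf 23874277) (.leaf 1196910))) (.node (.node (.leaf 18776689) (.leaf 22168597)) (.node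 (.leaf 7950826) (.leaf 20499454)))) (.node (.node (.node (.leaf 787848) (.leaf 21225445)) (.node (.leaf 29278880) (.leaf 7653464))) (.node (.node (.leaf 7950770) (.leaf 33015498)) (.node (.leaf 25925509) (.leaf 1312704))))) (.node (.node (.node (.node (.leaf 12174748) (.leaf 28016657)) (.node (.leaf 26460178) (.leaf 18783328))) (.node (.node (.leaf 6489800) (.leaf 7951990)) (.node (.leaf 25265156) (.leaf 24631414)))) (.node (.node (.node (.leaf 820380) (.leaf 29786221)) (.node (.leaf 32276764) (.leaf 23713109))) (.node (.node (.leaf 1198960) (.leaf 9373534)) (.node (.leaf 31580426) (.leaf 18767380)))))))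

/-- A point of the block, part 67. -/
def ptCodePart67 : Janko1.Tree ℕ := (.node (.node (.node (.node (.node (.node (.leaf 8099756) (.leaf 20467602)) (.node (.leaf 21929417) (.leaf 363862))) (.node (.node (.leaf 362468) (.leaf 14190572)) (.node (.leaf 14863830) (.leaf 18389533)))) (.node (.node (.node (.leaf 21566644) (.leaf 28772462)) (.node (.leaf 12423164) (.leaf 34250213))) (.node (.node (.leaf 18761254) (.leaf 32657542)) (.node (.leaf 32132466) (.leaf 18358062))))) (.node (.node (.node (.node (.leaf 4462261) (.leaf 22448042)) (.node (.leaf 9116576) (.leaf 28018668))) (.node (.node (.leaf 11862520) (.leaf 34248790)) (.node (.leaf 26089112) (.leaf 29839898)))) (.node (.node (.node (.leaf 26087782) (.leaf 4348940)) (.node (.leaf 825302) (.leaf 26560237))) (.node (.node (.leaf 12323513) (.leaf 35343221)) (.node (.leaf 30267561) (.leaf 25774048)))))) (.node (.node (.node (.node (.node (.leaf 18073478) (.leaf 22889160)) (.node (.leaf 31284189) (.leaf 4346648))) (.node (.node (.leaf 12980256) (.leaf 11868522))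 (.node (.leaf 33017210) (.leaf 920334)))) (.node (.node (.node (.leaf 18390440) (.leaf 22774793)) (.node (.leaf 12518138) (.leaf 10963880))) (.node (.node (.leaf 2250482) (.leaf 31350770)) (.node (.leaf 21563696) (.leaf 7653336))))) (.node (.node (.node (.node (.leaf 21563394) (.leaf 11947870)) (.node (.leaf 27690136) (.leaf 16294300))) (.node (.node (.leaf 6753997) (.leaf 1595800)) (.node (.leaf 23874445) (.leaf 24381004)))) (.node (.node (.node (.leaf 14745961) (.leaf 14754068)) (.node (.leaf 15768085) (.leaf 104825))) (.node (.node (.leaf 24495449) (.leaf 24007024)) (.node (.leaf 4341878) (.leaf 6931032)))))))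

/-- A point of the block, part 68. -/
def ptCodePart68 : Janko1.Tree ℕ := (.node (.node (.node (.node (.node (.node (.leaf 31572744) (.leaf 4786214)) (.node (.leaf 8870970) (.leaf 24386082))) (.node (.node (.leaf 20464137) (.leaf 6491168)) (.node (.leaf 8438313) (.leaf 26903889)))) (.node (.node (.node (.leaf 14729637) (.leaf 6931402)) (.node (.leaf 12327126) (.leaf 14655038))) (.node (.node (.leaf 4738722) (.leaf 24813916)) (.node (.leaf 13697680) (.leaf 24383381))))) (.node (.node (.node (.node (.leaf 35347009) (.leaf 14752540)) (.node (.leaf 26563874) (.leaf 99388))) (.node (.node (.leaf 29121873) (.leaf 24004622)) (.node (.leaf 35200154) (.leaf 13698248)))) (.node (.node (.node (.leaf 28451164) (.leaf 26564190)) (.node (.leaf 333944) (.leaf 27313506))) (.node (.node (.leaf 8871208) (.leaf 31704937)) (.node (.leaf 9525204) (.leaf 29280194)))))) (.node (.node (.node (.node (.node (.leaf 28433448) (.leaf 25269984)) (.node (.leaf 16729186) (.leaf 28646784))) (.node (.node (.leaf 2279657) (.leaf 25609513))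 (.node (.leaf 29641102) (.leaf 20794964)))) (.node (.node (.node (.leaf 23453270) (.leaf 4983161)) (.node (.leaf 16732885) (.leaf 29644856))) (.node (.node (.leaf 8094437) (.leaf 21584510)) (.node (.leaf 27314045) (.leaf 11065101))))) (.node (.node (.node (.node (.leaf 25614430) (.leaf 31245992)) (.node (.leaf 9848013) (.leaf 4460786))) (.node (.node (.leaf 21928396) (.leaf 22171838)) (.node (.leaf 34641130) (.leaf 34640428)))) (.node (.node (.node (.leaf 6556164) (.leaf 4342645)) (.node (.leaf 25272510) (.leaf 4984808))) (.node (.node (.leaf 362262) (.leaf 14730026)) (.node (.leaf 4462245) (.leaf 10733862)))))))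

/-- A point of the block, part 69. -/
def ptCodePart69 : Janko1.Tree ℕ := (.node (.node (.node (.node (.node (.node (.leaf 28644596) (.leaf 10476612)) (.node (.leaf 31576893) (.leaf 18353196))) (.node (.node (.leaf 9279360) (.leaf 32818766)) (.node (.leaf 23630937) (.leaf 32136621)))) (.node (.node (.node (.leaf 34837781) (.leaf 9526576)) (.node (.leaf 31890732) (.leaf 28444693))) (.node (.node (.leaf 34837909) (.leaf 29645597)) (.node (.leaf 3530082) (.leaf 2842092))))) (.node (.node (.node (.node (.leaf 22447893) (.leaf 13113532)) (.node (.leaf 15025080) (.leaf 14916108))) (.node (.node (.leaf 24543708) (.leaf 4754305)) (.node (.leaf 30482685) (.leaf 7739662)))) (.node (.node (.node (.leaf 13115658) (.leaf 12421826)) (.node (.leaf 9377876) (.leaf 6937362))) (.node (.node (.leaf 35193236) (.leaf 27171132)) (.node (.leaf 24494289) (.leaf 24625990)))))) (.node (.node (.node (.node (.node (.leaf 14964989) (.leaf 23320472)) (.node (.leaf 13108565) (.leaf 26090933))) (.node (.node (.leaf 14653148) (.leaf 14911937))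 (.node (.leaf 24006945) (.leaf 32818417)))) (.node (.node (.node (.leaf 7953260) (.leaf 8440757)) (.node (.leaf 7657054) (.leaf 25679656))) (.node (.node (.leaf 25615488) (.leaf 23710978)) (.node (.leaf 32823713) (.leaf 334292))))) (.node (.node (.node (.node (.leaf 25924232) (.leaf 23452334)) (.node (.leaf 31246548) (.leaf 24009477))) (.node (.node (.leaf 16421074) (.leaf 20798340)) (.node (.leaf 14175265) (.leaf 29790892)))) (.node (.node (.node (.leaf 22138998) (.leaf 19091962)) (.node (.leaf 22667017) (.leaf 28428797))) (.node (.node (.leaf 6067713) (.leaf 21568650)) (.node (.leaf 23872472) (.leaf 9274014)))))))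

/-- A point of the block, part 70. -/
def ptCodePart70 : Janko1.Tree ℕ := (.node (.node (.node (.node (.node (.node (.leaf 33724057) (.leaf 14195384)) (.node (.leaf 28775586) (.leaf 25264572))) (.node (.node (.leaf 29792558) (.leaf 14079438)) (.node (.leaf 11864710) (.leaf 30261848)))) (.node (.node (.node (.leaf 18783869) (.leaf 29644944)) (.node (.leaf 825354) (.leaf 6752144))) (.node (.node (.leaf 22889022) (.leaf 3806292)) (.node (.leaf 1316101) (.leaf 3835073))))) (.node (.node (.node (.node (.leaf 29843372) (.leaf 25272661)) (.node (.leaf 11540162) (.leaf 31709952))) (.node (.node (.leaf 31342657) (.leaf 787296)) (.node (.leaf 11536717) (.leaf 4342669)))) (.node (.node (.node (.leaf 22566018) (.leaf 6494700)) (.node (.leaf 23707689) (.leaf 34245142))) (.node (.node (.leaf 9111338) (.leaf 4791157)) (.node (.leaf 14670761) (.leaf 19091380)))))) (.node (.node (.node (.node (.node (.leaf 28427118) (.leaf 22894361)) (.node (.leaf 29640717) (.leaf 14910700))) (.node (.node (.leaf 1311544) (.leaf 13699194))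 (.node (.leaf 24549481) (.leaf 101218)))) (.node (.node (.node (.leaf 26825298) (.leaf 31707772)) (.node (.leaf 918901) (.leaf 18387402))) (.node (.node (.leaf 1197580) (.leaf 34242714)) (.node (.leaf 17046713) (.leaf 29531900))))) (.node (.node (.node (.node (.leaf 9477886) (.leaf 10470713)) (.node (.leaf 26447330) (.leaf 26566284))) (.node (.node (.leaf 22519894) (.leaf 14731798)) (.node (.leaf 26821649) (.leaf 15370901)))) (.node (.node (.node (.leaf 24615948) (.leaf 23757282)) (.node (.leaf 6509009) (.leaf 34674872))) (.node (.node (.leaf 30263129) (.leaf 15764985)) (.node (.leaf 25926708) (.leaf 8865140)))))))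

/-- A point of the block, part 71. -/
def ptCodePart71 : Janko1.Tree ℕ := (.node (.node (.node (.node (.node (.node (.leaf 32279949) (.leaf 29641528)) (.node (.leaf 31278168) (.leaf 7733557))) (.node (.node (.leaf 15371056) (.leaf 21107668)) (.node (.leaf 31885716) (.leaf 28774977)))) (.node (.node (.node (.leaf 10968021) (.leaf 8553194)) (.node (.leaf 7652322) (.leaf 15715604))) (.node (.node (.leaf 24810844) (.leaf 27315081)) (.node (.leaf 5654948) (.leaf 32660778))))) (.node (.node (.node (.node (.leaf 5311404) (.leaf 19088980)) (.node (.leaf 26498409) (.leaf 21930264))) (.node (.node (.leaf 9478193) (.leaf 8868525)) (.node (.leaf 24384584) (.leaf 26499370)))) (.node (.node (.node (.leaf 99978) (.leaf 22659308)) (.node (.leaf 15714740) (.leaf 8558613))) (.node (.node (.leaf 8438609) (.leaf 16736004)) (.node (.leaf 22139438) (.leaf 17040508)))))) (.node (.node (.node (.node (.node (.leaf 16289454) (.leaf 24813682)) (.node (.leaf 24708146) (.leaf 1198902))) (.node (.node (.leaf 2251618) (.leaf 15716142))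 (.node (.leaf 14866570) (.leaf 21225738)))) (.node (.node (.node (.leaf 16286785) (.leaf 15371857)) (.node (.leaf 27482236) (.leaf 21318960))) (.node (.node (.leaf 12976717) (.leaf 23237554)) (.node (.leaf 23236029) (.leaf 4759193))))) (.node (.node (.node (.node (.leaf 26821985) (.leaf 1203185)) (.node (.leaf 22664205) (.leaf 9526745))) (.node (.node (.leaf 25682238) (.leaf 6557890)) (.node (.leaf 31572761) (.leaf 14965334)))) (.node (.node (.node (.leaf 9109617) (.leaf 22893710)) (.node (.leaf 27314237) (.leaf 21225313))) (.node (.node (.leaf 18766260) (.leaf 16834197)) (.node (.leaf 1199489) (.leaf 30476892)))))))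

/-- A point of the block, part 72. -/
def ptCodePart72 : Janko1.Tree ℕ := (.node (.node (.node (.node (.node (.node (.leaf 14649568) (.leaf 14962738)) (.node (.leaf 12976470) (.leaf 8438601))) (.node (.node (.leaf 6062872) (.leaf 19288008)) (.node (.leaf 4348772) (.leaf 24633780)))) (.node (.node (.node (.leaf 21319444) (.leaf 25264234)) (.node (.leaf 15762409) (.leaf 100846))) (.node (.node (.leaf 20498716) (.leaf 31345501)) (.node (.leaf 7637388) (.leaf 11535270))))) (.node (.node (.node (.node (.leaf 2444972) (.leaf 6558977)) (.node (.leaf 29116698) (.leaf 22895976))) (.node (.node (.leaf 11945933) (.leaf 21320649)) (.node (.leaf 6554376) (.leaf 12181820)))) (.node (.node (.node (.leaf 8098329) (.leaf 14751525)) (.node (.leaf 34638881) (.leaf 18073761))) (.node (.node (.leaf 17042400) (.leaf 28184493)) (.node (.leaf 9018264) (.leaf 28432332)))))) (.node (.node (.node (.node (.node (.leaf 26463633) (.leaf 27480872)) (.node (.leaf 14670153) (.leaf 10738702))) (.node (.node (.leaf 12421538) (.leaf 923192))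 (.node (.leaf 27482105) (.leaf 22660813)))) (.node (.node (.node (.leaf 1595452) (.leaf 21107234)) (.node (.leaf 21562318) (.leaf 28643476))) (.node (.node (.leaf 9377316) (.leaf 330477)) (.node (.leaf 10738086) (.leaf 28544106))))) (.node (.node (.node (.node (.leaf 31886677) (.leaf 12324422)) (.node (.leaf 34249288) (.leaf 13703413))) (.node (.node (.leaf 14191389) (.leaf 2836106)) (.node (.leaf 18080076) (.leaf 18390034)))) (.node (.node (.node (.leaf 329726) (.leaf 7817678)) (.node (.leaf 33720646) (.leaf 26907748))) (.node (.node (.leaf 5656256) (.leaf 16420052)) (.node (.leaf 29117893) (.leaf 22446848)))))))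

/-- A point of the block, part 73. -/
def ptCodePart73 : Janko1.Tree ℕ := (.node (.node (.node (.node (.node (.node (.leaf 10964620) (.leaf 31285446)) (.node (.leaf 32820910) (.leaf 23319589))) (.node (.node (.leaf 31245912) (.leaf 2841913)) (.node (.leaf 15325597) (.leaf 6495204)))) (.node (.node (.node (.leaf 917976) (.leaf 32277161)) (.node (.leaf 30476502) (.leaf 10471986))) (.node (.node (.leaf 7638809) (.leaf 30480024)) (.node (.leaf 9178570) (.leaf 12177792))))) (.node (.node (.node (.node (.leaf 35193397) (.leaf 7736216)) (.node (.leaf 8771980) (.leaf 23871497))) (.node (.node (.leaf 33722032) (.leaf 14179269)) (.node (.leaf 12427536) (.leaf 12176582)))) (.node (.node (.node (.leaf 29743258) (.leaf 25616074)) (.node (.leaf 32824853) (.leaf 28020284))) (.node (.node (.leaf 2840785) (.leaf 27315793)) (.node (.leaf 14962200) (.leaf 24494341)))))) (.node (.node (.node (.node (.node (.leaf 22777212) (.leaf 22569405)) (.node (.leaf 4738964) (.leaf 4987974))) (.node (.node (.leaf 16419373) (.leaf 34838224))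 (.node (.leaf 18996322) (.leaf 11065914)))) (.node (.node (.node (.leaf 27169264) (.leaf 11866080)) (.node (.leaf 4753374) (.leaf 4462564))) (.node (.node (.leaf 14910620) (.leaf 4983702)) (.node (.leaf 24612078) (.leaf 23626277))))) (.node (.node (.node (.node (.leaf 27170104) (.leaf 31887041)) (.node (.leaf 33015380) (.leaf 14770369))) (.node (.node (.leaf 17484754) (.leaf 4788438)) (.node (.leaf 29794701) (.leaf 18385968)))) (.node (.node (.node (.leaf 22138316) (.leaf 7815181)) (.node (.leaf 28545484) (.leaf 24616624))) (.node (.node (.leaf 9011717) (.leaf 29741166)) (.node (.leaf 4344898) (.leaf 15028332)))))))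

/-- A point of the block, part 74. -/
def ptCodePart74 : Janko1.Tree ℕ := (.node (.node (.node (.node (.node (.node (.leaf 28772889) (.leaf 4741929)) (.node (.leaf 33723674) (.leaf 18351653))) (.node (.node (.leaf 12326772) (.leaf 28022522)) (.node (.leaf 22449988) (.leaf 22782382)))) (.node (.node (.node (.leaf 4742388) (.leaf 4981389)) (.node (.leaf 9115266) (.leaf 24805970))) (.node (.node (.leaf 8555046) (.leaf 16731869)) (.node (.leaf 15028674) (.leaf 15372192))))) (.node (.node (.node (.node (.leaf 9115534) (.leaf 35197984)) (.node (.leaf 22513781) (.leaf 19284789))) (.node (.node (.leaf 31005853) (.leaf 15769178)) (.node (.leaf 13702268) (.leaf 6937026)))) (.node (.node (.node (.leaf 24379824) (.leaf 25608888)) (.node (.leaf 3525961) (.leaf 4735480))) (.node (.node (.leaf 8868605) (.leaf 18350350)) (.node (.leaf 24615209) (.leaf 15029550)))))) (.node (.node (.node (.node (.node (.leaf 5315064) (.leaf 30475745)) (.node (.leaf 9280709) (.leaf 22142833))) (.node (.node (.leaf 29285494) (.leaf 7949776))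 (.node (.leaf 5311896) (.leaf 3833910)))) (.node (.node (.node (.leaf 27476577) (.leaf 29792674)) (.node (.leaf 11951596) (.leaf 22780158))) (.node (.node (.leaf 22567860) (.leaf 26464558)) (.node (.leaf 19290516) (.leaf 15372706))))) (.node (.node (.node (.node (.leaf 28447894) (.leaf 29526676)) (.node (.leaf 24501714) (.leaf 2280424))) (.node (.node (.leaf 28546830) (.leaf 24709920)) (.node (.leaf 21318474) (.leaf 28640958)))) (.node (.node (.node (.leaf 31005761) (.leaf 16730086)) (.node (.leaf 26908152) (.leaf 25923741))) (.node (.node (.leaf 12518593) (.leaf 26446490)) (.node (.leaf 330086) (.leaf 27318040)))))))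

/-- A point of the block, part 75. -/
def ptCodePart75 : Janko1.Tree ℕ := (.node (.node (.node (.node (.node (.node (.leaf 24715213) (.leaf 10967905)) (.node (.leaf 25681850) (.leaf 22514646))) (.node (.node (.leaf 28450740) (.leaf 34636490)) (.node (.leaf 31343678) (.leaf 21582160)))) (.node (.node (.node (.leaf 28547225) (.leaf 9275353)) (.node (.leaf 31283436) (.leaf 28183833))) (.node (.node (.leaf 823724) (.leaf 12979245)) (.node (.leaf 33720316) (.leaf 20797573))))) (.node (.node (.node (.node (.leaf 25775618) (.leaf 9111561)) (.node (.leaf 34669304) (.leaf 5315953))) (.node (.node (.leaf 24495686) (.leaf 27477796)) (.node (.leaf 14178517) (.leaf 3802313)))) (.node (.node (.node (.leaf 26500160) (.leaf 16286260)) (.node (.leaf 29740672) (.leaf 29524130))) (.node (.node (.leaf 34832918) (.leaf 10736826)) (.node (.leaf 31005625) (.leaf 2839945)))))) (.node (.node (.node (.node (.node (.leaf 25482349) (.leaf 5082749)) (.node (.leaf 6070078) (.leaf 9849122))) (.node (.node (.leaf 29527781) (.leaf 826305))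 (.node (.leaf 21323218) (.leaf 30266814)))) (.node (.node (.node (.leaf 14762502) (.leaf 14729982)) (.node (.leaf 8100802) (.leaf 28446934))) (.node (.node (.leaf 824040) (.leaf 14736593)) (.node (.leaf 923636) (.leaf 13109220))))) (.node (.node (.node (.node (.leaf 12525265) (.leaf 18355816)) (.node (.leaf 18989576) (.leaf 26499716))) (.node (.node (.leaf 19792661) (.leaf 18783733)) (.node (.leaf 9525297) (.leaf 22140634)))) (.node (.node (.node (.leaf 29115870) (.leaf 11951040)) (.node (.leaf 12324085) (.leaf 24546714))) (.node (.node (.leaf 14670562) (.leaf 15766972)) (.node (.leaf 19093256) (.leaf 29528254)))))))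

/-- A point of the block, part 76. -/
def ptCodePart76 : Janko1.Tree ℕ := (.node (.node (.node (.node (.node (.node (.leaf 20465004) (.leaf 31005720)) (.node (.leaf 28778942) (.leaf 8870890))) (.node (.node (.leaf 20500061) (.leaf 3835853)) (.node (.leaf 14666782) (.leaf 34673808)))) (.node (.node (.node (.leaf 6068000) (.leaf 34671994)) (.node (.leaf 34670760) (.leaf 31890768))) (.node (.node (.leaf 20792962) (.leaf 7741176)) (.node (.leaf 11066014) (.leaf 34639888))))) (.node (.node (.node (.node (.leaf 35340761) (.leaf 28430193)) (.node (.leaf 29285142) (.leaf 26907581))) (.node (.node (.leaf 24712161) (.leaf 19290646)) (.node (.leaf 8443562) (.leaf 26825604)))) (.node (.node (.node (.leaf 32283408) (.leaf 34837401)) (.node (.leaf 19089585) (.leaf 4459642))) (.node (.node (.leaf 31249765) (.leaf 5312494)) (.node (.leaf 21221441) (.leaf 27482316)))))) (.node (.node (.node (.node (.node (.leaf 25778261) (.leaf 25608789)) (.node (.leaf 15325841) (.leaf 14074657))) (.node (.node (.leaf 8553644) (.leaf 28581909))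 (.node (.leaf 28450592) (.leaf 30018820)))) (.node (.node (.node (.leaf 13717550) (.leaf 25121814)) (.node (.leaf 28694549) (.leaf 18373816))) (.node (.node (.leaf 3480224) (.leaf 16962053)) (.node (.leaf 2151033) (.leaf 28574642))))) (.node (.node (.node (.node (.leaf 21995830) (.leaf 5489241)) (.node (.leaf 29430176) (.leaf 1023688))) (.node (.node (.leaf 34479285) (.leaf 5226513)) (.node (.leaf 26774177) (.leaf 13622828)))) (.node (.node (.node (.leaf 34116486) (.leaf 32311373)) (.node (.leaf 12130892) (.leaf 2151880))) (.node (.node (.leaf 26775872) (.leaf 33131114)) (.node (.leaf 23430897) (.leaf 13688550)))))))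

/-- A point of the block, part 77. -/
def ptCodePart77 : Janko1.Tree ℕ := (.node (.node (.node (.node (.node (.node (.leaf 32312886) (.leaf 13617093)) (.node (.leaf 28581601) (.leaf 14406001))) (.node (.node (.leaf 25122814) (.leaf 23809902)) (.node (.leaf 9781634) (.leaf 27629530)))) (.node (.node (.node (.leaf 2265300) (.leaf 26972980)) (.node (.leaf 14833964) (.leaf 19319177))) (.node (.node (.leaf 2266418) (.leaf 9814436)) (.node (.leaf 12375629) (.leaf 13060285))))) (.node (.node (.node (.node (.leaf 27152578) (.leaf 3579054)) (.node (.leaf 13617997) (.leaf 29267393))) (.node (.node (.leaf 22994581) (.leaf 22781258)) (.node (.leaf 24248688) (.leaf 12206481)))) (.node (.node (.node (.leaf 21302449) (.leaf 15435202)) (.node (.leaf 31720449) (.leaf 8389922))) (.node (.node (.leaf 4661557) (.leaf 20564084)) (.node (.leaf 14500102) (.leaf 2020728)))))) (.node (.node (.node (.node (.node (.leaf 12158205) (.leaf 1957060)) (.node (.leaf 32317252) (.leaf 26415962))) (.node (.node (.leaf 5972076) (.leaf 23814301))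 (.node (.leaf 7913497) (.leaf 14502877)))) (.node (.node (.node (.leaf 13615774) (.leaf 30509902)) (.node (.leaf 6245086) (.leaf 18369062))) (.node (.node (.leaf 1464797) (.leaf 170016)) (.node (.leaf 9782113) (.leaf 19318724))))) (.node (.node (.node (.node (.leaf 696037) (.leaf 14094046)) (.node (.leaf 19221256) (.leaf 1793596))) (.node (.node (.leaf 6228968) (.leaf 26417516)) (.node (.leaf 32530454) (.leaf 12157492)))) (.node (.node (.node (.leaf 11359513) (.leaf 16778404)) (.node (.leaf 9820841) (.leaf 20846060))) (.node (.node (.leaf 29267140) (.leaf 14828249)) (.node (.leaf 19532896) (.leaf 23993970)))))))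

/-- A point of the block, part 78. -/
def ptCodePart78 : Janko1.Tree ℕ := (.node (.node (.node (.node (.node (.node (.leaf 33130185) (.leaf 29941810)) (.node (.leaf 2168673) (.leaf 16735737))) (.node (.node (.leaf 13667110) (.leaf 2023860)) (.node (.leaf 11355597) (.leaf 13618505)))) (.node (.node (.node (.leaf 23991905) (.leaf 8637290)) (.node (.leaf 24612528) (.leaf 14093846))) (.node (.node (.leaf 19532521) (.leaf 12208085)) (.node (.leaf 22568249) (.leaf 30019014))))) (.node (.node (.node (.node (.leaf 16633017) (.leaf 32772481)) (.node (.leaf 22710948) (.leaf 1465990))) (.node (.node (.leaf 28692974) (.leaf 20551705)) (.node (.leaf 22709961) (.leaf 11948908)))) (.node (.node (.node (.leaf 28236552) (.leaf 29744661)) (.node (.leaf 27101310) (.leaf 33135856))) (.node (.node (.leaf 2148957) (.leaf 14540253)) (.node (.leaf 15473388) (.leaf 15438137)))))) (.node (.node (.node (.node (.node (.leaf 254302) (.leaf 14539098)) (.node (.leaf 16096634) (.leaf 19256512))) (.node (.node (.leaf 34111544) (.leaf 6232077))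 (.node (.leaf 5235058) (.leaf 32002785)))) (.node (.node (.node (.leaf 33414785) (.leaf 25991310)) (.node (.leaf 16089176) (.leaf 8642358))) (.node (.node (.leaf 15474969) (.leaf 9781277)) (.node (.leaf 35297197) (.leaf 10079084))))) (.node (.node (.node (.node (.leaf 21470573) (.leaf 8819638)) (.node (.leaf 24826349) (.leaf 20563046))) (.node (.node (.leaf 1867856) (.leaf 3575206)) (.node (.leaf 10650564) (.leaf 24610965)))) (.node (.node (.node (.leaf 2150828) (.leaf 24255528)) (.node (.leaf 34477890) (.leaf 16638289))) (.node (.node (.leaf 18850170) (.leaf 13685090)) (.node (.leaf 1790093) (.leaf 33316708)))))))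

/-- A point of the block, part 79. -/
def ptCodePart79 : Janko1.Tree ℕ := (.node (.node (.node (.node (.node (.node (.leaf 30954588) (.leaf 3478916)) (.node (.leaf 13623569) (.leaf 18850082))) (.node (.node (.leaf 3693572) (.leaf 13272157)) (.node (.leaf 29360744) (.leaf 20551632)))) (.node (.node (.node (.leaf 18368090) (.leaf 19109334)) (.node (.leaf 14095946) (.leaf 23157750))) (.node (.node (.leaf 17764218) (.leaf 13684700)) (.node (.leaf 10378076) (.leaf 24609950))))) (.node (.node (.node (.node (.leaf 17400757) (.leaf 16091220)) (.node (.leaf 34472686) (.leaf 29741300))) (.node (.node (.leaf 21322426) (.leaf 24253400)) (.node (.leaf 35297170) (.leaf 17815144)))) (.node (.node (.node (.leaf 29266489) (.leaf 12163357)) (.node (.leaf 29707577) (.leaf 27527629))) (.node (.node (.leaf 4658837) (.leaf 12377829)) (.node (.leaf 9914465) (.leaf 15469322)))))) (.node (.node (.node (.node (.node (.leaf 20846113) (.leaf 15719778)) (.node (.leaf 2558958) (.leaf 26975036))) (.node (.node (.leaf 15466894) (.leaf 22990488))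 (.node (.leaf 8635118) (.leaf 26183542)))) (.node (.node (.node (.leaf 19535713) (.leaf 21042372)) (.node (.leaf 32774613) (.leaf 21992305))) (.node (.node (.leaf 6015009) (.leaf 23151536)) (.node (.leaf 13715588) (.leaf 2219446))))) (.node (.node (.node (.node (.leaf 26657973) (.leaf 2171129)) (.node (.leaf 2641569) (.leaf 30973033))) (.node (.node (.leaf 14387618) (.leaf 14829869)) (.node (.leaf 17765046) (.leaf 10653434)))) (.node (.node (.node (.leaf 23430350) (.leaf 23152405)) (.node (.leaf 12212465) (.leaf 6641006))) (.node (.node (.leaf 9822249) (.leaf 29362656)) (.node (.leaf 19681344) (.leaf 24412182)))))))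

/-- A point of the block, part 80. -/
def ptCodePart80 : Janko1.Tree ℕ := (.node (.node (.node (.node (.node (.node (.leaf 11354500) (.leaf 30016528)) (.node (.leaf 14539470) (.leaf 10078485))) (.node (.node (.leaf 23437713) (.leaf 27630210)) (.node (.leaf 22993626) (.leaf 21304125)))) (.node (.node (.node (.leaf 1379648) (.leaf 14500529)) (.node (.leaf 2393476) (.leaf 9148641))) (.node (.node (.leaf 9915246) (.leaf 6248492)) (.node (.leaf 26412174) (.leaf 3540384))))) (.node (.node (.node (.node (.leaf 14832984) (.leaf 3546697)) (.node (.leaf 15357101) (.leaf 30514844))) (.node (.node (.leaf 33133505) (.leaf 1789769)) (.node (.leaf 6244381) (.leaf 19532702)))) (.node (.node (.node (.leaf 34115105) (.leaf 8540674)) (.node (.leaf 9916728) (.leaf 10847217))) (.node (.node (.leaf 25117838) (.leaf 10374426)) (.node (.leaf 9934809) (.leaf 6149728)))))) (.node (.node (.node (.node (.node (.leaf 15717850) (.leaf 26810457)) (.node (.leaf 14831261) (.leaf 21042013))) (.node (.node (.leaf 3481658) (.leaf 31868941))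 (.node (.leaf 254025) (.leaf 20563565)))) (.node (.node (.node (.leaf 13682620) (.leaf 3432614)) (.node (.leaf 13275156) (.leaf 15124245))) (.node (.node (.leaf 8395529) (.leaf 14831249)) (.node (.leaf 13683725) (.leaf 4185614))))) (.node (.node (.node (.node (.leaf 19323816) (.leaf 7914280)) (.node (.leaf 12159852) (.leaf 6015001))) (.node (.node (.leaf 6149949) (.leaf 33036274)) (.node (.leaf 16630838) (.leaf 9820094)))) (.node (.node (.node (.leaf 7916924) (.leaf 14909666)) (.node (.leaf 30509866) (.leaf 29939790))) (.node (.node (.leaf 26975378) (.leaf 3135133)) (.node (.leaf 27725766) (.leaf 11163466)))))))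

/-- A point of the block, part 81. -/
def ptCodePart81 : Janko1.Tree ℕ := (.node (.node (.node (.node (.node (.node (.leaf 33035213) (.leaf 18563173)) (.node (.leaf 6017857) (.leaf 9782914))) (.node (.node (.leaf 18372517) (.leaf 21319996)) (.node (.leaf 17407972) (.leaf 25403481)))) (.node (.node (.node (.leaf 15127608) (.leaf 8540953)) (.node (.leaf 30016388) (.leaf 2152796))) (.node (.node (.leaf 2152220) (.leaf 4182777)) (.node (.leaf 27727373) (.leaf 28871488))))) (.node (.node (.node (.node (.leaf 30196034) (.leaf 25991378)) (.node (.leaf 32526317) (.leaf 23814146))) (.node (.node (.leaf 21317281) (.leaf 32523125)) (.node (.leaf 16957886) (.leaf 16730505)))) (.node (.node (.node (.leaf 22562894) (.leaf 29742257)) (.node (.leaf 170097) (.leaf 14389177))) (.node (.node (.leaf 29362746) (.leaf 11360340)) (.node (.leaf 12126060) (.leaf 2217050)))))) (.node (.node (.node (.node (.node (.leaf 10849036) (.leaf 1381768)) (.node (.leaf 7914440) (.leaf 23807092))) (.node (.node (.leaf 20568764) (.leaf 19222800))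 (.node (.leaf 12112414) (.leaf 13066317)))) (.node (.node (.node (.leaf 28483722) (.leaf 14829200)) (.node (.leaf 22774650) (.leaf 35291608))) (.node (.node (.leaf 6561756) (.leaf 15124106)) (.node (.leaf 12485194) (.leaf 12484921))))) (.node (.node (.node (.node (.leaf 13060217) (.leaf 8818398)) (.node (.leaf 23434236) (.leaf 5492080))) (.node (.node (.leaf 10849806) (.leaf 10849012)) (.node (.leaf 14915617) (.leaf 12131125)))) (.node (.node (.node (.leaf 30957138) (.leaf 26595710)) (.node (.leaf 16963726) (.leaf 3686670))) (.node (.node (.leaf 12371225) (.leaf 11357358)) (.node (.leaf 24253989) (.leaf 29940169)))))))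

/-- A point of the block, part 82. -/
def ptCodePart82 : Janko1.Tree ℕ := (.node (.node (.node (.node (.node (.node (.leaf 3575960) (.leaf 2328786)) (.node (.leaf 15441392) (.leaf 14914129))) (.node (.node (.leaf 22776157) (.leaf 248273)) (.node (.leaf 33313348) (.leaf 14536973)))) (.node (.node (.node (.leaf 6556653) (.leaf 33314904)) (.node (.leaf 29940869) (.leaf 18848930))) (.node (.node (.leaf 21465474) (.leaf 21993965)) (.node (.leaf 26772256) (.leaf 26595748))))) (.node (.node (.node (.node (.leaf 21039010) (.leaf 17402652)) (.node (.leaf 14391168) (.leaf 26805317))) (.node (.node (.leaf 12164265) (.leaf 10375992)) (.node (.leaf 32309272) (.leaf 21990668)))) (.node (.node (.node (.leaf 1022841) (.leaf 13667934)) (.node (.leaf 16632696) (.leaf 12735621))) (.node (.node (.leaf 6561736) (.leaf 171653)) (.node (.leaf 6637993) (.leaf 27529234)))))) (.node (.node (.node (.node (.node (.leaf 18571621) (.leaf 18418594)) (.node (.leaf 15352334) (.leaf 33398618))) (.node (.node (.leaf 689281) (.leaf 12157120))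 (.node (.leaf 349125) (.leaf 2220076)))) (.node (.node (.node (.leaf 28691748) (.leaf 9821044)) (.node (.leaf 13670325) (.leaf 11947096))) (.node (.node (.leaf 11158290) (.leaf 18846808)) (.node (.leaf 29707368) (.leaf 19107980))))) (.node (.node (.node (.node (.leaf 1950813) (.leaf 347061)) (.node (.leaf 2167028) (.leaf 1872578))) (.node (.node (.leaf 8540220) (.leaf 17400589)) (.node (.leaf 26411389) (.leaf 11162949)))) (.node (.node (.node (.leaf 16731640) (.leaf 25693229)) (.node (.leaf 170836) (.leaf 12162466))) (.node (.node (.leaf 19111157) (.leaf 10654818)) (.node (.leaf 13063626) (.leaf 9931332)))))))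

/-- A point of the block, part 83. -/
def ptCodePart83 : Janko1.Tree ℕ := (.node (.node (.node (.node (.node (.node (.leaf 165568) (.leaf 28230549)) (.node (.leaf 32884614) (.leaf 14404694))) (.node (.node (.leaf 28230952) (.leaf 18338293)) (.node (.leaf 29362217) (.leaf 12109121)))) (.node (.node (.node (.leaf 32002510) (.leaf 10374974)) (.node (.leaf 3428036) (.leaf 12374830))) (.node (.node (.leaf 23157589) (.leaf 9916044)) (.node (.leaf 26810652) (.leaf 19764865))))) (.node (.node (.node (.node (.leaf 923253) (.leaf 30202990)) (.node (.leaf 393224) (.leaf 30710826))) (.node (.node (.leaf 27106934) (.leaf 24614702)) (.node (.leaf 9653913) (.leaf 15441340)))) (.node (.node (.node (.leaf 25989993) (.leaf 27149320)) (.node (.leaf 6479074) (.leaf 21320606))) (.node (.node (.leaf 32775612) (.leaf 3476376)) (.node (.leaf 29364253) (.leaf 8818766)))))) (.node (.node (.node (.node (.node (.leaf 24830300) (.leaf 2561334)) (.node (.leaf 3545120) (.leaf 690137))) (.node (.node (.leaf 13687625) (.leaf 12485965)) (.node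 (.leaf 9657360) (.leaf 15474876)))) (.node (.node (.node (.leaf 14408869) (.leaf 14204946)) (.node (.leaf 15717181) (.leaf 31869838))) (.node (.node (.leaf 19762818) (.leaf 13672686)) (.node (.leaf 16993097) (.leaf 15471350))))) (.node (.node (.node (.node (.leaf 14209314) (.leaf 18334296)) (.node (.leaf 16963898) (.leaf 23156533))) (.node (.node (.leaf 26184132) (.leaf 14404428)) (.node (.leaf 16094681) (.leaf 12373681)))) (.node (.node (.node (.leaf 9915214) (.leaf 12112290)) (.node (.leaf 27629193) (.leaf 17766937))) (.node (.node (.leaf 2639390) (.leaf 26594508)) (.node (.leaf 20548522) (.leaf 1051269)))))))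

/-- A point of the block, part 84. -/
def ptCodePart84 : Janko1.Tree ℕ := (.node (.node (.node (.node (.node (.node (.leaf 6244281) (.leaf 11362637)) (.node (.leaf 1876082) (.leaf 1021116))) (.node (.node (.leaf 16635422) (.leaf 24827445)) (.node (.leaf 23807849) (.leaf 32523234)))) (.node (.node (.node (.leaf 20844158) (.leaf 27148761)) (.node (.leaf 1382585) (.leaf 33410866))) (.node (.node (.leaf 13062516) (.leaf 32317570)) (.node (.leaf 396589) (.leaf 29940089))))) (.node (.node (.node (.node (.leaf 6016734) (.leaf 6150293)) (.node (.leaf 27153402) (.leaf 32890508))) (.node (.node (.leaf 30198637) (.leaf 12207746)) (.node (.leaf 2019973) (.leaf 13279085)))) (.node (.node (.node (.leaf 33309537) (.leaf 6308696)) (.node (.leaf 31874745) (.leaf 32890468))) (.node (.node (.leaf 1055216) (.leaf 28232698)) (.node (.leaf 32883810) (.leaf 8389581)))))) (.node (.node (.node (.node (.node (.leaf 30510636) (.leaf 2559533)) (.node (.leaf 15486253) (.leaf 21466106))) (.node (.node (.leaf 3541697) (.leaf 2170004))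 (.node (.leaf 6476694) (.leaf 20552945)))) (.node (.node (.node (.leaf 1050189) (.leaf 27105721)) (.node (.leaf 23431705) (.leaf 12113278))) (.node (.node (.leaf 2212621) (.leaf 25693098)) (.node (.leaf 12486856) (.leaf 33315189))))) (.node (.node (.node (.node (.leaf 11951388) (.leaf 27100150)) (.node (.leaf 26773037) (.leaf 23993813))) (.node (.node (.leaf 15468652) (.leaf 31998596)) (.node (.leaf 9652678) (.leaf 9146972)))) (.node (.node (.node (.leaf 28693150) (.leaf 13670424)) (.node (.leaf 25693402) (.leaf 22613788))) (.node (.node (.leaf 25117786) (.leaf 20568030)) (.node (.leaf 19039825) (.leaf 28870557)))))))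

/-- A point of the block, part 85. -/
def ptCodePart85 : Janko1.Tree ℕ := (.node (.node (.node (.node (.node (.node (.leaf 29428362) (.leaf 14913132)) (.node (.leaf 31720010) (.leaf 29712796))) (.node (.node (.leaf 11952346) (.leaf 2266541)) (.node (.leaf 6244560) (.leaf 23990602)))) (.node (.node (.node (.leaf 18338538) (.leaf 8815285)) (.node (.leaf 20562086) (.leaf 19683648))) (.node (.node (.leaf 6144721) (.leaf 9143206)) (.node (.leaf 19110906) (.leaf 26599562))))) (.node (.node (.node (.node (.leaf 28235305) (.leaf 12491180)) (.node (.leaf 2396366) (.leaf 6637846))) (.node (.node (.leaf 14402584) (.leaf 22711862)) (.node (.leaf 9917138) (.leaf 28450996)))) (.node (.node (.node (.leaf 21041541) (.leaf 28235610)) (.node (.leaf 16089542) (.leaf 29430816))) (.node (.node (.leaf 12738932) (.leaf 5970904)) (.node (.leaf 32313593) (.leaf 29526353)))))) (.node (.node (.node (.node (.node (.leaf 15355690) (.leaf 31727725)) (.node (.leaf 3132778) (.leaf 22779941))) (.node (.node (.leaf 23988570) (.leaf 29531073))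 (.node (.leaf 20553657) (.leaf 18534776)))) (.node (.node (.node (.leaf 9652810) (.leaf 15489941)) (.node (.leaf 696085) (.leaf 5490785))) (.node (.node (.leaf 28689394) (.leaf 29529434)) (.node (.leaf 26974942) (.leaf 6553878))))) (.node (.node (.node (.node (.leaf 33409264) (.leaf 6243178)) (.node (.leaf 19320544) (.leaf 10375481))) (.node (.node (.leaf 19531086) (.leaf 19684629)) (.node (.leaf 2332841) (.leaf 30967526)))) (.node (.node (.node (.leaf 27152041) (.leaf 27155772)) (.node (.leaf 17813212) (.leaf 7916246))) (.node (.node (.leaf 31999210) (.leaf 18564850)) (.node (.leaf 29709361) (.leaf 25694550)))))))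

/-- A point of the block, part 86. -/
def ptCodePart86 : Janko1.Tree ℕ := (.node (.node (.node (.node (.node (.node (.leaf 32771378) (.leaf 24415760)) (.node (.leaf 27102884) (.leaf 33398514))) (.node (.node (.leaf 10654428) (.leaf 30950922)) (.node (.leaf 27721774) (.leaf 22708925)))) (.node (.node (.node (.leaf 8391725) (.leaf 6474984)) (.node (.leaf 10082233) (.leaf 3577272))) (.node (.node (.leaf 401578) (.leaf 10849581)) (.node (.leaf 24249381) (.leaf 399156))))) (.node (.node (.node (.node (.leaf 3546149) (.leaf 21304792)) (.node (.leaf 345542) (.leaf 18416804))) (.node (.node (.leaf 25986780) (.leaf 31873297)) (.node (.leaf 25991762) (.leaf 33413466)))) (.node (.node (.node (.leaf 3431317) (.leaf 26660610)) (.node (.leaf 3691876) (.leaf 15357238))) (.node (.node (.leaf 34480566) (.leaf 2644920)) (.node (.leaf 31869108) (.leaf 1018773)))))) (.node (.node (.node (.node (.node (.leaf 6641181) (.leaf 35298858)) (.node (.leaf 30198004) (.leaf 18846592))) (.node (.node (.leaf 399121) (.leaf 5969461)) (.node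 (.leaf 9936108) (.leaf 12487269)))) (.node (.node (.node (.leaf 26968758) (.leaf 20566833)) (.node (.leaf 7917506) (.leaf 2219526))) (.node (.node (.leaf 2214208) (.leaf 14505549)) (.node (.leaf 15439253) (.leaf 925857))))) (.node (.node (.node (.node (.leaf 24251532) (.leaf 6232406)) (.node (.leaf 29367013) (.leaf 33408889))) (.node (.node (.leaf 169214) (.leaf 13671306)) (.node (.leaf 16957624) (.leaf 9787908)))) (.node (.node (.node (.leaf 29709732) (.leaf 12208298)) (.node (.leaf 33397196) (.leaf 13060577))) (.node (.node (.leaf 23990874) (.leaf 3130821)) (.node (.leaf 27105070) (.leaf 6641105)))))))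

/-- A point of the block, part 87. -/
def ptCodePart87 : Janko1.Tree ℕ := (.node (.node (.node (.node (.node (.node (.leaf 16733233) (.leaf 3428361)) (.node (.leaf 4657952) (.leaf 3474192))) (.node (.node (.leaf 29743694) (.leaf 1053860)) (.node (.leaf 14536472) (.leaf 29268790)))) (.node (.node (.node (.leaf 1788854) (.leaf 400426)) (.node (.leaf 16991449) (.leaf 28876536))) (.node (.node (.leaf 16091296) (.leaf 33033196)) (.node (.leaf 1869030) (.leaf 22618136))))) (.node (.node (.node (.node (.leaf 10081698) (.leaf 21301337)) (.node (.leaf 6018258) (.leaf 6019844))) (.node (.node (.leaf 16736300) (.leaf 2022576)) (.node (.leaf 15713518) (.leaf 1873874)))) (.node (.node (.node (.leaf 21322965) (.leaf 27723866)) (.node (.leaf 34476525) (.leaf 25402596))) (.node (.node (.leaf 15485246) (.leaf 9916180)) (.node (.leaf 21043569) (.leaf 18532493)))))) (.node (.node (.node (.node (.node (.leaf 27727654) (.leaf 31872189)) (.node (.leaf 9143648) (.leaf 17408370))) (.node (.node (.leaf 30951644) (.leaf 21467873))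 (.node (.leaf 12737481) (.leaf 26183122)))) (.node (.node (.node (.leaf 26412462) (.leaf 18568736)) (.node (.leaf 2269085) (.leaf 26659004))) (.node (.node (.leaf 27726296) (.leaf 23431914)) (.node (.leaf 6637838) (.leaf 12377314))))) (.node (.node (.node (.node (.leaf 16958320) (.leaf 6233600)) (.node (.leaf 3580194) (.leaf 14393169))) (.node (.node (.leaf 32317772) (.leaf 29366732)) (.node (.leaf 30514726) (.leaf 2397190)))) (.node (.node (.node (.leaf 26186789) (.leaf 14538486)) (.node (.leaf 10083708) (.leaf 2015958))) (.node (.node (.leaf 2263562) (.leaf 33034949)) (.node (.leaf 32776594) (.leaf 19038332)))))))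

/-- A point of the block, part 88. -/
def ptCodePart88 : Janko1.Tree ℕ := (.node (.node (.node (.node (.node (.node (.leaf 26664804) (.leaf 22988373)) (.node (.leaf 26662892) (.leaf 15483278))) (.node (.node (.leaf 17767276) (.leaf 921238)) (.node (.leaf 1050141) (.leaf 28235409)))) (.node (.node (.node (.leaf 27530170) (.leaf 32772317)) (.node (.leaf 22567677) (.leaf 2394977))) (.node (.node (.leaf 346852) (.leaf 15352561)) (.node (.leaf 23156740) (.leaf 29710646))))) (.node (.node (.node (.node (.leaf 8391592) (.leaf 33135340)) (.node (.leaf 18565566) (.leaf 17764732))) (.node (.node (.leaf 27624893) (.leaf 16998144)) (.node (.leaf 9785405) (.leaf 4658196)))) (.node (.node (.node (.leaf 13681656) (.leaf 26185678)) (.node (.leaf 29266430) (.leaf 921621))) (.node (.node (.leaf 35294602) (.leaf 12374306)) (.node (.leaf 20844825) (.leaf 2332702)))))) (.node (.node (.node (.node (.node (.leaf 923380) (.leaf 18337165)) (.node (.leaf 16781184) (.leaf 3689017))) (.node (.node (.leaf 15487437) (.leaf 17408009))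 (.node (.leaf 165137) (.leaf 10082521)))) (.node (.node (.node (.leaf 15436293) (.leaf 27628948)) (.node (.leaf 8391837) (.leaf 12207149))) (.node (.node (.leaf 14097705) (.leaf 19678406)) (.node (.leaf 16784826) (.leaf 27148840))))) (.node (.node (.node (.node (.leaf 24830288) (.leaf 13059112)) (.node (.leaf 19761088) (.leaf 23150730))) (.node (.node (.leaf 3542672) (.leaf 18846213)) (.node (.leaf 34119038) (.leaf 8538534)))) (.node (.node (.node (.leaf 348198) (.leaf 2018554)) (.node (.leaf 7915656) (.leaf 22614329))) (.node (.node (.leaf 14914308) (.leaf 8819245)) (.node (.leaf 1460592) (.leaf 2262164)))))))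

/-- A point of the block, part 89. -/
def ptCodePart89 : Janko1.Tree ℕ := (.node (.node (.node (.node (.node (.node (.leaf 28692968) (.leaf 19106644)) (.node (.leaf 14407756) (.leaf 4655634))) (.node (.node (.leaf 9935496) (.leaf 20173037)) (.node (.leaf 2332000) (.leaf 19533110)))) (.node (.node (.node (.leaf 18844026) (.leaf 8635509)) (.node (.leaf 30023977) (.leaf 16962212))) (.node (.node (.leaf 22709045) (.leaf 1871689)) (.node (.leaf 1868742) (.leaf 8392149))))) (.node (.node (.node (.node (.leaf 1019252) (.leaf 6309390)) (.node (.leaf 18421985) (.leaf 25986030))) (.node (.node (.leaf 3687834) (.leaf 1378197)) (.node (.leaf 11359160) (.leaf 29526369)))) (.node (.node (.node (.leaf 29939793) (.leaf 25118748)) (.node (.leaf 28477157) (.leaf 14404289))) (.node (.node (.leaf 20549080) (.leaf 8642064)) (.node (.leaf 688820) (.leaf 26598646)))))) (.node (.node (.node (.node (.node (.leaf 1050600) (.leaf 11948720)) (.node (.leaf 18571230) (.leaf 17765644))) (.node (.node (.leaf 33031722) (.leaf 34116173))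 (.node (.leaf 15129505) (.leaf 15487358)))) (.node (.node (.node (.leaf 29739793) (.leaf 3476774)) (.node (.leaf 33411230) (.leaf 32887836))) (.node (.node (.leaf 19259300) (.leaf 3137050)) (.node (.leaf 26974360) (.leaf 917837))))) (.node (.node (.node (.node (.leaf 26187564) (.leaf 9816349)) (.node (.leaf 22615160) (.leaf 1384532))) (.node (.node (.leaf 26599592) (.leaf 24614441)) (.node (.leaf 9930780) (.leaf 32888666)))) (.node (.node (.node (.leaf 18535085) (.leaf 29708530)) (.node (.leaf 26182802) (.leaf 6556162))) (.node (.node (.leaf 6478089) (.leaf 6013742)) (.node (.leaf 26599449) (.leaf 30018706)))))))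

/-- A point of the block, part 90. -/
def ptCodePart90 : Janko1.Tree ℕ := (.node (.node (.node (.node (.node (.node (.leaf 8642154) (.leaf 12130142)) (.node (.leaf 15716440) (.leaf 6310353))) (.node (.node (.leaf 19259136) (.leaf 21044788)) (.node (.leaf 9653801) (.leaf 26777757)))) (.node (.node (.node (.leaf 11165478) (.leaf 6558973)) (.node (.leaf 27623578) (.leaf 26968174))) (.node (.node (.leaf 9936564) (.leaf 23431492)) (.node (.leaf 16630652) (.leaf 14385426))))) (.node (.node (.node (.node (.leaf 33314824) (.leaf 28483832)) (.node (.leaf 26414762) (.leaf 4656382))) (.node (.node (.leaf 25122617) (.leaf 16785036)) (.node (.leaf 24417473) (.leaf 17811920)))) (.node (.node (.node (.leaf 24823110) (.leaf 13275212)) (.node (.leaf 22614040) (.leaf 19532113))) (.node (.node (.leaf 29934222) (.leaf 19760672)) (.node (.leaf 919228) (.leaf 31721478)))))) (.node (.node (.node (.node (.node (.leaf 21301401) (.leaf 33131977)) (.node (.leaf 18373694) (.leaf 18373322))) (.node (.node (.leaf 9933524) (.leaf 20847941))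 (.node (.leaf 14501513) (.leaf 13620457)))) (.node (.node (.node (.leaf 33309589) (.leaf 31999581)) (.node (.leaf 6311570) (.leaf 18372437))) (.node (.node (.leaf 33392506) (.leaf 3133569)) (.node (.leaf 13668369) (.leaf 25694224))))) (.node (.node (.node (.node (.leaf 13666836) (.leaf 15123316)) (.node (.leaf 33392838) (.leaf 5229410))) (.node (.node (.leaf 3481462) (.leaf 26665228)) (.node (.leaf 2268982) (.leaf 13277504)))) (.node (.node (.node (.leaf 16782745) (.leaf 29530377)) (.node (.leaf 13688490) (.leaf 20174020))) (.node (.node (.leaf 23988866) (.leaf 22715625)) (.node (.leaf 10850409) (.leaf 1462542)))))))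

/-- A point of the block, part 91. -/
def ptCodePart91 : Janko1.Tree ℕ := (.node (.node (.node (.node (.node (.node (.leaf 3579753) (.leaf 22779241)) (.node (.leaf 20552573) (.leaf 6227964))) (.node (.node (.leaf 31722926) (.leaf 6146444)) (.node (.leaf 15472409) (.leaf 35297454)))) (.node (.node (.node (.leaf 8536544) (.leaf 30971276)) (.node (.leaf 2165438) (.leaf 33397502))) (.node (.node (.leaf 1019038) (.leaf 3541168)) (.node (.leaf 16092576) (.leaf 28874210))))) (.node (.node (.node (.node (.leaf 35299384) (.leaf 33131310)) (.node (.leaf 27631582) (.leaf 9656650))) (.node (.node (.leaf 19325289) (.leaf 22563358)) (.node (.leaf 20546694) (.leaf 6478945)))) (.node (.node (.node (.leaf 1950552) (.leaf 13278172)) (.node (.leaf 26811156) (.leaf 24611777))) (.node (.node (.leaf 3137005) (.leaf 6016618)) (.node (.leaf 3575429) (.leaf 29270256)))))) (.node (.node (.node (.node (.node (.leaf 29739894) (.leaf 28575425)) (.node (.leaf 26810540) (.leaf 33030904))) (.node (.node (.leaf 24616409) (.leaf 6554066))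 (.node (.leaf 28230888) (.leaf 8538840)))) (.node (.node (.node (.leaf 32775338) (.leaf 23430996)) (.node (.leaf 27155430) (.leaf 33131810))) (.node (.node (.leaf 30971204) (.leaf 2015424)) (.node (.leaf 18334685) (.leaf 16630876))))) (.node (.node (.node (.node (.leaf 21316054) (.leaf 30711230)) (.node (.leaf 25694952) (.leaf 22563909))) (.node (.node (.leaf 13064902) (.leaf 25119513)) (.node (.leaf 3578149) (.leaf 1016168)))) (.node (.node (.node (.leaf 14096504) (.leaf 18415925)) (.node (.leaf 15126020) (.leaf 24418298))) (.node (.node (.leaf 16630300) (.leaf 11946008)) (.node (.leaf 9933137) (.leaf 5490718)))))))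

/-- A point of the block, part 92. -/
def ptCodePart92 : Janko1.Tree ℕ := (.node (.node (.node (.node (.node (.node (.leaf 167034) (.leaf 16778610)) (.node (.leaf 7917845) (.leaf 246377))) (.node (.node (.leaf 14500150) (.leaf 4182796)) (.node (.leaf 16995378) (.leaf 19046624)))) (.node (.node (.node (.leaf 29739192) (.leaf 28444636)) (.node (.leaf 20172270) (.leaf 25117114))) (.node (.node (.leaf 14207969) (.leaf 19767402)) (.node (.leaf 19259004) (.leaf 15434837))))) (.node (.node (.node (.node (.leaf 18565381) (.leaf 29425669)) (.node (.leaf 396880) (.leaf 18842677))) (.node (.node (.leaf 3688024) (.leaf 9784256)) (.node (.leaf 6637528) (.leaf 8638361)))) (.node (.node (.node (.leaf 22990944) (.leaf 12487602)) (.node (.leaf 28870682) (.leaf 3694953))) (.node (.node (.leaf 17813216) (.leaf 21319486)) (.node (.leaf 21039690) (.leaf 6561889)))))) (.node (.node (.node (.node (.node (.leaf 32001561) (.leaf 27099354)) (.node (.leaf 15716656) (.leaf 3134654))) (.node (.node (.leaf 1956869) (.leaf 23157529)) (.node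 (.leaf 28574925) (.leaf 351642)))) (.node (.node (.node (.leaf 2166857) (.leaf 9653817)) (.node (.leaf 6477616) (.leaf 30955400))) (.node (.node (.leaf 28447841) (.leaf 5965300)) (.node (.leaf 29709572) (.leaf 19222430))))) (.node (.node (.node (.node (.leaf 19684105) (.leaf 1872649)) (.node (.leaf 10651394) (.leaf 1793034))) (.node (.node (.leaf 1053596) (.leaf 14538670)) (.node (.leaf 346348) (.leaf 14831134)))) (.node (.node (.node (.leaf 32528052) (.leaf 12113192)) (.node (.leaf 14092221) (.leaf 18341032))) (.node (.node (.leaf 1023948) (.leaf 30203396)) (.node (.leaf 23808366) (.leaf 16995422)))))))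

/-- A point of the block, part 93. -/
def ptCodePart93 : Janko1.Tree ℕ := (.node (.node (.node (.node (.node (.node (.leaf 3430441) (.leaf 29529817)) (.node (.leaf 22711156) (.leaf 15485877))) (.node (.node (.leaf 13716254) (.leaf 9920672)) (.node (.leaf 32884112) (.leaf 1052008)))) (.node (.node (.node (.leaf 24417120) (.leaf 6312664)) (.node (.leaf 28874917) (.leaf 16965305))) (.node (.node (.leaf 26598562) (.leaf 27530245)) (.node (.leaf 6249493) (.leaf 30203348))))) (.node (.node (.node (.node (.leaf 28450266) (.leaf 21316673)) (.node (.leaf 34475033) (.leaf 22992646))) (.node (.node (.leaf 2152498) (.leaf 16782284)) (.node (.leaf 28578609) (.leaf 12732236)))) (.node (.node (.node (.leaf 14911261) (.leaf 30704492)) (.node (.leaf 21989532) (.leaf 18374034))) (.node (.node (.leaf 2557996) (.leaf 10849173)) (.node (.leaf 5230824) (.leaf 11158910)))))) (.node (.node (.node (.node (.node (.leaf 15127918) (.leaf 4183808)) (.node (.leaf 20177008) (.leaf 25397606))) (.node (.node (.leaf 1458557) (.leaf 1462956))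 (.node (.leaf 24255962) (.leaf 9143154)))) (.node (.node (.node (.leaf 30968270) (.leaf 2560790)) (.node (.leaf 24828204) (.leaf 14914736))) (.node (.node (.leaf 2334552) (.leaf 8538993)) (.node (.leaf 34112624) (.leaf 18421562))))) (.node (.node (.node (.node (.leaf 27531482) (.leaf 19761684)) (.node (.leaf 24249569) (.leaf 22988646))) (.node (.node (.leaf 30972548) (.leaf 4181220)) (.node (.leaf 22781718) (.leaf 19043985)))) (.node (.node (.node (.leaf 12732265) (.leaf 1381897)) (.node (.leaf 28688641) (.leaf 10657454))) (.node (.node (.leaf 27533405) (.leaf 2167190)) (.node (.leaf 24415693) (.leaf 14507629)))))))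

/-- A point of the block, part 94. -/
def ptCodePart94 : Janko1.Tree ℕ := (.node (.node (.node (.node (.node (.node (.leaf 29433502) (.leaf 20169494)) (.node (.leaf 2163924) (.leaf 6313308))) (.node (.node (.leaf 250540) (.leaf 3265930)) (.node (.leaf 17406013) (.leaf 26663354)))) (.node (.node (.node (.leaf 29426577) (.leaf 5491294)) (.node (.leaf 6312277) (.leaf 21471301))) (.node (.node (.leaf 6229874) (.leaf 25403300)) (.node (.leaf 26419576) (.leaf 2398961))))) (.node (.node (.node (.node (.leaf 27721810) (.leaf 25698330)) (.node (.leaf 14213449) (.leaf 2643818))) (.node (.node (.leaf 19764610) (.leaf 15359956)) (.node (.leaf 2641801) (.leaf 10373789)))) (.node (.node (.node (.leaf 31725145) (.leaf 28479241)) (.node (.leaf 1382200) (.leaf 28451097))) (.node (.node (.leaf 30708934) (.leaf 25397918)) (.node (.leaf 15720886) (.leaf 19110988)))))) (.node (.node (.node (.node (.node (.leaf 31721713) (.leaf 30711473)) (.node (.leaf 13275525) (.leaf 11161928))) (.node (.node (.leaf 8536942) (.leaf 3133913))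 (.node (.leaf 1787338) (.leaf 10082770)))) (.node (.node (.node (.leaf 15124496) (.leaf 14503032)) (.node (.leaf 16094348) (.leaf 29530474))) (.node (.node (.leaf 18564685) (.leaf 14205036)) (.node (.leaf 21299286) (.leaf 31872961))))) (.node (.node (.node (.node (.leaf 33316602) (.leaf 2327648)) (.node (.leaf 15359378) (.leaf 3268824))) (.node (.node (.leaf 28442948) (.leaf 691860)) (.node (.leaf 2394480) (.leaf 30020746)))) (.node (.node (.node (.leaf 2638244) (.leaf 30708389)) (.node (.leaf 24615136) (.leaf 11162728))) (.node (.node (.leaf 254154) (.leaf 13714442)) (.node (.leaf 12159108) (.leaf 32004273)))))))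

/-- A point of the block, part 95. -/
def ptCodePart95 : Janko1.Tree ℕ := (.node (.node (.node (.node (.node (.node (.leaf 31874626) (.leaf 18421454)) (.node (.leaf 21989202) (.leaf 1952993))) (.node (.node (.leaf 1788078) (.leaf 2269430)) (.node (.leaf 27526113) (.leaf 9147032)))) (.node (.node (.node (.leaf 19226558) (.leaf 21463521)) (.node (.leaf 19677577) (.leaf 2644190))) (.node (.node (.leaf 27104537) (.leaf 14209448)) (.node (.leaf 12734590) (.leaf 25397293))))) (.node (.node (.node (.node (.leaf 14402612) (.leaf 17403916)) (.node (.leaf 30974206) (.leaf 33410208))) (.node (.node (.leaf 19108797) (.leaf 12731306)) (.node (.leaf 249460) (.leaf 30018742)))) (.node (.node (.node (.leaf 27728774) (.leaf 1789112)) (.node (.leaf 18333809) (.leaf 11359390))) (.node (.node (.leaf 2557358) (.leaf 25401048)) (.node (.leaf 6144828) (.leaf 26413156)))))) (.node (.node (.node (.node (.node (.leaf 8821044) (.leaf 22563653)) (.node (.leaf 26660990) (.leaf 21469226))) (.node (.node (.leaf 21038757) (.leaf 32005832))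 (.node (.leaf 17767541) (.leaf 693317)))) (.node (.node (.node (.leaf 3424872) (.leaf 10373018)) (.node (.leaf 12110237) (.leaf 25985038))) (.node (.node (.leaf 26183285) (.leaf 27512178)) (.node (.leaf 27071590) (.leaf 11129034))))) (.node (.node (.node (.node (.leaf 10160250) (.leaf 3342468)) (.node (.leaf 13572060) (.leaf 11854264))) (.node (.node (.leaf 29037937) (.leaf 28531129)) (.node (.leaf 3343922) (.leaf 10158292)))) (.node (.node (.node (.leaf 20057966) (.leaf 30645308)) (.node (.leaf 24859516) (.leaf 10373776))) (.node (.node (.leaf 28565936) (.leaf 30399058)) (.node (.leaf 15473505) (.leaf 5329582)))))))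

/-- A point of the block, part 96. -/
def ptCodePart96 : Janko1.Tree ℕ := (.node (.node (.node (.node (.node (.node (.leaf 7456734) (.leaf 13180817)) (.node (.leaf 20880428) (.leaf 2048392))) (.node (.node (.leaf 28563246) (.leaf 9683633)) (.node (.leaf 27072148) (.leaf 16634684)))) (.node (.node (.node (.leaf 15467524) (.leaf 10161332)) (.node (.leaf 8243310) (.leaf 28803965))) (.node (.node (.leaf 15470040) (.leaf 1201400)) (.node (.leaf 2411237) (.leaf 7852278))))) (.node (.node (.node (.node (.leaf 9932861) (.leaf 12525517)) (.node (.leaf 5068126) (.leaf 15471472))) (.node (.node (.leaf 32331413) (.leaf 18661784)) (.node (.leaf 13911182) (.leaf 16632674)))) (.node (.node (.node (.leaf 9638298) (.leaf 17057526)) (.node (.leaf 4560818) (.leaf 9688449))) (.node (.node (.leaf 33574801) (.leaf 14926573)) (.node (.leaf 10289918) (.leaf 17859133)))))) (.node (.node (.node (.node (.node (.leaf 24074705) (.leaf 25661330)) (.node (.leaf 8244017) (.leaf 28792132))) (.node (.node (.leaf 25643972) (.leaf 6134280))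 (.node (.leaf 4559932) (.leaf 15468360)))) (.node (.node (.node (.leaf 3770237) (.leaf 9095149)) (.node (.leaf 16634038) (.leaf 1804521))) (.node (.node (.leaf 15684724) (.leaf 29184272)) (.node (.leaf 29181170) (.leaf 24007129))))) (.node (.node (.node (.node (.leaf 3408958) (.leaf 25646288)) (.node (.leaf 19647937) (.leaf 33883010))) (.node (.node (.leaf 16633500) (.leaf 17860834)) (.node (.leaf 31820893) (.leaf 2935314)))) (.node (.node (.node (.leaf 24215922) (.leaf 30644044)) (.node (.leaf 4348262) (.leaf 8245198))) (.node (.node (.leaf 16632432) (.leaf 1806998)) (.node (.leaf 14196644) (.leaf 21519281)))))))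

/-- A point of the block, part 97. -/
def ptCodePart97 : Janko1.Tree ℕ := (.node (.node (.node (.node (.node (.node (.leaf 822102) (.leaf 28793120)) (.node (.leaf 17094906) (.leaf 13568582))) (.node (.node (.leaf 6130288) (.leaf 3350358)) (.node (.leaf 4344297) (.leaf 17449693)))) (.node (.node (.node (.leaf 607244) (.leaf 32332821)) (.node (.leaf 17861569) (.leaf 24550001))) (.node (.node (.leaf 3414240) (.leaf 17647948)) (.node (.leaf 30820485) (.leaf 28516282))))) (.node (.node (.node (.node (.leaf 10161973) (.leaf 10884202)) (.node (.leaf 15998278) (.leaf 8815557))) (.node (.node (.leaf 4085740) (.leaf 17861298)) (.node (.leaf 28035958) (.leaf 1281080)))) (.node (.node (.node (.leaf 13849653) (.leaf 11783276)) (.node (.leaf 10159312) (.leaf 8654041))) (.node (.node (.leaf 12066761) (.leaf 20059437)) (.node (.leaf 24858678) (.leaf 31824346)))))) (.node (.node (.node (.node (.node (.leaf 14189661) (.leaf 24856181)) (.node (.leaf 22156286) (.leaf 24401789))) (.node (.node (.leaf 25122070) (.leaf 21761280))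 (.node (.leaf 19650292) (.leaf 14370646)))) (.node (.node (.node (.leaf 8395633) (.leaf 13180064)) (.node (.leaf 7867240) (.leaf 24306028))) (.node (.node (.leaf 32852837) (.leaf 8650897)) (.node (.leaf 18111986) (.leaf 25665533))))) (.node (.node (.node (.node (.leaf 33849453) (.leaf 16108877)) (.node (.leaf 4558914) (.leaf 30640984))) (.node (.node (.leaf 11125016) (.leaf 14932736)) (.node (.leaf 3776918) (.leaf 8949438)))) (.node (.node (.node (.leaf 10292160) (.leaf 17647916)) (.node (.leaf 5332766) (.leaf 15999309))) (.node (.node (.leaf 23240364) (.leaf 8654262)) (.node (.leaf 8247477) (.leaf 2934762)))))))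

/-- A point of the block, part 98. -/
def ptCodePart98 : Janko1.Tree ℕ := (.node (.node (.node (.node (.node (.node (.leaf 27230389) (.leaf 24073997)) (.node (.leaf 8953269) (.leaf 16638200))) (.node (.node (.leaf 7872864) (.leaf 5491252)) (.node (.leaf 2052320) (.leaf 5068834)))) (.node (.node (.node (.leaf 2415669) (.leaf 5625213)) (.node (.leaf 9458485) (.leaf 1809528))) (.node (.node (.leaf 25239009) (.leaf 13750028)) (.node (.leaf 8657005) (.leaf 7425341))))) (.node (.node (.node (.node (.leaf 29823348) (.leaf 5493804)) (.node (.leaf 16996828) (.leaf 15881144))) (.node (.node (.leaf 11620510) (.leaf 5327729)) (.node (.leaf 30629805) (.leaf 6099261)))) (.node (.node (.node (.leaf 28496149) (.leaf 20876161)) (.node (.leaf 9935108) (.leaf 13894665))) (.node (.node (.leaf 18992609) (.leaf 33852517)) (.node (.leaf 28004933) (.leaf 19946377)))))) (.node (.node (.node (.node (.node (.leaf 22352158) (.leaf 17449965)) (.node (.leaf 10175189) (.leaf 8817586))) (.node (.node (.leaf 10379514) (.leaf 7052790)) (.node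 (.leaf 3267789) (.leaf 24551293)))) (.node (.node (.node (.leaf 11375304) (.leaf 17449552)) (.node (.leaf 27074716) (.leaf 27067982))) (.node (.node (.leaf 24156433) (.leaf 5496020)) (.node (.leaf 9146500) (.leaf 33851961))))) (.node (.node (.node (.node (.leaf 14878621) (.leaf 23779749)) (.node (.leaf 7053741) (.leaf 23778977))) (.node (.node (.leaf 13179877) (.leaf 3659102)) (.node (.leaf 2070142) (.leaf 13847692)))) (.node (.node (.node (.leaf 7053646) (.leaf 8816273)) (.node (.leaf 7852566) (.leaf 3413502))) (.node (.node (.leaf 13895484) (.leaf 7430486)) (.node (.leaf 27233513) (.leaf 30642230)))))))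

/-- A point of the block, part 99. -/
def ptCodePart99 : Janko1.Tree ℕ := (.node (.node (.node (.node (.node (.node (.leaf 11949376) (.leaf 25645194)) (.node (.leaf 6131620) (.leaf 7850720))) (.node (.node (.leaf 2934185) (.leaf 20875678)) (.node (.leaf 3886972) (.leaf 12140689)))) (.node (.node (.node (.leaf 13911370) (.leaf 19733977)) (.node (.leaf 25235744) (.leaf 607385))) (.node (.node (.leaf 13845896) (.leaf 10670486)) (.node (.leaf 14372801) (.leaf 30646378))))) (.node (.node (.node (.node (.leaf 2068352) (.leaf 16256041)) (.node (.leaf 1199296) (.leaf 28006118))) (.node (.node (.leaf 14552021) (.leaf 3473810)) (.node (.leaf 13750297) (.leaf 19730949)))) (.node (.node (.node (.leaf 30052624) (.leaf 14144905)) (.node (.leaf 608344) (.leaf 11735493))) (.node (.node (.leaf 26582785) (.leaf 19945177)) (.node (.leaf 23633640) (.leaf 32049188)))))) (.node (.node (.node (.node (.node (.leaf 32886777) (.leaf 21761341)) (.node (.leaf 30625238) (.leaf 8657582))) (.node (.node (.leaf 15456518) (.leaf 15451912))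 (.node (.leaf 18990377) (.leaf 2413370)))) (.node (.node (.node (.leaf 23235125) (.leaf 30056209)) (.node (.leaf 32325873) (.leaf 32856182))) (.node (.node (.leaf 31481406) (.leaf 31480598)) (.node (.leaf 24543544) (.leaf 10620968))))) (.node (.node (.node (.node (.leaf 5184357) (.leaf 11372064)) (.node (.leaf 34491937) (.leaf 1197457))) (.node (.node (.leaf 2278472) (.leaf 16261545)) (.node (.leaf 31480741) (.leaf 609284)))) (.node (.node (.node (.leaf 9149380) (.leaf 2934732)) (.node (.leaf 2414133) (.leaf 3770697))) (.node (.node (.leaf 15440290) (.leaf 5621000)) (.node (.leaf 24399558) (.leaf 11852890)))))))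

/-- A point of the block, part 100. -/
def ptCodePart100 : Janko1.Tree ℕ := (.node (.node (.node (.node (.node (.node (.leaf 30623492) (.leaf 23631825)) (.node (.leaf 33692884) (.leaf 17063182))) (.node (.node (.leaf 14377353) (.leaf 10165717)) (.node (.leaf 16630113) (.leaf 30053026)))) (.node (.node (.node (.leaf 10995913) (.leaf 4441722)) (.node (.leaf 33691325) (.leaf 15879214))) (.node (.node (.leaf 7854290) (.leaf 2067044)) (.node (.leaf 4231537) (.leaf 17866686))))) (.node (.node (.node (.node (.leaf 19728945) (.leaf 6511734)) (.node (.leaf 24010237) (.leaf 25647825))) (.node (.node (.leaf 20060421) (.leaf 9258896)) (.node (.leaf 34872373) (.leaf 30626529)))) (.node (.node (.node (.leaf 32885986) (.leaf 11523582)) (.node (.leaf 5490746) (.leaf 3478242))) (.node (.node (.leaf 11735154) (.leaf 3268030)) (.node (.leaf 18990530) (.leaf 33884330)))))) (.node (.node (.node (.node (.node (.leaf 34955673) (.leaf 9148436)) (.node (.leaf 32326732) (.leaf 25118026))) (.node (.node (.leaf 9143584) (.leaf 24010357))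 (.node (.leaf 9097769) (.leaf 20881742)))) (.node (.node (.node (.leaf 8817134) (.leaf 30641392)) (.node (.leaf 14190592) (.leaf 7045913))) (.node (.node (.leaf 11848048) (.leaf 7855736)) (.node (.leaf 10624296) (.leaf 13567990))))) (.node (.node (.node (.node (.leaf 28491801) (.leaf 24550489)) (.node (.leaf 14145756) (.leaf 21513265))) (.node (.node (.leaf 11946028) (.leaf 5329068)) (.node (.leaf 16997200) (.leaf 25659638)))) (.node (.node (.node (.leaf 10770104) (.leaf 11737326)) (.node (.leaf 34357289) (.leaf 16991866))) (.node (.node (.leaf 1805221) (.leaf 22301314)) (.node (.leaf 18111341) (.leaf 12700032)))))))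

/-- A point of the block, part 101. -/
def ptCodePart101 : Janko1.Tree ℕ := (.node (.node (.node (.node (.node (.node (.leaf 10881848) (.leaf 9455016)) (.node (.leaf 11126558) (.leaf 9638185))) (.node (.node (.leaf 5184085) (.leaf 31820632)) (.node (.leaf 11243853) (.leaf 25501400)))) (.node (.node (.node (.leaf 19650564) (.leaf 26581906)) (.node (.leaf 3344277) (.leaf 8819554))) (.node (.node (.leaf 14370026) (.leaf 7425866)) (.node (.leaf 2416384) (.leaf 15992049))))) (.node (.node (.node (.node (.leaf 25659266) (.leaf 35328469)) (.node (.leaf 29181530) (.leaf 3414268))) (.node (.node (.leaf 23236666) (.leaf 1201377)) (.node (.leaf 29187817) (.leaf 13178662)))) (.node (.node (.node (.leaf 12143642) (.leaf 21614665)) (.node (.leaf 6131160) (.leaf 25501430))) (.node (.node (.leaf 29039040) (.leaf 2070029)) (.node (.leaf 12059564) (.leaf 1072096)))))) (.node (.node (.node (.node (.node (.leaf 2051226) (.leaf 29187337)) (.node (.leaf 14370617) (.leaf 33573665))) (.node (.node (.leaf 6504866) (.leaf 33885522))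 (.node (.leaf 14879793) (.leaf 20583496)))) (.node (.node (.node (.leaf 9689489) (.leaf 35086226)) (.node (.leaf 8396310) (.leaf 11063706))) (.node (.node (.leaf 15437138) (.leaf 10290958)) (.node (.leaf 23010076) (.leaf 3662136))))) (.node (.node (.node (.node (.leaf 28531610) (.leaf 5625370)) (.node (.leaf 34495565) (.leaf 22404950))) (.node (.node (.leaf 34915916) (.leaf 15452870)) (.node (.leaf 17088670) (.leaf 28529832)))) (.node (.node (.node (.leaf 15440658) (.leaf 25647986)) (.node (.leaf 8248106) (.leaf 32853713))) (.node (.node (.leaf 10159488) (.leaf 14926616)) (.node (.leaf 10215313) (.leaf 8247370)))))))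

/-- A point of the block, part 102. -/
def ptCodePart102 : Janko1.Tree ℕ := (.node (.node (.node (.node (.node (.node (.leaf 11787002) (.leaf 26582936)) (.node (.leaf 32047529) (.leaf 11781106))) (.node (.node (.leaf 14293216) (.leaf 10215672)) (.node (.leaf 17865860) (.leaf 15472996)))) (.node (.node (.node (.leaf 11731040) (.leaf 31478385)) (.node (.leaf 14292684) (.leaf 28497504))) (.node (.node (.leaf 7457274) (.leaf 2066813)) (.node (.leaf 9639084) (.leaf 25493692))))) (.node (.node (.node (.node (.leaf 29825186) (.leaf 10994853)) (.node (.leaf 7427745) (.leaf 3885230))) (.node (.node (.leaf 3775041) (.leaf 30820182)) (.node (.leaf 11616449) (.leaf 9098634)))) (.node (.node (.node (.leaf 10997090) (.leaf 4345973)) (.node (.leaf 11522204) (.leaf 14882268))) (.node (.node (.leaf 23779874) (.leaf 18108382)) (.node (.leaf 33692624) (.leaf 34488801)))))) (.node (.node (.node (.node (.node (.leaf 19942161) (.leaf 18994837)) (.node (.leaf 14189685) (.leaf 3886072))) (.node (.node (.leaf 9149226) (.leaf 6508861))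 (.node (.leaf 7457878) (.leaf 8621366)))) (.node (.node (.node (.leaf 14927090) (.leaf 24154517)) (.node (.leaf 21073100) (.leaf 35330980))) (.node (.node (.leaf 12703925) (.leaf 516333)) (.node (.leaf 23069961) (.leaf 28788552))))) (.node (.node (.node (.node (.leaf 11001844) (.leaf 16107978)) (.node (.leaf 23069329) (.leaf 33965866))) (.node (.node (.leaf 35083306) (.leaf 20584169)) (.node (.leaf 9937042) (.leaf 3773617)))) (.node (.node (.node (.leaf 15686026) (.leaf 18666613)) (.node (.leaf 7045646) (.leaf 28558634))) (.node (.node (.leaf 14146969) (.leaf 17651969)) (.node (.leaf 11737562) (.leaf 12570534)))))))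

/-- A point of the block, part 103. -/
def ptCodePart103 : Janko1.Tree ℕ := (.node (.node (.node (.node (.node (.node (.leaf 32047792) (.leaf 4443370)) (.node (.leaf 22306778) (.leaf 29038622))) (.node (.node (.leaf 25123649) (.leaf 18663941)) (.node (.leaf 35078224) (.leaf 28514270)))) (.node (.node (.node (.leaf 33688820) (.leaf 21763185)) (.node (.leaf 28810242) (.leaf 11786758))) (.node (.node (.leaf 9640449) (.leaf 18993916)) (.node (.leaf 35324397) (.leaf 30056241))))) (.node (.node (.node (.node (.leaf 9261277) (.leaf 24220452)) (.node (.leaf 7870280) (.leaf 10767498))) (.node (.node (.leaf 24302568) (.leaf 14192597)) (.node (.leaf 20877152) (.leaf 25499909)))) (.node (.node (.node (.leaf 5184402) (.leaf 18666030)) (.node (.leaf 28803489) (.leaf 8651677))) (.node (.node (.leaf 21516232) (.leaf 28561593)) (.node (.leaf 2278333) (.leaf 19652658)))))) (.node (.node (.node (.node (.node (.leaf 20059441) (.leaf 25231405)) (.node (.leaf 5488640) (.leaf 14287237))) (.node (.node (.leaf 27073873) (.leaf 21074385))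 (.node (.leaf 20582930) (.leaf 3657622)))) (.node (.node (.node (.leaf 11617784) (.leaf 30396889)) (.node (.leaf 612678) (.leaf 8815724))) (.node (.node (.leaf 28561860) (.leaf 7867280)) (.node (.leaf 24401245) (.leaf 33885000))))) (.node (.node (.node (.node (.leaf 5184109) (.leaf 4443500)) (.node (.leaf 30646096) (.leaf 28788960))) (.node (.node (.leaf 23713306) (.leaf 29820865)) (.node (.leaf 15995877) (.leaf 17061349)))) (.node (.node (.node (.leaf 10669365) (.leaf 28559628)) (.node (.leaf 25741596) (.leaf 25117913))) (.node (.node (.leaf 21071913) (.leaf 9641500)) (.node (.leaf 2048310) (.leaf 8392076)))))))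

/-- A point of the block, part 104. -/
def ptCodePart104 : Janko1.Tree ℕ := (.node (.node (.node (.node (.node (.node (.leaf 5331485) (.leaf 29822161)) (.node (.leaf 12519229) (.leaf 11242533))) (.node (.node (.leaf 6098984) (.leaf 4442824)) (.node (.leaf 28494724) (.leaf 24302288)))) (.node (.node (.node (.leaf 10297672) (.leaf 28803817)) (.node (.leaf 7459760) (.leaf 7458282))) (.node (.node (.leaf 12567584) (.leaf 9933494)) (.node (.leaf 33972518) (.leaf 5179253))))) (.node (.node (.node (.node (.leaf 2065660) (.leaf 11000722)) (.node (.leaf 15998645) (.leaf 6098944))) (.node (.node (.leaf 24217237) (.leaf 32891009)) (.node (.leaf 28006849) (.leaf 33573734)))) (.node (.node (.node (.leaf 10174781) (.leaf 4231466)) (.node (.leaf 33572693) (.leaf 3888400))) (.node (.node (.leaf 14373758) (.leaf 7866596)) (.node (.leaf 1284388) (.leaf 20060597)))))) (.node (.node (.node (.node (.node (.leaf 24299030) (.leaf 14287486)) (.node (.leaf 10623897) (.leaf 14372554))) (.node (.node (.leaf 5183630) (.leaf 10212429))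 (.node (.leaf 12567982) (.leaf 10213816)))) (.node (.node (.node (.leaf 12702793) (.leaf 22356368)) (.node (.leaf 17651518) (.leaf 8390062))) (.node (.node (.leaf 19732364) (.leaf 31474688)) (.node (.leaf 24304500) (.leaf 11062825))))) (.node (.node (.node (.node (.leaf 14555952) (.leaf 9145641)) (.node (.leaf 22298793) (.leaf 23005016))) (.node (.node (.leaf 10175910) (.leaf 14979172)) (.node (.leaf 10771405) (.leaf 11244190)))) (.node (.node (.node (.leaf 30049745) (.leaf 4348256)) (.node (.leaf 23774984) (.leaf 19734118))) (.node (.node (.leaf 24299132) (.leaf 21073820)) (.node (.leaf 24550960) (.leaf 28527022)))))))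

/-- A point of the block, part 105. -/
def ptCodePart105 : Janko1.Tree ℕ := (.node (.node (.node (.node (.node (.node (.leaf 26575420) (.leaf 17093454)) (.node (.leaf 612237) (.leaf 30396860))) (.node (.node (.leaf 14926268) (.leaf 34873434)) (.node (.leaf 1066300) (.leaf 8815676)))) (.node (.node (.node (.leaf 3479912) (.leaf 32332893)) (.node (.leaf 30638266) (.leaf 8654936))) (.node (.node (.leaf 11131606) (.leaf 3415770)) (.node (.leaf 3412542) (.leaf 22159165))))) (.node (.node (.node (.node (.leaf 23240965) (.leaf 9143210)) (.node (.leaf 32326469) (.leaf 4441222))) (.node (.node (.leaf 33856381) (.leaf 11525445)) (.node (.leaf 14977042) (.leaf 30051109)))) (.node (.node (.node (.leaf 4081101) (.leaf 511838)) (.node (.leaf 10885628) (.leaf 16254008))) (.node (.node (.leaf 34914358) (.leaf 34917038)) (.node (.leaf 5326417) (.leaf 11376968)))))) (.node (.node (.node (.node (.node (.leaf 1198394) (.leaf 10374737)) (.node (.leaf 11246946) (.leaf 3345045))) (.node (.node (.leaf 29037496) (.leaf 11131502))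 (.node (.leaf 24549893) (.leaf 14294268)))) (.node (.node (.node (.leaf 32857781) (.leaf 6507520)) (.node (.leaf 25740053) (.leaf 18997082))) (.node (.node (.leaf 13747894) (.leaf 5183273)) (.node (.leaf 23631862) (.leaf 11944009))))) (.node (.node (.node (.node (.leaf 31819081) (.leaf 23714408)) (.node (.leaf 7428678) (.leaf 21514542))) (.node (.node (.leaf 8396825) (.leaf 18105065)) (.node (.leaf 24401405) (.leaf 14932316)))) (.node (.node (.node (.leaf 6135874) (.leaf 7850382)) (.node (.leaf 11621832) (.leaf 25496596))) (.node (.node (.leaf 33358668) (.leaf 3891533)) (.node (.leaf 5620666) (.leaf 20582092)))))))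

/-- A point of the block, part 106. -/
def ptCodePart106 : Janko1.Tree ℕ := (.node (.node (.node (.node (.node (.node (.leaf 18662370) (.leaf 5065390)) (.node (.leaf 32325900) (.leaf 16254508))) (.node (.node (.leaf 33972456) (.leaf 30627649)) (.node (.leaf 28794552) (.leaf 28002296)))) (.node (.node (.node (.leaf 3268952) (.leaf 512889)) (.node (.leaf 13894624) (.leaf 25119625))) (.node (.node (.leaf 33850840) (.leaf 24004958)) (.node (.leaf 29181876) (.leaf 11780254))))) (.node (.node (.node (.node (.leaf 10771349) (.leaf 1805440)) (.node (.leaf 15454105) (.leaf 14290061))) (.node (.node (.leaf 3768749) (.leaf 34358970)) (.node (.leaf 2279957) (.leaf 28790768)))) (.node (.node (.node (.leaf 9937192) (.leaf 3657420)) (.node (.leaf 34363116) (.leaf 14882706))) (.node (.node (.leaf 9460006) (.leaf 31821178)) (.node (.leaf 5065901) (.leaf 21519278)))))) (.node (.node (.node (.node (.node (.leaf 9260912) (.leaf 23007653)) (.node (.leaf 3657288) (.leaf 15452302))) (.node (.node (.leaf 12572994) (.leaf 12569697))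 (.node (.leaf 21074658) (.leaf 30392466)))) (.node (.node (.node (.leaf 25743845) (.leaf 8618833)) (.node (.leaf 21612988) (.leaf 13176466))) (.node (.node (.leaf 34918652) (.leaf 24223828)) (.node (.leaf 28499668) (.leaf 14141846))))) (.node (.node (.node (.node (.leaf 7425317) (.leaf 24550738)) (.node (.leaf 28033429) (.leaf 1278822))) (.node (.node (.leaf 28040473) (.leaf 31821766)) (.node (.leaf 14293064) (.leaf 23628140)))) (.node (.node (.node (.leaf 34496906) (.leaf 24300361)) (.node (.leaf 10378098) (.leaf 28511062))) (.node (.node (.leaf 22350513) (.leaf 14139633)) (.node (.leaf 29180541) (.leaf 13754338)))))))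

/-- A point of the block, part 107. -/
def ptCodePart107 : Janko1.Tree ℕ := (.node (.node (.node (.node (.node (.node (.leaf 606950) (.leaf 15997132)) (.node (.leaf 23709404) (.leaf 20057020))) (.node (.node (.leaf 3346777) (.leaf 14552441)) (.node (.leaf 9687053) (.leaf 21074940)))) (.node (.node (.node (.leaf 12571089) (.leaf 2282464)) (.node (.leaf 3889960) (.leaf 4233881))) (.node (.node (.leaf 34866825) (.leaf 17061810)) (.node (.leaf 10887205) (.leaf 28563697))))) (.node (.node (.node (.node (.leaf 19649798) (.leaf 9683786)) (.node (.leaf 8625984) (.leaf 17088786))) (.node (.node (.leaf 25232744) (.leaf 25747400)) (.node (.leaf 21611410) (.leaf 28497416)))) (.node (.node (.node (.leaf 24006153) (.leaf 28806892)) (.node (.leaf 16260278) (.leaf 22154134))) (.node (.node (.leaf 35079896) (.leaf 23073798)) (.node (.leaf 15687697) (.leaf 24150298)))))) (.node (.node (.node (.node (.node (.leaf 11130458) (.leaf 24071246)) (.node (.leaf 10671705) (.leaf 22355974))) (.node (.node (.leaf 34951138) (.leaf 11519825))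 (.node (.leaf 32052254) (.leaf 28008700)))) (.node (.node (.node (.leaf 33692881) (.leaf 25318322)) (.node (.leaf 14933602) (.leaf 22304965))) (.node (.node (.leaf 25318717) (.leaf 27072206)) (.node (.leaf 8620094) (.leaf 28529818))))) (.node (.node (.node (.node (.leaf 13566442) (.leaf 11849742)) (.node (.leaf 509026) (.leaf 12525637))) (.node (.node (.leaf 27069657) (.leaf 23010144)) (.node (.leaf 24155748) (.leaf 34359886)))) (.node (.node (.node (.leaf 31823620) (.leaf 11850226)) (.node (.leaf 12062594) (.leaf 9639324))) (.node (.node (.leaf 27235209) (.leaf 9457565)) (.node (.leaf 28810252) (.leaf 13844673)))))))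

/-- A point of the block, part 108. -/
def ptCodePart108 : Janko1.Tree ℕ := (.node (.node (.node (.node (.node (.node (.leaf 28511852) (.leaf 8949236)) (.node (.leaf 14925880) (.leaf 30819806))) (.node (.node (.leaf 15995432) (.leaf 16257212)) (.node (.leaf 4556820) (.leaf 8619566)))) (.node (.node (.node (.leaf 1279308) (.leaf 10379486)) (.node (.leaf 34359552) (.leaf 11372205))) (.node (.node (.leaf 10289350) (.leaf 2279716)) (.node (.leaf 10296258) (.leaf 35082533))))) (.node (.node (.node (.node (.leaf 10767201) (.leaf 34868588)) (.node (.leaf 33851876) (.leaf 22351506))) (.node (.node (.leaf 15877492) (.leaf 7866881)) (.node (.leaf 7866732) (.leaf 16110837)))) (.node (.node (.node (.leaf 5627278) (.leaf 10881137)) (.node (.leaf 21763384) (.leaf 11372286))) (.node (.node (.leaf 35326858) (.leaf 29041045)) (.node (.leaf 24155140) (.leaf 10378468)))))) (.node (.node (.node (.node (.node (.leaf 22354973) (.leaf 2069552)) (.node (.leaf 7046838) (.leaf 24151096))) (.node (.node (.leaf 20582060) (.leaf 33888508))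 (.node (.leaf 18990776) (.leaf 12522236)))) (.node (.node (.node (.leaf 24007798) (.leaf 35329541)) (.node (.leaf 9461918) (.leaf 24221886))) (.node (.node (.leaf 18666136) (.leaf 10768226)) (.node (.leaf 3477644) (.leaf 22300345))))) (.node (.node (.node (.node (.leaf 18661996) (.leaf 32049022)) (.node (.leaf 7462601) (.leaf 33888988))) (.node (.node (.leaf 18112912) (.leaf 23074934)) (.node (.leaf 9093320) (.leaf 5069138)))) (.node (.node (.node (.leaf 30399626) (.leaf 34357624)) (.node (.leaf 7047468) (.leaf 2939249))) (.node (.node (.leaf 1810773) (.leaf 11848520)) (.node (.leaf 27071328) (.leaf 11845982)))))))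

/-- A point of the block, part 109. -/
def ptCodePart109 : Janko1.Tree ℕ := (.node (.node (.node (.node (.node (.node (.leaf 33359146) (.leaf 15434917)) (.node (.leaf 13752680) (.leaf 11061061))) (.node (.node (.leaf 11241736) (.leaf 15883734)) (.node (.leaf 24219762) (.leaf 14882733)))) (.node (.node (.node (.leaf 9931453) (.leaf 25747197)) (.node (.leaf 11847529) (.leaf 12704988))) (.node (.node (.leaf 24073286) (.leaf 1071446)) (.node (.leaf 9461938) (.leaf 1072752))))) (.node (.node (.node (.node (.leaf 2415180) (.leaf 14980922)) (.node (.leaf 32888668) (.leaf 28492277))) (.node (.node (.leaf 1810360) (.leaf 30400192)) (.node (.leaf 5183833) (.leaf 4233354)))) (.node (.node (.node (.leaf 15679506) (.leaf 14143764)) (.node (.leaf 4230934) (.leaf 23010428))) (.node (.node (.leaf 24075178) (.leaf 27238566)) (.node (.leaf 8620314) (.leaf 3349121)))))) (.node (.node (.node (.node (.node (.leaf 13846977) (.leaf 29035254)) (.node (.leaf 24011117) (.leaf 7851444))) (.node (.node (.leaf 2050840) (.leaf 24151205))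 (.node (.leaf 17454482) (.leaf 4083089)))) (.node (.node (.node (.leaf 23631324) (.leaf 2413708)) (.node (.leaf 28007224) (.leaf 15683066))) (.node (.node (.leaf 3657773) (.leaf 34358197)) (.node (.leaf 29040605) (.leaf 11951176))))) (.node (.node (.node (.node (.leaf 23625884) (.leaf 29818905)) (.node (.leaf 11524504) (.leaf 1201984))) (.node (.node (.leaf 10177062) (.leaf 23072714)) (.node (.leaf 23073988) (.leaf 10296942)))) (.node (.node (.node (.leaf 24216708) (.leaf 8394129)) (.node (.leaf 10159721) (.leaf 6512944))) (.node (.node (.leaf 15468073) (.leaf 21614702)) (.node (.leaf 28002628) (.leaf 4443574)))))))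

/-- A point of the block, part 110. -/
def ptCodePart110 : Janko1.Tree ℕ := (.node (.node (.node (.node (.node (.node (.leaf 25117629) (.leaf 22398356)) (.node (.leaf 25745141) (.leaf 23713413))) (.node (.node (.leaf 1200741) (.leaf 25316948)) (.node (.leaf 10213008) (.leaf 33365509)))) (.node (.node (.node (.leaf 30823134) (.leaf 14193789)) (.node (.leaf 25641921) (.leaf 11620626))) (.node (.node (.leaf 19644636) (.leaf 2938190)) (.node (.leaf 14552600) (.leaf 19946581))))) (.node (.node (.node (.node (.leaf 11945390) (.leaf 9263498)) (.node (.leaf 9931960) (.leaf 14294388))) (.node (.node (.leaf 19940905) (.leaf 10376014)) (.node (.leaf 11733868) (.leaf 1069093)))) (.node (.node (.node (.leaf 22158682) (.leaf 12146073)) (.node (.leaf 24402790) (.leaf 12140649))) (.node (.node (.leaf 14881921) (.leaf 24858320)) (.node (.leaf 16997198) (.leaf 30625386)))))) (.node (.node (.node (.node (.node (.leaf 24150996) (.leaf 3655252)) (.node (.leaf 14143204) (.leaf 24297724))) (.node (.node (.leaf 21520802) (.leaf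 11788218)) (.node (.leaf 31817788) (.leaf 22154828)))) (.node (.node (.node (.leaf 15439233) (.leaf 28528498)) (.node (.leaf 11245396) (.leaf 10764464))) (.node (.node (.leaf 32051566) (.leaf 5065561)) (.node (.leaf 22301853) (.leaf 28034889))))) (.node (.node (.node (.node (.leaf 32853845) (.leaf 12148542)) (.node (.leaf 33365016) (.leaf 19514618))) (.node (.node (.leaf 17060224) (.leaf 11526029)) (.node (.leaf 23632984) (.leaf 17652270)))) (.node (.node (.node (.leaf 25664946) (.leaf 16634969)) (.node (.leaf 13895358) (.leaf 7462741))) (.node (.node (.leaf 33361833) (.leaf 3346662)) (.node (.leaf 11066360) (.leaf 3660641)))))))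

/-- A point of the block, part 111. -/
def ptCodePart111 : Janko1.Tree ℕ := (.node (.node (.node (.node (.node (.node (.leaf 10622905) (.leaf 7457529)) (.node (.leaf 32887994) (.leaf 23773832))) (.node (.node (.leaf 10295108) (.leaf 1809702)) (.node (.leaf 13746382) (.leaf 11949949)))) (.node (.node (.node (.leaf 9683504) (.leaf 4442397)) (.node (.leaf 8619702) (.leaf 23008689))) (.node (.node (.leaf 30824808) (.leaf 34915129)) (.node (.leaf 4555584) (.leaf 18666474))))) (.node (.node (.node (.node (.leaf 33574798) (.leaf 13850320)) (.node (.leaf 18106813) (.leaf 33366064))) (.node (.node (.leaf 16113562) (.leaf 28808129)) (.node (.leaf 610573) (.leaf 10998661)))) (.node (.node (.node (.leaf 11065826) (.leaf 12701601)) (.node (.leaf 25239532) (.leaf 25318282))) (.node (.node (.leaf 28509873) (.leaf 3769436)) (.node (.leaf 23775405) (.leaf 34948830)))))) (.node (.node (.node (.node (.node (.leaf 12059653) (.leaf 9259740)) (.node (.leaf 12147154) (.leaf 24003669))) (.node (.node (.leaf 2935340) (.leaf 24069621))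 (.node (.leaf 11378466) (.leaf 31474658)))) (.node (.node (.node (.leaf 13574453) (.leaf 20059738)) (.node (.leaf 3410108) (.leaf 13895426))) (.node (.node (.leaf 25747365) (.leaf 19517320)) (.node (.leaf 22353992) (.leaf 1284805))))) (.node (.node (.node (.node (.leaf 33692381) (.leaf 9684896)) (.node (.leaf 25118942) (.leaf 10212610))) (.node (.node (.leaf 11783440) (.leaf 6098702)) (.node (.leaf 16256677) (.leaf 22303848)))) (.node (.node (.node (.leaf 34869846) (.leaf 12699312)) (.node (.leaf 34950072) (.leaf 2072409))) (.node (.node (.leaf 26582998) (.leaf 28562080)) (.node (.leaf 28788421) (.leaf 11059909)))))))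

/-- A point of the block, part 112. -/
def ptCodePart112 : Janko1.Tree ℕ := (.node (.node (.node (.node (.node (.node (.leaf 10618422) (.leaf 13897722)) (.node (.leaf 10621414) (.leaf 25743386))) (.node (.node (.leaf 23008065) (.leaf 4562024)) (.node (.leaf 34871989) (.leaf 30822045)))) (.node (.node (.node (.leaf 24397428) (.leaf 5492169)) (.node (.leaf 13849133) (.leaf 6507102))) (.node (.node (.leaf 4231961) (.leaf 16109670)) (.node (.leaf 23238200) (.leaf 15451081))))) (.node (.node (.node (.node (.leaf 25238881) (.leaf 9935161)) (.node (.leaf 11059885) (.leaf 19727796))) (.node (.node (.leaf 13899685) (.leaf 11131045)) (.node (.leaf 6097990) (.leaf 11738720)))) (.node (.node (.node (.leaf 14554494) (.leaf 7046529)) (.node (.leaf 34872606) (.leaf 9457892))) (.node (.node (.leaf 4341809) (.leaf 16113166)) (.node (.leaf 16996974) (.leaf 4444224)))))) (.node (.node (.node (.node (.node (.leaf 32333116) (.leaf 11619256)) (.node (.leaf 5495652) (.leaf 4082626))) (.node (.node (.leaf 19945150) (.leaf 24070944))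 (.node (.leaf 4087917) (.leaf 17653973)))) (.node (.node (.node (.leaf 5492812) (.leaf 17652922)) (.node (.leaf 17864712) (.leaf 33857665))) (.node (.node (.leaf 15472060) (.leaf 27232144)) (.node (.leaf 8392004) (.leaf 28492082))))) (.node (.node (.node (.node (.leaf 22400841) (.leaf 35324673)) (.node (.leaf 7871954) (.leaf 30054978))) (.node (.node (.leaf 22399366) (.leaf 29819052)) (.node (.leaf 19732210) (.leaf 32858412)))) (.node (.node (.node (.leaf 13916920) (.leaf 825892)) (.node (.leaf 17058652) (.leaf 10181446))) (.node (.node (.leaf 1279340) (.leaf 14190644)) (.node (.leaf 16991206) (.leaf 21765144)))))))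

/-- A point of the block, part 113. -/
def ptCodePart113 : Janko1.Tree ℕ := (.node (.node (.node (.node (.node (.node (.leaf 32857428) (.leaf 25648652)) (.node (.leaf 17450058) (.leaf 28033352))) (.node (.node (.leaf 17092362) (.leaf 9097481)) (.node (.leaf 35086134) (.leaf 21615465)))) (.node (.node (.node (.leaf 4346472) (.leaf 29825346)) (.node (.leaf 15997506) (.leaf 25321309))) (.node (.node (.leaf 33571185) (.leaf 34918530)) (.node (.leaf 12521521) (.leaf 13751897))))) (.node (.node (.node (.node (.leaf 35327364) (.leaf 33964052)) (.node (.leaf 4081762) (.leaf 6133337))) (.node (.node (.leaf 31475129) (.leaf 10997525)) (.node (.leaf 15435002) (.leaf 34950265)))) (.node (.node (.node (.leaf 8950924) (.leaf 5325916)) (.node (.leaf 24398570) (.leaf 21611942))) (.node (.node (.leaf 3475072) (.leaf 24862165)) (.node (.leaf 22399374) (.leaf 21514458)))))) (.node (.node (.node (.node (.node (.leaf 19515018) (.leaf 34921144)) (.node (.leaf 32890520) (.leaf 34494704))) (.node (.node (.leaf 10181561) (.leaf 19520884))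 (.node (.leaf 13914620) (.leaf 12574893)))) (.node (.node (.node (.leaf 24396056) (.leaf 17453548)) (.node (.leaf 17058248) (.leaf 19521429))) (.node (.node (.leaf 21616074) (.leaf 2055002)) (.node (.leaf 10181705) (.leaf 15433865))))) (.node (.node (.node (.node (.leaf 14883904) (.leaf 4084556)) (.node (.leaf 6512406) (.leaf 20585068))) (.node (.node (.leaf 22305433) (.leaf 8626136)) (.node (.leaf 14876984) (.leaf 34952250)))) (.node (.node (.node (.leaf 12524022) (.leaf 23628254)) (.node (.leaf 30823938) (.leaf 14975280))) (.node (.node (.leaf 4232697) (.leaf 22401026)) (.node (.leaf 33364342) (.leaf 21765180)))))))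

/-- A point of the block, part 114. -/
def ptCodePart114 : Janko1.Tree ℕ := (.node (.node (.node (.node (.node (.node (.leaf 823965) (.leaf 14976004)) (.node (.leaf 1065041) (.leaf 13567560))) (.node (.node (.leaf 10772713) (.leaf 1069284)) (.node (.leaf 3265356) (.leaf 11781965)))) (.node (.node (.node (.leaf 7429400) (.leaf 821138)) (.node (.leaf 29825093) (.leaf 25238349))) (.node (.node (.leaf 13178446) (.leaf 5065225)) (.node (.leaf 6510802) (.leaf 28809317))))) (.node (.node (.node (.node (.leaf 16997932) (.leaf 14551384)) (.node (.leaf 25117785) (.leaf 21759629))) (.node (.node (.leaf 23005720) (.leaf 10995493)) (.node (.leaf 10375097) (.leaf 826993)))) (.node (.node (.node (.leaf 11240945) (.leaf 10622762)) (.node (.leaf 16254964) (.leaf 3889504))) (.node (.node (.leaf 23237018) (.leaf 3773565)) (.node (.leaf 34361302) (.leaf 22402038)))))) (.node (.node (.node (.node (.node (.leaf 7850237) (.leaf 20878962)) (.node (.leaf 34954422) (.leaf 11618902))) (.node (.node (.leaf 15688113) (.leaf 19947326))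 (.node (.leaf 24854822) (.leaf 34953129)))) (.node (.node (.node (.leaf 28037357) (.leaf 23234441)) (.node (.leaf 10882750) (.leaf 13915717))) (.node (.node (.leaf 17450840) (.leaf 8950133)) (.node (.leaf 22159748) (.leaf 23716076))))) (.node (.node (.node (.node (.leaf 32884446) (.leaf 31481933)) (.node (.leaf 23779650) (.leaf 34493037))) (.node (.node (.leaf 511268) (.leaf 4079964)) (.node (.leaf 13074792) (.leaf 13257838)))) (.node (.node (.node (.leaf 34899956) (.leaf 7291400)) (.node (.leaf 13256053) (.leaf 1917756))) (.node (.node (.leaf 22074424) (.leaf 15075660)) (.node (.leaf 1921598) (.leaf 4806681)))))))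

/-- A point of the block, part 115. -/
def ptCodePart115 : Janko1.Tree ℕ := (.node (.node (.node (.node (.node (.node (.leaf 30180702) (.leaf 4854472)) (.node (.leaf 20832302) (.leaf 4149280))) (.node (.node (.leaf 15582550) (.leaf 22267104)) (.node (.leaf 7131788) (.leaf 7134358)))) (.node (.node (.node (.leaf 13292270) (.leaf 7131405)) (.node (.leaf 9897289) (.leaf 34652210))) (.node (.node (.leaf 5626997) (.leaf 30317040)) (.node (.leaf 7133314) (.leaf 15030821))))) (.node (.node (.node (.node (.leaf 31382778) (.leaf 12059510)) (.node (.leaf 25269302) (.leaf 33873341))) (.node (.node (.leaf 10293832) (.leaf 22692097)) (.node (.leaf 29709453) (.leaf 14274486)))) (.node (.node (.node (.leaf 12061072) (.leaf 15032150)) (.node (.leaf 5857046) (.leaf 5315893))) (.node (.node (.leaf 30315674) (.leaf 15588026)) (.node (.leaf 7132990) (.leaf 19977426)))))) (.node (.node (.node (.node (.node (.leaf 397414) (.leaf 30035138)) (.node (.leaf 31606908) (.leaf 28231992))) (.node (.node (.leaf 28629630) (.leaf 9896636))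 (.node (.leaf 722913) (.leaf 15081062)))) (.node (.node (.node (.leaf 19711238) (.leaf 23205932)) (.node (.leaf 18776220) (.leaf 7133084))) (.node (.node (.leaf 26268278) (.leaf 33381442)) (.node (.leaf 28626486) (.leaf 19404496))))) (.node (.node (.node (.node (.leaf 19710269) (.leaf 17260776)) (.node (.leaf 28204080) (.leaf 8293030))) (.node (.node (.leaf 22266313) (.leaf 28352321)) (.node (.leaf 29147973) (.leaf 30691390)))) (.node (.node (.node (.leaf 19400452) (.leaf 34750574)) (.node (.leaf 6409473) (.leaf 28282590))) (.node (.node (.leaf 11722740) (.leaf 17683928)) (.node (.leaf 4415342) (.leaf 2546024)))))))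

/-- A point of the block, part 116. -/
def ptCodePart116 : Janko1.Tree ℕ := (.node (.node (.node (.node (.node (.node (.leaf 17435941) (.leaf 20071072)) (.node (.leaf 32195665) (.leaf 234008))) (.node (.node (.leaf 14832293) (.leaf 34412636)) (.node (.leaf 29180890) (.leaf 20864805)))) (.node (.node (.node (.leaf 15588317) (.leaf 13452710)) (.node (.leaf 23665934) (.leaf 28625321))) (.node (.node (.leaf 28205252) (.leaf 21120594)) (.node (.leaf 33032229) (.leaf 33032190))))) (.node (.node (.node (.node (.leaf 17472826) (.leaf 17915986)) (.node (.leaf 28103762) (.leaf 10296594))) (.node (.node (.leaf 15261908) (.leaf 17437846)) (.node (.leaf 2805124) (.leaf 235806)))) (.node (.node (.node (.leaf 8312678) (.leaf 21742865)) (.node (.leaf 23577192) (.leaf 27183902))) (.node (.node (.leaf 3509872) (.leaf 9849650)) (.node (.leaf 22108088) (.leaf 13065024)))))) (.node (.node (.node (.node (.node (.leaf 13259158) (.leaf 13256470)) (.node (.leaf 31611686) (.leaf 33032312))) (.node (.node (.leaf 20877020) (.leaf 11650040))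 (.node (.leaf 728977) (.leaf 15587793)))) (.node (.node (.node (.leaf 31611254) (.leaf 27069440)) (.node (.leaf 18663278) (.leaf 1923128))) (.node (.node (.leaf 4414174) (.leaf 2802961)) (.node (.leaf 24136229) (.leaf 2052341))))) (.node (.node (.node (.node (.leaf 23760680) (.leaf 29152734)) (.node (.leaf 20862196) (.leaf 28106808))) (.node (.node (.leaf 21123469) (.leaf 2201542)) (.node (.leaf 28344358) (.leaf 15078754)))) (.node (.node (.node (.leaf 22267140) (.leaf 9035145)) (.node (.leaf 15588348) (.leaf 27072389))) (.node (.node (.leaf 27282129) (.leaf 19436856)) (.node (.leaf 22528242) (.leaf 23765108)))))))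

/-- A point of the block, part 117. -/
def ptCodePart117 : Janko1.Tree ℕ := (.node (.node (.node (.node (.node (.node (.leaf 15827922) (.leaf 20139225)) (.node (.leaf 19240993) (.leaf 11373433))) (.node (.node (.leaf 27067770) (.leaf 14552636)) (.node (.leaf 13262976) (.leaf 33772594)))) (.node (.node (.node (.leaf 30181901) (.leaf 20860994)) (.node (.leaf 23660304) (.leaf 11716149))) (.node (.node (.leaf 22528460) (.leaf 19991868)) (.node (.leaf 15586002) (.leaf 18778633))))) (.node (.node (.node (.node (.leaf 13554685) (.leaf 22530266)) (.node (.leaf 15031316) (.leaf 5312544))) (.node (.node (.leaf 13065050) (.leaf 11373974)) (.node (.leaf 10699564) (.leaf 13061202)))) (.node (.node (.node (.leaf 19711284) (.leaf 2574712)) (.node (.leaf 26940229) (.leaf 27200364))) (.node (.node (.leaf 23578138) (.leaf 8470592)) (.node (.leaf 8262442) (.leaf 12457150)))))) (.node (.node (.node (.node (.node (.leaf 7146081) (.leaf 11652046)) (.node (.leaf 10293218) (.leaf 20075625))) (.node (.node (.leaf 34967222) (.leaf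 22696870)) (.node (.leaf 12295408) (.leaf 20535534)))) (.node (.node (.node (.leaf 19433182) (.leaf 27250510)) (.node (.leaf 26941145) (.leaf 8477292))) (.node (.node (.leaf 30201858) (.leaf 23578220)) (.node (.leaf 15846832) (.leaf 34657316))))) (.node (.node (.node (.node (.leaf 3511894) (.leaf 31768890)) (.node (.leaf 7147800) (.leaf 14830158))) (.node (.node (.leaf 27070216) (.leaf 11719901)) (.node (.leaf 29557172) (.leaf 31838598)))) (.node (.node (.node (.leaf 28347746) (.leaf 21583008)) (.node (.leaf 19235056) (.leaf 28230049))) (.node (.node (.leaf 5838612) (.leaf 6458446)) (.node (.leaf 21649324) (.leaf 17473673)))))))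

/-- A point of the block, part 118. -/
def ptCodePart118 : Janko1.Tree ℕ := (.node (.node (.node (.node (.node (.node (.leaf 15522677) (.leaf 4153002)) (.node (.leaf 4805797) (.leaf 22534677))) (.node (.node (.leaf 29121346) (.leaf 27280753)) (.node (.leaf 17063240) (.leaf 29121586)))) (.node (.node (.node (.leaf 34406590) (.leaf 34180456)) (.node (.leaf 28282985) (.leaf 32457900))) (.node (.node (.leaf 22053696) (.leaf 5626469)) (.node (.leaf 10114668) (.leaf 15959638))))) (.node (.node (.node (.node (.leaf 30345574) (.leaf 8310600)) (.node (.leaf 24318782) (.leaf 7052073))) (.node (.node (.leaf 23496074) (.leaf 13884674)) (.node (.leaf 10936404) (.leaf 12294412)))) (.node (.node (.node (.leaf 5833605) (.leaf 2119909)) (.node (.leaf 5849494) (.leaf 1675200))) (.node (.node (.leaf 2195569) (.leaf 5309956)) (.node (.leaf 34900288) (.leaf 20535685)))))) (.node (.node (.node (.node (.node (.leaf 12290201) (.leaf 17913321)) (.node (.leaf 30414372) (.leaf 14895037))) (.node (.node (.leaf 738566) (.leaf 5624782))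 (.node (.leaf 8472828) (.leaf 24071734)))) (.node (.node (.node (.leaf 27197802) (.leaf 22252113)) (.node (.leaf 7151874) (.leaf 19777582))) (.node (.node (.leaf 27069389) (.leaf 14894568)) (.node (.leaf 10704700) (.leaf 13701866))))) (.node (.node (.node (.node (.leaf 20533305) (.leaf 230857)) (.node (.leaf 14901209) (.leaf 20077621))) (.node (.node (.leaf 18551306) (.leaf 22054240)) (.node (.leaf 18553790) (.leaf 22272836)))) (.node (.node (.node (.leaf 6460253) (.leaf 401754)) (.node (.leaf 10540892) (.leaf 15029309))) (.node (.node (.leaf 34752885) (.leaf 11719754)) (.node (.leaf 230438) (.leaf 35309570)))))))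

/-- A point of the block, part 119. -/
def ptCodePart119 : Janko1.Tree ℕ := (.node (.node (.node (.node (.node (.node (.leaf 17061338) (.leaf 1671728)) (.node (.leaf 6362376) (.leaf 34199864))) (.node (.node (.leaf 27188398) (.leaf 22255441)) (.node (.leaf 4409716) (.leaf 33375960)))) (.node (.node (.node (.leaf 4148349) (.leaf 20710178)) (.node (.leaf 740394) (.leaf 11617037))) (.node (.node (.leaf 24352025) (.leaf 20071186)) (.node (.leaf 13260065) (.leaf 5314413))))) (.node (.node (.node (.node (.leaf 19994097) (.leaf 20859404)) (.node (.leaf 21126745) (.leaf 20858837))) (.node (.node (.leaf 23875390) (.leaf 13256376)) (.node (.leaf 28351462) (.leaf 28235638)))) (.node (.node (.node (.leaf 29704626) (.leaf 18664605)) (.node (.leaf 24139449) (.leaf 8309224))) (.node (.node (.leaf 32196016) (.leaf 34185650)) (.node (.leaf 33771141) (.leaf 33770876)))))) (.node (.node (.node (.node (.node (.leaf 33768600) (.leaf 14274930)) (.node (.leaf 27708544) (.leaf 22103184))) (.node (.node (.leaf 30821996) (.leaf 2118366))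 (.node (.leaf 2773974) (.leaf 28629165)))) (.node (.node (.node (.leaf 13704696) (.leaf 19417017)) (.node (.leaf 6363168) (.leaf 20715853))) (.node (.node (.leaf 19237088) (.leaf 24134010)) (.node (.leaf 14550598) (.leaf 27183805))))) (.node (.node (.node (.node (.leaf 25268962) (.leaf 33607384)) (.node (.leaf 15851028) (.leaf 34660453))) (.node (.node (.leaf 34263389) (.leaf 2547290)) (.node (.leaf 20825222) (.leaf 7051633)))) (.node (.node (.node (.leaf 4803714) (.leaf 17680632)) (.node (.leaf 20922854) (.leaf 12295150))) (.node (.node (.leaf 8308665) (.leaf 9897748)) (.node (.leaf 7913717) (.leaf 19431880)))))))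

/-- A point of the block, part 120. -/
def ptCodePart120 : Janko1.Tree ℕ := (.node (.node (.node (.node (.node (.node (.leaf 8257957) (.leaf 20709618)) (.node (.leaf 31841574) (.leaf 15255280))) (.node (.node (.leaf 20530150) (.leaf 17437252)) (.node (.leaf 23763174) (.leaf 15081885)))) (.node (.node (.node (.leaf 34750945) (.leaf 30201692)) (.node (.leaf 27201933) (.leaf 22005813))) (.node (.node (.leaf 19191786) (.leaf 5412614)) (.node (.leaf 19710624) (.leaf 5414149))))) (.node (.node (.node (.node (.leaf 2054640) (.leaf 6457902)) (.node (.leaf 15960536) (.leaf 15830376))) (.node (.node (.leaf 17064124) (.leaf 12460360)) (.node (.leaf 15962744) (.leaf 8243434)))) (.node (.node (.node (.leaf 33035073) (.leaf 13700820)) (.node (.leaf 13058364) (.leaf 30417334))) (.node (.node (.leaf 21124101) (.leaf 395436)) (.node (.leaf 2580073) (.leaf 12061622)))))) (.node (.node (.node (.node (.node (.leaf 20078750) (.leaf 19928233)) (.node (.leaf 12292768) (.leaf 20716636))) (.node (.node (.leaf 33381858) (.leaf 12289334))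 (.node (.leaf 20824462) (.leaf 2802917)))) (.node (.node (.node (.leaf 13552840) (.leaf 19975665)) (.node (.leaf 22070764) (.leaf 33379006))) (.node (.node (.leaf 14833765) (.leaf 9897090)) (.node (.leaf 8294460) (.leaf 14274890))))) (.node (.node (.node (.node (.leaf 32199908) (.leaf 14831717)) (.node (.leaf 14276585) (.leaf 21127532))) (.node (.node (.leaf 13294060) (.leaf 29184461)) (.node (.leaf 35309078) (.leaf 727613)))) (.node (.node (.node (.leaf 34900473) (.leaf 7293286)) (.node (.leaf 31838366) (.leaf 8265125))) (.node (.node (.leaf 27431268) (.leaf 35311856)) (.node (.leaf 24317472) (.leaf 24217272)))))))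

/-- A point of the block, part 121. -/
def ptCodePart121 : Janko1.Tree ℕ := (.node (.node (.node (.node (.node (.node (.leaf 23499416) (.leaf 2052244)) (.node (.leaf 24069096) (.leaf 13260420))) (.node (.node (.leaf 17254549) (.leaf 26938069)) (.node (.leaf 3343025) (.leaf 10116305)))) (.node (.node (.node (.leaf 4415358) (.leaf 8291745)) (.node (.leaf 7151016) (.leaf 11657180))) (.node (.node (.leaf 20880153) (.leaf 34194144)) (.node (.leaf 20923442) (.leaf 34655677))))) (.node (.node (.node (.node (.leaf 25707736) (.leaf 10113805)) (.node (.leaf 28627442) (.leaf 2196956))) (.node (.node (.leaf 34970180) (.leaf 10931629)) (.node (.leaf 21742252) (.leaf 28101806)))) (.node (.node (.node (.leaf 20091364) (.leaf 33035065)) (.node (.leaf 23205076) (.leaf 27430086))) (.node (.node (.leaf 30687317) (.leaf 14827801)) (.node (.leaf 31835893) (.leaf 22006950)))))) (.node (.node (.node (.node (.node (.leaf 20137933) (.leaf 30040305)) (.node (.leaf 13292976) (.leaf 30692190))) (.node (.node (.leaf 27430285) (.leaf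 34408750)) (.node (.leaf 2546128) (.leaf 20088957)))) (.node (.node (.node (.leaf 24350978) (.leaf 14552496)) (.node (.leaf 23499021) (.leaf 19437897))) (.node (.node (.leaf 30693532) (.leaf 14557525)) (.node (.leaf 399580) (.leaf 31770568))))) (.node (.node (.node (.node (.leaf 4853292) (.leaf 5657201)) (.node (.leaf 30347606) (.leaf 20831094))) (.node (.node (.leaf 29712102) (.leaf 34407033)) (.node (.leaf 9145088) (.leaf 19995716)))) (.node (.node (.node (.leaf 34263198) (.leaf 8249077)) (.node (.leaf 15026853) (.leaf 32459088))) (.node (.node (.leaf 34180656) (.leaf 13453784)) (.node (.leaf 30410505) (.leaf 12538869)))))))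

/-- A point of the block, part 122. -/
def ptCodePart122 : Janko1.Tree ℕ := (.node (.node (.node (.node (.node (.node (.leaf 30345929) (.leaf 14279012)) (.node (.leaf 5855429) (.leaf 19422606))) (.node (.node (.leaf 743092) (.leaf 34406441)) (.node (.leaf 9852884) (.leaf 9850053)))) (.node (.node (.node (.leaf 22007337) (.leaf 7045449)) (.node (.leaf 24348145) (.leaf 29181713))) (.node (.node (.leaf 20077802) (.leaf 5660264)) (.node (.leaf 18663662) (.leaf 31381506))))) (.node (.node (.node (.node (.leaf 12883836) (.leaf 35315318)) (.node (.leaf 15965876) (.leaf 10258134))) (.node (.node (.leaf 27427425) (.leaf 18663304)) (.node (.leaf 13453994) (.leaf 29117709)))) (.node (.node (.node (.leaf 27184525) (.leaf 28280000)) (.node (.leaf 30410053) (.leaf 15848580))) (.node (.node (.leaf 19435642) (.leaf 8258114)) (.node (.leaf 19776558) (.leaf 12062924)))))) (.node (.node (.node (.node (.node (.leaf 985730) (.leaf 23502581)) (.node (.leaf 13878873) (.leaf 9901584))) (.node (.node (.leaf 15259842) (.leaf 2195494))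 (.node (.leaf 30822302) (.leaf 19402653)))) (.node (.node (.node (.leaf 30346009) (.leaf 6357597)) (.node (.leaf 5624648) (.leaf 22256833))) (.node (.node (.leaf 2199561) (.leaf 30692528)) (.node (.leaf 8264768) (.leaf 9032960))))) (.node (.node (.node (.node (.leaf 10259698) (.leaf 24134254)) (.node (.leaf 27707945) (.leaf 23874146))) (.node (.node (.leaf 27705405) (.leaf 30186934)) (.node (.leaf 14554301) (.leaf 22273318)))) (.node (.node (.node (.leaf 10115613) (.leaf 15844882)) (.node (.leaf 12534105) (.leaf 28631424))) (.node (.node (.leaf 12458681) (.leaf 22530645)) (.node (.leaf 20930877) (.leaf 7150752)))))))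

/-- A point of the block, part 123. -/
def ptCodePart123 : Janko1.Tree ℕ := (.node (.node (.node (.node (.node (.node (.leaf 11621018) (.leaf 34412089)) (.node (.leaf 27427213) (.leaf 11623690))) (.node (.node (.leaf 27186742) (.leaf 30690685)) (.node (.leaf 12458504) (.leaf 23581537)))) (.node (.node (.node (.leaf 27282221) (.leaf 11918125)) (.node (.leaf 21583586) (.leaf 30203677))) (.node (.node (.leaf 23495505) (.leaf 12295922)) (.node (.leaf 5835206) (.leaf 23761264))))) (.node (.node (.node (.node (.leaf 6409670) (.leaf 29119600)) (.node (.leaf 5415193) (.leaf 15964545))) (.node (.node (.leaf 34182366) (.leaf 30311574)) (.node (.leaf 11623364) (.leaf 26266080)))) (.node (.node (.node (.leaf 10116221) (.leaf 19433130)) (.node (.leaf 30823636) (.leaf 18667466))) (.node (.node (.leaf 2050938) (.leaf 966701)) (.node (.leaf 22532292) (.leaf 22074693)))))) (.node (.node (.node (.node (.node (.leaf 21651377) (.leaf 5654117)) (.node (.leaf 30345014) (.leaf 3350821))) (.node (.node (.leaf 33868086) (.leaf 28231640))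 (.node (.leaf 26267524) (.leaf 24221508)))) (.node (.node (.node (.leaf 988728) (.leaf 20155529)) (.node (.leaf 25712980) (.leaf 34414589))) (.node (.node (.leaf 18549306) (.leaf 12885357)) (.node (.leaf 18549693) (.leaf 30202632))))) (.node (.node (.node (.node (.leaf 30823460) (.leaf 30033154)) (.node (.leaf 4411428) (.leaf 15828552))) (.node (.node (.leaf 22696441) (.leaf 22696184)) (.node (.leaf 15832814) (.leaf 23878416)))) (.node (.node (.node (.leaf 22270325) (.leaf 15079493)) (.node (.leaf 12063642) (.leaf 6364769))) (.node (.node (.leaf 22071658) (.leaf 28231189)) (.node (.leaf 22110021) (.leaf 22251673)))))))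

/-- A point of the block, part 124. -/
def ptCodePart124 : Janko1.Tree ℕ := (.node (.node (.node (.node (.node (.node (.leaf 17686265) (.leaf 33610617)) (.node (.leaf 26270612) (.leaf 17680994))) (.node (.node (.leaf 11914968) (.leaf 20141534)) (.node (.leaf 17472664) (.leaf 29217876)))) (.node (.node (.node (.leaf 31377957) (.leaf 2201682)) (.node (.leaf 28282542) (.leaf 6455505))) (.node (.node (.leaf 24072486) (.leaf 23874092)) (.node (.leaf 32464593) (.leaf 13555877))))) (.node (.node (.node (.node (.leaf 27204776) (.leaf 1919789)) (.node (.leaf 19710793) (.leaf 28101452))) (.node (.node (.leaf 19193868) (.leaf 17434093)) (.node (.leaf 22257236) (.leaf 31770692)))) (.node (.node (.node (.leaf 19972506) (.leaf 21650625)) (.node (.leaf 8471649) (.leaf 1430904))) (.node (.node (.leaf 30409306) (.leaf 20143350)) (.node (.leaf 14557612) (.leaf 2775768)))))) (.node (.node (.node (.node (.node (.leaf 5309668) (.leaf 34193644)) (.node (.leaf 19418629) (.leaf 27433430))) (.node (.node (.leaf 20929224) (.leaf 8473332))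 (.node (.leaf 4856968) (.leaf 28201173)))) (.node (.node (.node (.leaf 29184005) (.leaf 22012005)) (.node (.leaf 3348844) (.leaf 18555053))) (.node (.node (.leaf 28281332) (.leaf 33607933)) (.node (.leaf 3344938) (.leaf 20529801))))) (.node (.node (.node (.node (.leaf 25268722) (.leaf 10703749)) (.node (.leaf 5413812) (.leaf 29564916))) (.node (.node (.leaf 11649850) (.leaf 14832041)) (.node (.leaf 27709756) (.leaf 27428433)))) (.node (.node (.node (.leaf 13290970) (.leaf 20930374)) (.node (.leaf 2202605) (.leaf 22268760))) (.node (.node (.leaf 29148726) (.leaf 8315061)) (.node (.leaf 35307594) (.leaf 7914992)))))))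

/-- A point of the block, part 125. -/
def ptCodePart125 : Janko1.Tree ℕ := (.node (.node (.node (.node (.node (.node (.leaf 14896761) (.leaf 20138950)) (.node (.leaf 15520754) (.leaf 12460005))) (.node (.node (.leaf 20136926) (.leaf 13060929)) (.node (.leaf 5408590) (.leaf 10292920)))) (.node (.node (.node (.leaf 11623385) (.leaf 7047790)) (.node (.leaf 8311036) (.leaf 28351920))) (.node (.node (.leaf 12878865) (.leaf 31381905)) (.node (.leaf 4805458) (.leaf 20828457))))) (.node (.node (.node (.node (.leaf 20878106) (.leaf 971050)) (.node (.leaf 33868838) (.leaf 2547960))) (.node (.node (.leaf 19991857) (.leaf 1923400)) (.node (.leaf 13879046) (.leaf 19423537)))) (.node (.node (.node (.leaf 29710574) (.leaf 23205390)) (.node (.leaf 27427776) (.leaf 29213401))) (.node (.node (.leaf 20874326) (.leaf 23496757)) (.node (.leaf 2770953) (.leaf 398273)))))) (.node (.node (.node (.node (.node (.leaf 10543058) (.leaf 23875325)) (.node (.leaf 20087926) (.leaf 4408773))) (.node (.node (.leaf 35315508) (.leaf 13555184))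 (.node (.leaf 10263346) (.leaf 10930909)))) (.node (.node (.node (.leaf 30413814) (.leaf 2050244)) (.node (.leaf 29214218) (.leaf 24217962))) (.node (.node (.leaf 1676657) (.leaf 29218390)) (.node (.leaf 9142640) (.leaf 13066414))))) (.node (.node (.node (.node (.leaf 8292181) (.leaf 13459002)) (.node (.leaf 15848858) (.leaf 26943300))) (.node (.node (.leaf 29115302) (.leaf 14557152)) (.node (.leaf 19416532) (.leaf 10296897)))) (.node (.node (.node (.leaf 21644461) (.leaf 17682246)) (.node (.leaf 30037220) (.leaf 18783374))) (.node (.node (.leaf 24318777) (.leaf 19994166)) (.node (.leaf 6459700) (.leaf 23576652)))))))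

/-- A point of the block, part 126. -/
def ptCodePart126 : Janko1.Tree ℕ := (.node (.node (.node (.node (.node (.node (.leaf 12878714) (.leaf 11917093)) (.node (.leaf 20071740) (.leaf 24354141))) (.node (.node (.leaf 8242628) (.leaf 1673674)) (.node (.leaf 6407002) (.leaf 30318225)))) (.node (.node (.node (.leaf 21581300) (.leaf 990769)) (.node (.leaf 13457676) (.leaf 9900704))) (.node (.node (.leaf 23764332) (.leaf 19189798)) (.node (.leaf 34261946) (.leaf 15845521))))) (.node (.node (.node (.node (.leaf 12296184) (.leaf 17914720)) (.node (.leaf 8246758) (.leaf 11374381))) (.node (.node (.leaf 9145526) (.leaf 13884062)) (.node (.leaf 973264) (.leaf 20928006)))) (.node (.node (.node (.leaf 20832366) (.leaf 2574597)) (.node (.leaf 1427156) (.leaf 29215598))) (.node (.node (.leaf 19930860) (.leaf 10541305)) (.node (.leaf 10294562) (.leaf 10541862)))))) (.node (.node (.node (.node (.node (.leaf 20137749) (.leaf 29153421)) (.node (.leaf 27067032) (.leaf 21643789))) (.node (.node (.leaf 20536562) (.leaf 4148936))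 (.node (.leaf 19434313) (.leaf 6461656)))) (.node (.node (.node (.leaf 17914433) (.leaf 1673757)) (.node (.leaf 34968449) (.leaf 28622988))) (.node (.node (.leaf 970418) (.leaf 13287849)) (.node (.leaf 7149968) (.leaf 5659926))))) (.node (.node (.node (.node (.leaf 6406970) (.leaf 22698772)) (.node (.leaf 33030368) (.leaf 1671858))) (.node (.node (.leaf 30038788) (.leaf 1922212)) (.node (.leaf 18776872) (.leaf 25714741)))) (.node (.node (.node (.leaf 13885598) (.leaf 28348754)) (.node (.leaf 33867656) (.leaf 27250648))) (.node (.node (.leaf 2115320) (.leaf 11722310)) (.node (.leaf 24140613) (.leaf 22258025)))))))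

/-- A point of the block, part 127. -/
def ptCodePart127 : Janko1.Tree ℕ := (.node (.node (.node (.node (.node (.node (.leaf 30196434) (.leaf 6410362)) (.node (.leaf 26270617) (.leaf 22057549))) (.node (.node (.leaf 3509393) (.leaf 32199669)) (.node (.leaf 8246257) (.leaf 24219381)))) (.node (.node (.node (.leaf 4408880) (.leaf 15963800)) (.node (.leaf 4851186) (.leaf 232110))) (.node (.node (.leaf 22057758) (.leaf 19776057)) (.node (.leaf 19976568) (.leaf 12459308))))) (.node (.node (.node (.node (.leaf 24320854) (.leaf 34181314)) (.node (.leaf 21125966) (.leaf 22057253))) (.node (.node (.leaf 13063500) (.leaf 20880066)) (.node (.leaf 31611009) (.leaf 12064889)))) (.node (.node (.node (.leaf 1917810) (.leaf 34966881)) (.node (.leaf 17684437) (.leaf 32199501))) (.node (.node (.leaf 27706449) (.leaf 7920960)) (.node (.leaf 17059472) (.leaf 20141326)))))) (.node (.node (.node (.node (.node (.leaf 33378450) (.leaf 9146949)) (.node (.leaf 9142913) (.leaf 22109884))) (.node (.node (.leaf 3508421) (.leaf 25711573))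 (.node (.leaf 8311076) (.leaf 1431984)))) (.node (.node (.node (.leaf 25264208) (.leaf 23203886)) (.node (.leaf 13703622) (.leaf 12536177))) (.node (.node (.leaf 5311134) (.leaf 34178500)) (.node (.leaf 19243014) (.leaf 2769709))))) (.node (.node (.node (.node (.leaf 23203388) (.leaf 32464321)) (.node (.leaf 28197070) (.leaf 21646409))) (.node (.node (.leaf 20160934) (.leaf 24349756)) (.node (.leaf 6362776) (.leaf 15848628)))) (.node (.node (.node (.leaf 20712617) (.leaf 24135253)) (.node (.leaf 30688333) (.leaf 8259040))) (.node (.node (.leaf 4806533) (.leaf 19189736)) (.node (.leaf 30037456) (.leaf 988336)))))))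

/-- A point of the block, part 128. -/
def ptCodePart128 : Janko1.Tree ℕ := (.node (.node (.node (.node (.node (.node (.leaf 22528718) (.leaf 26269572)) (.node (.leaf 8260996) (.leaf 8244386))) (.node (.node (.leaf 19242894) (.leaf 30313332)) (.node (.leaf 20077433) (.leaf 34967844)))) (.node (.node (.node (.leaf 1426458) (.leaf 27072600)) (.node (.leaf 22104973) (.leaf 18661405))) (.node (.node (.leaf 35310196) (.leaf 23499402)) (.node (.leaf 29712118) (.leaf 26940740))))) (.node (.node (.node (.node (.leaf 17681996) (.leaf 30201284)) (.node (.leaf 24074226) (.leaf 5657353))) (.node (.node (.leaf 15080238) (.leaf 31376038)) (.node (.leaf 23207005) (.leaf 31375530)))) (.node (.node (.node (.leaf 31835633) (.leaf 9902206)) (.node (.leaf 22108777) (.leaf 2769450))) (.node (.node (.leaf 15519526) (.leaf 8475420)) (.node (.leaf 12066049) (.leaf 22077113)))))) (.node (.node (.node (.node (.node (.leaf 28346228) (.leaf 19715365)) (.node (.leaf 17063170) (.leaf 13295124))) (.node (.node (.leaf 34754845) (.leaf 9851580))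 (.node (.leaf 27202444) (.leaf 17679366)))) (.node (.node (.node (.leaf 3349732) (.leaf 25713690)) (.node (.leaf 24218358) (.leaf 17909608))) (.node (.node (.leaf 23664912) (.leaf 15073294)) (.node (.leaf 24069273) (.leaf 34658725))))) (.node (.node (.node (.node (.leaf 5851880) (.leaf 11918061)) (.node (.leaf 13705225) (.leaf 394108))) (.node (.node (.leaf 28279917) (.leaf 11617124)) (.node (.leaf 5620356) (.leaf 17435933)))) (.node (.node (.node (.leaf 7914756) (.leaf 31772998)) (.node (.leaf 28200832) (.leaf 30345216))) (.node (.node (.leaf 21125406) (.leaf 1671714)) (.node (.leaf 30202132) (.leaf 9033169)))))))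

/-- A point of the block, part 129. -/
def ptCodePart129 : Janko1.Tree ℕ := (.node (.node (.node (.node (.node (.node (.leaf 27707836) (.leaf 33773085)) (.node (.leaf 26940960) (.leaf 19779344))) (.node (.node (.leaf 34259350) (.leaf 22054321)) (.node (.leaf 11916184) (.leaf 28631110)))) (.node (.node (.node (.leaf 24223689) (.leaf 15828929)) (.node (.leaf 31378708) (.leaf 22695005))) (.node (.node (.leaf 5655520) (.leaf 17259350)) (.node (.leaf 17470070) (.leaf 738441))))) (.node (.node (.node (.node (.leaf 10259786) (.leaf 30182677)) (.node (.leaf 5832848) (.leaf 34197904))) (.node (.node (.leaf 401429) (.leaf 26943346)) (.node (.leaf 4850864) (.leaf 20095228)))) (.node (.node (.node (.leaf 28104026) (.leaf 27186242)) (.node (.leaf 17260772) (.leaf 33036820))) (.node (.node (.leaf 7291352) (.leaf 6361334)) (.node (.leaf 34267361) (.leaf 10934294)))))) (.node (.node (.node (.node (.node (.leaf 19422181) (.leaf 33773418)) (.node (.leaf 34753276) (.leaf 31838825))) (.node (.node (.leaf 19924954) (.leaf 10931909))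 (.node (.leaf 29183644) (.leaf 31609401)))) (.node (.node (.node (.leaf 23659768) (.leaf 23873341)) (.node (.leaf 23503046) (.leaf 25272150))) (.node (.node (.leaf 2116777) (.leaf 10541594)) (.node (.leaf 34660420) (.leaf 5660826))))) (.node (.node (.node (.node (.leaf 24071636) (.leaf 9035514)) (.node (.leaf 17912454) (.leaf 4806329))) (.node (.node (.leaf 34758853) (.leaf 27711634)) (.node (.leaf 232864) (.leaf 19403341)))) (.node (.node (.node (.leaf 19237796) (.leaf 34179736)) (.node (.leaf 7918822) (.leaf 2122100))) (.node (.node (.leaf 24352393) (.leaf 29559885)) (.node (.leaf 14274862) (.leaf 7149836)))))))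

/-- A point of the block, part 130. -/
def ptCodePart130 : Janko1.Tree ℕ := (.node (.node (.node (.node (.node (.node (.leaf 29215961) (.leaf 19927574)) (.node (.leaf 20710182) (.leaf 23758406))) (.node (.node (.leaf 2052338) (.leaf 25709700)) (.node (.leaf 20879948) (.leaf 29711054)))) (.node (.node (.node (.leaf 11721173) (.leaf 27202025)) (.node (.leaf 22529037) (.leaf 4855677))) (.node (.node (.leaf 18548616) (.leaf 10264558)) (.node (.leaf 22073508) (.leaf 5313334))))) (.node (.node (.node (.node (.leaf 29215937) (.leaf 7046381)) (.node (.leaf 6411624) (.leaf 2543105))) (.node (.node (.leaf 22102777) (.leaf 728910)) (.node (.leaf 1431773) (.leaf 22267245)))) (.node (.node (.node (.leaf 32460512) (.leaf 31770108)) (.node (.leaf 17468622) (.leaf 19994418))) (.node (.node (.leaf 13555645) (.leaf 2808110)) (.node (.leaf 19993493) (.leaf 24139870)))))) (.node (.node (.node (.node (.node (.leaf 11718716) (.leaf 2118829)) (.node (.leaf 34971412) (.leaf 2773180))) (.node (.node (.leaf 9852686) (.leaf 24073410))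 (.node (.leaf 13698358) (.leaf 8243717)))) (.node (.node (.node (.leaf 30826600) (.leaf 13884810)) (.node (.leaf 34757025) (.leaf 987729))) (.node (.node (.leaf 967414) (.leaf 10110602)) (.node (.leaf 23581433) (.leaf 5837624))))) (.node (.node (.node (.node (.leaf 7130161) (.leaf 15964916)) (.node (.leaf 33870462) (.leaf 25268344))) (.node (.node (.leaf 32460706) (.leaf 11653453)) (.node (.leaf 9143313) (.leaf 22060749)))) (.node (.node (.node (.leaf 6407022) (.leaf 3506564)) (.node (.leaf 6410170) (.leaf 20092569))) (.node (.node (.leaf 15260150) (.leaf 19237937)) (.node (.leaf 20159852) (.leaf 29558061)))))))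

/-- A point of the block, part 131. -/
def ptCodePart131 : Janko1.Tree ℕ := (.node (.node (.node (.node (.node (.node (.leaf 9851208) (.leaf 11650836)) (.node (.leaf 34906520) (.leaf 13550965))) (.node (.node (.leaf 32201329) (.leaf 32457513)) (.node (.leaf 12454893) (.leaf 33611913)))) (.node (.node (.node (.leaf 15254628) (.leaf 15258345)) (.node (.leaf 34903232) (.leaf 3347690))) (.node (.node (.leaf 18662896) (.leaf 6357024)) (.node (.leaf 22255074) (.leaf 7920404))))) (.node (.node (.node (.node (.leaf 8313853) (.leaf 9027600)) (.node (.leaf 7917840) (.leaf 29705329))) (.node (.node (.leaf 19438774) (.leaf 11622318)) (.node (.leaf 1429164) (.leaf 29151734)))) (.node (.node (.node (.leaf 4145773) (.leaf 32198737)) (.node (.leaf 10707181) (.leaf 10700733))) (.node (.node (.leaf 233444) (.leaf 22005450)) (.node (.leaf 20715482) (.leaf 19187206)))))) (.node (.node (.node (.node (.node (.leaf 5653313) (.leaf 5411636)) (.node (.leaf 30179821) (.leaf 990646))) (.node (.node (.leaf 13704989) (.leaf 1672232))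 (.node (.leaf 10536010) (.leaf 19187389)))) (.node (.node (.node (.leaf 29565217) (.leaf 2050614)) (.node (.leaf 23872732) (.leaf 972094))) (.node (.node (.leaf 35307996) (.leaf 15583840)) (.node (.leaf 15583385) (.leaf 31839965))))) (.node (.node (.node (.node (.leaf 14275086) (.leaf 7129757)) (.node (.leaf 27286072) (.leaf 5316173))) (.node (.node (.leaf 15026316) (.leaf 27250189)) (.node (.leaf 29119882) (.leaf 20857612)))) (.node (.node (.node (.leaf 7051924) (.leaf 21650956)) (.node (.leaf 9143289) (.leaf 19923466))) (.node (.node (.leaf 7293354) (.leaf 8294997)) (.node (.leaf 19403069) (.leaf 11653018)))))))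

/-- A point of the block, part 132. -/
def ptCodePart132 : Janko1.Tree ℕ := (.node (.node (.node (.node (.node (.node (.leaf 8294834) (.leaf 22698573)) (.node (.leaf 31776861) (.leaf 28203644))) (.node (.node (.leaf 27254401) (.leaf 743457)) (.node (.leaf 28101794) (.leaf 989052)))) (.node (.node (.node (.leaf 19780901) (.leaf 2119150)) (.node (.leaf 24316948) (.leaf 18784562))) (.node (.node (.leaf 2573940) (.leaf 22249644)) (.node (.leaf 5850173) (.leaf 11916113))))) (.node (.node (.node (.node (.leaf 24322026) (.leaf 728430)) (.node (.leaf 2805169) (.leaf 21644842))) (.node (.node (.leaf 27286325) (.leaf 19711786)) (.node (.leaf 31776245) (.leaf 25266664)))) (.node (.node (.node (.leaf 22074809) (.leaf 5852272)) (.node (.leaf 27250344) (.leaf 34259722))) (.node (.node (.leaf 18550546) (.leaf 15828041)) (.node (.leaf 28202822) (.leaf 21745509)))))) (.node (.node (.node (.node (.node (.leaf 32202462) (.leaf 19972909)) (.node (.leaf 19420418) (.leaf 27279566))) (.node (.node (.leaf 8292557) (.leaf 23664880))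 (.node (.leaf 24223742) (.leaf 34197844)))) (.node (.node (.node (.leaf 20153585) (.leaf 11377548)) (.node (.leaf 7295344) (.leaf 33377749))) (.node (.node (.leaf 17063110) (.leaf 17911013)) (.node (.leaf 31609438) (.leaf 10704222))))) (.node (.node (.node (.node (.leaf 15027522) (.leaf 11919149)) (.node (.leaf 17252958) (.leaf 34264104))) (.node (.node (.leaf 24070784) (.leaf 27067481)) (.node (.leaf 7920837) (.leaf 23206162)))) (.node (.node (.node (.leaf 30349214) (.leaf 2197877)) (.node (.leaf 19978144) (.leaf 25708452))) (.node (.node (.leaf 13065860) (.leaf 8245902)) (.node (.leaf 20828285) (.leaf 28200668)))))))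

/-- A point of the block, part 133. -/
def ptCodePart133 : Janko1.Tree ℕ := (.node (.node (.node (.node (.node (.node (.leaf 34656952) (.leaf 27204658)) (.node (.leaf 2773230) (.leaf 11370885))) (.node (.node (.leaf 29560753) (.leaf 14552274)) (.node (.leaf 29115341) (.leaf 20535581)))) (.node (.node (.node (.leaf 31605338) (.leaf 10117489)) (.node (.leaf 15964881) (.leaf 15260190))) (.node (.node (.leaf 22700417) (.leaf 3506493)) (.node (.leaf 29149845) (.leaf 28104820))))) (.node (.node (.node (.node (.leaf 19978548) (.leaf 3506706)) (.node (.leaf 21742634) (.leaf 233070))) (.node (.node (.leaf 743445) (.leaf 10932934)) (.node (.leaf 9852638) (.leaf 27246738)))) (.node (.node (.node (.leaf 13703209) (.leaf 10258086)) (.node (.leaf 34200348) (.leaf 27198966))) (.node (.node (.leaf 30181486) (.leaf 24354294)) (.node (.leaf 2572844) (.leaf 19973177)))))) (.node (.node (.node (.node (.node (.leaf 28236361) (.leaf 26270804)) (.node (.leaf 5834956) (.leaf 19404162))) (.node (.node (.leaf 28283580) (.leaf 11650492))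 (.node (.leaf 3344533) (.leaf 23204865)))) (.node (.node (.node (.leaf 33772400) (.leaf 29187969)) (.node (.leaf 29218996) (.leaf 12879066))) (.node (.node (.leaf 29562784) (.leaf 34902390)) (.node (.leaf 30345158) (.leaf 10701418))))) (.node (.node (.node (.node (.leaf 23763266) (.leaf 34263728)) (.node (.leaf 34903644) (.leaf 21577922))) (.node (.node (.leaf 5836334) (.leaf 30688848)) (.node (.leaf 8265848) (.leaf 17260812)))) (.node (.node (.node (.leaf 2805844) (.leaf 15827149)) (.node (.leaf 15523218) (.leaf 20153068))) (.node (.node (.leaf 2053084) (.leaf 15830586)) (.node (.leaf 34407401) (.leaf 25402365)))))))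

/-- A point of the block, part 134. -/
def ptCodePart134 : Janko1.Tree ℕ := (.node (.node (.node (.node (.node (.node (.leaf 17012145) (.leaf 14407000)) (.node (.leaf 18994598) (.leaf 12508294))) (.node (.node (.leaf 29330312) (.leaf 23777057)) (.node (.leaf 27614888) (.leaf 28500188)))) (.node (.node (.node (.leaf 12502085) (.leaf 34199681)) (.node (.leaf 19481580) (.leaf 12501245))) (.node (.node (.leaf 13652985) (.leaf 4658252)) (.node (.leaf 11912588) (.leaf 3759926))))) (.node (.node (.node (.node (.leaf 7114054) (.leaf 17451697)) (.node (.leaf 17453424) (.leaf 27120537))) (.node (.node (.leaf 22972721) (.leaf 28709458)) (.node (.leaf 18793177) (.leaf 30052562)))) (.node (.node (.node (.leaf 13655654) (.leaf 23088461)) (.node (.leaf 9507120) (.leaf 30051978))) (.node (.node (.leaf 33325110) (.leaf 20190269)) (.node (.leaf 18727564) (.leaf 20614129)))))) (.node (.node (.node (.node (.node (.leaf 12502757) (.leaf 12389253)) (.node (.leaf 21091844) (.leaf 6572122))) (.node (.node (.leaf 9503492) (.leaf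 19078325)) (.node (.leaf 5906138) (.leaf 33394677)))) (.node (.node (.node (.leaf 17012846) (.leaf 8674754)) (.node (.leaf 22945828) (.leaf 33758630))) (.node (.node (.leaf 32968073) (.leaf 33114857)) (.node (.leaf 33282256) (.leaf 2998368))))) (.node (.node (.node (.node (.leaf 2973538) (.leaf 12361844)) (.node (.leaf 8896865) (.leaf 34902028))) (.node (.node (.leaf 27609038) (.leaf 26250502)) (.node (.leaf 9884529) (.leaf 27105112)))) (.node (.node (.node (.leaf 2757162) (.leaf 25152953)) (.node (.leaf 33130498) (.leaf 5381110))) (.node (.node (.leaf 27920292) (.leaf 20614216)) (.node (.leaf 27920089) (.leaf 24184873)))))))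

/-- A point of the block, part 135. -/
def ptCodePart135 : Janko1.Tree ℕ := (.node (.node (.node (.node (.node (.node (.leaf 27924338) (.leaf 29868501)) (.node (.leaf 7116997) (.leaf 28104818))) (.node (.node (.leaf 12060072) (.leaf 19044646)) (.node (.leaf 12062722) (.leaf 8897593)))) (.node (.node (.node (.leaf 760297) (.leaf 5901205)) (.node (.leaf 2213436) (.leaf 24191373))) (.node (.node (.leaf 23775254) (.leaf 29868612)) (.node (.leaf 33397420) (.leaf 12503230))))) (.node (.node (.node (.node (.leaf 1889842) (.leaf 5381253)) (.node (.leaf 27418728) (.leaf 4017648))) (.node (.node (.leaf 18597014) (.leaf 3639572)) (.node (.leaf 34767012) (.leaf 14878929)))) (.node (.node (.node (.leaf 16294060) (.leaf 16291304)) (.node (.leaf 3000190) (.leaf 25398180))) (.node (.node (.leaf 8672330) (.leaf 4660718)) (.node (.leaf 29870560) (.leaf 12064742)))))) (.node (.node (.node (.node (.node (.leaf 15664868) (.leaf 30606154)) (.node (.leaf 24415062) (.leaf 8899092))) (.node (.node (.leaf 32492033) (.leaf 23025244))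 (.node (.leaf 7314230) (.leaf 21466068)))) (.node (.node (.node (.leaf 16728596) (.leaf 3938781)) (.node (.leaf 20679485) (.leaf 22972008))) (.node (.node (.leaf 3489993) (.leaf 32807316)) (.node (.leaf 6523524) (.leaf 30923236))))) (.node (.node (.node (.node (.leaf 7294142) (.leaf 2215176)) (.node (.leaf 34193557) (.leaf 12504862))) (.node (.node (.leaf 2971854) (.leaf 15180005)) (.node (.leaf 6068861) (.leaf 12390968)))) (.node (.node (.node (.leaf 27923966) (.leaf 23189986)) (.node (.leaf 3234749) (.leaf 33759413))) (.node (.node (.leaf 16293022) (.leaf 18172822)) (.node (.leaf 8899182) (.leaf 5708588)))))))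

/-- A point of the block, part 136. -/
def ptCodePart136 : Janko1.Tree ℕ := (.node (.node (.node (.node (.node (.node (.leaf 21255164) (.leaf 7295730)) (.node (.leaf 30835678) (.leaf 2299637))) (.node (.node (.leaf 2967558) (.leaf 12505382)) (.node (.leaf 31212382) (.leaf 676902)))) (.node (.node (.node (.leaf 13750232) (.leaf 14390458)) (.node (.leaf 13501576) (.leaf 4660416))) (.node (.node (.leaf 11722944) (.leaf 33277076)) (.node (.leaf 17008650) (.leaf 12617744))))) (.node (.node (.node (.node (.leaf 26251580) (.leaf 25874484)) (.node (.leaf 1855076) (.leaf 27615536))) (.node (.node (.leaf 21471369) (.leaf 28789421)) (.node (.leaf 12061214) (.leaf 17009757)))) (.node (.node (.node (.leaf 17009701) (.leaf 4037334)) (.node (.leaf 32802762) (.leaf 3490422))) (.node (.node (.leaf 31211565) (.leaf 12620601)) (.node (.leaf 32822064) (.leaf 3250918)))))) (.node (.node (.node (.node (.node (.leaf 26760008) (.leaf 1854058)) (.node (.leaf 18520401) (.leaf 6855678))) (.node (.node (.leaf 8931737) (.leaf 7111221))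 (.node (.leaf 3228454) (.leaf 21989316)))) (.node (.node (.node (.leaf 3934694) (.leaf 3753665)) (.node (.leaf 20060258) (.leaf 15238616))) (.node (.node (.leaf 14878645) (.leaf 11915305)) (.node (.leaf 29873750) (.leaf 17597529))))) (.node (.node (.node (.node (.leaf 6410590) (.leaf 33754892)) (.node (.leaf 29417050) (.leaf 5899512))) (.node (.node (.leaf 5873377) (.leaf 18124746)) (.node (.leaf 13736990) (.leaf 28103498)))) (.node (.node (.node (.leaf 34194312) (.leaf 20056589)) (.node (.leaf 21254102) (.leaf 27611688))) (.node (.node (.leaf 18125250) (.leaf 15878586)) (.node (.leaf 8932338) (.leaf 18307600)))))))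

/-- A point of the block, part 137. -/
def ptCodePart137 : Janko1.Tree ℕ := (.node (.node (.node (.node (.node (.node (.leaf 10228946) (.leaf 18172042)) (.node (.leaf 27626520) (.leaf 34883006))) (.node (.node (.leaf 27628365) (.leaf 5119349)) (.node (.leaf 15832906) (.leaf 30052884)))) (.node (.node (.node (.leaf 11716114) (.leaf 25154502)) (.node (.leaf 21464645) (.leaf 34903357))) (.node (.node (.leaf 25153705) (.leaf 26379721)) (.node (.leaf 13404414) (.leaf 10227741))))) (.node (.node (.node (.node (.leaf 33725541) (.leaf 5032868)) (.node (.leaf 25090045) (.leaf 14064022))) (.node (.node (.leaf 23940036) (.leaf 30053016)) (.node (.leaf 11820370) (.leaf 6527464)))) (.node (.node (.node (.leaf 20185982) (.leaf 5394786)) (.node (.leaf 22941602) (.leaf 7296754))) (.node (.node (.leaf 19040336) (.leaf 1989758)) (.node (.leaf 13044089) (.leaf 27823885)))))) (.node (.node (.node (.node (.node (.leaf 3490758) (.leaf 11913516)) (.node (.leaf 34570722) (.leaf 28791362))) (.node (.node (.leaf 16731564) (.leaf 17600062))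 (.node (.leaf 11714690) (.leaf 29035480)))) (.node (.node (.node (.leaf 30613940) (.leaf 4000058)) (.node (.leaf 5381646) (.leaf 7298366))) (.node (.node (.leaf 31216365) (.leaf 18520173)) (.node (.leaf 14409520) (.leaf 3640112))))) (.node (.node (.node (.node (.leaf 3232460) (.leaf 6571380)) (.node (.leaf 33330002) (.leaf 27124064))) (.node (.node (.leaf 6066154) (.leaf 30842772)) (.node (.leaf 16698410) (.leaf 32489598)))) (.node (.node (.node (.leaf 8930634) (.leaf 30916649)) (.node (.leaf 15585228) (.leaf 20192114))) (.node (.node (.leaf 1411965) (.leaf 15242984)) (.node (.leaf 10765049) (.leaf 32526845)))))))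

/-- A point of the block, part 138. -/
def ptCodePart138 : Janko1.Tree ℕ := (.node (.node (.node (.node (.node (.node (.leaf 30050072) (.leaf 10537397)) (.node (.leaf 2874984) (.leaf 30917141))) (.node (.node (.leaf 23610996) (.leaf 15582270)) (.node (.leaf 31661958) (.leaf 23085581)))) (.node (.node (.node (.leaf 8653110) (.leaf 12192308)) (.node (.leaf 11918218) (.leaf 6413649))) (.node (.node (.leaf 33754152) (.leaf 3529330)) (.node (.leaf 12357917) (.leaf 19039988))))) (.node (.node (.node (.node (.leaf 28495936) (.leaf 10541305)) (.node (.leaf 4440282) (.leaf 28378800))) (.node (.node (.leaf 2755012) (.leaf 15665281)) (.node (.leaf 22974360) (.leaf 3644137)))) (.node (.node (.node (.leaf 32806129) (.leaf 1855848)) (.node (.leaf 23614262) (.leaf 3244525))) (.node (.node (.leaf 12616674) (.leaf 19793389)) (.node (.leaf 18792990) (.leaf 31215898)))))) (.node (.node (.node (.node (.node (.leaf 33277221) (.leaf 13738176)) (.node (.leaf 3936656) (.leaf 27827332))) (.node (.node (.leaf 19042289) (.leaf 754900))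 (.node (.leaf 23188124) (.leaf 29334689)))) (.node (.node (.node (.leaf 11722302) (.leaf 4659748)) (.node (.leaf 30838565) (.leaf 21086281))) (.node (.node (.leaf 6573309) (.leaf 5375200)) (.node (.leaf 30921458) (.leaf 21940802))))) (.node (.node (.node (.node (.leaf 19254401) (.leaf 26384208)) (.node (.leaf 3491725) (.leaf 10230493))) (.node (.node (.leaf 19482372) (.leaf 20108361)) (.node (.leaf 25877026) (.leaf 33115553)))) (.node (.node (.node (.leaf 34881786) (.leaf 21630288)) (.node (.leaf 3376894) (.leaf 19257781))) (.node (.node (.leaf 23775028) (.leaf 4035996)) (.node (.leaf 25402840) (.leaf 28708809)))))))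

/-- A point of the block, part 139. -/
def ptCodePart139 : Janko1.Tree ℕ := (.node (.node (.node (.node (.node (.node (.leaf 1985760) (.leaf 21465204)) (.node (.leaf 1988876) (.leaf 24757648))) (.node (.node (.leaf 22942842) (.leaf 25221541)) (.node (.leaf 2966412) (.leaf 7292165)))) (.node (.node (.node (.leaf 12618646) (.leaf 23991369)) (.node (.leaf 33753428) (.leaf 2755564))) (.node (.node (.leaf 18173733) (.leaf 28712504)) (.node (.leaf 5898980) (.leaf 14406624))))) (.node (.node (.node (.node (.leaf 15589150) (.leaf 28230862)) (.node (.leaf 25745504) (.leaf 23781612))) (.node (.node (.leaf 5904098) (.leaf 30609376)) (.node (.leaf 11718434) (.leaf 2874838)))) (.node (.node (.node (.leaf 33114533) (.leaf 32971648)) (.node (.leaf 13651980) (.leaf 11912596))) (.node (.node (.leaf 5873784) (.leaf 19481393)) (.node (.leaf 29135536) (.leaf 21994236)))))) (.node (.node (.node (.node (.node (.leaf 20056605) (.leaf 7315780)) (.node (.leaf 13409254) (.leaf 10605469))) (.node (.node (.leaf 7116740) (.leaf 18729121))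 (.node (.leaf 1990697) (.leaf 12615730)))) (.node (.node (.node (.leaf 4002881) (.leaf 24413640)) (.node (.leaf 4002969) (.leaf 19045844))) (.node (.node (.leaf 2215648) (.leaf 34902346)) (.node (.leaf 14881740) (.leaf 16734460))))) (.node (.node (.node (.node (.leaf 1886717) (.leaf 20619493)) (.node (.leaf 25871785) (.leaf 17455192))) (.node (.node (.leaf 3492833) (.leaf 679152)) (.node (.leaf 21257988) (.leaf 32498005)))) (.node (.node (.node (.leaf 21089624) (.leaf 14403076)) (.node (.leaf 17011705) (.leaf 26251486))) (.node (.node (.leaf 12059492) (.leaf 32804941)) (.node (.leaf 3754129) (.leaf 2213694)))))))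

/-- A point of the block, part 140. -/
def ptCodePart140 : Janko1.Tree ℕ := (.node (.node (.node (.node (.node (.node (.leaf 32527193) (.leaf 23614765)) (.node (.leaf 6851714) (.leaf 34179638))) (.node (.node (.leaf 29868590) (.leaf 23187110)) (.node (.leaf 8667394) (.leaf 25874825)))) (.node (.node (.node (.leaf 26591364) (.leaf 1990606)) (.node (.leaf 32805065) (.leaf 34198818))) (.node (.node (.leaf 33722389) (.leaf 13502032)) (.node (.leaf 24413758) (.leaf 34573210))))) (.node (.node (.node (.node (.leaf 34572668) (.leaf 33755585)) (.node (.leaf 18796845) (.leaf 4015513))) (.node (.node (.leaf 14408670) (.leaf 16518221)) (.node (.leaf 13849685) (.leaf 5376298)))) (.node (.node (.node (.leaf 24254788) (.leaf 2120061)) (.node (.leaf 4019197) (.leaf 13732024))) (.node (.node (.leaf 17597178) (.leaf 19251462)) (.node (.leaf 23989918) (.leaf 13749212)))))) (.node (.node (.node (.node (.node (.leaf 21091785) (.leaf 3938238)) (.node (.leaf 7113508) (.leaf 20683518))) (.node (.node (.leaf 1413120) (.leaf 8934445))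 (.node (.leaf 34773037) (.leaf 14876690)))) (.node (.node (.node (.leaf 23183692) (.leaf 12194400)) (.node (.leaf 6571426) (.leaf 3001200))) (.node (.node (.leaf 31212944) (.leaf 18994485)) (.node (.leaf 18995448) (.leaf 20111456))))) (.node (.node (.node (.node (.leaf 33112512) (.leaf 13845600)) (.node (.leaf 15876256) (.leaf 20680269))) (.node (.node (.leaf 7249444) (.leaf 18123133)) (.node (.leaf 16522968) (.leaf 24417385)))) (.node (.node (.node (.leaf 22938104) (.leaf 28712536)) (.node (.leaf 25397049) (.leaf 3642532))) (.node (.node (.leaf 12391108) (.leaf 23991393)) (.node (.leaf 13747341) (.leaf 3382024)))))))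

/-- A point of the block, part 141. -/
def ptCodePart141 : Janko1.Tree ℕ := (.node (.node (.node (.node (.node (.node (.leaf 16291082) (.leaf 32497436)) (.node (.leaf 10608960) (.leaf 23616752))) (.node (.node (.leaf 25218896) (.leaf 10603177)) (.node (.leaf 23188136) (.leaf 3378266)))) (.node (.node (.node (.leaf 23612997) (.leaf 32491100)) (.node (.leaf 18123300) (.leaf 21469345))) (.node (.node (.leaf 13845517) (.leaf 5116714)) (.node (.leaf 5706308) (.leaf 25871034))))) (.node (.node (.node (.node (.leaf 5706570) (.leaf 22470976)) (.node (.leaf 9885977) (.leaf 15589498))) (.node (.node (.leaf 30843156) (.leaf 5901284)) (.node (.leaf 2757332) (.leaf 18303018)))) (.node (.node (.node (.leaf 3377538) (.leaf 32801328)) (.node (.leaf 3496596) (.leaf 31656493))) (.node (.node (.leaf 32527562) (.leaf 10536216)) (.node (.leaf 2871130) (.leaf 2299096)))))) (.node (.node (.node (.node (.node (.leaf 25084513) (.leaf 13656494)) (.node (.leaf 4035054) (.leaf 16859145))) (.node (.node (.leaf 33754056) (.leaf 26595096))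 (.node (.leaf 24412240) (.leaf 19795237)))) (.node (.node (.node (.leaf 26756916) (.leaf 7296101)) (.node (.leaf 2968096) (.leaf 33134098))) (.node (.node (.leaf 28493026) (.leaf 2302137)) (.node (.leaf 16701756) (.leaf 20106526))))) (.node (.node (.node (.node (.leaf 6527154) (.leaf 15664598)) (.node (.leaf 5038008) (.leaf 27630048))) (.node (.node (.leaf 23188598) (.leaf 18603306)) (.node (.leaf 7111181) (.leaf 18799881)))) (.node (.node (.node (.leaf 8935428) (.leaf 21634105)) (.node (.leaf 16862285) (.leaf 17597709))) (.node (.node (.leaf 33395633) (.leaf 22039060)) (.node (.leaf 30837940) (.leaf 30839186)))))))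

/-- A point of the block, part 142. -/
def ptCodePart142 : Janko1.Tree ℕ := (.node (.node (.node (.node (.node (.node (.leaf 20186066) (.leaf 34900289)) (.node (.leaf 34769180) (.leaf 14059834))) (.node (.node (.leaf 29134221) (.leaf 2301394)) (.node (.leaf 17602796) (.leaf 19792973)))) (.node (.node (.node (.leaf 23613248) (.leaf 25745712)) (.node (.leaf 13655632) (.leaf 10230584))) (.node (.node (.leaf 13751661) (.leaf 26595077)) (.node (.leaf 19073560) (.leaf 672170))))) (.node (.node (.node (.node (.leaf 2966644) (.leaf 34904460)) (.node (.leaf 6067308) (.leaf 18601060))) (.node (.node (.leaf 1892549) (.leaf 18305017)) (.node (.leaf 23941666) (.leaf 33131605)))) (.node (.node (.node (.leaf 14405218) (.leaf 15179970)) (.node (.leaf 5873545) (.leaf 21938918))) (.node (.node (.leaf 29134581) (.leaf 20045532)) (.node (.leaf 29032833) (.leaf 8930189)))))) (.node (.node (.node (.node (.node (.leaf 34196604) (.leaf 19254340)) (.node (.leaf 27118464) (.leaf 30607181))) (.node (.node (.leaf 4001224) (.leaf 15172693))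 (.node (.leaf 13652762) (.leaf 6411424)))) (.node (.node (.node (.leaf 22973741) (.leaf 23942990)) (.node (.leaf 14408441) (.leaf 11820962))) (.node (.node (.leaf 17449302) (.leaf 24253020)) (.node (.leaf 12065682) (.leaf 14063042))))) (.node (.node (.node (.node (.leaf 12354521) (.leaf 33395912)) (.node (.leaf 25400749) (.leaf 33723126))) (.node (.node (.leaf 28494633) (.leaf 21255585)) (.node (.leaf 25744038) (.leaf 13402857)))) (.node (.node (.node (.leaf 14059010) (.leaf 28792457)) (.node (.leaf 34182494) (.leaf 13045753))) (.node (.node (.leaf 15179556) (.leaf 10600601)) (.node (.leaf 3524346) (.leaf 16522257)))))))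

/-- A point of the block, part 143. -/
def ptCodePart143 : Janko1.Tree ℕ := (.node (.node (.node (.node (.node (.node (.leaf 6070101) (.leaf 27919037)) (.node (.leaf 27631634) (.leaf 21503670))) (.node (.node (.leaf 16731620) (.leaf 10765362)) (.node (.leaf 10769817) (.leaf 18794981)))) (.node (.node (.node (.leaf 28230308) (.leaf 25742570)) (.node (.leaf 27823748) (.leaf 29138946))) (.node (.node (.leaf 760853) (.leaf 33281212)) (.node (.leaf 33114577) (.leaf 15667457))))) (.node (.node (.node (.node (.leaf 32965693) (.leaf 28497953)) (.node (.leaf 8903057) (.leaf 21990592))) (.node (.node (.leaf 32971921) (.leaf 5396848)) (.node (.leaf 5705130) (.leaf 24759476)))) (.node (.node (.node (.leaf 24190568) (.leaf 5394930)) (.node (.leaf 4441194) (.leaf 5898902))) (.node (.node (.leaf 18303652) (.leaf 20682297)) (.node (.leaf 25872424) (.leaf 25149456)))))) (.node (.node (.node (.node (.node (.leaf 15827705) (.leaf 1889784)) (.node (.leaf 13045740) (.leaf 27607336))) (.node (.node (.leaf 15670400) (.leaf 29409320))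 (.node (.leaf 3754161) (.leaf 15827881)))) (.node (.node (.node (.leaf 18302009) (.leaf 23778789)) (.node (.leaf 7291456) (.leaf 14404493))) (.node (.node (.leaf 28707736) (.leaf 27412649)) (.node (.leaf 27827356) (.leaf 24758158))))) (.node (.node (.node (.node (.leaf 18301385) (.leaf 23943041)) (.node (.leaf 15242673) (.leaf 17601188))) (.node (.node (.leaf 13747004) (.leaf 34883644)) (.node (.leaf 34772458) (.leaf 2296697)))) (.node (.node (.node (.leaf 33719410) (.leaf 32528194)) (.node (.leaf 9885950) (.leaf 26380852))) (.node (.node (.leaf 25156901) (.leaf 31662208)) (.node (.leaf 18603994) (.leaf 14385461)))))))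

/-- A point of the block, part 144. -/
def ptCodePart144 : Janko1.Tree ℕ := (.node (.node (.node (.node (.node (.node (.leaf 24761916) (.leaf 17457309)) (.node (.leaf 15831126) (.leaf 26596030))) (.node (.node (.leaf 28793221) (.leaf 29868336)) (.node (.leaf 13508952) (.leaf 3935262)))) (.node (.node (.node (.leaf 23088441) (.leaf 34573066)) (.node (.leaf 28378194) (.leaf 5701738))) (.node (.node (.leaf 10768465) (.leaf 12391637)) (.node (.leaf 18797608) (.leaf 22464786))))) (.node (.node (.node (.node (.leaf 29035101) (.leaf 27104205)) (.node (.leaf 5038236) (.leaf 34183176))) (.node (.node (.leaf 12063633) (.leaf 4036104)) (.node (.leaf 23021461) (.leaf 25397865)))) (.node (.node (.node (.leaf 29332517) (.leaf 6068105)) (.node (.leaf 8673996) (.leaf 5034378))) (.node (.node (.leaf 32803232) (.leaf 10224649)) (.node (.leaf 16734804) (.leaf 12359224)))))) (.node (.node (.node (.node (.node (.leaf 13197585) (.leaf 11817484)) (.node (.leaf 8838234) (.leaf 23087361))) (.node (.node (.leaf 34885117) (.leaf 10230260))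 (.node (.leaf 9504589) (.leaf 15583780)))) (.node (.node (.node (.leaf 20682386) (.leaf 3004520)) (.node (.leaf 6412564) (.leaf 26594765))) (.node (.node (.leaf 3231689) (.leaf 15880876)) (.node (.leaf 27610832) (.leaf 5033782))))) (.node (.node (.node (.node (.leaf 33726744) (.leaf 18734673)) (.node (.leaf 12359126) (.leaf 33114042))) (.node (.node (.leaf 7309398) (.leaf 23993029)) (.node (.leaf 5112820) (.leaf 2755281)))) (.node (.node (.node (.leaf 6574861) (.leaf 29134929)) (.node (.leaf 13194458) (.leaf 27100212))) (.node (.node (.leaf 1855270) (.leaf 5871092)) (.node (.leaf 14387138) (.leaf 3936938)))))))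

/-- A point of the block, part 145. -/
def ptCodePart145 : Janko1.Tree ℕ := (.node (.node (.node (.node (.node (.node (.leaf 28106021) (.leaf 12392392)) (.node (.leaf 20611638) (.leaf 13654602))) (.node (.node (.leaf 26384578) (.leaf 32525618)) (.node (.leaf 24413362) (.leaf 9886793)))) (.node (.node (.node (.leaf 33720600) (.leaf 19796617)) (.node (.leaf 4446372) (.leaf 34900298))) (.node (.node (.leaf 33721230) (.leaf 26757804)) (.node (.leaf 3247762) (.leaf 16286146))))) (.node (.node (.node (.node (.leaf 8834462) (.leaf 24254290)) (.node (.leaf 20060068) (.leaf 29134996))) (.node (.node (.leaf 12394637) (.leaf 13732862)) (.node (.leaf 13748088) (.leaf 20044656)))) (.node (.node (.node (.leaf 16699253) (.leaf 34178526)) (.node (.leaf 21502177) (.leaf 34901180))) (.node (.node (.leaf 21496936) (.leaf 16522901)) (.node (.leaf 1887914) (.leaf 7116013)))))) (.node (.node (.node (.node (.node (.leaf 28382424) (.leaf 12356880)) (.node (.leaf 6570565) (.leaf 29033438))) (.node (.node (.leaf 6522972) (.leaf 25156532))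 (.node (.leaf 20617730) (.leaf 3940714)))) (.node (.node (.node (.leaf 26756317) (.leaf 3637620)) (.node (.leaf 19488401) (.leaf 33277514))) (.node (.node (.leaf 31662506) (.leaf 5871632)) (.node (.leaf 20186865) (.leaf 27416854))))) (.node (.node (.node (.node (.leaf 32492446) (.leaf 24184545)) (.node (.leaf 2297830) (.leaf 24760033))) (.node (.node (.leaf 21088000) (.leaf 16287892)) (.node (.leaf 5868440) (.leaf 20060410)))) (.node (.node (.node (.leaf 26248904) (.leaf 19079534)) (.node (.leaf 33327873) (.leaf 18171950))) (.node (.node (.leaf 18993513) (.leaf 5113520)) (.node (.leaf 34199089) (.leaf 11917672)))))))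

/-- A point of the block, part 146. -/
def ptCodePart146 : Janko1.Tree ℕ := (.node (.node (.node (.node (.node (.node (.leaf 21504268) (.leaf 31656856)) (.node (.leaf 8651737) (.leaf 5871640))) (.node (.node (.leaf 30607834) (.leaf 21940390)) (.node (.leaf 30923340) (.leaf 14882232)))) (.node (.node (.node (.leaf 26253078) (.leaf 10542558)) (.node (.leaf 25089462) (.leaf 5704918))) (.node (.node (.leaf 676912) (.leaf 22040124)) (.node (.leaf 25217249) (.leaf 34884469))))) (.node (.node (.node (.node (.leaf 26249230) (.leaf 25400433)) (.node (.leaf 28379205) (.leaf 8904190))) (.node (.node (.leaf 30610805) (.leaf 21633101)) (.node (.leaf 3247530) (.leaf 14387286)))) (.node (.node (.node (.leaf 21939000) (.leaf 28793742)) (.node (.leaf 27828522) (.leaf 16294033))) (.node (.node (.leaf 14386972) (.leaf 21992640)) (.node (.leaf 27106374) (.leaf 21086604)))))) (.node (.node (.node (.node (.node (.leaf 7243290) (.leaf 5119945)) (.node (.leaf 20107881) (.leaf 30048857))) (.node (.node (.leaf 3641798) (.leaf 24255828))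 (.node (.leaf 21470613) (.leaf 8667373)))) (.node (.node (.node (.leaf 15242980) (.leaf 19483685)) (.node (.leaf 18521918) (.leaf 34179149))) (.node (.node (.leaf 13851573) (.leaf 3999624)) (.node (.leaf 34769745) (.leaf 16695858))))) (.node (.node (.node (.node (.leaf 3998314) (.leaf 20685018)) (.node (.leaf 12194748) (.leaf 34200901))) (.node (.node (.leaf 20060514) (.leaf 33279337)) (.node (.leaf 33327156) (.leaf 33279853)))) (.node (.node (.node (.leaf 3641068) (.leaf 19486450)) (.node (.leaf 677693) (.leaf 25086662))) (.node (.node (.leaf 33395042) (.leaf 23022286)) (.node (.leaf 16697348) (.leaf 5705946)))))))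

/-- A point of the block, part 147. -/
def ptCodePart147 : Janko1.Tree ℕ := (.node (.node (.node (.node (.node (.node (.leaf 16698958) (.leaf 15831618)) (.node (.leaf 19485921) (.leaf 23185504))) (.node (.node (.leaf 3752524) (.leaf 21499980)) (.node (.leaf 21632904) (.leaf 18123514)))) (.node (.node (.node (.leaf 3231190) (.leaf 27629424)) (.node (.leaf 12359930) (.leaf 3250817))) (.node (.node (.leaf 20104745) (.leaf 28381782)) (.node (.leaf 2219002) (.leaf 19038232))))) (.node (.node (.node (.node (.leaf 27925080) (.leaf 16863520)) (.node (.leaf 27123768) (.leaf 18519546))) (.node (.node (.leaf 8835760) (.leaf 34769810)) (.node (.leaf 19799157) (.leaf 18309094)))) (.node (.node (.node (.leaf 3757890) (.leaf 6524080)) (.node (.leaf 6525276) (.leaf 4002666))) (.node (.node (.leaf 26755900) (.leaf 24758478)) (.node (.leaf 23774620) (.leaf 27821353)))))) (.node (.node (.node (.node (.node (.leaf 9881772) (.leaf 22466494)) (.node (.leaf 23020341) (.leaf 33395265))) (.node (.node (.leaf 13502708) (.leaf 29416246))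 (.node (.leaf 10768525) (.leaf 12502330)))) (.node (.node (.node (.leaf 18307676) (.leaf 17011557)) (.node (.leaf 4019404) (.leaf 28099433))) (.node (.node (.leaf 18996836) (.leaf 20103197)) (.node (.leaf 3523297) (.leaf 18517965))))) (.node (.node (.node (.node (.leaf 34182820) (.leaf 11719805)) (.node (.leaf 30052094) (.leaf 20045424))) (.node (.node (.leaf 8673200) (.leaf 4014608)) (.node (.leaf 12063200) (.leaf 15833222)))) (.node (.node (.node (.leaf 3496064) (.leaf 25090348)) (.node (.leaf 22468240) (.leaf 13190057))) (.node (.node (.leaf 25744350) (.leaf 32523512)) (.node (.leaf 13047272) (.leaf 10536162)))))))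

/-- A point of the block, part 148. -/
def ptCodePart148 : Janko1.Tree ℕ := (.node (.node (.node (.node (.node (.node (.leaf 23994597) (.leaf 27099232)) (.node (.leaf 25741646) (.leaf 18727776))) (.node (.node (.leaf 30049710) (.leaf 29032454)) (.node (.leaf 14059594) (.leaf 6850956)))) (.node (.node (.node (.leaf 20059634) (.leaf 15879866)) (.node (.leaf 5113702) (.leaf 5031902))) (.node (.node (.leaf 10608348) (.leaf 12190565)) (.node (.leaf 11813538) (.leaf 31218082))))) (.node (.node (.node (.node (.leaf 13735572) (.leaf 26249377)) (.node (.leaf 761458) (.leaf 1889466))) (.node (.node (.leaf 25396564) (.leaf 23775902)) (.node (.leaf 2973452) (.leaf 673398)))) (.node (.node (.node (.leaf 24187920) (.leaf 11913705)) (.node (.leaf 28098976) (.leaf 20043678))) (.node (.node (.leaf 6526290) (.leaf 16520256)) (.node (.leaf 12194985) (.leaf 33130390)))))) (.node (.node (.node (.node (.node (.leaf 16735500) (.leaf 2758324)) (.node (.leaf 13754269) (.leaf 8836884))) (.node (.node (.leaf 6067788) (.leaf 10228009))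 (.node (.leaf 28384210) (.leaf 29327381)))) (.node (.node (.node (.leaf 28377172) (.leaf 15180209)) (.node (.leaf 28104868) (.leaf 5867100))) (.node (.node (.leaf 21631801) (.leaf 5706468)) (.node (.leaf 5382268) (.leaf 25088036))))) (.node (.node (.node (.node (.leaf 18174048) (.leaf 14884306)) (.node (.leaf 756722) (.leaf 17453310))) (.node (.node (.leaf 27410473) (.leaf 2118721)) (.node (.leaf 27105708) (.leaf 5396125)))) (.node (.node (.node (.leaf 33755806) (.leaf 23021728)) (.node (.leaf 26595698) (.leaf 26380114))) (.node (.node (.leaf 5117068) (.leaf 13407785)) (.node (.leaf 32972100) (.leaf 1852832)))))))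

/-- A point of the block, part 149. -/
def ptCodePart149 : Janko1.Tree ℕ := (.node (.node (.node (.node (.node (.node (.leaf 18994809) (.leaf 27626593)) (.node (.leaf 17602848) (.leaf 18175506))) (.node (.node (.leaf 27120941) (.leaf 33133277)) (.node (.leaf 29412548) (.leaf 27417196)))) (.node (.node (.node (.leaf 30925169) (.leaf 1855282)) (.node (.leaf 10606052) (.leaf 19799638))) (.node (.node (.leaf 28792110) (.leaf 27121593)) (.node (.leaf 28705394) (.leaf 30606820))))) (.node (.node (.node (.node (.leaf 9508388) (.leaf 1417225)) (.node (.leaf 2117757) (.leaf 22974756))) (.node (.node (.leaf 28106993) (.leaf 15242658)) (.node (.leaf 23992185) (.leaf 32821350)))) (.node (.node (.node (.leaf 15830296) (.leaf 15665260)) (.node (.leaf 21256162) (.leaf 20190492))) (.node (.node (.leaf 14065029) (.leaf 17603845)) (.node (.leaf 8653201) (.leaf 13730760)))))) (.node (.node (.node (.node (.node (.leaf 29040568) (.leaf 16731512)) (.node (.leaf 7112388) (.leaf 15244345))) (.node (.node (.leaf 23190570) (.leaf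 15237402)) (.node (.leaf 8673986) (.leaf 30834938)))) (.node (.node (.node (.leaf 11817449) (.leaf 23026756)) (.node (.leaf 25151861) (.leaf 7311156))) (.node (.node (.leaf 32819606) (.leaf 13733360)) (.node (.leaf 8900544) (.leaf 34198324))))) (.node (.node (.node (.node (.leaf 755753) (.leaf 17008462)) (.node (.leaf 27123608) (.leaf 3940304))) (.node (.node (.leaf 6408942) (.leaf 13848553)) (.node (.leaf 1417432) (.leaf 3645865)))) (.node (.node (.node (.leaf 18733910) (.leaf 19793562)) (.node (.leaf 29135025) (.leaf 13503252))) (.node (.node (.leaf 3379662) (.leaf 27821540)) (.node (.leaf 1855698) (.leaf 29040657)))))))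

/-- A point of the block, part 150. -/
def ptCodePart150 : Janko1.Tree ℕ := (.node (.node (.node (.node (.node (.node (.leaf 27120424) (.leaf 25219484)) (.node (.leaf 19042062) (.leaf 12389021))) (.node (.node (.leaf 3498180) (.leaf 1988762)) (.node (.leaf 32493941) (.leaf 19484854)))) (.node (.node (.node (.leaf 21257466) (.leaf 7314762)) (.node (.leaf 30607256) (.leaf 27624160))) (.node (.node (.leaf 21944277) (.leaf 28231502)) (.node (.leaf 31211866) (.leaf 4660806))))) (.node (.node (.node (.node (.leaf 22941909) (.leaf 16697801)) (.node (.leaf 20676646) (.leaf 4014916))) (.node (.node (.leaf 27414990) (.leaf 13405577)) (.node (.leaf 20611648) (.leaf 10537724)))) (.node (.node (.node (.leaf 21993320) (.leaf 20614140)) (.node (.leaf 20038072) (.leaf 16519460))) (.node (.node (.leaf 33116688) (.leaf 3247198)) (.node (.leaf 2213714) (.leaf 13189345)))))) (.node (.node (.node (.node (.node (.leaf 29133254) (.leaf 27630525)) (.node (.leaf 28106724) (.leaf 23090862))) (.node (.node (.leaf 18995224) (.leaf 16862773))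 (.node (.leaf 11917209) (.leaf 22039676)))) (.node (.node (.node (.leaf 25221125) (.leaf 24255181)) (.node (.leaf 23089853) (.leaf 32528109))) (.node (.node (.leaf 13849260) (.leaf 18735418)) (.node (.leaf 21989560) (.leaf 13047296))))) (.node (.node (.node (.node (.leaf 19076237) (.leaf 31660269)) (.node (.leaf 33391745) (.leaf 26592437))) (.node (.node (.leaf 13406302) (.leaf 30919193)) (.node (.leaf 33135569) (.leaf 4447940)))) (.node (.node (.node (.leaf 31661793) (.leaf 9509068)) (.node (.leaf 27918592) (.leaf 15586509))) (.node (.node (.leaf 5379685) (.leaf 13049368)) (.node (.leaf 34179473) (.leaf 4443577)))))))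

/-- A point of the block, part 151. -/
def ptCodePart151 : Janko1.Tree ℕ := (.node (.node (.node (.node (.node (.node (.leaf 8831125) (.leaf 18123701)) (.node (.leaf 7242369) (.leaf 3527889))) (.node (.node (.leaf 7246484) (.leaf 28383320)) (.node (.leaf 4037330) (.leaf 7246793)))) (.node (.node (.node (.leaf 21496673) (.leaf 3234242)) (.node (.leaf 3003360) (.leaf 12190058))) (.node (.node (.leaf 15878508) (.leaf 20044341)) (.node (.leaf 12618434) (.leaf 10228548))))) (.node (.node (.node (.node (.leaf 12196120) (.leaf 6572110)) (.node (.leaf 24187137) (.leaf 20043478))) (.node (.node (.leaf 18516321) (.leaf 32818840)) (.node (.leaf 672809) (.leaf 8832341)))) (.node (.node (.node (.leaf 19076245) (.leaf 22041318)) (.node (.leaf 4021734) (.leaf 9507392))) (.node (.node (.leaf 33128538) (.leaf 18603957)) (.node (.leaf 15176056) (.leaf 8659285)))))) (.node (.node (.node (.node (.node (.leaf 18602217) (.leaf 6856921)) (.node (.leaf 21464966) (.leaf 22037468))) (.node (.node (.leaf 3235601) (.leaf 18798040))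 (.node (.leaf 22463401) (.leaf 3251549)))) (.node (.node (.node (.leaf 24761340) (.leaf 2215080)) (.node (.leaf 12393193) (.leaf 16702482))) (.node (.node (.leaf 18799770) (.leaf 32823356)) (.node (.leaf 16292245) (.leaf 14062358))))) (.node (.node (.node (.node (.leaf 19793441) (.leaf 2121948)) (.node (.leaf 4654117) (.leaf 7309668))) (.node (.node (.leaf 8656045) (.leaf 18176732)) (.node (.leaf 1410988) (.leaf 4034273)))) (.node (.node (.node (.leaf 33396000) (.leaf 33329345)) (.node (.leaf 3754494) (.leaf 6069150))) (.node (.node (.leaf 5398196) (.leaf 23989254)) (.node (.leaf 20111264) (.leaf 16862737)))))))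

/-- A point of the block, part 152. -/
def ptCodePart152 : Janko1.Tree ℕ := (.node (.node (.node (.node (.node (.node (.leaf 32818241) (.leaf 34578078)) (.node (.leaf 10604813) (.leaf 2868942))) (.node (.node (.leaf 8899581) (.leaf 33330770)) (.node (.leaf 8832225) (.leaf 1888961)))) (.node (.node (.node (.leaf 23944710) (.leaf 1982642)) (.node (.leaf 30842925) (.leaf 28787401))) (.node (.node (.leaf 29414445) (.leaf 29873649)) (.node (.leaf 18173377) (.leaf 12198190))))) (.node (.node (.node (.node (.leaf 9882018) (.leaf 26760544)) (.node (.leaf 2113698) (.leaf 34576824))) (.node (.node (.leaf 28236689) (.leaf 19078484)) (.node (.leaf 3383184) (.leaf 1990989)))) (.node (.node (.node (.leaf 4448193) (.leaf 6528712)) (.node (.leaf 2867585) (.leaf 24759673))) (.node (.node (.leaf 7309714) (.leaf 34769126)) (.node (.leaf 34572222) (.leaf 2113730)))))) (.node (.node (.node (.node (.node (.leaf 4441320) (.leaf 28788165)) (.node (.leaf 34178634) (.leaf 7309666))) (.node (.node (.leaf 21258205) (.leaf 20188850))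 (.node (.leaf 8936518) (.leaf 22464614)))) (.node (.node (.node (.leaf 25747062) (.leaf 22941338)) (.node (.leaf 8654713) (.leaf 8832209))) (.node (.node (.leaf 11819440) (.leaf 33718685)) (.node (.leaf 18599342) (.leaf 27607948))))) (.node (.node (.node (.node (.leaf 1853522) (.leaf 21471417)) (.node (.leaf 13850096) (.leaf 5376922))) (.node (.node (.leaf 21092826) (.leaf 3378698)) (.node (.leaf 15174330) (.leaf 16730576)))) (.node (.node (.node (.leaf 33325724) (.leaf 14060281)) (.node (.leaf 15588809) (.leaf 6406306))) (.node (.node (.leaf 27923600) (.leaf 758012)) (.node (.leaf 15239440) (.leaf 5900376)))))))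

/-- A point of the block, part 153. -/
def ptCodePart153 : Janko1.Tree ℕ := (.node (.node (.node (.node (.node (.node (.leaf 15666742) (.leaf 14392486)) (.node (.leaf 33112869) (.leaf 13195404))) (.node (.node (.leaf 32527237) (.leaf 9880214)) (.node (.leaf 23991348) (.leaf 18124569)))) (.node (.node (.node (.leaf 19237838) (.leaf 22725304)) (.node (.leaf 14094354) (.leaf 9673777))) (.node (.node (.leaf 17273834) (.leaf 1132978)) (.node (.leaf 5031734) (.leaf 34883234))))) (.node (.node (.node (.node (.leaf 15042994) (.leaf 5490890)) (.node (.leaf 5642214) (.leaf 30367856))) (.node (.node (.leaf 28428742) (.leaf 28233610)) (.node (.leaf 14458225) (.leaf 12033470)))) (.node (.node (.node (.leaf 8183260) (.leaf 3641053)) (.node (.leaf 531276) (.leaf 4556972))) (.node (.node (.leaf 8175960) (.leaf 14065082)) (.node (.leaf 14458622) (.leaf 2941133)))))) (.node (.node (.node (.node (.node (.leaf 23761912) (.leaf 28579585)) (.node (.leaf 12599952) (.leaf 35019889))) (.node (.node (.leaf 8686754) (.leaf 9486349))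 (.node (.leaf 20271345) (.leaf 28119446)))) (.node (.node (.node (.leaf 31921572) (.leaf 524406)) (.node (.leaf 19188808) (.leaf 12603501))) (.node (.node (.leaf 16745078) (.leaf 3641580)) (.node (.leaf 12112902) (.leaf 4104298))))) (.node (.node (.node (.node (.leaf 3457873) (.leaf 7851694)) (.node (.leaf 13206016) (.leaf 13358189))) (.node (.node (.leaf 15944672) (.leaf 19236852)) (.node (.leaf 12093780) (.leaf 12604450)))) (.node (.node (.node (.leaf 19236008) (.leaf 15945173)) (.node (.leaf 25658760) (.leaf 9487601))) (.node (.node (.leaf 26198112) (.leaf 527918)) (.node (.leaf 11804368) (.leaf 3641294)))))))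

/-- A point of the block, part 154. -/
def ptCodePart154 : Janko1.Tree ℕ := (.node (.node (.node (.node (.node (.node (.leaf 2083457) (.leaf 8277544)) (.node (.leaf 33627701) (.leaf 31004893))) (.node (.node (.leaf 13357534) (.leaf 4020938)) (.node (.leaf 3754605) (.leaf 33673137)))) (.node (.node (.node (.leaf 33984016) (.leaf 12113484)) (.node (.leaf 19235942) (.leaf 1743558))) (.node (.node (.leaf 25478444) (.leaf 9784292)) (.node (.leaf 16752689) (.leaf 12026368))))) (.node (.node (.node (.node (.leaf 19615438) (.leaf 5037814)) (.node (.leaf 2381929) (.leaf 15946558))) (.node (.node (.leaf 18665041) (.leaf 16734382)) (.node (.leaf 13356996) (.leaf 16713465)))) (.node (.node (.node (.leaf 6430096) (.leaf 30367513)) (.node (.leaf 11423576) (.leaf 14080521))) (.node (.node (.leaf 19547690) (.leaf 14992862)) (.node (.leaf 9673122) (.leaf 29251526)))))) (.node (.node (.node (.node (.node (.leaf 22730865) (.leaf 10622088)) (.node (.leaf 29442857) (.leaf 19547385))) (.node (.node (.leaf 11423150) (.leaf 15226370))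 (.node (.leaf 6704948) (.leaf 8690570)))) (.node (.node (.node (.leaf 527498) (.leaf 1137992)) (.node (.leaf 30775504) (.leaf 33087165))) (.node (.node (.leaf 5494684) (.leaf 16490745)) (.node (.leaf 34492233) (.leaf 7849432))))) (.node (.node (.node (.node (.leaf 10621646) (.leaf 11290714)) (.node (.leaf 34396453) (.leaf 28547913))) (.node (.node (.leaf 19488917) (.leaf 6066262)) (.node (.leaf 30775473) (.leaf 8047624)))) (.node (.node (.node (.leaf 13762925) (.leaf 28230506)) (.node (.leaf 27532556) (.leaf 30691650))) (.node (.node (.leaf 33260345) (.leaf 21189096)) (.node (.leaf 16752992) (.leaf 22732336)))))))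

/-- A point of the block, part 155. -/
def ptCodePart155 : Janko1.Tree ℕ := (.node (.node (.node (.node (.node (.node (.leaf 4606932) (.leaf 6395680)) (.node (.leaf 30199177) (.leaf 31889292))) (.node (.node (.leaf 30772492) (.leaf 527534)) (.node (.leaf 33082840) (.leaf 28231166)))) (.node (.node (.node (.leaf 21188966) (.leaf 33151914)) (.node (.leaf 2082389) (.leaf 16454992))) (.node (.node (.leaf 1184332) (.leaf 29692646)) (.node (.leaf 5195082) (.leaf 26138290))))) (.node (.node (.node (.node (.leaf 17271198) (.leaf 6702988)) (.node (.leaf 31230544) (.leaf 12656954))) (.node (.node (.leaf 34329602) (.leaf 12600109)) (.node (.leaf 525410) (.leaf 30006537)))) (.node (.node (.node (.leaf 15225578) (.leaf 3458757)) (.node (.leaf 19743974) (.leaf 14356581))) (.node (.node (.leaf 19189220) (.leaf 34881905)) (.node (.leaf 17008514) (.leaf 23303848)))))) (.node (.node (.node (.node (.node (.leaf 11290772) (.leaf 34394449)) (.node (.leaf 19553508) (.leaf 6101670))) (.node (.node (.leaf 19486942) (.leaf 525636))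 (.node (.leaf 32988264) (.leaf 30777321)))) (.node (.node (.node (.leaf 15392012) (.leaf 15386456)) (.node (.leaf 6398173) (.leaf 12606848))) (.node (.node (.leaf 5198442) (.leaf 30692480)) (.node (.leaf 23762226) (.leaf 27527137))))) (.node (.node (.node (.node (.leaf 25659848) (.leaf 1480930)) (.node (.leaf 14993406) (.leaf 14991994))) (.node (.node (.leaf 13390452) (.leaf 4103429)) (.node (.leaf 5643130) (.leaf 33984546)))) (.node (.node (.node (.leaf 34331432) (.leaf 4376160)) (.node (.leaf 4604322) (.leaf 21894092))) (.node (.node (.leaf 14358750) (.leaf 7752280)) (.node (.leaf 29447149) (.leaf 29134488)))))))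

/-- A point of the block, part 156. -/
def ptCodePart156 : Janko1.Tree ℕ := (.node (.node (.node (.node (.node (.node (.leaf 34397458) (.leaf 6573880)) (.node (.leaf 22289984) (.leaf 12863728))) (.node (.node (.leaf 11799157) (.leaf 1187552)) (.node (.leaf 4196849) (.leaf 11289906)))) (.node (.node (.node (.leaf 21896120) (.leaf 4098820)) (.node (.leaf 1786580) (.leaf 26205450))) (.node (.node (.leaf 6916622) (.leaf 21893629)) (.node (.leaf 9492753) (.leaf 34396816))))) (.node (.node (.node (.node (.leaf 31232214) (.leaf 14059549)) (.node (.leaf 23104126) (.leaf 4382082))) (.node (.node (.leaf 3167894) (.leaf 11097973)) (.node (.leaf 8177812) (.leaf 28579534)))) (.node (.node (.node (.leaf 11765146) (.leaf 26140974)) (.node (.leaf 11093582) (.leaf 33359204))) (.node (.node (.leaf 171196) (.leaf 12864690)) (.node (.leaf 33560401) (.leaf 14455638)))))) (.node (.node (.node (.node (.node (.leaf 6424440) (.leaf 165080)) (.node (.leaf 1790348) (.leaf 19485725))) (.node (.node (.leaf 12868446) (.leaf 7752674))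 (.node (.leaf 33363937) (.leaf 6705890)))) (.node (.node (.node (.leaf 22288398) (.leaf 31918516)) (.node (.leaf 1901830) (.leaf 29696097))) (.node (.node (.leaf 14093406) (.leaf 2770222)) (.node (.leaf 14457862) (.leaf 13357345))))) (.node (.node (.node (.node (.leaf 2940753) (.leaf 4016422)) (.node (.leaf 32579794) (.leaf 25878762))) (.node (.node (.leaf 1969040) (.leaf 21891000)) (.node (.leaf 1736946) (.leaf 164550)))) (.node (.node (.node (.leaf 11667709) (.leaf 24288568)) (.node (.leaf 27926045) (.leaf 8180532))) (.node (.node (.leaf 11160417) (.leaf 17353726)) (.node (.leaf 32278057) (.leaf 25664473)))))))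

/-- A point of the block, part 157. -/
def ptCodePart157 : Janko1.Tree ℕ := (.node (.node (.node (.node (.node (.node (.leaf 30360358) (.leaf 23109649)) (.node (.leaf 25480518) (.leaf 3758342))) (.node (.node (.leaf 5200870) (.leaf 34422958)) (.node (.leaf 30688434) (.leaf 34390048)))) (.node (.node (.node (.leaf 28115016) (.leaf 28234774)) (.node (.leaf 4019384) (.leaf 18096504))) (.node (.node (.leaf 29073758) (.leaf 26069557)) (.node (.leaf 31886352) (.leaf 4605422))))) (.node (.node (.node (.node (.leaf 6426576) (.leaf 33359373)) (.node (.leaf 13765361) (.leaf 15942009))) (.node (.node (.leaf 19611717) (.leaf 10112877)) (.node (.leaf 13353324) (.leaf 29925238)))) (.node (.node (.node (.leaf 3643798) (.leaf 7855597)) (.node (.leaf 28543902) (.leaf 30001114))) (.node (.node (.leaf 28542752) (.leaf 13207180)) (.node (.leaf 34020844) (.leaf 26199757)))))) (.node (.node (.node (.node (.node (.leaf 12605652) (.leaf 31005868)) (.node (.leaf 1969928) (.leaf 2081034))) (.node (.node (.leaf 32988590) (.leaf 9063078))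 (.node (.leaf 25855405) (.leaf 29132245)))) (.node (.node (.node (.leaf 3757468) (.leaf 25613786)) (.node (.leaf 14098640) (.leaf 2627497))) (.node (.node (.leaf 26067884) (.leaf 30201926)) (.node (.leaf 18139322) (.leaf 29071460))))) (.node (.node (.node (.node (.leaf 12028958) (.leaf 24600392)) (.node (.leaf 24354430) (.leaf 9062170))) (.node (.node (.leaf 15220973) (.leaf 33267930)) (.node (.leaf 23106184) (.leaf 25959336)))) (.node (.node (.node (.leaf 25610949) (.leaf 8689584)) (.node (.leaf 33562722) (.leaf 29688888))) (.node (.node (.leaf 26133997) (.leaf 34431349)) (.node (.leaf 6426529) (.leaf 10982414)))))))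

/-- A point of the block, part 158. -/
def ptCodePart158 : Janko1.Tree ℕ := (.node (.node (.node (.node (.node (.node (.leaf 25611996) (.leaf 2626576)) (.node (.leaf 4612248) (.leaf 32278793))) (.node (.node (.leaf 29444442) (.leaf 2000600)) (.node (.leaf 16685132) (.leaf 31233257)))) (.node (.node (.node (.leaf 31350688) (.leaf 31918768)) (.node (.leaf 13390136) (.leaf 29130814))) (.node (.node (.leaf 2377325) (.leaf 23302634)) (.node (.leaf 2378146) (.leaf 13385950))))) (.node (.node (.node (.node (.leaf 8274612) (.leaf 6097861)) (.node (.leaf 2935688) (.leaf 171177))) (.node (.node (.leaf 33358356) (.leaf 24286693)) (.node (.leaf 29688326) (.leaf 21896906)))) (.node (.node (.node (.leaf 29922150) (.leaf 34883473)) (.node (.leaf 2770904) (.leaf 11292661))) (.node (.node (.leaf 26132837) (.leaf 6575325)) (.node (.leaf 19749196) (.leaf 28578568)))))) (.node (.node (.node (.node (.node (.leaf 3460161) (.leaf 26370170)) (.node (.leaf 1909088) (.leaf 13488330))) (.node (.node (.leaf 14555325) (.leaf 10622014))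 (.node (.leaf 1745281) (.leaf 14082413)))) (.node (.node (.node (.leaf 12093540) (.leaf 11803929)) (.node (.leaf 33153321) (.leaf 34489900))) (.node (.node (.leaf 23110070) (.leaf 32984506)) (.node (.leaf 32572273) (.leaf 26906542))))) (.node (.node (.node (.node (.leaf 31038917) (.leaf 30366526)) (.node (.leaf 22007246) (.leaf 22732678))) (.node (.node (.leaf 34397548) (.leaf 34428057)) (.node (.leaf 1138437) (.leaf 2083009)))) (.node (.node (.node (.leaf 35012808) (.leaf 25878306)) (.node (.leaf 11093841) (.leaf 2773033))) (.node (.node (.leaf 15048921) (.leaf 11799125)) (.node (.leaf 18094324) (.leaf 27926845)))))))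

/-- A point of the block, part 159. -/
def ptCodePart159 : Janko1.Tree ℕ := (.node (.node (.node (.node (.node (.node (.leaf 26498600) (.leaf 4981449)) (.node (.leaf 33363073) (.leaf 28592432))) (.node (.node (.leaf 14095354) (.leaf 26906846)) (.node (.leaf 24353808) (.leaf 26132904)))) (.node (.node (.node (.leaf 23762925) (.leaf 32986748)) (.node (.leaf 32988849) (.leaf 6343244))) (.node (.node (.leaf 16712486) (.leaf 33562910)) (.node (.leaf 26239162) (.leaf 19241970))))) (.node (.node (.node (.node (.leaf 23692377) (.leaf 12091648)) (.node (.leaf 22286840) (.leaf 19240372))) (.node (.node (.leaf 34015024) (.leaf 4987753)) (.node (.leaf 5641154) (.leaf 29627765)))) (.node (.node (.node (.leaf 24596510) (.leaf 13207081)) (.node (.leaf 15944113) (.leaf 2081562))) (.node (.node (.leaf 20185109) (.leaf 30776496)) (.node (.leaf 23306218) (.leaf 29446841)))))) (.node (.node (.node (.node (.node (.leaf 2562494) (.leaf 30004446)) (.node (.leaf 24283329) (.leaf 7850804))) (.node (.node (.leaf 16682453) (.leaf 4984485))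 (.node (.leaf 25957045) (.leaf 14554052)))) (.node (.node (.node (.leaf 18095450) (.leaf 16451318)) (.node (.leaf 11158441) (.leaf 14457260))) (.node (.node (.leaf 23692185) (.leaf 8274893)) (.node (.leaf 4099564) (.leaf 7853685))))) (.node (.node (.node (.node (.leaf 26068080) (.leaf 32343393)) (.node (.leaf 29442601) (.leaf 26204981))) (.node (.node (.leaf 19745506) (.leaf 9065857)) (.node (.leaf 5492042) (.leaf 4196126)))) (.node (.node (.node (.leaf 24351317) (.leaf 1739333)) (.node (.leaf 4017584) (.leaf 31231024))) (.node (.node (.leaf 26072889) (.leaf 19189842)) (.node (.leaf 26493477) (.leaf 30003884)))))))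

/-- A point of the block, part 160. -/
def ptCodePart160 : Janko1.Tree ℕ := (.node (.node (.node (.node (.node (.node (.leaf 1999509) (.leaf 18661684)) (.node (.leaf 32576200) (.leaf 29131160))) (.node (.node (.leaf 31916525) (.leaf 22729680)) (.node (.leaf 11674010) (.leaf 25661758)))) (.node (.node (.node (.leaf 3248549) (.leaf 6704496)) (.node (.leaf 29072662) (.leaf 4382386))) (.node (.node (.leaf 13388716) (.leaf 6391573)) (.node (.leaf 30361102) (.leaf 13390616))))) (.node (.node (.node (.node (.leaf 8049834) (.leaf 17357526)) (.node (.leaf 1905337) (.leaf 33626701))) (.node (.node (.leaf 1972548) (.leaf 31541309)) (.node (.leaf 33085076) (.leaf 29444761)))) (.node (.node (.node (.leaf 6570478) (.leaf 3457689)) (.node (.leaf 2004045) (.leaf 32985576))) (.node (.node (.leaf 12110038) (.leaf 32573869)) (.node (.leaf 25875740) (.leaf 27920393)))))) (.node (.node (.node (.node (.node (.leaf 16453345) (.leaf 11673096)) (.node (.leaf 26498861) (.leaf 3643258))) (.node (.node (.leaf 4194404) (.leaf 16433326))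 (.node (.leaf 23298949) (.leaf 11769544)))) (.node (.node (.node (.leaf 10625028) (.leaf 11667232)) (.node (.leaf 31544836) (.leaf 5032749))) (.node (.node (.leaf 26067425) (.leaf 16452606)) (.node (.leaf 19186677) (.leaf 6097740))))) (.node (.node (.node (.node (.leaf 31724629) (.leaf 20269137)) (.node (.leaf 31543497) (.leaf 2937585))) (.node (.node (.leaf 14358006) (.leaf 25484441)) (.node (.leaf 19907966) (.leaf 13489317)))) (.node (.node (.node (.leaf 29692093) (.leaf 23306280)) (.node (.leaf 12091782) (.leaf 2383166))) (.node (.node (.leaf 27530532) (.leaf 31725197)) (.node (.leaf 4555754) (.leaf 32283914)))))))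

/-- A point of the block, part 161. -/
def ptCodePart161 : Janko1.Tree ℕ := (.node (.node (.node (.node (.node (.node (.leaf 31725246) (.leaf 31887369)) (.node (.leaf 14064936) (.leaf 5054013))) (.node (.node (.leaf 29925216) (.leaf 20189806)) (.node (.leaf 24289640) (.leaf 13770494)))) (.node (.node (.node (.leaf 34327481) (.leaf 16733330)) (.node (.leaf 29626898) (.leaf 15220753))) (.node (.node (.leaf 1185317) (.leaf 26134426)) (.node (.leaf 9788004) (.leaf 10982801))))) (.node (.node (.node (.node (.leaf 6915922) (.leaf 6573068)) (.node (.leaf 11765988) (.leaf 11163646))) (.node (.node (.leaf 24285376) (.leaf 9061205)) (.node (.leaf 25002497) (.leaf 7850765)))) (.node (.node (.node (.leaf 12031441) (.leaf 1479137)) (.node (.leaf 3250350) (.leaf 8495042))) (.node (.node (.leaf 7753730) (.leaf 21894901)) (.node (.leaf 17358489) (.leaf 8275045)))))) (.node (.node (.node (.node (.node (.leaf 11422546) (.leaf 16483498)) (.node (.leaf 2006472) (.leaf 12109341))) (.node (.node (.leaf 13486864) (.leaf 9673740))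 (.node (.leaf 26362225) (.leaf 15043573)))) (.node (.node (.node (.leaf 3166745) (.leaf 6347280)) (.node (.leaf 34021124) (.leaf 172317))) (.node (.node (.leaf 11296196) (.leaf 15942918)) (.node (.leaf 15228173) (.leaf 1745092))))) (.node (.node (.node (.node (.leaf 31920080) (.leaf 11763958)) (.node (.leaf 29138880) (.leaf 6707304))) (.node (.node (.leaf 18144381) (.leaf 25010541)) (.node (.leaf 10617197) (.leaf 13208634)))) (.node (.node (.node (.leaf 17355450) (.leaf 28431826)) (.node (.leaf 7851980) (.leaf 16453412))) (.node (.node (.leaf 3462604) (.leaf 4377720)) (.node (.leaf 28595661) (.leaf 13212169)))))))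

/-- A point of the block, part 162. -/
def ptCodePart162 : Janko1.Tree ℕ := (.node (.node (.node (.node (.node (.node (.leaf 30196430) (.leaf 34886180)) (.node (.leaf 14096110) (.leaf 1482214))) (.node (.node (.leaf 33266526) (.leaf 1135974)) (.node (.leaf 5054528) (.leaf 32573489)))) (.node (.node (.node (.leaf 34491929) (.leaf 23694757)) (.node (.leaf 6099828) (.leaf 1792312))) (.node (.node (.leaf 5037926) (.leaf 12654470)) (.node (.leaf 7226833) (.leaf 10113156))))) (.node (.node (.node (.node (.leaf 14452797) (.leaf 25859965)) (.node (.leaf 34887216) (.leaf 5490558))) (.node (.node (.leaf 26367377) (.leaf 30363841)) (.node (.leaf 30360120) (.leaf 17271960)))) (.node (.node (.node (.leaf 26495386) (.leaf 20275012)) (.node (.leaf 35017641) (.leaf 1183778))) (.node (.node (.leaf 18094188) (.leaf 26137582)) (.node (.leaf 18665725) (.leaf 2005520)))))) (.node (.node (.node (.node (.node (.leaf 24347512) (.leaf 31723210)) (.node (.leaf 16735678) (.leaf 24289546))) (.node (.node (.leaf 12656298) (.leaf 15041845))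 (.node (.leaf 19618334) (.leaf 31232252)))) (.node (.node (.node (.leaf 32347632) (.leaf 12864741)) (.node (.leaf 25659734) (.leaf 28123514))) (.node (.node (.leaf 18666086) (.leaf 8179497)) (.node (.leaf 16751105) (.leaf 10109684))))) (.node (.node (.node (.node (.leaf 11801966) (.leaf 33267121)) (.node (.leaf 29923258) (.leaf 2381285))) (.node (.node (.leaf 4987476) (.leaf 27924445)) (.node (.leaf 19910493) (.leaf 21188545)))) (.node (.node (.node (.leaf 23298805) (.leaf 26238554)) (.node (.leaf 1185848) (.leaf 17015173))) (.node (.node (.leaf 6706104) (.leaf 14996861)) (.node (.leaf 9494614) (.leaf 14081216)))))))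

/-- A point of the block, part 163. -/
def ptCodePart163 : Janko1.Tree ℕ := (.node (.node (.node (.node (.node (.node (.leaf 28119640) (.leaf 17007806)) (.node (.leaf 5638738) (.leaf 32283614))) (.node (.node (.leaf 14352834) (.leaf 5048480)) (.node (.leaf 28434830) (.leaf 16716333)))) (.node (.node (.node (.leaf 12648896) (.leaf 20272840)) (.node (.leaf 12864581) (.leaf 26909101))) (.node (.node (.leaf 6069308) (.leaf 12108037)) (.node (.leaf 32347776) (.leaf 28434332))))) (.node (.node (.node (.node (.leaf 33365128) (.leaf 2623172)) (.node (.leaf 22286422) (.leaf 15220997))) (.node (.node (.leaf 17271220) (.leaf 20192177)) (.node (.leaf 9785548) (.leaf 26237189)))) (.node (.node (.node (.leaf 2081210) (.leaf 26496458)) (.node (.leaf 29628340) (.leaf 983205))) (.node (.node (.leaf 19612212) (.leaf 26236609)) (.node (.leaf 28121717) (.leaf 31720869)))))) (.node (.node (.node (.node (.node (.leaf 7231774) (.leaf 26905228)) (.node (.leaf 29254026) (.leaf 25615300))) (.node (.node (.leaf 16715086) (.leaf 14059182))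 (.node (.leaf 23699186) (.leaf 2777485)))) (.node (.node (.node (.leaf 6570912) (.leaf 34021564)) (.node (.leaf 2379441) (.leaf 19746825))) (.node (.node (.leaf 16456661) (.leaf 15943780)) (.node (.leaf 32284713) (.leaf 29925698))))) (.node (.node (.node (.node (.leaf 31542617) (.leaf 1184248)) (.node (.leaf 2772580) (.leaf 17013276))) (.node (.node (.leaf 16678966) (.leaf 19914194)) (.node (.leaf 3250181) (.leaf 27531733)))) (.node (.node (.node (.leaf 28434462) (.leaf 18139772)) (.node (.leaf 10375778) (.leaf 10624381))) (.node (.node (.leaf 20192800) (.leaf 16680005)) (.node (.leaf 11420270) (.leaf 10983709)))))))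

/-- A point of the block, part 164. -/
def ptCodePart164 : Janko1.Tree ℕ := (.node (.node (.node (.node (.node (.node (.leaf 26365985) (.leaf 8687277)) (.node (.leaf 32276654) (.leaf 31038634))) (.node (.node (.leaf 31921596) (.leaf 11421876)) (.node (.leaf 34020233) (.leaf 29131834)))) (.node (.node (.node (.leaf 31348148) (.leaf 6578498)) (.node (.leaf 19554177) (.leaf 4022446))) (.node (.node (.leaf 18663690) (.leaf 29625458)) (.node (.leaf 11293133) (.leaf 26494121))))) (.node (.node (.node (.node (.leaf 25485064) (.leaf 25958996)) (.node (.leaf 16456673) (.leaf 25859474))) (.node (.node (.leaf 6390506) (.leaf 5036994)) (.node (.leaf 26908864) (.leaf 11424412)))) (.node (.node (.node (.leaf 11424594) (.leaf 31032930)) (.node (.leaf 24347064) (.leaf 9060956))) (.node (.node (.leaf 33087609) (.leaf 5496410)) (.node (.leaf 34021036) (.leaf 4201366)))))) (.node (.node (.node (.node (.node (.leaf 2559325) (.leaf 5195228)) (.node (.leaf 25479780) (.leaf 4101022))) (.node (.node (.leaf 21190988) (.leaf 2083684))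 (.node (.leaf 25876133) (.leaf 25004317)))) (.node (.node (.node (.leaf 23301768) (.leaf 31349577)) (.node (.leaf 3754964) (.leaf 17011708))) (.node (.node (.leaf 22287140) (.leaf 12869288)) (.node (.leaf 31547068) (.leaf 34019762))))) (.node (.node (.node (.node (.leaf 33981346) (.leaf 8278490)) (.node (.leaf 3754757) (.leaf 10116630))) (.node (.node (.leaf 26365332) (.leaf 28595453)) (.node (.leaf 30777505) (.leaf 7757992)))) (.node (.node (.node (.leaf 14552022) (.leaf 29691721)) (.node (.leaf 28122316) (.leaf 2775552))) (.node (.node (.leaf 31726725) (.leaf 19484234)) (.node (.leaf 6342696) (.leaf 1792925)))))))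

/-- A point of the block, part 165. -/
def ptCodePart165 : Janko1.Tree ℕ := (.node (.node (.node (.node (.node (.node (.leaf 35016058) (.leaf 9488936)) (.node (.leaf 11165234) (.leaf 987880))) (.node (.node (.leaf 9669700) (.leaf 4019837)) (.node (.leaf 5637264) (.leaf 23106697)))) (.node (.node (.node (.leaf 16439482) (.leaf 16728441)) (.node (.leaf 11092824) (.leaf 4605046))) (.node (.node (.leaf 6918605) (.leaf 7230872)) (.node (.leaf 23758698) (.leaf 7231712))))) (.node (.node (.node (.node (.leaf 16436254) (.leaf 31884465)) (.node (.leaf 10372510) (.leaf 29252714))) (.node (.node (.leaf 9670298) (.leaf 25873097)) (.node (.leaf 8491128) (.leaf 3752133)))) (.node (.node (.node (.leaf 12110112) (.leaf 19488138)) (.node (.leaf 1474576) (.leaf 2000096))) (.node (.node (.leaf 2088017) (.leaf 26134409)) (.node (.leaf 20273180) (.leaf 27920130)))))) (.node (.node (.node (.node (.node (.leaf 29131134) (.leaf 14062904)) (.node (.leaf 5492364) (.leaf 17352398))) (.node (.node (.leaf 12654848) (.leaf 3249913)) (.node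 (.leaf 8047890) (.leaf 25005246)))) (.node (.node (.node (.leaf 11665493) (.leaf 3640708)) (.node (.leaf 12113316) (.leaf 6069494))) (.node (.node (.leaf 23699889) (.leaf 16436345)) (.node (.leaf 10377797) (.leaf 2562585))))) (.node (.node (.node (.node (.leaf 16437170) (.leaf 14077060)) (.node (.leaf 12094413) (.leaf 19187576))) (.node (.node (.leaf 16750098) (.leaf 11296512)) (.node (.leaf 32981361) (.leaf 28230969)))) (.node (.node (.node (.leaf 14081369) (.leaf 25857492)) (.node (.leaf 9492206) (.leaf 2559682))) (.node (.node (.leaf 23699885) (.leaf 11798724)) (.node (.leaf 34324908) (.leaf 19552084)))))))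

/-- A point of the block, part 166. -/
def ptCodePart166 : Janko1.Tree ℕ := (.node (.node (.node (.node (.node (.node (.leaf 25613446) (.leaf 4561764)) (.node (.leaf 15385120) (.leaf 31236029))) (.node (.node (.leaf 4096522) (.leaf 16678968)) (.node (.leaf 11163773) (.leaf 4196585)))) (.node (.node (.node (.leaf 2377485) (.leaf 28120680)) (.node (.leaf 3166332) (.leaf 19189952))) (.node (.node (.leaf 3637806) (.leaf 12033425)) (.node (.leaf 11802144) (.leaf 34327361))))) (.node (.node (.node (.node (.leaf 19189932) (.leaf 8688149)) (.node (.leaf 27921966) (.leaf 31227922))) (.node (.node (.leaf 31540306) (.leaf 2559826)) (.node (.leaf 11668830) (.leaf 14063590)))) (.node (.node (.node (.leaf 1134744) (.leaf 8049006)) (.node (.leaf 8492484) (.leaf 7226828))) (.node (.node (.leaf 33557768) (.leaf 17275850)) (.node (.leaf 16681716) (.leaf 10371202)))))) (.node (.node (.node (.node (.node (.leaf 23105957) (.leaf 13485480)) (.node (.leaf 3459206) (.leaf 3162556))) (.node (.node (.leaf 4604764) (.leaf 31006926))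 (.node (.leaf 20267361) (.leaf 33558977)))) (.node (.node (.node (.leaf 6398193) (.leaf 1908446)) (.node (.leaf 14998409) (.leaf 26234788))) (.node (.node (.leaf 24599377) (.leaf 31349226)) (.node (.leaf 33676900) (.leaf 14095325))))) (.node (.node (.node (.node (.leaf 16489270) (.leaf 29249926)) (.node (.leaf 14555386) (.leaf 33264893))) (.node (.node (.leaf 26234876) (.leaf 17014612)) (.node (.leaf 4199226) (.leaf 33150960)))) (.node (.node (.node (.leaf 33983753) (.leaf 25477642)) (.node (.leaf 5197780) (.leaf 23758565))) (.node (.node (.leaf 19614800) (.leaf 12600685)) (.node (.leaf 18142692) (.leaf 11764578)))))))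

/-- A point of the block, part 167. -/
def ptCodePart167 : Janko1.Tree ℕ := (.node (.node (.node (.node (.node (.node (.leaf 33267992) (.leaf 26067242)) (.node (.leaf 28234760) (.leaf 30690204))) (.node (.node (.leaf 29251174) (.leaf 14353601)) (.node (.leaf 28548066) (.leaf 23696322)))) (.node (.node (.node (.leaf 11164645) (.leaf 34431117)) (.node (.leaf 23757162) (.leaf 24599310))) (.node (.node (.leaf 6068492) (.leaf 33673016)) (.node (.leaf 22006354) (.leaf 28579441))))) (.node (.node (.node (.node (.leaf 30693804) (.leaf 9781337)) (.node (.leaf 30770989) (.leaf 28547957))) (.node (.node (.leaf 23107012) (.leaf 25955106)) (.node (.leaf 21892406) (.leaf 6396754)))) (.node (.node (.node (.leaf 16437952) (.leaf 9494356)) (.node (.leaf 30362010) (.leaf 1479582))) (.node (.node (.leaf 14456072) (.leaf 2771032)) (.node (.leaf 18094398) (.leaf 25953614)))))) (.node (.node (.node (.node (.node (.leaf 31038054) (.leaf 24594192)) (.node (.leaf 28574706) (.leaf 31001976))) (.node (.node (.leaf 16456546) (.leaf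 11670390)) (.node (.leaf 20269160) (.leaf 23764632)))) (.node (.node (.node (.leaf 16440302) (.leaf 29688457)) (.node (.leaf 10983240) (.leaf 24599529))) (.node (.node (.leaf 15041233) (.leaf 18088114)) (.node (.leaf 19914621) (.leaf 31545805))))) (.node (.node (.node (.node (.leaf 3642101) (.leaf 14357233)) (.node (.leaf 23106240) (.leaf 34326045))) (.node (.node (.leaf 23697684) (.leaf 16751078)) (.node (.leaf 1477474) (.leaf 3247744)))) (.node (.node (.node (.leaf 19912005) (.leaf 19614113)) (.node (.leaf 989246) (.leaf 1131944))) (.node (.node (.leaf 6102025) (.leaf 14999121)) (.node (.leaf 18140114) (.leaf 31001870)))))))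

/-- A point of the block, part 168. -/
def ptCodePart168 : Janko1.Tree ℕ := (.node (.node (.node (.node (.node (.node (.leaf 22726660) (.leaf 19553780)) (.node (.leaf 30999596) (.leaf 33151692))) (.node (.node (.leaf 11667269) (.leaf 10116120)) (.node (.leaf 20192958) (.leaf 1901733)))) (.node (.node (.node (.leaf 11100530) (.leaf 16750712)) (.node (.leaf 16715866) (.leaf 30004525))) (.node (.node (.leaf 27532304) (.leaf 11165752)) (.node (.leaf 24281630) (.leaf 16686353))))) (.node (.node (.node (.node (.leaf 34013914) (.leaf 34327100)) (.node (.leaf 22006200) (.leaf 5194504))) (.node (.node (.leaf 11804325) (.leaf 9494817)) (.node (.leaf 34398462) (.leaf 14454252)))) (.node (.node (.node (.leaf 33085090) (.leaf 9064650)) (.node (.leaf 33151034) (.leaf 8691778))) (.node (.node (.leaf 9788214) (.leaf 30000846)) (.node (.leaf 3757329) (.leaf 164522)))))) (.node (.node (.node (.node (.node (.leaf 27926453) (.leaf 33555938)) (.node (.leaf 4987860) (.leaf 5031153))) (.node (.node (.leaf 25861394) (.leaf 4985721))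 (.node (.leaf 13391268) (.leaf 8277017)))) (.node (.node (.node (.leaf 168785) (.leaf 18662481)) (.node (.leaf 2937849) (.leaf 33085153))) (.node (.node (.leaf 26067192) (.leaf 31036032)) (.node (.leaf 26205478) (.leaf 15227752))))) (.node (.node (.node (.node (.leaf 13770226) (.leaf 10983945)) (.node (.leaf 13490248) (.leaf 31918968))) (.node (.node (.leaf 10113013) (.leaf 14555305)) (.node (.leaf 15389462) (.leaf 4561022)))) (.node (.node (.node (.leaf 29920578) (.leaf 4984208)) (.node (.leaf 31234028) (.leaf 28431241))) (.node (.node (.leaf 2560613) (.leaf 8494401)) (.node (.leaf 4101713) (.leaf 26205598)))))))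

/-- A point of the block, part 169. -/
def ptCodePart169 : Janko1.Tree ℕ := (.node (.node (.node (.node (.node (.node (.leaf 1786013) (.leaf 10374289)) (.node (.leaf 6395122) (.leaf 3245205))) (.node (.node (.leaf 11767100) (.leaf 10371974)) (.node (.leaf 14074320) (.leaf 19748714)))) (.node (.node (.node (.leaf 10984102) (.leaf 7849917)) (.node (.leaf 5054768) (.leaf 17013925))) (.node (.node (.leaf 4194944) (.leaf 5497061)) (.node (.leaf 14058160) (.leaf 6341093))))) (.node (.node (.node (.node (.leaf 22284741) (.leaf 9789697)) (.node (.leaf 12114694) (.leaf 29922046))) (.node (.node (.leaf 12098262) (.leaf 30003966)) (.node (.leaf 11425690) (.leaf 33669224)))) (.node (.node (.node (.leaf 1184157) (.leaf 6395490)) (.node (.leaf 1181866) (.leaf 15389441))) (.node (.node (.leaf 34327390) (.leaf 33672281)) (.node (.leaf 27926725) (.leaf 4017445)))))) (.node (.node (.node (.node (.node (.leaf 16730364) (.leaf 6101969)) (.node (.leaf 11766340) (.leaf 22730177))) (.node (.node (.leaf 28118358) (.leaf 12864141))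 (.node (.leaf 5031829) (.leaf 30203088)))) (.node (.node (.node (.leaf 31886749) (.leaf 3247017)) (.node (.leaf 28237261) (.leaf 27526424))) (.node (.node (.leaf 28541976) (.leaf 31890717)) (.node (.leaf 6102528) (.leaf 33621993))))) (.node (.node (.node (.node (.leaf 33982200) (.leaf 16752856)) (.node (.leaf 1477554) (.leaf 19188804))) (.node (.node (.leaf 11162313) (.leaf 2940505)) (.node (.leaf 29625205) (.leaf 30688097)))) (.node (.node (.node (.leaf 12600918) (.leaf 20190293)) (.node (.leaf 31348760) (.leaf 530696))) (.node (.node (.leaf 4562090) (.leaf 29071185)) (.node (.leaf 27528316) (.leaf 25872845)))))))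

/-- A point of the block, part 170. -/
def ptCodePart170 : Janko1.Tree ℕ := (.node (.node (.node (.node (.node (.node (.leaf 26363928) (.leaf 2625945)) (.node (.leaf 6427477) (.leaf 31348800))) (.node (.node (.leaf 3252357) (.leaf 8177388)) (.node (.leaf 16728925) (.leaf 32284454)))) (.node (.node (.node (.leaf 16490684) (.leaf 25877893)) (.node (.leaf 31343981) (.leaf 8492181))) (.node (.node (.leaf 13358052) (.leaf 32983533)) (.node (.leaf 18144648) (.leaf 31720948))))) (.node (.node (.node (.node (.leaf 1970149) (.leaf 32579882)) (.node (.leaf 6347537) (.leaf 7753964))) (.node (.node (.leaf 1903482) (.leaf 29449184)) (.node (.leaf 33628377) (.leaf 5496180)))) (.node (.node (.node (.leaf 22731650) (.leaf 8052908)) (.node (.leaf 29628121) (.leaf 6422937))) (.node (.node (.leaf 29253790) (.leaf 1999669)) (.node (.leaf 1788468) (.leaf 16488173)))))) (.node (.node (.node (.node (.node (.leaf 31888786) (.leaf 32349600)) (.node (.leaf 2558093) (.leaf 16711764))) (.node (.node (.leaf 22290401) (.leaf 12095840))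 (.node (.leaf 986805) (.leaf 6921966)))) (.node (.node (.node (.leaf 33623269) (.leaf 4380329)) (.node (.leaf 31034973) (.leaf 19913948))) (.node (.node (.leaf 1901770) (.leaf 10109089)) (.node (.leaf 12026288) (.leaf 1481790))))) (.node (.node (.node (.node (.leaf 6916758) (.leaf 32342846)) (.node (.leaf 25006773) (.leaf 34887153))) (.node (.node (.leaf 6577717) (.leaf 32349733)) (.node (.leaf 2006074) (.leaf 32572437)))) (.node (.node (.node (.leaf 6063062) (.leaf 22009236)) (.node (.leaf 17009886) (.leaf 34397757))) (.node (.node (.leaf 30688693) (.leaf 31547213)) (.node (.leaf 14093370) (.leaf 34495386)))))))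

/-- A point of the block, part 171. -/
def ptCodePart171 : Janko1.Tree ℕ := (.node (.node (.node (.node (.node (.node (.leaf 29065438) (.leaf 22009657)) (.node (.leaf 6918466) (.leaf 3757209))) (.node (.node (.leaf 13386005) (.leaf 6341465)) (.node (.leaf 8280685) (.leaf 8180282)))) (.node (.node (.node (.leaf 10623708) (.leaf 7230836)) (.node (.leaf 26235548) (.leaf 19484854))) (.node (.node (.leaf 28591681) (.leaf 30197761)) (.node (.leaf 30774496) (.leaf 24286328))))) (.node (.node (.node (.node (.leaf 28581996) (.leaf 11095421)) (.node (.leaf 7757272) (.leaf 20192673))) (.node (.node (.leaf 2383494) (.leaf 27525813)) (.node (.leaf 19749644) (.leaf 15392429)))) (.node (.node (.node (.leaf 28234688) (.leaf 4017304)) (.node (.leaf 31034148) (.leaf 19551770))) (.node (.node (.leaf 18095281) (.leaf 26499869)) (.node (.leaf 31719641) (.leaf 14555480)))))) (.node (.node (.node (.node (.node (.leaf 6102501) (.leaf 2624468)) (.node (.leaf 2622274) (.leaf 13213709))) (.node (.node (.leaf 29071484) (.leaf 15944089))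 (.node (.leaf 1137377) (.leaf 28579661)))) (.node (.node (.node (.leaf 18144565) (.leaf 33555612)) (.node (.leaf 29693885) (.leaf 26204650))) (.node (.node (.leaf 16435762) (.leaf 34423086)) (.node (.leaf 31349620) (.leaf 30204249))))) (.node (.node (.node (.node (.leaf 22009506) (.leaf 14357348)) (.node (.leaf 990093) (.leaf 7752580))) (.node (.node (.leaf 17272169) (.leaf 15045288)) (.node (.leaf 1790990) (.leaf 1970893)))) (.node (.node (.node (.leaf 19750022) (.leaf 13766824)) (.node (.leaf 984013) (.leaf 18663812))) (.node (.node (.leaf 9785422) (.leaf 33085392)) (.node (.leaf 34885214) (.leaf 12025886)))))))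

/-- A point of the block, part 172. -/
def ptCodePart172 : Janko1.Tree ℕ := (.node (.node (.node (.node (.node (.node (.leaf 34429410) (.leaf 28594204)) (.node (.leaf 11097054) (.leaf 13354348))) (.node (.node (.leaf 25479453) (.leaf 5054122)) (.node (.leaf 19618289) (.leaf 14076990)))) (.node (.node (.node (.leaf 20273788) (.leaf 18662073)) (.node (.leaf 2770277) (.leaf 30201140))) (.node (.node (.leaf 13765926) (.leaf 25955540)) (.node (.leaf 17359173) (.leaf 9667064))))) (.node (.node (.node (.node (.leaf 3167073) (.leaf 23860181)) (.node (.leaf 28958573) (.leaf 13960561))) (.node (.node (.leaf 33655885) (.leaf 15930741)) (.node (.leaf 1575873) (.leaf 19366134)))) (.node (.node (.node (.leaf 31017557) (.leaf 24937977)) (.node (.leaf 33200022) (.leaf 9331000))) (.node (.node (.leaf 27611546) (.leaf 6954185)) (.node (.leaf 4591361) (.leaf 10010809)))))) (.node (.node (.node (.node (.node (.leaf 26662098) (.leaf 28954114)) (.node (.leaf 28957981) (.leaf 30937662))) (.node (.node (.leaf 25007472) (.leaf 24630296))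 (.node (.leaf 33194362) (.leaf 25632446)))) (.node (.node (.node (.leaf 18792636) (.leaf 8064157)) (.node (.leaf 13960328) (.leaf 8886613))) (.node (.node (.leaf 25009372) (.leaf 16992742)) (.node (.leaf 33200816) (.leaf 30040105))))) (.node (.node (.node (.node (.leaf 18680642) (.leaf 18680217)) (.node (.leaf 16794996) (.leaf 17797529))) (.node (.node (.leaf 30526446) (.leaf 20306876)) (.node (.leaf 20305444) (.leaf 3788133)))) (.node (.node (.node (.leaf 26647377) (.leaf 20531398)) (.node (.leaf 29557098) (.leaf 35193394))) (.node (.node (.leaf 26171286) (.leaf 10011480)) (.node (.leaf 24629592) (.leaf 1431749)))))))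

/-- A point of the block, part 173. -/
def ptCodePart173 : Janko1.Tree ℕ := (.node (.node (.node (.node (.node (.node (.leaf 16522001) (.leaf 2431097)) (.node (.leaf 13289273) (.leaf 33786208))) (.node (.node (.leaf 30743334) (.leaf 26660418)) (.node (.leaf 17800021) (.leaf 10010910)))) (.node (.node (.node (.leaf 8408969) (.leaf 29591534)) (.node (.leaf 3645556) (.leaf 3736016))) (.node (.node (.leaf 24616760) (.leaf 28479810)) (.node (.leaf 15915202) (.leaf 34693074))))) (.node (.node (.node (.node (.leaf 22534662) (.leaf 20193338)) (.node (.leaf 20254332) (.leaf 26908480))) (.node (.node (.leaf 13502516) (.leaf 25630198)) (.node (.leaf 22530108) (.leaf 28480953)))) (.node (.node (.node (.leaf 15915568) (.leaf 27329838)) (.node (.leaf 33265804) (.leaf 34964532))) (.node (.node (.leaf 30940733) (.leaf 18665025)) (.node (.leaf 26106454) (.leaf 20537606)))))) (.node (.node (.node (.node (.node (.leaf 15049133) (.leaf 23481412)) (.node (.leaf 22534092) (.leaf 33824028))) (.node (.node (.leaf 19633626) (.leaf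 25005929)) (.node (.leaf 3639758) (.leaf 9985637)))) (.node (.node (.node (.leaf 29591078) (.leaf 32168436)) (.node (.leaf 5571390) (.leaf 33230568))) (.node (.node (.leaf 22536062) (.leaf 4277660)) (.node (.leaf 26664578) (.leaf 5048494))))) (.node (.node (.node (.node (.leaf 13307725) (.leaf 3743593)) (.node (.leaf 21253840) (.leaf 33200613))) (.node (.node (.leaf 19013412) (.leaf 21823788)) (.node (.leaf 13224093) (.leaf 21369354)))) (.node (.node (.node (.leaf 154938) (.leaf 20306272)) (.node (.leaf 12147722) (.leaf 14458476))) (.node (.node (.leaf 14343388) (.leaf 10028629)) (.node (.leaf 13290956) (.leaf 20617581)))))))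

/-- A point of the block, part 174. -/
def ptCodePart174 : Janko1.Tree ℕ := (.node (.node (.node (.node (.node (.node (.leaf 17237445) (.leaf 27269354)) (.node (.leaf 32465034) (.leaf 6948733))) (.node (.node (.leaf 33201482) (.leaf 16483849)) (.node (.leaf 26660869) (.leaf 24612318)))) (.node (.node (.node (.leaf 23746650) (.leaf 4131937)) (.node (.leaf 5087248) (.leaf 34362538))) (.node (.node (.leaf 30741894) (.leaf 18665341)) (.node (.leaf 19366425) (.leaf 19011962))))) (.node (.node (.node (.node (.leaf 33196553) (.leaf 8064434)) (.node (.leaf 35199733) (.leaf 33197389))) (.node (.node (.leaf 20468349) (.leaf 21126005)) (.node (.leaf 889156) (.leaf 6719456)))) (.node (.node (.node (.leaf 23483644) (.leaf 15930477)) (.node (.leaf 11815977) (.leaf 26202585))) (.node (.node (.leaf 28999712) (.leaf 153762)) (.node (.leaf 30498412) (.leaf 29595528)))))) (.node (.node (.node (.node (.node (.leaf 2425372) (.leaf 2792952)) (.node (.leaf 5872757) (.leaf 34298153))) (.node (.node (.leaf 27155060) (.leaf 29590052))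 (.node (.leaf 6886565) (.leaf 14453344)))) (.node (.node (.node (.leaf 23813824) (.leaf 10489061)) (.node (.leaf 15011258) (.leaf 21254453))) (.node (.node (.leaf 18897272) (.leaf 18669466)) (.node (.leaf 33234545) (.leaf 15909342))))) (.node (.node (.node (.node (.leaf 34968445) (.leaf 4132217)) (.node (.leaf 35196624) (.leaf 3741992))) (.node (.node (.leaf 14457636) (.leaf 6886824)) (.node (.leaf 2426420) (.leaf 33259952)))) (.node (.node (.node (.leaf 16521281) (.leaf 7560548)) (.node (.leaf 28729324) (.leaf 27298593))) (.node (.node (.leaf 16991820) (.leaf 18794454)) (.node (.leaf 1574305) (.leaf 27759132)))))))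

/-- A point of the block, part 175. -/
def ptCodePart175 : Janko1.Tree ℕ := (.node (.node (.node (.node (.node (.node (.leaf 27613213) (.leaf 31020921)) (.node (.leaf 9897928) (.leaf 16519472))) (.node (.node (.leaf 7559560) (.leaf 219922)) (.node (.leaf 1431010) (.leaf 12913240)))) (.node (.node (.node (.leaf 19013216) (.leaf 28951740)) (.node (.leaf 220242) (.leaf 11814424))) (.node (.node (.leaf 17929880) (.leaf 20255482)) (.node (.leaf 13223645) (.leaf 13327920))))) (.node (.node (.node (.node (.leaf 5823101) (.leaf 13308061)) (.node (.leaf 22925476) (.leaf 24613162))) (.node (.node (.leaf 25151953) (.leaf 2949944)) (.node (.leaf 4298597) (.leaf 15061950)))) (.node (.node (.node (.leaf 21119424) (.leaf 11555873)) (.node (.leaf 34885041) (.leaf 9981246))) (.node (.node (.leaf 11551629) (.leaf 12144966)) (.node (.leaf 18469869) (.leaf 18897753)))))) (.node (.node (.node (.node (.node (.leaf 12443257) (.leaf 9978188)) (.node (.leaf 34295857) (.leaf 21825741))) (.node (.node (.leaf 4132973) (.leaf 4571705))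 (.node (.leaf 12918766) (.leaf 25153882)))) (.node (.node (.node (.leaf 7621730) (.leaf 23778089)) (.node (.leaf 10490510) (.leaf 21258533))) (.node (.node (.leaf 8885160) (.leaf 1641645)) (.node (.leaf 19914546) (.leaf 24614465))))) (.node (.node (.node (.node (.leaf 8885940) (.leaf 4574852)) (.node (.leaf 20301321) (.leaf 6719968))) (.node (.node (.leaf 34364892) (.leaf 13504989)) (.node (.leaf 5869757) (.leaf 34295321)))) (.node (.node (.node (.leaf 30098476) (.leaf 28020524)) (.node (.leaf 10028610) (.leaf 16205984))) (.node (.node (.leaf 23814474) (.leaf 16209772)) (.node (.leaf 1642216) (.leaf 12681485)))))))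

/-- A point of the block, part 176. -/
def ptCodePart176 : Janko1.Tree ℕ := (.node (.node (.node (.node (.node (.node (.leaf 23811444) (.leaf 23781313)) (.node (.leaf 16500002) (.leaf 25155964))) (.node (.node (.leaf 26644889) (.leaf 18797421)) (.node (.leaf 5822545) (.leaf 6787597)))) (.node (.node (.node (.leaf 5873636) (.leaf 9901977)) (.node (.leaf 19011040) (.leaf 30493289))) (.node (.node (.leaf 7888744) (.leaf 34200390)) (.node (.leaf 15916573) (.leaf 35201398))))) (.node (.node (.node (.node (.leaf 5083608) (.leaf 6722361)) (.node (.leaf 5574949) (.leaf 28020493))) (.node (.node (.leaf 4136042) (.leaf 6952894)) (.node (.leaf 20468808) (.leaf 21124389)))) (.node (.node (.node (.leaf 20616277) (.leaf 5047906)) (.node (.leaf 27609484) (.leaf 4919060))) (.node (.node (.leaf 13306689) (.leaf 34685546)) (.node (.leaf 3953644) (.leaf 3952506)))))) (.node (.node (.node (.node (.node (.leaf 1575445) (.leaf 6718833)) (.node (.leaf 13293536) (.leaf 12145050))) (.node (.node (.leaf 3543162) (.leaf 28480148))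 (.node (.leaf 8886644) (.leaf 14451424)))) (.node (.node (.node (.leaf 34411168) (.leaf 33262013)) (.node (.leaf 13223118) (.leaf 2558110))) (.node (.node (.leaf 27610642) (.leaf 9985085)) (.node (.leaf 5821293) (.leaf 4293841))))) (.node (.node (.node (.node (.leaf 16159133) (.leaf 2949976)) (.node (.leaf 12146398) (.leaf 20185292))) (.node (.node (.leaf 26204774) (.leaf 19366870)) (.node (.leaf 20613808) (.leaf 3740580)))) (.node (.node (.node (.leaf 13320538) (.leaf 2427380)) (.node (.leaf 34885129) (.leaf 30498117))) (.node (.node (.leaf 7555454) (.leaf 4594212)) (.node (.leaf 12509476) (.leaf 19520588)))))))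

/-- A point of the block, part 177. -/
def ptCodePart177 : Janko1.Tree ℕ := (.node (.node (.node (.node (.node (.node (.leaf 30526026) (.leaf 34361213)) (.node (.leaf 15014698) (.leaf 18891482))) (.node (.node (.leaf 30526058) (.leaf 28821484)) (.node (.leaf 884868) (.leaf 6885585)))) (.node (.node (.node (.leaf 16208614) (.leaf 32005473)) (.node (.leaf 4592069) (.leaf 18139342))) (.node (.node (.leaf 34692906) (.leaf 3792838)) (.node (.leaf 13230210) (.leaf 6722330))))) (.node (.node (.node (.node (.leaf 16206618) (.leaf 4885478)) (.node (.leaf 30920740) (.leaf 27333958))) (.node (.node (.leaf 31021060) (.leaf 24123888)) (.node (.leaf 24265496) (.leaf 30919357)))) (.node (.node (.node (.leaf 18143238) (.leaf 9897164)) (.node (.leaf 868368) (.leaf 30564638))) (.node (.node (.leaf 24266410) (.leaf 28950941)) (.node (.leaf 24944666) (.leaf 13961401)))))) (.node (.node (.node (.node (.node (.leaf 28819606) (.leaf 23744142)) (.node (.leaf 19374096) (.leaf 28476466))) (.node (.node (.leaf 23479956) (.leaf 23781137))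 (.node (.leaf 22530660) (.leaf 31018376)))) (.node (.node (.node (.leaf 4917941) (.leaf 10028433)) (.node (.leaf 16473285) (.leaf 10027868))) (.node (.node (.leaf 26171800) (.leaf 34970996)) (.node (.leaf 5083945) (.leaf 33820193))))) (.node (.node (.node (.node (.leaf 25006625) (.leaf 3540225)) (.node (.leaf 27296610) (.leaf 16155022))) (.node (.node (.leaf 4594532) (.leaf 33968674)) (.node (.leaf 17566213) (.leaf 4885486)))) (.node (.node (.node (.leaf 33823658) (.leaf 30920108)) (.node (.leaf 12915194) (.leaf 7621404))) (.node (.node (.leaf 8887218) (.leaf 13328718)) (.node (.leaf 8408482) (.leaf 11558962)))))))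

/-- A point of the block, part 178. -/
def ptCodePart178 : Janko1.Tree ℕ := (.node (.node (.node (.node (.node (.node (.leaf 15057473) (.leaf 19517812)) (.node (.leaf 14337346) (.leaf 15933272))) (.node (.node (.leaf 27754574) (.leaf 20253796)) (.node (.leaf 8066149) (.leaf 32168661)))) (.node (.node (.node (.leaf 19519332) (.leaf 34183050)) (.node (.leaf 15878596) (.leaf 4293029))) (.node (.node (.leaf 26909401) (.leaf 29557730)) (.node (.leaf 8411544) (.leaf 30294413))))) (.node (.node (.node (.node (.leaf 27745641) (.leaf 1642344)) (.node (.leaf 13325324) (.leaf 5047869))) (.node (.node (.leaf 19634333) (.leaf 27329602)) (.node (.leaf 12681266) (.leaf 11552889)))) (.node (.node (.node (.leaf 24120636) (.leaf 20470117)) (.node (.leaf 6783474) (.leaf 18141405))) (.node (.node (.leaf 24936713) (.leaf 33740693)) (.node (.leaf 20533006) (.leaf 12918996)))))) (.node (.node (.node (.node (.node (.leaf 29561924) (.leaf 14342872)) (.node (.leaf 20469276) (.leaf 27755340))) (.node (.node (.leaf 4295506) (.leaf 26102236))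 (.node (.leaf 30039726) (.leaf 6179865)))) (.node (.node (.node (.leaf 29565336) (.leaf 12435580)) (.node (.leaf 22924328) (.leaf 15910860))) (.node (.node (.leaf 28726102) (.leaf 13963608)) (.node (.leaf 5818637) (.leaf 13306682))))) (.node (.node (.node (.node (.leaf 13305241) (.leaf 13309705)) (.node (.leaf 6723182) (.leaf 16502501))) (.node (.node (.leaf 20530024) (.leaf 26907306)) (.node (.leaf 18893934) (.leaf 30936345)))) (.node (.node (.node (.leaf 18138073) (.leaf 35070285)) (.node (.leaf 34247885) (.leaf 31375478))) (.node (.node (.leaf 4919182) (.leaf 9903594)) (.node (.leaf 25629490) (.leaf 33738718)))))))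

/-- A point of the block, part 179. -/
def ptCodePart179 : Janko1.Tree ℕ := (.node (.node (.node (.node (.node (.node (.leaf 20187252) (.leaf 30099508)) (.node (.leaf 11550964) (.leaf 20464822))) (.node (.node (.leaf 17572253) (.leaf 2790368)) (.node (.leaf 26198568) (.leaf 6179410)))) (.node (.node (.node (.leaf 9327028) (.leaf 25630128)) (.node (.leaf 33653177) (.leaf 19516322))) (.node (.node (.leaf 1643241) (.leaf 34685858)) (.node (.leaf 21829616) (.leaf 5079817))))) (.node (.node (.node (.node (.leaf 9977901) (.leaf 32000920)) (.node (.leaf 34243370) (.leaf 20534661))) (.node (.node (.leaf 18677776) (.leaf 155674)) (.node (.leaf 4283890) (.leaf 8408388)))) (.node (.node (.node (.leaf 34200957) (.leaf 13960902)) (.node (.leaf 2787082) (.leaf 18796925))) (.node (.node (.leaf 30035449) (.leaf 1578920)) (.node (.leaf 29596936) (.leaf 28952233)))))) (.node (.node (.node (.node (.node (.leaf 26107540) (.leaf 2426336)) (.node (.leaf 4135206) (.leaf 15043864))) (.node (.node (.leaf 8411504) (.leaf 5085500))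 (.node (.leaf 2560054) (.leaf 3948692)))) (.node (.node (.node (.leaf 1426212) (.leaf 15009213)) (.node (.leaf 16212272) (.leaf 10491557))) (.node (.node (.leaf 15925840) (.leaf 27336489)) (.node (.leaf 3546153) (.leaf 13500556))))) (.node (.node (.node (.node (.leaf 31379202) (.leaf 13288892)) (.node (.leaf 4576169) (.leaf 34687794))) (.node (.node (.leaf 16472944) (.leaf 16489180)) (.node (.leaf 18679437) (.leaf 34184424)))) (.node (.node (.node (.leaf 3645826) (.leaf 6181628)) (.node (.leaf 5870241) (.leaf 7625433))) (.node (.node (.leaf 27152942) (.leaf 148505)) (.node (.leaf 10619800) (.leaf 16162468)))))))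

/-- A point of the block, part 180. -/
def ptCodePart180 : Janko1.Tree ℕ := (.node (.node (.node (.node (.node (.node (.leaf 27053242) (.leaf 11672918)) (.node (.leaf 20530813) (.leaf 31022877))) (.node (.node (.leaf 35062562) (.leaf 11667416)) (.node (.leaf 16474256) (.leaf 15931362)))) (.node (.node (.node (.leaf 27760486) (.leaf 4574184)) (.node (.leaf 4838289) (.leaf 13224858))) (.node (.node (.leaf 34181140) (.leaf 16490294)) (.node (.leaf 29557078) (.leaf 30924432))))) (.node (.node (.node (.node (.leaf 5578620) (.leaf 26907210)) (.node (.leaf 27757329) (.leaf 17565253))) (.node (.node (.leaf 26172013) (.leaf 17242505)) (.node (.leaf 16473068) (.leaf 4278300)))) (.node (.node (.node (.leaf 16156158) (.leaf 25004893)) (.node (.leaf 20472126) (.leaf 1575704))) (.node (.node (.leaf 7880909) (.leaf 9520312)) (.node (.leaf 24940338) (.leaf 16205264)))))) (.node (.node (.node (.node (.node (.leaf 18472274) (.leaf 28821009)) (.node (.leaf 30100701) (.leaf 18187162))) (.node (.node (.leaf 13306276) (.leaf 27150782))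 (.node (.leaf 34884104) (.leaf 34967954)))) (.node (.node (.node (.leaf 6177046) (.leaf 17567477)) (.node (.leaf 28827466) (.leaf 4593885))) (.node (.node (.leaf 30103294) (.leaf 35068153)) (.node (.leaf 12918146) (.leaf 25009778))))) (.node (.node (.node (.node (.leaf 10293034) (.leaf 9523764)) (.node (.leaf 16485578) (.leaf 32002596))) (.node (.node (.leaf 12147120) (.leaf 868365)) (.node (.leaf 3644252) (.leaf 12689584)))) (.node (.node (.node (.leaf 16485457) (.leaf 18467120)) (.node (.leaf 3955221) (.leaf 24125501))) (.node (.node (.leaf 4572437) (.leaf 24936737)) (.node (.leaf 23483661) (.leaf 12437393)))))))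

/-- A point of the block, part 181. -/
def ptCodePart181 : Janko1.Tree ℕ := (.node (.node (.node (.node (.node (.node (.leaf 34248602) (.leaf 24264934)) (.node (.leaf 16468132) (.leaf 15878266))) (.node (.node (.leaf 9985877) (.leaf 153384)) (.node (.leaf 8883285) (.leaf 35069902)))) (.node (.node (.node (.leaf 1579697) (.leaf 13328120)) (.node (.leaf 8068641) (.leaf 33737822))) (.node (.node (.leaf 33939318) (.leaf 16797264)) (.node (.leaf 23778486) (.leaf 219425))))) (.node (.node (.node (.node (.leaf 28725473) (.leaf 6785014)) (.node (.leaf 4297277) (.leaf 23483613))) (.node (.node (.leaf 30496081) (.leaf 33968186)) (.node (.leaf 21252114) (.leaf 21253006)))) (.node (.node (.node (.leaf 30941456) (.leaf 3955237)) (.node (.leaf 26100802) (.leaf 25156884))) (.node (.node (.leaf 10297738) (.leaf 5820861)) (.node (.leaf 35061932) (.leaf 24609538)))))) (.node (.node (.node (.node (.node (.leaf 20303838) (.leaf 30301398)) (.node (.leaf 11554093) (.leaf 11667882))) (.node (.node (.leaf 30300201) (.leaf 7555597))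 (.node (.leaf 2562724) (.leaf 30102473)))) (.node (.node (.node (.leaf 26644334) (.leaf 11815241)) (.node (.leaf 27058229) (.leaf 33652938))) (.node (.node (.leaf 29590097) (.leaf 18892704)) (.node (.leaf 22528501) (.leaf 7886145))))) (.node (.node (.node (.node (.leaf 12912514) (.leaf 32460906)) (.node (.leaf 893250) (.leaf 26169245))) (.node (.node (.leaf 5054732) (.leaf 3954804)) (.node (.leaf 4891029) (.leaf 30524612)))) (.node (.node (.node (.leaf 30737892) (.leaf 28723060)) (.node (.leaf 2793694) (.leaf 10016809))) (.node (.node (.leaf 4915402) (.leaf 874893)) (.node (.leaf 32463176) (.leaf 5575968)))))))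

/-- A point of the block, part 182. -/
def ptCodePart182 : Janko1.Tree ℕ := (.node (.node (.node (.node (.node (.node (.leaf 34884182) (.leaf 25151785)) (.node (.leaf 29589950) (.leaf 33816949))) (.node (.node (.leaf 33658637) (.leaf 34409460)) (.node (.leaf 7884997) (.leaf 9522364)))) (.node (.node (.node (.leaf 22923926) (.leaf 17569600)) (.node (.leaf 31016472) (.leaf 15914030))) (.node (.node (.leaf 12440298) (.leaf 23744718)) (.node (.leaf 24941861) (.leaf 2954376))))) (.node (.node (.node (.node (.leaf 6429257) (.leaf 34299724)) (.node (.leaf 35201169) (.leaf 4889126))) (.node (.node (.leaf 34181320) (.leaf 3743958)) (.node (.leaf 10010864) (.leaf 20193616)))) (.node (.node (.node (.leaf 28019054) (.leaf 4573382)) (.node (.leaf 18187568) (.leaf 34363628))) (.node (.node (.leaf 154917) (.leaf 15044398)) (.node (.leaf 874586) (.leaf 34292722)))))) (.node (.node (.node (.node (.node (.leaf 6790224) (.leaf 16155232)) (.node (.leaf 384506) (.leaf 9486442))) (.node (.node (.leaf 4134072) (.leaf 35198032))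 (.node (.leaf 27740364) (.leaf 30563294)))) (.node (.node (.node (.leaf 31019397) (.leaf 10491116)) (.node (.leaf 24266137) (.leaf 16801381))) (.node (.node (.leaf 34248400) (.leaf 23807164)) (.node (.leaf 4575324) (.leaf 29562320))))) (.node (.node (.node (.node (.leaf 26906260) (.leaf 9492441)) (.node (.leaf 12502608) (.leaf 17242901))) (.node (.node (.leaf 2788926) (.leaf 33790745)) (.node (.leaf 30937448) (.leaf 30491070)))) (.node (.node (.node (.leaf 5053369) (.leaf 4277985)) (.node (.leaf 381053) (.leaf 11672482))) (.node (.node (.leaf 7554412) (.leaf 16210936)) (.node (.leaf 26005249) (.leaf 23781676)))))))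

/-- A point of the block, part 183. -/
def ptCodePart183 : Janko1.Tree ℕ := (.node (.node (.node (.node (.node (.node (.leaf 33260090) (.leaf 27265242)) (.node (.leaf 24268837) (.leaf 886370))) (.node (.node (.leaf 14453301) (.leaf 3784897)) (.node (.leaf 20535658) (.leaf 5573942)))) (.node (.node (.node (.leaf 12486902) (.leaf 1427958)) (.node (.leaf 3539650) (.leaf 16520406))) (.node (.node (.leaf 32463602) (.leaf 20531300)) (.node (.leaf 17928460) (.leaf 23742236))))) (.node (.node (.node (.node (.leaf 14336589) (.leaf 4298358)) (.node (.leaf 33967362) (.leaf 27333832))) (.node (.node (.leaf 33935538) (.leaf 5824637)) (.node (.leaf 32463149) (.leaf 6888180)))) (.node (.node (.node (.leaf 873209) (.leaf 34245234)) (.node (.leaf 30032200) (.leaf 3540512))) (.node (.node (.leaf 33937318) (.leaf 20258676)) (.node (.leaf 4886562) (.leaf 29560554)))))) (.node (.node (.node (.node (.node (.leaf 24627086) (.leaf 18680829)) (.node (.leaf 26004825) (.leaf 26201626))) (.node (.node (.leaf 23808588) (.leaf 16996146))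 (.node (.leaf 6430293) (.leaf 34297637)))) (.node (.node (.node (.leaf 25153381) (.leaf 18188822)) (.node (.leaf 30558160) (.leaf 18897030))) (.node (.node (.leaf 19008576) (.leaf 25631741)) (.node (.leaf 13310521) (.leaf 26007389))))) (.node (.node (.node (.node (.leaf 31378750) (.leaf 2951909)) (.node (.leaf 24610622) (.leaf 15064842))) (.node (.node (.leaf 4595117) (.leaf 31379114)) (.node (.leaf 10624884) (.leaf 31378746)))) (.node (.node (.node (.leaf 34969373) (.leaf 27746181)) (.node (.leaf 35197272) (.leaf 13325573))) (.node (.node (.leaf 384634) (.leaf 7626388)) (.node (.leaf 17793032) (.leaf 7885809)))))))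

/-- A point of the block, part 184. -/
def ptCodePart184 : Janko1.Tree ℕ := (.node (.node (.node (.node (.node (.node (.leaf 28999765) (.leaf 33972188)) (.node (.leaf 27744452) (.leaf 23744606))) (.node (.node (.leaf 6718952) (.leaf 34183800)) (.node (.leaf 1433986) (.leaf 17927725)))) (.node (.node (.node (.leaf 2957044) (.leaf 21831798)) (.node (.leaf 1645149) (.leaf 28481516))) (.node (.node (.leaf 16801628) (.leaf 30302349)) (.node (.leaf 31998986) (.leaf 33230224))))) (.node (.node (.node (.node (.leaf 19006144) (.leaf 27300190)) (.node (.leaf 26910173) (.leaf 25628880))) (.node (.node (.leaf 26198797) (.leaf 16155674)) (.node (.leaf 4841777) (.leaf 34886038)))) (.node (.node (.node (.leaf 9491382) (.leaf 6429957)) (.node (.leaf 12502809) (.leaf 34365036))) (.node (.node (.leaf 33657594) (.leaf 23744848)) (.node (.leaf 2949705) (.leaf 20186745)))))) (.node (.node (.node (.node (.node (.leaf 21366361) (.leaf 16506354)) (.node (.leaf 24117697) (.leaf 12487436))) (.node (.node (.leaf 13328401) (.leaf 15045136))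 (.node (.leaf 20253264) (.leaf 4923790)))) (.node (.node (.node (.leaf 13290722) (.leaf 19009212)) (.node (.leaf 18799020) (.leaf 35066260))) (.node (.node (.leaf 14458602) (.leaf 11552969)) (.node (.leaf 27755986) (.leaf 26648078))))) (.node (.node (.node (.node (.leaf 21251172) (.leaf 4884454)) (.node (.leaf 16794945) (.leaf 34248764))) (.node (.node (.leaf 26909533) (.leaf 12442686)) (.node (.leaf 9490660) (.leaf 35197288)))) (.node (.node (.node (.leaf 26904686) (.leaf 34198576)) (.node (.leaf 34968382) (.leaf 21825361))) (.node (.node (.leaf 6423940) (.leaf 20614628)) (.node (.leaf 9329669) (.leaf 35062710)))))))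

/-- A point of the block, part 185. -/
def ptCodePart185 : Janko1.Tree ℕ := (.node (.node (.node (.node (.node (.node (.leaf 22533204) (.leaf 30936633)) (.node (.leaf 32457086) (.leaf 26659637))) (.node (.node (.leaf 21254412) (.leaf 16471505)) (.node (.leaf 19515749) (.leaf 19519288)))) (.node (.node (.node (.leaf 9329558) (.leaf 9331073)) (.node (.leaf 18684740) (.leaf 34970288))) (.node (.node (.leaf 4276798) (.leaf 18466172)) (.node (.leaf 33817902) (.leaf 27270378))))) (.node (.node (.node (.node (.leaf 34198233) (.leaf 17242461)) (.node (.leaf 8069268) (.leaf 1432048))) (.node (.node (.leaf 19008273) (.leaf 15048597)) (.node (.leaf 15047097) (.leaf 5821052)))) (.node (.node (.node (.leaf 32004781) (.leaf 15058084)) (.node (.leaf 30918284) (.leaf 2950517))) (.node (.node (.leaf 33654694) (.leaf 3738669)) (.node (.leaf 5871329) (.leaf 19912802)))))) (.node (.node (.node (.node (.node (.leaf 32006201) (.leaf 4134342)) (.node (.leaf 30526450) (.leaf 15064962))) (.node (.node (.leaf 10294602) (.leaf 28023241))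 (.node (.leaf 4151702) (.leaf 30934274)))) (.node (.node (.node (.leaf 18662842) (.leaf 24633626)) (.node (.leaf 4890266) (.leaf 26102426))) (.node (.node (.leaf 28481622) (.leaf 28481197)) (.node (.leaf 26009734) (.leaf 29004404))))) (.node (.node (.node (.node (.leaf 34408001) (.leaf 12440350)) (.node (.leaf 20306121) (.leaf 7556980))) (.node (.node (.leaf 15877021) (.leaf 27156285)) (.node (.leaf 33742556) (.leaf 4839946)))) (.node (.node (.node (.leaf 6952653) (.leaf 24936629)) (.node (.leaf 21365697) (.leaf 12685354))) (.node (.node (.leaf 30530350) (.leaf 20619393)) (.node (.leaf 30493652) (.leaf 14342516)))))))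

/-- A point of the block, part 186. -/
def ptCodePart186 : Janko1.Tree ℕ := (.node (.node (.node (.node (.node (.node (.leaf 8609850) (.leaf 10290901)) (.node (.leaf 15016249) (.leaf 10032826))) (.node (.node (.leaf 17793525) (.leaf 12145368)) (.node (.leaf 2789697) (.leaf 14453188)))) (.node (.node (.node (.leaf 6889521) (.leaf 34363761)) (.node (.leaf 33653226) (.leaf 9488113))) (.node (.node (.leaf 7559672) (.leaf 34888782)) (.node (.leaf 17239042) (.leaf 27149786))))) (.node (.node (.node (.node (.leaf 6723917) (.leaf 33735497)) (.node (.leaf 8884462) (.leaf 4149265))) (.node (.node (.leaf 27302194) (.leaf 8607992)) (.node (.leaf 32162938) (.leaf 12912578)))) (.node (.node (.node (.leaf 23746654) (.leaf 27056049)) (.node (.leaf 4573821) (.leaf 27608704))) (.node (.node (.leaf 24124650) (.leaf 16991906)) (.node (.leaf 34244885) (.leaf 26202628)))))) (.node (.node (.node (.node (.node (.leaf 30038065) (.leaf 15930974)) (.node (.leaf 16501598) (.leaf 28822817))) (.node (.node (.leaf 24270266) (.leaf 3791386))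 (.node (.leaf 25149496) (.leaf 24616458)))) (.node (.node (.node (.leaf 10294193) (.leaf 12492685)) (.node (.leaf 1642485) (.leaf 1645016))) (.node (.node (.leaf 27295828) (.leaf 8406128)) (.node (.leaf 33234277) (.leaf 30556178))))) (.node (.node (.node (.node (.leaf 12683670) (.leaf 34196037)) (.node (.leaf 30923456) (.leaf 17927994))) (.node (.node (.leaf 28018984) (.leaf 30923668)) (.node (.leaf 23485952) (.leaf 33226838)))) (.node (.node (.node (.leaf 3543372) (.leaf 33261545)) (.node (.leaf 4147132) (.leaf 6953910))) (.node (.node (.leaf 15876906) (.leaf 20465164)) (.node (.leaf 872877) (.leaf 33821922)))))))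

/-- A point of the block, part 187. -/
def ptCodePart187 : Janko1.Tree ℕ := (.node (.node (.node (.node (.node (.node (.leaf 19636666) (.leaf 33735098)) (.node (.leaf 23807886) (.leaf 377410))) (.node (.node (.leaf 13966281) (.leaf 32464666)) (.node (.leaf 6888864) (.leaf 27055273)))) (.node (.node (.node (.leaf 10018968) (.leaf 15062402)) (.node (.leaf 155568) (.leaf 13503641))) (.node (.node (.leaf 33261970) (.leaf 7623828)) (.node (.leaf 13963849) (.leaf 19634228))))) (.node (.node (.node (.node (.leaf 213998) (.leaf 19519581)) (.node (.leaf 16502997) (.leaf 5573141))) (.node (.node (.leaf 4839702) (.leaf 17924341)) (.node (.leaf 30744582) (.leaf 6884090)))) (.node (.node (.node (.leaf 6884442) (.leaf 28950906)) (.node (.leaf 9494562) (.leaf 19520684))) (.node (.node (.leaf 3742904) (.leaf 4587694)) (.node (.leaf 18891897) (.leaf 3641480)))))) (.node (.node (.node (.node (.node (.leaf 32166088) (.leaf 21368669)) (.node (.leaf 32164356) (.leaf 2949572))) (.node (.node (.leaf 16798593) (.leaf 20188256))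 (.node (.leaf 24633561) (.leaf 26100074)))) (.node (.node (.node (.leaf 20302236) (.leaf 16995653)) (.node (.leaf 10621564) (.leaf 30105178))) (.node (.node (.leaf 20259205) (.leaf 872873)) (.node (.leaf 30302418) (.leaf 22531625))))) (.node (.node (.node (.node (.leaf 19909660) (.leaf 3954157)) (.node (.leaf 25155452) (.leaf 32163058))) (.node (.node (.leaf 20259149) (.leaf 18140066)) (.node (.leaf 6428710) (.leaf 28727304)))) (.node (.node (.node (.leaf 21366090) (.leaf 8061489)) (.node (.leaf 9984014) (.leaf 18193644))) (.node (.node (.leaf 30301630) (.leaf 14454557)) (.node (.leaf 10617338) (.leaf 33972432)))))))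

/-- A point of the block, part 188. -/
def ptCodePart188 : Janko1.Tree ℕ := (.node (.node (.node (.node (.node (.node (.leaf 33737232) (.leaf 4922597)) (.node (.leaf 4133689) (.leaf 33821013))) (.node (.node (.leaf 3785976) (.leaf 26199492)) (.node (.leaf 26171621) (.leaf 5572420)))) (.node (.node (.node (.leaf 10487488) (.leaf 26107528)) (.node (.leaf 18139181) (.leaf 29563217))) (.node (.node (.leaf 870481) (.leaf 9325212)) (.node (.leaf 27740304) (.leaf 6181617))))) (.node (.node (.node (.node (.leaf 15047086) (.leaf 21369072)) (.node (.leaf 4283032) (.leaf 27150298))) (.node (.node (.leaf 33226934) (.leaf 13502105)) (.node (.leaf 32164448) (.leaf 30499036)))) (.node (.node (.node (.leaf 24118021) (.leaf 7880716)) (.node (.leaf 34691370) (.leaf 15063172))) (.node (.node (.leaf 20189148) (.leaf 28822621)) (.node (.leaf 15040557) (.leaf 5820793)))))) (.node (.node (.node (.node (.node (.leaf 17236949) (.leaf 23742402)) (.node (.leaf 5574464) (.leaf 8603148))) (.node (.node (.leaf 20188664) (.leaf 379176))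 (.node (.leaf 9325841) (.leaf 13289528)))) (.node (.node (.node (.leaf 34886665) (.leaf 32165409)) (.node (.leaf 9329186) (.leaf 6183992))) (.node (.node (.leaf 30301718) (.leaf 26646308)) (.node (.leaf 30040050) (.leaf 24611608))))) (.node (.node (.node (.node (.leaf 4294866) (.leaf 6423728)) (.node (.leaf 26645693) (.leaf 6954750))) (.node (.node (.leaf 34180678) (.leaf 16516338)) (.node (.leaf 18465981) (.leaf 30919509)))) (.node (.node (.node (.leaf 3737689) (.leaf 33199009)) (.node (.leaf 214353) (.leaf 2560081))) (.node (.node (.leaf 26641765) (.leaf 5080298)) (.node (.leaf 6947189) (.leaf 28726046)))))))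

/-- A point of the block, part 189. -/
def ptCodePart189 : Janko1.Tree ℕ := (.node (.node (.node (.node (.node (.node (.leaf 377158) (.leaf 7888050)) (.node (.leaf 34201001) (.leaf 20616165))) (.node (.node (.leaf 21121724) (.leaf 21120617)) (.node (.leaf 14343758) (.leaf 16482341)))) (.node (.node (.node (.leaf 12509537) (.leaf 33785636)) (.node (.leaf 28021548) (.leaf 21826968))) (.node (.node (.leaf 19913900) (.leaf 34295206)) (.node (.leaf 19632740) (.leaf 8601888))))) (.node (.node (.node (.node (.leaf 9521273) (.leaf 9519337)) (.node (.leaf 9902638) (.leaf 26206117))) (.node (.node (.leaf 18188590) (.leaf 33970682)) (.node (.leaf 26003890) (.leaf 4284357)))) (.node (.node (.node (.leaf 26660010) (.leaf 28019510)) (.node (.leaf 22929764) (.leaf 12487309))) (.node (.node (.leaf 12440076) (.leaf 27744325)) (.node (.leaf 22929289) (.leaf 12488064)))))) (.node (.node (.node (.node (.node (.leaf 380516) (.leaf 27056452)) (.node (.leaf 6789804) (.leaf 24268573))) (.node (.node (.leaf 3788381) (.leaf 13508200))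 (.node (.leaf 27298093) (.leaf 15015838)))) (.node (.node (.node (.leaf 3543226) (.leaf 2563429)) (.node (.leaf 3543464) (.leaf 4839262))) (.node (.node (.leaf 8607836) (.leaf 9897566)) (.node (.leaf 27053868) (.leaf 22925032))))) (.node (.node (.node (.node (.leaf 5871072) (.leaf 33970130)) (.node (.leaf 11817864) (.leaf 18191349))) (.node (.node (.leaf 22923753) (.leaf 6427005)) (.node (.leaf 12502977) (.leaf 28475474)))) (.node (.node (.node (.leaf 29006968) (.leaf 27608936)) (.node (.leaf 12492140) (.leaf 4840436))) (.node (.node (.leaf 30294124) (.leaf 27738812)) (.node (.leaf 33228712) (.leaf 8609826)))))))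

/-- A point of the block, part 190. -/
def ptCodePart190 : Janko1.Tree ℕ := (.node (.node (.node (.node (.node (.node (.leaf 33265190) (.leaf 7620044)) (.node (.leaf 11816598) (.leaf 19636508))) (.node (.node (.leaf 13321962) (.leaf 27155678)) (.node (.leaf 34409710) (.leaf 34883064)))) (.node (.node (.node (.leaf 16796868) (.leaf 2425121)) (.node (.leaf 17570908) (.leaf 14337866))) (.node (.node (.leaf 12689748) (.leaf 20617217)) (.node (.leaf 19910713) (.leaf 13229160))))) (.node (.node (.node (.node (.leaf 21124708) (.leaf 10034624)) (.node (.leaf 18145409) (.leaf 16518733))) (.node (.node (.leaf 18470856) (.leaf 17238137)) (.node (.leaf 16470625) (.leaf 10297556)))) (.node (.node (.node (.leaf 29003196) (.leaf 21250256)) (.node (.leaf 25004824) (.leaf 33234681))) (.node (.node (.leaf 893098) (.leaf 10296358)) (.node (.leaf 1577866) (.leaf 23780177)))))) (.node (.node (.node (.node (.node (.leaf 13227449) (.leaf 10493373)) (.node (.leaf 34413264) (.leaf 25630980))) (.node (.node (.leaf 2789370) (.leaf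 34183118)) (.node (.leaf 15916349) (.leaf 33790418)))) (.node (.node (.node (.leaf 11557180) (.leaf 12486106)) (.node (.leaf 24633598) (.leaf 13505502))) (.node (.node (.leaf 2786316) (.leaf 33966688)) (.node (.leaf 1428725) (.leaf 9899477))))) (.node (.node (.node (.node (.leaf 16501901) (.leaf 23810204)) (.node (.leaf 4841176) (.leaf 17926710))) (.node (.node (.leaf 7560125) (.leaf 19636634)) (.node (.leaf 7883045) (.leaf 27149144)))) (.node (.node (.node (.leaf 26105294) (.leaf 15015552)) (.node (.leaf 17238068) (.leaf 19370321))) (.node (.node (.leaf 16505596) (.leaf 12912689)) (.node (.leaf 30558250) (.leaf 30741118)))))))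

/-- A point of the block, part 191. -/
def ptCodePart191 : Janko1.Tree ℕ := (.node (.node (.node (.node (.node (.node (.leaf 12687329) (.leaf 26170362)) (.node (.leaf 18666889) (.leaf 13291842))) (.node (.node (.leaf 34359658) (.leaf 18668773)) (.node (.leaf 10011604) (.leaf 889440)))) (.node (.node (.node (.leaf 16801056) (.leaf 2432748)) (.node (.leaf 26662169) (.leaf 12147750))) (.node (.node (.leaf 25626438) (.leaf 10487197)) (.node (.leaf 20307750) (.leaf 24265809))))) (.node (.node (.node (.node (.leaf 6785854) (.leaf 31020690)) (.node (.leaf 15878616) (.leaf 25005358))) (.node (.node (.leaf 18800873) (.leaf 15925421)) (.node (.leaf 12508088) (.leaf 6177457)))) (.node (.node (.node (.leaf 27268402) (.leaf 19372941)) (.node (.leaf 7937668) (.leaf 18981261))) (.node (.node (.leaf 7936164) (.leaf 18434965)) (.node (.leaf 4702532) (.leaf 7229118)))))) (.node (.node (.node (.node (.node (.leaf 13077658) (.leaf 18437012)) (.node (.leaf 7228829) (.leaf 4002605))) (.node (.node (.leaf 28664130) (.leaf 11437086))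 (.node (.leaf 26263788) (.leaf 13273677)))) (.node (.node (.node (.leaf 29475292) (.leaf 13076598)) (.node (.leaf 8700017) (.leaf 13074832))) (.node (.node (.leaf 13078338) (.leaf 17489606)) (.node (.leaf 14782994) (.leaf 7937861))))) (.node (.node (.node (.node (.leaf 7296021) (.leaf 7295869)) (.node (.leaf 30759362) (.leaf 29082496))) (.node (.node (.leaf 29840825) (.leaf 2971716)) (.node (.leaf 17981421) (.leaf 17832480)))) (.node (.node (.node (.leaf 22776406) (.leaf 6095373)) (.node (.leaf 29476622) (.leaf 4833356))) (.node (.node (.leaf 21699364) (.leaf 26154093)) (.node (.leaf 17467180) (.leaf 14176702)))))))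

/-- A point of the block, part 192. -/
def ptCodePart192 : Janko1.Tree ℕ := (.node (.node (.node (.node (.node (.node (.leaf 6556356) (.leaf 8708413)) (.node (.leaf 30756009) (.leaf 11881448))) (.node (.node (.leaf 8981525) (.leaf 29082878)) (.node (.leaf 29477622) (.leaf 29477752)))) (.node (.node (.node (.leaf 29040840) (.leaf 8915081)) (.node (.leaf 27233086) (.leaf 14948048))) (.node (.node (.leaf 492512) (.leaf 11698521)) (.node (.leaf 20515828) (.leaf 7937098))))) (.node (.node (.node (.node (.leaf 11868533) (.leaf 10509497)) (.node (.leaf 18439966) (.leaf 1151050))) (.node (.node (.leaf 10903349) (.leaf 4835034)) (.node (.leaf 11886413) (.leaf 18866470)))) (.node (.node (.node (.leaf 494110) (.leaf 32329692)) (.node (.leaf 20039237) (.leaf 21693168))) (.node (.node (.leaf 23204036) (.leaf 1891790)) (.node (.leaf 24202654) (.leaf 32392256)))))) (.node (.node (.node (.node (.node (.leaf 29197177) (.leaf 12894412)) (.node (.leaf 3509980) (.leaf 4002172))) (.node (.node (.leaf 13274444) (.leaf 27542985))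 (.node (.leaf 25284238) (.leaf 660636)))) (.node (.node (.node (.leaf 17832452) (.leaf 12635600)) (.node (.leaf 8980144) (.leaf 29475597))) (.node (.node (.leaf 21922242) (.leaf 4195140)) (.node (.leaf 20826704) (.leaf 28313777))))) (.node (.node (.node (.node (.leaf 7031573) (.leaf 27040265)) (.node (.leaf 35046629) (.leaf 2530020))) (.node (.node (.leaf 16357333) (.leaf 18335830)) (.node (.leaf 1859752) (.leaf 21698949)))) (.node (.node (.node (.leaf 23615276) (.leaf 5951728)) (.node (.leaf 15648184) (.leaf 16745814))) (.node (.node (.leaf 26270924) (.leaf 29917754)) (.node (.leaf 4266278) (.leaf 722360)))))))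

/-- A point of the block, part 193. -/
def ptCodePart193 : Janko1.Tree ℕ := (.node (.node (.node (.node (.node (.node (.leaf 32397924) (.leaf 12508544)) (.node (.leaf 710000) (.leaf 21694229))) (.node (.node (.leaf 26153805) (.leaf 21929961)) (.node (.leaf 27479822) (.leaf 32328545)))) (.node (.node (.node (.leaf 23479081) (.leaf 7571564)) (.node (.leaf 12389209) (.leaf 7931545))) (.node (.node (.leaf 32398336) (.leaf 6560582)) (.node (.leaf 12509381) (.leaf 7227326))))) (.node (.node (.node (.node (.leaf 26268573) (.leaf 28951036)) (.node (.leaf 13310169) (.leaf 14945336))) (.node (.node (.leaf 7937698) (.leaf 16745742)) (.node (.leaf 33555001) (.leaf 1856620)))) (.node (.node (.node (.leaf 29477006) (.leaf 33161818)) (.node (.leaf 20039680) (.leaf 15436173))) (.node (.node (.leaf 32804106) (.leaf 35213840)) (.node (.leaf 22864162) (.leaf 35212630)))))) (.node (.node (.node (.node (.node (.leaf 4603952) (.leaf 3031548)) (.node (.leaf 18964505) (.leaf 2530969))) (.node (.node (.leaf 26149604) (.leaf 35261686))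 (.node (.leaf 19316782) (.leaf 25287222)))) (.node (.node (.node (.leaf 26629533) (.leaf 12504569)) (.node (.leaf 18858456) (.leaf 20515050))) (.node (.node (.leaf 6775185) (.leaf 34168913)) (.node (.leaf 34165142) (.leaf 25256050))))) (.node (.node (.node (.node (.leaf 10166221) (.leaf 35046568)) (.node (.leaf 11439336) (.leaf 33562960))) (.node (.node (.leaf 30753213) (.leaf 20663441)) (.node (.leaf 26150832) (.leaf 19681865)))) (.node (.node (.node (.leaf 35260068) (.leaf 8980934)) (.node (.leaf 12636333) (.leaf 10163834))) (.node (.node (.leaf 24990274) (.leaf 2529238)) (.node (.leaf 33163226) (.leaf 18940706)))))))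

/-- A point of the block, part 194. -/
def ptCodePart194 : Janko1.Tree ℕ := (.node (.node (.node (.node (.node (.node (.leaf 2611978) (.leaf 29824390)) (.node (.leaf 29082254) (.leaf 16646444))) (.node (.node (.leaf 12386804) (.leaf 26516740)) (.node (.leaf 6560616) (.leaf 13080456)))) (.node (.node (.node (.leaf 4344338) (.leaf 28955164)) (.node (.leaf 29608569) (.leaf 29925421))) (.node (.node (.leaf 4261424) (.leaf 18941349)) (.node (.leaf 3899992) (.leaf 3900028))))) (.node (.node (.node (.node (.leaf 29788241) (.leaf 24560806)) (.node (.leaf 14172464) (.leaf 13308974))) (.node (.node (.leaf 3999232) (.leaf 29036294)) (.node (.leaf 33920802) (.leaf 434364)))) (.node (.node (.node (.leaf 33637596) (.leaf 4349758)) (.node (.leaf 33997734) (.leaf 3899980))) (.node (.node (.leaf 27843248) (.leaf 30234256)) (.node (.leaf 21699550) (.leaf 10510162)))))) (.node (.node (.node (.node (.node (.leaf 3032017) (.leaf 12392004)) (.node (.leaf 34441458) (.leaf 17488920))) (.node (.node (.leaf 11863930) (.leaf 6774404))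 (.node (.leaf 8885964) (.leaf 18973793)))) (.node (.node (.node (.leaf 17826226) (.leaf 29818886)) (.node (.leaf 20865117) (.leaf 7029861))) (.node (.node (.leaf 30203841) (.leaf 20661554)) (.node (.leaf 21055416) (.leaf 14948092))))) (.node (.node (.node (.node (.leaf 33165361) (.leaf 32807781)) (.node (.leaf 10029337) (.leaf 15522650))) (.node (.node (.leaf 1889914) (.leaf 25248360)) (.node (.leaf 27483258) (.leaf 33333304)))) (.node (.node (.node (.leaf 17826492) (.leaf 29822032)) (.node (.leaf 24453489) (.leaf 1886822))) (.node (.node (.leaf 19350758) (.leaf 16880028)) (.node (.leaf 30200524) (.leaf 24745545)))))))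

/-- A point of the block, part 195. -/
def ptCodePart195 : Janko1.Tree ℕ := (.node (.node (.node (.node (.node (.node (.leaf 28199756) (.leaf 33326796)) (.node (.leaf 7455494) (.leaf 18957898))) (.node (.node (.leaf 12633538) (.leaf 11701793)) (.node (.leaf 15157585) (.leaf 20827956)))) (.node (.node (.node (.leaf 34986072) (.leaf 6850508)) (.node (.leaf 15155468) (.leaf 21927497))) (.node (.node (.leaf 2972834) (.leaf 22780729)) (.node (.leaf 18976676) (.leaf 31775136))))) (.node (.node (.node (.node (.leaf 4742045) (.leaf 33740212)) (.node (.leaf 29921582) (.leaf 18536630))) (.node (.node (.leaf 18943142) (.leaf 3508512)) (.node (.leaf 13082301) (.leaf 24565878)))) (.node (.node (.node (.leaf 23626808) (.leaf 13307681)) (.node (.leaf 11748682) (.leaf 21842660))) (.node (.node (.leaf 13309636) (.leaf 29610382)) (.node (.leaf 23978126) (.leaf 17946013)))))) (.node (.node (.node (.node (.node (.leaf 19177736) (.leaf 3038882)) (.node (.leaf 19749376) (.leaf 27040561))) (.node (.node (.leaf 33740141) (.leaf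 12688764)) (.node (.leaf 7572937) (.leaf 32807577)))) (.node (.node (.node (.leaf 10896828) (.leaf 19320320)) (.node (.leaf 24207316) (.leaf 29036832))) (.node (.node (.leaf 7932110) (.leaf 4199701)) (.node (.leaf 23970485) (.leaf 17833094))))) (.node (.node (.node (.node (.leaf 7032130) (.leaf 35265625)) (.node (.leaf 12502937) (.leaf 31768668))) (.node (.node (.leaf 6855938) (.leaf 13271082)) (.node (.leaf 12394457) (.leaf 4001069)))) (.node (.node (.node (.leaf 19677461) (.leaf 12633056)) (.node (.leaf 11881486) (.leaf 35264068))) (.node (.node (.leaf 31773873) (.leaf 27547873)) (.node (.leaf 33163010) (.leaf 14943785)))))))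

/-- A point of the block, part 196. -/
def ptCodePart196 : Janko1.Tree ℕ := (.node (.node (.node (.node (.node (.node (.leaf 712178) (.leaf 29200318)) (.node (.leaf 21922720) (.leaf 14785224))) (.node (.node (.leaf 7574714) (.leaf 19351442)) (.node (.leaf 18940806) (.leaf 6099140)))) (.node (.node (.node (.leaf 16713876) (.leaf 35113296)) (.node (.leaf 21006045) (.leaf 26264204))) (.node (.node (.leaf 18073049) (.leaf 4740517)) (.node (.leaf 27040921) (.leaf 11437157))))) (.node (.node (.node (.node (.leaf 35260185) (.leaf 23972324)) (.node (.leaf 13304253) (.leaf 34002549))) (.node (.node (.leaf 9815396) (.leaf 25251452)) (.node (.leaf 34447682) (.leaf 30199060)))) (.node (.node (.node (.leaf 27840449) (.leaf 19317929)) (.node (.leaf 20824965) (.leaf 29924661))) (.node (.node (.leaf 1858580) (.leaf 29791457)) (.node (.leaf 21055461) (.leaf 19910917)))))) (.node (.node (.node (.node (.node (.leaf 27541974) (.leaf 25894342)) (.node (.leaf 32168154) (.leaf 16356877))) (.node (.node (.leaf 15405368) (.leaf 19012561))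 (.node (.leaf 8881654) (.leaf 16716046)))) (.node (.node (.node (.leaf 31775128) (.leaf 33919964)) (.node (.leaf 11754265) (.leaf 31132504))) (.node (.node (.leaf 17482174) (.leaf 7245268)) (.node (.leaf 33643005) (.leaf 20570005))))) (.node (.node (.node (.node (.leaf 32329466) (.leaf 23626544)) (.node (.leaf 19169280) (.leaf 29837614))) (.node (.node (.leaf 35114880) (.leaf 17292900)) (.node (.leaf 35215394) (.leaf 29819578)))) (.node (.node (.node (.leaf 22777525) (.leaf 27236564)) (.node (.leaf 32169101) (.leaf 16011942))) (.node (.node (.leaf 33165326) (.leaf 18071957)) (.node (.leaf 30481598) (.leaf 426722)))))))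

/-- A point of the block, part 197. -/
def ptCodePart197 : Janko1.Tree ℕ := (.node (.node (.node (.node (.node (.node (.leaf 727322) (.leaf 8144580)) (.node (.leaf 1889382) (.leaf 2967965))) (.node (.node (.leaf 20830593) (.leaf 15401309)) (.node (.leaf 1856930) (.leaf 4260020)))) (.node (.node (.node (.leaf 24220412) (.leaf 6100312)) (.node (.leaf 18978418) (.leaf 28397848))) (.node (.node (.leaf 6099753) (.leaf 18536336)) (.node (.leaf 19909126) (.leaf 29032797))))) (.node (.node (.node (.node (.leaf 21696285) (.leaf 18341205)) (.node (.leaf 33919888) (.leaf 29039621))) (.node (.node (.leaf 15406226) (.leaf 25286488)) (.node (.leaf 18862110) (.leaf 1529664)))) (.node (.node (.node (.leaf 12393437) (.leaf 430005)) (.node (.leaf 16881221) (.leaf 26267089))) (.node (.node (.leaf 23609828) (.leaf 21928178)) (.node (.leaf 18963864) (.leaf 4608528)))))) (.node (.node (.node (.node (.node (.leaf 24207656) (.leaf 22780025)) (.node (.leaf 7225909) (.leaf 12345773))) (.node (.node (.leaf 15518918) (.leaf 29819778))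 (.node (.leaf 18959828) (.leaf 17948978)))) (.node (.node (.node (.leaf 1524569) (.leaf 22781394)) (.node (.leaf 19008549) (.leaf 24745176))) (.node (.node (.leaf 28199552) (.leaf 16718954)) (.node (.leaf 17469946) (.leaf 35052528))))) (.node (.node (.node (.node (.leaf 494289) (.leaf 1886324)) (.node (.leaf 32332928) (.leaf 15516440))) (.node (.node (.leaf 30754745) (.leaf 28313124)) (.node (.leaf 35047738) (.leaf 35119328)))) (.node (.node (.node (.leaf 20038842) (.leaf 14947150)) (.node (.leaf 14175801) (.leaf 22826689))) (.node (.node (.leaf 17948710) (.leaf 10507098)) (.node (.leaf 1527302) (.leaf 14173789)))))))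

/-- A point of the block, part 198. -/
def ptCodePart198 : Janko1.Tree ℕ := (.node (.node (.node (.node (.node (.node (.leaf 10903517) (.leaf 32802712)) (.node (.leaf 3506269) (.leaf 30482646))) (.node (.node (.leaf 29197169) (.leaf 19172828)) (.node (.leaf 8880914) (.leaf 8151069)))) (.node (.node (.node (.leaf 1523988) (.leaf 17976984)) (.node (.leaf 33741666) (.leaf 1153352))) (.node (.node (.leaf 19685184) (.leaf 34984089)) (.node (.leaf 11751641) (.leaf 33919542))))) (.node (.node (.node (.node (.leaf 33167829) (.leaf 17465370)) (.node (.leaf 31130086) (.leaf 479988))) (.node (.node (.leaf 9356356) (.leaf 24988654)) (.node (.leaf 24677109) (.leaf 23478649)))) (.node (.node (.node (.leaf 2608420) (.leaf 18973345)) (.node (.leaf 18976949) (.leaf 15094128))) (.node (.node (.leaf 26509570) (.leaf 17974046)) (.node (.leaf 7575709) (.leaf 23975362)))))) (.node (.node (.node (.node (.node (.leaf 31768608) (.leaf 2610926)) (.node (.leaf 18957214) (.leaf 4610958))) (.node (.node (.leaf 15434161) (.leaf 13148540))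 (.node (.leaf 20830633) (.leaf 27034913)))) (.node (.node (.node (.leaf 18858486) (.leaf 9815493)) (.node (.leaf 25893381) (.leaf 27547353))) (.node (.node (.leaf 7033150) (.leaf 1852582)) (.node (.leaf 19682390) (.leaf 24535192))))) (.node (.node (.node (.node (.leaf 17945473) (.leaf 3902804)) (.node (.leaf 7457860) (.leaf 13146385))) (.node (.node (.leaf 33165285) (.leaf 11866262)) (.node (.leaf 483480) (.leaf 2531530)))) (.node (.node (.node (.leaf 29202306) (.leaf 10035480)) (.node (.leaf 24991133) (.leaf 32397190))) (.node (.node (.leaf 2613273) (.leaf 7295426)) (.node (.leaf 6852145) (.leaf 32167301)))))))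

/-- A point of the block, part 199. -/
def ptCodePart199 : Janko1.Tree ℕ := (.node (.node (.node (.node (.node (.node (.leaf 31775649) (.leaf 16648398)) (.node (.leaf 24217250) (.leaf 16009514))) (.node (.node (.leaf 498585) (.leaf 33919253)) (.node (.leaf 26157282) (.leaf 19324230)))) (.node (.node (.node (.leaf 19318850) (.leaf 4838790)) (.node (.leaf 20824412) (.leaf 30234909))) (.node (.node (.leaf 5838932) (.leaf 7248485)) (.node (.leaf 18538572) (.leaf 29838785))))) (.node (.node (.node (.node (.leaf 18532368) (.leaf 23616236)) (.node (.leaf 4607849) (.leaf 25893409))) (.node (.node (.leaf 33736093) (.leaf 29607376)) (.node (.leaf 11749837) (.leaf 28955361)))) (.node (.node (.node (.leaf 28955414) (.leaf 4604698)) (.node (.leaf 4000590) (.leaf 20038410))) (.node (.node (.leaf 27478373) (.leaf 28664074)) (.node (.leaf 28397318) (.leaf 1859693)))))) (.node (.node (.node (.node (.node (.leaf 13590510) (.leaf 1153480)) (.node (.leaf 6561416) (.leaf 29204584))) (.node (.node (.leaf 10898570) (.leaf 23480321))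 (.node (.leaf 12633396) (.leaf 35119162)))) (.node (.node (.node (.leaf 29085258) (.leaf 15155273)) (.node (.leaf 15651801) (.leaf 26628874))) (.node (.node (.leaf 27476593) (.leaf 21695569)) (.node (.leaf 712322) (.leaf 2610770))))) (.node (.node (.node (.node (.leaf 9815870) (.leaf 29794734)) (.node (.leaf 16745589) (.leaf 658212))) (.node (.node (.leaf 14781429) (.leaf 6774902)) (.node (.leaf 28401681) (.leaf 14781364)))) (.node (.node (.node (.leaf 3902138) (.leaf 24533724)) (.node (.leaf 28954314) (.leaf 30197869))) (.node (.node (.leaf 23630622) (.leaf 24219764)) (.node (.leaf 29201057) (.leaf 27544674)))))))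

/-- A point of the block, part 200. -/
def ptCodePart200 : Janko1.Tree ℕ := (.node (.node (.node (.node (.node (.node (.leaf 17973297) (.leaf 11444324)) (.node (.leaf 20667676) (.leaf 28957612))) (.node (.node (.leaf 16752245) (.leaf 29609240)) (.node (.leaf 25893325) (.leaf 10030961)))) (.node (.node (.node (.leaf 33998802) (.leaf 11863058)) (.node (.leaf 21929314) (.leaf 34004516))) (.node (.node (.leaf 18931714) (.leaf 32334262)) (.node (.leaf 15523388) (.leaf 24677718))))) (.node (.node (.node (.node (.leaf 23976868) (.leaf 661081)) (.node (.leaf 29788504) (.leaf 26271688))) (.node (.node (.leaf 28662638) (.leaf 29035116)) (.node (.leaf 24530453) (.leaf 24559702)))) (.node (.node (.node (.leaf 13141028) (.leaf 21847384)) (.node (.leaf 7032276) (.leaf 19357081))) (.node (.node (.leaf 27481029) (.leaf 2524740)) (.node (.leaf 14193841) (.leaf 18957988)))))) (.node (.node (.node (.node (.node (.leaf 33641725) (.leaf 12897794)) (.node (.leaf 12897974) (.leaf 13307410))) (.node (.node (.leaf 11753454) (.leaf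 8144010)) (.node (.leaf 6851144) (.leaf 2967402)))) (.node (.node (.node (.leaf 17832654) (.leaf 12901649)) (.node (.leaf 21840852) (.leaf 15437180))) (.node (.node (.leaf 29199530) (.leaf 16351377)) (.node (.leaf 26627362) (.leaf 33999389))))) (.node (.node (.node (.node (.leaf 3905794) (.leaf 13145813)) (.node (.leaf 20566961) (.leaf 8920878))) (.node (.node (.leaf 6772628) (.leaf 3034621)) (.node (.leaf 24217558) (.leaf 24744232)))) (.node (.node (.node (.leaf 20829000) (.leaf 16713606)) (.node (.leaf 7030613) (.leaf 17293205))) (.node (.node (.leaf 17469204) (.leaf 26155678)) (.node (.leaf 2526352) (.leaf 34162217)))))))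

/-- A point of the block, part 201. -/
def ptCodePart201 : Janko1.Tree ℕ := (.node (.node (.node (.node (.node (.node (.leaf 7463028) (.leaf 10033788)) (.node (.leaf 17466544) (.leaf 29032508))) (.node (.node (.leaf 16651089) (.leaf 19679384)) (.node (.leaf 15161693) (.leaf 16882808)))) (.node (.node (.node (.leaf 23617361) (.leaf 29924885)) (.node (.leaf 11879914) (.leaf 19177241))) (.node (.node (.leaf 726989) (.leaf 24215588)) (.node (.leaf 4608461) (.leaf 6553609))))) (.node (.node (.node (.node (.leaf 29087528) (.leaf 19678348)) (.node (.leaf 26270728) (.leaf 14174118))) (.node (.node (.leaf 30201105) (.leaf 12902481)) (.node (.leaf 34444917) (.leaf 8708096)))) (.node (.node (.node (.leaf 15521889) (.leaf 22857690)) (.node (.leaf 29089024) (.leaf 6102001))) (.node (.node (.leaf 18927876) (.leaf 28205008)) (.node (.leaf 4836126) (.leaf 16015133)))))) (.node (.node (.node (.node (.node (.leaf 27591761) (.leaf 23633358)) (.node (.leaf 16876900) (.leaf 4344944))) (.node (.node (.leaf 18941708) (.leaf 19907598))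 (.node (.leaf 20514513) (.leaf 2115421)))) (.node (.node (.node (.leaf 4344429) (.leaf 13081290)) (.node (.leaf 21060366) (.leaf 12501406))) (.node (.node (.leaf 27598069) (.leaf 32398441)) (.node (.leaf 25891022) (.leaf 23203796))))) (.node (.node (.node (.node (.leaf 27839789) (.leaf 17483946)) (.node (.leaf 26630336) (.leaf 8882833))) (.node (.node (.leaf 19683193) (.leaf 15401189)) (.node (.leaf 32169918) (.leaf 21055457)))) (.node (.node (.node (.leaf 24450801) (.leaf 6555117)) (.node (.leaf 33331956) (.leaf 22778124))) (.node (.node (.leaf 30753798) (.leaf 26515612)) (.node (.leaf 35214938) (.leaf 28401022)))))))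

/-- A point of the block, part 202. -/
def ptCodePart202 : Janko1.Tree ℕ := (.node (.node (.node (.node (.node (.node (.leaf 33562784) (.leaf 35116205)) (.node (.leaf 7573924) (.leaf 20664364))) (.node (.node (.leaf 20045726) (.leaf 12339397)) (.node (.leaf 16716594) (.leaf 27594826)))) (.node (.node (.node (.leaf 18074348) (.leaf 24679209)) (.node (.leaf 18865473) (.leaf 19744082))) (.node (.node (.leaf 8917226) (.leaf 29921630)) (.node (.leaf 18537074) (.leaf 20564542))))) (.node (.node (.node (.node (.leaf 9820830) (.leaf 8921024)) (.node (.leaf 33638112) (.leaf 19742897))) (.node (.node (.leaf 7244084) (.leaf 13589365)) (.node (.leaf 7229096) (.leaf 15653318)))) (.node (.node (.node (.leaf 33556057) (.leaf 16750274)) (.node (.leaf 28313885) (.leaf 3031761))) (.node (.node (.leaf 34163825) (.leaf 21928997)) (.node (.leaf 34443760) (.leaf 11699517)))))) (.node (.node (.node (.node (.node (.leaf 27839230) (.leaf 34983453)) (.node (.leaf 13074654) (.leaf 30231756))) (.node (.node (.leaf 35117018) (.leaf 35266544))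 (.node (.leaf 5954216) (.leaf 25281705)))) (.node (.node (.node (.leaf 8986618) (.leaf 2966344)) (.node (.leaf 35049298) (.leaf 27842985))) (.node (.node (.leaf 13587502) (.leaf 23479393)) (.node (.leaf 722237) (.leaf 28198510))))) (.node (.node (.node (.node (.leaf 24527334) (.leaf 27039810)) (.node (.leaf 17488525) (.leaf 17490142))) (.node (.node (.leaf 24203174) (.leaf 14193137)) (.node (.leaf 26509773) (.leaf 24564244)))) (.node (.node (.node (.leaf 22825470) (.leaf 495389)) (.node (.leaf 10163068) (.leaf 33738309))) (.node (.node (.leaf 4709494) (.leaf 24449693)) (.node (.leaf 19175678) (.leaf 24567354)))))))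

/-- A point of the block, part 203. -/
def ptCodePart203 : Janko1.Tree ℕ := (.node (.node (.node (.node (.node (.node (.leaf 33332533) (.leaf 20859805)) (.node (.leaf 33638472) (.leaf 24747276))) (.node (.node (.leaf 8705449) (.leaf 9115917)) (.node (.leaf 32330941) (.leaf 24563228)))) (.node (.node (.node (.leaf 29607105) (.leaf 28662121)) (.node (.leaf 27040132) (.leaf 16878698))) (.node (.node (.leaf 32330957) (.leaf 13146246)) (.node (.leaf 2524382) (.leaf 12896873))))) (.node (.node (.node (.node (.leaf 5950521) (.leaf 3507158)) (.node (.leaf 19909258) (.leaf 35215006))) (.node (.node (.leaf 2607721) (.leaf 27236024)) (.node (.leaf 10508213) (.leaf 30758928)))) (.node (.node (.node (.leaf 1853966) (.leaf 8706024)) (.node (.leaf 26626182) (.leaf 427214))) (.node (.node (.leaf 10032829) (.leaf 16013741)) (.node (.leaf 20862430) (.leaf 28200698)))))) (.node (.node (.node (.node (.node (.leaf 12509369) (.leaf 25281836)) (.node (.leaf 35048840) (.leaf 8707612))) (.node (.node (.leaf 20565089) (.leaf 5836754))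 (.node (.leaf 9359216) (.leaf 708832)))) (.node (.node (.node (.leaf 28197896) (.leaf 11753278)) (.node (.leaf 10896209) (.leaf 30474632))) (.node (.node (.leaf 19743121) (.leaf 7231842)) (.node (.leaf 26511429) (.leaf 22858720))))) (.node (.node (.node (.node (.leaf 20858212) (.leaf 18538086)) (.node (.leaf 28659049) (.leaf 8881573))) (.node (.node (.leaf 4200436) (.leaf 15161446)) (.node (.leaf 13279164) (.leaf 5837348)))) (.node (.node (.node (.leaf 9117669) (.leaf 11868056)) (.node (.leaf 18861908) (.leaf 24206333))) (.node (.node (.leaf 30232008) (.leaf 16011141)) (.node (.leaf 20517322) (.leaf 9357656)))))))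

/-- A point of the block, part 204. -/
def ptCodePart204 : Janko1.Tree ℕ := (.node (.node (.node (.node (.node (.node (.leaf 7456953) (.leaf 30231540)) (.node (.leaf 3507888) (.leaf 12681389))) (.node (.node (.leaf 12389288) (.leaf 8983005)) (.node (.leaf 22824004) (.leaf 4003665)))) (.node (.node (.node (.leaf 7575024) (.leaf 10902972)) (.node (.leaf 25254152) (.leaf 35260844))) (.node (.node (.leaf 4737556) (.leaf 8981096)) (.node (.leaf 29791093) (.leaf 29837092))))) (.node (.node (.node (.node (.leaf 18945346) (.leaf 18865042)) (.node (.leaf 18927410) (.leaf 27233978))) (.node (.node (.leaf 16711826) (.leaf 11864828)) (.node (.leaf 1527885) (.leaf 16715077)))) (.node (.node (.node (.leaf 18533276) (.leaf 1888848)) (.node (.leaf 33560276) (.leaf 22823213))) (.node (.node (.leaf 18927770) (.leaf 31135761)) (.node (.leaf 29839646) (.leaf 23201960)))))) (.node (.node (.node (.node (.node (.leaf 7246240) (.leaf 30228912)) (.node (.leaf 10159692) (.leaf 32807673))) (.node (.node (.leaf 16714965) (.leaf 27042156))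 (.node (.leaf 32391849) (.leaf 19321826)))) (.node (.node (.node (.leaf 31135534) (.leaf 28950836)) (.node (.leaf 17831862) (.leaf 22826850))) (.node (.node (.leaf 17945777) (.leaf 4341945)) (.node (.leaf 15440344) (.leaf 2609674))))) (.node (.node (.node (.node (.leaf 15093152) (.leaf 18861948)) (.node (.leaf 14782257) (.leaf 3508009))) (.node (.node (.leaf 5837372) (.leaf 5833533)) (.node (.leaf 34443370) (.leaf 480145)))) (.node (.node (.node (.leaf 4263860) (.leaf 1149742)) (.node (.leaf 26511893) (.leaf 35049744))) (.node (.node (.leaf 33920364) (.leaf 30478144)) (.node (.leaf 14190061) (.leaf 12688212)))))))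

/-- A point of the block, part 205. -/
def ptCodePart205 : Janko1.Tree ℕ := (.node (.node (.node (.node (.node (.node (.leaf 18432684) (.leaf 25887532)) (.node (.leaf 11880280) (.leaf 1526925))) (.node (.node (.leaf 30236829) (.leaf 30479726)) (.node (.leaf 14189536) (.leaf 7032858)))) (.node (.node (.node (.leaf 6775073) (.leaf 2114210)) (.node (.leaf 8151157) (.leaf 29920164))) (.node (.node (.leaf 25890152) (.leaf 10159970)) (.node (.leaf 24200396) (.leaf 8701926))))) (.node (.node (.node (.node (.leaf 27234096) (.leaf 9111049)) (.node (.leaf 13589414) (.leaf 22856148))) (.node (.node (.leaf 29787626) (.leaf 17947577)) (.node (.leaf 19748130) (.leaf 4709804)))) (.node (.node (.node (.leaf 28657370) (.leaf 17948157)) (.node (.leaf 20520726) (.leaf 15435188))) (.node (.node (.leaf 23484930) (.leaf 13588209)) (.node (.leaf 15440458) (.leaf 33164725)))))) (.node (.node (.node (.node (.node (.leaf 8885172) (.leaf 17973870)) (.node (.leaf 712397) (.leaf 28659996))) (.node (.node (.leaf 16009317) (.leaf 9112364))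 (.node (.leaf 4268084) (.leaf 5950724)))) (.node (.node (.node (.leaf 14191257) (.leaf 27596168)) (.node (.leaf 16744688) (.leaf 20042206))) (.node (.node (.leaf 427818) (.leaf 19352129)) (.node (.leaf 728937) (.leaf 24743838))))) (.node (.node (.node (.node (.leaf 15091941) (.leaf 35118442)) (.node (.leaf 14190965) (.leaf 32169041))) (.node (.node (.leaf 21695154) (.leaf 18336277)) (.node (.leaf 19906974) (.leaf 33638874)))) (.node (.node (.node (.leaf 4005588) (.leaf 7460744)) (.node (.leaf 18980224) (.leaf 16749234))) (.node (.node (.leaf 22827238) (.leaf 27547317)) (.node (.leaf 24744372) (.leaf 29824894)))))))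

/-- A point of the block, part 206. -/
def ptCodePart206 : Janko1.Tree ℕ := (.node (.node (.node (.node (.node (.node (.leaf 4612485) (.leaf 32166168)) (.node (.leaf 30755961) (.leaf 18946108))) (.node (.node (.leaf 28313546) (.leaf 21007753)) (.node (.leaf 6848882) (.leaf 5951842)))) (.node (.node (.node (.leaf 13271741) (.leaf 3507252)) (.node (.leaf 2116684) (.leaf 1527361))) (.node (.node (.leaf 24681578) (.leaf 15094093)) (.node (.leaf 15408217) (.leaf 15405590))))) (.node (.node (.node (.node (.leaf 4705964) (.leaf 705436)) (.node (.leaf 15097736) (.leaf 19011802))) (.node (.node (.leaf 11444037) (.leaf 24447637)) (.node (.leaf 28320060) (.leaf 17974889)))) (.node (.node (.node (.leaf 28315536) (.leaf 12340057)) (.node (.leaf 17285249) (.leaf 6770341))) (.node (.node (.leaf 4741886) (.leaf 31135484)) (.node (.leaf 15524238) (.leaf 18079077)))))) (.node (.node (.node (.node (.node (.leaf 12688446) (.leaf 33739922)) (.node (.leaf 25252497) (.leaf 15648289))) (.node (.node (.leaf 29474960) (.leaf 4195926))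 (.node (.leaf 4838228) (.leaf 25248634)))) (.node (.node (.node (.leaf 4742438) (.leaf 35049237)) (.node (.leaf 26626957) (.leaf 13274005))) (.node (.node (.leaf 7291074) (.leaf 3513976)) (.node (.leaf 20042278) (.leaf 19320952))))) (.node (.node (.node (.node (.leaf 15523169) (.leaf 6558810)) (.node (.leaf 9361997) (.leaf 21011618))) (.node (.node (.leaf 27230505) (.leaf 20564130)) (.node (.leaf 29034204) (.leaf 27844712)))) (.node (.node (.node (.leaf 23201257) (.leaf 23627038)) (.node (.leaf 18928504) (.leaf 14173954))) (.node (.node (.leaf 19353394) (.leaf 18340988)) (.node (.leaf 1148110) (.leaf 16010049)))))))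

/-- A point of the block, part 207. -/
def ptCodePart207 : Janko1.Tree ℕ := (.node (.node (.node (.node (.node (.node (.leaf 9355864) (.leaf 19011138)) (.node (.leaf 20662658) (.leaf 9118046))) (.node (.node (.leaf 23201478) (.leaf 16007809)) (.node (.leaf 1884366) (.leaf 2113820)))) (.node (.node (.node (.leaf 12341429) (.leaf 14783302)) (.node (.leaf 7292242) (.leaf 8703292))) (.node (.node (.leaf 30757386) (.leaf 21060985)) (.node (.leaf 31129848) (.leaf 4202590))))) (.node (.node (.node (.node (.leaf 29607717) (.leaf 33740674)) (.node (.leaf 17941740) (.leaf 22858134))) (.node (.node (.leaf 16648513) (.leaf 709870)) (.node (.leaf 20520202) (.leaf 12340468)))) (.node (.node (.node (.leaf 24743474) (.leaf 24535232)) (.node (.leaf 10504033) (.leaf 15408225))) (.node (.node (.leaf 18077060) (.leaf 26155292)) (.node (.leaf 12505186) (.leaf 9116201)))))) (.node (.node (.node (.node (.node (.leaf 12388289) (.leaf 18435641)) (.node (.leaf 19350909) (.leaf 12681562))) (.node (.node (.leaf 17285328) (.leaf 7933845))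 (.node (.leaf 7456130) (.leaf 20043644)))) (.node (.node (.node (.leaf 13586664) (.leaf 18957428)) (.node (.leaf 18931462) (.leaf 35115601))) (.node (.node (.leaf 6855562) (.leaf 4833486)) (.node (.leaf 14946848) (.leaf 16359041))))) (.node (.node (.node (.node (.leaf 8885638) (.leaf 6555721)) (.node (.leaf 15408986) (.leaf 33638269))) (.node (.node (.leaf 31129625) (.leaf 7242446)) (.node (.leaf 19748273) (.leaf 27034072)))) (.node (.node (.node (.leaf 16882250) (.leaf 14942457)) (.node (.leaf 27231976) (.leaf 33922648))) (.node (.node (.leaf 28401542) (.leaf 13147568)) (.node (.leaf 12899272) (.leaf 23201313)))))))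

/-- A point of the block, part 208. -/
def ptCodePart208 : Janko1.Tree ℕ := (.node (.node (.node (.node (.node (.node (.leaf 17471149) (.leaf 7294954)) (.node (.leaf 17981105) (.leaf 20860905))) (.node (.node (.leaf 1892633) (.leaf 9355812)) (.node (.leaf 7570158) (.leaf 34442978)))) (.node (.node (.node (.leaf 17483204) (.leaf 28661997)) (.node (.leaf 24747636) (.leaf 34161549))) (.node (.node (.leaf 5833706) (.leaf 2528674)) (.node (.leaf 25249180) (.leaf 8985480))))) (.node (.node (.node (.node (.leaf 33738504) (.leaf 20832213)) (.node (.leaf 24680884) (.leaf 480888))) (.node (.node (.leaf 24452556) (.leaf 33919688)) (.node (.leaf 17288741) (.leaf 20564293)))) (.node (.node (.node (.leaf 19319272) (.leaf 27236428)) (.node (.leaf 30204245) (.leaf 14786741))) (.node (.node (.leaf 14950266) (.leaf 33554546)) (.node (.leaf 12505234) (.leaf 22778510)))))) (.node (.node (.node (.node (.node (.leaf 16646506) (.leaf 24527748)) (.node (.leaf 16359257) (.leaf 19356449))) (.node (.node (.leaf 34003221) (.leaf 5836732))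 (.node (.leaf 24529140) (.leaf 24223724)))) (.node (.node (.node (.leaf 19009564) (.leaf 2609404)) (.node (.leaf 11699245) (.leaf 726290))) (.node (.node (.leaf 727840) (.leaf 34980589)) (.node (.leaf 20520242) (.leaf 12633108))))) (.node (.node (.node (.node (.leaf 24988317) (.leaf 21006216)) (.node (.leaf 20863453) (.leaf 23973865))) (.node (.node (.leaf 12344414) (.leaf 34003568)) (.node (.leaf 11703210) (.leaf 33333237)))) (.node (.node (.node (.leaf 16750814) (.leaf 34444389)) (.node (.leaf 1153052) (.leaf 7296592))) (.node (.node (.leaf 27483508) (.leaf 10034117)) (.node (.leaf 8919945) (.leaf 13304928)))))))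

/-- A point of the block, part 209. -/
def ptCodePart209 : Janko1.Tree ℕ := (.node (.node (.node (.node (.node (.node (.leaf 15434312) (.leaf 23626050)) (.node (.leaf 16877266) (.leaf 17289518))) (.node (.node (.leaf 19176900) (.leaf 9821425)) (.node (.leaf 12637069) (.leaf 21053638)))) (.node (.node (.node (.leaf 13312172) (.leaf 13140901)) (.node (.leaf 11704461) (.leaf 2122094))) (.node (.node (.leaf 24221857) (.leaf 8146820)) (.node (.leaf 23201148) (.leaf 29084058))))) (.node (.node (.node (.node (.leaf 29202138) (.leaf 29608064)) (.node (.leaf 17286424) (.leaf 8143910))) (.node (.node (.leaf 24990766) (.leaf 24681941)) (.node (.leaf 8918708) (.leaf 11442610)))) (.node (.node (.node (.leaf 22863464) (.leaf 27545590)) (.node (.leaf 11706277) (.leaf 2967758))) (.node (.node (.leaf 12340352) (.leaf 18339998)) (.node (.leaf 24453453) (.leaf 34987328)))))) (.node (.node (.node (.node (.node (.leaf 16356505) (.leaf 23627690)) (.node (.leaf 20660336) (.leaf 10160432))) (.node (.node (.leaf 482896) (.leaf 24449917))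 (.node (.leaf 2121834) (.leaf 16654557)))) (.node (.node (.node (.leaf 27548785) (.leaf 4261154)) (.node (.leaf 25288589) (.leaf 11750430))) (.node (.node (.leaf 18947664) (.leaf 24987944)) (.node (.leaf 29606189) (.leaf 17468113))))) (.node (.node (.node (.node (.leaf 18335653) (.leaf 32806477)) (.node (.leaf 31769490) (.leaf 26510733))) (.node (.node (.leaf 19011268) (.leaf 19169752)) (.node (.leaf 12341849) (.leaf 29843344)))) (.node (.node (.node (.leaf 25280933) (.leaf 23614922)) (.node (.leaf 493524) (.leaf 32326445))) (.node (.node (.leaf 11755906) (.leaf 4841177)) (.node (.leaf 34981162) (.leaf 14781233)))))))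

/-- A point of the block, part 210. -/
def ptCodePart210 : Janko1.Tree ℕ := (.node (.node (.node (.node (.node (.node (.leaf 21843514) (.leaf 20663004)) (.node (.leaf 9816414) (.leaf 19174457))) (.node (.node (.leaf 10898609) (.leaf 20569625)) (.node (.leaf 658478) (.leaf 708774)))) (.node (.node (.node (.leaf 33639876) (.leaf 4739338)) (.node (.leaf 17473430) (.leaf 12684237))) (.node (.node (.leaf 29786369) (.leaf 19906798)) (.node (.leaf 1524100) (.leaf 28952750))))) (.node (.node (.node (.node (.leaf 4834118) (.leaf 32808957)) (.node (.leaf 10162564) (.leaf 19750734))) (.node (.node (.leaf 10509022) (.leaf 5948188)) (.node (.leaf 21059525) (.leaf 29825936)))) (.node (.node (.node (.leaf 7033418) (.leaf 1154513)) (.node (.leaf 23970202) (.leaf 481266))) (.node (.node (.leaf 17977240) (.leaf 18927532)) (.node (.leaf 32808829) (.leaf 24223330)))))) (.node (.node (.node (.node (.node (.leaf 4740062) (.leaf 12637530)) (.node (.leaf 6100941) (.leaf 23059385))) (.node (.node (.leaf 989814) (.leaf 32132500))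 (.node (.leaf 2974017) (.leaf 16653364)))) (.node (.node (.node (.leaf 24975808) (.leaf 33461082)) (.node (.leaf 29220717) (.leaf 31460925))) (.node (.node (.leaf 33464209) (.leaf 29181394)) (.node (.leaf 31608649) (.leaf 2625358))))) (.node (.node (.node (.node (.leaf 15013637) (.leaf 28625928)) (.node (.leaf 8115056) (.leaf 11503354))) (.node (.node (.leaf 2921468) (.leaf 28627100)) (.node (.leaf 15010189) (.leaf 13716073)))) (.node (.node (.node (.leaf 23595590) (.leaf 12255316)) (.node (.leaf 18666874) (.leaf 8969129))) (.node (.node (.leaf 23600074) (.leaf 30413218)) (.node (.leaf 26481022) (.leaf 10437184)))))))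

/-- A point of the block, part 211. -/
def ptCodePart211 : Janko1.Tree ℕ := (.node (.node (.node (.node (.node (.node (.leaf 983517) (.leaf 14243904)) (.node (.leaf 26579929) (.leaf 7310473))) (.node (.node (.leaf 21634529) (.leaf 14242700)) (.node (.leaf 26284509) (.leaf 33216790)))) (.node (.node (.node (.leaf 26288532) (.leaf 14241537)) (.node (.leaf 12992934) (.leaf 6216560))) (.node (.node (.leaf 32607940) (.leaf 19256468)) (.node (.leaf 14992677) (.leaf 15010509))))) (.node (.node (.node (.node (.leaf 985104) (.leaf 30903982)) (.node (.leaf 17055964) (.leaf 28611513))) (.node (.node (.leaf 33654845) (.leaf 18159140)) (.node (.leaf 7313806) (.leaf 22910725)))) (.node (.node (.node (.leaf 20415769) (.leaf 26576898)) (.node (.leaf 986190) (.leaf 2973442))) (.node (.node (.leaf 22911452) (.leaf 34655732)) (.node (.leaf 16652144) (.leaf 983626)))))) (.node (.node (.node (.node (.node (.leaf 28891182) (.leaf 20503250)) (.node (.leaf 34955201) (.leaf 32120312))) (.node (.node (.leaf 9523654) (.leaf 1202490))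 (.node (.leaf 21304521) (.leaf 32507218)))) (.node (.node (.node (.leaf 26969005) (.leaf 22515916)) (.node (.leaf 32904400) (.leaf 18794264))) (.node (.node (.leaf 19259837) (.leaf 28250372)) (.node (.leaf 18356505) (.leaf 16781574))))) (.node (.node (.node (.node (.leaf 29218632) (.leaf 31887112)) (.node (.leaf 21628965) (.leaf 21306741))) (.node (.node (.leaf 25854777) (.leaf 31613110)) (.node (.leaf 19206846) (.leaf 4018861)))) (.node (.node (.node (.leaf 33328648) (.leaf 26659074)) (.node (.leaf 34949654) (.leaf 33868768))) (.node (.node (.leaf 24515828) (.leaf 9001913)) (.node (.leaf 5410284) (.leaf 3578382)))))))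

/-- A point of the block, part 212. -/
def ptCodePart212 : Janko1.Tree ℕ := (.node (.node (.node (.node (.node (.node (.leaf 29510806) (.leaf 28184822)) (.node (.leaf 13484145) (.leaf 13222638))) (.node (.node (.leaf 15008497) (.leaf 20550525)) (.node (.leaf 19203300) (.leaf 17058005)))) (.node (.node (.node (.leaf 12999794) (.leaf 34954410)) (.node (.leaf 24337528) (.leaf 28055901))) (.node (.node (.leaf 32350634) (.leaf 31886910)) (.node (.leaf 29299217) (.leaf 20563528))))) (.node (.node (.node (.node (.leaf 26578749) (.leaf 17113024)) (.node (.leaf 11633470) (.leaf 33955077))) (.node (.node (.leaf 7986328) (.leaf 32116884)) (.node (.leaf 8504344) (.leaf 2645357)))) (.node (.node (.node (.leaf 33659310) (.leaf 19252738)) (.node (.leaf 7669606) (.leaf 16777808))) (.node (.node (.leaf 10438912) (.leaf 26482516)) (.node (.leaf 32347420) (.leaf 31458653)))))) (.node (.node (.node (.node (.node (.leaf 28185061) (.leaf 1544569)) (.node (.leaf 28876912) (.leaf 15008458))) (.node (.node (.leaf 15008885) (.leaf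 20955566)) (.node (.leaf 279058) (.leaf 28660526)))) (.node (.node (.node (.leaf 21078326) (.leaf 33444737)) (.node (.leaf 344354) (.leaf 7397042))) (.node (.node (.leaf 25188776) (.leaf 31609626)) (.node (.leaf 13014710) (.leaf 18995976))))) (.node (.node (.node (.node (.leaf 9556465) (.leaf 13113894)) (.node (.leaf 990834) (.leaf 28626480))) (.node (.node (.leaf 28250172) (.leaf 6478280)) (.node (.leaf 13075904) (.leaf 21301230)))) (.node (.node (.node (.leaf 345684) (.leaf 12091969)) (.node (.leaf 8275890) (.leaf 31774602))) (.node (.node (.leaf 24336484) (.leaf 15013388)) (.node (.leaf 21301465) (.leaf 17107397)))))))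

/-- A point of the block, part 213. -/
def ptCodePart213 : Janko1.Tree ℕ := (.node (.node (.node (.node (.node (.node (.leaf 22908265) (.leaf 8315069)) (.node (.leaf 35279769) (.leaf 31429902))) (.node (.node (.leaf 29906337) (.leaf 17368594)) (.node (.leaf 21716573) (.leaf 4015898)))) (.node (.node (.node (.leaf 4528569) (.leaf 32349840)) (.node (.leaf 19255338) (.leaf 22513972))) (.node (.node (.leaf 35277185) (.leaf 13713918)) (.node (.leaf 26484502) (.leaf 21074933))))) (.node (.node (.node (.node (.leaf 20502181) (.leaf 2638468)) (.node (.leaf 28709573) (.leaf 10685065))) (.node (.node (.leaf 20565932) (.leaf 2626906)) (.node (.leaf 29859888) (.leaf 33131838)))) (.node (.node (.node (.leaf 19256900) (.leaf 2645281)) (.node (.leaf 31885572) (.leaf 32133113))) (.node (.node (.leaf 1907430) (.leaf 12164317)) (.node (.leaf 14244154) (.leaf 17110982)))))) (.node (.node (.node (.node (.node (.leaf 26660497) (.leaf 17056141)) (.node (.leaf 32607758) (.leaf 21782957))) (.node (.node (.leaf 25712066) (.leaf 17058077))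 (.node (.leaf 16597590) (.leaf 18063800)))) (.node (.node (.node (.leaf 11634241) (.leaf 6476669)) (.node (.leaf 18745592) (.leaf 8131918))) (.node (.node (.leaf 2966449) (.leaf 28250593)) (.node (.leaf 19089253) (.leaf 30673772))))) (.node (.node (.node (.node (.leaf 5359217) (.leaf 33954914)) (.node (.leaf 350692) (.leaf 280552))) (.node (.node (.leaf 2644245) (.leaf 10112800)) (.node (.leaf 18356768) (.leaf 20414464)))) (.node (.node (.node (.leaf 18744060) (.leaf 4904262)) (.node (.leaf 30414454) (.leaf 25182798))) (.node (.node (.leaf 32901340) (.leaf 31690708)) (.node (.leaf 18793706) (.leaf 29017541)))))))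

/-- A point of the block, part 214. -/
def ptCodePart214 : Janko1.Tree ℕ := (.node (.node (.node (.node (.node (.node (.leaf 30610910) (.leaf 32342865)) (.node (.leaf 18996861) (.leaf 34161748))) (.node (.node (.leaf 10444168) (.leaf 32690749)) (.node (.leaf 28614001) (.leaf 23052557)))) (.node (.node (.node (.leaf 26661017) (.leaf 5357728)) (.node (.leaf 2432106) (.leaf 28704962))) (.node (.node (.leaf 20566145) (.leaf 32901509)) (.node (.leaf 29185913) (.leaf 30902040))))) (.node (.node (.node (.node (.leaf 1966906) (.leaf 12096896)) (.node (.leaf 28656968) (.leaf 20504961))) (.node (.node (.leaf 27608806) (.leaf 32130354)) (.node (.leaf 29854649) (.leaf 14996881)))) (.node (.node (.node (.leaf 20403245) (.leaf 15784926)) (.node (.leaf 21663681) (.leaf 6244002))) (.node (.node (.leaf 29186514) (.leaf 348984)) (.node (.leaf 9526096) (.leaf 8275904)))))) (.node (.node (.node (.node (.node (.leaf 6248282) (.leaf 14146597)) (.node (.leaf 20961548) (.leaf 3577941))) (.node (.node (.leaf 32137089) (.leaf 28610792))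 (.node (.leaf 17105410) (.leaf 10686781)))) (.node (.node (.node (.leaf 33333468) (.leaf 19824985)) (.node (.leaf 4904358) (.leaf 33655604))) (.node (.node (.leaf 8310661) (.leaf 25707409)) (.node (.leaf 2622322) (.leaf 32510949))))) (.node (.node (.node (.node (.leaf 25856957) (.leaf 26657833)) (.node (.leaf 32965056) (.leaf 26399128))) (.node (.node (.leaf 33949544) (.leaf 7986902)) (.node (.leaf 32588069) (.leaf 11802546)))) (.node (.node (.node (.leaf 20649326) (.leaf 6119204)) (.node (.leaf 8969137) (.leaf 10897009))) (.node (.node (.leaf 4527049) (.leaf 4017364)) (.node (.leaf 24037892) (.leaf 33870333)))))))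

/-- A point of the block, part 215. -/
def ptCodePart215 : Janko1.Tree ℕ := (.node (.node (.node (.node (.node (.node (.leaf 18352389) (.leaf 21774956)) (.node (.leaf 13484142) (.leaf 33333226))) (.node (.node (.leaf 2430585) (.leaf 7394886)) (.node (.leaf 26581413) (.leaf 8307724)))) (.node (.node (.node (.leaf 25861328) (.leaf 34164568)) (.node (.leaf 983925) (.leaf 34838922))) (.node (.node (.leaf 28888252) (.leaf 9520588)) (.node (.leaf 28251257) (.leaf 29219989))))) (.node (.node (.node (.node (.leaf 10441309) (.leaf 21664584)) (.node (.leaf 14991961) (.leaf 32135185))) (.node (.node (.leaf 5408273) (.leaf 4529414)) (.node (.leaf 3572537) (.leaf 28187465)))) (.node (.node (.node (.leaf 8834426) (.leaf 29186506)) (.node (.leaf 26395942) (.leaf 18354593))) (.node (.node (.leaf 721985) (.leaf 24974829)) (.node (.leaf 31459018) (.leaf 10900016)))))) (.node (.node (.node (.node (.node (.leaf 28872708) (.leaf 24974806)) (.node (.leaf 32115453) (.leaf 34164172))) (.node (.node (.leaf 8115114) (.leaf 2430886))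 (.node (.leaf 25714122) (.leaf 6209568)))) (.node (.node (.node (.leaf 26971521) (.leaf 8966998)) (.node (.leaf 21775329) (.leaf 2428396))) (.node (.node (.leaf 26971713) (.leaf 32593950)) (.node (.leaf 8996653) (.leaf 21662077))))) (.node (.node (.node (.node (.leaf 26662918) (.leaf 28254073)) (.node (.leaf 596928) (.leaf 21974877))) (.node (.node (.leaf 33458036) (.leaf 13013649)) (.node (.leaf 23057014) (.leaf 18750377)))) (.node (.node (.node (.leaf 7149796) (.leaf 20546534)) (.node (.leaf 19205329) (.leaf 2639585))) (.node (.node (.leaf 11801033) (.leaf 30900500)) (.node (.leaf 28892573) (.leaf 12093840)))))))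

/-- A point of the block, part 216. -/
def ptCodePart216 : Janko1.Tree ℕ := (.node (.node (.node (.node (.node (.node (.leaf 7670212) (.leaf 14671108)) (.node (.leaf 20402370) (.leaf 27022753))) (.node (.node (.leaf 7150746) (.leaf 29217700)) (.node (.leaf 22513622) (.leaf 10442326)))) (.node (.node (.node (.leaf 9557601) (.leaf 4017204)) (.node (.leaf 31427126) (.leaf 4017613))) (.node (.node (.leaf 24043457) (.leaf 18354638)) (.node (.leaf 1199318) (.leaf 26282552))))) (.node (.node (.node (.node (.leaf 33260236) (.leaf 6115250)) (.node (.leaf 16784064) (.leaf 18941705))) (.node (.node (.leaf 34652206) (.leaf 18992093)) (.node (.leaf 31688878) (.leaf 7981744)))) (.node (.node (.node (.leaf 8132074) (.leaf 8126785)) (.node (.leaf 13221914) (.leaf 4738458))) (.node (.node (.leaf 18947177) (.leaf 13639196)) (.node (.leaf 32906126) (.leaf 18057328)))))) (.node (.node (.node (.node (.node (.leaf 13720958) (.leaf 12993532)) (.node (.leaf 18664912) (.leaf 29907164))) (.node (.node (.leaf 1203230) (.leaf 19827413))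 (.node (.leaf 27612706) (.leaf 20503932)))) (.node (.node (.node (.leaf 14518004) (.leaf 26643712)) (.node (.leaf 1901690) (.leaf 4021893))) (.node (.node (.leaf 28663130) (.leaf 27022942)) (.node (.leaf 7146438) (.leaf 7147965))))) (.node (.node (.node (.node (.leaf 8307002) (.leaf 28711206)) (.node (.leaf 18160812) (.leaf 17061681))) (.node (.node (.leaf 31425289) (.leaf 15015937)) (.node (.leaf 31891469) (.leaf 33950708)))) (.node (.node (.node (.leaf 10688434) (.leaf 18745264)) (.node (.leaf 32119896) (.leaf 28705694))) (.node (.node (.leaf 33868490) (.leaf 8832640)) (.node (.leaf 16600678) (.leaf 13631782)))))))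

/-- A point of the block, part 217. -/
def ptCodePart217 : Janko1.Tree ℕ := (.node (.node (.node (.node (.node (.node (.leaf 21979132) (.leaf 7389762)) (.node (.leaf 6720944) (.leaf 11637070))) (.node (.node (.leaf 8996946) (.leaf 33653190)) (.node (.leaf 28613521) (.leaf 33867369)))) (.node (.node (.node (.leaf 31461374) (.leaf 26642529)) (.node (.leaf 25578252) (.leaf 12158492))) (.node (.node (.leaf 2919865) (.leaf 32591574)) (.node (.leaf 8128292) (.leaf 12259497))))) (.node (.node (.node (.node (.leaf 28890381) (.leaf 30671334)) (.node (.leaf 21662045) (.leaf 6965561))) (.node (.node (.leaf 6215813) (.leaf 29220113)) (.node (.leaf 5409168) (.leaf 21710974)))) (.node (.node (.node (.leaf 33329908) (.leaf 6724094)) (.node (.leaf 5161090) (.leaf 13716828))) (.node (.node (.leaf 18160428) (.leaf 1545957)) (.node (.leaf 28885913) (.leaf 10113221)))))) (.node (.node (.node (.node (.node (.leaf 16785404) (.leaf 29301541)) (.node (.leaf 18060254) (.leaf 27607990))) (.node (.node (.leaf 18894541) (.leaf 33656070))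 (.node (.leaf 24332081) (.leaf 32687172)))) (.node (.node (.node (.leaf 31432434) (.leaf 29213236)) (.node (.leaf 12993874) (.leaf 20955237))) (.node (.node (.leaf 20958672) (.leaf 21632857)) (.node (.leaf 26285838) (.leaf 18794589))))) (.node (.node (.node (.node (.leaf 34163301) (.leaf 4888484)) (.node (.leaf 11508137) (.leaf 16785358))) (.node (.node (.leaf 18357112) (.leaf 17375201)) (.node (.leaf 34834332) (.leaf 33872961)))) (.node (.node (.node (.leaf 23593130) (.leaf 14664333)) (.node (.leaf 4886284) (.leaf 8277776))) (.node (.node (.leaf 9560157) (.leaf 21977648)) (.node (.leaf 21972026) (.leaf 7310132)))))))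

/-- A point of the block, part 218. -/
def ptCodePart218 : Janko1.Tree ℕ := (.node (.node (.node (.node (.node (.node (.leaf 21043290) (.leaf 18154464)) (.node (.leaf 20501504) (.leaf 7393481))) (.node (.node (.leaf 1546970) (.leaf 4902505)) (.node (.leaf 1900933) (.leaf 17064126)))) (.node (.node (.node (.leaf 7673964) (.leaf 8880754)) (.node (.leaf 29302450) (.leaf 5358456))) (.node (.node (.leaf 2972313) (.leaf 2628941)) (.node (.leaf 9520500) (.leaf 24335602))))) (.node (.node (.node (.node (.leaf 23593070) (.leaf 11639358)) (.node (.leaf 11797858) (.leaf 21629636))) (.node (.node (.leaf 29508204) (.leaf 5165514)) (.node (.leaf 728392) (.leaf 19830110)))) (.node (.node (.node (.leaf 351480) (.leaf 28874478)) (.node (.leaf 32608573) (.leaf 13076410))) (.node (.node (.leaf 4530392) (.leaf 32513808)) (.node (.leaf 20651277) (.leaf 597998)))))) (.node (.node (.node (.node (.node (.leaf 21978212) (.leaf 17747714)) (.node (.leaf 15781365) (.leaf 11636682))) (.node (.node (.leaf 13112768) (.leaf 8506213)) (.node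 (.leaf 14669253) (.leaf 18669548)))) (.node (.node (.node (.leaf 31431142) (.leaf 20647006)) (.node (.leaf 22910360) (.leaf 8314501))) (.node (.node (.leaf 17752017) (.leaf 24336153)) (.node (.leaf 4904604) (.leaf 33264150))))) (.node (.node (.node (.node (.leaf 6210249) (.leaf 15785416)) (.node (.leaf 30773193) (.leaf 30777600))) (.node (.node (.leaf 31772488) (.leaf 2923138)) (.node (.leaf 34840790) (.leaf 728541)))) (.node (.node (.node (.leaf 33215518) (.leaf 23058140)) (.node (.leaf 32346406) (.leaf 10442556))) (.node (.node (.leaf 13487154) (.leaf 14518350)) (.node (.leaf 17107168) (.leaf 25859962)))))))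

/-- A point of the block, part 219. -/
def ptCodePart219 : Janko1.Tree ℕ := (.node (.node (.node (.node (.node (.node (.leaf 2431408) (.leaf 33218000)) (.node (.leaf 726578) (.leaf 8131944))) (.node (.node (.leaf 31461553) (.leaf 30409537)) (.node (.leaf 14112650) (.leaf 21709052)))) (.node (.node (.node (.leaf 6478217) (.leaf 13713809)) (.node (.leaf 17372324) (.leaf 13634554))) (.node (.node (.leaf 24518049) (.leaf 28607966)) (.node (.leaf 33129669) (.leaf 35282206))))) (.node (.node (.node (.node (.leaf 22913097) (.leaf 28656222)) (.node (.leaf 6215002) (.leaf 1547616))) (.node (.node (.leaf 11804800) (.leaf 14668069)) (.node (.leaf 24038668) (.leaf 6967362)))) (.node (.node (.node (.leaf 25577013) (.leaf 26973026)) (.node (.leaf 22908889) (.leaf 4884982))) (.node (.node (.leaf 29016257) (.leaf 12163713)) (.node (.leaf 8134837) (.leaf 30612673)))))) (.node (.node (.node (.node (.node (.leaf 24976238) (.leaf 4066326)) (.node (.leaf 8885309) (.leaf 6212572))) (.node (.node (.leaf 16647014) (.leaf 20962926))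 (.node (.leaf 28872530) (.leaf 8128850)))) (.node (.node (.node (.leaf 18796114) (.leaf 22912552)) (.node (.leaf 33654002) (.leaf 6477329))) (.node (.node (.leaf 25577357) (.leaf 7310668)) (.node (.leaf 34165090) (.leaf 2626028))))) (.node (.node (.node (.node (.leaf 34835636) (.leaf 10897426)) (.node (.leaf 12999506) (.leaf 18894274))) (.node (.node (.leaf 28629885) (.leaf 14110004)) (.node (.leaf 1968813) (.leaf 31687769)))) (.node (.node (.node (.leaf 29510977) (.leaf 31692085)) (.node (.leaf 33660429) (.leaf 29187565))) (.node (.node (.leaf 13016397) (.leaf 9523162)) (.node (.leaf 32510716) (.leaf 24043313)))))))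

/-- A point of the block, part 220. -/
def ptCodePart220 : Janko1.Tree ℕ := (.node (.node (.node (.node (.node (.node (.leaf 19824885) (.leaf 6244266)) (.node (.leaf 26976562) (.leaf 728573))) (.node (.node (.leaf 12980630) (.leaf 10897885)) (.node (.leaf 20569813) (.leaf 21037246)))) (.node (.node (.node (.leaf 20546649) (.leaf 32507356)) (.node (.leaf 32349804) (.leaf 21971290))) (.node (.node (.leaf 26399352) (.leaf 30904313)) (.node (.leaf 32903968) (.leaf 29856629))))) (.node (.node (.node (.node (.leaf 34654574) (.leaf 35279084)) (.node (.leaf 31885762) (.leaf 19256608))) (.node (.node (.leaf 29300084) (.leaf 23600684)) (.node (.leaf 18354160) (.leaf 18749606)))) (.node (.node (.node (.leaf 33954408) (.leaf 16605130)) (.node (.leaf 8115626) (.leaf 18945194))) (.node (.node (.leaf 26287988) (.leaf 14108370)) (.node (.leaf 20548880) (.leaf 13492374)))))) (.node (.node (.node (.node (.node (.leaf 16601025) (.leaf 29218414)) (.node (.leaf 5359324) (.leaf 28055053))) (.node (.node (.leaf 20421468) (.leaf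 8885288)) (.node (.leaf 8504533) (.leaf 32608356)))) (.node (.node (.node (.leaf 14143562) (.leaf 4890312)) (.node (.leaf 18057352) (.leaf 29857101))) (.node (.node (.leaf 8882988) (.leaf 15780861)) (.node (.leaf 12260233) (.leaf 29216965))))) (.node (.node (.node (.node (.leaf 18668217) (.leaf 31777100)) (.node (.leaf 4148220) (.leaf 19826490))) (.node (.node (.leaf 344178) (.leaf 34658060)) (.node (.leaf 21070924) (.leaf 6118932)))) (.node (.node (.node (.leaf 26287486) (.leaf 24038377)) (.node (.leaf 34947526) (.leaf 19091273))) (.node (.node (.leaf 30417216) (.leaf 22907598)) (.node (.leaf 14114378) (.leaf 8997320)))))))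

/-- A point of the block, part 221. -/
def ptCodePart221 : Janko1.Tree ℕ := (.node (.node (.node (.node (.node (.node (.leaf 7669960) (.leaf 8116449)) (.node (.leaf 25860444) (.leaf 7392773))) (.node (.node (.leaf 8883220) (.leaf 25578562)) (.node (.leaf 10902508) (.leaf 13115108)))) (.node (.node (.node (.leaf 23598561) (.leaf 17373448)) (.node (.leaf 22516546) (.leaf 29900897))) (.node (.node (.leaf 10690486) (.leaf 12258896)) (.node (.leaf 26648272) (.leaf 13222448))))) (.node (.node (.node (.node (.leaf 10896662) (.leaf 8112489)) (.node (.leaf 8880237) (.leaf 18056109))) (.node (.node (.leaf 18890877) (.leaf 28892152)) (.node (.leaf 32508481) (.leaf 21775722)))) (.node (.node (.node (.leaf 32344166) (.leaf 8838693)) (.node (.leaf 7671213) (.leaf 14518816))) (.node (.node (.leaf 21662928) (.leaf 8281353)) (.node (.leaf 13016948) (.leaf 1906386)))))) (.node (.node (.node (.node (.node (.leaf 17374556) (.leaf 14523824)) (.node (.leaf 29902482) (.leaf 6246634))) (.node (.node (.leaf 18997392) (.leaf 16598720))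 (.node (.leaf 30776508) (.leaf 6970961)))) (.node (.node (.node (.leaf 33459974) (.leaf 1969577)) (.node (.leaf 20564168) (.leaf 10901448))) (.node (.node (.leaf 12164956) (.leaf 31691800)) (.node (.leaf 30606185) (.leaf 33214394))))) (.node (.node (.node (.node (.leaf 11801060) (.leaf 28664173)) (.node (.leaf 28613385) (.leaf 282306))) (.node (.node (.leaf 30674026) (.leaf 286930)) (.node (.leaf 32605838) (.leaf 18896704)))) (.node (.node (.node (.leaf 31430056) (.leaf 14141616)) (.node (.leaf 33445353) (.leaf 21781298))) (.node (.node (.leaf 30901104) (.leaf 2625834)) (.node (.leaf 9524294) (.leaf 8997874)))))))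

/-- A point of the block, part 222. -/
def ptCodePart222 : Janko1.Tree ℕ := (.node (.node (.node (.node (.node (.node (.leaf 30613076) (.leaf 13009261)) (.node (.leaf 28056320) (.leaf 1542445))) (.node (.node (.leaf 31426056) (.leaf 32690149)) (.node (.leaf 29859158) (.leaf 23056362)))) (.node (.node (.node (.leaf 4735206) (.leaf 12256922)) (.node (.leaf 14109694) (.leaf 32966498))) (.node (.node (.leaf 26397900) (.leaf 21301897)) (.node (.leaf 21039968) (.leaf 7981188))))) (.node (.node (.node (.node (.leaf 6721629) (.leaf 20961674)) (.node (.leaf 21306113) (.leaf 344764))) (.node (.node (.leaf 4014090) (.leaf 1200574)) (.node (.leaf 25711186) (.leaf 31465776)))) (.node (.node (.node (.leaf 8314141) (.leaf 34655132)) (.node (.leaf 11504420) (.leaf 19824793))) (.node (.node (.leaf 4153256) (.leaf 28885889)) (.node (.leaf 33261109) (.leaf 33260841)))))) (.node (.node (.node (.node (.node (.leaf 2916618) (.leaf 28875084)) (.node (.leaf 6968938) (.leaf 14111622))) (.node (.node (.leaf 8504108) (.leaf 28055657))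 (.node (.leaf 8966037) (.leaf 17370200)))) (.node (.node (.node (.leaf 20404381) (.leaf 13486506)) (.node (.leaf 34836556) (.leaf 2639176))) (.node (.node (.leaf 31769504) (.leaf 28627992)) (.node (.leaf 21711666) (.leaf 29515337))))) (.node (.node (.node (.node (.leaf 1199737) (.leaf 35279694)) (.node (.leaf 34833450) (.leaf 28053917))) (.node (.node (.leaf 11803744) (.leaf 20399797)) (.node (.leaf 590248) (.leaf 33955758)))) (.node (.node (.node (.leaf 14139649) (.leaf 17744496)) (.node (.leaf 17059916) (.leaf 27024730))) (.node (.node (.leaf 32966272) (.leaf 31770488)) (.node (.leaf 4899100) (.leaf 4524822)))))))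

/-- A point of the block, part 223. -/
def ptCodePart223 : Janko1.Tree ℕ := (.node (.node (.node (.node (.node (.node (.leaf 21078162) (.leaf 13074902)) (.node (.leaf 18062941) (.leaf 32606214))) (.node (.node (.leaf 11798813) (.leaf 29510272)) (.node (.leaf 1203157) (.leaf 2973454)))) (.node (.node (.node (.leaf 2971037) (.leaf 32903161)) (.node (.leaf 29294640) (.leaf 8882640))) (.node (.node (.leaf 6967137) (.leaf 24513682)) (.node (.leaf 8281828) (.leaf 29905604))))) (.node (.node (.node (.node (.leaf 9556761) (.leaf 14238697)) (.node (.leaf 24510989) (.leaf 28656038))) (.node (.node (.leaf 18156586) (.leaf 27610532)) (.node (.leaf 278598) (.leaf 25709352)))) (.node (.node (.node (.leaf 28709409) (.leaf 9527422)) (.node (.leaf 25583798) (.leaf 25862185))) (.node (.node (.leaf 18793504) (.leaf 8966213)) (.node (.leaf 16648876) (.leaf 18947840)))))) (.node (.node (.node (.node (.node (.leaf 33869842) (.leaf 12258192)) (.node (.leaf 33261858) (.leaf 28705272))) (.node (.node (.leaf 30901590) (.leaf 29180369))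 (.node (.leaf 21040646) (.leaf 26969768)))) (.node (.node (.node (.leaf 6963530) (.leaf 7983576)) (.node (.leaf 10440834) (.leaf 20415677))) (.node (.node (.leaf 24517321) (.leaf 20567184)) (.node (.leaf 20646352) (.leaf 24970350))))) (.node (.node (.node (.node (.leaf 20546697) (.leaf 2638348)) (.node (.leaf 29020684) (.leaf 33948054))) (.node (.node (.leaf 30777373) (.leaf 13490945)) (.node (.leaf 12092025) (.leaf 4529686)))) (.node (.node (.node (.leaf 26643338) (.leaf 32694110)) (.node (.leaf 17748536) (.leaf 21979332))) (.node (.node (.leaf 7308817) (.leaf 32350502)) (.node (.leaf 29019481) (.leaf 33217353)))))))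

/-- A point of the block, part 224. -/
def ptCodePart224 : Janko1.Tree ℕ := (.node (.node (.node (.node (.node (.node (.leaf 31465873) (.leaf 13637592)) (.node (.leaf 32612058) (.leaf 17744350))) (.node (.node (.leaf 28658588) (.leaf 2629421)) (.node (.leaf 32594264) (.leaf 26662213)))) (.node (.node (.node (.leaf 30902186) (.leaf 7669696)) (.node (.leaf 21630090) (.leaf 11504466))) (.node (.node (.leaf 28887169) (.leaf 27023029)) (.node (.leaf 27609486) (.leaf 1902874))))) (.node (.node (.node (.node (.leaf 20568552) (.leaf 18751029)) (.node (.leaf 34167981) (.leaf 25186962))) (.node (.node (.leaf 26287701) (.leaf 591434)) (.node (.leaf 7982365) (.leaf 28656912)))) (.node (.node (.node (.leaf 2426264) (.leaf 8506438)) (.node (.leaf 11508322) (.leaf 26482668))) (.node (.node (.leaf 29902653) (.leaf 13074974)) (.node (.leaf 13484890) (.leaf 18892020)))))) (.node (.node (.node (.node (.node (.leaf 5364025) (.leaf 6111496)) (.node (.leaf 18897408) (.leaf 6250334))) (.node (.node (.leaf 34652901) (.leaf 15781794))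 (.node (.leaf 30679004) (.leaf 17058822)))) (.node (.node (.node (.leaf 1201196) (.leaf 1906400)) (.node (.leaf 2425289) (.leaf 19210262))) (.node (.node (.leaf 26477660) (.leaf 348884)) (.node (.leaf 8281772) (.leaf 22518624))))) (.node (.node (.node (.node (.leaf 22518082) (.leaf 24332833)) (.node (.leaf 20420184) (.leaf 24040122))) (.node (.node (.leaf 32591198) (.leaf 26581813)) (.node (.leaf 18994813) (.leaf 5161157)))) (.node (.node (.node (.leaf 7146320) (.leaf 2918930)) (.node (.leaf 32137317) (.leaf 18669300))) (.node (.node (.leaf 4146062) (.leaf 33463382)) (.node (.leaf 13082838) (.leaf 593792)))))))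

/-- A point of the block, part 225. -/
def ptCodePart225 : Janko1.Tree ℕ := (.node (.node (.node (.node (.node (.node (.leaf 10112688) (.leaf 33440050)) (.node (.leaf 31612412) (.leaf 35282448))) (.node (.node (.leaf 6480238) (.leaf 10682642)) (.node (.leaf 29183185) (.leaf 29299358)))) (.node (.node (.node (.leaf 35282270) (.leaf 21662728)) (.node (.leaf 13635473) (.leaf 6473244))) (.node (.node (.leaf 23056478) (.leaf 32968545)) (.node (.leaf 16777440) (.leaf 25712382))))) (.node (.node (.node (.node (.leaf 4899896) (.leaf 30612238)) (.node (.leaf 28182430) (.leaf 7311804))) (.node (.node (.leaf 6724862) (.leaf 12984710)) (.node (.leaf 28182250) (.leaf 4883838)))) (.node (.node (.node (.leaf 18793185) (.leaf 31609101)) (.node (.leaf 7308450) (.leaf 4527769))) (.node (.node (.leaf 14995105) (.leaf 18663012)) (.node (.leaf 10443068) (.leaf 7676281)))))) (.node (.node (.node (.node (.node (.leaf 28873553) (.leaf 14139994)) (.node (.leaf 33458705) (.leaf 1972332))) (.node (.node (.leaf 27611318) (.leaf 12098554))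 (.node (.leaf 9551969) (.leaf 29512502)))) (.node (.node (.node (.leaf 34833061) (.leaf 21779484)) (.node (.leaf 18996217) (.leaf 12163330))) (.node (.node (.leaf 8306806) (.leaf 33655400)) (.node (.leaf 8131542) (.leaf 8995353))))) (.node (.node (.node (.node (.leaf 19208476) (.leaf 4064924)) (.node (.leaf 4528429) (.leaf 1540757))) (.node (.node (.leaf 32118406) (.leaf 32967350)) (.node (.leaf 15779620) (.leaf 8832644)))) (.node (.node (.node (.leaf 9527184) (.leaf 8995009)) (.node (.leaf 2972685) (.leaf 4888620))) (.node (.node (.leaf 17110985) (.leaf 10689797)) (.node (.leaf 19204164) (.leaf 21304452)))))))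

/-- A point of the block, part 226. -/
def ptCodePart226 : Janko1.Tree ℕ := (.node (.node (.node (.node (.node (.node (.leaf 34953154) (.leaf 24040314)) (.node (.leaf 11509904) (.leaf 27021568))) (.node (.node (.leaf 18155960) (.leaf 8962532)) (.node (.leaf 30610425) (.leaf 7148630)))) (.node (.node (.node (.leaf 6213684) (.leaf 31884720)) (.node (.leaf 28871626) (.leaf 21781568))) (.node (.node (.leaf 14111489) (.leaf 32588994)) (.node (.leaf 6966917) (.leaf 10115758))))) (.node (.node (.node (.node (.leaf 31607090) (.leaf 26397778)) (.node (.leaf 6718288) (.leaf 5167180))) (.node (.node (.leaf 23054197) (.leaf 20645728)) (.node (.leaf 32118470) (.leaf 10116676)))) (.node (.node (.node (.leaf 25575860) (.leaf 26480282)) (.node (.leaf 12977616) (.leaf 28615025))) (.node (.node (.leaf 29023716) (.leaf 33872012)) (.node (.leaf 21299497) (.leaf 5365424)))))) (.node (.node (.node (.node (.node (.leaf 31429816) (.leaf 33264474)) (.node (.leaf 28614050) (.leaf 1970885))) (.node (.node (.leaf 21074301) (.leaf 21071749))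 (.node (.leaf 7396368) (.leaf 33130182)))) (.node (.node (.node (.leaf 21074269) (.leaf 4737720)) (.node (.leaf 19088676) (.leaf 7673461))) (.node (.node (.leaf 5409096) (.leaf 30413377)) (.node (.leaf 1547033) (.leaf 21039008))))) (.node (.node (.node (.node (.leaf 14108144) (.leaf 4150982)) (.node (.leaf 1198453) (.leaf 17372850))) (.node (.node (.leaf 29297586) (.leaf 12977962)) (.node (.leaf 29514610) (.leaf 7393284)))) (.node (.node (.node (.leaf 20552601) (.leaf 7390686)) (.node (.leaf 4902576) (.leaf 5412429))) (.node (.node (.leaf 13638278) (.leaf 14522974)) (.node (.leaf 29901986) (.leaf 34951681)))))))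

/-- A point of the block, part 227. -/
def ptCodePart227 : Janko1.Tree ℕ := (.node (.node (.node (.node (.node (.node (.leaf 12091669) (.leaf 12091545)) (.node (.leaf 5358608) (.leaf 8115288))) (.node (.node (.leaf 27023742) (.leaf 20496854)) (.node (.leaf 29017989) (.leaf 20568484)))) (.node (.node (.node (.leaf 29901446) (.leaf 20402764)) (.node (.leaf 30414749) (.leaf 32688410))) (.node (.node (.leaf 25188402) (.leaf 33457049)) (.node (.leaf 26480153) (.leaf 20548632))))) (.node (.node (.node (.node (.leaf 12162910) (.leaf 27612242)) (.node (.leaf 10111900) (.leaf 18797814))) (.node (.node (.leaf 29855613) (.leaf 30672806)) (.node (.leaf 21043470) (.leaf 14238854)))) (.node (.node (.node (.leaf 30670936) (.leaf 6970285)) (.node (.leaf 14238794) (.leaf 13076670))) (.node (.node (.leaf 28181513) (.leaf 9552921)) (.node (.leaf 13492309) (.leaf 8274892)))))) (.node (.node (.node (.node (.node (.leaf 10686693) (.leaf 32116556)) (.node (.leaf 14143345) (.leaf 30612360))) (.node (.node (.leaf 26657442) (.leaf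 23594374)) (.node (.leaf 7983878) (.leaf 2924240)))) (.node (.node (.node (.leaf 33445470) (.leaf 31688398)) (.node (.leaf 12259042) (.leaf 34654129))) (.node (.node (.leaf 18750453) (.leaf 10899837)) (.node (.leaf 29853893) (.leaf 16651465))))) (.node (.node (.node (.node (.leaf 33131957) (.leaf 18154538)) (.node (.leaf 26969085) (.leaf 26581841))) (.node (.node (.leaf 29299626) (.leaf 25582928)) (.node (.leaf 26648038) (.leaf 26583162)))) (.node (.node (.node (.leaf 990701) (.leaf 19088516)) (.node (.leaf 12978122) (.leaf 19254826))) (.node (.node (.leaf 6478417) (.leaf 13229648)) (.node (.leaf 6244758) (.leaf 11633672)))))))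

/-- A point of the block, part 228. -/
def ptCodePart228 : Janko1.Tree ℕ := (.node (.node (.node (.node (.node (.node (.leaf 33441706) (.leaf 5407765)) (.node (.leaf 18993350) (.leaf 17368768))) (.node (.node (.leaf 18061498) (.leaf 9552577)) (.node (.leaf 30774952) (.leaf 18356500)))) (.node (.node (.node (.leaf 18942898) (.leaf 13012484)) (.node (.leaf 6243516) (.leaf 8505136))) (.node (.node (.leaf 4735513) (.leaf 13081365)) (.node (.leaf 32135102) (.leaf 33327334))))) (.node (.node (.node (.node (.leaf 31460888) (.leaf 33461820)) (.node (.leaf 11503810) (.leaf 31776302))) (.node (.node (.leaf 30769688) (.leaf 6209973)) (.node (.leaf 8509457) (.leaf 8831754)))) (.node (.node (.node (.leaf 33129456) (.leaf 18940793)) (.node (.leaf 5410458) (.leaf 18941525))) (.node (.node (.leaf 4152470) (.leaf 33330749)) (.node (.leaf 31887046) (.leaf 29022284)))))) (.node (.node (.node (.node (.node (.leaf 10112992) (.leaf 24335677)) (.node (.leaf 19204645) (.leaf 3577098))) (.node (.node (.leaf 13229037) (.leaf 35281601))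 (.node (.leaf 32687046) (.leaf 14523666)))) (.node (.node (.node (.leaf 33131356) (.leaf 13222740)) (.node (.leaf 33445696) (.leaf 722228))) (.node (.node (.leaf 33867108) (.leaf 7312056)) (.node (.leaf 21632258) (.leaf 4890793))))) (.node (.node (.node (.node (.leaf 31774130) (.leaf 32692490)) (.node (.leaf 28712576) (.leaf 2919188))) (.node (.node (.leaf 23053853) (.leaf 14517804)) (.node (.leaf 31692690) (.leaf 595172)))) (.node (.node (.node (.leaf 17111457) (.leaf 30673737)) (.node (.leaf 28055482) (.leaf 19204801))) (.node (.node (.leaf 20550797) (.leaf 20649432)) (.node (.leaf 1905546) (.leaf 18059414)))))))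

/-- A point of the block, part 229. -/
def ptCodePart229 : Janko1.Tree ℕ := (.node (.node (.node (.node (.node (.node (.leaf 25856021) (.leaf 286009)) (.node (.leaf 16605496) (.leaf 7151493))) (.node (.node (.leaf 18667450) (.leaf 21664572)) (.node (.leaf 4145220) (.leaf 4020908)))) (.node (.node (.node (.leaf 12159229) (.leaf 21631006)) (.node (.leaf 17108249) (.leaf 8963169))) (.node (.node (.leaf 26643836) (.leaf 28186116)) (.node (.leaf 26644504) (.leaf 24514882))))) (.node (.node (.node (.node (.leaf 3574785) (.leaf 6726064)) (.node (.leaf 32966020) (.leaf 19258225))) (.node (.node (.leaf 25857118) (.leaf 33215508)) (.node (.leaf 24977236) (.leaf 32605609)))) (.node (.node (.node (.leaf 13225526) (.leaf 281185)) (.node (.leaf 31612601) (.leaf 16783125))) (.node (.node (.leaf 32591132) (.leaf 14996234)) (.node (.leaf 4066832) (.leaf 33329468)))))) (.node (.node (.node (.node (.node (.leaf 12261493) (.leaf 28629017)) (.node (.leaf 9003420) (.leaf 27609194))) (.node (.node (.leaf 21044185) (.leaf 1971689))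 (.node (.leaf 8966338) (.leaf 3574254)))) (.node (.node (.node (.leaf 32902540) (.leaf 13107500)) (.node (.leaf 26402362) (.leaf 32968001))) (.node (.node (.leaf 12847862) (.leaf 27006974)) (.node (.leaf 28361260) (.leaf 9243046))))) (.node (.node (.node (.node (.leaf 15632384) (.leaf 8013553)) (.node (.leaf 22057744) (.leaf 11179620))) (.node (.node (.leaf 17353632) (.leaf 4366314)) (.node (.leaf 1383578) (.leaf 4326729)))) (.node (.node (.node (.leaf 266390) (.leaf 23731092)) (.node (.leaf 6280562) (.leaf 24616053))) (.node (.node (.leaf 2462569) (.leaf 33914908)) (.node (.leaf 6152512) (.leaf 17620713)))))))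

/-- A point of the block, part 230. -/
def ptCodePart230 : Janko1.Tree ℕ := (.node (.node (.node (.node (.node (.node (.leaf 5610036) (.leaf 19629410)) (.node (.leaf 30772606) (.leaf 17617441))) (.node (.node (.leaf 15358234) (.leaf 5457482)) (.node (.leaf 17353368) (.leaf 27005149)))) (.node (.node (.node (.leaf 18171536) (.leaf 12290989)) (.node (.leaf 22793900) (.leaf 23730706))) (.node (.node (.leaf 5606980) (.leaf 855926)) (.node (.leaf 26643309) (.leaf 9667018))))) (.node (.node (.node (.node (.leaf 31678370) (.leaf 7281788)) (.node (.leaf 9674009) (.leaf 22646366))) (.node (.node (.leaf 28860000) (.leaf 11998388)) (.node (.leaf 17621257) (.leaf 15633480)))) (.node (.node (.node (.leaf 17829890) (.leaf 15846774)) (.node (.leaf 15096524) (.leaf 5295705))) (.node (.node (.leaf 26480061) (.leaf 20548977)) (.node (.leaf 29721473) (.leaf 12258324)))))) (.node (.node (.node (.node (.node (.leaf 30776314) (.leaf 21499578)) (.node (.leaf 24232570) (.leaf 12295560))) (.node (.node (.leaf 17618477) (.leaf 15356766))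 (.node (.leaf 28368534) (.leaf 10903648)))) (.node (.node (.node (.leaf 26067933) (.leaf 9902778)) (.node (.leaf 11994802) (.leaf 34429114))) (.node (.node (.leaf 5035494) (.leaf 15632980)) (.node (.leaf 28367198) (.leaf 27009432))))) (.node (.node (.node (.node (.leaf 26481301) (.leaf 28361106)) (.node (.leaf 17358066) (.leaf 5292792))) (.node (.node (.leaf 17957794) (.leaf 13360346)) (.node (.leaf 8011834) (.leaf 4364412)))) (.node (.node (.node (.leaf 17957624) (.leaf 10736920)) (.node (.leaf 27790377) (.leaf 21661408))) (.node (.node (.leaf 11540009) (.leaf 21664069)) (.node (.leaf 11868806) (.leaf 7506112)))))))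

/-- A point of the block, part 231. -/
def ptCodePart231 : Janko1.Tree ℕ := (.node (.node (.node (.node (.node (.node (.leaf 23122602) (.leaf 26878204)) (.node (.leaf 6086941) (.leaf 29360158))) (.node (.node (.leaf 19553248) (.leaf 24710433)) (.node (.leaf 6150709) (.leaf 11799174)))) (.node (.node (.node (.leaf 165720) (.leaf 7438626)) (.node (.leaf 17473858) (.leaf 13180453))) (.node (.node (.leaf 28200902) (.leaf 12456390)) (.node (.leaf 9246897) (.leaf 26644432))))) (.node (.node (.node (.node (.leaf 27007190) (.leaf 9896424)) (.node (.leaf 5479529) (.leaf 33211704))) (.node (.node (.leaf 6870994) (.leaf 17618278)) (.node (.leaf 853906) (.leaf 25037834)))) (.node (.node (.node (.leaf 5457493) (.leaf 5773088)) (.node (.leaf 34428112) (.leaf 21137340))) (.node (.node (.leaf 15780492) (.leaf 18712965)) (.node (.leaf 3328693) (.leaf 4506060)))))) (.node (.node (.node (.node (.node (.leaf 5477504) (.leaf 16863714)) (.node (.leaf 19634677) (.leaf 24365938))) (.node (.node (.leaf 4262144) (.leaf 30770949))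 (.node (.leaf 33217920) (.leaf 29360802)))) (.node (.node (.node (.leaf 31672070) (.leaf 13929154)) (.node (.leaf 17471508) (.leaf 5608192))) (.node (.node (.leaf 854672) (.leaf 11046552)) (.node (.leaf 16336748) (.leaf 13093896))))) (.node (.node (.node (.node (.leaf 21545013) (.leaf 5606272)) (.node (.leaf 15845174) (.leaf 12506070))) (.node (.node (.leaf 4006136) (.leaf 11177061)) (.node (.leaf 29186277) (.leaf 11534838)))) (.node (.node (.node (.leaf 4265108) (.leaf 3836418)) (.node (.leaf 9897370) (.leaf 18306276))) (.node (.node (.leaf 9241864) (.leaf 11045713)) (.node (.leaf 19635817) (.leaf 27007545)))))))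

/-- A point of the block, part 232. -/
def ptCodePart232 : Janko1.Tree ℕ := (.node (.node (.node (.node (.node (.node (.leaf 8884520) (.leaf 4360238)) (.node (.leaf 26331442) (.leaf 34423346))) (.node (.node (.leaf 17421093) (.leaf 17424082)) (.node (.leaf 27791366) (.leaf 34313782)))) (.node (.node (.node (.leaf 6871254) (.leaf 10902105)) (.node (.leaf 15632640) (.leaf 15632320))) (.node (.node (.leaf 31180482) (.leaf 27861008)) (.node (.leaf 19579010) (.leaf 29367717))))) (.node (.node (.node (.node (.leaf 16583842) (.leaf 9248980)) (.node (.leaf 9673346) (.leaf 19636080))) (.node (.node (.leaf 17358565) (.leaf 26481146)) (.node (.leaf 6872448) (.leaf 11047312)))) (.node (.node (.node (.leaf 28366177) (.leaf 17831196)) (.node (.leaf 13091674) (.leaf 18678962))) (.node (.node (.leaf 17614018) (.leaf 16864536)) (.node (.leaf 3298897) (.leaf 10797225)))))) (.node (.node (.node (.node (.node (.leaf 3873206) (.leaf 3572233)) (.node (.leaf 11994089) (.leaf 6867589))) (.node (.node (.leaf 26477910) (.leaf 7445798))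 (.node (.leaf 5299501) (.leaf 15359600)))) (.node (.node (.node (.leaf 6867121) (.leaf 15090692)) (.node (.leaf 31639925) (.leaf 1347982))) (.node (.node (.leaf 28361365) (.leaf 29335406)) (.node (.leaf 5771498) (.leaf 34308892))))) (.node (.node (.node (.node (.leaf 5292404) (.leaf 17352737)) (.node (.leaf 4328317) (.leaf 24371442))) (.node (.node (.leaf 16717642) (.leaf 122521)) (.node (.leaf 23889445) (.leaf 25042384)))) (.node (.node (.node (.leaf 5774112) (.leaf 11537416)) (.node (.leaf 11344624) (.leaf 31922494))) (.node (.node (.leaf 7128098) (.leaf 15778946)) (.node (.leaf 122170) (.leaf 18685578)))))))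

/-- A point of the block, part 233. -/
def ptCodePart233 : Janko1.Tree ℕ := (.node (.node (.node (.node (.node (.node (.leaf 24237373) (.leaf 12435741)) (.node (.leaf 5819457) (.leaf 493098))) (.node (.node (.leaf 4006322) (.leaf 24494748)) (.node (.leaf 9902429) (.leaf 13099337)))) (.node (.node (.node (.leaf 264068) (.leaf 2212608)) (.node (.leaf 33490114) (.leaf 19580061))) (.node (.node (.leaf 597370) (.leaf 17506390)) (.node (.leaf 34741017) (.leaf 5031241))))) (.node (.node (.node (.node (.leaf 7511648) (.leaf 30805064)) (.node (.leaf 18695484) (.leaf 9672341))) (.node (.node (.leaf 591886) (.leaf 21545501)) (.node (.leaf 6277134) (.leaf 18716268)))) (.node (.node (.node (.leaf 14261552) (.leaf 16859418)) (.node (.leaf 12436998) (.leaf 10801353))) (.node (.node (.leaf 22468366) (.leaf 12505566)) (.node (.leaf 17470137) (.leaf 7280345)))))) (.node (.node (.node (.node (.node (.leaf 16335874) (.leaf 7278465)) (.node (.leaf 5817189) (.leaf 12787189))) (.node (.node (.leaf 32002458) (.leaf 1610584)) (.node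 (.leaf 8883129) (.leaf 31890550)))) (.node (.node (.node (.leaf 18716362) (.leaf 22053896)) (.node (.leaf 11767556) (.leaf 21725726))) (.node (.node (.leaf 5018725) (.leaf 22795609)) (.node (.leaf 2253062) (.leaf 21547126))))) (.node (.node (.node (.node (.leaf 33871861) (.leaf 16962870)) (.node (.leaf 16684714) (.leaf 11340746))) (.node (.node (.leaf 18684722) (.leaf 7131252)) (.node (.leaf 11181468) (.leaf 29332936)))) (.node (.node (.node (.leaf 11001985) (.leaf 1135072)) (.node (.leaf 744704) (.leaf 4326364))) (.node (.node (.leaf 16227097) (.leaf 3334574)) (.node (.leaf 11178048) (.leaf 27528322)))))))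

/-- A point of the block, part 234. -/
def ptCodePart234 : Janko1.Tree ℕ := (.node (.node (.node (.node (.node (.node (.leaf 11865368) (.leaf 5033713)) (.node (.leaf 27794717) (.leaf 31952834))) (.node (.node (.leaf 15884092) (.leaf 7442318)) (.node (.leaf 7129582) (.leaf 1137460)))) (.node (.node (.node (.leaf 30261701) (.leaf 10181776)) (.node (.leaf 31637601) (.leaf 21661749))) (.node (.node (.leaf 17959065) (.leaf 2988149)) (.node (.leaf 10798280) (.leaf 23085789))))) (.node (.node (.node (.node (.leaf 26484796) (.leaf 2050693)) (.node (.leaf 13926738) (.leaf 6147341))) (.node (.node (.leaf 3752400) (.leaf 32218208)) (.node (.leaf 12290333) (.leaf 5297338)))) (.node (.node (.node (.leaf 24710145) (.leaf 21547677)) (.node (.leaf 14769170) (.leaf 11764656))) (.node (.node (.leaf 5292084) (.leaf 11049142)) (.node (.leaf 28201341) (.leaf 10193548)))))) (.node (.node (.node (.node (.node (.leaf 26875649) (.leaf 9245200)) (.node (.leaf 27852946) (.leaf 26646154))) (.node (.node (.leaf 15277784) (.leaf 15882026))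 (.node (.leaf 31956713) (.leaf 22644424)))) (.node (.node (.node (.leaf 27562917) (.leaf 17826828)) (.node (.leaf 7307974) (.leaf 25039066))) (.node (.node (.leaf 24615497) (.leaf 3295088)) (.node (.leaf 21660005) (.leaf 22649874))))) (.node (.node (.node (.node (.leaf 31885741) (.leaf 23725741)) (.node (.leaf 19452984) (.leaf 26335614))) (.node (.node (.leaf 29360360) (.leaf 12262848)) (.node (.leaf 17472590) (.leaf 23364237)))) (.node (.node (.node (.leaf 13928260) (.leaf 18701302)) (.node (.leaf 16732128) (.leaf 16680590))) (.node (.node (.leaf 33230788) (.leaf 5030492)) (.node (.leaf 13090970) (.leaf 24714158)))))))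

/-- A point of the block, part 235. -/
def ptCodePart235 : Janko1.Tree ℕ := (.node (.node (.node (.node (.node (.node (.leaf 17505554) (.leaf 3572996)) (.node (.leaf 3874905) (.leaf 5472652))) (.node (.node (.leaf 8080858) (.leaf 10737968)) (.node (.leaf 31185573) (.leaf 23121626)))) (.node (.node (.node (.leaf 12443688) (.leaf 31639834)) (.node (.leaf 7307596) (.leaf 3297053))) (.node (.node (.leaf 23889413) (.leaf 2251242)) (.node (.leaf 19449178) (.leaf 3756514))))) (.node (.node (.node (.node (.leaf 10801345) (.leaf 3752944)) (.node (.leaf 19488460) (.leaf 7506846))) (.node (.node (.leaf 23092196) (.leaf 24707841)) (.node (.leaf 1131200) (.leaf 28055574)))) (.node (.node (.node (.leaf 34423489) (.leaf 33872842)) (.node (.leaf 24238796) (.leaf 34065197))) (.node (.node (.leaf 3755941) (.leaf 12442889)) (.node (.leaf 122106) (.leaf 22169077)))))) (.node (.node (.node (.node (.node (.leaf 1809614) (.leaf 16861292)) (.node (.leaf 29335229) (.leaf 5737882))) (.node (.node (.leaf 24037481) (.leaf 27204948))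 (.node (.leaf 2738809) (.leaf 17305061)))) (.node (.node (.node (.leaf 19206413) (.leaf 4513046)) (.node (.leaf 13097613) (.leaf 34736789))) (.node (.node (.leaf 33492965) (.leaf 12503809)) (.node (.leaf 33218337) (.leaf 30426830))))) (.node (.node (.node (.node (.leaf 8686424) (.leaf 31187248)) (.node (.leaf 165609) (.leaf 33494916))) (.node (.node (.leaf 10734521) (.leaf 21142476)) (.node (.leaf 29327770) (.leaf 18178074)))) (.node (.node (.node (.leaf 31891849) (.leaf 30261690)) (.node (.leaf 4985428) (.leaf 29180893))) (.node (.node (.leaf 16583710) (.leaf 6659340)) (.node (.leaf 16588968) (.leaf 7127485)))))))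

/-- A point of the block, part 236. -/
def ptCodePart236 : Janko1.Tree ℕ := (.node (.node (.node (.node (.node (.node (.leaf 16718766) (.leaf 738813)) (.node (.leaf 15273044) (.leaf 31955628))) (.node (.node (.leaf 21501409) (.leaf 1131685)) (.node (.leaf 3752061) (.leaf 13358941)))) (.node (.node (.node (.leaf 11796853) (.leaf 16586796)) (.node (.leaf 27853550) (.leaf 11804325))) (.node (.node (.leaf 19632526) (.leaf 28363806)) (.node (.leaf 24282537) (.leaf 14767633))))) (.node (.node (.node (.node (.leaf 13098177) (.leaf 12509510)) (.node (.leaf 27003276) (.leaf 24233201))) (.node (.node (.leaf 19484400) (.leaf 4513816)) (.node (.leaf 19013173) (.leaf 34068744)))) (.node (.node (.node (.leaf 3837006) (.leaf 3837718)) (.node (.leaf 22174589) (.leaf 22169577))) (.node (.node (.leaf 26074564) (.leaf 32213090)) (.node (.leaf 24495325) (.leaf 10177910)))))) (.node (.node (.node (.node (.node (.leaf 5460321) (.leaf 7313312)) (.node (.leaf 18862908) (.leaf 3573118))) (.node (.node (.leaf 5507854) (.leaf 18699009))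 (.node (.leaf 5478638) (.leaf 28854226)))) (.node (.node (.node (.leaf 21725786) (.leaf 5457273)) (.node (.leaf 16682138) (.leaf 3873104))) (.node (.node (.leaf 11063550) (.leaf 28050456)) (.node (.leaf 5773006) (.leaf 5824654))))) (.node (.node (.node (.node (.leaf 7312577) (.leaf 34431094)) (.node (.leaf 29335610) (.leaf 1609114))) (.node (.node (.leaf 31886070) (.leaf 4982805)) (.node (.leaf 15997489) (.leaf 12456446)))) (.node (.node (.node (.leaf 20484105) (.leaf 21022590)) (.node (.leaf 11345013) (.leaf 2050314))) (.node (.node (.leaf 34314900) (.leaf 22058480)) (.node (.leaf 20552296) (.leaf 11539457)))))))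

/-- A point of the block, part 237. -/
def ptCodePart237 : Janko1.Tree ℕ := (.node (.node (.node (.node (.node (.node (.leaf 17310010) (.leaf 23090136)) (.node (.leaf 2249937) (.leaf 16228430))) (.node (.node (.leaf 33489362) (.leaf 20486356)) (.node (.leaf 591082) (.leaf 14764856)))) (.node (.node (.node (.leaf 33917690) (.leaf 18308358)) (.node (.leaf 18863866) (.leaf 26874892))) (.node (.node (.leaf 7505881) (.leaf 4262092)) (.node (.leaf 34063286) (.leaf 3298565))))) (.node (.node (.node (.node (.leaf 24371372) (.leaf 18174104)) (.node (.leaf 1345258) (.leaf 8019440))) (.node (.node (.leaf 32215013) (.leaf 29721961)) (.node (.leaf 28053786) (.leaf 5817836)))) (.node (.node (.node (.leaf 628025) (.leaf 22464166)) (.node (.leaf 28853384) (.leaf 26072474))) (.node (.node (.leaf 27564450) (.leaf 16735868)) (.node (.leaf 4326077) (.leaf 23730296)))))) (.node (.node (.node (.node (.node (.leaf 11803574) (.leaf 21026160)) (.node (.leaf 3998466) (.leaf 18865880))) (.node (.node (.leaf 22878526) (.leaf 27794197))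 (.node (.leaf 10196554) (.leaf 33870145)))) (.node (.node (.node (.leaf 17960368) (.leaf 17499241)) (.node (.leaf 19584566) (.leaf 27204813))) (.node (.node (.leaf 15998881) (.leaf 17547330)) (.node (.leaf 16719768) (.leaf 8014744))))) (.node (.node (.node (.node (.leaf 24043745) (.leaf 17306850)) (.node (.leaf 6084562) (.leaf 15278021))) (.node (.node (.leaf 23890161) (.leaf 2736240)) (.node (.leaf 10999036) (.leaf 24496117)))) (.node (.node (.node (.leaf 12259545) (.leaf 7311910)) (.node (.leaf 24236070) (.leaf 16728773))) (.node (.node (.leaf 31887644) (.leaf 11867577)) (.node (.leaf 8685585) (.leaf 10181621)))))))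

/-- A point of the block, part 238. -/
def ptCodePart238 : Janko1.Tree ℕ := (.node (.node (.node (.node (.node (.node (.leaf 14257172) (.leaf 11994724)) (.node (.leaf 14765133) (.leaf 32219506))) (.node (.node (.leaf 15779002) (.leaf 21663476)) (.node (.leaf 5817969) (.leaf 14261713)))) (.node (.node (.node (.leaf 22174290) (.leaf 25038309)) (.node (.leaf 8686105) (.leaf 11864682))) (.node (.node (.leaf 9247926) (.leaf 5640425)) (.node (.leaf 23727868) (.leaf 17547290))))) (.node (.node (.node (.node (.leaf 34428116) (.leaf 31924206)) (.node (.leaf 14257016) (.leaf 27792844))) (.node (.node (.leaf 17420397) (.leaf 18679757)) (.node (.leaf 5461138) (.leaf 16728741)))) (.node (.node (.node (.leaf 22470653) (.leaf 6654153)) (.node (.leaf 1806525) (.leaf 16588386))) (.node (.node (.leaf 12439293) (.leaf 10735989)) (.node (.leaf 26332638) (.leaf 20665016)))))) (.node (.node (.node (.node (.node (.leaf 22792702) (.leaf 27198437)) (.node (.leaf 29725638) (.leaf 18170937))) (.node (.node (.leaf 30804181) (.leaf 30429205))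 (.node (.leaf 23727148) (.leaf 31644598)))) (.node (.node (.node (.leaf 25038118) (.leaf 13099025)) (.node (.leaf 2740836) (.leaf 26074784))) (.node (.node (.leaf 32214581) (.leaf 27200640)) (.node (.leaf 14260488) (.leaf 8081981))))) (.node (.node (.node (.node (.leaf 16228166) (.leaf 32004678)) (.node (.leaf 1346588) (.leaf 3997801))) (.node (.node (.leaf 498256) (.leaf 18301398)) (.node (.leaf 18173764) (.leaf 27860369)))) (.node (.node (.node (.leaf 11338281) (.leaf 12781990)) (.node (.leaf 23087456) (.leaf 6083784))) (.node (.node (.leaf 15783996) (.leaf 27529885)) (.node (.leaf 17499372) (.leaf 29725502)))))))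

/-- A point of the block, part 239. -/
def ptCodePart239 : Janko1.Tree ℕ := (.node (.node (.node (.node (.node (.node (.leaf 20661138) (.leaf 623414)) (.node (.leaf 7018825) (.leaf 16681513))) (.node (.node (.leaf 33918512) (.leaf 19553146)) (.node (.leaf 20661756) (.leaf 18931928)))) (.node (.node (.node (.leaf 7444761) (.leaf 3331848)) (.node (.leaf 12452034) (.leaf 167944))) (.node (.node (.leaf 4332280) (.leaf 26335310)) (.node (.leaf 9245362) (.leaf 24041582))))) (.node (.node (.node (.node (.leaf 15779832) (.leaf 19008221)) (.node (.leaf 10797734) (.leaf 30803120))) (.node (.node (.leaf 24239136) (.leaf 3574970)) (.node (.leaf 11770724) (.leaf 18175341)))) (.node (.node (.node (.leaf 4506301) (.leaf 31998162)) (.node (.leaf 12784946) (.leaf 13175876))) (.node (.node (.leaf 6657454) (.leaf 16957729)) (.node (.leaf 5506908) (.leaf 15879934)))))) (.node (.node (.node (.node (.node (.leaf 31917294) (.leaf 32002892)) (.node (.leaf 7445361) (.leaf 1346969))) (.node (.node (.leaf 18718256) (.leaf 4361617))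 (.node (.leaf 4981533) (.leaf 23218288)))) (.node (.node (.node (.leaf 8690360) (.leaf 17832281)) (.node (.leaf 16958370) (.leaf 18715942))) (.node (.node (.leaf 8082448) (.leaf 4363402)) (.node (.leaf 168260) (.leaf 1133084))))) (.node (.node (.node (.node (.leaf 22790409) (.leaf 4266493)) (.node (.leaf 4266540) (.leaf 3871077))) (.node (.node (.leaf 4266878) (.leaf 4968678)) (.node (.leaf 11345660) (.leaf 16714896)))) (.node (.node (.node (.leaf 12255621) (.leaf 8685540)) (.node (.leaf 33922610) (.leaf 4986194))) (.node (.node (.leaf 23222226) (.leaf 2214664)) (.node (.leaf 31888201) (.leaf 18700281)))))))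

/-- A point of the block, part 240. -/
def ptCodePart240 : Janko1.Tree ℕ := (.node (.node (.node (.node (.node (.node (.leaf 29727117) (.leaf 3866646)) (.node (.leaf 32211934) (.leaf 7017932))) (.node (.node (.leaf 16717014) (.leaf 118884)) (.node (.leaf 16337609) (.leaf 15274625)))) (.node (.node (.node (.leaf 7309724) (.leaf 28056210)) (.node (.leaf 24608921) (.leaf 17420109))) (.node (.node (.leaf 4361010) (.leaf 30431761)) (.node (.leaf 15277258) (.leaf 5507210))))) (.node (.node (.node (.node (.leaf 2463105) (.leaf 4513876)) (.node (.leaf 10739681) (.leaf 34738932))) (.node (.node (.leaf 17421125) (.leaf 33917442)) (.node (.leaf 24715062) (.leaf 17466448)))) (.node (.node (.node (.leaf 30777229) (.leaf 15994858)) (.node (.leaf 20486701) (.leaf 19204144))) (.node (.node (.leaf 13932634) (.leaf 18925714)) (.node (.leaf 11535598) (.leaf 27562820)))))) (.node (.node (.node (.node (.node (.leaf 19583173) (.leaf 24039436)) (.node (.leaf 16959214) (.leaf 33872025))) (.node (.node (.leaf 28049881) (.leaf 27198916))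 (.node (.leaf 34427801) (.leaf 118932)))) (.node (.node (.node (.leaf 16963962) (.leaf 17549032)) (.node (.leaf 6652288) (.leaf 3577888))) (.node (.node (.leaf 23371450) (.leaf 5643830)) (.node (.leaf 24288868) (.leaf 20666812))))) (.node (.node (.node (.node (.leaf 17417056) (.leaf 15785041)) (.node (.leaf 29333256) (.leaf 31645993))) (.node (.node (.leaf 24371398) (.leaf 26069281)) (.node (.leaf 5461789) (.leaf 2461188)))) (.node (.node (.node (.leaf 18682280) (.leaf 29366912)) (.node (.leaf 21141553) (.leaf 13098697))) (.node (.node (.leaf 4325992) (.leaf 2463113)) (.node (.leaf 30771332) (.leaf 16338266)))))))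

/-- A point of the block, part 241. -/
def ptCodePart241 : Janko1.Tree ℕ := (.node (.node (.node (.node (.node (.node (.leaf 4981376) (.leaf 33869804)) (.node (.leaf 27852872) (.leaf 5734840))) (.node (.node (.leaf 18694562) (.leaf 4972628)) (.node (.leaf 24791598) (.leaf 12459797)))) (.node (.node (.node (.leaf 34314252) (.leaf 20487576)) (.node (.leaf 3334066) (.leaf 33489092))) (.node (.node (.leaf 24043765) (.leaf 24498990)) (.node (.leaf 23223012) (.leaf 3837552))))) (.node (.node (.node (.node (.leaf 5014046) (.leaf 23890688)) (.node (.leaf 10995394) (.leaf 22792457))) (.node (.node (.leaf 24366130) (.leaf 33217713)) (.node (.leaf 22168260) (.leaf 5476258)))) (.node (.node (.node (.leaf 5740560) (.leaf 2052722)) (.node (.leaf 738085) (.leaf 21501641))) (.node (.node (.leaf 12261142) (.leaf 32217296)) (.node (.leaf 31672140) (.leaf 10994928)))))) (.node (.node (.node (.node (.node (.leaf 11771081) (.leaf 19553485)) (.node (.leaf 2245661) (.leaf 11772232))) (.node (.node (.leaf 17547994) (.leaf 2465480))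 (.node (.leaf 6280508) (.leaf 34738194)))) (.node (.node (.node (.leaf 25042452) (.leaf 33921736)) (.node (.leaf 8685334) (.leaf 33214480))) (.node (.node (.leaf 31957361) (.leaf 3579386)) (.node (.leaf 9900542) (.leaf 15883320))))) (.node (.node (.node (.node (.leaf 18859580) (.leaf 16867733)) (.node (.leaf 27561638) (.leaf 30433721))) (.node (.node (.leaf 12781025) (.leaf 4970953)) (.node (.leaf 2248390) (.leaf 20553752)))) (.node (.node (.node (.leaf 629896) (.leaf 22464734)) (.node (.leaf 3572297) (.leaf 3840905))) (.node (.node (.leaf 7014660) (.leaf 494942)) (.node (.leaf 13177929) (.leaf 5639226)))))))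

/-- A point of the block, part 242. -/
def ptCodePart242 : Janko1.Tree ℕ := (.node (.node (.node (.node (.node (.node (.leaf 20664512) (.leaf 17499306)) (.node (.leaf 18686078) (.leaf 3867220))) (.node (.node (.leaf 18305174) (.leaf 18697274)) (.node (.leaf 9901146) (.leaf 3873224)))) (.node (.node (.node (.leaf 30428101) (.leaf 3580141)) (.node (.leaf 5742849) (.leaf 1349881))) (.node (.node (.leaf 24283429) (.leaf 12785596)) (.node (.leaf 16343212) (.leaf 4986004))))) (.node (.node (.node (.node (.leaf 15278084) (.leaf 21552996)) (.node (.leaf 18302181) (.leaf 115808))) (.node (.node (.leaf 18678334) (.leaf 24499022)) (.node (.leaf 17309838) (.leaf 1379230)))) (.node (.node (.node (.leaf 9670781) (.leaf 14259229)) (.node (.leaf 8884361) (.leaf 21549985))) (.node (.node (.leaf 5019306) (.leaf 19488825)) (.node (.leaf 6080490) (.leaf 22470212)))))) (.node (.node (.node (.node (.node (.leaf 11059296) (.leaf 14767521)) (.node (.leaf 17469208) (.leaf 24614453))) (.node (.node (.leaf 21666172) (.leaf 27198320))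 (.node (.leaf 26644176) (.leaf 28857810)))) (.node (.node (.node (.leaf 9904320) (.leaf 265277)) (.node (.leaf 27528760) (.leaf 20154813))) (.node (.node (.leaf 16731661) (.leaf 27565664)) (.node (.leaf 33233832) (.leaf 15273010))))) (.node (.node (.node (.node (.leaf 34311485) (.leaf 14769538)) (.node (.leaf 24710841) (.leaf 33868189))) (.node (.node (.leaf 10198612) (.leaf 2989642)) (.node (.leaf 17827173) (.leaf 1380400)))) (.node (.node (.node (.leaf 29182997) (.leaf 11801313)) (.node (.leaf 21552937) (.leaf 31643628))) (.node (.node (.leaf 14258338) (.leaf 22053792)) (.node (.leaf 5773608) (.leaf 21662177)))))))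

/-- A point of the block, part 243. -/
def ptCodePart243 : Janko1.Tree ℕ := (.node (.node (.node (.node (.node (.node (.leaf 17958560) (.leaf 18683333)) (.node (.leaf 20549430) (.leaf 10197089))) (.node (.node (.leaf 262730) (.leaf 21029058)) (.node (.leaf 11537732) (.leaf 22060433)))) (.node (.node (.node (.leaf 16862849) (.leaf 5770872)) (.node (.leaf 18306081) (.leaf 12440701))) (.node (.node (.leaf 11770641) (.leaf 19454734)) (.node (.leaf 18859056) (.leaf 29365753))))) (.node (.node (.node (.node (.leaf 6542066) (.leaf 28056821)) (.node (.leaf 3295242) (.leaf 33495516))) (.node (.node (.leaf 1810485) (.leaf 17554112)) (.node (.leaf 745394) (.leaf 4365733)))) (.node (.node (.node (.leaf 24494457) (.leaf 24610556)) (.node (.leaf 3753821) (.leaf 31920041))) (.node (.node (.leaf 3866726) (.leaf 34738529)) (.node (.leaf 12436217) (.leaf 18860970)))))) (.node (.node (.node (.node (.node (.leaf 27562716) (.leaf 12440037)) (.node (.leaf 11538165) (.leaf 6084554))) (.node (.node (.leaf 22650760) (.leaf 20152404))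 (.node (.leaf 16961549) (.leaf 3331180)))) (.node (.node (.node (.leaf 16686398) (.leaf 31672505)) (.node (.leaf 24796461) (.leaf 24284021))) (.node (.node (.leaf 2051884) (.leaf 6866858)) (.node (.leaf 5638876) (.leaf 19630209))))) (.node (.node (.node (.node (.leaf 30268236) (.leaf 1808428)) (.node (.leaf 6866114) (.leaf 859273))) (.node (.node (.leaf 5735272) (.leaf 5298177)) (.node (.leaf 597546) (.leaf 15092370)))) (.node (.node (.node (.leaf 15636385) (.leaf 5824674)) (.node (.leaf 2219230) (.leaf 34314717))) (.node (.node (.leaf 5741350) (.leaf 16678989)) (.node (.leaf 5019601) (.leaf 19580216)))))))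

/-- A point of the block, part 244. -/
def ptCodePart244 : Janko1.Tree ℕ := (.node (.node (.node (.node (.node (.node (.leaf 27559513) (.leaf 15276470)) (.node (.leaf 11863569) (.leaf 16580932))) (.node (.node (.leaf 21726725) (.leaf 10179686)) (.node (.leaf 17305314) (.leaf 9899421)))) (.node (.node (.node (.leaf 1808126) (.leaf 19487225)) (.node (.leaf 17960874) (.leaf 31923621))) (.node (.node (.leaf 21141930) (.leaf 12256426)) (.node (.leaf 5480818) (.leaf 19455534))))) (.node (.node (.node (.node (.leaf 24498078) (.leaf 17829752)) (.node (.leaf 31183678) (.leaf 24711549))) (.node (.node (.leaf 23364064) (.leaf 10192708)) (.node (.leaf 4967630) (.leaf 595204)))) (.node (.node (.node (.leaf 12504317) (.leaf 23121042)) (.node (.leaf 11864960) (.leaf 33210416))) (.node (.node (.leaf 5768353) (.leaf 10733073)) (.node (.leaf 6653102) (.leaf 31672478)))))) (.node (.node (.node (.node (.node (.leaf 10197982) (.leaf 18861676)) (.node (.leaf 13361132) (.leaf 8884029))) (.node (.node (.leaf 24797522) (.leaf 26646764))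 (.node (.leaf 8690964) (.leaf 5770668)))) (.node (.node (.node (.leaf 31678473) (.leaf 4966058)) (.node (.leaf 625370) (.leaf 5031806))) (.node (.node (.leaf 23216154) (.leaf 30426798)) (.node (.leaf 1136646) (.leaf 23086284))))) (.node (.node (.node (.node (.leaf 31916920) (.leaf 31187378)) (.node (.leaf 33871150) (.leaf 18712829))) (.node (.node (.leaf 3332136) (.leaf 28853804)) (.node (.leaf 29721334) (.leaf 6656104)))) (.node (.node (.node (.leaf 860292) (.leaf 22878482)) (.node (.leaf 16963641) (.leaf 29728725))) (.node (.node (.leaf 7509802) (.leaf 168466)) (.node (.leaf 7443182) (.leaf 24285738)))))))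

/-- A point of the block, part 245. -/
def ptCodePart245 : Janko1.Tree ℕ := (.node (.node (.node (.node (.node (.node (.leaf 6276333) (.leaf 21502960)) (.node (.leaf 19013676) (.leaf 29364542))) (.node (.node (.leaf 28049481) (.leaf 21730370)) (.node (.leaf 7012782) (.leaf 21661182)))) (.node (.node (.node (.leaf 28202536) (.leaf 2247682)) (.node (.leaf 6537426) (.leaf 1381041))) (.node (.node (.leaf 12001237) (.leaf 24611145)) (.node (.leaf 34315826) (.leaf 597268))))) (.node (.node (.node (.node (.leaf 24614962) (.leaf 26069241)) (.node (.leaf 16862196) (.leaf 2462817))) (.node (.node (.leaf 24283064) (.leaf 33217765)) (.node (.leaf 1809476) (.leaf 27794781)))) (.node (.node (.node (.leaf 19580584) (.leaf 24793380)) (.node (.leaf 5738254) (.leaf 7509294))) (.node (.node (.leaf 12781354) (.leaf 8017846)) (.node (.leaf 10997129) (.leaf 23089772)))))) (.node (.node (.node (.node (.node (.leaf 24036193) (.leaf 26335861)) (.node (.leaf 269701) (.leaf 12261558))) (.node (.node (.leaf 27860989) (.leaf 2213265))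 (.node (.leaf 11339617) (.leaf 15359132)))) (.node (.node (.node (.leaf 28362448) (.leaf 5610200)) (.node (.leaf 11995376) (.leaf 19454313))) (.node (.node (.leaf 266140) (.leaf 3834685)) (.node (.leaf 21502968) (.leaf 34062460))))) (.node (.node (.node (.node (.leaf 20667801) (.leaf 11061468)) (.node (.leaf 16339628) (.leaf 31886270))) (.node (.node (.leaf 21545732) (.leaf 19453665)) (.node (.leaf 24367212) (.leaf 34068950)))) (.node (.node (.node (.leaf 17418512) (.leaf 24497410)) (.node (.leaf 2052317) (.leaf 16711853))) (.node (.node (.leaf 17555793) (.leaf 4511404)) (.node (.leaf 31642664) (.leaf 7280296)))))))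

/-- A point of the block, part 246. -/
def ptCodePart246 : Janko1.Tree ℕ := (.node (.node (.node (.node (.node (.node (.leaf 3299745) (.leaf 22875704)) (.node (.leaf 19013632) (.leaf 19454528))) (.node (.node (.leaf 3295542) (.leaf 12255725)) (.node (.leaf 4364522) (.leaf 8015080)))) (.node (.node (.node (.leaf 12457537) (.leaf 21497374)) (.node (.leaf 6081642) (.leaf 24713902))) (.node (.node (.leaf 22175109) (.leaf 22053189)) (.node (.leaf 7128356) (.leaf 23125573))))) (.node (.node (.node (.node (.leaf 31955422) (.leaf 15995182)) (.node (.leaf 3998686) (.leaf 27199597))) (.node (.node (.leaf 19210373) (.leaf 34429422)) (.node (.leaf 117730) (.leaf 16684093)))) (.node (.node (.node (.leaf 3326824) (.leaf 23217397)) (.node (.leaf 6659297) (.leaf 15879676))) (.node (.node (.leaf 15995206) (.leaf 26069097)) (.node (.leaf 11064198) (.leaf 10736720)))))) (.node (.node (.node (.node (.node (.leaf 22055686) (.leaf 24287921)) (.node (.leaf 8882674) (.leaf 8887200))) (.node (.node (.leaf 5818594) (.leaf 859625))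 (.node (.leaf 11048237) (.leaf 16224641)))) (.node (.node (.node (.leaf 27564152) (.leaf 10898716)) (.node (.leaf 24793870) (.leaf 5639778))) (.node (.node (.leaf 17615424) (.leaf 7013237)) (.node (.leaf 6869306) (.leaf 17617770))))) (.node (.node (.node (.node (.leaf 15357549) (.leaf 11049377)) (.node (.leaf 15849009) (.leaf 11051226))) (.node (.node (.leaf 10999177) (.leaf 4506566)) (.node (.leaf 7128876) (.leaf 7282397)))) (.node (.node (.node (.leaf 1611188) (.leaf 7020780)) (.node (.leaf 629593) (.leaf 17554517))) (.node (.node (.leaf 10181554) (.leaf 5506010)) (.node (.leaf 13179032) (.leaf 2988874)))))))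

/-- A point of the block, part 247. -/
def ptCodePart247 : Janko1.Tree ℕ := (.node (.node (.node (.node (.node (.node (.leaf 33231662) (.leaf 167520)) (.node (.leaf 20668798) (.leaf 27856462))) (.node (.node (.leaf 23090404) (.leaf 21023728)) (.node (.leaf 24038840) (.leaf 3294614)))) (.node (.node (.node (.leaf 1381297) (.leaf 6281349)) (.node (.leaf 30263125) (.leaf 33230576))) (.node (.node (.leaf 5640914) (.leaf 10177752)) (.node (.leaf 20160821) (.leaf 22466301))))) (.node (.node (.node (.node (.leaf 19551529) (.leaf 4966244)) (.node (.leaf 6545644) (.leaf 5021885))) (.node (.node (.leaf 30262362) (.leaf 170581)) (.node (.leaf 8082628) (.leaf 27526593)))) (.node (.node (.node (.leaf 7128400) (.leaf 13177546)) (.node (.leaf 19202057) (.leaf 33234013))) (.node (.node (.leaf 20488254) (.leaf 2983893)) (.node (.leaf 23725949) (.leaf 19481788)))))) (.node (.node (.node (.node (.node (.leaf 7446782) (.leaf 18175520)) (.node (.leaf 22794250) (.leaf 28199140))) (.node (.node (.leaf 5638578) (.leaf 6652412))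 (.node (.leaf 34065270) (.leaf 2463562)))) (.node (.node (.node (.leaf 10797272) (.leaf 11179422)) (.node (.leaf 5511704) (.leaf 22643353))) (.node (.node (.leaf 23368081) (.leaf 21732724)) (.node (.leaf 5458732) (.leaf 26333945))))) (.node (.node (.node (.node (.leaf 13360821) (.leaf 17551621)) (.node (.leaf 18306094) (.leaf 20553656))) (.node (.node (.leaf 21725306) (.leaf 23222920)) (.node (.leaf 19207677) (.leaf 1611244)))) (.node (.node (.node (.leaf 25040281) (.leaf 7131346)) (.node (.leaf 12785196) (.leaf 30809145))) (.node (.node (.leaf 11061102) (.leaf 26330064)) (.node (.leaf 30433436) (.leaf 19006098)))))))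

/-- A point of the block, part 248. -/
def ptCodePart248 : Janko1.Tree ℕ := (.node (.node (.node (.node (.node (.node (.leaf 740584) (.leaf 738153)) (.node (.leaf 9669836) (.leaf 24615653))) (.node (.node (.leaf 19202081) (.leaf 32006201)) (.node (.leaf 7314517) (.leaf 16958077)))) (.node (.node (.node (.leaf 13934804) (.leaf 11867549)) (.node (.leaf 13173133) (.leaf 10192652))) (.node (.node (.leaf 4984258) (.leaf 8884053)) (.node (.leaf 24795102) (.leaf 31921049))))) (.node (.node (.node (.node (.leaf 26071693) (.leaf 12503629)) (.node (.leaf 13354056) (.leaf 15786281))) (.node (.node (.leaf 14769036) (.leaf 12783605)) (.node (.leaf 6081742) (.leaf 31884510)))) (.node (.node (.node (.leaf 2990152) (.leaf 11061634)) (.node (.leaf 8886309) (.leaf 15879522))) (.node (.node (.leaf 3837949) (.leaf 26876568)) (.node (.leaf 30809177) (.leaf 21024626)))))) (.node (.node (.node (.node (.node (.leaf 21023933) (.leaf 629942)) (.node (.leaf 5638668) (.leaf 30806445))) (.node (.node (.leaf 7279418) (.leaf 32215962))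 (.node (.leaf 4984425) (.leaf 32000308)))) (.node (.node (.node (.leaf 3759860) (.leaf 19006793)) (.node (.leaf 15997856) (.leaf 14762421))) (.node (.node (.leaf 19483617) (.leaf 3834768)) (.node (.leaf 19548608) (.leaf 28203528))))) (.node (.node (.node (.node (.leaf 31920172) (.leaf 22878714)) (.node (.leaf 5461562) (.leaf 31957212))) (.node (.node (.leaf 1609764) (.leaf 27397937)) (.node (.leaf 31899936) (.leaf 31900988)))) (.node (.node (.node (.leaf 30072554) (.leaf 30070808)) (.node (.leaf 10634856) (.leaf 5673376))) (.node (.node (.leaf 33722630) (.leaf 14042553)) (.node (.leaf 29017082) (.leaf 8569982)))))))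

/-- A point of the block, part 249. -/
def ptCodePart249 : Janko1.Tree ℕ := (.node (.node (.node (.node (.node (.node (.leaf 11998453) (.leaf 31900276)) (.node (.leaf 29622916) (.leaf 31031825))) (.node (.node (.leaf 16881964) (.leaf 29622337)) (.node (.leaf 11095441) (.leaf 8569253)))) (.node (.node (.node (.leaf 27399174) (.leaf 27037174)) (.node (.leaf 5294653) (.leaf 7183820))) (.node (.node (.leaf 16587164) (.leaf 6131048)) (.node (.leaf 31383849) (.leaf 24334158))))) (.node (.node (.node (.node (.leaf 8575844) (.leaf 29607914)) (.node (.leaf 15028022) (.leaf 20975777))) (.node (.node (.leaf 29645916) (.leaf 8261668)) (.node (.leaf 9700569) (.leaf 27252093)))) (.node (.node (.node (.leaf 27640758) (.leaf 8575986)) (.node (.leaf 15571722) (.leaf 20680852))) (.node (.node (.leaf 27598277) (.leaf 12452833)) (.node (.leaf 6834456) (.leaf 2662322)))))) (.node (.node (.node (.node (.node (.leaf 15128886) (.leaf 19454945)) (.node (.leaf 22566289) (.leaf 19136518))) (.node (.node (.leaf 31900136) (.leaf 19074292))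 (.node (.leaf 6003206) (.leaf 29622514)))) (.node (.node (.node (.leaf 4395674) (.leaf 30071912)) (.node (.leaf 30066178) (.leaf 3773682))) (.node (.node (.leaf 24741540) (.leaf 6687804)) (.node (.leaf 27771845) (.leaf 7639628))))) (.node (.node (.node (.node (.leaf 11026836) (.leaf 22841844)) (.node (.leaf 26084186) (.leaf 22561781))) (.node (.node (.leaf 7592609) (.leaf 19142389)) (.node (.leaf 32642686) (.leaf 2594389)))) (.node (.node (.node (.leaf 6691205) (.leaf 13650740)) (.node (.leaf 16584336) (.leaf 8575549))) (.node (.node (.leaf 11067488) (.leaf 27040957)) (.node (.leaf 23988018) (.leaf 31231730)))))))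

/-- A point of the block, part 250. -/
def ptCodePart250 : Janko1.Tree ℕ := (.node (.node (.node (.node (.node (.node (.leaf 2687672) (.leaf 12009514)) (.node (.leaf 17057990) (.leaf 23878812))) (.node (.node (.leaf 6166714) (.leaf 11096718)) (.node (.leaf 6168556) (.leaf 463464)))) (.node (.node (.node (.leaf 32475185) (.leaf 18702188)) (.node (.leaf 27396924) (.leaf 5786202))) (.node (.node (.leaf 20453584) (.leaf 24331253)) (.node (.leaf 7062029) (.leaf 27222177))))) (.node (.node (.node (.node (.leaf 12275782) (.leaf 34594425)) (.node (.leaf 5298062) (.leaf 777168))) (.node (.node (.leaf 30147316) (.leaf 10669844)) (.node (.leaf 25544504) (.leaf 25542832)))) (.node (.node (.node (.leaf 23353361) (.leaf 27398878)) (.node (.leaf 20684601) (.leaf 13474901))) (.node (.node (.leaf 20455589) (.leaf 33069073)) (.node (.leaf 12476368) (.leaf 6839646)))))) (.node (.node (.node (.node (.node (.leaf 17549930) (.leaf 23989648)) (.node (.leaf 13654746) (.leaf 15730257))) (.node (.node (.leaf 27640906) (.leaf 2662514))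 (.node (.leaf 29647158) (.leaf 15730682)))) (.node (.node (.node (.leaf 6000640) (.leaf 8835589)) (.node (.leaf 3932665) (.leaf 12001152))) (.node (.node (.leaf 8835030) (.leaf 8837578)) (.node (.leaf 5428316) (.leaf 11145076))))) (.node (.node (.node (.node (.leaf 2592810) (.leaf 15567897)) (.node (.leaf 3068965) (.leaf 23354400))) (.node (.node (.leaf 30888180) (.leaf 16581413)) (.node (.leaf 8577172) (.leaf 8576248)))) (.node (.node (.node (.leaf 2657993) (.leaf 19078492)) (.node (.leaf 20979196) (.leaf 32473133))) (.node (.node (.leaf 8755997) (.leaf 25550441)) (.node (.leaf 31821221) (.leaf 24271392)))))))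

/-- A point of the block, part 251. -/
def ptCodePart251 : Janko1.Tree ℕ := (.node (.node (.node (.node (.node (.node (.leaf 4281081) (.leaf 22219242)) (.node (.leaf 8749238) (.leaf 22216974))) (.node (.node (.leaf 3906720) (.leaf 20943146)) (.node (.leaf 27038925) (.leaf 27401306)))) (.node (.node (.node (.leaf 10669325) (.leaf 27395350)) (.node (.leaf 13475028) (.leaf 8752789))) (.node (.node (.leaf 29608241) (.leaf 3772024)) (.node (.leaf 24746069) (.leaf 6396853))))) (.node (.node (.node (.node (.leaf 14582312) (.leaf 2654678)) (.node (.leaf 6163420) (.leaf 27221640))) (.node (.node (.leaf 29640900) (.leaf 15737264)) (.node (.leaf 10669732) (.leaf 466250)))) (.node (.node (.node (.leaf 25908268) (.leaf 20452709)) (.node (.leaf 5292640) (.leaf 19503933))) (.node (.node (.leaf 8228836) (.leaf 467144)) (.node (.leaf 27039125) (.leaf 33259921)))))) (.node (.node (.node (.node (.node (.leaf 16585278) (.leaf 11932416)) (.node (.leaf 7068258) (.leaf 6971090))) (.node (.node (.leaf 2414893) (.leaf 21992470))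 (.node (.leaf 28234162) (.leaf 9096998)))) (.node (.node (.node (.leaf 29399713) (.leaf 1410396)) (.node (.leaf 17060604) (.leaf 20797665))) (.node (.node (.leaf 29398949) (.leaf 7754354)) (.node (.leaf 29644728) (.leaf 17076209))))) (.node (.node (.node (.node (.leaf 16882910) (.leaf 2691048)) (.node (.leaf 8785368) (.leaf 11558152))) (.node (.node (.leaf 19137561) (.leaf 11131121)) (.node (.leaf 22217249) (.leaf 8257560)))) (.node (.node (.node (.leaf 9852368) (.leaf 13193960)) (.node (.leaf 9552944) (.leaf 6478568))) (.node (.node (.leaf 6167525) (.leaf 2412149)) (.node (.leaf 16028834) (.leaf 17276154)))))))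

/-- A point of the block, part 252. -/
def ptCodePart252 : Janko1.Tree ℕ := (.node (.node (.node (.node (.node (.node (.leaf 13786360) (.leaf 20369269)) (.node (.leaf 34509778) (.leaf 12470700))) (.node (.node (.leaf 27811450) (.leaf 2146664)) (.node (.leaf 5426640) (.leaf 28234321)))) (.node (.node (.node (.leaf 15028038) (.leaf 9848537)) (.node (.leaf 23663897) (.leaf 6476617))) (.node (.node (.leaf 7064049) (.leaf 30249566)) (.node (.leaf 25153132) (.leaf 15129804))))) (.node (.node (.node (.node (.leaf 5676829) (.leaf 11997106)) (.node (.leaf 4282596) (.leaf 33718313))) (.node (.node (.leaf 13475290) (.leaf 23352320)) (.node (.leaf 1135766) (.leaf 22906428)))) (.node (.node (.node (.leaf 18569789) (.leaf 15566589)) (.node (.leaf 20366078) (.leaf 1679505))) (.node (.node (.leaf 16604950) (.leaf 20947200)) (.node (.leaf 1264138) (.leaf 33068009)))))) (.node (.node (.node (.node (.node (.leaf 1266112) (.leaf 22907150)) (.node (.leaf 11034429) (.leaf 22414244))) (.node (.node (.leaf 771002) (.leaf 467361))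 (.node (.leaf 34506220) (.leaf 22911320)))) (.node (.node (.node (.leaf 17553254) (.leaf 31038880)) (.node (.leaf 1137730) (.leaf 23353873))) (.node (.node (.leaf 16026032) (.leaf 5031053)) (.node (.leaf 9098992) (.leaf 8837085))))) (.node (.node (.node (.node (.leaf 28951064) (.leaf 24628186)) (.node (.leaf 31032521) (.leaf 7068240))) (.node (.node (.leaf 32637109) (.leaf 5426601)) (.node (.leaf 23599686) (.leaf 19499022)))) (.node (.node (.node (.leaf 27694678) (.leaf 8754078)) (.node (.leaf 20683122) (.leaf 9342005))) (.node (.node (.leaf 12476176) (.leaf 5033730)) (.node (.leaf 16024160) (.leaf 20972028)))))))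

/-- A point of the block, part 253. -/
def ptCodePart253 : Janko1.Tree ℕ := (.node (.node (.node (.node (.node (.node (.leaf 14044053) (.leaf 1415265)) (.node (.leaf 31851972) (.leaf 20039376))) (.node (.node (.leaf 17547692) (.leaf 2146493)) (.node (.leaf 20795205) (.leaf 12272572)))) (.node (.node (.node (.leaf 2689858) (.leaf 24336145)) (.node (.leaf 18697890) (.leaf 9850565))) (.node (.node (.leaf 28951222) (.leaf 4396138)) (.node (.leaf 9705357) (.leaf 11554353))))) (.node (.node (.node (.node (.leaf 5128961) (.leaf 11141625)) (.node (.leaf 22222212) (.leaf 4394825))) (.node (.node (.leaf 15551242) (.leaf 4432045)) (.node (.leaf 15028404) (.leaf 23874388)))) (.node (.node (.node (.leaf 13475010) (.leaf 24332161)) (.node (.leaf 9702378) (.leaf 30066982))) (.node (.node (.leaf 27400352) (.leaf 25542850)) (.node (.leaf 16882560) (.leaf 5669053)))))) (.node (.node (.node (.node (.node (.leaf 20372516) (.leaf 31379584)) (.node (.leaf 24413750) (.leaf 30249180))) (.node (.node (.leaf 31230304) (.leaf 11555013))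 (.node (.leaf 3940798) (.leaf 11148114)))) (.node (.node (.node (.leaf 29610422) (.leaf 11935296)) (.node (.leaf 11127256) (.leaf 19454726))) (.node (.node (.leaf 7341016) (.leaf 24412589)) (.node (.leaf 19341084) (.leaf 12222838))))) (.node (.node (.node (.node (.leaf 29397445) (.leaf 31230488)) (.node (.leaf 28136448) (.leaf 17058084))) (.node (.node (.leaf 4393986) (.leaf 34505773)) (.node (.leaf 31234586) (.leaf 21073446)))) (.node (.node (.node (.leaf 20678149) (.leaf 1659477)) (.node (.leaf 31039896) (.leaf 30150192))) (.node (.node (.leaf 6473857) (.leaf 24271009)) (.node (.leaf 27641400) (.leaf 32476946)))))))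

/-- A point of the block, part 254. -/
def ptCodePart254 : Janko1.Tree ℕ := (.node (.node (.node (.node (.node (.node (.leaf 5038148) (.leaf 2416140)) (.node (.leaf 3899568) (.leaf 27592396))) (.node (.node (.leaf 15122520) (.leaf 30252092)) (.node (.leaf 8785070) (.leaf 22568364)))) (.node (.node (.node (.leaf 27772425) (.leaf 7751918)) (.node (.leaf 4277328) (.leaf 1662872))) (.node (.node (.leaf 29610113) (.leaf 15024448)) (.node (.leaf 5130420) (.leaf 2130290))))) (.node (.node (.node (.node (.leaf 9850961) (.leaf 33260328)) (.node (.leaf 20939790) (.leaf 15566304))) (.node (.node (.leaf 20974812) (.leaf 23993048)) (.node (.leaf 1131113) (.leaf 21989874)))) (.node (.node (.node (.leaf 18566477) (.leaf 22301841)) (.node (.leaf 2150120) (.leaf 15553292))) (.node (.node (.leaf 32639144) (.leaf 28055050)) (.node (.leaf 26018278) (.leaf 30153709)))))) (.node (.node (.node (.node (.node (.leaf 8232837) (.leaf 20452625)) (.node (.leaf 4393849) (.leaf 18564754))) (.node (.node (.leaf 20940381) (.leaf 6357930))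 (.node (.leaf 24743717) (.leaf 27216440)))) (.node (.node (.node (.leaf 26020092) (.leaf 32643873)) (.node (.leaf 2694977) (.leaf 2687138))) (.node (.node (.leaf 20450792) (.leaf 17040094)) (.node (.leaf 27463658) (.leaf 9094412))))) (.node (.node (.node (.node (.leaf 17062752) (.leaf 34512533)) (.node (.leaf 12813880) (.leaf 25905968))) (.node (.node (.leaf 2413545) (.leaf 1678125)) (.node (.leaf 5672094) (.leaf 31038518)))) (.node (.node (.node (.leaf 8789850) (.leaf 18271553)) (.node (.leaf 11067801) (.leaf 18276164))) (.node (.node (.leaf 8752186) (.leaf 13782388)) (.node (.leaf 13440584) (.leaf 27645021)))))))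

/-- A point of the block, part 255. -/
def ptCodePart255 : Janko1.Tree ℕ := (.node (.node (.node (.node (.node (.node (.leaf 12815606) (.leaf 31397393)) (.node (.leaf 12817794) (.leaf 32640037))) (.node (.node (.leaf 6965473) (.leaf 6003093)) (.node (.leaf 17554006) (.leaf 31905830)))) (.node (.node (.node (.leaf 26022908) (.leaf 28134654)) (.node (.leaf 33065152) (.leaf 31821808))) (.node (.node (.leaf 33316766) (.leaf 13472446)) (.node (.leaf 4429762) (.leaf 23663838))))) (.node (.node (.node (.node (.leaf 20977500) (.leaf 10669504)) (.node (.leaf 13436576) (.leaf 8258180))) (.node (.node (.leaf 6363805) (.leaf 20037753)) (.node (.leaf 5131186) (.leaf 11931080)))) (.node (.node (.node (.leaf 6131761) (.leaf 30889825)) (.node (.leaf 29737085) (.leaf 17060274))) (.node (.node (.leaf 29005897) (.leaf 14048824)) (.node (.leaf 10633992) (.leaf 8783186)))))) (.node (.node (.node (.node (.node (.leaf 22731925) (.leaf 13196945)) (.node (.leaf 6167225) (.leaf 6966069))) (.node (.node (.leaf 24335272) (.leaf 34593048))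 (.node (.leaf 8229448) (.leaf 20447462)))) (.node (.node (.node (.leaf 13440641) (.leaf 10638581)) (.node (.leaf 17079910) (.leaf 29017309))) (.node (.node (.leaf 4277798) (.leaf 19502908)) (.node (.leaf 5038340) (.leaf 2688337))))) (.node (.node (.node (.node (.leaf 29606070) (.leaf 29628578)) (.node (.leaf 27643706) (.leaf 3939686))) (.node (.node (.leaf 26084053) (.leaf 9150589)) (.node (.leaf 16587030) (.leaf 6131714)))) (.node (.node (.node (.leaf 27467986) (.leaf 17271450)) (.node (.leaf 22731293) (.leaf 6424130))) (.node (.node (.leaf 9094662) (.leaf 32474344)) (.node (.leaf 20793208) (.leaf 5133261)))))))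

/-- A point of the block, part 256. -/
def ptCodePart256 : Janko1.Tree ℕ := (.node (.node (.node (.node (.node (.node (.leaf 13779413) (.leaf 2147277)) (.node (.leaf 31395352) (.leaf 5297744))) (.node (.node (.leaf 23355045) (.leaf 29740168)) (.node (.leaf 27038748) (.leaf 33315430)))) (.node (.node (.node (.leaf 24267392) (.leaf 33902274)) (.node (.leaf 3899680) (.leaf 17074946))) (.node (.node (.leaf 5036916) (.leaf 22846426)) (.node (.leaf 20370514) (.leaf 12098110))))) (.node (.node (.node (.node (.leaf 33266033) (.leaf 7754646)) (.node (.leaf 1264362) (.leaf 4432013))) (.node (.node (.leaf 24632556) (.leaf 16604910)) (.node (.leaf 15571028) (.leaf 11099648)))) (.node (.node (.node (.leaf 6474232) (.leaf 1040188)) (.node (.leaf 21991226) (.leaf 33900948))) (.node (.node (.leaf 31823905) (.leaf 3772690)) (.node (.leaf 32642574) (.leaf 33905442)))))) (.node (.node (.node (.node (.node (.leaf 27595786) (.leaf 24268668)) (.node (.leaf 20681680) (.leaf 27645186))) (.node (.node (.leaf 22503516) (.leaf 6472964))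 (.node (.leaf 4283176) (.leaf 8833241)))) (.node (.node (.node (.leaf 27805349) (.leaf 7182054)) (.node (.leaf 7345786) (.leaf 6129280))) (.node (.node (.leaf 19450058) (.leaf 1136820)) (.node (.leaf 27697205) (.leaf 11130570))))) (.node (.node (.node (.node (.leaf 25903781) (.leaf 1412102)) (.node (.leaf 14586596) (.leaf 12275400))) (.node (.node (.leaf 29561278) (.leaf 31819704)) (.node (.leaf 18862145) (.leaf 13474361)))) (.node (.node (.node (.leaf 30246805) (.leaf 777698)) (.node (.leaf 29023360) (.leaf 9556368))) (.node (.node (.leaf 19340037) (.leaf 6691748)) (.node (.leaf 32475161) (.leaf 17533646)))))))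

/-- A point of the block, part 257. -/
def ptCodePart257 : Janko1.Tree ℕ := (.node (.node (.node (.node (.node (.node (.leaf 12452873) (.leaf 31854344)) (.node (.leaf 17547600) (.leaf 15130400))) (.node (.node (.leaf 1262968) (.leaf 14041360)) (.node (.leaf 775752) (.leaf 6834636)))) (.node (.node (.node (.leaf 24333578) (.leaf 32474445)) (.node (.leaf 23597088) (.leaf 12094658))) (.node (.node (.leaf 15733146) (.leaf 23596901)) (.node (.leaf 23667132) (.leaf 30886412))))) (.node (.node (.node (.node (.leaf 18700761) (.leaf 29559501)) (.node (.leaf 26020569) (.leaf 18699717))) (.node (.node (.leaf 12457006) (.leaf 1678482)) (.node (.leaf 3068204) (.leaf 6833857)))) (.node (.node (.node (.leaf 3933470) (.leaf 17270606)) (.node (.leaf 23347744) (.leaf 34506494))) (.node (.node (.leaf 18694838) (.leaf 29004680)) (.node (.leaf 30887886) (.leaf 27037154)))))) (.node (.node (.node (.node (.node (.leaf 12273996) (.leaf 3326362)) (.node (.leaf 22568802) (.leaf 13197024))) (.node (.node (.leaf 13648720) (.leaf 12475356))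 (.node (.leaf 11092838) (.leaf 22500525)))) (.node (.node (.node (.leaf 31394892) (.leaf 22501221)) (.node (.leaf 9100756) (.leaf 1032570))) (.node (.node (.leaf 22561221) (.leaf 16031970)) (.node (.leaf 27252885) (.leaf 461413))))) (.node (.node (.node (.node (.leaf 22414204) (.leaf 12094421)) (.node (.leaf 17535480) (.leaf 21071168))) (.node (.node (.leaf 17273300) (.leaf 20947149)) (.node (.leaf 25153018) (.leaf 28052746)))) (.node (.node (.node (.leaf 6430468) (.leaf 2134393)) (.node (.leaf 33901653) (.leaf 11097434))) (.node (.node (.leaf 28058010) (.leaf 20367410)) (.node (.leaf 20366936) (.leaf 1412642)))))))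

/-- A point of the block, part 258. -/
def ptCodePart258 : Janko1.Tree ℕ := (.node (.node (.node (.node (.node (.node (.leaf 9097938) (.leaf 774968)) (.node (.leaf 13197672) (.leaf 33259940))) (.node (.node (.leaf 6364885) (.leaf 1656558)) (.node (.leaf 29626601) (.leaf 26087392)))) (.node (.node (.node (.leaf 27464316) (.leaf 19334285)) (.node (.leaf 15548764) (.leaf 27252604))) (.node (.node (.leaf 5134981) (.leaf 20044481)) (.node (.leaf 3772568) (.leaf 19079588))))) (.node (.node (.node (.node (.leaf 776088) (.leaf 9142868)) (.node (.leaf 4393145) (.leaf 12092893))) (.node (.node (.leaf 25911582) (.leaf 15031744)) (.node (.leaf 6424961) (.leaf 23353613)))) (.node (.node (.node (.leaf 11996861) (.leaf 17538626)) (.node (.leaf 1412478) (.leaf 8756046))) (.node (.node (.leaf 12229434) (.leaf 6686554)) (.node (.leaf 10667300) (.leaf 5999252)))))) (.node (.node (.node (.node (.node (.leaf 13436258) (.leaf 29017260)) (.node (.leaf 22908322) (.leaf 3903422))) (.node (.node (.leaf 27774226) (.leaf 17074786))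 (.node (.leaf 24626236) (.leaf 6832380)))) (.node (.node (.node (.leaf 19143977) (.leaf 17063576)) (.node (.leaf 6429389) (.leaf 33264758))) (.node (.node (.leaf 20972618) (.leaf 31394852)) (.node (.leaf 11930106) (.leaf 1039317))))) (.node (.node (.node (.node (.leaf 27221462) (.leaf 13196709)) (.node (.leaf 31392188) (.leaf 30147606))) (.node (.node (.leaf 6394612) (.leaf 24334946)) (.node (.leaf 9557032) (.leaf 3903866)))) (.node (.node (.node (.leaf 16024788) (.leaf 30150450)) (.node (.leaf 27461202) (.leaf 8509180))) (.node (.node (.leaf 27594558) (.leaf 30646668)) (.node (.leaf 23857501) (.leaf 5292300)))))))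

/-- A point of the block, part 259. -/
def ptCodePart259 : Janko1.Tree ℕ := (.node (.node (.node (.node (.node (.node (.leaf 28236392) (.leaf 5786728)) (.node (.leaf 6001844) (.leaf 9552656))) (.node (.node (.leaf 1662822) (.leaf 31819014)) (.node (.leaf 6686278) (.leaf 25910306)))) (.node (.node (.node (.leaf 17277186) (.leaf 2154825)) (.node (.leaf 28233618) (.leaf 24414577))) (.node (.node (.leaf 1679650) (.leaf 4427360)) (.node (.leaf 15125572) (.leaf 25154697))))) (.node (.node (.node (.node (.leaf 9557425) (.leaf 2154514)) (.node (.leaf 28954053) (.leaf 12278260))) (.node (.node (.leaf 11125973) (.leaf 461912)) (.node (.leaf 19136990) (.leaf 2412582)))) (.node (.node (.node (.leaf 12456078) (.leaf 13786634)) (.node (.leaf 27460942) (.leaf 3902089))) (.node (.node (.leaf 12010150) (.leaf 20976558)) (.node (.leaf 12227476) (.leaf 8749774)))))) (.node (.node (.node (.node (.node (.leaf 1264838) (.leaf 1265053)) (.node (.leaf 11558157) (.leaf 3332513))) (.node (.node (.leaf 15568662) (.leaf 6689634)) (.node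 (.leaf 7061904) (.leaf 12273774)))) (.node (.node (.node (.leaf 2655136) (.leaf 3329109)) (.node (.leaf 17531125) (.leaf 7180872))) (.node (.node (.leaf 2416498) (.leaf 10634217)) (.node (.leaf 29739044) (.leaf 4168005))))) (.node (.node (.node (.node (.leaf 33070264) (.leaf 11067517)) (.node (.leaf 18571293) (.leaf 21074544))) (.node (.node (.leaf 21990142) (.leaf 24415384)) (.node (.leaf 7757340) (.leaf 28230697)))) (.node (.node (.node (.leaf 33899540) (.leaf 20372173)) (.node (.leaf 11934773) (.leaf 28957700))) (.node (.node (.leaf 9144564) (.leaf 4429134)) (.node (.leaf 3070349) (.leaf 13649326)))))))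

/-- A point of the block, part 260. -/
def ptCodePart260 : Janko1.Tree ℕ := (.node (.node (.node (.node (.node (.node (.leaf 9850832) (.leaf 7063969)) (.node (.leaf 12014468) (.leaf 16025181))) (.node (.node (.leaf 8786418) (.leaf 22839712)) (.node (.leaf 3939168) (.leaf 18860288)))) (.node (.node (.node (.leaf 8836836) (.leaf 2687253)) (.node (.leaf 17039861) (.leaf 6393273))) (.node (.node (.leaf 29399316) (.leaf 23662688)) (.node (.leaf 23863317) (.leaf 29004089))))) (.node (.node (.node (.node (.leaf 29002225) (.leaf 23856521)) (.node (.leaf 3070546) (.leaf 25546277))) (.node (.node (.leaf 18268661) (.leaf 464492)) (.node (.leaf 7587269) (.leaf 31856616)))) (.node (.node (.node (.leaf 2135332) (.leaf 29004970)) (.node (.leaf 4429629) (.leaf 20452144))) (.node (.node (.leaf 2134933) (.leaf 19338361)) (.node (.leaf 12224381) (.leaf 22842524)))))) (.node (.node (.node (.node (.node (.leaf 8264100) (.leaf 27773988)) (.node (.leaf 31852422) (.leaf 12095942))) (.node (.node (.leaf 11144328) (.leaf 16876317))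 (.node (.leaf 29006065) (.leaf 17074738)))) (.node (.node (.node (.leaf 31393176) (.leaf 12099442)) (.node (.leaf 19335004) (.leaf 6964533))) (.node (.node (.leaf 7594356) (.leaf 9704077)) (.node (.leaf 27219782) (.leaf 27461957))))) (.node (.node (.node (.node (.leaf 18860710) (.leaf 1135072)) (.node (.leaf 6839505) (.leaf 19334052))) (.node (.node (.leaf 23878492) (.leaf 22568758)) (.node (.leaf 31037766) (.leaf 31034404)))) (.node (.node (.node (.leaf 3071789) (.leaf 5298262)) (.node (.leaf 12817112) (.leaf 29560601))) (.node (.node (.leaf 20586354) (.leaf 1040417)) (.node (.leaf 8510890) (.leaf 1134592)))))))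

/-- A point of the block, part 261. -/
def ptCodePart261 : Janko1.Tree ℕ := (.node (.node (.node (.node (.node (.node (.leaf 29607006) (.leaf 4277684)) (.node (.leaf 33725994) (.leaf 16581880))) (.node (.node (.leaf 20940302) (.leaf 28133745)) (.node (.leaf 31856384) (.leaf 24744496)))) (.node (.node (.node (.leaf 7637353) (.leaf 3775313)) (.node (.leaf 2411501) (.leaf 25149581))) (.node (.node (.leaf 7640014) (.leaf 6967144)) (.node (.leaf 23986602) (.leaf 4167774))))) (.node (.node (.node (.node (.leaf 11030970) (.leaf 34587446)) (.node (.leaf 34589656) (.leaf 3935822))) (.node (.node (.leaf 8266125) (.leaf 19141304)) (.node (.leaf 28055204) (.leaf 29630413)))) (.node (.node (.node (.leaf 30245390) (.leaf 32638818)) (.node (.leaf 25157280) (.leaf 14049345))) (.node (.node (.leaf 1414133) (.leaf 24631118)) (.node (.leaf 23855221) (.leaf 8509164)))))) (.node (.node (.node (.node (.node (.leaf 8265504) (.leaf 12471080)) (.node (.leaf 29564054) (.leaf 29613406))) (.node (.node (.leaf 32480204) (.leaf 11095878))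 (.node (.leaf 29399308) (.leaf 22843273)))) (.node (.node (.node (.leaf 12010529) (.leaf 33260966)) (.node (.leaf 11935022) (.leaf 9848430))) (.node (.node (.leaf 22496110) (.leaf 7177590)) (.node (.leaf 6477541) (.leaf 5996886))))) (.node (.node (.node (.node (.leaf 27643680) (.leaf 5672914)) (.node (.leaf 18571178) (.leaf 4431050))) (.node (.node (.leaf 17046278) (.leaf 9699364)) (.node (.leaf 16027852) (.leaf 22729014)))) (.node (.node (.node (.leaf 20365916) (.leaf 11059536)) (.node (.leaf 29745369) (.leaf 9347114))) (.node (.node (.leaf 25549344) (.leaf 13189250)) (.node (.leaf 5032822) (.leaf 13196210)))))))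

/-- A point of the block, part 262. -/
def ptCodePart262 : Janko1.Tree ℕ := (.node (.node (.node (.node (.node (.node (.leaf 21988002) (.leaf 9557413)) (.node (.leaf 17046809) (.leaf 30245125))) (.node (.node (.leaf 31906256) (.leaf 24747793)) (.node (.leaf 18864588) (.leaf 21075592)))) (.node (.node (.node (.leaf 1657241) (.leaf 4427081)) (.node (.leaf 22839954) (.leaf 2592549))) (.node (.node (.leaf 12015785) (.leaf 27462164)) (.node (.leaf 11993181) (.leaf 6424020))))) (.node (.node (.node (.node (.leaf 20584204) (.leaf 17075701)) (.node (.leaf 29642910) (.leaf 29740006))) (.node (.node (.leaf 27806036) (.leaf 19138420)) (.node (.leaf 27590677) (.leaf 33267114)))) (.node (.node (.node (.leaf 30890376) (.leaf 23664116)) (.node (.leaf 29394020) (.leaf 7590412))) (.node (.node (.leaf 8265176) (.leaf 18569569)) (.node (.leaf 22496878) (.leaf 23595512)))))) (.node (.node (.node (.node (.node (.leaf 20042345) (.leaf 4392316)) (.node (.leaf 20799457) (.leaf 6002521))) (.node (.node (.leaf 23993857) (.leaf 9699676))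 (.node (.leaf 29559833) (.leaf 26022945)))) (.node (.node (.node (.leaf 21988960) (.leaf 11142406)) (.node (.leaf 6163697) (.leaf 29646809))) (.node (.node (.leaf 5037760) (.leaf 2130218)) (.node (.leaf 34589885) (.leaf 17045856))))) (.node (.node (.node (.node (.leaf 9342848) (.leaf 1034268)) (.node (.leaf 27694280) (.leaf 11030634))) (.node (.node (.leaf 22501878) (.leaf 22417534)) (.node (.leaf 24416556) (.leaf 12016828)))) (.node (.node (.node (.leaf 26089577) (.leaf 8573733)) (.node (.leaf 19141229) (.leaf 13437920))) (.node (.node (.leaf 6970938) (.leaf 1662024)) (.node (.leaf 19500896) (.leaf 23991041)))))))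

/-- A point of the block, part 263. -/
def ptCodePart263 : Janko1.Tree ℕ := (.node (.node (.node (.node (.node (.node (.leaf 9339357) (.leaf 10641698)) (.node (.leaf 16878253) (.leaf 5036249))) (.node (.node (.leaf 27811117) (.leaf 22908497)) (.node (.leaf 22847492) (.leaf 9554646)))) (.node (.node (.node (.leaf 4163801) (.leaf 11935244)) (.node (.leaf 16602540) (.leaf 18563513))) (.node (.node (.leaf 19449646) (.leaf 6970416)) (.node (.leaf 11131332) (.leaf 12098156))))) (.node (.node (.node (.node (.leaf 11145018) (.leaf 18276192)) (.node (.leaf 30640306) (.leaf 7066636))) (.node (.node (.leaf 15549450) (.leaf 8225613)) (.node (.leaf 24627198) (.leaf 25547148)))) (.node (.node (.node (.leaf 8507049) (.leaf 11093445)) (.node (.leaf 25549546) (.leaf 28055186))) (.node (.node (.leaf 3331609) (.leaf 6687486)) (.node (.leaf 16604281) (.leaf 31231018)))))) (.node (.node (.node (.node (.node (.leaf 3326946) (.leaf 4164884)) (.node (.leaf 33312089) (.leaf 10638246))) (.node (.node (.leaf 11034656) (.leaf 10674266))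 (.node (.leaf 3772621) (.leaf 23992929)))) (.node (.node (.node (.leaf 3900904) (.leaf 31380537)) (.node (.leaf 24269460) (.leaf 31381676))) (.node (.node (.leaf 3939712) (.leaf 3939910)) (.node (.leaf 20583621) (.leaf 9345110))))) (.node (.node (.node (.node (.leaf 31382008) (.leaf 6129778)) (.node (.leaf 9848329) (.leaf 17076941))) (.node (.node (.leaf 6397998) (.leaf 8783285)) (.node (.leaf 33726732) (.leaf 27399553)))) (.node (.node (.node (.leaf 5298708) (.leaf 23857402)) (.node (.leaf 19504530) (.leaf 7756910))) (.node (.node (.leaf 20045622) (.leaf 27811760)) (.node (.leaf 17060118) (.leaf 8231680)))))))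

/-- A point of the block, part 264. -/
def ptCodePart264 : Janko1.Tree ℕ := (.node (.node (.node (.node (.node (.node (.leaf 1265377) (.leaf 22725221)) (.node (.leaf 27040326) (.leaf 28054348))) (.node (.node (.leaf 13196473) (.leaf 31234488)) (.node (.leaf 7751170) (.leaf 29613353)))) (.node (.node (.node (.leaf 9700244) (.leaf 22420190)) (.node (.leaf 24626806) (.leaf 30248194))) (.node (.node (.leaf 21988865) (.leaf 29400993)) (.node (.leaf 2662784) (.leaf 6362336))))) (.node (.node (.node (.node (.leaf 33901824) (.leaf 14047093)) (.node (.leaf 11030858) (.leaf 27462228))) (.node (.node (.leaf 26086561) (.leaf 27694292)) (.node (.leaf 11550729) (.leaf 13647880)))) (.node (.node (.node (.leaf 12472246) (.leaf 3064138)) (.node (.leaf 19075248) (.leaf 22413453))) (.node (.node (.leaf 27691281) (.leaf 1416608)) (.node (.leaf 34590320) (.leaf 18274386)))))) (.node (.node (.node (.node (.node (.leaf 15124252) (.leaf 12468274)) (.node (.leaf 5296909) (.leaf 12813409))) (.node (.node (.leaf 19074584) (.leaf 12272060))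 (.node (.leaf 24418722) (.leaf 1663145)))) (.node (.node (.node (.leaf 34506316) (.leaf 22299540)) (.node (.leaf 20583198) (.leaf 29557824))) (.node (.node (.leaf 16031768) (.leaf 22219530)) (.node (.leaf 21077714) (.leaf 17274710))))) (.node (.node (.node (.node (.leaf 27640066) (.leaf 20582042)) (.node (.leaf 6163433) (.leaf 13785856))) (.node (.node (.leaf 25150961) (.leaf 4284052)) (.node (.leaf 23594445) (.leaf 14581836)))) (.node (.node (.node (.leaf 30069320) (.leaf 776760)) (.node (.leaf 30068933) (.leaf 3769953))) (.node (.node (.leaf 28953540) (.leaf 21071361)) (.node (.leaf 22730981) (.leaf 20582752)))))))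

/-- A point of the block, part 265. -/
def ptCodePart265 : Janko1.Tree ℕ := (.node (.node (.node (.node (.node (.node (.leaf 34509698) (.leaf 1679700)) (.node (.leaf 8838884) (.leaf 13443418))) (.node (.node (.leaf 15568870) (.leaf 27248770)) (.node (.leaf 29638673) (.leaf 23861374)))) (.node (.node (.node (.leaf 465238) (.leaf 29737288)) (.node (.leaf 5669374) (.leaf 7063933))) (.node (.node (.leaf 17549850) (.leaf 20684565)) (.node (.leaf 30645806) (.leaf 13779040))))) (.node (.node (.node (.node (.leaf 22224489) (.leaf 6394902)) (.node (.leaf 15736784) (.leaf 9339530))) (.node (.node (.leaf 15570566) (.leaf 9148649)) (.node (.leaf 28950782) (.leaf 15734650)))) (.node (.node (.node (.leaf 23659860) (.leaf 23874836)) (.node (.leaf 23661384) (.leaf 29023934))) (.node (.node (.leaf 27695044) (.leaf 6833736)) (.node (.leaf 29627625) (.leaf 22306180)))))) (.node (.node (.node (.node (.node (.leaf 30247434) (.leaf 31852910)) (.node (.leaf 28058045) (.leaf 6686446))) (.node (.node (.leaf 5429221) (.leaf 7590965))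 (.node (.leaf 15732677) (.leaf 20798181)))) (.node (.node (.node (.leaf 11555117) (.leaf 5784922)) (.node (.leaf 13469065) (.leaf 29021294))) (.node (.node (.leaf 29401341) (.leaf 11994800)) (.node (.leaf 1040606) (.leaf 7340734))))) (.node (.node (.node (.node (.leaf 1138028) (.leaf 11063810)) (.node (.leaf 33261622) (.leaf 23601366))) (.node (.node (.leaf 23599386) (.leaf 15026112)) (.node (.leaf 26089406) (.leaf 8787852)))) (.node (.node (.node (.leaf 19453354) (.leaf 22732789)) (.node (.leaf 26085234) (.leaf 7751350))) (.node (.node (.leaf 7176373) (.leaf 24743949)) (.node (.leaf 27772162) (.leaf 8225317)))))))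

/-- A point of the block, part 266. -/
def ptCodePart266 : Janko1.Tree ℕ := (.node (.node (.node (.node (.node (.node (.leaf 7640717) (.leaf 24629904)) (.node (.leaf 33065512) (.leaf 13653026))) (.node (.node (.leaf 24336442) (.leaf 31858168)) (.node (.leaf 9146158) (.leaf 12456220)))) (.node (.node (.node (.leaf 6390004) (.leaf 24268150)) (.node (.leaf 2590650) (.leaf 6429521))) (.node (.node (.leaf 23875940) (.leaf 18863397)) (.node (.leaf 23988262) (.leaf 6363190))))) (.node (.node (.node (.node (.leaf 18275833) (.leaf 26090466)) (.node (.leaf 3333214) (.leaf 7641884))) (.node (.node (.leaf 2414692) (.leaf 16598222)) (.node (.leaf 17271168) (.leaf 2146342)))) (.node (.node (.node (.leaf 2688866) (.leaf 18699594)) (.node (.leaf 25151972) (.leaf 27246966))) (.node (.node (.leaf 30149386) (.leaf 16587241)) (.node (.leaf 12458374) (.leaf 20792913)))))) (.node (.node (.node (.node (.node (.leaf 22299217) (.leaf 31376286)) (.node (.leaf 23599380) (.leaf 14588600))) (.node (.node (.leaf 15556682) (.leaf 5428697))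 (.node (.leaf 15552701) (.leaf 22417238)))) (.node (.node (.node (.leaf 33726668) (.leaf 14582061)) (.node (.leaf 27810617) (.leaf 24416534))) (.node (.node (.leaf 7589209) (.leaf 15552578)) (.node (.leaf 14582969) (.leaf 1675185))))) (.node (.node (.node (.node (.leaf 3332368) (.leaf 19449914)) (.node (.leaf 27591218) (.leaf 1413370))) (.node (.node (.leaf 28134446) (.leaf 31380780)) (.node (.leaf 20795546) (.leaf 8226797)))) (.node (.node (.node (.leaf 17059292) (.leaf 6397489)) (.node (.leaf 19077145) (.leaf 4284370))) (.node (.node (.leaf 16881714) (.leaf 20678224)) (.node (.leaf 11066386) (.leaf 27219074)))))))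

/-- A point of the block, part 267. -/
def ptCodePart267 : Janko1.Tree ℕ := (.node (.node (.node (.node (.node (.node (.leaf 34512754) (.leaf 16598824)) (.node (.leaf 27215672) (.leaf 4165148))) (.node (.node (.leaf 27248002) (.leaf 6129880)) (.node (.leaf 11551666) (.leaf 28052156)))) (.node (.node (.node (.leaf 25905873) (.leaf 19333905)) (.node (.leaf 22301934) (.leaf 19497744))) (.node (.node (.leaf 22569370) (.leaf 6130608)) (.node (.leaf 8789889) (.leaf 21078342))))) (.node (.node (.node (.node (.leaf 20976846) (.leaf 33311020)) (.node (.leaf 16875741) (.leaf 8263446))) (.node (.node (.leaf 12098369) (.leaf 11999004)) (.node (.leaf 28133797) (.leaf 11062252)))) (.node (.node (.node (.leaf 7345224) (.leaf 21074897)) (.node (.leaf 7343114) (.leaf 7180454))) (.node (.node (.leaf 11554882) (.leaf 14045978)) (.node (.leaf 30641426) (.leaf 11031984)))))) (.node (.node (.node (.node (.node (.leaf 11096833) (.leaf 22840302)) (.node (.leaf 9852141) (.leaf 30641768))) (.node (.node (.leaf 17045521) (.leaf 22419733))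 (.node (.leaf 773666) (.leaf 20791920)))) (.node (.node (.node (.leaf 20044788) (.leaf 3327674)) (.node (.leaf 33720489) (.leaf 27777505))) (.node (.node (.leaf 31822778) (.leaf 8233076)) (.node (.leaf 17044338) (.leaf 11144500))))) (.node (.node (.node (.node (.leaf 28131453) (.leaf 31229773)) (.node (.leaf 13786502) (.leaf 9100676))) (.node (.node (.leaf 27691766) (.leaf 27777782)) (.node (.leaf 6430972) (.leaf 29644076)))) (.node (.node (.node (.leaf 8834762) (.leaf 14587849)) (.node (.leaf 10666590) (.leaf 7636105))) (.node (.node (.leaf 20580876) (.leaf 33719444)) (.node (.leaf 15437484) (.leaf 18863917)))))))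

/-- A point of the block, part 268. -/
def ptCodePart268 : Janko1.Tree ℕ := (.node (.node (.node (.node (.node (.node (.leaf 18863045) (.leaf 5493236)) (.node (.leaf 2475728) (.leaf 5311840))) (.node (.node (.leaf 23158500) (.leaf 6900845)) (.node (.leaf 7177408) (.leaf 27841726)))) (.node (.node (.node (.leaf 27837789) (.leaf 29511920)) (.node (.leaf 26942653) (.leaf 22236389))) (.node (.node (.leaf 7669001) (.leaf 18862789)) (.node (.leaf 7667756) (.leaf 7704486))))) (.node (.node (.node (.node (.leaf 16435916) (.leaf 9539733)) (.node (.leaf 18079300) (.leaf 14651748))) (.node (.node (.leaf 17488161) (.leaf 7951888)) (.node (.leaf 30919334) (.leaf 31658513)))) (.node (.node (.node (.leaf 6447136) (.leaf 34496369)) (.node (.leaf 11568600) (.leaf 16597121))) (.node (.node (.leaf 2560689) (.leaf 15435042)) (.node (.leaf 33856437) (.leaf 14566654)))))) (.node (.node (.node (.node (.node (.leaf 2482004) (.leaf 20565018)) (.node (.leaf 7362642) (.leaf 23841988))) (.node (.node (.leaf 6348276) (.leaf 18685020))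 (.node (.leaf 29410280) (.leaf 24625441)))) (.node (.node (.node (.leaf 23692601) (.leaf 15435158)) (.node (.leaf 23157318) (.leaf 30592684))) (.node (.node (.leaf 27837573) (.leaf 29611436)) (.node (.leaf 11623861) (.leaf 5576314))))) (.node (.node (.node (.node (.leaf 789025) (.leaf 21744292)) (.node (.leaf 20569330) (.leaf 15273740))) (.node (.node (.leaf 31661169) (.leaf 25201232)) (.node (.leaf 7950713) (.leaf 17632174)))) (.node (.node (.node (.leaf 15585726) (.leaf 34377106)) (.node (.leaf 32825472) (.leaf 16717576))) (.node (.node (.leaf 7181228) (.leaf 28368658)) (.node (.leaf 15277905) (.leaf 15440594)))))))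

/-- A point of the block, part 269. -/
def ptCodePart269 : Janko1.Tree ℕ := (.node (.node (.node (.node (.node (.node (.leaf 13967660) (.leaf 31166917)) (.node (.leaf 5841044) (.leaf 8820589))) (.node (.node (.leaf 7344333) (.leaf 23845950)) (.node (.leaf 15566534) (.leaf 9899594)))) (.node (.node (.node (.leaf 22234078) (.leaf 19042937)) (.node (.leaf 26040008) (.leaf 8539040))) (.node (.node (.leaf 10669474) (.leaf 2134422)) (.node (.leaf 7077952) (.leaf 27413232))))) (.node (.node (.node (.node (.leaf 28098742) (.leaf 33233142)) (.node (.leaf 3152564) (.leaf 5575756))) (.node (.node (.leaf 6112098) (.leaf 23841861)) (.node (.leaf 35180445) (.leaf 19745150)))) (.node (.node (.node (.leaf 33358569) (.leaf 13917982)) (.node (.leaf 15440444) (.leaf 7359440))) (.node (.node (.leaf 5314932) (.leaf 7085993)) (.node (.leaf 33180461) (.leaf 24417637)))))) (.node (.node (.node (.node (.node (.leaf 7357861) (.leaf 10731960)) (.node (.leaf 2200909) (.leaf 25035060))) (.node (.node (.leaf 16128662) (.leaf 8868208))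 (.node (.leaf 18760624) (.leaf 7177341)))) (.node (.node (.node (.leaf 5446589) (.leaf 15588678)) (.node (.leaf 14652205) (.leaf 24911684))) (.node (.node (.leaf 5440948) (.leaf 12901138)) (.node (.leaf 19144856) (.leaf 15327554))))) (.node (.node (.node (.node (.leaf 26140028) (.leaf 30592094)) (.node (.leaf 16718794) (.leaf 34374832))) (.node (.node (.leaf 32621292) (.leaf 26940977)) (.node (.leaf 15257877) (.leaf 8871682)))) (.node (.node (.node (.leaf 27924032) (.leaf 35180529)) (.node (.leaf 18109754) (.leaf 2196300))) (.node (.node (.leaf 5312964) (.leaf 34493666)) (.node (.leaf 14566588) (.leaf 28875424)))))))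

/-- A point of the block, part 270. -/
def ptCodePart270 : Janko1.Tree ℕ := (.node (.node (.node (.node (.node (.node (.leaf 12145029) (.leaf 25202666)) (.node (.leaf 15438905) (.leaf 17531200))) (.node (.node (.leaf 26138532) (.leaf 26941485)) (.node (.leaf 7078110) (.leaf 17930713)))) (.node (.node (.node (.leaf 32823308) (.leaf 17631398)) (.node (.leaf 13849537) (.leaf 14721126))) (.node (.node (.leaf 30558481) (.leaf 3867817)) (.node (.leaf 23843438) (.leaf 29557621))))) (.node (.node (.node (.node (.leaf 24365850) (.leaf 12866576)) (.node (.leaf 27924422) (.leaf 9902376))) (.node (.node (.leaf 11098416) (.leaf 17536642)) (.node (.leaf 1793361) (.leaf 17860160)))) (.node (.node (.node (.leaf 15420446) (.leaf 13916981)) (.node (.leaf 8096298) (.leaf 3871236))) (.node (.node (.leaf 27402166) (.leaf 20565494)) (.node (.leaf 31478972) (.leaf 5836038)))))) (.node (.node (.node (.node (.node (.leaf 413809) (.leaf 30003344)) (.node (.leaf 27220973) (.leaf 33870010))) (.node (.node (.leaf 32628338) (.leaf 15423136))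 (.node (.leaf 213638) (.leaf 30725366)))) (.node (.node (.node (.leaf 22237552) (.leaf 14009300)) (.node (.leaf 25039558) (.leaf 12869209))) (.node (.node (.leaf 31475953) (.leaf 33359876)) (.node (.leaf 27925326) (.leaf 8541554))))) (.node (.node (.node (.node (.leaf 28101812) (.leaf 31872046)) (.node (.leaf 5820980) (.leaf 416398))) (.node (.node (.leaf 13490000) (.leaf 27837246)) (.node (.leaf 29514149) (.leaf 724429)))) (.node (.node (.node (.leaf 27414600) (.leaf 3868022)) (.node (.leaf 28789288) (.leaf 1039556))) (.node (.node (.leaf 5819049) (.leaf 13489689)) (.node (.leaf 21858468) (.leaf 1789772)))))))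

/-- A point of the block, part 271. -/
def ptCodePart271 : Janko1.Tree ℕ := (.node (.node (.node (.node (.node (.node (.leaf 22398382) (.leaf 24416716)) (.node (.leaf 22778800) (.leaf 29608689))) (.node (.node (.leaf 15319485) (.leaf 16126534)) (.node (.leaf 7705058) (.leaf 29609592)))) (.node (.node (.node (.leaf 30724057) (.leaf 18109110)) (.node (.leaf 7954542) (.leaf 1033292))) (.node (.node (.leaf 16433306) (.leaf 7952109)) (.node (.leaf 13490800) (.leaf 723337))))) (.node (.node (.node (.node (.leaf 7949618) (.leaf 5309594)) (.node (.leaf 29612370) (.leaf 21795965))) (.node (.node (.leaf 13850854) (.leaf 25041533)) (.node (.leaf 19732030) (.leaf 6574681)))) (.node (.node (.node (.leaf 12358590) (.leaf 19743686)) (.node (.leaf 728470) (.leaf 10672981))) (.node (.node (.leaf 28791914) (.leaf 10670126)) (.node (.leaf 2138524) (.leaf 21864533)))))) (.node (.node (.node (.node (.node (.leaf 17489444) (.leaf 2725980)) (.node (.leaf 6442402) (.leaf 18139920))) (.node (.node (.leaf 27870828) (.leaf 31874312))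 (.node (.leaf 16598444) (.leaf 18764308)))) (.node (.node (.node (.leaf 6474696) (.leaf 17291892)) (.node (.leaf 17339549) (.leaf 27399318))) (.node (.node (.leaf 30559364) (.leaf 20390242)) (.node (.leaf 6473825) (.leaf 24414110))))) (.node (.node (.node (.node (.leaf 10145392) (.leaf 27839038)) (.node (.leaf 23337397) (.leaf 4874189))) (.node (.node (.leaf 15437784) (.leaf 7084013)) (.node (.leaf 5443944) (.leaf 6442938)))) (.node (.node (.node (.leaf 2826192) (.leaf 29410100)) (.node (.leaf 6441862) (.leaf 17633024))) (.node (.node (.leaf 16421792) (.leaf 20127633)) (.node (.leaf 20384520) (.leaf 21381974)))))))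

/-- A point of the block, part 272. -/
def ptCodePart272 : Janko1.Tree ℕ := (.node (.node (.node (.node (.node (.node (.leaf 3873845) (.leaf 8391445)) (.node (.leaf 16128274) (.leaf 30592752))) (.node (.node (.leaf 14016693) (.leaf 26936786)) (.node (.leaf 6116060) (.leaf 27924553)))) (.node (.node (.node (.leaf 2136932) (.leaf 8388688)) (.node (.leaf 17338630) (.leaf 34689752))) (.node (.node (.leaf 1039702) (.leaf 28365969)) (.node (.leaf 19136996) (.leaf 8389632))))) (.node (.node (.node (.node (.leaf 9898209) (.leaf 17928909)) (.node (.leaf 32620934) (.leaf 5314669))) (.node (.node (.leaf 12144504) (.leaf 26134301)) (.node (.leaf 8102225) (.leaf 9536524)))) (.node (.node (.node (.leaf 14734644) (.leaf 19138514)) (.node (.leaf 15424090) (.leaf 2723477))) (.node (.node (.leaf 19041302) (.leaf 15587624)) (.node (.leaf 23338556) (.leaf 33870096)))))) (.node (.node (.node (.node (.node (.leaf 19730517) (.leaf 9541822)) (.node (.leaf 27399406) (.leaf 7865852))) (.node (.node (.leaf 27412366) (.leaf 15566432))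 (.node (.leaf 32624766) (.leaf 7342338)))) (.node (.node (.node (.leaf 16127745) (.leaf 30721302)) (.node (.leaf 24625614) (.leaf 21793632))) (.node (.node (.leaf 2199264) (.leaf 18078782)) (.node (.leaf 10837825) (.leaf 19782929))))) (.node (.node (.node (.node (.leaf 6345589) (.leaf 30000729)) (.node (.leaf 18858212) (.leaf 17481969))) (.node (.node (.leaf 20563892) (.leaf 7702002)) (.node (.leaf 32704209) (.leaf 31656780)))) (.node (.node (.node (.leaf 24626330) (.leaf 20120962)) (.node (.leaf 22782350) (.leaf 30114861))) (.node (.node (.leaf 31867796) (.leaf 26040036)) (.node (.leaf 7866589) (.leaf 26034872)))))))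

/-- A point of the block, part 273. -/
def ptCodePart273 : Janko1.Tree ℕ := (.node (.node (.node (.node (.node (.node (.leaf 32703473) (.leaf 12869954)) (.node (.leaf 20386745) (.leaf 35183645))) (.node (.node (.leaf 30564514) (.leaf 13959768)) (.node (.leaf 27810114) (.leaf 8095236)))) (.node (.node (.node (.leaf 17927882) (.leaf 28462698)) (.node (.leaf 16600581) (.leaf 8390857))) (.node (.node (.leaf 17928761) (.leaf 14732161)) (.node (.leaf 6443138) (.leaf 18138738))))) (.node (.node (.node (.node (.leaf 24904681) (.leaf 22781137)) (.node (.leaf 28871693) (.leaf 18684786))) (.node (.node (.leaf 17534462) (.leaf 1794118)) (.node (.leaf 11618965) (.leaf 6079120)))) (.node (.node (.node (.leaf 32988392) (.leaf 27875088)) (.node (.leaf 31626997) (.leaf 6472460))) (.node (.node (.leaf 24363390) (.leaf 11551122)) (.node (.leaf 32823640) (.leaf 17289678)))))) (.node (.node (.node (.node (.node (.leaf 10671798) (.leaf 723158)) (.node (.leaf 23152792) (.leaf 18635170))) (.node (.node (.leaf 17863510) (.leaf 14734002))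 (.node (.leaf 6086401) (.leaf 3150325)))) (.node (.node (.node (.leaf 15436997) (.leaf 5574000)) (.node (.leaf 11097913) (.leaf 7866942))) (.node (.node (.leaf 15565005) (.leaf 30559658)) (.node (.leaf 13918313) (.leaf 7703558))))) (.node (.node (.node (.node (.leaf 18104525) (.leaf 30559422)) (.node (.leaf 4866086) (.leaf 24068500))) (.node (.node (.leaf 6084348) (.leaf 2201753)) (.node (.leaf 33851258) (.leaf 14569329)))) (.node (.node (.node (.leaf 15325130) (.leaf 31871308)) (.node (.leaf 10146668) (.leaf 16441420))) (.node (.node (.leaf 27921650) (.leaf 31867748)) (.node (.leaf 7180813) (.leaf 6114897)))))))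

/-- A point of the block, part 274. -/
def ptCodePart274 : Janko1.Tree ℕ := (.node (.node (.node (.node (.node (.node (.leaf 5819426) (.leaf 23692617)) (.node (.leaf 794088) (.leaf 17629608))) (.node (.node (.leaf 26941713) (.leaf 8816842)) (.node (.leaf 2722018) (.leaf 8391578)))) (.node (.node (.node (.leaf 6032368) (.leaf 2562388)) (.node (.leaf 29986897) (.leaf 4870072))) (.node (.node (.leaf 2562370) (.leaf 16420065)) (.node (.leaf 21793889) (.leaf 27411142))))) (.node (.node (.node (.node (.leaf 13486698) (.leaf 24072114)) (.node (.leaf 28459297) (.leaf 17532381))) (.node (.node (.leaf 18631618) (.leaf 16720216)) (.node (.leaf 19046029) (.leaf 6036082)))) (.node (.node (.node (.leaf 30922814) (.leaf 29565124)) (.node (.leaf 12899538) (.leaf 17484684))) (.node (.node (.leaf 31703932) (.leaf 21383753)) (.node (.leaf 411229) (.leaf 12866600)))))) (.node (.node (.node (.node (.node (.leaf 23879286) (.leaf 8539086)) (.node (.leaf 32706622) (.leaf 2825486))) (.node (.node (.leaf 2823549) (.leaf 33228702))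 (.node (.leaf 10837406) (.leaf 12145742)))) (.node (.node (.node (.leaf 414960) (.leaf 6119625)) (.node (.leaf 6900012) (.leaf 28106573))) (.node (.node (.leaf 12898202) (.leaf 794112)) (.node (.leaf 24625356) (.leaf 29414916))))) (.node (.node (.node (.node (.leaf 32817726) (.leaf 18633689)) (.node (.leaf 22463546) (.leaf 26135626))) (.node (.node (.leaf 28663338) (.leaf 2559676)) (.node (.leaf 221438) (.leaf 29986490)))) (.node (.node (.node (.leaf 15323970) (.leaf 8772425)) (.node (.leaf 7869933) (.leaf 16719653))) (.node (.node (.leaf 7085610) (.leaf 27398396)) (.node (.leaf 24417645) (.leaf 7947972)))))))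

/-- A point of the block, part 275. -/
def ptCodePart275 : Janko1.Tree ℕ := (.node (.node (.node (.node (.node (.node (.leaf 3875248) (.leaf 7667792)) (.node (.leaf 24625789) (.leaf 6348145))) (.node (.node (.leaf 11553670) (.leaf 30117180)) (.node (.leaf 17484846) (.leaf 14569421)))) (.node (.node (.node (.leaf 34688777) (.leaf 5440756)) (.node (.leaf 15423566) (.leaf 29560996))) (.node (.node (.leaf 17484725) (.leaf 5623650)) (.node (.leaf 31660769) (.leaf 24906054))))) (.node (.node (.node (.node (.leaf 5624294) (.leaf 15271565)) (.node (.leaf 9540032) (.leaf 1921266))) (.node (.node (.leaf 28787881) (.leaf 2560457)) (.node (.leaf 28462705) (.leaf 28463496)))) (.node (.node (.node (.leaf 10672168) (.leaf 21598162)) (.node (.leaf 14014846) (.leaf 22779716))) (.node (.node (.leaf 6035809) (.leaf 27024873)) (.node (.leaf 33849900) (.leaf 3147604)))))) (.node (.node (.node (.node (.node (.leaf 2558680) (.leaf 11620974)) (.node (.leaf 16599953) (.leaf 5836554))) (.node (.node (.leaf 33181966) (.leaf 28660312))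 (.node (.leaf 30558020) (.leaf 29511990)))) (.node (.node (.node (.leaf 27020996) (.leaf 11098542)) (.node (.leaf 21793060) (.leaf 24366940))) (.node (.node (.leaf 788109) (.leaf 7951381)) (.node (.leaf 33182638) (.leaf 18077941))))) (.node (.node (.node (.node (.leaf 3871773) (.leaf 27920477)) (.node (.leaf 5882324) (.leaf 16434128))) (.node (.node (.leaf 21594386) (.leaf 16122036)) (.node (.leaf 23154993) (.leaf 14567248)))) (.node (.node (.node (.leaf 28098966) (.leaf 31621194)) (.node (.leaf 722034) (.leaf 29412405))) (.node (.node (.leaf 35181576) (.leaf 22466921)) (.node (.leaf 5493430) (.leaf 23691656)))))))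

/-- A point of the block, part 276. -/
def ptCodePart276 : Janko1.Tree ℕ := (.node (.node (.node (.node (.node (.node (.leaf 15271085) (.leaf 6902168)) (.node (.leaf 23697225) (.leaf 12146382))) (.node (.node (.leaf 6029932) (.leaf 11624177)) (.node (.leaf 17960940) (.leaf 6479477)))) (.node (.node (.node (.leaf 29858766) (.leaf 34374792)) (.node (.leaf 31476573) (.leaf 21861102))) (.node (.node (.leaf 17433445) (.leaf 21744013)) (.node (.leaf 26136334) (.leaf 9770437))))) (.node (.node (.node (.node (.leaf 5886022) (.leaf 18765233)) (.node (.leaf 14013098) (.leaf 27336141))) (.node (.node (.leaf 30114756) (.leaf 21861437)) (.node (.leaf 27415001) (.leaf 30121602)))) (.node (.node (.node (.leaf 21497998) (.leaf 7363572)) (.node (.leaf 15242538) (.leaf 12895121))) (.node (.node (.leaf 30593297) (.leaf 7700790)) (.node (.leaf 6084237) (.leaf 9764946)))))) (.node (.node (.node (.node (.node (.leaf 6446352) (.leaf 6341500)) (.node (.leaf 28789512) (.leaf 20122956))) (.node (.node (.leaf 17285857) (.leaf 35180406))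 (.node (.leaf 31705030) (.leaf 13959752)))) (.node (.node (.node (.leaf 28869745) (.leaf 218793)) (.node (.leaf 28660916) (.leaf 29509353))) (.node (.node (.leaf 23334302) (.leaf 17439804)) (.node (.leaf 32987966) (.leaf 19143510))))) (.node (.node (.node (.node (.leaf 18631629) (.leaf 26038506)) (.node (.leaf 11556474) (.leaf 29559694))) (.node (.node (.leaf 6479205) (.leaf 6577132)) (.node (.leaf 32988640) (.leaf 31623725)))) (.node (.node (.node (.leaf 16439604) (.leaf 17342241)) (.node (.leaf 11555092) (.leaf 14731226))) (.node (.node (.leaf 21860058) (.leaf 20388105)) (.node (.leaf 33234157) (.leaf 20386716)))))))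

/-- A point of the block, part 277. -/
def ptCodePart277 : Janko1.Tree ℕ := (.node (.node (.node (.node (.node (.node (.leaf 8540708) (.leaf 19039229)) (.node (.leaf 11571660) (.leaf 6440309))) (.node (.node (.leaf 27330980) (.leaf 21502412)) (.node (.leaf 17930400) (.leaf 25203798)))) (.node (.node (.node (.leaf 5626790) (.leaf 27396073)) (.node (.leaf 29858445) (.leaf 24072889))) (.node (.node (.leaf 217726) (.leaf 17956892)) (.node (.leaf 22466514) (.leaf 33852574))))) (.node (.node (.node (.node (.leaf 10837905) (.leaf 27334040)) (.node (.leaf 27918730) (.leaf 16424778))) (.node (.node (.leaf 23695396) (.leaf 24630333)) (.node (.leaf 19781556) (.leaf 17629636)))) (.node (.node (.node (.leaf 1793130) (.leaf 5620128)) (.node (.leaf 29987929) (.leaf 7703934))) (.node (.node (.leaf 793694) (.leaf 22240573)) (.node (.leaf 18142268) (.leaf 14713196)))))) (.node (.node (.node (.node (.node (.leaf 19742813) (.leaf 9541521)) (.node (.leaf 30723146) (.leaf 19743753))) (.node (.node (.leaf 28466378) (.leaf 30922236))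 (.node (.leaf 17288430) (.leaf 25199086)))) (.node (.node (.node (.leaf 25036280) (.leaf 17535505)) (.node (.leaf 8102241) (.leaf 34495718))) (.node (.node (.leaf 27217389) (.leaf 11559086)) (.node (.leaf 24364648) (.leaf 2823160))))) (.node (.node (.node (.node (.leaf 30004356) (.leaf 14718008)) (.node (.leaf 7672921) (.leaf 6029529))) (.node (.node (.leaf 1919789) (.leaf 30562466)) (.node (.leaf 27810664) (.leaf 9903473)))) (.node (.node (.node (.leaf 7947714) (.leaf 2476188)) (.node (.leaf 5890144) (.leaf 27840690))) (.node (.node (.leaf 2558918) (.leaf 23879757)) (.node (.leaf 6112752) (.leaf 17341138)))))))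

/-- A point of the block, part 278. -/
def ptCodePart278 : Janko1.Tree ℕ := (.node (.node (.node (.node (.node (.node (.leaf 18075092) (.leaf 1032726)) (.node (.leaf 25203670) (.leaf 7184713))) (.node (.node (.leaf 15588696) (.leaf 23845590)) (.node (.leaf 32707629) (.leaf 13911370)))) (.node (.node (.node (.leaf 8391485) (.leaf 8767752)) (.node (.leaf 27804149) (.leaf 13849805))) (.node (.node (.leaf 30003558) (.leaf 17286773)) (.node (.leaf 32983933) (.leaf 21381822))))) (.node (.node (.node (.node (.leaf 30597197) (.leaf 411088)) (.node (.leaf 3868378) (.leaf 14648341))) (.node (.node (.leaf 17859005) (.leaf 30121978)) (.node (.leaf 15240822) (.leaf 6081024)))) (.node (.node (.node (.leaf 6117209) (.leaf 17440440)) (.node (.leaf 17441185) (.leaf 22468388))) (.node (.node (.leaf 17928877) (.leaf 6080885)) (.node (.leaf 10733880) (.leaf 25199270)))))) (.node (.node (.node (.node (.node (.leaf 7342674) (.leaf 7363238)) (.node (.leaf 15569953) (.leaf 27876764))) (.node (.node (.leaf 21383528) (.leaf 33851524))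 (.node (.leaf 17439938) (.leaf 30119752)))) (.node (.node (.node (.leaf 1917977) (.leaf 16433270)) (.node (.leaf 34358784) (.leaf 20562042))) (.node (.node (.leaf 31166350) (.leaf 5313097)) (.node (.leaf 15568238) (.leaf 10835370))))) (.node (.node (.node (.node (.leaf 32825432) (.leaf 27221294)) (.node (.leaf 14714220) (.leaf 32825549))) (.node (.node (.leaf 2479940) (.leaf 10145268)) (.node (.leaf 30920312) (.leaf 5884410)))) (.node (.node (.node (.leaf 31705944) (.leaf 34362630)) (.node (.leaf 18682466) (.leaf 792489))) (.node (.node (.leaf 22397748) (.leaf 10737596)) (.node (.leaf 6033905) (.leaf 7084950)))))))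

/-- A point of the block, part 279. -/
def ptCodePart279 : Janko1.Tree ℕ := (.node (.node (.node (.node (.node (.node (.leaf 10146802) (.leaf 13849873)) (.node (.leaf 3153233) (.leaf 18142454))) (.node (.node (.leaf 15245213) (.leaf 17864990)) (.node (.leaf 21381432) (.leaf 11567260)))) (.node (.node (.node (.leaf 12863610) (.leaf 27870602)) (.node (.leaf 31169606) (.leaf 1040772))) (.node (.node (.leaf 26941453) (.leaf 15259126)) (.node (.leaf 725726) (.leaf 11092638))))) (.node (.node (.node (.node (.leaf 12897828) (.leaf 7082685)) (.node (.leaf 24908252) (.leaf 27398086))) (.node (.node (.leaf 28792120) (.leaf 22466333)) (.node (.leaf 2480365) (.leaf 15587194)))) (.node (.node (.node (.leaf 2197356) (.leaf 14654860)) (.node (.leaf 23338442) (.leaf 19046330))) (.node (.node (.leaf 22236357) (.leaf 14652818)) (.node (.leaf 6030832) (.leaf 18631182)))))) (.node (.node (.node (.node (.node (.leaf 33361201) (.leaf 5578466)) (.node (.leaf 16127432) (.leaf 11568465))) (.node (.node (.leaf 2820848) (.leaf 2727064))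 (.node (.leaf 28465825) (.leaf 34688304)))) (.node (.node (.node (.leaf 15571897) (.leaf 9770697)) (.node (.leaf 27221958) (.leaf 15255581))) (.node (.node (.leaf 2195642) (.leaf 2474745)) (.node (.leaf 32705034) (.leaf 19142436))))) (.node (.node (.node (.node (.leaf 12148818) (.leaf 24413961)) (.node (.leaf 2131416) (.leaf 6479161))) (.node (.node (.leaf 30594485) (.leaf 8866928)) (.node (.leaf 19782586) (.leaf 13491032)))) (.node (.node (.node (.leaf 17438472) (.leaf 23692818)) (.node (.leaf 6576969) (.leaf 1789666))) (.node (.node (.leaf 21596136) (.leaf 31870698)) (.node (.leaf 31170722) (.leaf 28792928)))))))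

/-- A point of the block, part 280. -/
def ptCodePart280 : Janko1.Tree ℕ := (.node (.node (.node (.node (.node (.node (.leaf 34692222) (.leaf 18142014)) (.node (.leaf 28106864) (.leaf 28366425))) (.node (.node (.leaf 22401394) (.leaf 21499921)) (.node (.leaf 18683278) (.leaf 25041932)))) (.node (.node (.node (.leaf 27417477) (.leaf 13963114)) (.node (.leaf 22238645) (.leaf 30005944))) (.node (.node (.leaf 15259529) (.leaf 5884282)) (.node (.leaf 26040098) (.leaf 14717542))))) (.node (.node (.node (.node (.leaf 6442469) (.leaf 8816894)) (.node (.leaf 32620856) (.leaf 15244505))) (.node (.node (.leaf 18762270) (.leaf 12357400)) (.node (.leaf 30726385) (.leaf 7178942)))) (.node (.node (.node (.leaf 13913082) (.leaf 5819970)) (.node (.leaf 18077268) (.leaf 7363166))) (.node (.node (.leaf 28869786) (.leaf 33363021)) (.node (.leaf 33857325) (.leaf 17930164)))))) (.node (.node (.node (.node (.node (.leaf 17866433) (.leaf 17960116)) (.node (.leaf 6477940) (.leaf 14737812))) (.node (.node (.leaf 32707009) (.leaf 5887010))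 (.node (.leaf 6116365) (.leaf 28105478)))) (.node (.node (.node (.leaf 10147317) (.leaf 5885005)) (.node (.leaf 18109666) (.leaf 5178500))) (.node (.node (.leaf 19776373) (.leaf 414342)) (.node (.leaf 19144433) (.leaf 23694456))))) (.node (.node (.node (.node (.leaf 5494020) (.leaf 8539152)) (.node (.leaf 12356762) (.leaf 18764756))) (.node (.node (.leaf 29416817) (.leaf 794832)) (.node (.leaf 6906009) (.leaf 24070669)))) (.node (.node (.node (.leaf 34358060) (.leaf 19783938)) (.node (.leaf 14716810) (.leaf 29989078))) (.node (.node (.leaf 18679122) (.leaf 18859741)) (.node (.leaf 11098940) (.leaf 33873344)))))))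

/-- A point of the block, part 281. -/
def ptCodePart281 : Janko1.Tree ℕ := (.node (.node (.node (.node (.node (.node (.leaf 33849420) (.leaf 27022216)) (.node (.leaf 19727140) (.leaf 31165392))) (.node (.node (.leaf 17286717) (.leaf 2721197)) (.node (.leaf 7178761) (.leaf 31869548)))) (.node (.node (.node (.leaf 16601172) (.leaf 18109794)) (.node (.leaf 34688457) (.leaf 25039737))) (.node (.node (.leaf 2201081) (.leaf 3153968)) (.node (.leaf 27336673) (.leaf 17965062))))) (.node (.node (.node (.node (.leaf 21745169) (.leaf 12354693)) (.node (.leaf 220653) (.leaf 8816846))) (.node (.node (.leaf 26134013) (.leaf 20570242)) (.node (.leaf 5495418) (.leaf 11624632)))) (.node (.node (.node (.leaf 7346428) (.leaf 35179970)) (.node (.leaf 27877578) (.leaf 29613496))) (.node (.node (.leaf 28661872) (.leaf 27401016)) (.node (.leaf 28661185) (.leaf 22464606)))))) (.node (.node (.node (.node (.node (.leaf 28099408) (.leaf 32983134)) (.node (.leaf 24628812) (.leaf 8536944))) (.node (.node (.leaf 30589448) (.leaf 27023822))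 (.node (.leaf 30724248) (.leaf 17338137)))) (.node (.node (.node (.leaf 10732664) (.leaf 13487853)) (.node (.leaf 22777121) (.leaf 24074014))) (.node (.node (.leaf 28874590) (.leaf 13846300)) (.node (.leaf 29613288) (.leaf 5443030))))) (.node (.node (.node (.node (.leaf 16417470) (.leaf 26936170)) (.node (.leaf 13914712) (.leaf 2824201))) (.node (.node (.leaf 1033462) (.leaf 11624853)) (.node (.leaf 14649465) (.leaf 31873061)))) (.node (.node (.node (.leaf 5824010) (.leaf 24366110)) (.node (.leaf 22399178) (.leaf 13910662))) (.node (.node (.leaf 24911333) (.leaf 9904504)) (.node (.leaf 412392) (.leaf 34692746)))))))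

/-- A point of the block, part 282. -/
def ptCodePart282 : Janko1.Tree ℕ := (.node (.node (.node (.node (.node (.node (.leaf 7707898) (.leaf 29985810)) (.node (.leaf 786548) (.leaf 27872888))) (.node (.node (.leaf 13967664) (.leaf 26133880)) (.node (.leaf 6341789) (.leaf 30556982)))) (.node (.node (.node (.leaf 18138224) (.leaf 5620884)) (.node (.leaf 15260308) (.leaf 3152914))) (.node (.node (.leaf 32625797) (.leaf 21389336)) (.node (.leaf 26034960) (.leaf 17630220))))) (.node (.node (.node (.node (.leaf 5841233) (.leaf 31661700)) (.node (.leaf 13849024) (.leaf 14653338))) (.node (.node (.leaf 23873010) (.leaf 21861984)) (.node (.leaf 21383105) (.leaf 21388156)))) (.node (.node (.node (.leaf 6570346) (.leaf 32820977)) (.node (.leaf 27418365) (.leaf 14654550))) (.node (.node (.leaf 7357150) (.leaf 19747558)) (.node (.leaf 11556569) (.leaf 213138)))))) (.node (.node (.node (.node (.node (.leaf 5180916) (.leaf 33872853)) (.node (.leaf 21745116) (.leaf 1788292))) (.node (.node (.leaf 1036834) (.leaf 16602746))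 (.node (.leaf 3153940) (.leaf 8865117)))) (.node (.node (.node (.leaf 8773362) (.leaf 14568380)) (.node (.leaf 30723862) (.leaf 21744524))) (.node (.node (.leaf 21745014) (.leaf 26042633)) (.node (.leaf 5621784) (.leaf 21790916))))) (.node (.node (.node (.node (.leaf 31710574) (.leaf 7084749)) (.node (.leaf 28793248) (.leaf 12143838))) (.node (.node (.leaf 30921486) (.leaf 6085006)) (.node (.leaf 12353946) (.leaf 8095549)))) (.node (.node (.node (.leaf 7340872) (.leaf 16597045)) (.node (.leaf 5495982) (.leaf 28663585))) (.node (.node (.leaf 31482200) (.leaf 8542381)) (.node (.leaf 7701468) (.leaf 22468964)))))))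

/-- A point of the block, part 283. -/
def ptCodePart283 : Janko1.Tree ℕ := (.node (.node (.node (.node (.node (.node (.leaf 24413232) (.leaf 8767452)) (.node (.leaf 25043297) (.leaf 19779808))) (.node (.node (.leaf 11552937) (.leaf 19044040)) (.node (.leaf 1034936) (.leaf 17931294)))) (.node (.node (.node (.leaf 33852665) (.leaf 27840736)) (.node (.leaf 33229682) (.leaf 20119776))) (.node (.node (.leaf 21597772) (.leaf 28367730)) (.node (.leaf 14717800) (.leaf 28467561))))) (.node (.node (.node (.node (.leaf 16129114) (.leaf 28873092)) (.node (.leaf 18637081) (.leaf 17434770))) (.node (.node (.leaf 21502530) (.leaf 25035909)) (.node (.leaf 20565893) (.leaf 6346793)))) (.node (.node (.node (.leaf 32707140) (.leaf 7868556)) (.node (.leaf 21792748) (.leaf 7864396))) (.node (.node (.leaf 17286057) (.leaf 27412149)) (.node (.leaf 10142614) (.leaf 27217260)))))) (.node (.node (.node (.node (.node (.leaf 21498314) (.leaf 17342545)) (.node (.leaf 30596182) (.leaf 14016026))) (.node (.node (.leaf 29411156) (.leaf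 5819781)) (.node (.leaf 31623932) (.leaf 24074210)))) (.node (.node (.node (.leaf 9773486) (.leaf 17957480)) (.node (.leaf 218220) (.leaf 18678382))) (.node (.node (.leaf 21596877) (.leaf 27220044)) (.node (.leaf 28363138) (.leaf 23847089))))) (.node (.node (.node (.node (.leaf 5179790) (.leaf 29612060)) (.node (.leaf 16424836) (.leaf 15240441))) (.node (.node (.leaf 18079240) (.leaf 16718316)) (.node (.leaf 23157134) (.leaf 19041420)))) (.node (.node (.node (.leaf 7341270) (.leaf 2477233)) (.node (.leaf 5182320) (.leaf 27920949))) (.node (.node (.leaf 23878369) (.leaf 31658752)) (.node (.leaf 12869478) (.leaf 33179945)))))))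

/-- A point of the block, part 284. -/
def ptCodePart284 : Janko1.Tree ℕ := (.node (.node (.node (.node (.node (.node (.leaf 4868329) (.leaf 6904618)) (.node (.leaf 15324402) (.leaf 26349758))) (.node (.node (.leaf 7183657) (.leaf 15258176)) (.node (.leaf 23698188) (.leaf 17485186)))) (.node (.node (.node (.leaf 8770385) (.leaf 19731781)) (.node (.leaf 4866526) (.leaf 31655312))) (.node (.node (.leaf 5308721) (.leaf 33180569)) (.node (.leaf 5578194) (.leaf 1791972))))) (.node (.node (.node (.node (.leaf 18634046) (.leaf 14012108)) (.node (.leaf 9896849) (.leaf 9769905))) (.node (.node (.leaf 11619182) (.leaf 31709192)) (.node (.leaf 15274610) (.leaf 8773145)))) (.node (.node (.node (.leaf 18079884) (.leaf 29510342)) (.node (.leaf 5577084) (.leaf 26346237))) (.node (.node (.leaf 28870426) (.leaf 27023442)) (.node (.leaf 2562218) (.leaf 15570722)))))) (.node (.node (.node (.node (.node (.leaf 23876714) (.leaf 21749618)) (.node (.leaf 27807196) (.leaf 27844342))) (.node (.node (.leaf 5311986) (.leaf 6901177))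 (.node (.leaf 35183501) (.leaf 11094588)))) (.node (.node (.node (.leaf 8540786) (.leaf 6034630)) (.node (.leaf 34362077) (.leaf 26349750))) (.node (.node (.leaf 17956946) (.leaf 29856106)) (.node (.leaf 7346553) (.leaf 34380864))))) (.node (.node (.node (.node (.leaf 6340724) (.leaf 13959728)) (.node (.leaf 12358989) (.leaf 28464122))) (.node (.node (.leaf 33869152) (.leaf 17285345)) (.node (.leaf 32989370) (.leaf 29853902)))) (.node (.node (.node (.leaf 19749908) (.leaf 8869174)) (.node (.leaf 17532497) (.leaf 11558889))) (.node (.node (.leaf 10145701) (.leaf 12900070)) (.node (.leaf 24370242) (.leaf 29985496)))))))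

/-- A point of the block, part 285. -/
def ptCodePart285 : Janko1.Tree ℕ := (.node (.node (.node (.node (.node (.node (.leaf 33228222) (.leaf 12896846)) (.node (.leaf 28655870) (.leaf 15418300))) (.node (.node (.leaf 33177621) (.leaf 22238934)) (.node (.leaf 22399956) (.leaf 22400654)))) (.node (.node (.node (.leaf 30722244) (.leaf 21500642)) (.node (.leaf 18767274) (.leaf 17863780))) (.node (.node (.leaf 24366874) (.leaf 34488785)) (.node (.leaf 22463558) (.leaf 32820144))))) (.node (.node (.node (.node (.leaf 32989510) (.leaf 10673094)) (.node (.leaf 215249) (.leaf 13963602))) (.node (.node (.leaf 5833140) (.leaf 12358853)) (.node (.leaf 27810605) (.leaf 15324114)))) (.node (.node (.node (.leaf 26939393) (.leaf 34495893)) (.node (.leaf 31625961) (.leaf 6078710))) (.node (.node (.leaf 24071956) (.leaf 8767817)) (.node (.leaf 21863848) (.leaf 30924029)))))) (.node (.node (.node (.node (.node (.leaf 20385558) (.leaf 12142417)) (.node (.leaf 17864726) (.leaf 5488773))) (.node (.node (.leaf 26350613) (.leaf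 26347944)) (.node (.leaf 31707864) (.leaf 21600877)))) (.node (.node (.node (.leaf 7872408) (.leaf 23879920)) (.node (.leaf 14016196) (.leaf 5445486))) (.node (.node (.leaf 1921854) (.leaf 10146936)) (.node (.leaf 8099068) (.leaf 23877881))))) (.node (.node (.node (.node (.leaf 34690757) (.leaf 10838330)) (.node (.leaf 9898884) (.leaf 12357456))) (.node (.node (.leaf 27804798) (.leaf 10739326)) (.node (.leaf 21497209) (.leaf 10732636)))) (.node (.node (.node (.leaf 24069304) (.leaf 5623764)) (.node (.leaf 31164981) (.leaf 26134350))) (.node (.node (.leaf 27329509) (.leaf 28794222)) (.node (.leaf 31476937) (.leaf 23840121)))))))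

/-- A point of the block, part 286. -/
def ptCodePart286 : Janko1.Tree ℕ := (.node (.node (.node (.node (.node (.node (.leaf 7363708) (.leaf 19749957)) (.node (.leaf 21792464) (.leaf 27870400))) (.node (.node (.leaf 2129964) (.leaf 8819654)) (.node (.leaf 8818382) (.leaf 2723298)))) (.node (.node (.node (.leaf 7673809) (.leaf 15422636)) (.node (.leaf 17486580) (.leaf 14568021))) (.node (.node (.leaf 27810829) (.leaf 32622264)) (.node (.leaf 13489533) (.leaf 5444576))))) (.node (.node (.node (.node (.leaf 15241609) (.leaf 24910512)) (.node (.leaf 16600497) (.leaf 24419064))) (.node (.node (.leaf 20383000) (.leaf 13910358)) (.node (.leaf 29858736) (.leaf 24631840)))) (.node (.node (.node (.leaf 30001034) (.leaf 7675573)) (.node (.leaf 23338298) (.leaf 16128377))) (.node (.node (.leaf 25199414) (.leaf 16716392)) (.node (.leaf 31706884) (.leaf 7672672)))))) (.node (.node (.node (.node (.node (.leaf 21597161) (.leaf 17336000)) (.node (.leaf 29608444) (.leaf 17963870))) (.node (.node (.leaf 30119897) (.leaf 33227565))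 (.node (.leaf 31626890) (.leaf 27220565)))) (.node (.node (.node (.leaf 32705097) (.leaf 15243188)) (.node (.leaf 18628742) (.leaf 2199425))) (.node (.node (.leaf 23331277) (.leaf 29411758)) (.node (.leaf 5180361) (.leaf 10734826))))) (.node (.node (.node (.node (.leaf 17531332) (.leaf 33364002)) (.node (.leaf 16424433) (.leaf 14014294))) (.node (.node (.leaf 18678920) (.leaf 2820456)) (.node (.leaf 8099925) (.leaf 19727454)))) (.node (.node (.node (.leaf 19732910) (.leaf 29510106)) (.node (.leaf 21749301) (.leaf 15583048))) (.node (.node (.leaf 29510058) (.leaf 6906232)) (.node (.leaf 27022984) (.leaf 30921518)))))))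

/-- A point of the block, part 287. -/
def ptCodePart287 : Janko1.Tree ℕ := (.node (.node (.node (.node (.node (.node (.leaf 2130162) (.leaf 5182450)) (.node (.leaf 8100992) (.leaf 19779670))) (.node (.node (.leaf 8869448) (.leaf 29564206)) (.node (.leaf 18110554) (.leaf 1182205)))) (.node (.node (.node (.leaf 28084865) (.leaf 19369992)) (.node (.leaf 31806962) (.leaf 19374078))) (.node (.node (.leaf 2720189) (.leaf 6801361)) (.node (.leaf 12869622) (.leaf 34918749))))) (.node (.node (.node (.node (.leaf 15633610) (.leaf 14767244)) (.node (.leaf 28084769) (.leaf 14767393))) (.node (.node (.leaf 12359770) (.leaf 29575660)) (.node (.leaf 18284902) (.leaf 14764609)))) (.node (.node (.node (.leaf 28626142) (.leaf 200581)) (.node (.leaf 12867840) (.leaf 14928916))) (.node (.node (.leaf 11097162) (.leaf 25120368)) (.node (.leaf 1180089) (.leaf 5349213)))))) (.node (.node (.node (.node (.node (.leaf 515326) (.leaf 32595534)) (.node (.leaf 28314590) (.leaf 25335468))) (.node (.node (.leaf 35195706) (.leaf 14768121))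 (.node (.leaf 28089944) (.leaf 27920050)))) (.node (.node (.node (.leaf 13370724) (.leaf 7724553)) (.node (.leaf 13377933) (.leaf 13374293))) (.node (.node (.leaf 6259662) (.leaf 27676209)) (.node (.leaf 4440126) (.leaf 14015786))))) (.node (.node (.node (.node (.leaf 16139325) (.leaf 32211681)) (.node (.leaf 19370144) (.leaf 9034982))) (.node (.node (.leaf 14425632) (.leaf 8904346)) (.node (.leaf 32653894) (.leaf 28532725)))) (.node (.node (.node (.leaf 10706010) (.leaf 28088382)) (.node (.leaf 28088492) (.leaf 28087584))) (.node (.node (.leaf 14010950) (.leaf 14538240)) (.node (.leaf 889692) (.leaf 32883074)))))))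

/-- A point of the block, part 288. -/
def ptCodePart288 : Janko1.Tree ℕ := (.node (.node (.node (.node (.node (.node (.leaf 14014509) (.leaf 14008414)) (.node (.leaf 25747612) (.leaf 20238100))) (.node (.node (.leaf 30805629) (.leaf 19370134)) (.node (.leaf 14763412) (.leaf 31723625)))) (.node (.node (.node (.leaf 2432858) (.leaf 2590320)) (.node (.leaf 7213994) (.leaf 16139701))) (.node (.node (.leaf 15467738) (.leaf 14540085)) (.node (.leaf 28137796) (.leaf 11358098))))) (.node (.node (.node (.node (.leaf 32966981) (.leaf 34348805)) (.node (.leaf 8898278) (.leaf 1183686))) (.node (.node (.leaf 19369532) (.leaf 1180765)) (.node (.leaf 28527389) (.leaf 29580112)))) (.node (.node (.node (.leaf 18667013) (.leaf 23057361)) (.node (.leaf 20223748) (.leaf 11094449))) (.node (.node (.leaf 1579170) (.leaf 21946770)) (.node (.leaf 27841594) (.leaf 6259561)))))) (.node (.node (.node (.node (.node (.leaf 20368720) (.leaf 35196600)) (.node (.leaf 24335825) (.leaf 19406476))) (.node (.node (.leaf 27673009) (.leaf 21941266))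 (.node (.leaf 778356) (.leaf 8902372)))) (.node (.node (.node (.leaf 16027993) (.leaf 32653798)) (.node (.leaf 34341741) (.leaf 30808910))) (.node (.node (.leaf 25264457) (.leaf 23518956)) (.node (.leaf 19400873) (.leaf 14319941))))) (.node (.node (.node (.node (.leaf 7210630) (.leaf 27640898)) (.node (.leaf 18287780) (.leaf 21679985))) (.node (.node (.leaf 2789316) (.leaf 4526292)) (.node (.leaf 14324981) (.leaf 25579925)))) (.node (.node (.node (.leaf 28138996) (.leaf 13374536)) (.node (.leaf 22238486) (.leaf 22614340))) (.node (.node (.leaf 7423814) (.leaf 2200364)) (.node (.leaf 32687434) (.leaf 34658330)))))))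

/-- A point of the block, part 289. -/
def ptCodePart289 : Janko1.Tree ℕ := (.node (.node (.node (.node (.node (.node (.leaf 7815632) (.leaf 34970460)) (.node (.leaf 25745058) (.leaf 19176268))) (.node (.node (.leaf 17974989) (.leaf 15812376)) (.node (.leaf 7177373) (.leaf 23057146)))) (.node (.node (.node (.leaf 511284) (.leaf 31809410)) (.node (.leaf 25740426) (.leaf 27681082))) (.node (.node (.leaf 28774453) (.leaf 14763629)) (.node (.leaf 28083842) (.leaf 32882796))))) (.node (.node (.node (.node (.leaf 7310129) (.leaf 22073620)) (.node (.leaf 7724616) (.leaf 18301462))) (.node (.node (.leaf 16026777) (.leaf 34790597)) (.node (.leaf 777833) (.leaf 22826972)))) (.node (.node (.node (.leaf 28084656) (.leaf 7823146)) (.node (.leaf 32134752) (.leaf 33227448))) (.node (.node (.leaf 18665113) (.leaf 19367582)) (.node (.leaf 11437513) (.leaf 4529320)))))) (.node (.node (.node (.node (.node (.leaf 34652790) (.leaf 7722250)) (.node (.leaf 7428792) (.leaf 14764017))) (.node (.node (.leaf 23677914) (.leaf 13371358))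 (.node (.leaf 250814) (.leaf 8969178)))) (.node (.node (.node (.leaf 25418702) (.leaf 22814610)) (.node (.leaf 7177588) (.leaf 14524053))) (.node (.node (.leaf 14537042) (.leaf 7722242)) (.node (.leaf 20303636) (.leaf 17981314))))) (.node (.node (.node (.node (.leaf 20306529) (.leaf 512960)) (.node (.leaf 17940558) (.leaf 22634848))) (.node (.node (.leaf 2725385) (.leaf 21678200)) (.node (.leaf 19173046) (.leaf 1580112)))) (.node (.node (.node (.leaf 5996748) (.leaf 6509568)) (.node (.leaf 35102370) (.leaf 35102578))) (.node (.node (.leaf 16028308) (.leaf 2203826)) (.node (.leaf 20371124) (.leaf 1137933)))))))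

/-- A point of the block, part 290. -/
def ptCodePart290 : Janko1.Tree ℕ := (.node (.node (.node (.node (.node (.node (.leaf 15474676) (.leaf 26103532)) (.node (.leaf 11357173) (.leaf 32325704))) (.node (.node (.leaf 18667229) (.leaf 17974480)) (.node (.leaf 29574870) (.leaf 6804804)))) (.node (.node (.node (.leaf 12358218) (.leaf 17827606)) (.node (.leaf 27247538) (.leaf 26104381))) (.node (.node (.leaf 13370344) (.leaf 12357066)) (.node (.leaf 13163590) (.leaf 14815154))))) (.node (.node (.node (.node (.leaf 11355034) (.leaf 7390742)) (.node (.leaf 32219042) (.leaf 19615157))) (.node (.node (.leaf 35197093) (.leaf 34346941)) (.node (.leaf 16140540) (.leaf 10197896)))) (.node (.node (.node (.leaf 10994453) (.leaf 1575104)) (.node (.leaf 28133804) (.leaf 34968882))) (.node (.node (.leaf 19416116) (.leaf 20300590)) (.node (.leaf 6260629) (.leaf 2790221)))))) (.node (.node (.node (.node (.node (.leaf 14522917) (.leaf 33031612)) (.node (.leaf 18291270) (.leaf 23922618))) (.node (.node (.leaf 23677881) (.leaf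 28318877)) (.node (.leaf 14818390) (.leaf 22056994)))) (.node (.node (.node (.leaf 22054058) (.leaf 22233609)) (.node (.leaf 19171134) (.leaf 22831217))) (.node (.node (.leaf 22782241) (.leaf 33283162)) (.node (.leaf 16027920) (.leaf 25118242))))) (.node (.node (.node (.node (.leaf 5346460) (.leaf 2195925)) (.node (.leaf 22614274) (.leaf 26120276))) (.node (.node (.leaf 26116592) (.leaf 5349604)) (.node (.leaf 10699300) (.leaf 34542682)))) (.node (.node (.node (.leaf 25271913) (.leaf 11736480)) (.node (.leaf 28530797) (.leaf 23691878))) (.node (.node (.leaf 22192266) (.leaf 31300602)) (.node (.leaf 15123246) (.leaf 35199340)))))))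

/-- A point of the block, part 291. -/
def ptCodePart291 : Janko1.Tree ℕ := (.node (.node (.node (.node (.node (.node (.leaf 29823537) (.leaf 23598708)) (.node (.leaf 6504800) (.leaf 3154054))) (.node (.node (.leaf 7275200) (.leaf 34592296)) (.node (.leaf 14322168) (.leaf 15129472)))) (.node (.node (.node (.leaf 31805821) (.leaf 25416061)) (.node (.leaf 20238912) (.leaf 7309946))) (.node (.node (.leaf 28491781) (.leaf 23592993)) (.node (.leaf 29579686) (.leaf 7422917))))) (.node (.node (.node (.node (.leaf 22076825) (.leaf 31410434)) (.node (.leaf 22185546) (.leaf 19450084))) (.node (.node (.leaf 35037146) (.leaf 1185424)) (.node (.leaf 18291696) (.leaf 32137150)))) (.node (.node (.node (.leaf 4083252) (.leaf 1187190)) (.node (.leaf 17978618) (.leaf 20963520))) (.node (.node (.leaf 22630657) (.leaf 7819200)) (.node (.leaf 10996409) (.leaf 23678714)))))) (.node (.node (.node (.node (.node (.leaf 7422873) (.leaf 28774297)) (.node (.leaf 22830513) (.leaf 22236948))) (.node (.node (.leaf 22060186) (.leaf 14539656))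 (.node (.leaf 18663776) (.leaf 23518150)))) (.node (.node (.node (.leaf 10704674) (.leaf 24698786)) (.node (.leaf 23648712) (.leaf 24679368))) (.node (.node (.leaf 11442518) (.leaf 2591776)) (.node (.leaf 17978406) (.leaf 32690692))))) (.node (.node (.node (.node (.leaf 14520869) (.leaf 15468237)) (.node (.leaf 34348329) (.leaf 22776549))) (.node (.node (.leaf 1131170) (.leaf 32967194)) (.node (.leaf 6442044) (.leaf 6262972)))) (.node (.node (.node (.leaf 25809024) (.leaf 18291926)) (.node (.leaf 34341466) (.leaf 34914852))) (.node (.node (.leaf 9035578) (.leaf 1790906)) (.node (.leaf 25117765) (.leaf 31410361)))))))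

/-- A point of the block, part 292. -/
def ptCodePart292 : Janko1.Tree ℕ := (.node (.node (.node (.node (.node (.node (.leaf 16142153) (.leaf 14811334)) (.node (.leaf 20220081) (.leaf 34545969))) (.node (.node (.leaf 4936393) (.leaf 6804302)) (.node (.leaf 1132873) (.leaf 19449636)))) (.node (.node (.node (.leaf 6871368) (.leaf 18302752)) (.node (.leaf 10999976) (.leaf 31408652))) (.node (.node (.leaf 22633146) (.leaf 2425186)) (.node (.leaf 32327446) (.leaf 8900153))))) (.node (.node (.node (.node (.leaf 23646132) (.leaf 27674317)) (.node (.leaf 31723633) (.leaf 24680290))) (.node (.node (.leaf 35200428) (.leaf 12255297)) (.node (.leaf 22617584) (.leaf 35016622)))) (.node (.node (.node (.leaf 28313486) (.leaf 14584534)) (.node (.leaf 6871701) (.leaf 22239561))) (.node (.node (.leaf 30295829) (.leaf 32594312)) (.node (.leaf 9035666) (.leaf 25119322)))))) (.node (.node (.node (.node (.node (.leaf 32725029) (.leaf 13472366)) (.node (.leaf 23646421) (.leaf 19175014))) (.node (.node (.leaf 35034381) (.leaf 32148434))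 (.node (.leaf 22075930) (.leaf 25578764)))) (.node (.node (.node (.leaf 22825113) (.leaf 25580677)) (.node (.leaf 23649864) (.leaf 1578426))) (.node (.node (.leaf 26628384) (.leaf 14519922)) (.node (.leaf 23599149) (.leaf 14422037))))) (.node (.node (.node (.node (.leaf 1785901) (.leaf 6260204)) (.node (.leaf 30267990) (.leaf 14324541))) (.node (.node (.leaf 11653309) (.leaf 23516398)) (.node (.leaf 475157) (.leaf 9110770)))) (.node (.node (.node (.leaf 28774401) (.leaf 30266800)) (.node (.leaf 11094080) (.leaf 11651696))) (.node (.node (.leaf 516069) (.leaf 25579769)) (.node (.leaf 28136417) (.leaf 33035445)))))))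

/-- A point of the block, part 293. -/
def ptCodePart293 : Janko1.Tree ℕ := (.node (.node (.node (.node (.node (.node (.leaf 17945637) (.leaf 14012112)) (.node (.leaf 23517450) (.leaf 5508797))) (.node (.node (.leaf 2786425) (.leaf 8969253)) (.node (.leaf 20960836) (.leaf 28526929)))) (.node (.node (.node (.leaf 774918) (.leaf 20218192)) (.node (.leaf 22070796) (.leaf 32594196))) (.node (.node (.leaf 202276) (.leaf 5265588)) (.node (.leaf 23696216) (.leaf 26104534))))) (.node (.node (.node (.node (.leaf 6802446) (.leaf 21680738)) (.node (.leaf 1579814) (.leaf 1184874))) (.node (.node (.leaf 19373142) (.leaf 1792544)) (.node (.leaf 32151648) (.leaf 23698809)))) (.node (.node (.node (.leaf 23922360) (.leaf 4441689)) (.node (.leaf 34652904) (.leaf 27254029))) (.node (.node (.leaf 25122261) (.leaf 23053954)) (.node (.leaf 14425280) (.leaf 28624309)))))) (.node (.node (.node (.node (.node (.leaf 9028193) (.leaf 6001652)) (.node (.leaf 31720957) (.leaf 22565065))) (.node (.node (.leaf 34652641) (.leaf 30268341))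 (.node (.leaf 2787230) (.leaf 16027844)))) (.node (.node (.node (.leaf 25269702) (.leaf 29524785)) (.node (.leaf 22776134) (.leaf 14423554))) (.node (.node (.leaf 4082700) (.leaf 10702353)) (.node (.leaf 32722692) (.leaf 20960918))))) (.node (.node (.node (.node (.leaf 19451285) (.leaf 1132430)) (.node (.leaf 22831189) (.leaf 20955790))) (.node (.node (.leaf 6737258) (.leaf 32135009)) (.node (.leaf 23675301) (.leaf 2723104)))) (.node (.node (.node (.leaf 5262828) (.leaf 18291346)) (.node (.leaf 35018148) (.leaf 34346922))) (.node (.node (.leaf 4525025) (.leaf 29578448)) (.node (.leaf 24334429) (.leaf 6802066)))))))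

/-- A point of the block, part 294. -/
def ptCodePart294 : Janko1.Tree ℕ := (.node (.node (.node (.node (.node (.node (.leaf 5348848) (.leaf 19481212)) (.node (.leaf 11668564) (.leaf 20960393))) (.node (.node (.leaf 5348653) (.leaf 30295861)) (.node (.leaf 22617332) (.leaf 15472241)))) (.node (.node (.node (.leaf 30803710) (.leaf 22629234)) (.node (.leaf 7823154) (.leaf 28527324))) (.node (.node (.leaf 35034142) (.leaf 10191105)) (.node (.leaf 22562084) (.leaf 16144628))))) (.node (.node (.node (.node (.leaf 20370936) (.leaf 32217466)) (.node (.leaf 18665961) (.leaf 12354574))) (.node (.node (.leaf 5133229) (.leaf 35015833)) (.node (.leaf 20239953) (.leaf 20226150)))) (.node (.node (.node (.leaf 6801017) (.leaf 3152034)) (.node (.leaf 22187892) (.leaf 20369098))) (.node (.node (.leaf 11649108) (.leaf 1202205)) (.node (.leaf 1543493) (.leaf 4446260)))))) (.node (.node (.node (.node (.node (.leaf 28625366) (.leaf 7391212)) (.node (.leaf 23594072) (.leaf 18537128))) (.node (.node (.leaf 2595144) (.leaf 6000592))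 (.node (.leaf 32508977) (.leaf 34313754)))) (.node (.node (.node (.leaf 23059341) (.leaf 33234529)) (.node (.leaf 12272462) (.leaf 11354596))) (.node (.node (.leaf 34657385) (.leaf 6263029)) (.node (.leaf 1787260) (.leaf 35095765))))) (.node (.node (.node (.node (.leaf 32595834) (.leaf 19422692)) (.node (.leaf 14009006) (.leaf 23693860))) (.node (.node (.leaf 7275410) (.leaf 22567638)) (.node (.leaf 34786066) (.leaf 13161040)))) (.node (.node (.node (.leaf 12274958) (.leaf 19170684)) (.node (.leaf 17944917) (.leaf 14815996))) (.node (.node (.leaf 22241348) (.leaf 22054310)) (.node (.leaf 14095100) (.leaf 19420808)))))))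

/-- A point of the block, part 295. -/
def ptCodePart295 : Janko1.Tree ℕ := (.node (.node (.node (.node (.node (.node (.leaf 5132502) (.leaf 1199926)) (.node (.leaf 4529933) (.leaf 27842320))) (.node (.node (.leaf 29823114) (.leaf 32592940)) (.node (.leaf 24694921) (.leaf 2200589)))) (.node (.node (.node (.leaf 21680841) (.leaf 33233141)) (.node (.leaf 19455760) (.leaf 25811578))) (.node (.node (.leaf 27844112) (.leaf 5344870)) (.node (.leaf 1198077) (.leaf 7280876))))) (.node (.node (.node (.node (.leaf 14013266) (.leaf 29529794)) (.node (.leaf 6869174) (.leaf 10706530))) (.node (.node (.leaf 1791772) (.leaf 33030484)) (.node (.leaf 35033170) (.leaf 25412850)))) (.node (.node (.node (.leaf 27844813) (.leaf 18669253)) (.node (.leaf 12256038) (.leaf 28630138))) (.node (.node (.leaf 12278038) (.leaf 12279773)) (.node (.leaf 12261533) (.leaf 22631909)))))) (.node (.node (.node (.node (.node (.leaf 16142080) (.leaf 15633497)) (.node (.leaf 30810378) (.leaf 35094758))) (.node (.node (.leaf 35033180) (.leaf 35020444))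 (.node (.leaf 22054420) (.leaf 19612921)))) (.node (.node (.node (.leaf 11653238) (.leaf 3153426)) (.node (.leaf 14535296) (.leaf 27248346))) (.node (.node (.leaf 17976952) (.leaf 17044004)) (.node (.leaf 32688736) (.leaf 32134488))))) (.node (.node (.node (.node (.leaf 29532446) (.leaf 27674740)) (.node (.leaf 32146664) (.leaf 11505734))) (.node (.node (.leaf 203172) (.leaf 28624462)) (.node (.leaf 34544410) (.leaf 7310480)))) (.node (.node (.node (.leaf 14521581) (.leaf 2785414)) (.node (.leaf 4084993) (.leaf 7177166))) (.node (.node (.leaf 29529762) (.leaf 7183336)) (.node (.leaf 17039380) (.leaf 26100716)))))))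

/-- A point of the block, part 296. -/
def ptCodePart296 : Janko1.Tree ℕ := (.node (.node (.node (.node (.node (.node (.leaf 26101382) (.leaf 35197704)) (.node (.leaf 18301394) (.leaf 34920846))) (.node (.node (.leaf 13475436) (.leaf 15635609)) (.node (.leaf 12279030) (.leaf 6736230)))) (.node (.node (.node (.leaf 32726600) (.leaf 31296104)) (.node (.leaf 33279250) (.leaf 2427126))) (.node (.node (.leaf 34967666) (.leaf 34590813)) (.node (.leaf 32213008) (.leaf 34968346))))) (.node (.node (.node (.node (.leaf 35101481) (.leaf 31409113)) (.node (.leaf 5505846) (.leaf 15634549))) (.node (.node (.leaf 33033990) (.leaf 35030452)) (.node (.leaf 9032173) (.leaf 33233109)))) (.node (.node (.node (.leaf 8965357) (.leaf 32152214)) (.node (.leaf 34916702) (.leaf 5133645))) (.node (.node (.leaf 20306280) (.leaf 27643125)) (.node (.leaf 7722290) (.leaf 23925769)))))) (.node (.node (.node (.node (.node (.leaf 7314826) (.leaf 15816765)) (.node (.leaf 35035432) (.leaf 26628042))) (.node (.node (.leaf 10197189) (.leaf 27643333))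 (.node (.leaf 32151052) (.leaf 25269506)))) (.node (.node (.node (.leaf 27925750) (.leaf 21940652)) (.node (.leaf 4445058) (.leaf 10999477))) (.node (.node (.leaf 20305552) (.leaf 14586617)) (.node (.leaf 17587984) (.leaf 34540140))))) (.node (.node (.node (.node (.leaf 27214700) (.leaf 35102522)) (.node (.leaf 14325744) (.leaf 22237658))) (.node (.node (.leaf 11672377) (.leaf 31806136)) (.node (.leaf 18665269) (.leaf 21679766)))) (.node (.node (.node (.leaf 203198) (.leaf 10264800)) (.node (.leaf 27924473) (.leaf 7815966))) (.node (.node (.leaf 13374168) (.leaf 22188769)) (.node (.leaf 35098584) (.leaf 28624622)))))))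

/-- A point of the block, part 297. -/
def ptCodePart297 : Janko1.Tree ℕ := (.node (.node (.node (.node (.node (.node (.leaf 28315345) (.leaf 27677961)) (.node (.leaf 6439256) (.leaf 18309016))) (.node (.node (.leaf 7280380) (.leaf 25123320)) (.node (.leaf 7213662) (.leaf 34316477)))) (.node (.node (.node (.leaf 25335132) (.leaf 21679913)) (.node (.leaf 14013510) (.leaf 25806132))) (.node (.node (.leaf 12356824) (.leaf 2427305)) (.node (.leaf 3151610) (.leaf 11654146))))) (.node (.node (.node (.node (.leaf 7214677) (.leaf 10260725)) (.node (.leaf 13469322) (.leaf 5263581))) (.node (.node (.leaf 11095884) (.leaf 25122042)) (.node (.leaf 1130970) (.leaf 17831554)))) (.node (.node (.node (.leaf 25744944) (.leaf 20962957)) (.node (.leaf 22566652) (.leaf 26119253))) (.node (.node (.leaf 17046292) (.leaf 30262034)) (.node (.leaf 20369077) (.leaf 14819750)))))) (.node (.node (.node (.node (.node (.leaf 19452516) (.leaf 28497972)) (.node (.leaf 885720) (.leaf 8963938))) (.node (.node (.leaf 27643946) (.leaf 27219448))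 (.node (.leaf 25576409) (.leaf 33227066)))) (.node (.node (.node (.leaf 34594561) (.leaf 23513369)) (.node (.leaf 33280421) (.leaf 29821812))) (.node (.node (.leaf 34920269) (.leaf 28774377)) (.node (.leaf 11668058) (.leaf 24693860))))) (.node (.node (.node (.node (.leaf 11668402) (.leaf 11099217)) (.node (.leaf 26628517) (.leaf 27218596))) (.node (.node (.leaf 23644080) (.leaf 23596378)) (.node (.leaf 15127197) (.leaf 7394290)))) (.node (.node (.node (.leaf 19420166) (.leaf 30266936)) (.node (.leaf 24699205) (.leaf 25742038))) (.node (.node (.leaf 5510144) (.leaf 23693208)) (.node (.leaf 6509998) (.leaf 2722029)))))))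

/-- A point of the block, part 298. -/
def ptCodePart298 : Janko1.Tree ℕ := (.node (.node (.node (.node (.node (.node (.leaf 4936373) (.leaf 14582173)) (.node (.leaf 10257837) (.leaf 27642602))) (.node (.node (.leaf 2786072) (.leaf 204492)) (.node (.leaf 22614813) (.leaf 34313714)))) (.node (.node (.node (.leaf 30295950) (.leaf 34916714)) (.node (.leaf 8970638) (.leaf 16141705))) (.node (.node (.leaf 12866336) (.leaf 24674661)) (.node (.leaf 773989) (.leaf 32590709))))) (.node (.node (.node (.node (.leaf 13474973) (.leaf 19418704)) (.node (.leaf 18538222) (.leaf 23928533))) (.node (.node (.leaf 25270480) (.leaf 25419669)) (.node (.leaf 23059865) (.leaf 7182024)))) (.node (.node (.node (.leaf 2200360) (.leaf 1203572)) (.node (.leaf 6511841) (.leaf 14931756))) (.node (.node (.leaf 25582526) (.leaf 14426016)) (.node (.leaf 15471181) (.leaf 18286649)))))) (.node (.node (.node (.node (.node (.leaf 6442582) (.leaf 11002045)) (.node (.leaf 11657522) (.leaf 25514662))) (.node (.node (.leaf 22560922) (.leaf 2591469))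 (.node (.leaf 1131221) (.leaf 17041124)))) (.node (.node (.node (.leaf 10195370) (.leaf 34787456)) (.node (.leaf 4932201) (.leaf 14098477))) (.node (.node (.leaf 14425270) (.leaf 27249638)) (.node (.leaf 478562) (.leaf 17045894))))) (.node (.node (.node (.node (.leaf 23596281) (.leaf 32726017)) (.node (.leaf 19405654) (.leaf 11354509))) (.node (.node (.leaf 31411128) (.leaf 20957278)) (.node (.leaf 10193985) (.leaf 21941496)))) (.node (.node (.node (.leaf 35019906) (.leaf 7276249)) (.node (.leaf 5129304) (.leaf 22189786))) (.node (.node (.leaf 15122928) (.leaf 478156)) (.node (.leaf 34966653) (.leaf 22823296)))))))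

/-- A point of the block, part 299. -/
def ptCodePart299 : Janko1.Tree ℕ := (.node (.node (.node (.node (.node (.node (.leaf 1204248) (.leaf 26627881)) (.node (.leaf 14589080) (.leaf 16031600))) (.node (.node (.leaf 14587353) (.leaf 9032312)) (.node (.leaf 2720870) (.leaf 18304793)))) (.node (.node (.node (.leaf 25576742) (.leaf 10707152)) (.node (.leaf 25416122) (.leaf 19486797))) (.node (.node (.leaf 17047009) (.leaf 4936544)) (.node (.leaf 14930865) (.leaf 24682124))))) (.node (.node (.node (.node (.leaf 7396993) (.leaf 23648950)) (.node (.leaf 14930829) (.leaf 19448844))) (.node (.node (.leaf 33229449) (.leaf 22057020)) (.node (.leaf 17946497) (.leaf 29820856)))) (.node (.node (.node (.leaf 3150514) (.leaf 7427138)) (.node (.leaf 12357636) (.leaf 28629246))) (.node (.node (.leaf 17587598) (.leaf 19421882)) (.node (.leaf 19452538) (.leaf 32150161)))))) (.node (.node (.node (.node (.node (.leaf 32887104) (.leaf 482122)) (.node (.leaf 885910) (.leaf 7423613))) (.node (.node (.leaf 30262553) (.leaf 13470864))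 (.node (.leaf 27220253) (.leaf 15129072)))) (.node (.node (.node (.leaf 29578209) (.leaf 34786692)) (.node (.leaf 32510760) (.leaf 2720026))) (.node (.node (.leaf 29576025) (.leaf 12271976)) (.node (.leaf 4440352) (.leaf 25331162))))) (.node (.node (.node (.node (.leaf 11098469) (.leaf 20307882)) (.node (.leaf 24681918) (.leaf 22056416))) (.node (.node (.leaf 14325866) (.leaf 30298308)) (.node (.leaf 18305145) (.leaf 19174177)))) (.node (.node (.node (.leaf 32331557) (.leaf 32884690)) (.node (.leaf 17941288) (.leaf 17942482))) (.node (.node (.leaf 22612916) (.leaf 20222824)) (.node (.leaf 1580508) (.leaf 29573714)))))))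

/-- A point of the block, part 300. -/
def ptCodePart300 : Janko1.Tree ℕ := (.node (.node (.node (.node (.node (.node (.leaf 5264004) (.leaf 25812868)) (.node (.leaf 32327845) (.leaf 5509721))) (.node (.node (.leaf 32327897) (.leaf 34346898)) (.node (.leaf 32691676) (.leaf 2590142)))) (.node (.node (.node (.leaf 7425406) (.leaf 17046218)) (.node (.leaf 25811977) (.leaf 1788780))) (.node (.node (.leaf 24332017) (.leaf 14817240)) (.node (.leaf 18304777) (.leaf 22610513))))) (.node (.node (.node (.node (.leaf 508289) (.leaf 17583350)) (.node (.leaf 17834284) (.leaf 32655986))) (.node (.node (.leaf 34654450) (.leaf 17946214)) (.node (.leaf 22811577) (.leaf 25412288)))) (.node (.node (.node (.leaf 22235436) (.leaf 27925169)) (.node (.leaf 6004144) (.leaf 7429302))) (.node (.node (.leaf 25740380) (.leaf 22616529)) (.node (.leaf 24330937) (.leaf 4526677)))))) (.node (.node (.node (.node (.node (.leaf 22780068) (.leaf 22075916)) (.node (.leaf 14587449) (.leaf 17834148))) (.node (.node (.leaf 32687746) (.leaf 9029525))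 (.node (.leaf 21679552) (.leaf 28313180)))) (.node (.node (.node (.leaf 15811217) (.leaf 31409622)) (.node (.leaf 12259768) (.leaf 2199308))) (.node (.node (.leaf 18303898) (.leaf 4936452)) (.node (.leaf 32510680) (.leaf 18290442))))) (.node (.node (.node (.node (.leaf 479594) (.leaf 893185)) (.node (.leaf 27643844) (.leaf 25335094))) (.node (.node (.leaf 33034870) (.leaf 17832306)) (.node (.leaf 5509546) (.leaf 22234809)))) (.node (.node (.node (.leaf 1546688) (.leaf 20234890)) (.node (.leaf 28532270) (.leaf 19367445))) (.node (.node (.leaf 1187752) (.leaf 7821752)) (.node (.leaf 13163150) (.leaf 27925252)))))))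

/-- A point of the block, part 301. -/
def ptCodePart301 : Janko1.Tree ℕ := (.node (.node (.node (.node (.node (.node (.leaf 1135505) (.leaf 27840138)) (.node (.leaf 18531001) (.leaf 13473120))) (.node (.node (.leaf 21938646) (.leaf 10994100)) (.node (.leaf 7390508) (.leaf 22073454)))) (.node (.node (.node (.leaf 32507333) (.leaf 246338)) (.node (.leaf 24695550) (.leaf 8905096))) (.node (.node (.leaf 5131952) (.leaf 11665980)) (.node (.leaf 14095994) (.leaf 18534512))))) (.node (.node (.node (.node (.leaf 23678384) (.leaf 23055257)) (.node (.leaf 25510374) (.leaf 15471936))) (.node (.node (.leaf 6872713) (.leaf 14925962)) (.node (.leaf 23926689) (.leaf 27839852)))) (.node (.node (.node (.leaf 19613133) (.leaf 5133466)) (.node (.leaf 31807029) (.leaf 6512854))) (.node (.node (.leaf 24332589) (.leaf 20222706)) (.node (.leaf 12862084) (.leaf 22631677)))))) (.node (.node (.node (.node (.node (.leaf 33280597) (.leaf 13160725)) (.node (.leaf 31807453) (.leaf 7310978))) (.node (.node (.leaf 20242364) (.leaf 21939905))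 (.node (.leaf 23679430) (.leaf 6005073)))) (.node (.node (.node (.leaf 31809274) (.leaf 23059774)) (.node (.leaf 6439844) (.leaf 18533764))) (.node (.node (.leaf 26627514) (.leaf 34656944)) (.node (.leaf 17979277) (.leaf 11440098))))) (.node (.node (.node (.node (.leaf 7312216) (.leaf 7308741)) (.node (.leaf 27923298) (.leaf 25510126))) (.node (.node (.leaf 24334892) (.leaf 4081166)) (.node (.leaf 12259340) (.leaf 6736985)))) (.node (.node (.node (.leaf 23920833) (.leaf 28496990)) (.node (.leaf 18538238) (.leaf 2426670))) (.node (.node (.leaf 25337493) (.leaf 23699301)) (.node (.leaf 6866437) (.leaf 25747457)))))))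

/-- A point of the block, part 302. -/
def ptCodePart302 : Janko1.Tree ℕ := (.node (.node (.node (.node (.node (.node (.leaf 32152802) (.leaf 26124582)) (.node (.leaf 29529397) (.leaf 19486740))) (.node (.node (.leaf 2196045) (.leaf 15637098)) (.node (.leaf 777234) (.leaf 22631661)))) (.node (.node (.node (.leaf 23514636) (.leaf 19615202)) (.node (.leaf 4933141) (.leaf 19422202))) (.node (.node (.leaf 8966404) (.leaf 32148970)) (.node (.leaf 16029594) (.leaf 10261689))))) (.node (.node (.node (.node (.leaf 3147592) (.leaf 6260094)) (.node (.leaf 4085333) (.leaf 31725201))) (.node (.node (.leaf 13157141) (.leaf 2204026)) (.node (.leaf 1201588) (.leaf 4444033)))) (.node (.node (.node (.leaf 19452658) (.leaf 1543690)) (.node (.leaf 32327061) (.leaf 34784105))) (.node (.node (.leaf 27920426) (.leaf 19415186)) (.node (.leaf 6004400) (.leaf 32511561)))))) (.node (.node (.node (.node (.node (.leaf 10996797) (.leaf 33279456)) (.node (.leaf 27214881) (.leaf 34970188))) (.node (.node (.leaf 9032713) (.leaf 1794202))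 (.node (.leaf 32693712) (.leaf 6737561)))) (.node (.node (.node (.leaf 28526872) (.leaf 14928137)) (.node (.leaf 30805200) (.leaf 6261013))) (.node (.node (.leaf 14811834) (.leaf 5513092)) (.node (.leaf 26630137) (.leaf 15813974))))) (.node (.node (.node (.node (.leaf 34783793) (.leaf 34537558)) (.node (.leaf 14533660) (.leaf 5513086))) (.node (.node (.leaf 34310637) (.leaf 17044773)) (.node (.leaf 6511486) (.leaf 32968996)))) (.node (.node (.node (.leaf 6807204) (.leaf 25812530)) (.node (.leaf 15811289) (.leaf 4939082))) (.node (.node (.leaf 5129804) (.leaf 34921040)) (.node (.leaf 11354956) (.leaf 479681)))))))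

/-- A point of the block, part 303. -/
def ptCodePart303 : Janko1.Tree ℕ := (.node (.node (.node (.node (.node (.node (.leaf 19400110) (.leaf 25747796)) (.node (.leaf 772493) (.leaf 15466741))) (.node (.node (.leaf 5998258) (.leaf 22809744)) (.node (.leaf 14517173) (.leaf 32723894)))) (.node (.node (.node (.leaf 14420713) (.leaf 6737530)) (.node (.leaf 33232597) (.leaf 14766325))) (.node (.node (.leaf 28526904) (.leaf 20955425)) (.node (.leaf 30808581) (.leaf 481932))))) (.node (.node (.node (.node (.leaf 27643580) (.leaf 8903484)) (.node (.leaf 20240837) (.leaf 23599773))) (.node (.node (.leaf 23691624) (.leaf 32136485)) (.node (.leaf 10701769) (.leaf 14519581)))) (.node (.node (.node (.leaf 19620118) (.leaf 14534681)) (.node (.leaf 19488213) (.leaf 32965530))) (.node (.node (.leaf 6864950) (.leaf 28770476)) (.node (.leaf 27217041) (.leaf 1198988)))))) (.node (.node (.node (.node (.node (.leaf 5263258) (.leaf 30301736)) (.node (.leaf 11505829) (.leaf 32506470))) (.node (.node (.leaf 775746) (.leaf 19481192))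 (.node (.leaf 13162920) (.leaf 6002654)))) (.node (.node (.node (.leaf 32971582) (.leaf 28135626)) (.node (.leaf 27919280) (.leaf 14926737))) (.node (.node (.leaf 2591321) (.leaf 28132896)) (.node (.leaf 20223276) (.leaf 25806558))))) (.node (.node (.node (.node (.leaf 11358388) (.leaf 777556)) (.node (.leaf 29822652) (.leaf 2788932))) (.node (.node (.leaf 29820949) (.leaf 30264522)) (.node (.leaf 35199706) (.leaf 28497892)))) (.node (.node (.node (.leaf 10259660) (.leaf 1579177)) (.node (.leaf 19402926) (.leaf 6735170))) (.node (.node (.leaf 29527030) (.leaf 24691310)) (.node (.leaf 25582425) (.leaf 11736008)))))))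

/-- A point of the block, part 304. -/
def ptCodePart304 : Janko1.Tree ℕ := (.node (.node (.node (.node (.node (.node (.leaf 35021168) (.leaf 12868166)) (.node (.leaf 7313713) (.leaf 9116208))) (.node (.node (.leaf 29527010) (.leaf 2430968)) (.node (.leaf 32725440) (.leaf 25265042)))) (.node (.node (.node (.leaf 31293712) (.leaf 19485624)) (.node (.leaf 10257236) (.leaf 14326702))) (.node (.node (.leaf 8902457) (.leaf 22826213)) (.node (.leaf 3151426) (.leaf 477346))))) (.node (.node (.node (.node (.leaf 25125252) (.leaf 22812974)) (.node (.leaf 22809942) (.leaf 35015734))) (.node (.node (.leaf 7821474) (.leaf 28495006)) (.node (.leaf 11509349) (.leaf 32968706)))) (.node (.node (.node (.leaf 21943490) (.leaf 23922008)) (.node (.leaf 25416213) (.leaf 509066))) (.node (.node (.leaf 23518072) (.leaf 9116394)) (.node (.leaf 20237408) (.leaf 15813846)))))) (.node (.node (.node (.node (.node (.leaf 7718386) (.leaf 27645929)) (.node (.leaf 6741401) (.leaf 11732026))) (.node (.node (.leaf 34541209) (.leaf 22779932))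 (.node (.leaf 32212326) (.leaf 30301432)))) (.node (.node (.node (.leaf 27254789) (.leaf 5265182)) (.node (.leaf 32661118) (.leaf 19487740))) (.node (.node (.leaf 25511122) (.leaf 22186321)) (.node (.leaf 7275320) (.leaf 26116705))))) (.node (.node (.node (.node (.leaf 26624908) (.leaf 22564848)) (.node (.leaf 10197718) (.leaf 32132080))) (.node (.node (.leaf 14098036) (.leaf 32970310)) (.node (.leaf 26118360) (.leaf 24695234)))) (.node (.node (.node (.leaf 22778841) (.leaf 23928046)) (.node (.leaf 511992) (.leaf 4523845))) (.node (.node (.leaf 32661285) (.leaf 27844361)) (.node (.leaf 6446169) (.leaf 35037285)))))))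

/-- A point of the block, part 305. -/
def ptCodePart305 : Janko1.Tree ℕ := (.node (.node (.node (.node (.node (.node (.leaf 28776204) (.leaf 25413344)) (.node (.leaf 28773160) (.leaf 4939534))) (.node (.node (.leaf 5261833) (.leaf 32656074)) (.node (.leaf 11656858) (.leaf 33278152)))) (.node (.node (.node (.leaf 12863306) (.leaf 250462)) (.node (.leaf 514452) (.leaf 25332354))) (.node (.node (.leaf 32653706) (.leaf 35194008)) (.node (.leaf 24678078) (.leaf 14323106))))) (.node (.node (.node (.node (.leaf 23643058) (.leaf 10194438)) (.node (.leaf 28495750) (.leaf 34314942))) (.node (.node (.leaf 12259364) (.leaf 35014272)) (.node (.leaf 17826278) (.leaf 31411464)))) (.node (.node (.node (.leaf 11358044) (.leaf 16029246)) (.node (.leaf 11441242) (.leaf 30294272))) (.node (.node (.leaf 7719158) (.leaf 25516773)) (.node (.leaf 1138829) (.leaf 12258769)))))) (.node (.node (.node (.node (.node (.leaf 14522508) (.leaf 28771446)) (.node (.leaf 12869041) (.leaf 7213152))) (.node (.node (.leaf 13158220) (.leaf 30267132))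 (.node (.leaf 2429157) (.leaf 14096244)))) (.node (.node (.node (.leaf 11436110) (.leaf 9109725)) (.node (.leaf 20242472) (.leaf 17829537))) (.node (.node (.leaf 19172385) (.leaf 6742153)) (.node (.leaf 25334186) (.leaf 32890210))))) (.node (.node (.node (.node (.leaf 25517093) (.leaf 19484212)) (.node (.leaf 22564212) (.leaf 14926648))) (.node (.node (.leaf 32654566) (.leaf 15817185)) (.node (.leaf 32590501) (.leaf 19616253)))) (.node (.node (.node (.leaf 7215008) (.leaf 28133177)) (.node (.leaf 15638441) (.leaf 8897800))) (.node (.node (.leaf 4445320) (.leaf 1200705)) (.node (.leaf 6445322) (.leaf 24679026)))))))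

/-- A point of the block, part 306. -/
def ptCodePart306 : Janko1.Tree ℕ := (.node (.node (.node (.node (.node (.node (.leaf 18665904) (.leaf 26118470)) (.node (.leaf 13373997) (.leaf 2790541))) (.node (.node (.leaf 28139293) (.leaf 32726164)) (.node (.leaf 17581060) (.leaf 14590101)))) (.node (.node (.node (.leaf 5511597) (.leaf 32132145)) (.node (.leaf 9112284) (.leaf 23646689))) (.node (.node (.leaf 12354332) (.leaf 17588668)) (.node (.leaf 32214762) (.leaf 249146))))) (.node (.node (.node (.node (.leaf 4431990) (.leaf 4432146)) (.node (.leaf 11600096) (.leaf 4425334))) (.node (.node (.leaf 34280957) (.leaf 25682104)) (.node (.leaf 34707474) (.leaf 1856777)))) (.node (.node (.node (.leaf 30957817) (.leaf 17962870)) (.node (.leaf 13605286) (.leaf 32787605))) (.node (.node (.leaf 27875424) (.leaf 10669182)) (.node (.leaf 5151326) (.leaf 10601465)))))) (.node (.node (.node (.node (.node (.leaf 13602924) (.leaf 14273121)) (.node (.leaf 35243981) (.leaf 27788432))) (.node (.node (.leaf 11329330) (.leaf 20106454))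 (.node (.leaf 21714008) (.leaf 20110097)))) (.node (.node (.node (.leaf 215793) (.leaf 18307837)) (.node (.leaf 21716721) (.leaf 17290001))) (.node (.node (.leaf 13672002) (.leaf 23305724)) (.node (.leaf 4508958) (.leaf 27791221))))) (.node (.node (.node (.node (.leaf 2379544) (.leaf 14386472)) (.node (.leaf 27787590) (.leaf 25743709))) (.node (.node (.leaf 1874858) (.leaf 16842909)) (.node (.leaf 4721941) (.leaf 25500489)))) (.node (.node (.node (.leaf 18402828) (.leaf 10245040)) (.node (.leaf 12583141) (.leaf 5429169))) (.node (.node (.leaf 16550201) (.leaf 1310882)) (.node (.leaf 2589628) (.leaf 14273018)))))))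

/-- A point of the block, part 307. -/
def ptCodePart307 : Janko1.Tree ℕ := (.node (.node (.node (.node (.node (.node (.leaf 30956337) (.leaf 27788546)) (.node (.leaf 10146965) (.leaf 9098065))) (.node (.node (.leaf 9339801) (.leaf 22726798)) (.node (.leaf 10044857) (.leaf 23299765)))) (.node (.node (.node (.leaf 29214834) (.leaf 20219129)) (.node (.leaf 27792062) (.leaf 26397468))) (.node (.node (.leaf 7866665) (.leaf 26402420)) (.node (.leaf 34556902) (.leaf 4432098))))) (.node (.node (.node (.node (.leaf 8570373) (.leaf 4430380)) (.node (.leaf 34113801) (.leaf 218710))) (.node (.node (.leaf 25057486) (.leaf 10931377)) (.node (.leaf 13802086) (.leaf 29855465)))) (.node (.node (.node (.leaf 25501585) (.leaf 18305122)) (.node (.leaf 11699552) (.leaf 4737300))) (.node (.node (.leaf 10046136) (.leaf 1772925)) (.node (.leaf 1318772) (.leaf 35111036)))))) (.node (.node (.node (.node (.node (.leaf 12966474) (.leaf 15343037)) (.node (.leaf 24236976) (.leaf 10411796))) (.node (.node (.leaf 11329665) (.leaf 16105837))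 (.node (.leaf 10605656) (.leaf 34707466)))) (.node (.node (.node (.leaf 16980825) (.leaf 27467773)) (.node (.leaf 16982013) (.leaf 18305076))) (.node (.node (.leaf 3363880) (.leaf 27787968)) (.node (.leaf 15123329) (.leaf 5972281))))) (.node (.node (.node (.node (.leaf 32509518) (.leaf 34279732)) (.node (.leaf 17142393) (.leaf 26052070))) (.node (.node (.leaf 16848769) (.leaf 30380208)) (.node (.leaf 13521545) (.leaf 25681753)))) (.node (.node (.node (.leaf 10248144) (.leaf 15714829)) (.node (.leaf 29492136) (.leaf 13534360))) (.node (.node (.leaf 6440334) (.leaf 32836522)) (.node (.leaf 27171556) (.leaf 35245358)))))))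

/-- A point of the block, part 308. -/
def ptCodePart308 : Janko1.Tree ℕ := (.node (.node (.node (.node (.node (.node (.leaf 12585866) (.leaf 26231016)) (.node (.leaf 34849648) (.leaf 20203792))) (.node (.node (.leaf 20203393) (.leaf 29212761)) (.node (.leaf 9093766) (.leaf 20532096)))) (.node (.node (.node (.leaf 1858353) (.leaf 24953225)) (.node (.leaf 24860064) (.leaf 12912098))) (.node (.node (.leaf 10934408) (.leaf 4530536)) (.node (.leaf 6362869) (.leaf 10928233))))) (.node (.node (.node (.node (.leaf 5656540) (.leaf 12914450)) (.node (.leaf 4725320) (.leaf 29056324))) (.node (.node (.leaf 8587529) (.leaf 30267480)) (.node (.leaf 19373170) (.leaf 6315162)))) (.node (.node (.node (.leaf 19370082) (.leaf 22727805)) (.node (.leaf 19186304) (.leaf 6357082))) (.node (.node (.leaf 3625272) (.leaf 35243846)) (.node (.leaf 26400204) (.leaf 15355906)))))) (.node (.node (.node (.node (.node (.leaf 1789544) (.leaf 10605726)) (.node (.leaf 16553789) (.leaf 19368401))) (.node (.node (.leaf 15122842) (.leaf 5964926))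 (.node (.leaf 35344798) (.leaf 15336126)))) (.node (.node (.node (.leaf 18305605) (.leaf 5376237)) (.node (.leaf 186384) (.leaf 5036404))) (.node (.node (.leaf 4428517) (.leaf 35343876)) (.node (.leaf 3970990) (.leaf 34703012))))) (.node (.node (.node (.node (.leaf 21487208) (.leaf 5655389)) (.node (.leaf 30164545) (.leaf 21602709))) (.node (.node (.leaf 3886685) (.leaf 25808538)) (.node (.leaf 29499332) (.leaf 220350)))) (.node (.node (.node (.leaf 22729824) (.leaf 14043245)) (.node (.leaf 15519002) (.leaf 1310886))) (.node (.node (.leaf 30164046) (.leaf 34557702)) (.node (.leaf 34116308) (.leaf 1770029)))))))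

/-- A point of the block, part 309. -/
def ptCodePart309 : Janko1.Tree ℕ := (.node (.node (.node (.node (.node (.node (.leaf 35116300) (.leaf 5506370)) (.node (.leaf 6086385) (.leaf 34849250))) (.node (.node (.leaf 21258229) (.leaf 15360080)) (.node (.leaf 5037078) (.leaf 30954240)))) (.node (.node (.node (.leaf 21479701) (.leaf 10046232)) (.node (.leaf 25053726) (.leaf 15391830))) (.node (.node (.leaf 11651476) (.leaf 15078530)) (.node (.leaf 29594917) (.leaf 16778637))))) (.node (.node (.node (.node (.leaf 22564046) (.leaf 34557566)) (.node (.leaf 14392408) (.leaf 13606434))) (.node (.node (.leaf 24236934) (.leaf 10668558)) (.node (.leaf 266274) (.leaf 17964454)))) (.node (.node (.node (.leaf 8654594) (.leaf 20945904)) (.node (.leaf 23857397) (.leaf 23158306))) (.node (.node (.leaf 32512518) (.leaf 5030801)) (.node (.leaf 32295841) (.leaf 32295641)))))) (.node (.node (.node (.node (.node (.leaf 12719561) (.leaf 21272278)) (.node (.leaf 28282936) (.leaf 10045824))) (.node (.node (.leaf 9098972) (.leaf 25679201))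 (.node (.leaf 15351809) (.leaf 29055446)))) (.node (.node (.node (.leaf 32837732) (.leaf 8392628)) (.node (.leaf 8395221) (.leaf 15080222))) (.node (.node (.leaf 35112917) (.leaf 21253478)) (.node (.leaf 27476606) (.leaf 6440317))))) (.node (.node (.node (.node (.leaf 186560) (.leaf 32637297)) (.node (.leaf 13524254) (.leaf 14752482))) (.node (.node (.leaf 3969896) (.leaf 4735193)) (.node (.leaf 24038457) (.leaf 16778482)))) (.node (.node (.node (.leaf 26050904) (.leaf 32506737)) (.node (.leaf 29859574) (.leaf 17956958))) (.node (.node (.leaf 11607900) (.leaf 15124753)) (.node (.leaf 32637506) (.leaf 19566114)))))))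

/-- A point of the block, part 310. -/
def ptCodePart310 : Janko1.Tree ℕ := (.node (.node (.node (.node (.node (.node (.leaf 30163117) (.leaf 30949445)) (.node (.leaf 12714544) (.leaf 11603790))) (.node (.node (.leaf 14746081) (.leaf 4724445)) (.node (.leaf 2588680) (.leaf 27165208)))) (.node (.node (.node (.leaf 10407064) (.leaf 2377336)) (.node (.leaf 4737520) (.leaf 3869233))) (.node (.node (.leaf 9347465) (.leaf 15523481)) (.node (.leaf 33247577) (.leaf 20225334))))) (.node (.node (.node (.node (.leaf 1869644) (.leaf 33952160)) (.node (.leaf 935872) (.leaf 15901092))) (.node (.node (.leaf 4720093) (.leaf 15391589)) (.node (.leaf 12749326) (.leaf 941917)))) (.node (.node (.node (.leaf 16553878) (.leaf 29040022)) (.node (.leaf 26396062) (.leaf 15518617))) (.node (.node (.leaf 4505746) (.leaf 2004918)) (.node (.leaf 15352990) (.leaf 34850097)))))) (.node (.node (.node (.node (.node (.leaf 13535322) (.leaf 19191550)) (.node (.leaf 15718130) (.leaf 11650644))) (.node (.node (.leaf 10813461) (.leaf 34119857))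 (.node (.leaf 29855936) (.leaf 10607154)))) (.node (.node (.node (.leaf 23151824) (.leaf 8590081)) (.node (.leaf 16851048) (.leaf 7870249))) (.node (.node (.leaf 4742938) (.leaf 938433)) (.node (.leaf 14799910) (.leaf 29597860))))) (.node (.node (.node (.node (.leaf 21600156) (.leaf 32642305)) (.node (.leaf 32524422) (.leaf 29216732))) (.node (.node (.leaf 27165578) (.leaf 11244805)) (.node (.leaf 32787058) (.leaf 17139144)))) (.node (.node (.node (.leaf 186273) (.leaf 6672762)) (.node (.leaf 8096592) (.leaf 33950234))) (.node (.node (.leaf 6668686) (.leaf 10143697)) (.node (.leaf 13534214) (.leaf 10935097)))))))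

/-- A point of the block, part 311. -/
def ptCodePart311 : Janko1.Tree ℕ := (.node (.node (.node (.node (.node (.node (.leaf 23861645) (.leaf 30253042)) (.node (.leaf 5510785) (.leaf 12914206))) (.node (.node (.leaf 32644828) (.leaf 23150976)) (.node (.leaf 34561706) (.leaf 30245750)))) (.node (.node (.node (.leaf 26056742) (.leaf 25681226)) (.node (.leaf 3890296) (.leaf 30246016))) (.node (.node (.leaf 29038473) (.leaf 30380262)) (.node (.leaf 12967622) (.leaf 33068242))))) (.node (.node (.node (.node (.leaf 2379462) (.leaf 10409157)) (.node (.leaf 19173444) (.leaf 4718978))) (.node (.node (.leaf 18075208) (.leaf 32787004)) (.node (.leaf 12913226) (.leaf 10608808)))) (.node (.node (.node (.leaf 10671033) (.leaf 11323250)) (.node (.leaf 34704450) (.leaf 4528874))) (.node (.node (.leaf 32229181) (.leaf 9099802)) (.node (.leaf 30694977) (.leaf 20203456)))))) (.node (.node (.node (.node (.node (.leaf 16112108) (.leaf 15450338)) (.node (.leaf 16294209) (.leaf 27858197))) (.node (.node (.leaf 25501637) (.leaf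 19370236)) (.node (.leaf 6675805) (.leaf 21422490)))) (.node (.node (.node (.leaf 21256654) (.leaf 24857506)) (.node (.leaf 32227685) (.leaf 4723040))) (.node (.node (.leaf 13600682) (.leaf 26239252)) (.node (.leaf 938676) (.leaf 34119281))))) (.node (.node (.node (.node (.leaf 9345774) (.leaf 29494686)) (.node (.leaf 2594780) (.leaf 20533213))) (.node (.node (.leaf 34276225) (.leaf 20206570)) (.node (.leaf 216254) (.leaf 30950309)))) (.node (.node (.node (.leaf 15455020) (.leaf 13803773)) (.node (.leaf 26647425) (.leaf 5144710))) (.node (.node (.leaf 19564180) (.leaf 1859612)) (.node (.leaf 29857102) (.leaf 8659337)))))))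

/-- A point of the block, part 312. -/
def ptCodePart312 : Janko1.Tree ℕ := (.node (.node (.node (.node (.node (.node (.leaf 11242425) (.leaf 14275189)) (.node (.leaf 8588750) (.leaf 2000312))) (.node (.node (.leaf 14747529) (.leaf 25745720)) (.node (.leaf 10406241) (.leaf 14798312)))) (.node (.node (.node (.leaf 25810954) (.leaf 3342721)) (.node (.leaf 23413826) (.leaf 27483200))) (.node (.node (.leaf 15126862) (.leaf 6080402)) (.node (.leaf 11603010) (.leaf 24035673))))) (.node (.node (.node (.node (.leaf 22396937) (.leaf 4426274)) (.node (.leaf 34280896) (.leaf 219942))) (.node (.node (.leaf 15336134) (.leaf 28283620)) (.node (.leaf 35249666) (.leaf 11650569)))) (.node (.node (.node (.leaf 1776334) (.leaf 29049933)) (.node (.leaf 4513381) (.leaf 3887662))) (.node (.node (.leaf 29426829) (.leaf 5031297)) (.node (.leaf 30246353) (.leaf 34145141)))))) (.node (.node (.node (.node (.node (.leaf 27463929) (.leaf 5430778)) (.node (.leaf 32512425) (.leaf 21417248))) (.node (.node (.leaf 24956700) (.leaf 12752973))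 (.node (.leaf 25265468) (.leaf 19371034)))) (.node (.node (.node (.leaf 5146362) (.leaf 17140881)) (.node (.leaf 9340725) (.leaf 13669365))) (.node (.node (.leaf 28285218) (.leaf 34113942)) (.node (.leaf 27462680) (.leaf 16783770))))) (.node (.node (.node (.node (.leaf 34849050) (.leaf 30163777)) (.node (.leaf 6442036) (.leaf 34855881))) (.node (.node (.leaf 22058349) (.leaf 15518886)) (.node (.leaf 15078944) (.leaf 25677641)))) (.node (.node (.node (.leaf 13534168) (.leaf 35111332)) (.node (.leaf 11653912) (.leaf 14386837))) (.node (.node (.leaf 24958468) (.leaf 18407788)) (.node (.leaf 12964177) (.leaf 34148300)))))))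

/-- A point of the block, part 313. -/
def ptCodePart313 : Janko1.Tree ℕ := (.node (.node (.node (.node (.node (.node (.leaf 20537766) (.leaf 7920690)) (.node (.leaf 14046580) (.leaf 16847173))) (.node (.node (.leaf 20535234) (.leaf 6673372)) (.node (.leaf 23154826) (.leaf 11703286)))) (.node (.node (.node (.leaf 16290602) (.leaf 34283788)) (.node (.leaf 32643453) (.leaf 1786141))) (.node (.node (.leaf 8394272) (.leaf 22057820)) (.node (.leaf 13602921) (.leaf 182462))))) (.node (.node (.node (.node (.leaf 12588302) (.leaf 35145157)) (.node (.leaf 15357820) (.leaf 7914985))) (.node (.node (.leaf 21273829) (.leaf 8588765)) (.node (.leaf 7560664) (.leaf 32837492)))) (.node (.node (.node (.leaf 23156252) (.leaf 19188337)) (.node (.leaf 7866506) (.leaf 12919206))) (.node (.node (.leaf 13537578) (.leaf 15714452)) (.node (.leaf 10410672) (.leaf 22400573)))))) (.node (.node (.node (.node (.node (.leaf 11241993) (.leaf 22055978)) (.node (.leaf 12967821) (.leaf 7918620))) (.node (.node (.leaf 1770344) (.leaf 4509296))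 (.node (.leaf 30249937) (.leaf 6439409)))) (.node (.node (.node (.leaf 27477717) (.leaf 21420180)) (.node (.leaf 15386436) (.leaf 11328854))) (.node (.node (.leaf 30950249) (.leaf 3871357)) (.node (.leaf 4513984) (.leaf 219172))))) (.node (.node (.node (.node (.leaf 1869090) (.leaf 17142222)) (.node (.leaf 23858640) (.leaf 10322333))) (.node (.node (.leaf 13599976) (.leaf 27477745)) (.node (.leaf 21257302) (.leaf 26395597)))) (.node (.node (.node (.leaf 16846166) (.leaf 11657461)) (.node (.leaf 12583890) (.leaf 8588326))) (.node (.node (.leaf 15900257) (.leaf 18401544)) (.node (.leaf 15074074) (.leaf 7560940)))))))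

/-- A point of the block, part 314. -/
def ptCodePart314 : Janko1.Tree ℕ := (.node (.node (.node (.node (.node (.node (.leaf 24859853) (.leaf 10145485)) (.node (.leaf 11605652) (.leaf 12914332))) (.node (.node (.leaf 19386406) (.leaf 34458074)) (.node (.leaf 21266824) (.leaf 1868676)))) (.node (.node (.node (.leaf 10606946) (.leaf 7920356)) (.node (.leaf 5969694) (.leaf 15126613))) (.node (.node (.leaf 5660325) (.leaf 25497524)) (.node (.leaf 3350026) (.leaf 21421308))))) (.node (.node (.node (.node (.leaf 16107158) (.leaf 15080840)) (.node (.leaf 16110230) (.leaf 7558458))) (.node (.node (.leaf 21550788) (.leaf 25808810)) (.node (.leaf 5508826) (.leaf 32235956)))) (.node (.node (.node (.leaf 32792925) (.leaf 10143356)) (.node (.leaf 15080202) (.leaf 6314241))) (.node (.node (.leaf 728977) (.leaf 3366514)) (.node (.leaf 22562852) (.leaf 29431928)))))) (.node (.node (.node (.node (.node (.leaf 5652688) (.leaf 29594614)) (.node (.leaf 33955110) (.leaf 9099104))) (.node (.node (.leaf 5425426) (.leaf 12918072))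 (.node (.leaf 1857989) (.leaf 20533340)))) (.node (.node (.node (.leaf 4720734) (.leaf 25744917)) (.node (.leaf 26647082) (.leaf 10149497))) (.node (.node (.leaf 16980306) (.leaf 26233269)) (.node (.leaf 14046448) (.leaf 7872572))))) (.node (.node (.node (.node (.leaf 8101277) (.leaf 10815382)) (.node (.leaf 10147037) (.leaf 18405060))) (.node (.node (.leaf 6362229) (.leaf 5971640)) (.node (.leaf 936686) (.leaf 9346724)))) (.node (.node (.node (.leaf 6083293) (.leaf 17144317)) (.node (.leaf 33070569) (.leaf 20946997))) (.node (.node (.leaf 26401841) (.leaf 11327918)) (.node (.leaf 4736853) (.leaf 33245170)))))))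

/-- A point of the block, part 315. -/
def ptCodePart315 : Janko1.Tree ℕ := (.node (.node (.node (.node (.node (.node (.leaf 29051766) (.leaf 32513370)) (.node (.leaf 27874734) (.leaf 15336042))) (.node (.node (.leaf 11388842) (.leaf 19569801)) (.node (.leaf 3968364) (.leaf 25495289)))) (.node (.node (.node (.leaf 10816801) (.leaf 6084857)) (.node (.leaf 22397682) (.leaf 20208756))) (.node (.node (.leaf 724586) (.leaf 32300624)) (.node (.leaf 25055264) (.leaf 3932370))))) (.node (.node (.node (.node (.leaf 14385188) (.leaf 18079953)) (.node (.leaf 7921697) (.leaf 22060036))) (.node (.node (.leaf 26058005) (.leaf 2593966)) (.node (.leaf 12722461) (.leaf 5428914)))) (.node (.node (.node (.leaf 11391929) (.leaf 14042030)) (.node (.leaf 15522014) (.leaf 15719482))) (.node (.node (.leaf 24236777) (.leaf 34463713)) (.node (.leaf 21545497) (.leaf 26646921)))))) (.node (.node (.node (.node (.node (.leaf 32523237) (.leaf 6441773)) (.node (.leaf 21256224) (.leaf 15458669))) (.node (.node (.leaf 32512486) (.leaf 10276256))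 (.node (.leaf 34462136) (.leaf 29427982)))) (.node (.node (.node (.leaf 10246672) (.leaf 33063232)) (.node (.leaf 3883309) (.leaf 25267853))) (.node (.node (.leaf 10276108) (.leaf 13525120)) (.node (.leaf 265197) (.leaf 15893612))))) (.node (.node (.node (.node (.leaf 27876866) (.leaf 15718324)) (.node (.leaf 18077216) (.leaf 10050868))) (.node (.node (.leaf 5374888) (.leaf 2006678)) (.node (.leaf 34561357) (.leaf 21597253)))) (.node (.node (.node (.leaf 12589052) (.leaf 3967653)) (.node (.leaf 16110465) (.leaf 20104665))) (.node (.node (.leaf 15337742) (.leaf 24234360)) (.node (.leaf 18402506) (.leaf 264872)))))))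

/-- A point of the block, part 316. -/
def ptCodePart316 : Janko1.Tree ℕ := (.node (.node (.node (.node (.node (.node (.leaf 940013) (.leaf 32509052)) (.node (.leaf 11706364) (.leaf 25808185))) (.node (.node (.leaf 14746164) (.leaf 10328576)) (.node (.leaf 8651629) (.leaf 15125244)))) (.node (.node (.node (.leaf 3626934) (.leaf 187953)) (.node (.leaf 14749676) (.leaf 25678162))) (.node (.node (.leaf 3346385) (.leaf 8658806)) (.node (.leaf 30264261) (.leaf 25739496))))) (.node (.node (.node (.node (.leaf 27171100) (.leaf 1787697)) (.node (.leaf 35242674) (.leaf 5424805))) (.node (.node (.leaf 34113125) (.leaf 14392725)) (.node (.leaf 30249209) (.leaf 16780704)))) (.node (.node (.node (.leaf 22060936) (.leaf 27875480)) (.node (.leaf 6365156) (.leaf 20219217))) (.node (.node (.leaf 14275545) (.leaf 3868465)) (.node (.leaf 12585244) (.leaf 12586342)))))) (.node (.node (.node (.node (.node (.leaf 2006662) (.leaf 8589090)) (.node (.leaf 28280121) (.leaf 3624386))) (.node (.node (.leaf 6357624) (.leaf 33723994))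 (.node (.leaf 34560840) (.leaf 10934229)))) (.node (.node (.node (.leaf 6357970) (.leaf 6365116)) (.node (.leaf 15354744) (.leaf 33247113))) (.node (.node (.leaf 10817117) (.leaf 33067940)) (.node (.leaf 1858953) (.leaf 23417266))))) (.node (.node (.node (.node (.leaf 12753558) (.leaf 11700716)) (.node (.leaf 34278058) (.leaf 25496290))) (.node (.node (.leaf 34461549) (.leaf 1771590)) (.node (.leaf 5380330) (.leaf 9346889)))) (.node (.node (.node (.leaf 25270745) (.leaf 4524029)) (.node (.leaf 16111177) (.leaf 23302625))) (.node (.node (.leaf 1851494) (.leaf 8574210)) (.node (.leaf 17290524) (.leaf 6313008)))))))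

/-- A point of the block, part 317. -/
def ptCodePart317 : Janko1.Tree ℕ := (.node (.node (.node (.node (.node (.node (.leaf 20940245) (.leaf 22405033)) (.node (.leaf 8568937) (.leaf 4529228))) (.node (.node (.leaf 4523332) (.leaf 28443997)) (.node (.leaf 17957420) (.leaf 20940892)))) (.node (.node (.node (.leaf 10044398) (.leaf 8098041)) (.node (.leaf 8588060) (.leaf 21421818))) (.node (.node (.leaf 22729814) (.leaf 722916)) (.node (.leaf 19175661) (.leaf 26052634))))) (.node (.node (.node (.node (.leaf 29214060) (.leaf 729248)) (.node (.leaf 3874590) (.leaf 4523482))) (.node (.node (.leaf 21271985) (.leaf 8651097)) (.node (.leaf 25268710) (.leaf 10050565)))) (.node (.node (.node (.leaf 15516712) (.leaf 32229625)) (.node (.leaf 23416672) (.leaf 30953622))) (.node (.node (.leaf 1770492) (.leaf 34850697)) (.node (.leaf 5379297) (.leaf 3628249)))))) (.node (.node (.node (.node (.node (.leaf 18072929) (.leaf 33248060)) (.node (.leaf 15127874) (.leaf 5152310))) (.node (.node (.leaf 25742340) (.leaf 20111440))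 (.node (.leaf 11656860) (.leaf 34855796)))) (.node (.node (.node (.leaf 27464280) (.leaf 5513140)) (.node (.leaf 15076554) (.leaf 19565676))) (.node (.node (.leaf 26396909) (.leaf 23155185)) (.node (.leaf 33950110) (.leaf 3344241))))) (.node (.node (.node (.node (.leaf 15358048) (.leaf 19171368)) (.node (.leaf 3361658) (.leaf 29214658))) (.node (.node (.leaf 26237177) (.leaf 24040046)) (.node (.leaf 33953084) (.leaf 11655972)))) (.node (.node (.node (.leaf 22057456) (.leaf 8652613)) (.node (.leaf 20223078) (.leaf 10278386))) (.node (.node (.leaf 8101794) (.leaf 19186608)) (.node (.leaf 5150705) (.leaf 21547562)))))))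

/-- A point of the block, part 318. -/
def ptCodePart318 : Janko1.Tree ℕ := (.node (.node (.node (.node (.node (.node (.leaf 11391130) (.leaf 19390552)) (.node (.leaf 29429828) (.leaf 5382456))) (.node (.node (.leaf 2375701) (.leaf 26237581)) (.node (.leaf 3344146) (.leaf 10330162)))) (.node (.node (.node (.leaf 21546006) (.leaf 16555385)) (.node (.leaf 19174866) (.leaf 27860370))) (.node (.node (.leaf 16553558) (.leaf 3360236)) (.node (.leaf 8571480) (.leaf 8571364))))) (.node (.node (.node (.node (.leaf 24039814) (.leaf 15390257)) (.node (.leaf 23298741) (.leaf 34147533))) (.node (.node (.leaf 15899380) (.leaf 34117597)) (.node (.leaf 8393384) (.leaf 935001)))) (.node (.node (.node (.leaf 28442734) (.leaf 28280637)) (.node (.leaf 30167248) (.leaf 20947294))) (.node (.node (.leaf 32229718) (.leaf 20203280)) (.node (.leaf 5033417) (.leaf 20224814)))))) (.node (.node (.node (.node (.node (.leaf 20111693) (.leaf 30689586)) (.node (.leaf 19190805) (.leaf 35344430))) (.node (.node (.leaf 25497677) (.leaf 14276416))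 (.node (.leaf 19172236) (.leaf 10601304)))) (.node (.node (.node (.leaf 8392480) (.leaf 20103969)) (.node (.leaf 12962673) (.leaf 21548146))) (.node (.node (.leaf 21483805) (.leaf 7867082)) (.node (.leaf 34145226) (.leaf 24861694))))) (.node (.node (.node (.node (.leaf 12714878) (.leaf 32294252)) (.node (.leaf 24856296) (.leaf 266150))) (.node (.node (.leaf 18301148) (.leaf 21716960)) (.node (.leaf 32643885) (.leaf 21602494)))) (.node (.node (.node (.leaf 1872272) (.leaf 27853588)) (.node (.leaf 1777780) (.leaf 7918248))) (.node (.node (.leaf 24042153) (.leaf 18079998)) (.node (.leaf 2001696) (.leaf 32525549)))))))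

/-- A point of the block, part 319. -/
def ptCodePart319 : Janko1.Tree ℕ := (.node (.node (.node (.node (.node (.node (.leaf 25809984) (.leaf 10145374)) (.node (.leaf 18079869) (.leaf 11390569))) (.node (.node (.leaf 3868120) (.leaf 25742324)) (.node (.leaf 21271696) (.leaf 21274668)))) (.node (.node (.node (.leaf 24238929) (.leaf 12751381)) (.node (.leaf 19187360) (.leaf 22567060))) (.node (.node (.leaf 12714989) (.leaf 21547977)) (.node (.leaf 29221085) (.leaf 11243320))))) (.node (.node (.node (.node (.leaf 7913588) (.leaf 29220714)) (.node (.leaf 32790553) (.leaf 1318192))) (.node (.node (.leaf 14277290) (.leaf 19373910)) (.node (.leaf 11393180) (.leaf 6310828)))) (.node (.node (.node (.leaf 14044077) (.leaf 7866884)) (.node (.leaf 16976556) (.leaf 1319074))) (.node (.node (.leaf 35112664) (.leaf 10279080)) (.node (.leaf 27876241) (.leaf 12966738)))))) (.node (.node (.node (.node (.node (.leaf 29853222) (.leaf 17290556)) (.node (.leaf 29597564) (.leaf 10276882))) (.node (.node (.leaf 7871608) (.leaf 29589646))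 (.node (.leaf 9101237) (.leaf 30247381)))) (.node (.node (.node (.leaf 4513102) (.leaf 19177165)) (.node (.leaf 35117178) (.leaf 10934342))) (.node (.node (.leaf 4524256) (.leaf 30246830)) (.node (.leaf 5145636) (.leaf 29497385))))) (.node (.node (.node (.node (.leaf 8590092) (.leaf 19367368)) (.node (.leaf 29433878) (.leaf 30695581))) (.node (.node (.leaf 14041528) (.leaf 27858700)) (.node (.leaf 13534572) (.leaf 2592428)))) (.node (.node (.node (.leaf 16848625) (.leaf 30167068)) (.node (.leaf 30267445) (.leaf 10673524))) (.node (.node (.leaf 29038421) (.leaf 20224429)) (.node (.leaf 6311464) (.leaf 17290868)))))))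

/-- A point of the block, part 320. -/
def ptCodePart320 : Janko1.Tree ℕ := (.node (.node (.node (.node (.node (.node (.leaf 21713786) (.leaf 16553805)) (.node (.leaf 23154076) (.leaf 30382293))) (.node (.node (.leaf 19387504) (.leaf 35147073)) (.node (.leaf 188069) (.leaf 10819533)))) (.node (.node (.node (.leaf 27167050) (.leaf 33950973)) (.node (.leaf 29855793) (.leaf 26646690))) (.node (.node (.leaf 11699182) (.leaf 19385400)) (.node (.leaf 25267644) (.leaf 9094022))))) (.node (.node (.node (.node (.leaf 29496448) (.leaf 16784908)) (.node (.leaf 32638972) (.leaf 28281434))) (.node (.node (.leaf 5380106) (.leaf 29051889)) (.node (.leaf 6668704) (.leaf 24860412)))) (.node (.node (.node (.leaf 24856925) (.leaf 33246720)) (.node (.leaf 29494701) (.leaf 32235000))) (.node (.node (.leaf 6361301) (.leaf 1870008)) (.node (.leaf 13519056) (.leaf 1789092)))))) (.node (.node (.node (.node (.node (.leaf 10818754) (.leaf 32530852)) (.node (.leaf 5147849) (.leaf 3347872))) (.node (.node (.leaf 6676174) (.leaf 30739684))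 (.node (.leaf 30687533) (.leaf 15720372)))) (.node (.node (.node (.leaf 32523390) (.leaf 17141508)) (.node (.leaf 7553208) (.leaf 21486018))) (.node (.node (.leaf 21251976) (.leaf 29433377)) (.node (.leaf 29492156) (.leaf 12715248))))) (.node (.node (.node (.node (.leaf 13667033) (.leaf 20944678)) (.node (.leaf 15522378) (.leaf 13799806))) (.node (.node (.leaf 6674093) (.leaf 18404336)) (.node (.leaf 27853860) (.leaf 6443836)))) (.node (.node (.node (.leaf 3870210) (.leaf 13795869)) (.node (.leaf 32522786) (.leaf 26230816))) (.node (.node (.leaf 34146042) (.leaf 23415809)) (.node (.leaf 4721644) (.leaf 24958596)))))))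

/-- A point of the block, part 321. -/
def ptCodePart321 : Janko1.Tree ℕ := (.node (.node (.node (.node (.node (.node (.leaf 12748673) (.leaf 27856538)) (.node (.leaf 16782108) (.leaf 4735457))) (.node (.node (.leaf 10670434) (.leaf 2001092)) (.node (.leaf 30165497) (.leaf 21266985)))) (.node (.node (.node (.leaf 17139084) (.leaf 35115625)) (.node (.leaf 13672217) (.leaf 5968994))) (.node (.node (.leaf 15073384) (.leaf 29215194)) (.node (.leaf 23860609) (.leaf 19174925))))) (.node (.node (.node (.node (.leaf 8656889) (.leaf 22565653)) (.node (.leaf 8095726) (.leaf 33726720))) (.node (.node (.leaf 32835460) (.leaf 15454305)) (.node (.leaf 35144150) (.leaf 10247440)))) (.node (.node (.node (.leaf 21482825) (.leaf 13800097)) (.node (.leaf 6447397) (.leaf 21482649))) (.node (.node (.leaf 1318650) (.leaf 3938598)) (.node (.leaf 30743932) (.leaf 29054598)))))) (.node (.node (.node (.node (.node (.leaf 18078948) (.leaf 6081349)) (.node (.leaf 10936305) (.leaf 16105966))) (.node (.node (.leaf 17962177) (.leaf 3888110))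 (.node (.leaf 14276914) (.leaf 1792662)))) (.node (.node (.node (.leaf 15337633) (.leaf 35348846)) (.node (.leaf 15339006) (.leaf 5972117))) (.node (.node (.leaf 15454033) (.leaf 11605858)) (.node (.leaf 27459921) (.leaf 3935797))))) (.node (.node (.node (.node (.leaf 29597690) (.leaf 8096124)) (.node (.leaf 32790988) (.leaf 13800121))) (.node (.node (.leaf 35341134) (.leaf 33950610)) (.node (.leaf 25743897) (.leaf 27172452)))) (.node (.node (.node (.leaf 24239281) (.leaf 9094745)) (.node (.leaf 16979092) (.leaf 16778625))) (.node (.node (.leaf 723164) (.leaf 34276306)) (.node (.leaf 10929785) (.leaf 8393181)))))))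

/-- A point of the block, part 322. -/
def ptCodePart322 : Janko1.Tree ℕ := (.node (.node (.node (.node (.node (.node (.leaf 11391554) (.leaf 21479568)) (.node (.leaf 20226230) (.leaf 6315225))) (.node (.node (.leaf 13802494) (.leaf 13667862)) (.node (.leaf 33721309) (.leaf 33067872)))) (.node (.node (.node (.leaf 1314620) (.leaf 32235358)) (.node (.leaf 30688180) (.leaf 6314101))) (.node (.node (.leaf 12715418) (.leaf 7558210)) (.node (.leaf 35247138) (.leaf 24037772))))) (.node (.node (.node (.node (.leaf 29057282) (.leaf 21254370)) (.node (.leaf 3883276) (.leaf 5970044))) (.node (.node (.leaf 4511777) (.leaf 4427754)) (.node (.leaf 16288725) (.leaf 27480737)))) (.node (.node (.node (.leaf 27871638) (.leaf 14746452)) (.node (.leaf 21715253) (.leaf 17959128))) (.node (.node (.leaf 20537436) (.leaf 10322265)) (.node (.leaf 22732589) (.leaf 10147984)))))) (.node (.node (.node (.node (.node (.leaf 23305932) (.leaf 13665722)) (.node (.leaf 7553212) (.leaf 32526716))) (.node (.node (.leaf 21417212) (.leaf 5656413))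 (.node (.leaf 5966065) (.leaf 1791865)))) (.node (.node (.node (.leaf 23859646) (.leaf 214089)) (.node (.leaf 5382530) (.leaf 34149464))) (.node (.node (.leaf 30737714) (.leaf 1775598)) (.node (.leaf 30165513) (.leaf 7556448))))) (.node (.node (.node (.node (.leaf 29429209) (.leaf 29039954)) (.node (.leaf 19383678) (.leaf 22401496))) (.node (.node (.leaf 25805560) (.leaf 30382680)) (.node (.leaf 8393497) (.leaf 33725252)))) (.node (.node (.node (.leaf 13607245) (.leaf 5508498)) (.node (.leaf 25051793) (.leaf 3967838))) (.node (.node (.leaf 16292446) (.leaf 25744045)) (.node (.leaf 6079261) (.leaf 16847092)))))))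

/-- A point of the block, part 323. -/
def ptCodePart323 : Janko1.Tree ℕ := (.node (.node (.node (.node (.node (.node (.leaf 21595390) (.leaf 2378573)) (.node (.leaf 25052153) (.leaf 21711762))) (.node (.node (.leaf 16108394) (.leaf 18399476)) (.node (.leaf 6084057) (.leaf 2000638)))) (.node (.node (.node (.leaf 35145909) (.leaf 30377932)) (.node (.leaf 5423113) (.leaf 27795846))) (.node (.node (.leaf 16974393) (.leaf 5036374)) (.node (.leaf 23855593) (.leaf 5509100))))) (.node (.node (.node (.node (.leaf 3936148) (.leaf 25055142)) (.node (.leaf 27794205) (.leaf 23415332))) (.node (.node (.leaf 213764) (.leaf 24042593)) (.node (.leaf 19570250) (.leaf 10671721)))) (.node (.node (.node (.leaf 14799022) (.leaf 181805)) (.node (.leaf 10667910) (.leaf 14753158))) (.node (.node (.leaf 13522780) (.leaf 16290070)) (.node (.leaf 30688824) (.leaf 10280872)))))) (.node (.node (.node (.node (.node (.leaf 3361388) (.leaf 16779758)) (.node (.leaf 12752261) (.leaf 22569185))) (.node (.node (.leaf 19385029) (.leaf 18400872))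 (.node (.leaf 34703592) (.leaf 265128)))) (.node (.node (.node (.leaf 23302872) (.leaf 30378916)) (.node (.leaf 7872072) (.leaf 15337118))) (.node (.node (.leaf 14392613) (.leaf 10326698)) (.node (.leaf 27876441) (.leaf 34147245))))) (.node (.node (.node (.node (.leaf 35347458) (.leaf 20108170)) (.node (.leaf 11703949) (.leaf 14799189))) (.node (.node (.leaf 26644704) (.leaf 15900097)) (.node (.leaf 14752962) (.leaf 24042514)))) (.node (.node (.node (.leaf 3362097) (.leaf 10049334)) (.node (.leaf 33243600) (.leaf 21483997))) (.node (.node (.leaf 11704005) (.leaf 29040170)) (.node (.leaf 30269362) (.leaf 24955036)))))))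

/-- A point of the block, part 324. -/
def ptCodePart324 : Janko1.Tree ℕ := (.node (.node (.node (.node (.node (.node (.leaf 11393252) (.leaf 28281964)) (.node (.leaf 26642902) (.leaf 21709598))) (.node (.node (.leaf 21415125) (.leaf 35149308)) (.node (.leaf 30742645) (.leaf 8099208)))) (.node (.node (.node (.leaf 22399237) (.leaf 33726909)) (.node (.leaf 5508500) (.leaf 13537933))) (.node (.node (.leaf 35250272) (.leaf 10279758)) (.node (.leaf 5030904) (.leaf 29590850))))) (.node (.node (.node (.node (.leaf 10608052) (.leaf 25676345)) (.node (.leaf 2591441) (.leaf 15391441))) (.node (.node (.leaf 10404884) (.leaf 24960438)) (.node (.leaf 12718001) (.leaf 32527506)))) (.node (.node (.node (.leaf 3869812) (.leaf 25267846)) (.node (.leaf 728260) (.leaf 21552168))) (.node (.node (.leaf 34854294) (.leaf 29037541)) (.node (.leaf 11655652) (.leaf 12750532)))))) (.node (.node (.node (.node (.node (.leaf 23298789) (.leaf 13668118)) (.node (.leaf 33725017) (.leaf 32298241))) (.node (.node (.leaf 14047161) (.leaf 6443416))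 (.node (.leaf 20209178) (.leaf 16555668)))) (.node (.node (.node (.leaf 17963788) (.leaf 21250129)) (.node (.leaf 12967514) (.leaf 19383064))) (.node (.node (.leaf 17143572) (.leaf 15385020)) (.node (.leaf 21417718) (.leaf 1791893))))) (.node (.node (.node (.node (.leaf 15356464) (.leaf 7918877)) (.node (.leaf 33722114) (.leaf 2376180))) (.node (.node (.leaf 4741841) (.leaf 16290717)) (.node (.leaf 27478337) (.leaf 5427966)))) (.node (.node (.node (.leaf 14801169) (.leaf 8576522)) (.node (.leaf 29498694) (.leaf 32298393))) (.node (.node (.leaf 30381032) (.leaf 3360908)) (.node (.leaf 24960448) (.leaf 26052700)))))))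

/-- A point of the block, part 325. -/
def ptCodePart325 : Janko1.Tree ℕ := (.node (.node (.node (.node (.node (.node (.leaf 23298300) (.leaf 725052)) (.node (.leaf 269782) (.leaf 14802761))) (.node (.node (.leaf 13602378) (.leaf 19563894)) (.node (.leaf 32842116) (.leaf 23155249)))) (.node (.node (.node (.leaf 20108832) (.leaf 12583464)) (.node (.leaf 32840524) (.leaf 17286906))) (.node (.node (.leaf 33067773) (.leaf 19563902)) (.node (.leaf 30268942) (.leaf 3627340))))) (.node (.node (.node (.node (.leaf 20224354) (.leaf 32229890)) (.node (.leaf 11605898) (.leaf 34703790))) (.node (.node (.leaf 10407253) (.leaf 19370698)) (.node (.leaf 2383826) (.leaf 15458413)))) (.node (.node (.node (.leaf 34560080) (.leaf 31316930)) (.node (.leaf 10998385) (.leaf 34003642))) (.node (.node (.leaf 11001810) (.leaf 10994669)) (.node (.leaf 18028793) (.leaf 5246194)))))) (.node (.node (.node (.node (.node (.leaf 19631565) (.leaf 17539129)) (.node (.leaf 22585329) (.leaf 18027704))) (.node (.node (.leaf 25594505) (.leaf 33456637))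 (.node (.leaf 29594156) (.leaf 20863940)))) (.node (.node (.node (.leaf 1594718) (.leaf 22956272)) (.node (.leaf 20907432) (.leaf 30463077))) (.node (.node (.leaf 28860336) (.leaf 19842978)) (.node (.leaf 13471592) (.leaf 33850009))))) (.node (.node (.node (.node (.leaf 31742750) (.leaf 5246749)) (.node (.leaf 3804620) (.leaf 28153908))) (.node (.node (.leaf 19715601) (.leaf 8655200)) (.node (.leaf 24547626) (.leaf 11375836)))) (.node (.node (.node (.leaf 1988828) (.leaf 5132124)) (.node (.leaf 17711329) (.leaf 18678196))) (.node (.node (.leaf 34226292) (.leaf 10441989)) (.node (.leaf 20185777) (.leaf 34456701)))))))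

/-- A point of the block, part 326. -/
def ptCodePart326 : Janko1.Tree ℕ := (.node (.node (.node (.node (.node (.node (.leaf 10215374) (.leaf 18030082)) (.node (.leaf 23863157) (.leaf 17702634))) (.node (.node (.leaf 11717630) (.leaf 12437420)) (.node (.leaf 17375632) (.leaf 19370888)))) (.node (.node (.node (.leaf 30461886) (.leaf 34003416)) (.node (.leaf 8339641) (.leaf 22725937))) (.node (.node (.leaf 17684636) (.leaf 22464280)) (.node (.leaf 10995076) (.leaf 30331224))))) (.node (.node (.node (.node (.leaf 23742929) (.leaf 6901044)) (.node (.leaf 13225288) (.leaf 10213812))) (.node (.node (.leaf 14850042) (.leaf 5395528)) (.node (.leaf 14899834) (.leaf 34463144)))) (.node (.node (.node (.leaf 9307938) (.leaf 25600009)) (.node (.leaf 10373958) (.leaf 31314022))) (.node (.node (.leaf 23464314) (.leaf 20140032)) (.node (.leaf 26463550) (.leaf 35327181)))))) (.node (.node (.node (.node (.node (.leaf 13230156) (.leaf 25839064)) (.node (.leaf 30448337) (.leaf 29580609))) (.node (.node (.leaf 17913682) (.leaf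 4882456)) (.node (.leaf 2949446) (.leaf 19718069)))) (.node (.node (.node (.leaf 9314674) (.leaf 10230637)) (.node (.leaf 17964248) (.leaf 1892450))) (.node (.node (.leaf 25724794) (.leaf 18060246)) (.node (.leaf 12437904) (.leaf 21303720))))) (.node (.node (.node (.node (.leaf 26466265) (.leaf 8590892)) (.node (.leaf 3807968) (.leaf 8589685))) (.node (.node (.leaf 20138896) (.leaf 1891290)) (.node (.leaf 10223678) (.leaf 17712409)))) (.node (.node (.node (.leaf 30393501) (.leaf 3005546)) (.node (.leaf 23861862) (.leaf 1152312))) (.node (.node (.leaf 8593766) (.leaf 23748336)) (.node (.leaf 5033468) (.leaf 3349260)))))))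

/-- A point of the block, part 327. -/
def ptCodePart327 : Janko1.Tree ℕ := (.node (.node (.node (.node (.node (.node (.leaf 34098296) (.leaf 5390394)) (.node (.leaf 6017818) (.leaf 30398974))) (.node (.node (.leaf 19715413) (.leaf 13468918)) (.node (.leaf 14652685) (.leaf 34229230)))) (.node (.node (.node (.leaf 22583410) (.leaf 3441521)) (.node (.leaf 10999089) (.leaf 13226470))) (.node (.node (.leaf 26463802) (.leaf 8078458)) (.node (.leaf 3349616) (.leaf 18390098))))) (.node (.node (.node (.node (.leaf 19367914) (.leaf 24139472)) (.node (.leaf 18026818) (.leaf 18390581))) (.node (.node (.leaf 11000528) (.leaf 2957374)) (.node (.leaf 18473341) (.leaf 32562657)))) (.node (.node (.node (.leaf 8347756) (.leaf 20023108)) (.node (.leaf 18354005) (.leaf 13469528))) (.node (.node (.leaf 25221533) (.leaf 31740244)) (.node (.leaf 30333754) (.leaf 10228586)))))) (.node (.node (.node (.node (.node (.leaf 13255240) (.leaf 6902405)) (.node (.leaf 14277236) (.leaf 22464778))) (.node (.node (.leaf 13897964) (.leaf 4440618))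 (.node (.leaf 13471376) (.leaf 8558713)))) (.node (.node (.node (.leaf 19846666) (.leaf 24874108)) (.node (.leaf 9755872) (.leaf 28854761))) (.node (.node (.leaf 21486945) (.leaf 33757468)) (.node (.leaf 1990882) (.leaf 3806485))))) (.node (.node (.node (.node (.leaf 29557341) (.leaf 15779600)) (.node (.leaf 26461038) (.leaf 13258941))) (.node (.node (.leaf 10224882) (.leaf 450866)) (.node (.leaf 1070968) (.leaf 24315480)))) (.node (.node (.node (.leaf 3350636) (.leaf 7804173)) (.node (.leaf 35309594) (.leaf 27467168))) (.node (.node (.leaf 20627581) (.leaf 30399290)) (.node (.leaf 34508744) (.leaf 8553100)))))))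

/-- A point of the block, part 328. -/
def ptCodePart328 : Janko1.Tree ℕ := (.node (.node (.node (.node (.node (.node (.leaf 10230257) (.leaf 3184657)) (.node (.leaf 8559372) (.leaf 27351566))) (.node (.node (.leaf 11720273) (.leaf 25837609)) (.node (.leaf 2949808) (.leaf 11652069)))) (.node (.node (.node (.leaf 21530956) (.leaf 23862562)) (.node (.leaf 7803054) (.leaf 7799488))) (.node (.node (.leaf 21533449) (.leaf 34249068)) (.node (.leaf 25223034) (.leaf 33854906))))) (.node (.node (.node (.node (.leaf 11870286) (.leaf 20910357)) (.node (.leaf 27346093) (.leaf 13714368))) (.node (.node (.leaf 20860613) (.leaf 28039024)) (.node (.leaf 5034850) (.leaf 1886725)))) (.node (.node (.node (.leaf 5034490) (.leaf 17424120)) (.node (.leaf 23743598) (.leaf 34002230))) (.node (.node (.leaf 29598116) (.leaf 14844412)) (.node (.leaf 10444340) (.leaf 8340570)))))) (.node (.node (.node (.node (.node (.leaf 183973) (.leaf 3771664)) (.node (.leaf 26249953) (.leaf 34000834))) (.node (.node (.leaf 22957186) (.leaf 721498))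 (.node (.leaf 1181576) (.leaf 25722910)))) (.node (.node (.node (.leaf 17684504) (.leaf 29753945)) (.node (.leaf 7750966) (.leaf 6395257))) (.node (.node (.leaf 448720) (.leaf 24548142)) (.node (.leaf 34000681) (.leaf 3001104))))) (.node (.node (.node (.node (.leaf 25837860) (.leaf 5904301)) (.node (.leaf 14261477) (.leaf 30050614))) (.node (.node (.leaf 30333582) (.leaf 28153056)) (.node (.leaf 18389340) (.leaf 18356836)))) (.node (.node (.node (.leaf 688938) (.leaf 24433677)) (.node (.leaf 9311413) (.leaf 21301190))) (.node (.node (.leaf 26467254) (.leaf 27122817)) (.node (.leaf 2999117) (.leaf 775158)))))))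

/-- A point of the block, part 329. -/
def ptCodePart329 : Janko1.Tree ℕ := (.node (.node (.node (.node (.node (.node (.leaf 6906198) (.leaf 20635582)) (.node (.leaf 20338386) (.leaf 23863009))) (.node (.node (.leaf 5030146) (.leaf 32874470)) (.node (.leaf 19371114) (.leaf 20860318)))) (.node (.node (.node (.leaf 15452264) (.leaf 33852205)) (.node (.leaf 13898226) (.leaf 23433236))) (.node (.node (.leaf 6014746) (.leaf 725446)) (.node (.leaf 5248856) (.leaf 12131854))))) (.node (.node (.node (.node (.leaf 18484989) (.leaf 20860709)) (.node (.leaf 14850832) (.leaf 3180574))) (.node (.node (.leaf 13716553) (.leaf 14899908)) (.node (.leaf 12130228) (.leaf 29565346)))) (.node (.node (.node (.leaf 18062869) (.leaf 17372966)) (.node (.leaf 2071458) (.leaf 1155318))) (.node (.node (.leaf 35330450) (.leaf 5904644)) (.node (.leaf 25223064) (.leaf 18466954)))))) (.node (.node (.node (.node (.node (.leaf 744228) (.leaf 10377834)) (.node (.leaf 35323969) (.leaf 17371864))) (.node (.node (.leaf 12131949) (.leaf 19369788))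 (.node (.leaf 21304360) (.leaf 14850538)))) (.node (.node (.node (.leaf 30442250) (.leaf 25597009)) (.node (.leaf 24429077) (.leaf 19760365))) (.node (.node (.leaf 17534830) (.leaf 17422701)) (.node (.leaf 773449) (.leaf 1181502))))) (.node (.node (.node (.node (.leaf 24713469) (.leaf 7641516)) (.node (.leaf 5396500) (.leaf 20024744))) (.node (.node (.leaf 34248813) (.leaf 105480)) (.node (.leaf 6555554) (.leaf 9635645)))) (.node (.node (.node (.leaf 35309309) (.leaf 35195670)) (.node (.leaf 30053169) (.leaf 9129468))) (.node (.node (.leaf 33755698) (.leaf 29577556)) (.node (.leaf 18386541) (.leaf 15785856)))))))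

/-- A point of the block, part 330. -/
def ptCodePart330 : Janko1.Tree ℕ := (.node (.node (.node (.node (.node (.node (.leaf 34150341) (.leaf 1132872)) (.node (.leaf 9756934) (.leaf 8290544))) (.node (.node (.leaf 10442816) (.leaf 24710796)) (.node (.leaf 688232) (.leaf 30397020)))) (.node (.node (.node (.leaf 24708838) (.leaf 35329138)) (.node (.leaf 6149477) (.leaf 8079461))) (.node (.node (.leaf 24711398) (.leaf 18026834)) (.node (.leaf 24319960) (.leaf 8692009))))) (.node (.node (.node (.node (.leaf 9494249) (.leaf 7752836)) (.node (.leaf 1151424) (.leaf 23858506))) (.node (.node (.leaf 8347210) (.leaf 2953625)) (.node (.leaf 28154930) (.leaf 8587342)))) (.node (.node (.node (.leaf 12738641) (.leaf 17698918)) (.node (.leaf 18354445) (.leaf 10441850))) (.node (.node (.leaf 14899222) (.leaf 30056046)) (.node (.leaf 30445388) (.leaf 19713157)))))) (.node (.node (.node (.node (.node (.leaf 17703158) (.leaf 28037146)) (.node (.leaf 25839624) (.leaf 11870185))) (.node (.node (.leaf 6905745) (.leaf 20136629))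 (.node (.leaf 1990025) (.leaf 10436752)))) (.node (.node (.node (.leaf 34250501) (.leaf 30054806)) (.node (.leaf 11716528) (.leaf 29754193))) (.node (.node (.leaf 29561242) (.leaf 29590657)) (.node (.leaf 12732908) (.leaf 7635666))))) (.node (.node (.node (.node (.leaf 27460860) (.leaf 6397400)) (.node (.leaf 21535354) (.leaf 29593962))) (.node (.node (.leaf 14278882) (.leaf 20142444)) (.node (.leaf 1072436) (.leaf 33464394)))) (.node (.node (.node (.leaf 30559280) (.leaf 28839160)) (.node (.leaf 9312706) (.leaf 34232340))) (.node (.node (.leaf 11507152) (.leaf 24877561)) (.node (.leaf 3349794) (.leaf 3771133)))))))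

/-- A point of the block, part 331. -/
def ptCodePart331 : Janko1.Tree ℕ := (.node (.node (.node (.node (.node (.node (.leaf 8560132) (.leaf 18514812)) (.node (.leaf 32868448) (.leaf 11502141))) (.node (.node (.leaf 34507201) (.leaf 14901033)) (.node (.leaf 30051930) (.leaf 25839225)))) (.node (.node (.node (.leaf 23434337) (.leaf 14272490)) (.node (.leaf 1069977) (.leaf 24550054))) (.node (.node (.leaf 30841048) (.leaf 28843432)) (.node (.leaf 34152172) (.leaf 20336066))))) (.node (.node (.node (.node (.leaf 26254142) (.leaf 5904296)) (.node (.leaf 8290689) (.leaf 29761530))) (.node (.node (.leaf 10232224) (.leaf 17912818)) (.node (.leaf 1884406) (.leaf 28856226)))) (.node (.node (.node (.leaf 694582) (.leaf 29754636)) (.node (.leaf 34149065) (.leaf 18355580))) (.node (.node (.leaf 19369916) (.leaf 9493246)) (.node (.leaf 23856285) (.leaf 30558468)))))) (.node (.node (.node (.node (.node (.leaf 7643564) (.leaf 20632840)) (.node (.leaf 13258297) (.leaf 3770480))) (.node (.node (.leaf 24875401) (.leaf 13261652))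 (.node (.leaf 1591092) (.leaf 2068188)))) (.node (.node (.node (.leaf 17695189) (.leaf 17536461)) (.node (.leaf 6392610) (.leaf 17964025))) (.node (.node (.leaf 8735136) (.leaf 10109017)) (.node (.leaf 18389764) (.leaf 23463304))))) (.node (.node (.node (.node (.leaf 1065940) (.leaf 6557829)) (.node (.leaf 2018618) (.leaf 21300313))) (.node (.node (.leaf 17367598) (.leaf 9494588)) (.node (.leaf 13260265) (.leaf 21486489)))) (.node (.node (.node (.leaf 13260676) (.leaf 11655156)) (.node (.leaf 1672756) (.leaf 24139708))) (.node (.node (.leaf 23434666) (.leaf 6151013)) (.node (.leaf 14898498) (.leaf 18473174)))))))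

/-- A point of the block, part 332. -/
def ptCodePart332 : Janko1.Tree ℕ := (.node (.node (.node (.node (.node (.node (.leaf 29594250) (.leaf 17964857)) (.node (.leaf 20627484) (.leaf 2956693))) (.node (.node (.leaf 32870870) (.leaf 30333561)) (.node (.leaf 30463986) (.leaf 20335725)))) (.node (.node (.node (.leaf 5248866) (.leaf 24549825)) (.node (.leaf 22597613) (.leaf 22728732))) (.node (.node (.leaf 19633080) (.leaf 19844189)) (.node (.leaf 35194373) (.leaf 20913946))))) (.node (.node (.node (.node (.leaf 22593681) (.leaf 34297686)) (.node (.leaf 27461354) (.leaf 30461402))) (.node (.node (.leaf 18388113) (.leaf 8297662)) (.node (.leaf 24317689) (.leaf 28155441)))) (.node (.node (.node (.leaf 1595309) (.leaf 34102713)) (.node (.leaf 33803680) (.leaf 10441286))) (.node (.node (.leaf 722488) (.leaf 5245654)) (.node (.leaf 8556656) (.leaf 34462586)))))) (.node (.node (.node (.node (.node (.leaf 11371136) (.leaf 1149488)) (.node (.leaf 10111645) (.leaf 10111630))) (.node (.node (.leaf 31310940) (.leaf 9754266))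 (.node (.leaf 3447174) (.leaf 28040080)))) (.node (.node (.node (.leaf 17420573) (.leaf 25745057)) (.node (.leaf 9488385) (.leaf 5396390))) (.node (.node (.leaf 8082594) (.leaf 27346590)) (.node (.leaf 22729622) (.leaf 28838545))))) (.node (.node (.node (.node (.leaf 19370217) (.leaf 22596593)) (.node (.leaf 24546518) (.leaf 6144329))) (.node (.node (.leaf 10227498) (.leaf 8589541)) (.node (.leaf 17539014) (.leaf 28839992)))) (.node (.node (.node (.leaf 30398998) (.leaf 14257104)) (.node (.leaf 15451934) (.leaf 7756082))) (.node (.node (.leaf 4441616) (.leaf 8654401)) (.node (.leaf 10212828) (.leaf 29564701)))))))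

/-- A point of the block, part 333. -/
def ptCodePart333 : Janko1.Tree ℕ := (.node (.node (.node (.node (.node (.node (.leaf 13227334) (.leaf 9493308)) (.node (.leaf 9640860) (.leaf 14655309))) (.node (.node (.leaf 3343149) (.leaf 17908302)) (.node (.leaf 8085630) (.leaf 30444549)))) (.node (.node (.node (.leaf 18470562) (.leaf 20028644)) (.node (.leaf 19717748) (.leaf 11866473))) (.node (.node (.leaf 9134086) (.leaf 17959313)) (.node (.leaf 27121228) (.leaf 30330136))))) (.node (.node (.node (.node (.leaf 19761713) (.leaf 11651588)) (.node (.leaf 22596216) (.leaf 26101344))) (.node (.node (.leaf 20913300) (.leaf 10230712)) (.node (.leaf 30559390) (.leaf 18517792)))) (.node (.node (.node (.leaf 14503350) (.leaf 5133641)) (.node (.leaf 1133733) (.leaf 4458389))) (.node (.node (.leaf 14502692) (.leaf 25714749)) (.node (.leaf 23469736) (.leaf 4464826)))))) (.node (.node (.node (.node (.node (.leaf 6144068) (.leaf 24138132)) (.node (.leaf 8296462) (.leaf 34149670))) (.node (.node (.leaf 1131078) (.leaf 24134389))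 (.node (.leaf 35313817) (.leaf 25223578)))) (.node (.node (.node (.leaf 34000649) (.leaf 14260832)) (.node (.leaf 4463978) (.leaf 6904589))) (.node (.node (.leaf 7642322) (.leaf 20028941)) (.node (.leaf 11503593) (.leaf 11372908))))) (.node (.node (.node (.node (.leaf 24315961) (.leaf 17417241)) (.node (.leaf 10376124) (.leaf 4448632))) (.node (.node (.leaf 14256994) (.leaf 29577852)) (.node (.leaf 6396710) (.leaf 180684)))) (.node (.node (.node (.leaf 12730594) (.leaf 20192160)) (.node (.leaf 30394450) (.leaf 1886845))) (.node (.node (.leaf 7756777) (.leaf 34100248)) (.node (.leaf 22594054) (.leaf 29039357)))))))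

/-- A point of the block, part 334. -/
def ptCodePart334 : Janko1.Tree ℕ := (.node (.node (.node (.node (.node (.node (.leaf 6151612) (.leaf 2023852)) (.node (.leaf 25600400) (.leaf 15782448))) (.node (.node (.leaf 18482981) (.leaf 17685814)) (.node (.leaf 20913265) (.leaf 5133222)))) (.node (.node (.node (.leaf 18683912) (.leaf 17914224)) (.node (.leaf 33461145) (.leaf 34233502))) (.node (.node (.leaf 14278112) (.leaf 12437020)) (.node (.leaf 8297029) (.leaf 8655126))))) (.node (.node (.node (.node (.leaf 6392264) (.leaf 34114525)) (.node (.leaf 34456480) (.leaf 29644696))) (.node (.node (.leaf 8734120) (.leaf 10378493)) (.node (.leaf 742928) (.leaf 10379572)))) (.node (.node (.node (.leaf 8736878) (.leaf 30843044)) (.node (.leaf 24319194) (.leaf 20629938))) (.node (.node (.leaf 11863226) (.leaf 13473374)) (.node (.leaf 28843304) (.leaf 12126990)))))) (.node (.node (.node (.node (.node (.leaf 32561420) (.leaf 23433284)) (.node (.leaf 7637537) (.leaf 22470261))) (.node (.node (.leaf 18679277) (.leaf 25741188))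 (.node (.leaf 29644752) (.leaf 9133805)))) (.node (.node (.node (.leaf 29562197) (.leaf 33803664)) (.node (.leaf 27124138) (.leaf 30330872))) (.node (.node (.leaf 17374272) (.leaf 34509077)) (.node (.leaf 29039153) (.leaf 1132569))))) (.node (.node (.node (.node (.leaf 30839028) (.leaf 1184414)) (.node (.leaf 27345905) (.leaf 9306356))) (.node (.node (.leaf 25219048) (.leaf 10114424)) (.node (.leaf 29564810) (.leaf 9212006)))) (.node (.node (.node (.leaf 1676876) (.leaf 8292066)) (.node (.leaf 28087062) (.leaf 26107140))) (.node (.node (.leaf 21483324) (.leaf 34512205)) (.node (.leaf 34229286) (.leaf 25223229)))))))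

/-- A point of the block, part 335. -/
def ptCodePart335 : Janko1.Tree ℕ := (.node (.node (.node (.node (.node (.node (.leaf 26102701) (.leaf 17679952)) (.node (.leaf 15453826) (.leaf 20333269))) (.node (.node (.leaf 20863548) (.leaf 11374496)) (.node (.leaf 26460370) (.leaf 34146241)))) (.node (.node (.node (.leaf 9640716) (.leaf 14898754)) (.node (.leaf 18357170) (.leaf 4448148))) (.node (.node (.leaf 14655537) (.leaf 35196365)) (.node (.leaf 6557520) (.leaf 11864054))))) (.node (.node (.node (.node (.leaf 15454670) (.leaf 8814946)) (.node (.leaf 8814854) (.leaf 726653))) (.node (.node (.leaf 2015534) (.leaf 11508188)) (.node (.leaf 13224029) (.leaf 29590606)))) (.node (.node (.node (.leaf 14274404) (.leaf 2219322)) (.node (.leaf 3448642) (.leaf 3447576))) (.node (.node (.leaf 28154458) (.leaf 11377704)) (.node (.leaf 19764886) (.leaf 15786005)))))) (.node (.node (.node (.node (.node (.leaf 20908509) (.leaf 3344617)) (.node (.leaf 25598873) (.leaf 17417364))) (.node (.node (.leaf 31314253) (.leaf 9211472))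 (.node (.leaf 25723438) (.leaf 29640206)))) (.node (.node (.node (.leaf 1673628) (.leaf 31316037)) (.node (.leaf 1135013) (.leaf 31313550))) (.node (.node (.leaf 18058672) (.leaf 8816106)) (.node (.leaf 33753216) (.leaf 184724))))) (.node (.node (.node (.node (.leaf 13357593) (.leaf 28088717)) (.node (.leaf 29577266) (.leaf 22732721))) (.node (.node (.leaf 17678826) (.leaf 9214806)) (.node (.leaf 691308) (.leaf 24136876)))) (.node (.node (.node (.leaf 34098552) (.leaf 17369170)) (.node (.leaf 20024928) (.leaf 14274964))) (.node (.node (.leaf 3805929) (.leaf 33756453)) (.node (.leaf 8295588) (.leaf 14505166)))))))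

/-- A point of the block, part 336. -/
def ptCodePart336 : Janko1.Tree ℕ := (.node (.node (.node (.node (.node (.node (.leaf 32868152) (.leaf 20188612)) (.node (.leaf 18467288) (.leaf 18518212))) (.node (.node (.leaf 30398825) (.leaf 25599505)) (.node (.leaf 23856146) (.leaf 742558)))) (.node (.node (.node (.leaf 18483444) (.leaf 19403224)) (.node (.leaf 9128865) (.leaf 183410))) (.node (.node (.leaf 35324060) (.leaf 4889018)) (.node (.leaf 11867321) (.leaf 25843205))))) (.node (.node (.node (.node (.leaf 15783314) (.leaf 31316362)) (.node (.leaf 26247257) (.leaf 19399738))) (.node (.node (.leaf 18515508) (.leaf 19712362)) (.node (.leaf 33806848) (.leaf 7753448)))) (.node (.node (.node (.leaf 6393790) (.leaf 2218410)) (.node (.leaf 773325) (.leaf 25744046))) (.node (.node (.leaf 1135693) (.leaf 23466344)) (.node (.leaf 8687226) (.leaf 11722564)))))) (.node (.node (.node (.node (.node (.leaf 25215136) (.leaf 1891358)) (.node (.leaf 13353692) (.leaf 26105244))) (.node (.node (.leaf 17424752) (.leaf 28038508))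 (.node (.leaf 34119982) (.leaf 13228453)))) (.node (.node (.node (.leaf 2220438) (.leaf 33856828)) (.node (.leaf 9209702) (.leaf 9212544))) (.node (.node (.leaf 28088878) (.leaf 34229541)) (.node (.leaf 8685477) (.leaf 30563834))))) (.node (.node (.node (.node (.leaf 8585802) (.leaf 6555602)) (.node (.leaf 22956432) (.leaf 742812))) (.node (.node (.leaf 14259922) (.leaf 27122426)) (.node (.leaf 14850036) (.leaf 23742025)))) (.node (.node (.node (.leaf 29757074) (.leaf 4888278)) (.node (.leaf 1983924) (.leaf 18063622))) (.node (.node (.leaf 22467768) (.leaf 11509378)) (.node (.leaf 28843978) (.leaf 1889168)))))))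

/-- A point of the block, part 337. -/
def ptCodePart337 : Janko1.Tree ℕ := (.node (.node (.node (.node (.node (.node (.leaf 22582792) (.leaf 737498)) (.node (.leaf 28088996) (.leaf 29753476))) (.node (.node (.leaf 29577524) (.leaf 98424)) (.node (.leaf 444393) (.leaf 8686852)))) (.node (.node (.node (.leaf 17963352) (.leaf 18484088)) (.node (.leaf 29035036) (.leaf 2072158))) (.node (.node (.leaf 15784664) (.leaf 102962)) (.node (.leaf 35308446) (.leaf 721954))))) (.node (.node (.node (.node (.leaf 4444869) (.leaf 18519900)) (.node (.leaf 13361158) (.leaf 21307154))) (.node (.node (.leaf 8653669) (.leaf 30331921)) (.node (.leaf 7637337) (.leaf 5246912)))) (.node (.node (.node (.leaf 14506078) (.leaf 3179954)) (.node (.leaf 7807348) (.leaf 15451230))) (.node (.node (.leaf 8347868) (.leaf 20188436)) (.node (.leaf 3771168) (.leaf 35193330)))))) (.node (.node (.node (.node (.node (.leaf 5904674) (.leaf 13261684)) (.node (.leaf 7637357) (.leaf 1148516))) (.node (.node (.leaf 18023438) (.leaf 450930)) (.node (.leaf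 27465488) (.leaf 182022)))) (.node (.node (.node (.leaf 26248420) (.leaf 1188049)) (.node (.leaf 12736704) (.leaf 14500881))) (.node (.node (.leaf 29579194) (.leaf 28852305)) (.node (.leaf 17368329) (.leaf 30465034))))) (.node (.node (.node (.node (.leaf 5030421) (.leaf 1182066)) (.node (.leaf 28857824) (.leaf 4460405))) (.node (.node (.leaf 22580765) (.leaf 29639134)) (.node (.leaf 3774454) (.leaf 31741173)))) (.node (.node (.node (.leaf 19406274) (.leaf 5901201)) (.node (.leaf 34118012) (.leaf 13224462))) (.node (.node (.leaf 22728753) (.leaf 34116810)) (.node (.leaf 14846614) (.leaf 27120689)))))))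

/-- A point of the block, part 338. -/
def ptCodePart338 : Janko1.Tree ℕ := (.node (.node (.node (.node (.node (.node (.leaf 20336082) (.leaf 25725133)) (.node (.leaf 20142312) (.leaf 4463981))) (.node (.node (.leaf 24875300) (.leaf 26103609)) (.node (.leaf 18386425) (.leaf 12735729)))) (.node (.node (.node (.leaf 3775180) (.leaf 9638112)) (.node (.leaf 34510292) (.leaf 29558756))) (.node (.node (.leaf 33855514) (.leaf 22960482)) (.node (.leaf 21487196) (.leaf 9132141))))) (.node (.node (.node (.node (.leaf 19628194) (.leaf 17702830)) (.node (.leaf 12127194) (.leaf 3807670))) (.node (.node (.leaf 5394805) (.leaf 9493488)) (.node (.leaf 30331945) (.leaf 9754385)))) (.node (.node (.node (.leaf 22467776) (.leaf 10441382)) (.node (.leaf 19842569) (.leaf 2020216))) (.node (.node (.leaf 22585582) (.leaf 26107884)) (.node (.leaf 9638189) (.leaf 34117874)))))) (.node (.node (.node (.node (.node (.leaf 23469397) (.leaf 3349433)) (.node (.leaf 28855352) (.leaf 1147326))) (.node (.node (.leaf 34299452) (.leaf 14650645))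 (.node (.leaf 10112526) (.leaf 35200885)))) (.node (.node (.node (.leaf 19848300) (.leaf 30448366)) (.node (.leaf 13900761) (.leaf 2218418))) (.node (.node (.leaf 8738156) (.leaf 19763301)) (.node (.leaf 29638896) (.leaf 32555933))))) (.node (.node (.node (.node (.leaf 17421845) (.leaf 692837)) (.node (.leaf 11373250) (.leaf 33852526))) (.node (.node (.leaf 18470954) (.leaf 6018729)) (.node (.leaf 10214116) (.leaf 25707342)))) (.node (.node (.node (.leaf 21479588) (.leaf 5032610)) (.node (.leaf 5134218) (.leaf 15453085))) (.node (.node (.leaf 25723837) (.leaf 24140984)) (.node (.leaf 31310057) (.leaf 24431805)))))))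

/-- A point of the block, part 339. -/
def ptCodePart339 : Janko1.Tree ℕ := (.node (.node (.node (.node (.node (.node (.leaf 19399116) (.leaf 2015384)) (.node (.leaf 33758396) (.leaf 28036402))) (.node (.node (.leaf 20139294) (.leaf 24140692)) (.node (.leaf 24430300) (.leaf 25727305)))) (.node (.node (.node (.leaf 30445465) (.leaf 30461592)) (.node (.leaf 28089666) (.leaf 28089234))) (.node (.node (.leaf 28858041) (.leaf 34113212)) (.node (.leaf 29576306) (.leaf 7751933))))) (.node (.node (.node (.node (.leaf 17533992) (.leaf 34295152)) (.node (.leaf 2070526) (.leaf 30049016))) (.node (.node (.leaf 20861936) (.leaf 8688574)) (.node (.leaf 26104990) (.leaf 28034648)))) (.node (.node (.node (.leaf 21483209) (.leaf 2219758)) (.node (.leaf 30562289) (.leaf 26461357))) (.node (.node (.leaf 27122134) (.leaf 11652506)) (.node (.leaf 2017177) (.leaf 1674362)))))) (.node (.node (.node (.node (.node (.leaf 26251150) (.leaf 4889390)) (.node (.leaf 5391230) (.leaf 8590857))) (.node (.node (.leaf 33456949) (.leaf 29035838))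 (.node (.leaf 34251081) (.leaf 11714624)))) (.node (.node (.node (.leaf 24432257) (.leaf 17682228)) (.node (.leaf 12735760) (.leaf 31741706))) (.node (.node (.leaf 6019368) (.leaf 32870657)) (.node (.leaf 30559764) (.leaf 9130429))))) (.node (.node (.node (.node (.leaf 25711420) (.leaf 33805622)) (.node (.leaf 32872113) (.leaf 26468074))) (.node (.node (.leaf 10113977) (.leaf 34230353)) (.node (.leaf 443213) (.leaf 5246026)))) (.node (.node (.node (.leaf 20335196) (.leaf 8690832)) (.node (.leaf 1182926) (.leaf 27464758))) (.node (.node (.leaf 9308092) (.leaf 14847514)) (.node (.leaf 30449342) (.leaf 26247496)))))))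

/-- A point of the block, part 340. -/
def ptCodePart340 : Janko1.Tree ℕ := (.node (.node (.node (.node (.node (.node (.leaf 3774289) (.leaf 11714914)) (.node (.leaf 30837405) (.leaf 24436933))) (.node (.node (.leaf 1674032) (.leaf 5136514)) (.node (.leaf 34114250) (.leaf 25599437)))) (.node (.node (.node (.leaf 3349208) (.leaf 6144692)) (.node (.leaf 13716732) (.leaf 33462670))) (.node (.node (.leaf 34512914) (.leaf 30441698)) (.node (.leaf 8814712) (.leaf 7751993))))) (.node (.node (.node (.node (.leaf 15454420) (.leaf 27119273)) (.node (.leaf 34462920) (.leaf 18061082))) (.node (.node (.leaf 10214682) (.leaf 33998764)) (.node (.leaf 31738788) (.leaf 6555901)))) (.node (.node (.node (.leaf 3446157) (.leaf 19400590)) (.node (.leaf 22955714) (.leaf 19766002))) (.node (.node (.leaf 21529448) (.leaf 30399421)) (.node (.leaf 9312886) (.leaf 13894386)))))) (.node (.node (.node (.node (.node (.leaf 23743758) (.leaf 6901652)) (.node (.leaf 17533064) (.leaf 2072330))) (.node (.node (.leaf 35330093) (.leaf 24875760))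 (.node (.leaf 24872392) (.leaf 33801188)))) (.node (.node (.node (.leaf 14897653) (.leaf 9493837)) (.node (.leaf 8589348) (.leaf 3005582))) (.node (.node (.leaf 2217340) (.leaf 32561394)) (.node (.leaf 17916109) (.leaf 35195216))))) (.node (.node (.node (.node (.leaf 8294614) (.leaf 27468205)) (.node (.leaf 8343282) (.leaf 18385285))) (.node (.node (.leaf 8552997) (.leaf 8739121)) (.node (.leaf 22582668) (.leaf 34294984)))) (.node (.node (.node (.leaf 33806973) (.leaf 29040580)) (.node (.leaf 34227638) (.leaf 19632582))) (.node (.node (.leaf 24877764) (.leaf 20340385)) (.node (.leaf 5245650) (.leaf 11870102)))))))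

/-- A point of the block, part 341. -/
def ptCodePart341 : Janko1.Tree ℕ := (.node (.node (.node (.node (.node (.node (.leaf 19634754) (.leaf 15781152)) (.node (.leaf 9126872) (.leaf 1985076))) (.node (.node (.leaf 8692097) (.leaf 13229690)) (.node (.leaf 5902641) (.leaf 26255040)))) (.node (.node (.node (.leaf 9748761) (.leaf 4446708)) (.node (.leaf 2020962) (.leaf 6017593))) (.node (.node (.leaf 32563430) (.leaf 3003590)) (.node (.leaf 5133978) (.leaf 18520236))))) (.node (.node (.node (.node (.leaf 35309552) (.leaf 8656356)) (.node (.leaf 27122596) (.leaf 12436796))) (.node (.node (.leaf 32560908) (.leaf 8081697)) (.node (.leaf 17713290) (.leaf 24433774)))) (.node (.node (.node (.leaf 18061625) (.leaf 23466392)) (.node (.leaf 19632444) (.leaf 32557362))) (.node (.node (.leaf 10211049) (.leaf 34461906)) (.node (.leaf 21535268) (.leaf 727557)))))) (.node (.node (.node (.node (.node (.leaf 8080800) (.leaf 11657600)) (.node (.leaf 33851176) (.leaf 1151490))) (.node (.node (.leaf 19399190) (.leaf 35195954))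 (.node (.leaf 8822938) (.leaf 24712818)))) (.node (.node (.node (.leaf 1678065) (.leaf 22465877)) (.node (.leaf 18351146) (.leaf 2999953))) (.node (.node (.leaf 34095524) (.leaf 8556886)) (.node (.leaf 8653057) (.leaf 8740490))))) (.node (.node (.node (.node (.leaf 5391266) (.leaf 30559001)) (.node (.leaf 11653030) (.leaf 29755002))) (.node (.node (.leaf 18515828) (.leaf 9130469)) (.node (.leaf 13898701) (.leaf 18466749)))) (.node (.node (.node (.leaf 1892674) (.leaf 8655212)) (.node (.leaf 1183306) (.leaf 102424))) (.node (.node (.leaf 17911677) (.leaf 8345398)) (.node (.leaf 1153929) (.leaf 25215530)))))))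

/-- A point of the block, part 342. -/
def ptCodePart342 : Janko1.Tree ℕ := (.node (.node (.node (.node (.node (.node (.leaf 18482265) (.leaf 18357070)) (.node (.leaf 20025413) (.leaf 22464180))) (.node (.node (.leaf 29033630) (.leaf 22727065)) (.node (.leaf 21486470) (.leaf 22957969)))) (.node (.node (.node (.leaf 19403658) (.leaf 20139577)) (.node (.leaf 13472956) (.leaf 7802572))) (.node (.node (.leaf 4444029) (.leaf 4888602)) (.node (.leaf 7800946) (.leaf 24878118))))) (.node (.node (.node (.node (.leaf 33462954) (.leaf 17417713)) (.node (.leaf 104286) (.leaf 14849014))) (.node (.node (.leaf 20191414) (.leaf 8739441)) (.node (.leaf 3182236) (.leaf 18683080)))) (.node (.node (.node (.leaf 25709880) (.leaf 18484110)) (.node (.leaf 17961588) (.leaf 444641))) (.node (.node (.leaf 2066814) (.leaf 15784233)) (.node (.leaf 1589278) (.leaf 22599913)))))) (.node (.node (.node (.node (.node (.leaf 32868042) (.leaf 25707086)) (.node (.leaf 12438844) (.leaf 18357884))) (.node (.node (.leaf 1596424) (.leaf 27464510))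 (.node (.leaf 22726969) (.leaf 23429497)))) (.node (.node (.node (.leaf 34146602) (.leaf 28147741)) (.node (.leaf 35312101) (.leaf 18486148))) (.node (.node (.leaf 6393982) (.leaf 33458693)) (.node (.leaf 187906) (.leaf 20863564))))) (.node (.node (.node (.node (.leaf 2214514) (.leaf 18521432)) (.node (.leaf 10374162) (.leaf 22732549))) (.node (.node (.leaf 24321788) (.leaf 30838181)) (.node (.leaf 34151202) (.leaf 34294065)))) (.node (.node (.node (.leaf 14503662) (.leaf 29639534)) (.node (.leaf 34248850) (.leaf 20192392))) (.node (.node (.leaf 14653060) (.leaf 19842261)) (.node (.leaf 34298241) (.leaf 17700914)))))))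

/-- A point of the block, part 343. -/
def ptCodePart343 : Janko1.Tree ℕ := (.node (.node (.node (.node (.node (.node (.leaf 11509166) (.leaf 20632554)) (.node (.leaf 774276) (.leaf 19764420))) (.node (.node (.leaf 9310921) (.leaf 13359498)) (.node (.leaf 18681225) (.leaf 24320522)))) (.node (.node (.node (.leaf 3804672) (.leaf 6018520)) (.node (.leaf 25843160) (.leaf 14254396))) (.node (.node (.leaf 1676948) (.leaf 4889406)) (.node (.leaf 13259473) (.leaf 20026318))))) (.node (.node (.node (.node (.leaf 8080238) (.leaf 21484066)) (.node (.leaf 17715356) (.leaf 22464736))) (.node (.node (.leaf 13720290) (.leaf 3805965)) (.node (.leaf 33851592) (.leaf 24544701)))) (.node (.node (.node (.leaf 19369641) (.leaf 30837128)) (.node (.leaf 28841856) (.leaf 23863438))) (.node (.node (.leaf 6148234) (.leaf 1064973)) (.node (.leaf 18055418) (.leaf 29591062)))))) (.node (.node (.node (.node (.node (.leaf 739154) (.leaf 778424)) (.node (.leaf 35332034) (.leaf 24711285))) (.node (.node (.leaf 30053137) (.leaf 35308116))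 (.node (.leaf 19848878) (.leaf 9216153)))) (.node (.node (.node (.leaf 17532454) (.leaf 30461301)) (.node (.leaf 5134793) (.leaf 11656761))) (.node (.node (.leaf 33756680) (.leaf 10110089)) (.node (.leaf 12439242) (.leaf 5903045))))) (.node (.node (.node (.node (.leaf 18681988) (.leaf 12131722)) (.node (.leaf 15457774) (.leaf 28036328))) (.node (.node (.leaf 18683252) (.leaf 34510054)) (.node (.leaf 11375501) (.leaf 5030061)))) (.node (.node (.node (.leaf 3446516) (.leaf 10999870)) (.node (.leaf 1132998) (.leaf 34002008))) (.node (.node (.leaf 9488634) (.leaf 5398044)) (.node (.leaf 29580802) (.leaf 28085198)))))))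

/-- A point of the block, part 344. -/
def ptCodePart344 : Janko1.Tree ℕ := (.node (.node (.node (.node (.node (.node (.leaf 14503006) (.leaf 5906285)) (.node (.leaf 22961945) (.leaf 14274368))) (.node (.node (.leaf 34299904) (.leaf 1070644)) (.node (.leaf 6558742) (.leaf 18683236)))) (.node (.node (.node (.leaf 181500) (.leaf 9638225)) (.node (.leaf 6556354) (.leaf 13717294))) (.node (.node (.leaf 28840937) (.leaf 22597060)) (.node (.leaf 14893452) (.leaf 25725229))))) (.node (.node (.node (.node (.leaf 20192914) (.leaf 30557401)) (.node (.leaf 1185218) (.leaf 25711662))) (.node (.node (.leaf 9213612) (.leaf 24709350)) (.node (.leaf 19710032) (.leaf 1984149)))) (.node (.node (.node (.leaf 14650665) (.leaf 6146486)) (.node (.leaf 8555604) (.leaf 18466222))) (.node (.node (.leaf 19403588) (.leaf 23436349)) (.node (.leaf 11651181) (.leaf 20627534)))))) (.node (.node (.node (.node (.node (.leaf 28855916) (.leaf 31737981)) (.node (.leaf 22204697) (.leaf 23400877))) (.node (.node (.leaf 25418725) (.leaf 15632281))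 (.node (.leaf 7363114) (.leaf 8655242)))) (.node (.node (.node (.leaf 1168952) (.leaf 21287440)) (.node (.leaf 24860436) (.leaf 33330778))) (.node (.node (.leaf 8657908) (.leaf 29180134)) (.node (.leaf 31967484) (.leaf 20254238))))) (.node (.node (.node (.node (.leaf 33900628) (.leaf 31655161)) (.node (.leaf 26723810) (.leaf 15031841))) (.node (.node (.leaf 23613221) (.leaf 5282532)) (.node (.leaf 20747994) (.leaf 2049728)))) (.node (.node (.node (.leaf 20585733) (.leaf 25679185)) (.node (.leaf 16580633) (.leaf 4457726))) (.node (.node (.leaf 23609546) (.leaf 6101290)) (.node (.leaf 31102144) (.leaf 34296217)))))))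

/-- A point of the block, part 345. -/
def ptCodePart345 : Janko1.Tree ℕ := (.node (.node (.node (.node (.node (.node (.leaf 16583930) (.leaf 2510233)) (.node (.leaf 26724296) (.leaf 34659618))) (.node (.node (.leaf 17293248) (.leaf 20598088)) (.node (.leaf 6395260) (.leaf 34491540)))) (.node (.node (.node (.leaf 8655194) (.leaf 7050078)) (.node (.leaf 3789548) (.leaf 9881025))) (.node (.node (.leaf 1348644) (.leaf 15031629)) (.node (.leaf 34490348) (.leaf 17057278))))) (.node (.node (.node (.node (.leaf 29197732) (.leaf 30770014)) (.node (.leaf 205072) (.leaf 31660978))) (.node (.node (.leaf 27315198) (.leaf 8199453)) (.node (.leaf 33771676) (.leaf 2758434)))) (.node (.node (.node (.leaf 27154782) (.leaf 23396724)) (.node (.leaf 8819024) (.leaf 20745604))) (.node (.node (.leaf 32606617) (.leaf 29203416)) (.node (.leaf 1169025) (.leaf 33097906)))))) (.node (.node (.node (.node (.node (.leaf 4931628) (.leaf 7049740)) (.node (.leaf 2755662) (.leaf 13982308))) (.node (.node (.leaf 33742740) (.leaf 15500842))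 (.node (.leaf 19356652) (.leaf 21829418)))) (.node (.node (.node (.leaf 16959533) (.leaf 26730761)) (.node (.leaf 12861705) (.leaf 24743592))) (.node (.node (.leaf 10852597) (.leaf 29497881)) (.node (.leaf 17241301) (.leaf 21945897))))) (.node (.node (.node (.node (.leaf 11276108) (.leaf 34541901)) (.node (.leaf 30688493) (.leaf 1167216))) (.node (.node (.leaf 16958461) (.leaf 4461064)) (.node (.leaf 21518233) (.leaf 34166634)))) (.node (.node (.node (.leaf 14879521) (.leaf 20304198)) (.node (.leaf 20856840) (.leaf 15620668))) (.node (.node (.leaf 9634452) (.leaf 8029936)) (.node (.leaf 5672637) (.leaf 2756924)))))))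

/-- A point of the block, part 346. -/
def ptCodePart346 : Janko1.Tree ℕ := (.node (.node (.node (.node (.node (.node (.leaf 32494988) (.leaf 25223397)) (.node (.leaf 12852286) (.leaf 11722048))) (.node (.node (.leaf 25730869) (.leaf 5671768)) (.node (.leaf 14884638) (.leaf 11276784)))) (.node (.node (.node (.leaf 29497778) (.leaf 9674748)) (.node (.leaf 13982381) (.leaf 6080058))) (.node (.node (.leaf 16325149) (.leaf 199965)) (.node (.leaf 19404888) (.leaf 83993))))) (.node (.node (.node (.node (.leaf 21827534) (.leaf 10263465)) (.node (.leaf 6653964) (.leaf 29186086))) (.node (.node (.leaf 34231057) (.leaf 22513984)) (.node (.leaf 5440021) (.leaf 2048105)))) (.node (.node (.node (.leaf 19110781) (.leaf 4461501)) (.node (.leaf 9193490) (.leaf 30638721))) (.node (.node (.leaf 6081480) (.leaf 10722278)) (.node (.leaf 9112041) (.leaf 10718678)))))) (.node (.node (.node (.node (.node (.leaf 25413976) (.leaf 26411605)) (.node (.leaf 709578) (.leaf 26484709))) (.node (.node (.leaf 22629228) (.leaf 34768096))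 (.node (.leaf 6081258) (.leaf 31659742)))) (.node (.node (.node (.leaf 10849366) (.leaf 18059362)) (.node (.leaf 19354904) (.leaf 4082813))) (.node (.node (.leaf 10849877) (.leaf 24862580)) (.node (.leaf 23173242) (.leaf 15619442))))) (.node (.node (.node (.node (.leaf 17244386) (.leaf 6654608)) (.node (.leaf 14423061) (.leaf 3213350))) (.node (.node (.leaf 32605094) (.leaf 30693058)) (.node (.leaf 24862882) (.leaf 23075570)))) (.node (.node (.node (.leaf 5439941) (.leaf 2425597)) (.node (.leaf 641965) (.leaf 33342160))) (.node (.node (.leaf 29499393) (.leaf 10717132)) (.node (.leaf 15502413) (.leaf 34299712)))))))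

/-- A point of the block, part 347. -/
def ptCodePart347 : Janko1.Tree ℕ := (.node (.node (.node (.node (.node (.node (.leaf 6084332) (.leaf 23617825)) (.node (.leaf 33294965) (.leaf 9671550))) (.node (.node (.leaf 7049964) (.leaf 9882806)) (.node (.leaf 12259996) (.leaf 29049600)))) (.node (.node (.node (.leaf 5280561) (.leaf 22993118)) (.node (.leaf 22993022) (.leaf 15016346))) (.node (.node (.leaf 6654592) (.leaf 31279537)) (.node (.leaf 4063597) (.leaf 18500024))))) (.node (.node (.node (.node (.leaf 23074886) (.leaf 25985533)) (.node (.leaf 9197398) (.leaf 25417349))) (.node (.node (.leaf 13553266) (.leaf 2219800)) (.node (.leaf 3215174) (.leaf 19358050)))) (.node (.node (.node (.leaf 14554474) (.leaf 7472776)) (.node (.leaf 12263248) (.leaf 32605662))) (.node (.node (.leaf 15619170) (.leaf 20596765)) (.node (.leaf 26500994) (.leaf 27155741)))))) (.node (.node (.node (.node (.node (.leaf 25024197) (.leaf 20252569)) (.node (.leaf 20578564) (.leaf 9752238))) (.node (.node (.leaf 35030644) (.leaf 35029408))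 (.node (.leaf 4068600) (.leaf 8035654)))) (.node (.node (.node (.leaf 31103918) (.leaf 1000082)) (.node (.leaf 4051528) (.leaf 33328756))) (.node (.node (.leaf 12263328) (.leaf 29186464)) (.node (.leaf 8454308) (.leaf 24168186))))) (.node (.node (.node (.node (.leaf 953657) (.leaf 954480)) (.node (.leaf 6824348) (.leaf 12927380))) (.node (.node (.leaf 17289165) (.leaf 2479769)) (.node (.leaf 9274950) (.leaf 32489908)))) (.node (.node (.node (.leaf 20256714) (.leaf 10323265)) (.node (.leaf 9634401) (.leaf 24167598))) (.node (.node (.leaf 20581712) (.leaf 24172120)) (.node (.leaf 23464621) (.leaf 17926373)))))))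

/-- A point of the block, part 348. -/
def ptCodePart348 : Janko1.Tree ℕ := (.node (.node (.node (.node (.node (.node (.leaf 9886446) (.leaf 30769886)) (.node (.leaf 16965856) (.leaf 12273200))) (.node (.node (.leaf 19110020) (.leaf 6082293)) (.node (.leaf 33901908) (.leaf 31968312)))) (.node (.node (.node (.leaf 17488697) (.leaf 12931812)) (.node (.leaf 15499561) (.leaf 5775629))) (.node (.node (.leaf 26501432) (.leaf 25679742)) (.node (.leaf 21290681) (.leaf 20908146))))) (.node (.node (.node (.node (.leaf 5673510) (.leaf 17305082)) (.node (.leaf 32659473) (.leaf 29496432))) (.node (.node (.leaf 21567560) (.leaf 17485129)) (.node (.leaf 3212614) (.leaf 2477794)))) (.node (.node (.node (.leaf 2262929) (.leaf 26419106)) (.node (.leaf 31967572) (.leaf 20909017))) (.node (.node (.leaf 17485009) (.leaf 21568086)) (.node (.leaf 21826208) (.leaf 25221600)))))) (.node (.node (.node (.node (.node (.leaf 35037146) (.leaf 29510698)) (.node (.leaf 20862194) (.leaf 4366781))) (.node (.node (.leaf 25026624) (.leaf 33296330))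 (.node (.leaf 5278228) (.leaf 15032168)))) (.node (.node (.node (.leaf 647470) (.leaf 17482297)) (.node (.leaf 9277792) (.leaf 33903362))) (.node (.node (.leaf 3626380) (.leaf 574409)) (.node (.leaf 8259770) (.leaf 31971618))))) (.node (.node (.node (.node (.leaf 13550522) (.leaf 33341940)) (.node (.leaf 20862344) (.leaf 8029902))) (.node (.node (.leaf 2433122) (.leaf 21218301)) (.node (.leaf 9882954) (.leaf 20912545)))) (.node (.node (.node (.leaf 2753709) (.leaf 22995281)) (.node (.leaf 16325338) (.leaf 10263621))) (.node (.node (.leaf 10326517) (.leaf 15729229)) (.node (.leaf 17287665) (.leaf 7358789)))))))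

/-- A point of the block, part 349. -/
def ptCodePart349 : Janko1.Tree ℕ := (.node (.node (.node (.node (.node (.node (.leaf 30775914) (.leaf 32653625)) (.node (.leaf 21291420) (.leaf 23174961))) (.node (.node (.leaf 26494736) (.leaf 22813165)) (.node (.leaf 25682041) (.leaf 9671546)))) (.node (.node (.node (.leaf 23469317) (.leaf 22206774)) (.node (.leaf 25675444) (.leaf 32606190))) (.node (.node (.leaf 27316864) (.leaf 18505396)) (.node (.leaf 6100258) (.leaf 15502290))))) (.node (.node (.node (.node (.leaf 34545117) (.leaf 33325818)) (.node (.leaf 29055288) (.leaf 9672592))) (.node (.node (.leaf 33104248) (.leaf 8145130)) (.node (.leaf 18810004) (.leaf 5853892)))) (.node (.node (.node (.leaf 7577617) (.leaf 8032097)) (.node (.leaf 15013341) (.leaf 9198516))) (.node (.node (.leaf 4081330) (.leaf 25403533)) (.node (.leaf 15635289) (.leaf 89810)))))) (.node (.node (.node (.node (.node (.leaf 9192608) (.leaf 7474234)) (.node (.leaf 34232260) (.leaf 32495577))) (.node (.node (.leaf 6300044) (.leaf 8454536))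 (.node (.leaf 20306794) (.leaf 7570153)))) (.node (.node (.node (.leaf 580240) (.leaf 2055246)) (.node (.leaf 27153033) (.leaf 15030740))) (.node (.node (.leaf 9887850) (.leaf 6099213)) (.node (.leaf 9668305) (.leaf 26730565))))) (.node (.node (.node (.node (.leaf 8199809) (.leaf 4366549)) (.node (.leaf 23398973) (.leaf 4079636))) (.node (.node (.leaf 19407034) (.leaf 9638373)) (.node (.leaf 24172268) (.leaf 7477784)))) (.node (.node (.node (.leaf 33737606) (.leaf 14551128)) (.node (.leaf 20910432) (.leaf 32496596))) (.node (.node (.leaf 17929210) (.leaf 2512274)) (.node (.leaf 4363513) (.leaf 2475410)))))))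

/-- A point of the block, part 350. -/
def ptCodePart350 : Janko1.Tree ℕ := (.node (.node (.node (.node (.node (.node (.leaf 29510477) (.leaf 33737769)) (.node (.leaf 34657846) (.leaf 34543632))) (.node (.node (.leaf 17291877) (.leaf 5857673)) (.node (.leaf 15504821) (.leaf 31281266)))) (.node (.node (.node (.leaf 4360292) (.leaf 15025510)) (.node (.leaf 4937748) (.leaf 26416818))) (.node (.node (.leaf 5277674) (.leaf 25022793)) (.node (.leaf 20863782) (.leaf 22518949))))) (.node (.node (.node (.node (.leaf 14420652) (.leaf 17242300)) (.node (.leaf 31379546) (.leaf 19405425))) (.node (.node (.leaf 4071861) (.leaf 7471521)) (.node (.leaf 2754785) (.leaf 34768956)))) (.node (.node (.node (.leaf 10854318) (.leaf 630585)) (.node (.leaf 641474) (.leaf 25729306))) (.node (.node (.leaf 6395961) (.leaf 11716038)) (.node (.leaf 19402773) (.leaf 16583972)))))) (.node (.node (.node (.node (.node (.leaf 23463700) (.leaf 34774257)) (.node (.leaf 9884300) (.leaf 22994404))) (.node (.node (.leaf 3785750) (.leaf 18503145))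 (.node (.leaf 23396926) (.leaf 9753725)))) (.node (.node (.node (.leaf 32442409) (.leaf 2052106)) (.node (.leaf 16589228) (.leaf 19942388))) (.node (.node (.leaf 1348042) (.leaf 16957632)) (.node (.leaf 2212134) (.leaf 30688584))))) (.node (.node (.node (.node (.leaf 3627722) (.leaf 33773940)) (.node (.leaf 6103334) (.leaf 623044))) (.node (.node (.leaf 6291938) (.leaf 643641)) (.node (.leaf 21825408) (.leaf 33342208)))) (.node (.node (.node (.leaf 6578254) (.leaf 82961)) (.node (.leaf 22628801) (.leaf 29499077))) (.node (.node (.leaf 25725224) (.leaf 18814654)) (.node (.leaf 26351006) (.leaf 957541)))))))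

/-- A point of the block, part 351. -/
def ptCodePart351 : Janko1.Tree ℕ := (.node (.node (.node (.node (.node (.node (.leaf 10328240) (.leaf 11208293)) (.node (.leaf 25023624) (.leaf 7359346))) (.node (.node (.leaf 33294336) (.leaf 16095698)) (.node (.leaf 12864064) (.leaf 22072400)))) (.node (.node (.node (.leaf 33472900) (.leaf 21562805)) (.node (.leaf 4365282) (.leaf 14425834))) (.node (.node (.leaf 7963928) (.leaf 2212190)) (.node (.leaf 8147309) (.leaf 24744152))))) (.node (.node (.node (.node (.leaf 17060393) (.leaf 8651124)) (.node (.leaf 5673369) (.leaf 30770772))) (.node (.node (.leaf 22630649) (.leaf 8193605)) (.node (.leaf 708193) (.leaf 4085737)))) (.node (.node (.node (.leaf 30695033) (.leaf 21517332)) (.node (.leaf 18647005) (.leaf 88666))) (.node (.node (.leaf 28463802) (.leaf 9277613)) (.node (.leaf 34658617) (.leaf 33476485)))))) (.node (.node (.node (.node (.node (.leaf 17236200) (.leaf 7049298)) (.node (.leaf 15729468) (.leaf 1003876))) (.node (.node (.leaf 25024273) (.leaf 21516989))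 (.node (.leaf 5276128) (.leaf 5278748)))) (.node (.node (.node (.leaf 6574905) (.leaf 6658470)) (.node (.leaf 22208368) (.leaf 31378249))) (.node (.node (.leaf 9750892) (.leaf 20743684)) (.node (.leaf 34773622) (.leaf 12934169))))) (.node (.node (.node (.node (.leaf 2215309) (.leaf 16323241)) (.node (.leaf 30777445) (.leaf 12868790))) (.node (.node (.leaf 951908) (.leaf 1001968)) (.node (.leaf 12277716) (.leaf 627122)))) (.node (.node (.node (.leaf 9640416) (.leaf 25319504)) (.node (.leaf 31383074) (.leaf 7570046))) (.node (.node (.leaf 17305549) (.leaf 9686862)) (.node (.leaf 17303982) (.leaf 957638)))))))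

/-- A point of the block, part 352. -/
def ptCodePart352 : Janko1.Tree ℕ := (.node (.node (.node (.node (.node (.node (.leaf 8818522) (.leaf 9640770)) (.node (.leaf 22990840) (.leaf 26500633))) (.node (.node (.leaf 10259225) (.leaf 34489582)) (.node (.leaf 24748257) (.leaf 19104510)))) (.node (.node (.node (.leaf 6086220) (.leaf 25988909)) (.node (.leaf 4071161) (.leaf 7966394))) (.node (.node (.leaf 16962165) (.leaf 5769848)) (.node (.leaf 8820568) (.leaf 22987658))))) (.node (.node (.node (.node (.leaf 23610030) (.leaf 16323550)) (.node (.leaf 32610937) (.leaf 13770226))) (.node (.node (.leaf 35029912) (.leaf 17487972)) (.node (.leaf 4052973) (.leaf 3787745)))) (.node (.node (.node (.leaf 14878030) (.leaf 9887858)) (.node (.leaf 6101324) (.leaf 21514994))) (.node (.node (.leaf 21561700) (.leaf 32497086)) (.node (.leaf 31660936) (.leaf 11715937)))))) (.node (.node (.node (.node (.node (.leaf 34541469) (.leaf 5849344)) (.node (.leaf 15007886) (.leaf 22077394))) (.node (.node (.leaf 27320556) (.leaf 16964400))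 (.node (.leaf 26729096) (.leaf 25223584)))) (.node (.node (.node (.leaf 31383106) (.leaf 9274970)) (.node (.leaf 5775101) (.leaf 7361985))) (.node (.node (.leaf 2514401) (.leaf 34168804)) (.node (.leaf 22207374) (.leaf 14882126))))) (.node (.node (.node (.node (.leaf 6096870) (.leaf 7359330)) (.node (.leaf 16096862) (.leaf 14556038))) (.node (.node (.leaf 27156844) (.leaf 3020206)) (.node (.leaf 4932337) (.leaf 4065718)))) (.node (.node (.node (.leaf 20863900) (.leaf 27313940)) (.node (.leaf 20251506) (.leaf 8028752))) (.node (.node (.leaf 9684684) (.leaf 6395281)) (.node (.leaf 4937625) (.leaf 10257576)))))))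

/-- A point of the block, part 353. -/
def ptCodePart353 : Janko1.Tree ℕ := (.node (.node (.node (.node (.node (.node (.leaf 3628504) (.leaf 17489812)) (.node (.leaf 8033937) (.leaf 35034764))) (.node (.node (.leaf 26727406) (.leaf 1171153)) (.node (.leaf 34704250) (.leaf 22811097)))) (.node (.node (.node (.leaf 1345900) (.leaf 13771070)) (.node (.leaf 22627178) (.leaf 33299576))) (.node (.node (.leaf 14882644) (.leaf 706112)) (.node (.leaf 23172794) (.leaf 33477570))))) (.node (.node (.node (.node (.leaf 20257398) (.leaf 8264912)) (.node (.leaf 25728096) (.leaf 3791240))) (.node (.node (.leaf 25731068) (.leaf 22629664)) (.node (.leaf 220401) (.leaf 33102681)))) (.node (.node (.node (.leaf 33296889) (.leaf 4934977)) (.node (.leaf 12274794) (.leaf 5280990))) (.node (.node (.leaf 6575245) (.leaf 32657072)) (.node (.leaf 32445566) (.leaf 11714890)))))) (.node (.node (.node (.node (.node (.leaf 17286634) (.leaf 3219196)) (.node (.leaf 708062) (.leaf 1352078))) (.node (.node (.leaf 19104994) (.leaf 1348362)) (.node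 (.leaf 5853073) (.leaf 12260116)))) (.node (.node (.node (.leaf 19107004) (.leaf 29056054)) (.node (.leaf 18055641) (.leaf 32609674))) (.node (.node (.leaf 31658109) (.leaf 29511514)) (.node (.leaf 26353824) (.leaf 16323534))))) (.node (.node (.node (.node (.leaf 22073729) (.leaf 19399949)) (.node (.leaf 29203472) (.leaf 2481760))) (.node (.node (.leaf 34231102) (.leaf 20908050)) (.node (.leaf 26494661) (.leaf 12867502)))) (.node (.node (.node (.leaf 26477958) (.leaf 954053)) (.node (.leaf 2515118) (.leaf 21943006))) (.node (.node (.leaf 33906969) (.leaf 13557754)) (.node (.leaf 8199062) (.leaf 30640474)))))))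

/-- A point of the block, part 354. -/
def ptCodePart354 : Janko1.Tree ℕ := (.node (.node (.node (.node (.node (.node (.leaf 2264786) (.leaf 3022433)) (.node (.leaf 26418624) (.leaf 11274117))) (.node (.node (.leaf 13550934) (.leaf 640541)) (.node (.leaf 22514620) (.leaf 15009960)))) (.node (.node (.node (.leaf 9116554) (.leaf 217524)) (.node (.leaf 29203056) (.leaf 1001601))) (.node (.node (.leaf 26347566) (.leaf 19947484)) (.node (.leaf 25674368) (.leaf 19944550))))) (.node (.node (.node (.node (.leaf 11213144) (.leaf 35032844)) (.node (.leaf 576594) (.leaf 7357237))) (.node (.node (.leaf 13977162) (.leaf 25988489)) (.node (.leaf 27149926) (.leaf 15029381)))) (.node (.node (.node (.leaf 6574190) (.leaf 15619793)) (.node (.leaf 4047730) (.leaf 29498114))) (.node (.node (.leaf 22074102) (.leaf 33098204)) (.node (.leaf 8261853) (.leaf 3623324)))))) (.node (.node (.node (.node (.node (.leaf 25314210) (.leaf 34294377)) (.node (.leaf 26729750) (.leaf 3624972))) (.node (.node (.leaf 25320218) (.leaf 28459077))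 (.node (.leaf 23170678) (.leaf 33331969)))) (.node (.node (.node (.leaf 16324392) (.leaf 17055906)) (.node (.leaf 4359141) (.leaf 19940865))) (.node (.node (.leaf 18056570) (.leaf 34493772)) (.node (.leaf 13980194) (.leaf 11206960))))) (.node (.node (.node (.node (.leaf 5283828) (.leaf 14557417)) (.node (.leaf 33349753) (.leaf 29514349))) (.node (.node (.leaf 4069356) (.leaf 9637188)) (.node (.leaf 20602245) (.leaf 17286014)))) (.node (.node (.node (.leaf 4034393) (.leaf 32448678)) (.node (.leaf 8145702) (.leaf 20908389))) (.node (.node (.leaf 17061817) (.leaf 8815748)) (.node (.leaf 30695345) (.leaf 2476622)))))))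

/-- A point of the block, part 355. -/
def ptCodePart355 : Janko1.Tree ℕ := (.node (.node (.node (.node (.node (.node (.leaf 34538046) (.leaf 33772466)) (.node (.leaf 34655376) (.leaf 10718458))) (.node (.node (.leaf 4938817) (.leaf 24861154)) (.node (.leaf 7045533) (.leaf 34702257)))) (.node (.node (.node (.leaf 216884) (.leaf 18502045)) (.node (.leaf 14877557) (.leaf 30640890))) (.node (.node (.leaf 25401569) (.leaf 1165944)) (.node (.leaf 712366) (.leaf 19105018))))) (.node (.node (.node (.node (.leaf 8032268) (.leaf 31279436)) (.node (.leaf 20913508) (.leaf 13769273))) (.node (.node (.leaf 29709390) (.leaf 31280525)) (.node (.leaf 34296204) (.leaf 3628965)))) (.node (.node (.node (.leaf 26349361) (.leaf 31661874)) (.node (.leaf 7966854) (.leaf 20596706))) (.node (.node (.leaf 11719201) (.leaf 28464414)) (.node (.leaf 29709568) (.leaf 8654262)))))) (.node (.node (.node (.node (.node (.leaf 8260564) (.leaf 6653892)) (.node (.leaf 12928577) (.leaf 213524))) (.node (.node (.leaf 8146677) (.leaf 7364850))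 (.node (.leaf 23171809) (.leaf 7051830)))) (.node (.node (.node (.leaf 22200418) (.leaf 84240)) (.node (.leaf 29197840) (.leaf 32490077))) (.node (.node (.leaf 18811289) (.leaf 1002206)) (.node (.leaf 951690) (.leaf 5774797))))) (.node (.node (.node (.node (.leaf 9668898) (.leaf 25021401)) (.node (.leaf 4036405) (.leaf 9194965))) (.node (.node (.leaf 12864958) (.leaf 26497625)) (.node (.leaf 8150516) (.leaf 29202213)))) (.node (.node (.node (.leaf 17058372) (.leaf 31278609)) (.node (.leaf 13770333) (.leaf 26725472))) (.node (.node (.leaf 14420378) (.leaf 8193233)) (.node (.leaf 25400241) (.leaf 15007912)))))))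

/-- A point of the block, part 356. -/
def ptCodePart356 : Janko1.Tree ℕ := (.node (.node (.node (.node (.node (.node (.leaf 31375764) (.leaf 8260592)) (.node (.leaf 31965457) (.leaf 23617314))) (.node (.node (.leaf 6655234) (.leaf 33331189)) (.node (.leaf 28463844) (.leaf 20306762)))) (.node (.node (.node (.leaf 2219272) (.leaf 6103464)) (.node (.leaf 24171725) (.leaf 25221984))) (.node (.node (.leaf 25316072) (.leaf 21568718)) (.node (.leaf 5673920) (.leaf 8148568))))) (.node (.node (.node (.node (.leaf 15638174) (.leaf 6101665)) (.node (.leaf 27150013) (.leaf 16583773))) (.node (.node (.leaf 11278026) (.leaf 17059706)) (.node (.leaf 18811337) (.leaf 33901476)))) (.node (.node (.node (.leaf 9109897) (.leaf 12851006)) (.node (.leaf 31104690) (.leaf 21222218))) (.node (.node (.leaf 15503298) (.leaf 27315277)) (.node (.leaf 22069977) (.leaf 29183404)))))) (.node (.node (.node (.node (.node (.leaf 3786706) (.leaf 17290713)) (.node (.leaf 10328756) (.leaf 30773517))) (.node (.node (.leaf 16322638) (.leaf 9754856))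 (.node (.leaf 26418502) (.leaf 2052300)))) (.node (.node (.node (.leaf 33099770) (.leaf 16580980)) (.node (.leaf 12275488) (.leaf 13764429))) (.node (.node (.leaf 23402790) (.leaf 7360009)) (.node (.leaf 12852170) (.leaf 8260780))))) (.node (.node (.node (.node (.leaf 4082597) (.leaf 20253660)) (.node (.leaf 23615366) (.leaf 5670126))) (.node (.node (.leaf 23464933) (.leaf 8819478)) (.node (.leaf 21514742) (.leaf 12278217)))) (.node (.node (.node (.leaf 10715650) (.leaf 32657064)) (.node (.leaf 2217288) (.leaf 33344018))) (.node (.node (.leaf 14884180) (.leaf 30687330)) (.node (.leaf 8820670) (.leaf 30775124)))))))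

/-- A point of the block, part 357. -/
def ptCodePart357 : Janko1.Tree ℕ := (.node (.node (.node (.node (.node (.node (.leaf 3017874) (.leaf 712257)) (.node (.leaf 33476309) (.leaf 26479176))) (.node (.node (.leaf 16582844) (.leaf 9751616)) (.node (.leaf 30688296) (.leaf 21567381)))) (.node (.node (.node (.leaf 10323328) (.leaf 5674845)) (.node (.leaf 3215945) (.leaf 29711081))) (.node (.node (.leaf 33333621) (.leaf 24744688)) (.node (.leaf 3546658) (.leaf 216228))))) (.node (.node (.node (.node (.leaf 6577390) (.leaf 15028046)) (.node (.leaf 34166252) (.leaf 25418224))) (.node (.node (.leaf 9116317) (.leaf 3015630)) (.node (.leaf 25313868) (.leaf 20599605)))) (.node (.node (.node (.leaf 29051781) (.leaf 33345017)) (.node (.leaf 28463778) (.leaf 2056214))) (.node (.node (.leaf 33295860) (.leaf 25724890)) (.node (.leaf 11213445) (.leaf 30642689)))))) (.node (.node (.node (.node (.node (.leaf 18651124) (.leaf 34709940)) (.node (.leaf 20302046) (.leaf 199886))) (.node (.node (.leaf 6572234) (.leaf 215961)) (.node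 (.leaf 6297878) (.leaf 15008805)))) (.node (.node (.node (.leaf 34774936) (.leaf 6573828)) (.node (.leaf 34160817) (.leaf 34294500))) (.node (.node (.leaf 15736948) (.leaf 7571228)) (.node (.leaf 14883829) (.leaf 25020985))))) (.node (.node (.node (.node (.leaf 8035112) (.leaf 3544742)) (.node (.leaf 34489745) (.leaf 11280813))) (.node (.node (.leaf 579722) (.leaf 21221229)) (.node (.leaf 17926710) (.leaf 1006941)))) (.node (.node (.node (.leaf 18649544) (.leaf 34537954)) (.node (.leaf 4081614) (.leaf 3219421))) (.node (.node (.leaf 32444029) (.leaf 23170201)) (.node (.leaf 34707361) (.leaf 9688100)))))))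

/-- A point of the block, part 358. -/
def ptCodePart358 : Janko1.Tree ℕ := (.node (.node (.node (.node (.node (.node (.leaf 11719990) (.leaf 17932274)) (.node (.leaf 20742349) (.leaf 33770290))) (.node (.node (.leaf 25727006) (.leaf 29707198)) (.node (.leaf 5853932) (.leaf 16582917)))) (.node (.node (.node (.leaf 18652784) (.leaf 25217897)) (.node (.leaf 17063738) (.leaf 12927768))) (.node (.node (.leaf 20586346) (.leaf 999948)) (.node (.leaf 31282105) (.leaf 31283822))))) (.node (.node (.node (.node (.leaf 30639534) (.leaf 25992710)) (.node (.leaf 6577189) (.leaf 12851924))) (.node (.node (.leaf 2055629) (.leaf 2216588)) (.node (.leaf 2753821) (.leaf 34495538)))) (.node (.node (.node (.leaf 5440861) (.leaf 5857161)) (.node (.leaf 31105061) (.leaf 13980081))) (.node (.node (.leaf 9637773) (.leaf 20254777)) (.node (.leaf 18061642) (.leaf 15732944)))))) (.node (.node (.node (.node (.node (.leaf 4033414) (.leaf 23169428)) (.node (.leaf 196608) (.leaf 627433))) (.node (.node (.leaf 576026) (.leaf 7475237)) (.node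 (.leaf 21938540) (.leaf 2267198)))) (.node (.node (.node (.leaf 23404085) (.leaf 6823628)) (.node (.leaf 15730433) (.leaf 30645673))) (.node (.node (.leaf 26498009) (.leaf 6297169)) (.node (.leaf 32448652) (.leaf 8655980))))) (.node (.node (.node (.node (.leaf 20303050) (.leaf 34769786)) (.node (.leaf 25217465) (.leaf 18813313))) (.node (.node (.leaf 23397921) (.leaf 21569969)) (.node (.leaf 2429069) (.leaf 34495357)))) (.node (.node (.node (.leaf 21517654) (.leaf 32441637)) (.node (.leaf 6823980) (.leaf 31661361))) (.node (.node (.leaf 25218876) (.leaf 4079766)) (.node (.leaf 4360932) (.leaf 29182921)))))))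

/-- A point of the block, part 359. -/
def ptCodePart359 : Janko1.Tree ℕ := (.node (.node (.node (.node (.node (.node (.leaf 14554692) (.leaf 19402657)) (.node (.leaf 6654002) (.leaf 18645486))) (.node (.node (.leaf 22994034) (.leaf 31097413)) (.node (.leaf 12260002) (.leaf 9668461)))) (.node (.node (.node (.leaf 12852273) (.leaf 28462281)) (.node (.leaf 21286041) (.leaf 11715122))) (.node (.node (.leaf 24748189) (.leaf 2424872)) (.node (.leaf 10262888) (.leaf 2433260))))) (.node (.node (.node (.node (.leaf 34166726) (.leaf 12866632)) (.node (.leaf 29196621) (.leaf 19105592))) (.node (.node (.leaf 25315609) (.leaf 3545597)) (.node (.leaf 28464993) (.leaf 34493308)))) (.node (.node (.node (.leaf 2479630) (.leaf 22814912)) (.node (.leaf 20910772) (.leaf 18061165))) (.node (.node (.leaf 34655925) (.leaf 22810102)) (.node (.leaf 18647981) (.leaf 9280010)))))) (.node (.node (.node (.node (.node (.leaf 13557484) (.leaf 7576769)) (.node (.leaf 2759326) (.leaf 35035906))) (.node (.node (.leaf 3546965) (.leaf 2511170))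 (.node (.leaf 33775637) (.leaf 12933817)))) (.node (.node (.node (.leaf 9192916) (.leaf 14419892)) (.node (.leaf 10323786) (.leaf 7479700))) (.node (.node (.leaf 26352121) (.leaf 198041)) (.node (.leaf 34162236) (.leaf 21219908))))) (.node (.node (.node (.node (.leaf 2265372) (.leaf 22071918)) (.node (.leaf 33899084) (.leaf 647164))) (.node (.node (.leaf 29204626) (.leaf 6818016)) (.node (.leaf 18810909) (.leaf 6656321)))) (.node (.node (.node (.leaf 25677853) (.leaf 4036313)) (.node (.leaf 31100272) (.leaf 21825308))) (.node (.node (.leaf 1351638) (.leaf 3016545)) (.node (.leaf 4036880) (.leaf 30688012)))))))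

/-- A point of the block, part 360. -/
def ptCodePart360 : Janko1.Tree ℕ := (.node (.node (.node (.node (.node (.node (.leaf 9685244) (.leaf 23399258)) (.node (.leaf 21520649) (.leaf 22513258))) (.node (.node (.leaf 33342072) (.leaf 201145)) (.node (.leaf 16091193) (.leaf 20304194)))) (.node (.node (.node (.leaf 2427590) (.leaf 8820578)) (.node (.leaf 1166229) (.leaf 21220661))) (.node (.node (.leaf 2758350) (.leaf 3212722)) (.node (.leaf 3791102) (.leaf 33348321))))) (.node (.node (.node (.node (.leaf 29508826) (.leaf 34295996)) (.node (.leaf 25023961) (.leaf 21831629))) (.node (.node (.leaf 215412) (.leaf 10260689)) (.node (.leaf 5443453) (.leaf 201193)))) (.node (.node (.node (.leaf 2511048) (.leaf 33327204)) (.node (.leaf 8456137) (.leaf 8257540))) (.node (.node (.leaf 33774324) (.leaf 15617008)) (.node (.leaf 4932088) (.leaf 4363293)))))) (.node (.node (.node (.node (.node (.leaf 26348589) (.leaf 16089108)) (.node (.leaf 1344546) (.leaf 32657341))) (.node (.node (.leaf 34227482) (.leaf 34660309)) (.node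 (.leaf 4065721) (.leaf 33767776)))) (.node (.node (.node (.leaf 15010224) (.leaf 25990425)) (.node (.leaf 10849289) (.leaf 23175316))) (.node (.node (.leaf 6396381) (.leaf 34229248)) (.node (.leaf 34228921) (.leaf 25989637))))) (.node (.node (.node (.node (.leaf 18500128) (.leaf 84858)) (.node (.leaf 13557992) (.leaf 26349084))) (.node (.node (.leaf 25318821) (.leaf 4939565)) (.node (.leaf 21289846) (.leaf 6821704)))) (.node (.node (.node (.leaf 23075406) (.leaf 29492714)) (.node (.leaf 647606) (.leaf 20858688))) (.node (.node (.leaf 26494993) (.leaf 18497794)) (.node (.leaf 14551138) (.leaf 26484862)))))))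

/-- A point of the block, part 361. -/
def ptCodePart361 : Janko1.Tree ℕ := (.node (.node (.node (.node (.node (.node (.leaf 34166008) (.leaf 25418313)) (.node (.leaf 21285996) (.leaf 581050))) (.node (.node (.leaf 23610534) (.leaf 22627314)) (.node (.leaf 26477820) (.leaf 18503777)))) (.node (.node (.node (.leaf 30643505) (.leaf 31382710)) (.node (.leaf 17927628) (.leaf 21944521))) (.node (.node (.leaf 5856702) (.leaf 19946625)) (.node (.leaf 3791337) (.leaf 18813297))))) (.node (.node (.node (.node (.leaf 21823700) (.leaf 23466721)) (.node (.leaf 13763796) (.leaf 12277361))) (.node (.node (.leaf 34709230) (.leaf 29704354)) (.node (.leaf 12272821) (.leaf 34708196)))) (.node (.node (.node (.leaf 33477852) (.leaf 1003702)) (.node (.leaf 1168789) (.leaf 18506096))) (.node (.node (.leaf 15635752) (.leaf 4085716)) (.node (.leaf 34701732) (.leaf 3543314)))))) (.node (.node (.node (.node (.node (.leaf 15507062) (.leaf 24740722)) (.node (.leaf 7967000) (.leaf 19403141))) (.node (.node (.leaf 25402385) (.leaf 12848165))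 (.node (.leaf 20585906) (.leaf 23069926)))) (.node (.node (.node (.leaf 20586770) (.leaf 5441005)) (.node (.leaf 20583401) (.leaf 9683026))) (.node (.node (.leaf 22815008) (.leaf 16965017)) (.node (.leaf 4462538) (.leaf 16092530))))) (.node (.node (.node (.node (.leaf 19110566) (.leaf 7047918)) (.node (.leaf 24740078) (.leaf 21218390))) (.node (.node (.leaf 13557281) (.leaf 12260929)) (.node (.leaf 26419216) (.leaf 8459524)))) (.node (.node (.node (.leaf 950390) (.leaf 4054084)) (.node (.leaf 17238926) (.leaf 19351818))) (.node (.node (.leaf 34658544) (.leaf 9113069)) (.node (.leaf 29496705) (.leaf 17928165)))))))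

/-- A point of the block, part 362. -/
def ptCodePart362 : Janko1.Tree ℕ := (.node (.node (.node (.node (.node (.node (.leaf 21941816) (.leaf 34295961)) (.node (.leaf 29509212) (.leaf 22630332))) (.node (.node (.leaf 16093664) (.leaf 15631734)) (.node (.leaf 32606832) (.leaf 32440881)))) (.node (.node (.node (.leaf 4068252) (.leaf 17483521)) (.node (.leaf 17309077) (.leaf 4033473))) (.node (.node (.leaf 34769741) (.leaf 3015956)) (.node (.leaf 20742453) (.leaf 17059874))))) (.node (.node (.node (.node (.leaf 25990944) (.leaf 6293965)) (.node (.leaf 706658) (.leaf 3015108))) (.node (.node (.leaf 17483414) (.leaf 22989038)) (.node (.leaf 23074777) (.leaf 6821081)))) (.node (.node (.node (.leaf 8656132) (.leaf 5769944)) (.node (.leaf 20863660) (.leaf 6391297))) (.node (.node (.leaf 33739144) (.leaf 9279860)) (.node (.leaf 9194368) (.leaf 13981924)))))) (.node (.node (.node (.node (.node (.leaf 8195344) (.leaf 13980854)) (.node (.leaf 21565230) (.leaf 26350677))) (.node (.node (.leaf 16965136) (.leaf 5671554))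 (.node (.leaf 24171358) (.leaf 10854024)))) (.node (.node (.node (.leaf 24173208) (.leaf 21830789)) (.node (.leaf 32446238) (.leaf 10722774))) (.node (.node (.leaf 27153412) (.leaf 23616224)) (.node (.leaf 19351134) (.leaf 31965520))))) (.node (.node (.node (.node (.leaf 7574096) (.leaf 27155660)) (.node (.leaf 26478181) (.leaf 6816232))) (.node (.node (.leaf 25402522) (.leaf 34772273)) (.node (.leaf 17291497) (.leaf 1168908)))) (.node (.node (.node (.leaf 25395925) (.leaf 32492657)) (.node (.leaf 17309097) (.leaf 20748789))) (.node (.node (.leaf 14556529) (.leaf 11207470)) (.node (.leaf 11212722) (.leaf 10853197)))))))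

/-- A point of the block, part 363. -/
def ptCodePart363 : Janko1.Tree ℕ := (.node (.node (.node (.node (.node (.node (.leaf 29511282) (.leaf 27314412)) (.node (.leaf 21518392) (.leaf 8459101))) (.node (.node (.leaf 11279578) (.leaf 31277133)) (.node (.leaf 24860238) (.leaf 20581301)))) (.node (.node (.node (.leaf 17238320) (.leaf 2264705)) (.node (.leaf 14423984) (.leaf 15735818))) (.node (.node (.leaf 21288961) (.leaf 9276900)) (.node (.leaf 29053273) (.leaf 82794))))) (.node (.node (.node (.node (.leaf 22073873) (.leaf 8657372)) (.node (.leaf 31967936) (.leaf 12256613))) (.node (.node (.leaf 2264058) (.leaf 33098993)) (.node (.leaf 28464704) (.leaf 2220021)))) (.node (.node (.node (.leaf 10327980) (.leaf 11272890)) (.node (.leaf 17242897) (.leaf 202702))) (.node (.node (.leaf 22200758) (.leaf 26480700)) (.node (.leaf 29187856) (.leaf 8822544)))))) (.node (.node (.node (.node (.node (.leaf 4048933) (.leaf 85388)) (.node (.leaf 22201678) (.leaf 21220621))) (.node (.node (.leaf 22206090) (.leaf 29185768))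 (.node (.leaf 16325334) (.leaf 33741418)))) (.node (.node (.node (.leaf 33097368) (.leaf 12932338)) (.node (.leaf 11207296) (.leaf 18319686))) (.node (.node (.leaf 33774508) (.leaf 4841876)) (.node (.leaf 8327728) (.leaf 11013281))))) (.node (.node (.node (.node (.leaf 24578977) (.leaf 6031820)) (.node (.leaf 9605848) (.leaf 12616084))) (.node (.node (.leaf 2498918) (.leaf 270025)) (.node (.leaf 14212004) (.leaf 17947900)))) (.node (.node (.node (.leaf 21954562) (.leaf 8197702)) (.node (.leaf 8195621) (.leaf 5328557))) (.node (.node (.leaf 7589805) (.leaf 14207910)) (.node (.leaf 28100385) (.leaf 6575805)))))))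

/-- A point of the block, part 364. -/
def ptCodePart364 : Janko1.Tree ℕ := (.node (.node (.node (.node (.node (.node (.leaf 26501138) (.leaf 21954788)) (.node (.leaf 11081388) (.leaf 16566012))) (.node (.node (.leaf 6034116) (.leaf 5280624)) (.node (.leaf 24581404) (.leaf 14926042)))) (.node (.node (.node (.leaf 14212681) (.leaf 32019445)) (.node (.leaf 34128489) (.leaf 4841892))) (.node (.node (.leaf 918058) (.leaf 17162134)) (.node (.leaf 15731613) (.leaf 14369325))))) (.node (.node (.node (.node (.leaf 33496704) (.leaf 15243198)) (.node (.leaf 15521278) (.leaf 5428193))) (.node (.node (.leaf 26696393) (.leaf 22350760)) (.node (.leaf 18325861) (.leaf 29854682)))) (.node (.node (.node (.leaf 985234) (.leaf 24584414)) (.node (.leaf 4839224) (.leaf 14210912))) (.node (.node (.leaf 33036430) (.leaf 5279221)) (.node (.leaf 15785797) (.leaf 8325193)))))) (.node (.node (.node (.node (.node (.leaf 17732170) (.leaf 1933985)) (.node (.leaf 6150692) (.leaf 24580716))) (.node (.node (.leaf 12615889) (.leaf 9166037))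 (.node (.leaf 16650008) (.leaf 15778434)))) (.node (.node (.node (.leaf 12554864) (.leaf 10280324)) (.node (.leaf 7753994) (.leaf 1186665))) (.node (.node (.leaf 13176854) (.leaf 12359926)) (.node (.leaf 4834662) (.leaf 2462334))))) (.node (.node (.node (.node (.leaf 16648840) (.leaf 13093165)) (.node (.leaf 30446769) (.leaf 10194852))) (.node (.node (.leaf 31539885) (.leaf 11933824)) (.node (.leaf 16062248) (.leaf 5423582)))) (.node (.node (.node (.leaf 24676977) (.leaf 17386464)) (.node (.leaf 22140368) (.leaf 27745462))) (.node (.node (.leaf 28792478) (.leaf 5673405)) (.node (.leaf 14213224) (.leaf 13586137)))))))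

/-- A point of the block, part 365. -/
def ptCodePart365 : Janko1.Tree ℕ := (.node (.node (.node (.node (.node (.node (.leaf 31482280) (.leaf 19748688)) (.node (.leaf 30350384) (.leaf 14210892))) (.node (.node (.leaf 4655136) (.leaf 14370442)) (.node (.leaf 4659493) (.leaf 29757178)))) (.node (.node (.node (.leaf 13600749) (.leaf 5836272)) (.node (.leaf 23533254) (.leaf 31859054))) (.node (.node (.leaf 14369225) (.leaf 5328652)) (.node (.leaf 14143237) (.leaf 5838709))))) (.node (.node (.node (.node (.leaf 1267986) (.leaf 5834505)) (.node (.leaf 31547436) (.leaf 21961188))) (.node (.node (.leaf 31464818) (.leaf 33489782)) (.node (.leaf 30622388) (.leaf 17387046)))) (.node (.node (.node (.leaf 1262266) (.leaf 16521262)) (.node (.leaf 34610830) (.leaf 13373744))) (.node (.node (.leaf 8033765) (.leaf 23531188)) (.node (.leaf 25182552) (.leaf 21962572)))))) (.node (.node (.node (.node (.node (.leaf 14213133) (.leaf 26804312)) (.node (.leaf 15517229) (.leaf 34800405))) (.node (.node (.leaf 13589056) (.leaf 6623885))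 (.node (.leaf 7423110) (.leaf 12176168)))) (.node (.node (.node (.leaf 29855536) (.leaf 14982437)) (.node (.leaf 16568173) (.leaf 12619276))) (.node (.node (.leaf 18324316) (.leaf 13589680)) (.node (.leaf 31643128) (.leaf 29409284))))) (.node (.node (.node (.node (.leaf 33494425) (.leaf 14926290)) (.node (.leaf 9733577) (.leaf 22157277))) (.node (.node (.leaf 31458242) (.leaf 21959677)) (.node (.leaf 4837624) (.leaf 11882186)))) (.node (.node (.node (.leaf 9737782) (.leaf 17159898)) (.node (.leaf 3478198) (.leaf 4539168))) (.node (.node (.leaf 25186754) (.leaf 12766709)) (.node (.leaf 9405097) (.leaf 33769177)))))))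

/-- A point of the block, part 366. -/
def ptCodePart366 : Janko1.Tree ℕ := (.node (.node (.node (.node (.node (.node (.leaf 22355400) (.leaf 31480240)) (.node (.leaf 17389956) (.leaf 5669885))) (.node (.node (.leaf 31463972) (.leaf 34135034)) (.node (.leaf 9166858) (.leaf 1937601)))) (.node (.node (.node (.leaf 10389768) (.leaf 13178881)) (.node (.leaf 16653110) (.leaf 5281776))) (.node (.node (.leaf 16522520) (.leaf 31475833)) (.node (.leaf 31640630) (.leaf 15423125))))) (.node (.node (.node (.node (.leaf 5835386) (.leaf 18780374)) (.node (.leaf 27740504) (.leaf 14930004))) (.node (.node (.leaf 925229) (.leaf 13392269)) (.node (.leaf 30627220) (.leaf 1938089)))) (.node (.node (.node (.leaf 34610802) (.leaf 32693284)) (.node (.leaf 14130296) (.leaf 29184074))) (.node (.node (.leaf 15112172) (.leaf 6034620)) (.node (.leaf 6570346) (.leaf 532753)))))) (.node (.node (.node (.node (.node (.leaf 10277613) (.leaf 18765902)) (.node (.leaf 1201565) (.leaf 9739406))) (.node (.node (.leaf 29541157) (.leaf 19174914))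 (.node (.leaf 2969462) (.leaf 10356037)))) (.node (.node (.node (.leaf 33381697) (.leaf 31475616)) (.node (.leaf 920440) (.leaf 33840970))) (.node (.node (.leaf 31427206) (.leaf 18768142)) (.node (.leaf 31543641) (.leaf 13179016))))) (.node (.node (.node (.node (.leaf 6525186) (.leaf 7245178)) (.node (.leaf 18633825) (.leaf 14979428))) (.node (.node (.leaf 18780761) (.leaf 12866486)) (.node (.leaf 12552637) (.leaf 13518674)))) (.node (.node (.node (.leaf 10363282) (.leaf 28790833)) (.node (.leaf 6145044) (.leaf 33031114))) (.node (.node (.leaf 32018001) (.leaf 5283660)) (.node (.leaf 17389018) (.leaf 26494937)))))))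

/-- A point of the block, part 367. -/
def ptCodePart367 : Janko1.Tree ℕ := (.node (.node (.node (.node (.node (.node (.leaf 27958161) (.leaf 9391157)) (.node (.leaf 989352) (.leaf 16572106))) (.node (.node (.leaf 16515630) (.leaf 29214254)) (.node (.leaf 32083214) (.leaf 22501730)))) (.node (.node (.node (.leaf 11935701) (.leaf 10278985)) (.node (.leaf 19745261) (.leaf 6529338))) (.node (.node (.leaf 13180158) (.leaf 19780233)) (.node (.leaf 18161465) (.leaf 16745320))))) (.node (.node (.node (.node (.leaf 12507053) (.leaf 14124100)) (.node (.leaf 25237556) (.leaf 31640917))) (.node (.node (.leaf 5325857) (.leaf 30622425)) (.node (.leaf 25239682) (.leaf 28791904)))) (.node (.node (.node (.leaf 22463724) (.leaf 29065856)) (.node (.leaf 7754118) (.leaf 31465844))) (.node (.node (.leaf 31425178) (.leaf 1184448)) (.node (.leaf 31539949) (.leaf 8622416)))))) (.node (.node (.node (.node (.node (.leaf 15419862) (.leaf 17128521)) (.node (.leaf 29546077) (.leaf 9735273))) (.node (.node (.leaf 29755917) (.leaf 18767606))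 (.node (.leaf 9404733) (.leaf 33030394)))) (.node (.node (.node (.leaf 5431681) (.leaf 14928026)) (.node (.leaf 18160470) (.leaf 24682008))) (.node (.node (.leaf 12770160) (.leaf 1068589)) (.node (.leaf 6150370) (.leaf 25890061))))) (.node (.node (.node (.node (.leaf 27121230) (.leaf 9444890)) (.node (.leaf 32015026) (.leaf 26809186))) (.node (.node (.leaf 16749418) (.leaf 6627262)) (.node (.leaf 3481864) (.leaf 7230904)))) (.node (.node (.node (.leaf 33819638) (.leaf 11767688)) (.node (.leaf 16515182) (.leaf 9159889))) (.node (.node (.leaf 22466045) (.leaf 9442142)) (.node (.leaf 14979517) (.leaf 31460784)))))))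

/-- A point of the block, part 368. -/
def ptCodePart368 : Janko1.Tree ℕ := (.node (.node (.node (.node (.node (.node (.leaf 19172677) (.leaf 6832586)) (.node (.leaf 6528457) (.leaf 8618080))) (.node (.node (.leaf 9606320) (.leaf 12208948)) (.node (.leaf 9393696) (.leaf 25890933)))) (.node (.node (.node (.leaf 31870274) (.leaf 15471876)) (.node (.leaf 25183841) (.leaf 10395616))) (.node (.node (.leaf 12767189) (.leaf 18367992)) (.node (.leaf 12617452) (.leaf 14145924))))) (.node (.node (.node (.node (.leaf 8117789) (.leaf 532880)) (.node (.leaf 31645048) (.leaf 30118522))) (.node (.node (.leaf 12866974) (.leaf 1267462)) (.node (.leaf 7424394) (.leaf 31740740)))) (.node (.node (.node (.leaf 22354320) (.leaf 26694625)) (.node (.leaf 2971788) (.leaf 25889897))) (.node (.node (.leaf 29414370) (.leaf 10197537)) (.node (.leaf 13279274) (.leaf 11771226)))))) (.node (.node (.node (.node (.node (.leaf 16875672) (.leaf 266014)) (.node (.leaf 24676681) (.leaf 13273382))) (.node (.node (.leaf 19744850) (.leaf 1073181))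 (.node (.leaf 25890105) (.leaf 12551134)))) (.node (.node (.node (.leaf 1936846) (.leaf 30444020)) (.node (.leaf 33838372) (.leaf 28794252))) (.node (.node (.leaf 29547498) (.leaf 7752466)) (.node (.leaf 29416262) (.leaf 27543153))))) (.node (.node (.node (.node (.leaf 33492477) (.leaf 6938036)) (.node (.leaf 12174692) (.leaf 13599478))) (.node (.node (.leaf 6621813) (.leaf 29184066)) (.node (.leaf 22350141) (.leaf 6529094)))) (.node (.node (.node (.leaf 5226806) (.leaf 30449516)) (.node (.leaf 31859108) (.leaf 17042716))) (.node (.node (.leaf 16650077) (.leaf 11014292)) (.node (.leaf 7233254) (.leaf 14131182)))))))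

/-- A point of the block, part 369. -/
def ptCodePart369 : Janko1.Tree ℕ := (.node (.node (.node (.node (.node (.node (.leaf 3480584) (.leaf 33773786)) (.node (.leaf 17948902) (.leaf 15470202))) (.node (.node (.leaf 17125922) (.leaf 21957229)) (.node (.leaf 28102580) (.leaf 21699961)))) (.node (.node (.node (.leaf 4837616) (.leaf 2465492)) (.node (.leaf 8327282) (.leaf 30756034))) (.node (.node (.leaf 31742580) (.leaf 29186484)) (.node (.leaf 17155588) (.leaf 28103937))))) (.node (.node (.node (.node (.leaf 13387061) (.leaf 3544764)) (.node (.leaf 11878950) (.leaf 6522636))) (.node (.node (.leaf 19744728) (.leaf 15112702)) (.node (.leaf 33820358) (.leaf 14977269)))) (.node (.node (.node (.leaf 18435832) (.leaf 11767829)) (.node (.leaf 34784278) (.leaf 18634006))) (.node (.node (.leaf 2967225) (.leaf 2492654)) (.node (.leaf 27286976) (.leaf 3479472)))))) (.node (.node (.node (.node (.node (.leaf 28102634) (.leaf 1071524)) (.node (.leaf 19780269) (.leaf 13276997))) (.node (.node (.leaf 33491734) (.leaf 6937236))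 (.node (.leaf 30753956) (.leaf 1934658)))) (.node (.node (.node (.leaf 23861481) (.leaf 16750529)) (.node (.leaf 13600136) (.leaf 29854724))) (.node (.node (.leaf 24576078) (.leaf 16060158)) (.node (.leaf 22136640) (.leaf 29759588))))) (.node (.node (.node (.node (.leaf 1187065) (.leaf 26809789)) (.node (.leaf 33703914) (.leaf 31425033))) (.node (.node (.leaf 30755264) (.leaf 18432021)) (.node (.leaf 26493349) (.leaf 31856492)))) (.node (.node (.node (.leaf 2492428) (.leaf 12206690)) (.node (.leaf 15241109) (.leaf 15520694))) (.node (.node (.leaf 23928021) (.leaf 15422514)) (.node (.leaf 27543633) (.leaf 22154605)))))))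

/-- A point of the block, part 370. -/
def ptCodePart370 : Janko1.Tree ℕ := (.node (.node (.node (.node (.node (.node (.leaf 16881189) (.leaf 8325366)) (.node (.leaf 13518717) (.leaf 30118612))) (.node (.node (.leaf 4653426) (.leaf 29413493)) (.node (.leaf 6620305) (.leaf 21829092)))) (.node (.node (.node (.leaf 32694226) (.leaf 9408706)) (.node (.leaf 10275162) (.leaf 10274918))) (.node (.node (.leaf 29415190) (.leaf 526113)) (.node (.leaf 30753861) (.leaf 7428996))))) (.node (.node (.node (.node (.leaf 33774389) (.leaf 281118)) (.node (.leaf 27545269) (.leaf 34804878))) (.node (.node (.leaf 3547473) (.leaf 15425149)) (.node (.leaf 17387056) (.leaf 23527602)))) (.node (.node (.node (.leaf 17126686) (.leaf 33838426)) (.node (.leaf 9391841) (.leaf 15245316))) (.node (.node (.leaf 31736410) (.leaf 6151313)) (.node (.leaf 31378462) (.leaf 9410790)))))) (.node (.node (.node (.node (.node (.leaf 32686526) (.leaf 29547914)) (.node (.leaf 33495301) (.leaf 8194153))) (.node (.node (.leaf 19745028) (.leaf 23568630))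 (.node (.leaf 34801197) (.leaf 29069382)))) (.node (.node (.node (.leaf 12553092) (.leaf 32004684)) (.node (.leaf 17727789) (.leaf 32019240))) (.node (.node (.leaf 27544949) (.leaf 4408616)) (.node (.leaf 262365) (.leaf 12861897))))) (.node (.node (.node (.node (.leaf 33819306) (.leaf 988232)) (.node (.leaf 12181472) (.leaf 22154801))) (.node (.node (.leaf 17700706) (.leaf 15785174)) (.node (.leaf 31858754) (.leaf 9445244)))) (.node (.node (.node (.leaf 13386810) (.leaf 3545649)) (.node (.leaf 8118526) (.leaf 30449569))) (.node (.node (.leaf 17042608) (.leaf 29544454)) (.node (.leaf 18628817) (.leaf 29215376)))))))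

/-- A point of the block, part 371. -/
def ptCodePart371 : Janko1.Tree ℕ := (.node (.node (.node (.node (.node (.node (.leaf 13584009) (.leaf 7244138)) (.node (.leaf 32005208) (.leaf 5769212))) (.node (.node (.leaf 6834476) (.leaf 17387606)) (.node (.leaf 3545537) (.leaf 5835737)))) (.node (.node (.node (.leaf 33382208) (.leaf 12619412)) (.node (.leaf 14375638) (.leaf 23863646))) (.node (.node (.leaf 31376108) (.leaf 17945133)) (.node (.leaf 31544384) (.leaf 12946296))))) (.node (.node (.node (.node (.leaf 2493358) (.leaf 10359165)) (.node (.leaf 7769937) (.leaf 10391265))) (.node (.node (.leaf 23895334) (.leaf 925773)) (.node (.leaf 9605896) (.leaf 1935408)))) (.node (.node (.node (.leaf 14147558) (.leaf 32688078)) (.node (.leaf 16569509) (.leaf 34751530))) (.node (.node (.leaf 31425440) (.leaf 27544576)) (.node (.leaf 33492034) (.leaf 14653841)))))) (.node (.node (.node (.node (.node (.leaf 33037333) (.leaf 9437821)) (.node (.leaf 17155110) (.leaf 19169605))) (.node (.node (.leaf 8111892) (.leaf 34754446))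 (.node (.leaf 17733177) (.leaf 27743304)))) (.node (.node (.node (.leaf 14374426) (.leaf 17121296)) (.node (.leaf 9602305) (.leaf 16884017))) (.node (.node (.leaf 13098289) (.leaf 32019396)) (.node (.leaf 17157560) (.leaf 31382888))))) (.node (.node (.node (.node (.leaf 34603580) (.leaf 23863464)) (.node (.leaf 13520512) (.leaf 13604920))) (.node (.node (.leaf 12869658) (.leaf 7244274)) (.node (.leaf 28787774) (.leaf 33037618)))) (.node (.node (.node (.leaf 24577249) (.leaf 29283730)) (.node (.leaf 31868804) (.leaf 34803414))) (.node (.node (.leaf 32082738) (.leaf 13091373)) (.node (.leaf 27959372) (.leaf 31853318)))))))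

/-- A point of the block, part 372. -/
def ptCodePart372 : Janko1.Tree ℕ := (.node (.node (.node (.node (.node (.node (.leaf 10193541) (.leaf 16522125)) (.node (.leaf 31382361) (.leaf 22463926))) (.node (.node (.leaf 22500258) (.leaf 18779225)) (.node (.leaf 23238649) (.leaf 12504250)))) (.node (.node (.node (.leaf 16062202) (.leaf 23888793)) (.node (.leaf 33376969) (.leaf 8194602))) (.node (.node (.leaf 17941154) (.leaf 7422405)) (.node (.leaf 2494693) (.leaf 6146820))))) (.node (.node (.node (.node (.leaf 13605624) (.leaf 21828502)) (.node (.leaf 15425912) (.leaf 18324048))) (.node (.node (.leaf 33378470) (.leaf 4544620)) (.node (.leaf 3477654) (.leaf 9444536)))) (.node (.node (.node (.leaf 10388350) (.leaf 34806434)) (.node (.leaf 284806) (.leaf 30446272))) (.node (.node (.leaf 10360904) (.leaf 280734)) (.node (.leaf 7590777) (.leaf 29410218)))))) (.node (.node (.node (.node (.node (.leaf 1182409) (.leaf 11083552)) (.node (.leaf 1068136) (.leaf 28792502))) (.node (.node (.leaf 4577022) (.leaf 13097608))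 (.node (.leaf 22135053) (.leaf 3544621)))) (.node (.node (.node (.leaf 1068732) (.leaf 6936925)) (.node (.leaf 31378277) (.leaf 25182589))) (.node (.node (.leaf 18371250) (.leaf 5328901)) (.node (.leaf 14926469) (.leaf 18372941))))) (.node (.node (.node (.node (.leaf 22156544) (.leaf 12771608)) (.node (.leaf 30760049) (.leaf 17045142))) (.node (.node (.leaf 19170173) (.leaf 29412150)) (.node (.leaf 25892477) (.leaf 18778882)))) (.node (.node (.node (.leaf 23535732) (.leaf 26690172)) (.node (.leaf 17125426) (.leaf 27956552))) (.node (.node (.leaf 28790801) (.leaf 17700540)) (.node (.leaf 23922062) (.leaf 29548181)))))))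

/-- A point of the block, part 373. -/
def ptCodePart373 : Janko1.Tree ℕ := (.node (.node (.node (.node (.node (.node (.leaf 9406926) (.leaf 30345486)) (.node (.leaf 31640344) (.leaf 16878112))) (.node (.node (.leaf 32687501) (.leaf 32082861)) (.node (.leaf 10191533) (.leaf 22355753)))) (.node (.node (.node (.leaf 28101534) (.leaf 31738777)) (.node (.leaf 33034481) (.leaf 30441885))) (.node (.node (.leaf 7593596) (.leaf 8625536)) (.node (.leaf 31853152) (.leaf 4412268))))) (.node (.node (.node (.node (.leaf 7428066) (.leaf 7425554)) (.node (.leaf 5233770) (.leaf 2459562))) (.node (.node (.leaf 8035166) (.leaf 31432376)) (.node (.leaf 13391170) (.leaf 14977173)))) (.node (.node (.node (.leaf 15113780) (.leaf 1267805)) (.node (.leaf 6461081) (.leaf 33382804))) (.node (.node (.leaf 25189944) (.leaf 13583661)) (.node (.leaf 27122161) (.leaf 12949760)))))) (.node (.node (.node (.node (.node (.leaf 16650101) (.leaf 6833670)) (.node (.leaf 31459218) (.leaf 6035714))) (.node (.node (.leaf 3475038) (.leaf 9160600))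 (.node (.leaf 7753134) (.leaf 16746714)))) (.node (.node (.node (.leaf 30759112) (.leaf 34133765)) (.node (.leaf 14587917) (.leaf 31868400))) (.node (.node (.leaf 17126649) (.leaf 6937653)) (.node (.leaf 29065624) (.leaf 21700312))))) (.node (.node (.node (.node (.leaf 31740586) (.leaf 11884710)) (.node (.leaf 27951876) (.leaf 13524801))) (.node (.node (.leaf 7245300) (.leaf 14650088)) (.node (.leaf 33381769) (.leaf 12552570)))) (.node (.node (.node (.leaf 33838785) (.leaf 4407562)) (.node (.leaf 11015765) (.leaf 3480902))) (.node (.node (.leaf 524909) (.leaf 33773277)) (.node (.leaf 29284596) (.leaf 22465649)))))))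

/-- A point of the block, part 374. -/
def ptCodePart374 : Janko1.Tree ℕ := (.node (.node (.node (.node (.node (.node (.leaf 19745550) (.leaf 34800349)) (.node (.leaf 33379864) (.leaf 22470974))) (.node (.node (.leaf 13605858) (.leaf 15114446)) (.node (.leaf 14589237) (.leaf 13606914)))) (.node (.node (.node (.leaf 13179120) (.leaf 13599518)) (.node (.leaf 17734986) (.leaf 29182021))) (.node (.node (.leaf 13393108) (.leaf 18776552)) (.node (.leaf 23928393) (.leaf 22351698))))) (.node (.node (.node (.node (.leaf 32085277) (.leaf 29185580)) (.node (.leaf 16061685) (.leaf 12179938))) (.node (.node (.leaf 34751302) (.leaf 919360)) (.node (.leaf 18324805) (.leaf 19173453)))) (.node (.node (.node (.leaf 6620106) (.leaf 30116450)) (.node (.leaf 33706365) (.leaf 32080381))) (.node (.node (.leaf 16523221) (.leaf 3477680)) (.node (.leaf 31544962) (.leaf 7587285)))))) (.node (.node (.node (.node (.node (.leaf 13394213) (.leaf 5234928)) (.node (.leaf 5227445) (.leaf 2966658))) (.node (.node (.leaf 6035201) (.leaf 13179478))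 (.node (.leaf 23239004) (.leaf 16064857)))) (.node (.node (.node (.leaf 15732770) (.leaf 10192010)) (.node (.leaf 12503200) (.leaf 33708660))) (.node (.node (.leaf 11885420) (.leaf 13519305)) (.node (.leaf 10394564) (.leaf 17699056))))) (.node (.node (.node (.node (.leaf 23561494) (.leaf 29857896)) (.node (.leaf 11015637) (.leaf 1263090))) (.node (.node (.leaf 22469740) (.leaf 7769472)) (.node (.leaf 31998377) (.leaf 21697422)))) (.node (.node (.node (.leaf 16880040) (.leaf 1204385)) (.node (.leaf 6838608) (.leaf 18156760))) (.node (.node (.leaf 5227734) (.leaf 9407446)) (.node (.leaf 1184341) (.leaf 24578964)))))))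

/-- A point of the block, part 375. -/
def ptCodePart375 : Janko1.Tree ℕ := (.node (.node (.node (.node (.node (.node (.leaf 525080) (.leaf 23856410)) (.node (.leaf 29756036) (.leaf 6623793))) (.node (.node (.leaf 17695357) (.leaf 4655741)) (.node (.leaf 31457289) (.leaf 27541585)))) (.node (.node (.node (.leaf 12617870) (.leaf 25893418)) (.node (.leaf 7590065) (.leaf 29286632))) (.node (.node (.leaf 27286704) (.leaf 14146402)) (.node (.leaf 4545080) (.leaf 5327762))))) (.node (.node (.node (.node (.leaf 12949476) (.leaf 11765885)) (.node (.leaf 13277121) (.leaf 985836))) (.node (.node (.leaf 10194168) (.leaf 18439690)) (.node (.leaf 14590030) (.leaf 28101724)))) (.node (.node (.node (.leaf 4572882) (.leaf 22500250)) (.node (.leaf 14588522) (.leaf 27541805))) (.node (.node (.leaf 8033745) (.leaf 11080972)) (.node (.leaf 17154990) (.leaf 4539012)))))) (.node (.node (.node (.node (.node (.leaf 15467673) (.leaf 18766406)) (.node (.leaf 34806993) (.leaf 5428288))) (.node (.node (.leaf 22496146) (.leaf 17941781))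 (.node (.leaf 26500885) (.leaf 33703320)))) (.node (.node (.node (.leaf 8625786) (.leaf 18155289)) (.node (.leaf 32694414) (.leaf 34791301))) (.node (.node (.leaf 6577484) (.leaf 27549094)) (.node (.leaf 23236818) (.leaf 23561388))))) (.node (.node (.node (.node (.leaf 23567994) (.leaf 12769541)) (.node (.leaf 31743441) (.leaf 6931264))) (.node (.node (.leaf 7750148) (.leaf 18763770)) (.node (.leaf 29220582) (.leaf 11886638)))) (.node (.node (.node (.leaf 13590873) (.leaf 27124112)) (.node (.leaf 13370093) (.leaf 31541566))) (.node (.node (.leaf 9160574) (.leaf 27738804)) (.node (.leaf 17161596) (.leaf 10395854)))))))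

/-- A point of the block, part 376. -/
def ptCodePart376 : Janko1.Tree ℕ := (.node (.node (.node (.node (.node (.node (.leaf 25238092) (.leaf 6456212)) (.node (.leaf 15239746) (.leaf 31737301))) (.node (.node (.leaf 26807374) (.leaf 23922402)) (.node (.leaf 33834657) (.leaf 31463984)))) (.node (.node (.node (.leaf 32085069) (.leaf 22156266)) (.node (.leaf 283164) (.leaf 7245841))) (.node (.node (.leaf 8618136) (.leaf 14981808)) (.node (.leaf 8331314) (.leaf 9606616))))) (.node (.node (.node (.node (.leaf 5670973) (.leaf 31874752)) (.node (.leaf 15779756) (.leaf 4407640))) (.node (.node (.leaf 9391486) (.leaf 1934397)) (.node (.leaf 34131885) (.leaf 7773133)))) (.node (.node (.node (.leaf 34133265) (.leaf 34604377)) (.node (.leaf 15779596) (.leaf 5280349))) (.node (.node (.leaf 33703114) (.leaf 21826618)) (.node (.leaf 281009) (.leaf 30120269)))))) (.node (.node (.node (.node (.node (.leaf 12768520) (.leaf 14983478)) (.node (.leaf 18433881) (.leaf 32083169))) (.node (.node (.leaf 33840716) (.leaf 12865217))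 (.node (.leaf 8323090) (.leaf 23531994)))) (.node (.node (.node (.leaf 33837728) (.leaf 15523322)) (.node (.leaf 15779620) (.leaf 31869845))) (.node (.node (.leaf 15240213) (.leaf 16572777)) (.node (.leaf 18780689) (.leaf 15467169))))) (.node (.node (.node (.node (.leaf 33825056) (.leaf 29283664)) (.node (.leaf 23887961) (.leaf 29856157))) (.node (.node (.leaf 29851718) (.leaf 9164694)) (.node (.leaf 15521678) (.leaf 11884137)))) (.node (.node (.node (.leaf 11928574) (.leaf 13584546)) (.node (.leaf 21828754) (.leaf 18372037))) (.node (.node (.leaf 23561218) (.leaf 19777766)) (.node (.leaf 4412860) (.leaf 17732650)))))))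

/-- A point of the block, part 377. -/
def ptCodePart377 : Janko1.Tree ℕ := (.node (.node (.node (.node (.node (.node (.leaf 29285205) (.leaf 12621604)) (.node (.leaf 14652290) (.leaf 22140264))) (.node (.node (.leaf 22497649) (.leaf 12179954)) (.node (.leaf 8625117) (.leaf 11878910)))) (.node (.node (.node (.leaf 16060185) (.leaf 18766936)) (.node (.leaf 17122380) (.leaf 33821673))) (.node (.node (.leaf 12361860) (.leaf 23237273)) (.node (.leaf 9608340) (.leaf 10196389))))) (.node (.node (.node (.node (.leaf 6837101) (.leaf 14126525)) (.node (.leaf 23921586) (.leaf 29545453))) (.node (.node (.leaf 6577880) (.leaf 32002934)) (.node (.leaf 10390356) (.leaf 9395586)))) (.node (.node (.node (.leaf 25888562) (.leaf 9394504)) (.node (.leaf 13521461) (.leaf 6458870))) (.node (.node (.leaf 13276324) (.leaf 286722)) (.node (.leaf 31638732) (.leaf 13375305)))))) (.node (.node (.node (.node (.node (.leaf 1201312) (.leaf 12360809)) (.node (.leaf 13585533) (.leaf 4579596))) (.node (.node (.leaf 12948781) (.leaf 10278276))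 (.node (.leaf 12173368) (.leaf 7248042)))) (.node (.node (.node (.leaf 24677853) (.leaf 16649785)) (.node (.leaf 13369922) (.leaf 2494612))) (.node (.node (.leaf 27741128) (.leaf 1066705)) (.node (.leaf 21693202) (.leaf 29547158))))) (.node (.node (.node (.node (.leaf 11932269) (.leaf 23892325)) (.node (.leaf 33772966) (.leaf 4412362))) (.node (.node (.leaf 14369917) (.leaf 1263328)) (.node (.leaf 34607026) (.leaf 4541750)))) (.node (.node (.node (.leaf 11083685) (.leaf 30347538)) (.node (.leaf 8621840) (.leaf 30629146))) (.node (.node (.leaf 18777637) (.leaf 30623209)) (.node (.leaf 33840237) (.leaf 21825494)))))))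

/-- A point of the block, part 378. -/
def ptCodePart378 : Janko1.Tree ℕ := (.node (.node (.node (.node (.node (.node (.leaf 7229286) (.leaf 6036653)) (.node (.leaf 7230588) (.leaf 18436124))) (.node (.node (.leaf 12867437) (.leaf 10276206)) (.node (.leaf 923718) (.leaf 2490909)))) (.node (.node (.node (.leaf 5669721) (.leaf 15473689)) (.node (.leaf 30348988) (.leaf 23889129))) (.node (.node (.leaf 30117053) (.leaf 18434277)) (.node (.leaf 5768886) (.leaf 26805260))))) (.node (.node (.node (.node (.leaf 11928716) (.leaf 17944346)) (.node (.leaf 23857469) (.leaf 32017501))) (.node (.node (.leaf 26807186) (.leaf 31427521)) (.node (.leaf 19175082) (.leaf 12506228)))) (.node (.node (.node (.leaf 14583132) (.leaf 1266896)) (.node (.leaf 15732816) (.leaf 14129590))) (.node (.node (.leaf 30447562) (.leaf 11884352)) (.node (.leaf 12558329) (.leaf 5327573)))))) (.node (.node (.node (.node (.node (.leaf 12501836) (.leaf 14652020)) (.node (.leaf 2969269) (.leaf 24584534))) (.node (.node (.leaf 14130738) (.leaf 1203909))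 (.node (.leaf 34791650) (.leaf 29068037)))) (.node (.node (.node (.leaf 17128517) (.leaf 10276078)) (.node (.leaf 4576369) (.leaf 16521696))) (.node (.node (.leaf 31735808) (.leaf 11018564)) (.node (.leaf 9390729) (.leaf 1187886))))) (.node (.node (.node (.node (.leaf 9407550) (.leaf 4573377)) (.node (.leaf 8331589) (.leaf 19173513))) (.node (.node (.leaf 7768081) (.leaf 6625249)) (.node (.leaf 15735446) (.leaf 5669484)))) (.node (.node (.node (.leaf 22497760) (.leaf 26501440)) (.node (.leaf 18372450) (.leaf 6577586))) (.node (.node (.leaf 17703208) (.leaf 13275988)) (.node (.leaf 9739886) (.leaf 17701721)))))))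

/-- A point of the block, part 379. -/
def ptCodePart379 : Janko1.Tree ℕ := (.node (.node (.node (.node (.node (.node (.leaf 17731729) (.leaf 23889320)) (.node (.leaf 23929170) (.leaf 21699897))) (.node (.node (.leaf 2460670) (.leaf 18369621)) (.node (.leaf 6150822) (.leaf 4540474)))) (.node (.node (.node (.leaf 34757228) (.leaf 14140910)) (.node (.leaf 25237869) (.leaf 29413456))) (.node (.node (.leaf 9443106) (.leaf 5228004)) (.node (.leaf 4836424) (.leaf 29756706))))) (.node (.node (.node (.node (.leaf 16745305) (.leaf 31851988)) (.node (.leaf 7773498) (.leaf 12507830))) (.node (.node (.leaf 18759972) (.leaf 6571954)) (.node (.leaf 31645216) (.leaf 7228817)))) (.node (.node (.node (.leaf 29213546) (.leaf 7228205)) (.node (.leaf 23239122) (.leaf 31430660))) (.node (.node (.leaf 1198944) (.leaf 29754897)) (.node (.leaf 34610770) (.leaf 21825521)))))) (.node (.node (.node (.node (.node (.leaf 5231028) (.leaf 9601433)) (.node (.leaf 26499710) (.leaf 8198438))) (.node (.node (.leaf 27119346) (.leaf 6835225))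 (.node (.leaf 12950216) (.leaf 26809873)))) (.node (.node (.node (.leaf 5834018) (.leaf 17385561)) (.node (.leaf 33705301) (.leaf 30349900))) (.node (.node (.leaf 12209649) (.leaf 7590113)) (.node (.leaf 270358) (.leaf 34755677))))) (.node (.node (.node (.node (.leaf 18318212) (.leaf 19780873)) (.node (.leaf 281848) (.leaf 5329650))) (.node (.node (.leaf 6459472) (.leaf 33704894)) (.node (.leaf 5837866) (.leaf 28790484)))) (.node (.node (.node (.leaf 8114678) (.leaf 30758386)) (.node (.leaf 33034268) (.leaf 15735438))) (.node (.node (.leaf 14125485) (.leaf 18369981)) (.node (.leaf 12177930) (.leaf 13388433)))))))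

/-- A point of the block, part 380. -/
def ptCodePart380 : Janko1.Tree ℕ := (.node (.node (.node (.node (.node (.node (.leaf 32016045) (.leaf 531148)) (.node (.leaf 21959492) (.leaf 18628645))) (.node (.node (.leaf 4571718) (.leaf 14209264)) (.node (.leaf 11079980) (.leaf 12356650)))) (.node (.node (.node (.leaf 29070773) (.leaf 4837213)) (.node (.leaf 13095916) (.leaf 13279658))) (.node (.node (.leaf 34802860) (.leaf 12206089)) (.node (.leaf 12356690) (.leaf 15472754))))) (.node (.node (.node (.node (.leaf 4578122) (.leaf 12945960)) (.node (.leaf 19745453) (.leaf 6458337))) (.node (.node (.leaf 14373350) (.leaf 12360796)) (.node (.leaf 6528916) (.leaf 30117390)))) (.node (.node (.node (.leaf 29759636) (.leaf 8031085)) (.node (.leaf 27741057) (.leaf 16649500))) (.node (.node (.leaf 4577808) (.leaf 5426161)) (.node (.leaf 12945422) (.leaf 525841)))))) (.node (.node (.node (.node (.node (.leaf 14140368) (.leaf 12353960)) (.node (.leaf 264428) (.leaf 17157993))) (.node (.node (.leaf 22352169) (.leaf 2465306))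 (.node (.leaf 22463481) (.leaf 12864081)))) (.node (.node (.node (.leaf 29185364) (.leaf 8113896)) (.node (.leaf 2465690) (.leaf 24675540))) (.node (.node (.leaf 31474832) (.leaf 15239733)) (.node (.leaf 3539913) (.leaf 5834325))))) (.node (.node (.node (.node (.leaf 9601398) (.leaf 1183870)) (.node (.leaf 27282134) (.leaf 23237350))) (.node (.node (.leaf 18156381) (.leaf 4655020)) (.node (.leaf 12209301) (.leaf 11079181)))) (.node (.node (.node (.leaf 19779384) (.leaf 26689842)) (.node (.leaf 27283404) (.leaf 3545496))) (.node (.node (.leaf 29073088) (.leaf 23240358)) (.node (.leaf 15108736) (.leaf 8034790)))))))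

/-- A point of the block, part 381. -/
def ptCodePart381 : Janko1.Tree ℕ := (.node (.node (.node (.node (.node (.node (.leaf 30622793) (.leaf 13522244)) (.node (.leaf 27118934) (.leaf 4655452))) (.node (.node (.leaf 11934356) (.leaf 33496649)) (.node (.leaf 13377144) (.leaf 30114468)))) (.node (.node (.node (.leaf 15240696) (.leaf 15518948)) (.node (.leaf 18634725) (.leaf 7588737))) (.node (.node (.leaf 19746838) (.leaf 10355845)) (.node (.leaf 30347042) (.leaf 16571901))))) (.node (.node (.node (.node (.leaf 31547734) (.leaf 12770678)) (.node (.leaf 14934122) (.leaf 23927368))) (.node (.node (.leaf 11928445) (.leaf 18155209)) (.node (.leaf 2498954) (.leaf 29285934)))) (.node (.node (.node (.leaf 25239244) (.leaf 33032269)) (.node (.leaf 22152096) (.leaf 30346593))) (.node (.node (.leaf 11765660) (.leaf 17695085)) (.node (.leaf 5677262) (.leaf 10199482)))))) (.node (.node (.node (.node (.node (.leaf 6575000) (.leaf 7243653)) (.node (.leaf 24679969) (.leaf 12553357))) (.node (.node (.leaf 29217421) (.leaf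 32692896)) (.node (.leaf 7227973) (.leaf 17941524)))) (.node (.node (.node (.leaf 33768897) (.leaf 29070086)) (.node (.leaf 5279721) (.leaf 9736933))) (.node (.node (.leaf 31474981) (.leaf 31474288)) (.node (.leaf 29184221) (.leaf 25888610))))) (.node (.node (.node (.node (.leaf 18320592) (.leaf 21824232)) (.node (.leaf 21697729) (.leaf 26495608))) (.node (.node (.leaf 987976) (.leaf 16879041)) (.node (.leaf 984942) (.leaf 8622800)))) (.node (.node (.node (.leaf 14647674) (.leaf 13393836)) (.node (.leaf 31381920) (.leaf 6627254))) (.node (.node (.leaf 12503142) (.leaf 16880694)) (.node (.leaf 27955700) (.leaf 530577)))))))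

/-- A point of the block, part 382. -/
def ptCodePart382 : Janko1.Tree ℕ := (.node (.node (.node (.node (.node (.node (.leaf 17383866) (.leaf 32020280)) (.node (.leaf 29858396) (.leaf 3543124))) (.node (.node (.leaf 5672236) (.leaf 16744818)) (.node (.leaf 26496524) (.leaf 24680882)))) (.node (.node (.node (.leaf 29184506) (.leaf 14649801)) (.node (.leaf 984988) (.leaf 18156840))) (.node (.node (.leaf 5423305) (.leaf 24675313)) (.node (.leaf 11081514) (.leaf 7772244))))) (.node (.node (.node (.node (.leaf 29280089) (.leaf 32082525)) (.node (.leaf 23561206) (.leaf 14653574))) (.node (.node (.leaf 7773266) (.leaf 7750424)) (.node (.leaf 29214105) (.leaf 29855030)))) (.node (.node (.node (.leaf 9736080) (.leaf 922261)) (.node (.leaf 1261840) (.leaf 27953869))) (.node (.node (.leaf 15420257) (.leaf 33706033)) (.node (.leaf 26691213) (.leaf 7422536)))))) (.node (.node (.node (.node (.node (.leaf 25186117) (.leaf 17043976)) (.node (.leaf 33820769) (.leaf 34131354))) (.node (.node (.leaf 33817484) (.leaf 6151637))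 (.node (.leaf 10361372) (.leaf 19782480)))) (.node (.node (.node (.leaf 12208364) (.leaf 27744878)) (.node (.leaf 5230972) (.leaf 33823336))) (.node (.node (.leaf 34757920) (.leaf 4415365)) (.node (.leaf 5771646) (.leaf 11772101))))) (.node (.node (.node (.node (.leaf 18369413) (.leaf 5770348)) (.node (.leaf 9733802) (.leaf 1198382))) (.node (.node (.leaf 3364872) (.leaf 24892805)) (.node (.leaf 17225502) (.leaf 30491962)))) (.node (.node (.node (.leaf 3362633) (.leaf 13981961)) (.node (.leaf 3658000) (.leaf 22593620))) (.node (.node (.leaf 2514284) (.leaf 33772918)) (.node (.leaf 13979230) (.leaf 21995624)))))))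

/-- A point of the block, part 383. -/
def ptCodePart383 : Janko1.Tree ℕ := (.node (.node (.node (.node (.node (.node (.leaf 6620952) (.leaf 3883496)) (.node (.leaf 4397737) (.leaf 19368417))) (.node (.node (.leaf 30397264) (.leaf 2019438)) (.node (.leaf 27238646) (.leaf 10442760)))) (.node (.node (.node (.leaf 16258073) (.leaf 33033514)) (.node (.leaf 26527897) (.leaf 13275212))) (.node (.node (.leaf 16258058) (.leaf 5150560)) (.node (.leaf 34998818) (.leaf 18291749))))) (.node (.node (.node (.node (.leaf 20991461) (.leaf 34112600)) (.node (.leaf 22169797) (.leaf 21778388))) (.node (.node (.leaf 21059550) (.leaf 13271797)) (.node (.leaf 33510309) (.leaf 18977257)))) (.node (.node (.node (.leaf 9246716) (.leaf 6623758)) (.node (.leaf 14226906) (.leaf 30447148))) (.node (.node (.leaf 13357402) (.leaf 3891489)) (.node (.leaf 2265857) (.leaf 3772482)))))) (.node (.node (.node (.node (.node (.leaf 10620853) (.leaf 21059773)) (.node (.leaf 35194646) (.leaf 21711272))) (.node (.node (.leaf 13143664) (.leaf 21781178))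 (.node (.leaf 21059650) (.leaf 22775888)))) (.node (.node (.node (.leaf 27317998) (.leaf 8899893)) (.node (.leaf 23008954) (.leaf 6086369))) (.node (.node (.leaf 21988417) (.leaf 27561237)) (.node (.leaf 4624174) (.leaf 4392178))))) (.node (.node (.node (.node (.leaf 29761953) (.leaf 34277132)) (.node (.leaf 34505782) (.leaf 11357002))) (.node (.node (.leaf 3890954) (.leaf 27483429)) (.node (.leaf 21057206) (.leaf 21512269)))) (.node (.node (.node (.leaf 16261461) (.leaf 15848100)) (.node (.leaf 27164893) (.leaf 14588094))) (.node (.node (.leaf 1368408) (.leaf 13354045)) (.node (.leaf 10618330) (.leaf 32522316)))))))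

/-- A point of the block, part 384. -/
def ptCodePart384 : Janko1.Tree ℕ := (.node (.node (.node (.node (.node (.node (.leaf 30266194) (.leaf 30378049)) (.node (.leaf 19144172) (.leaf 23011378))) (.node (.node (.leaf 22597582) (.leaf 3365453)) (.node (.leaf 6805849) (.leaf 13180236)))) (.node (.node (.node (.leaf 21518312) (.leaf 30803982)) (.node (.leaf 10622808) (.leaf 27560552))) (.node (.node (.leaf 3298072) (.leaf 34996286)) (.node (.leaf 18946869) (.leaf 30398216))))) (.node (.node (.node (.node (.leaf 23073521) (.leaf 2002842)) (.node (.leaf 25122670) (.leaf 23647958))) (.node (.node (.leaf 7030717) (.leaf 17055784)) (.node (.leaf 33624561) (.leaf 11359784)))) (.node (.node (.node (.leaf 27236148) (.leaf 22778314)) (.node (.leaf 6623645) (.leaf 13277993))) (.node (.node (.leaf 27481522) (.leaf 33771513)) (.node (.leaf 694609) (.leaf 21496548)))))) (.node (.node (.node (.node (.node (.leaf 17334978) (.leaf 13976714)) (.node (.leaf 18290768) (.leaf 30808101))) (.node (.node (.leaf 3655037) (.leaf 5475662))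 (.node (.leaf 18288618) (.leaf 11550876)))) (.node (.node (.node (.leaf 9314665) (.leaf 7509662)) (.node (.leaf 13175944) (.leaf 21501040))) (.node (.node (.leaf 13976329) (.leaf 21780954)) (.node (.leaf 21382536) (.leaf 11684529))))) (.node (.node (.node (.node (.leaf 23007576) (.leaf 10330481)) (.node (.leaf 32329800) (.leaf 9952965))) (.node (.node (.leaf 26529114) (.leaf 1037342)) (.node (.leaf 34572844) (.leaf 3773622)))) (.node (.node (.node (.leaf 11066620) (.leaf 13180649)) (.node (.leaf 4769665) (.leaf 26958018))) (.node (.node (.leaf 14308125) (.leaf 11854030)) (.node (.leaf 25364744) (.leaf 25838681)))))))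

/-- A point of the block, part 385. -/
def ptCodePart385 : Janko1.Tree ℕ := (.node (.node (.node (.node (.node (.node (.leaf 7096732) (.leaf 8934481)) (.node (.leaf 28690088) (.leaf 695552))) (.node (.node (.leaf 5457553) (.leaf 10457216)) (.node (.leaf 10327665) (.leaf 21126008)))) (.node (.node (.node (.leaf 27512241) (.leaf 15319970)) (.node (.leaf 27477932) (.leaf 30805450))) (.node (.node (.leaf 25363764) (.leaf 29759182)) (.node (.leaf 7506161) (.leaf 5180290))))) (.node (.node (.node (.node (.leaf 18677838) (.leaf 23005416)) (.node (.leaf 21988177) (.leaf 25117769))) (.node (.node (.leaf 31595800) (.leaf 30444974)) (.node (.leaf 23642124) (.leaf 34572820)))) (.node (.node (.node (.leaf 27133646) (.leaf 24105160)) (.node (.leaf 4063828) (.leaf 25362765))) (.node (.node (.leaf 21518522) (.leaf 29073756)) (.node (.leaf 33771092) (.leaf 5144628)))))) (.node (.node (.node (.node (.node (.leaf 4770186) (.leaf 34575220)) (.node (.leaf 7102124) (.leaf 26837102))) (.node (.node (.leaf 31594858) (.leaf 7019092))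 (.node (.leaf 1100084) (.leaf 3151058)))) (.node (.node (.node (.leaf 30494896) (.leaf 1101625)) (.node (.leaf 14305758) (.leaf 13572622))) (.node (.node (.leaf 8929516) (.leaf 35375849)) (.node (.leaf 5146977) (.leaf 32215909))))) (.node (.node (.node (.node (.leaf 27237597) (.leaf 2021292)) (.node (.leaf 31167193) (.leaf 22743428))) (.node (.node (.leaf 19094365) (.leaf 2513362)) (.node (.leaf 15829250) (.leaf 34279690)))) (.node (.node (.node (.leaf 32328364) (.leaf 1103516)) (.node (.leaf 5775149) (.leaf 6801482))) (.node (.node (.leaf 17059810) (.leaf 25103597)) (.node (.leaf 28688540) (.leaf 13148058)))))))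

/-- A point of the block, part 386. -/
def ptCodePart386 : Janko1.Tree ℕ := (.node (.node (.node (.node (.node (.node (.leaf 30493609) (.leaf 23288582)) (.node (.leaf 15831385) (.leaf 18946622))) (.node (.node (.leaf 25838616) (.leaf 32216648)) (.node (.leaf 26838601) (.leaf 15327353)))) (.node (.node (.node (.leaf 25154328) (.leaf 8541068)) (.node (.leaf 3153549) (.leaf 25838141))) (.node (.node (.leaf 13276516) (.leaf 35069954)) (.node (.leaf 26952982) (.leaf 25026785))))) (.node (.node (.node (.node (.leaf 23988126) (.leaf 33770954)) (.node (.leaf 17060620) (.leaf 2021808))) (.node (.node (.leaf 30589062) (.leaf 30263353)) (.node (.leaf 7094870) (.leaf 32920477)))) (.node (.node (.node (.leaf 27810264) (.leaf 32922226)) (.node (.leaf 24483645) (.leaf 27510558))) (.node (.node (.leaf 13570080) (.leaf 695598)) (.node (.leaf 17551004) (.leaf 20716321)))))) (.node (.node (.node (.node (.node (.leaf 1104221) (.leaf 19366706)) (.node (.leaf 11061180) (.leaf 27136798))) (.node (.node (.leaf 32529388) (.leaf 8539184))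 (.node (.leaf 1365286) (.leaf 23011448)))) (.node (.node (.node (.leaf 11558574) (.leaf 13143586)) (.node (.leaf 25106858) (.leaf 13360028))) (.node (.node (.leaf 32326056) (.leaf 16587696)) (.node (.leaf 22780488) (.leaf 34998504))))) (.node (.node (.node (.node (.leaf 30345373) (.leaf 9310410)) (.node (.leaf 21504238) (.leaf 907652))) (.node (.node (.leaf 19864002) (.leaf 395877)) (.node (.leaf 31164376) (.leaf 18285952)))) (.node (.node (.node (.leaf 33659081) (.leaf 16589016)) (.node (.leaf 12879840) (.leaf 32328625))) (.node (.node (.leaf 17334992) (.leaf 33607730)) (.node (.leaf 8671628) (.leaf 13982446)))))))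

/-- A point of the block, part 387. -/
def ptCodePart387 : Janko1.Tree ℕ := (.node (.node (.node (.node (.node (.node (.leaf 17406386) (.leaf 29283521)) (.node (.leaf 19862217) (.leaf 21383928))) (.node (.node (.leaf 24102653) (.leaf 5773980)) (.node (.leaf 24889529) (.leaf 20581646)))) (.node (.node (.node (.leaf 17334546) (.leaf 8673709)) (.node (.leaf 3365420) (.leaf 32921544))) (.node (.node (.leaf 14221532) (.leaf 24544918)) (.node (.leaf 13963094) (.leaf 18635564))))) (.node (.node (.node (.node (.leaf 23076025) (.leaf 27021485)) (.node (.leaf 9864730) (.leaf 30442905))) (.node (.node (.leaf 7034845) (.leaf 33037584)) (.node (.leaf 8292617) (.leaf 13178282)))) (.node (.node (.node (.leaf 18972742) (.leaf 34111677)) (.node (.leaf 10363132) (.leaf 9945102))) (.node (.node (.leaf 19368440) (.leaf 7013865)) (.node (.leaf 15851822) (.leaf 25156802)))))) (.node (.node (.node (.node (.node (.leaf 33609485) (.leaf 27017369)) (.node (.leaf 2514290) (.leaf 14224260))) (.node (.node (.leaf 33357854) (.leaf 19368064))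 (.node (.leaf 32970425) (.leaf 17553752)))) (.node (.node (.node (.leaf 16616702) (.leaf 4063558)) (.node (.leaf 7101592) (.leaf 6085150))) (.node (.node (.leaf 8291125) (.leaf 30380024)) (.node (.leaf 21120436) (.leaf 9243928))))) (.node (.node (.node (.node (.leaf 27166830) (.leaf 10328206)) (.node (.leaf 11356326) (.leaf 8672349))) (.node (.node (.leaf 34513142) (.leaf 24893409)) (.node (.leaf 33660862) (.leaf 5474216)))) (.node (.node (.node (.leaf 24485913) (.leaf 6623152)) (.node (.leaf 15851521) (.leaf 10461034))) (.node (.node (.leaf 29067881) (.leaf 4392730)) (.node (.leaf 14304321) (.leaf 25365942)))))))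

/-- A point of the block, part 388. -/
def ptCodePart388 : Janko1.Tree ℕ := (.node (.node (.node (.node (.node (.node (.leaf 2023646) (.leaf 35193256)) (.node (.leaf 4918545) (.leaf 18781633))) (.node (.node (.leaf 23986244) (.leaf 24479385)) (.node (.leaf 6799581) (.leaf 18567257)))) (.node (.node (.node (.leaf 19864808) (.leaf 33626244)) (.node (.leaf 5478929) (.leaf 10457149))) (.node (.node (.leaf 14501626) (.leaf 9953368)) (.node (.leaf 23289222) (.leaf 12339281))))) (.node (.node (.node (.node (.leaf 12126929) (.leaf 16618104)) (.node (.leaf 25839025) (.leaf 3148952))) (.node (.node (.leaf 17550808) (.leaf 30591492)) (.node (.leaf 19369468) (.leaf 18569458)))) (.node (.node (.node (.leaf 8936464) (.leaf 15321945)) (.node (.leaf 30348865) (.leaf 9310997))) (.node (.node (.leaf 9868450) (.leaf 11687037)) (.node (.leaf 6803141) (.leaf 6803125)))))) (.node (.node (.node (.node (.node (.leaf 25022066) (.leaf 3294461)) (.node (.leaf 33611050) (.leaf 3301749))) (.node (.node (.leaf 5459101) (.leaf 20715524))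 (.node (.leaf 24484402) (.leaf 26956794)))) (.node (.node (.node (.leaf 30493925) (.leaf 11556533)) (.node (.leaf 7510780) (.leaf 5775786))) (.node (.node (.leaf 12127148) (.leaf 28202085)) (.node (.leaf 32527412) (.leaf 12338482))))) (.node (.node (.node (.node (.leaf 29278725) (.leaf 16616298)) (.node (.leaf 34119510) (.leaf 33658113))) (.node (.node (.leaf 21512570) (.leaf 16585404)) (.node (.leaf 30399233) (.leaf 25103216)))) (.node (.node (.node (.leaf 5769138) (.leaf 32525284)) (.node (.leaf 12884705) (.leaf 23644358))) (.node (.node (.leaf 22601854) (.leaf 10620737)) (.node (.leaf 10453741) (.leaf 26837202)))))))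

/-- A point of the block, part 389. -/
def ptCodePart389 : Janko1.Tree ℕ := (.node (.node (.node (.node (.node (.node (.leaf 35000006) (.leaf 27025613)) (.node (.leaf 9868674) (.leaf 20712653))) (.node (.node (.leaf 31591768) (.leaf 8298048)) (.node (.leaf 25153174) (.leaf 2262086)))) (.node (.node (.node (.leaf 34117796) (.leaf 21501309)) (.node (.leaf 17762818) (.leaf 695688))) (.node (.node (.leaf 5505218) (.leaf 17400353)) (.node (.leaf 30444177) (.leaf 14583048))))) (.node (.node (.node (.node (.leaf 26952352) (.leaf 23993588)) (.node (.leaf 31064749) (.leaf 694414))) (.node (.node (.leaf 17764692) (.leaf 10359322)) (.node (.leaf 32923296) (.leaf 2001462)))) (.node (.node (.node (.leaf 18980973) (.leaf 30593433)) (.node (.leaf 13571538) (.leaf 15828621))) (.node (.node (.leaf 18973366) (.leaf 33623829)) (.node (.leaf 1103824) (.leaf 24892233)))))) (.node (.node (.node (.node (.node (.leaf 21989442) (.leaf 12345214)) (.node (.leaf 18629528) (.leaf 18288993))) (.node (.node (.leaf 23285606) (.leaf 35378946))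 (.node (.leaf 10616854) (.leaf 27811812)))) (.node (.node (.node (.leaf 4771361) (.leaf 26222313)) (.node (.leaf 27514326) (.leaf 15843586))) (.node (.node (.leaf 23074528) (.leaf 3774817)) (.node (.leaf 32283941) (.leaf 3776526))))) (.node (.node (.node (.node (.leaf 3653825) (.leaf 3775756)) (.node (.leaf 7049224) (.leaf 18782713))) (.node (.node (.leaf 27023685) (.leaf 27169749)) (.node (.leaf 9868657) (.leaf 2415610)))) (.node (.node (.node (.leaf 35379152) (.leaf 6079312)) (.node (.leaf 10569908) (.leaf 17555429))) (.node (.node (.leaf 31166562) (.leaf 8245070)) (.node (.leaf 20993466) (.leaf 12128616)))))))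

/-- A point of the block, part 390. -/
def ptCodePart390 : Janko1.Tree ℕ := (.node (.node (.node (.node (.node (.node (.leaf 14508230) (.leaf 12340256)) (.node (.leaf 2266860) (.leaf 35200009))) (.node (.node (.leaf 7048078) (.leaf 23069561)) (.node (.leaf 18636801) (.leaf 9308549)))) (.node (.node (.node (.leaf 18942450) (.leaf 23709569)) (.node (.leaf 21995566) (.leaf 13359966))) (.node (.node (.leaf 35195070) (.leaf 903576)) (.node (.leaf 25367988) (.leaf 3773389))))) (.node (.node (.node (.node (.leaf 16254688) (.leaf 21995608)) (.node (.leaf 30380913) (.leaf 19092422))) (.node (.node (.leaf 21123390) (.leaf 17402012)) (.node (.leaf 27564366) (.leaf 21992836)))) (.node (.node (.node (.leaf 2016840) (.leaf 5458106)) (.node (.leaf 18678870) (.leaf 21711645))) (.node (.node (.leaf 10437325) (.leaf 7046318)) (.node (.leaf 5183773) (.leaf 8932078)))))) (.node (.node (.node (.node (.node (.leaf 21389101) (.leaf 27804262)) (.node (.leaf 4068158) (.leaf 17701024))) (.node (.node (.leaf 25364525) (.leaf 33511462))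 (.node (.leaf 5146401) (.leaf 17223133)))) (.node (.node (.node (.leaf 7046394) (.leaf 10453105)) (.node (.leaf 19695820) (.leaf 23289605))) (.node (.node (.leaf 27810816) (.leaf 7095144)) (.node (.leaf 33604086) (.leaf 25025206))))) (.node (.node (.node (.node (.leaf 12339770) (.leaf 5475929)) (.node (.leaf 15828117) (.leaf 21500909))) (.node (.node (.leaf 29068142) (.leaf 32211341)) (.node (.leaf 33775476) (.leaf 35066466)))) (.node (.node (.node (.leaf 1037577) (.leaf 21053474)) (.node (.leaf 27020244) (.leaf 3299622))) (.node (.node (.leaf 20988810) (.leaf 14582341)) (.node (.leaf 7031366) (.leaf 28696397)))))))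

/-- A point of the block, part 391. -/
def ptCodePart391 : Janko1.Tree ℕ := (.node (.node (.node (.node (.node (.node (.leaf 34998488) (.leaf 17225692)) (.node (.leaf 35069337) (.leaf 6623833))) (.node (.node (.leaf 22170636) (.leaf 17551910)) (.node (.leaf 13571116) (.leaf 5512933)))) (.node (.node (.node (.leaf 21499597) (.leaf 13966928)) (.node (.leaf 4622156) (.leaf 7053148))) (.node (.node (.leaf 32283741) (.leaf 6804461)) (.node (.leaf 13107749) (.leaf 26845061))))) (.node (.node (.node (.node (.leaf 21125808) (.leaf 21992164)) (.node (.leaf 3886402) (.leaf 24890705))) (.node (.node (.leaf 6807154) (.leaf 8292905)) (.node (.leaf 17400212) (.leaf 25153357)))) (.node (.node (.node (.leaf 16618245) (.leaf 8244630)) (.node (.leaf 31168390) (.leaf 16618325))) (.node (.node (.leaf 13141990) (.leaf 15831686)) (.node (.leaf 13111742) (.leaf 32525532)))))) (.node (.node (.node (.node (.node (.leaf 1361652) (.leaf 11359560)) (.node (.leaf 3659581) (.leaf 34279848))) (.node (.node (.leaf 25534753) (.leaf 10460324))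 (.node (.leaf 6078756) (.leaf 29754758)))) (.node (.node (.node (.leaf 20718006) (.leaf 20992440)) (.node (.leaf 20714793) (.leaf 19863946))) (.node (.node (.leaf 7095352) (.leaf 2264556)) (.node (.leaf 34574694) (.leaf 12884045))))) (.node (.node (.node (.node (.leaf 3656854) (.leaf 22742868)) (.node (.leaf 6081104) (.leaf 34508617))) (.node (.node (.leaf 22745914) (.leaf 3150157)) (.node (.leaf 14507513) (.leaf 13112905)))) (.node (.node (.node (.leaf 5148874) (.leaf 16581361)) (.node (.leaf 20142744) (.leaf 13145788))) (.node (.node (.leaf 23710858) (.leaf 5774230)) (.node (.leaf 397129) (.leaf 9870789)))))))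

/-- A point of the block, part 392. -/
def ptCodePart392 : Janko1.Tree ℕ := (.node (.node (.node (.node (.node (.node (.leaf 7014118) (.leaf 24108261)) (.node (.leaf 32526156) (.leaf 27811089))) (.node (.node (.leaf 32333814) (.leaf 3297597)) (.node (.leaf 30349145) (.leaf 30380514)))) (.node (.node (.node (.leaf 27172222) (.leaf 4625945)) (.node (.leaf 31168225) (.leaf 11684644))) (.node (.node (.leaf 5475066) (.leaf 10573185)) (.node (.leaf 33660308) (.leaf 15851838))))) (.node (.node (.node (.node (.leaf 26527353) (.leaf 17695976)) (.node (.leaf 27133776) (.leaf 33363717))) (.node (.node (.leaf 19090261) (.leaf 2267098)) (.node (.leaf 18945536) (.leaf 30494765)))) (.node (.node (.node (.leaf 25106774) (.leaf 2269072)) (.node (.leaf 28203304) (.leaf 27476956))) (.node (.node (.leaf 4773265) (.leaf 23643688)) (.node (.leaf 23282473) (.leaf 17338144)))))) (.node (.node (.node (.node (.node (.leaf 14586893) (.leaf 8244550)) (.node (.leaf 10323912) (.leaf 23289892))) (.node (.node (.leaf 20140472) (.leaf 8293845))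 (.node (.leaf 30350062) (.leaf 13144114)))) (.node (.node (.node (.leaf 29071248) (.leaf 33364366)) (.node (.leaf 33035772) (.leaf 13144614))) (.node (.node (.leaf 23006244) (.leaf 1035598)) (.node (.leaf 14585101) (.leaf 31065332))))) (.node (.node (.node (.node (.leaf 11063706) (.leaf 32283597)) (.node (.leaf 13570429) (.leaf 25100750))) (.node (.node (.leaf 14305644) (.leaf 13566910)) (.node (.leaf 24480208) (.leaf 5480062)))) (.node (.node (.node (.leaf 29753406) (.leaf 24549681)) (.node (.leaf 7030422) (.leaf 4070049))) (.node (.node (.leaf 33511142) (.leaf 30495706)) (.node (.leaf 19699796) (.leaf 22741449)))))))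

/-- A point of the block, part 393. -/
def ptCodePart393 : Janko1.Tree ℕ := (.node (.node (.node (.node (.node (.node (.leaf 27167869) (.leaf 11689550)) (.node (.leaf 32250926) (.leaf 19699289))) (.node (.node (.leaf 8901420) (.leaf 30265817)) (.node (.leaf 30267485) (.leaf 3884017)))) (.node (.node (.node (.leaf 21776274) (.leaf 33625568)) (.node (.leaf 11064073) (.leaf 25100400))) (.node (.node (.leaf 33621660) (.leaf 13279593)) (.node (.leaf 32246049) (.leaf 14226078))))) (.node (.node (.node (.node (.leaf 25125246) (.leaf 5178589)) (.node (.leaf 23987589) (.leaf 30343966))) (.node (.node (.leaf 10358008) (.leaf 32328489)) (.node (.leaf 13110796) (.leaf 21781401)))) (.node (.node (.node (.leaf 17699728) (.leaf 21497772)) (.node (.leaf 27806718) (.leaf 18974096))) (.node (.node (.leaf 15851568) (.leaf 29070476)) (.node (.leaf 17554790) (.leaf 25121014)))))) (.node (.node (.node (.node (.node (.leaf 18291822) (.leaf 34280080)) (.node (.leaf 31167494) (.leaf 17547754))) (.node (.node (.leaf 1037733) (.leaf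 25105357)) (.node (.leaf 393245) (.leaf 14585870)))) (.node (.node (.node (.leaf 7018789) (.leaf 4626642)) (.node (.leaf 23713101) (.leaf 20138002))) (.node (.node (.leaf 20143253) (.leaf 33604837)) (.node (.leaf 35003133) (.leaf 8247702))))) (.node (.node (.node (.node (.leaf 32249212) (.leaf 9245336)) (.node (.leaf 7053722) (.leaf 29072874))) (.node (.node (.leaf 17407892) (.leaf 25534716)) (.node (.leaf 19698798) (.leaf 13961110)))) (.node (.node (.node (.leaf 18284874) (.leaf 22743985)) (.node (.leaf 2412890) (.leaf 22175880))) (.node (.node (.leaf 20143388) (.leaf 2514006)) (.node (.leaf 2412878) (.leaf 7505093)))))))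

/-- A point of the block, part 394. -/
def ptCodePart394 : Janko1.Tree ℕ := (.node (.node (.node (.node (.node (.node (.leaf 2264164) (.leaf 32282612)) (.node (.leaf 34572152) (.leaf 30398504))) (.node (.node (.leaf 5770925) (.leaf 19863505)) (.node (.leaf 13361576) (.leaf 28199688)))) (.node (.node (.node (.leaf 33609910) (.leaf 26215269)) (.node (.leaf 18684965) (.leaf 27137270))) (.node (.node (.leaf 16586386) (.leaf 11847597)) (.node (.leaf 4917701) (.leaf 18783838))))) (.node (.node (.node (.node (.leaf 13111705) (.leaf 18781657)) (.node (.leaf 19369250) (.leaf 18681040))) (.node (.node (.leaf 34116461) (.leaf 27138613)) (.node (.leaf 22777421) (.leaf 33609701)))) (.node (.node (.node (.leaf 12883557) (.leaf 11355128)) (.node (.leaf 9243281) (.leaf 9949716))) (.node (.node (.leaf 21520068) (.leaf 17341870)) (.node (.leaf 12880049) (.leaf 19695726)))))) (.node (.node (.node (.node (.node (.leaf 9950614) (.leaf 901776)) (.node (.leaf 24550657) (.leaf 18942998))) (.node (.node (.leaf 14228933) (.leaf 30808120))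 (.node (.leaf 5459689) (.leaf 33513708)))) (.node (.node (.node (.leaf 13275018) (.leaf 32921277)) (.node (.leaf 35065856) (.leaf 31589114))) (.node (.node (.leaf 24107372) (.leaf 25365753)) (.node (.leaf 16620962) (.leaf 10454460))))) (.node (.node (.node (.node (.leaf 10575784) (.leaf 18633092)) (.node (.leaf 4395158) (.leaf 30381413))) (.node (.node (.leaf 23710796) (.leaf 15321524)) (.node (.leaf 1361904) (.leaf 6800686)))) (.node (.node (.node (.leaf 3653890) (.leaf 11846197)) (.node (.leaf 27235293) (.leaf 32248576))) (.node (.node (.leaf 23642825) (.leaf 8245138)) (.node (.leaf 31166580) (.leaf 10573809)))))))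

/-- A point of the block, part 395. -/
def ptCodePart395 : Janko1.Tree ℕ := (.node (.node (.node (.node (.node (.node (.leaf 10454433) (.leaf 35065760)) (.node (.leaf 8298024) (.leaf 22601609))) (.node (.node (.leaf 400952) (.leaf 5507496)) (.node (.leaf 26217093) (.leaf 23715196)))) (.node (.node (.node (.leaf 30493045) (.leaf 17766738)) (.node (.leaf 22776956) (.leaf 19137941))) (.node (.node (.leaf 30445129) (.leaf 17057316)) (.node (.leaf 18945906) (.leaf 33771858))))) (.node (.node (.node (.node (.leaf 12124958) (.leaf 21058581)) (.node (.leaf 22775056) (.leaf 2506970))) (.node (.node (.leaf 23647300) (.leaf 17700494)) (.node (.leaf 31589078) (.leaf 22168825)))) (.node (.node (.node (.leaf 16618922) (.leaf 18563461)) (.node (.leaf 4915278) (.leaf 23715869))) (.node (.node (.leaf 8243144) (.leaf 10356388)) (.node (.leaf 5180709) (.leaf 21387812)))))) (.node (.node (.node (.node (.node (.leaf 7018245) (.leaf 15321520)) (.node (.leaf 24478892) (.leaf 29281874))) (.node (.node (.leaf 30346148) (.leaf 32218805))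 (.node (.leaf 2515140) (.leaf 21060588)))) (.node (.node (.node (.leaf 23986853) (.leaf 6624621)) (.node (.leaf 5182900) (.leaf 24892369))) (.node (.node (.leaf 31589236) (.leaf 24484333)) (.node (.leaf 25021057) (.leaf 11852178))))) (.node (.node (.node (.node (.leaf 16260994) (.leaf 19090546)) (.node (.leaf 8668365) (.leaf 22599796))) (.node (.node (.leaf 35380369) (.leaf 22779808)) (.node (.leaf 33624204) (.leaf 17339804)))) (.node (.node (.node (.leaf 16586350) (.leaf 28695448)) (.node (.leaf 21515093) (.leaf 22596214))) (.node (.node (.leaf 17228044) (.leaf 33037616)) (.node (.leaf 401278) (.leaf 7051650)))))))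

/-- A point of the block, part 396. -/
def ptCodePart396 : Janko1.Tree ℕ := (.node (.node (.node (.node (.node (.node (.leaf 5145970) (.leaf 16257182)) (.node (.leaf 19137498) (.leaf 17700358))) (.node (.node (.leaf 15851390) (.leaf 25025017)) (.node (.leaf 22741216) (.leaf 17227416)))) (.node (.node (.node (.leaf 18631665) (.leaf 18634692)) (.node (.leaf 18634604) (.leaf 10324278))) (.node (.node (.leaf 32247586) (.leaf 32276884)) (.node (.leaf 34507281) (.leaf 17407573))))) (.node (.node (.node (.node (.leaf 27024266) (.leaf 32251008)) (.node (.leaf 27316097) (.leaf 9865908))) (.node (.node (.leaf 27132168) (.leaf 14502772)) (.node (.leaf 18974854) (.leaf 29753698)))) (.node (.node (.node (.leaf 21512797) (.leaf 32523605)) (.node (.leaf 13982440) (.leaf 18678434))) (.node (.node (.leaf 4624372) (.leaf 21126509)) (.node (.leaf 4071278) (.leaf 10357785)))))) (.node (.node (.node (.node (.node (.leaf 33626257) (.leaf 19095448)) (.node (.leaf 32280029) (.leaf 19142150))) (.node (.node (.leaf 24477800) (.leaf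 26220224)) (.node (.leaf 30262121) (.leaf 18567428)))) (.node (.node (.node (.leaf 14587848) (.leaf 30268840)) (.node (.leaf 26530952) (.leaf 903290))) (.node (.node (.leaf 18570617) (.leaf 5774078)) (.node (.leaf 33507094) (.leaf 18569933))))) (.node (.node (.node (.node (.leaf 394685) (.leaf 17762525)) (.node (.leaf 901370) (.leaf 28689621))) (.node (.node (.leaf 9868390) (.leaf 2022325)) (.node (.leaf 14308758) (.leaf 13174836)))) (.node (.node (.node (.leaf 30588937) (.leaf 30379714)) (.node (.leaf 18570366) (.leaf 35196290))) (.node (.node (.leaf 2410894) (.leaf 2509676)) (.node (.leaf 30399284) (.leaf 1366876)))))))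

/-- A point of the block, part 397. -/
def ptCodePart397 : Janko1.Tree ℕ := (.node (.node (.node (.node (.node (.node (.leaf 18678102) (.leaf 25530397)) (.node (.leaf 21123100) (.leaf 33364172))) (.node (.node (.leaf 21779957) (.leaf 8244553)) (.node (.leaf 30591532) (.leaf 27509914)))) (.node (.node (.node (.leaf 35068132) (.leaf 7028885)) (.node (.leaf 18780060) (.leaf 27806204))) (.node (.node (.leaf 18974350) (.leaf 30593801)) (.node (.leaf 17336737) (.leaf 20582680))))) (.node (.node (.node (.node (.leaf 33037614) (.leaf 14222244)) (.node (.leaf 30441948) (.leaf 24545461))) (.node (.node (.leaf 13964525) (.leaf 14503530)) (.node (.leaf 26953730) (.leaf 26838137)))) (.node (.node (.node (.leaf 5151460) (.leaf 30444442)) (.node (.leaf 8901026) (.leaf 8897868))) (.node (.node (.leaf 5180838) (.leaf 19143029)) (.node (.leaf 13114640) (.leaf 22170192)))))) (.node (.node (.node (.node (.node (.leaf 25018373) (.leaf 23070629)) (.node (.leaf 25118420) (.leaf 13961680))) (.node (.node (.leaf 4771149) (.leaf 34996250))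 (.node (.leaf 23989960) (.leaf 17226756)))) (.node (.node (.node (.leaf 4070208) (.leaf 27314850)) (.node (.leaf 21709224) (.leaf 21388657))) (.node (.node (.leaf 20581240) (.leaf 1035682)) (.node (.leaf 27315061) (.leaf 11552084))))) (.node (.node (.node (.node (.leaf 10574500) (.leaf 10356789)) (.node (.leaf 4067548) (.leaf 6083761))) (.node (.node (.leaf 11551413) (.leaf 7046682)) (.node (.leaf 27564294) (.leaf 4391808)))) (.node (.node (.node (.leaf 13173685) (.leaf 19095200)) (.node (.leaf 4397456) (.leaf 5462054))) (.node (.node (.leaf 17763833) (.leaf 32523340)) (.node (.leaf 32972334) (.leaf 17061420)))))))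

/-- A point of the block, part 398. -/
def ptCodePart398 : Janko1.Tree ℕ := (.node (.node (.node (.node (.node (.node (.leaf 16585238) (.leaf 20586874)) (.node (.leaf 27512573) (.leaf 13279409))) (.node (.node (.leaf 28199918) (.leaf 18685873)) (.node (.leaf 34574894) (.leaf 1367004)))) (.node (.node (.node (.leaf 30392780) (.leaf 11059946)) (.node (.leaf 35066358) (.leaf 13572734))) (.node (.node (.leaf 11683134) (.leaf 34113654)) (.node (.leaf 1034496) (.leaf 32968616))))) (.node (.node (.node (.node (.leaf 5185317) (.leaf 25838553)) (.node (.leaf 8671194) (.leaf 12124572))) (.node (.node (.leaf 15323396) (.leaf 23068684)) (.node (.leaf 30345766) (.leaf 29278736)))) (.node (.node (.node (.leaf 26958046) (.leaf 7036908)) (.node (.leaf 23988441) (.leaf 30496392))) (.node (.node (.leaf 8668836) (.leaf 26837978)) (.node (.leaf 2020630) (.leaf 4775110)))))) (.node (.node (.node (.node (.node (.leaf 13984186) (.leaf 12879122)) (.node (.leaf 18285554) (.leaf 33659893))) (.node (.node (.leaf 13109950) (.leaf 9242408))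 (.node (.leaf 3297008) (.leaf 25534713)))) (.node (.node (.node (.leaf 20140996) (.leaf 34282678)) (.node (.leaf 25122237) (.leaf 19859616))) (.node (.node (.leaf 7096562) (.leaf 27316161)) (.node (.leaf 32211094) (.leaf 694977))))) (.node (.node (.node (.node (.leaf 10618372) (.leaf 25106566)) (.node (.leaf 22774969) (.leaf 11551596))) (.node (.node (.leaf 34512558) (.leaf 13574038)) (.node (.leaf 13357141) (.leaf 8901117)))) (.node (.node (.node (.leaf 1360456) (.leaf 25840686)) (.node (.leaf 20582648) (.leaf 16621436))) (.node (.node (.leaf 23714592) (.leaf 10327850)) (.node (.leaf 31065632) (.leaf 8541402)))))))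

/-- A point of the block, part 399. -/
def ptCodePart399 : Janko1.Tree ℕ := (.node (.node (.node (.node (.node (.node (.leaf 7029528) (.leaf 30343694)) (.node (.leaf 16257930) (.leaf 690754))) (.node (.node (.leaf 33362040) (.leaf 23004814)) (.node (.leaf 19698449) (.leaf 8298742)))) (.node (.node (.node (.leaf 908990) (.leaf 29285372)) (.node (.leaf 12125122) (.leaf 18567420))) (.node (.node (.leaf 11360857) (.leaf 17061440)) (.node (.leaf 32213002) (.leaf 15835346))))) (.node (.node (.node (.node (.leaf 25156292) (.leaf 1360192)) (.node (.leaf 27561841) (.leaf 12882105))) (.node (.node (.leaf 21717106) (.leaf 20992785)) (.node (.leaf 31170632) (.leaf 20141097)))) (.node (.node (.node (.leaf 23284281) (.leaf 32245488)) (.node (.leaf 33654069) (.leaf 25024160))) (.node (.node (.leaf 26533846) (.leaf 27165176)) (.node (.leaf 18679661) (.leaf 10439578)))))) (.node (.node (.node (.node (.node (.leaf 13977102) (.leaf 30810432)) (.node (.leaf 2002726) (.leaf 26219408))) (.node (.node (.leaf 7504557) (.leaf 33626704))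 (.node (.leaf 33038408) (.leaf 14310878)))) (.node (.node (.node (.leaf 27478549) (.leaf 27238082)) (.node (.leaf 27511785) (.leaf 3148565))) (.node (.node (.leaf 28199318) (.leaf 33032573)) (.node (.leaf 9308908) (.leaf 21387900))))) (.node (.node (.node (.node (.leaf 7101660) (.leaf 8937752)) (.node (.leaf 11853178) (.leaf 34278950))) (.node (.node (.leaf 34118234) (.leaf 8936106)) (.node (.leaf 34571657) (.leaf 3154213)))) (.node (.node (.node (.leaf 12880037) (.leaf 14304614)) (.node (.leaf 9311172) (.leaf 23714422))) (.node (.node (.leaf 13357936) (.leaf 27513170)) (.node (.leaf 9948989) (.leaf 27023004)))))))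

/-- A point of the block, part 400. -/
def ptCodePart400 : Janko1.Tree ℕ := (.node (.node (.node (.node (.node (.node (.leaf 1101454) (.leaf 18947960)) (.node (.leaf 9244372) (.leaf 17060533))) (.node (.node (.leaf 31067409) (.leaf 26957542)) (.node (.leaf 17401669) (.leaf 10439626)))) (.node (.node (.node (.leaf 24547577) (.leaf 31072157)) (.node (.leaf 27132912) (.leaf 33610142))) (.node (.node (.leaf 10440817) (.leaf 26216104)) (.node (.leaf 8903414) (.leaf 3300345))))) (.node (.node (.node (.node (.leaf 4919986) (.leaf 19860909)) (.node (.leaf 3890778) (.leaf 26216009))) (.node (.node (.leaf 1102545) (.leaf 3658318)) (.node (.leaf 10445018) (.leaf 21387200)))) (.node (.node (.node (.leaf 34112094) (.leaf 30394004)) (.node (.leaf 10327902) (.leaf 3659890))) (.node (.node (.leaf 13273814) (.leaf 5185457)) (.node (.leaf 23993997) (.leaf 32330890)))))) (.node (.node (.node (.node (.node (.leaf 21126373) (.leaf 4770693)) (.node (.leaf 25531757) (.leaf 27806112))) (.node (.node (.leaf 2411874) (.leaf 35375462))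 (.node (.leaf 15321257) (.leaf 905401)))) (.node (.node (.node (.leaf 4397508) (.leaf 29066973)) (.node (.leaf 15833246) (.leaf 31593590))) (.node (.node (.leaf 17767905) (.leaf 33033608)) (.node (.leaf 9871718) (.leaf 24104936))))) (.node (.node (.node (.node (.leaf 26953965) (.leaf 35197134)) (.node (.leaf 29754512) (.leaf 34504872))) (.node (.node (.leaf 24544706) (.leaf 11065042)) (.node (.leaf 35195554) (.leaf 2002370)))) (.node (.node (.node (.leaf 30805173) (.leaf 2413337)) (.node (.leaf 23289129) (.leaf 1038020))) (.node (.node (.leaf 9951761) (.leaf 22599045)) (.node (.leaf 22175968) (.leaf 31592706)))))))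

/-- A point of the block, part 401. -/
def ptCodePart401 : Janko1.Tree ℕ := (.node (.node (.node (.node (.node (.node (.leaf 11853146) (.leaf 6085417)) (.node (.leaf 33507716) (.leaf 7016202))) (.node (.node (.leaf 27165161) (.leaf 22168218)) (.node (.leaf 13964788) (.leaf 11554701)))) (.node (.node (.node (.leaf 14590182) (.leaf 30394545)) (.node (.leaf 17059108) (.leaf 8935732))) (.node (.node (.leaf 18978984) (.leaf 24101293)) (.node (.leaf 8536905) (.leaf 7034145))))) (.node (.node (.node (.node (.leaf 30449186) (.leaf 9241064)) (.node (.leaf 10619016) (.leaf 25531838))) (.node (.node (.leaf 3360560) (.leaf 10356336)) (.node (.leaf 5460117) (.leaf 32966282)))) (.node (.node (.node (.leaf 32331781) (.leaf 30266700)) (.node (.leaf 33361272) (.leaf 11686984))) (.node (.node (.leaf 2264396) (.leaf 10569789)) (.node (.leaf 16257916) (.leaf 31066397)))))) (.node (.node (.node (.node (.node (.leaf 32281178) (.leaf 8249109)) (.node (.leaf 4395956) (.leaf 35373157))) (.node (.node (.leaf 27483664) (.leaf 22743458))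 (.node (.leaf 11690037) (.leaf 27136600)))) (.node (.node (.node (.leaf 10441804) (.leaf 27230425)) (.node (.leaf 31071722) (.leaf 21713425))) (.node (.node (.leaf 11852828) (.leaf 6078808)) (.node (.leaf 32915704) (.leaf 3145897))))) (.node (.node (.node (.node (.leaf 19139366) (.leaf 30383408)) (.node (.leaf 20996049) (.leaf 3886620))) (.node (.node (.leaf 4771868) (.leaf 695961)) (.node (.leaf 4915613) (.leaf 5462558)))) (.node (.node (.node (.leaf 24548848) (.leaf 35064801)) (.node (.leaf 29279758) (.leaf 21495882))) (.node (.node (.leaf 25118301) (.leaf 15043738)) (.node (.leaf 2787318) (.leaf 14307677)))))))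

/-- A point of the block, part 402. -/
def ptCodePart402 : Janko1.Tree ℕ := (.node (.node (.node (.node (.node (.node (.leaf 9591224) (.leaf 16745910)) (.node (.leaf 19012104) (.leaf 5610572))) (.node (.node (.leaf 24992256) (.leaf 19006612)) (.node (.leaf 20302512) (.leaf 23057685)))) (.node (.node (.node (.leaf 15372036) (.leaf 18912333)) (.node (.leaf 5609190) (.leaf 25888437))) (.node (.node (.leaf 27942726) (.leaf 5606728)) (.node (.leaf 16505673) (.leaf 8245236))))) (.node (.node (.node (.node (.leaf 32951980) (.leaf 22878100)) (.node (.leaf 10574012) (.leaf 19897364))) (.node (.node (.leaf 3268761) (.leaf 28680468)) (.node (.leaf 29672806) (.leaf 8968262)))) (.node (.node (.node (.leaf 2475444) (.leaf 16551104)) (.node (.leaf 901604) (.leaf 29671885))) (.node (.node (.leaf 28131478) (.leaf 3263677)) (.node (.leaf 2481085) (.leaf 8964868)))))) (.node (.node (.node (.node (.node (.leaf 17220108) (.leaf 2655668)) (.node (.leaf 6964192) (.leaf 8966178))) (.node (.node (.leaf 13422732) (.leaf 4770956))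 (.node (.leaf 18008168) (.leaf 4948269)))) (.node (.node (.node (.leaf 22976966) (.leaf 30359828)) (.node (.leaf 5718117) (.leaf 5721097))) (.node (.node (.leaf 24582489) (.leaf 16914042)) (.node (.leaf 23433014) (.leaf 9689317))))) (.node (.node (.node (.node (.leaf 21389200) (.leaf 3398624)) (.node (.leaf 18013246) (.leaf 23888640))) (.node (.node (.leaf 16916653) (.leaf 11738681)) (.node (.leaf 5931136) (.leaf 22880632)))) (.node (.node (.node (.leaf 9688937) (.leaf 2218300)) (.node (.leaf 13112294) (.leaf 18571400))) (.node (.node (.leaf 26875514) (.leaf 22316033)) (.node (.leaf 3869373) (.leaf 4119342)))))))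

/-- A point of the block, part 403. -/
def ptCodePart403 : Janko1.Tree ℕ := (.node (.node (.node (.node (.node (.node (.leaf 4538713) (.leaf 8851326)) (.node (.leaf 3267018) (.leaf 28678770))) (.node (.node (.leaf 29447765) (.leaf 20382440)) (.node (.leaf 5245000) (.leaf 1825201)))) (.node (.node (.node (.leaf 14162866) (.leaf 10444526)) (.node (.leaf 34752906) (.leaf 17008226))) (.node (.node (.leaf 8246473) (.leaf 23893733)) (.node (.leaf 301454) (.leaf 32296436))))) (.node (.node (.node (.node (.leaf 34147118) (.leaf 29348312)) (.node (.leaf 3656956) (.leaf 2480708))) (.node (.node (.leaf 24368590) (.leaf 14192917)) (.node (.leaf 4118629) (.leaf 23551192)))) (.node (.node (.node (.leaf 17227516) (.leaf 25893032)) (.node (.leaf 4590157) (.leaf 34113196))) (.node (.node (.leaf 18011836) (.leaf 15458518)) (.node (.leaf 10608784) (.leaf 32104501)))))) (.node (.node (.node (.node (.node (.leaf 33816690) (.leaf 24283748)) (.node (.leaf 23544385) (.leaf 13044086))) (.node (.node (.leaf 32642425) (.leaf 11732441))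 (.node (.leaf 20383792) (.leaf 22219386)))) (.node (.node (.node (.leaf 3611705) (.leaf 35341916)) (.node (.leaf 3656032) (.leaf 27959405))) (.node (.node (.leaf 15504826) (.leaf 8096633)) (.node (.leaf 31967152) (.leaf 302313))))) (.node (.node (.node (.node (.leaf 15455417) (.leaf 19401361)) (.node (.leaf 18907425) (.leaf 27955372))) (.node (.node (.leaf 32300508) (.leaf 9833268)) (.node (.leaf 14196796) (.leaf 15040633)))) (.node (.node (.node (.leaf 24846224) (.leaf 23056956)) (.node (.leaf 9080156) (.leaf 1004680))) (.node (.node (.leaf 31032046) (.leaf 2135649)) (.node (.leaf 13110505) (.leaf 20384649)))))))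

/-- A point of the block, part 404. -/
def ptCodePart404 : Janko1.Tree ℕ := (.node (.node (.node (.node (.node (.node (.leaf 17433801) (.leaf 31968741)) (.node (.leaf 20307449) (.leaf 17063677))) (.node (.node (.leaf 2474256) (.leaf 22316828)) (.node (.leaf 28246029) (.leaf 25592521)))) (.node (.node (.node (.leaf 8243194) (.leaf 34033474)) (.node (.leaf 17006985) (.leaf 24369910))) (.node (.node (.leaf 17652309) (.leaf 4769266)) (.node (.leaf 23055296) (.leaf 19891589))))) (.node (.node (.node (.node (.leaf 23037125) (.leaf 4956433)) (.node (.leaf 22974930) (.leaf 28066765))) (.node (.node (.leaf 3868745) (.leaf 15180220)) (.node (.leaf 21381132) (.leaf 25597480)))) (.node (.node (.node (.leaf 1820252) (.leaf 27943337)) (.node (.leaf 3179686) (.leaf 31966204))) (.node (.node (.leaf 1824320) (.leaf 17224281)) (.node (.leaf 32644597) (.leaf 4773150)))))) (.node (.node (.node (.node (.node (.leaf 15998077) (.leaf 17898085)) (.node (.leaf 25887400) (.leaf 24576664))) (.node (.node (.leaf 5933148) (.leaf 23451814))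 (.node (.leaf 28672004) (.leaf 24268869)))) (.node (.node (.node (.leaf 17062865) (.leaf 22222056)) (.node (.leaf 33002638) (.leaf 28137941))) (.node (.node (.leaf 5932890) (.leaf 24580408)) (.node (.leaf 32096370) (.leaf 31427046))))) (.node (.node (.node (.node (.leaf 4593821) (.leaf 20829368)) (.node (.leaf 24843658) (.leaf 4214748))) (.node (.node (.leaf 35346874) (.leaf 22186757)) (.node (.leaf 4592862) (.leaf 2655874)))) (.node (.node (.node (.leaf 22201237) (.leaf 5718270)) (.node (.leaf 24743020) (.leaf 15993436))) (.node (.node (.leaf 23452517) (.leaf 19006116)) (.node (.leaf 24576609) (.leaf 26631940)))))))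

/-- A point of the block, part 405. -/
def ptCodePart405 : Janko1.Tree ℕ := (.node (.node (.node (.node (.node (.node (.leaf 29344332) (.leaf 23433577)) (.node (.leaf 2130857) (.leaf 23598161))) (.node (.node (.leaf 32360004) (.leaf 4589688)) (.node (.leaf 4119670) (.leaf 24789234)))) (.node (.node (.node (.leaf 24846216) (.leaf 13468640)) (.node (.leaf 25237593) (.leaf 27934722))) (.node (.node (.leaf 22452646) (.leaf 13535726)) (.node (.leaf 31038845) (.leaf 29328374))))) (.node (.node (.node (.node (.leaf 4113349) (.leaf 7920896)) (.node (.leaf 24289628) (.leaf 24367124))) (.node (.node (.leaf 23889969) (.leaf 13421193)) (.node (.leaf 16552336) (.leaf 11739260)))) (.node (.node (.node (.leaf 17094974) (.leaf 29868553)) (.node (.leaf 21252922) (.leaf 14912612))) (.node (.node (.leaf 7919089) (.leaf 14917620)) (.node (.leaf 28250838) (.leaf 11197804)))))) (.node (.node (.node (.node (.node (.leaf 24939598) (.leaf 9084212)) (.node (.leaf 29056836) (.leaf 8095464))) (.node (.node (.leaf 10608013) (.leaf 4546254))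 (.node (.leaf 23446696) (.leaf 13115173)))) (.node (.node (.node (.leaf 33326744) (.leaf 15060448)) (.node (.leaf 24287025) (.leaf 6835758))) (.node (.node (.leaf 30196064) (.leaf 24697590)) (.node (.leaf 32365077) (.leaf 3131578))))) (.node (.node (.node (.node (.leaf 25888266) (.leaf 34152234)) (.node (.leaf 9589210) (.leaf 23436124))) (.node (.node (.leaf 5933904) (.leaf 22972628)) (.node (.leaf 5248174) (.leaf 8182881)))) (.node (.node (.node (.leaf 12190592) (.leaf 2791458)) (.node (.leaf 15487680) (.leaf 30414944))) (.node (.node (.leaf 32951677) (.leaf 22218122)) (.node (.leaf 20303402) (.leaf 5610565)))))))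

/-- A point of the block, part 406. -/
def ptCodePart406 : Janko1.Tree ℕ := (.node (.node (.node (.node (.node (.node (.leaf 34111510) (.leaf 4524258)) (.node (.leaf 26624984) (.leaf 24795444))) (.node (.node (.leaf 22872740) (.leaf 8964797)) (.node (.leaf 2791892) (.leaf 24745540)))) (.node (.node (.node (.leaf 1001254) (.leaf 5936142)) (.node (.leaf 31968988) (.leaf 34032970))) (.node (.node (.leaf 15995060) (.leaf 29449972)) (.node (.leaf 23431870) (.leaf 6835982))))) (.node (.node (.node (.node (.leaf 22205052) (.leaf 23599742)) (.node (.leaf 8177472) (.leaf 23447462))) (.node (.node (.leaf 3130340) (.leaf 19403882)) (.node (.leaf 15996920) (.leaf 29343810)))) (.node (.node (.node (.leaf 4250245) (.leaf 19153410)) (.node (.leaf 8851940) (.leaf 17433881))) (.node (.node (.leaf 18645901) (.leaf 9082456)) (.node (.leaf 17646750) (.leaf 34035645)))))) (.node (.node (.node (.node (.node (.leaf 13426496) (.leaf 16860132)) (.node (.leaf 28247580) (.leaf 29870636))) (.node (.node (.leaf 872765) (.leaf 20831776))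 (.node (.leaf 19126556) (.leaf 10440936)))) (.node (.node (.node (.leaf 15484589) (.leaf 1327416)) (.node (.leaf 18565878) (.leaf 4675646))) (.node (.node (.leaf 4243861) (.leaf 24698337)) (.node (.leaf 24747293) (.leaf 25085692))))) (.node (.node (.node (.node (.leaf 15177425) (.leaf 13471840)) (.node (.leaf 23042904) (.leaf 22203161))) (.node (.node (.leaf 29048933) (.leaf 8962358)) (.node (.leaf 19012486) (.leaf 14471618)))) (.node (.node (.node (.leaf 24843870) (.leaf 4593088)) (.node (.leaf 18914793) (.leaf 20384526))) (.node (.node (.leaf 2919960) (.leaf 32103942)) (.node (.leaf 13473020) (.leaf 14341510)))))))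

/-- A point of the block, part 407. -/
def ptCodePart407 : Janko1.Tree ℕ := (.node (.node (.node (.node (.node (.node (.leaf 941238) (.leaf 29674180)) (.node (.leaf 21250810) (.leaf 5247602))) (.node (.node (.leaf 23601122) (.leaf 14308121)) (.node (.leaf 34033010) (.leaf 294960)))) (.node (.node (.node (.leaf 34148185) (.leaf 1006262)) (.node (.leaf 3607585) (.leaf 28249081))) (.node (.node (.leaf 32636972) (.leaf 26871392)) (.node (.leaf 17089690) (.leaf 19891477))))) (.node (.node (.node (.node (.leaf 4949749) (.leaf 30710866)) (.node (.leaf 24796889) (.leaf 16502876))) (.node (.node (.leaf 8181852) (.leaf 32101286)) (.node (.leaf 13535697) (.leaf 33325158)))) (.node (.node (.node (.leaf 11736578) (.leaf 22201602)) (.node (.leaf 8095692) (.leaf 8538388))) (.node (.node (.leaf 12197202) (.leaf 5491633)) (.node (.leaf 15993412) (.leaf 8752776)))))) (.node (.node (.node (.node (.node (.leaf 35343574) (.leaf 24268188)) (.node (.leaf 18563834) (.leaf 27939876))) (.node (.node (.leaf 17057794) (.leaf 25239440))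 (.node (.leaf 4244129) (.leaf 3871858)))) (.node (.node (.node (.leaf 5605516) (.leaf 30413245)) (.node (.leaf 26630192) (.leaf 15045056))) (.node (.node (.leaf 4771797) (.leaf 32641449)) (.node (.leaf 35342732) (.leaf 24842148))))) (.node (.node (.node (.node (.leaf 2792090) (.leaf 876492)) (.node (.leaf 10607953) (.leaf 32884661))) (.node (.node (.leaf 10604501) (.leaf 8097417)) (.node (.leaf 22320452) (.leaf 32645502)))) (.node (.node (.node (.leaf 13047893) (.leaf 16913785)) (.node (.leaf 26632461) (.leaf 29051382))) (.node (.node (.leaf 31432297) (.leaf 4526269)) (.node (.leaf 16859652) (.leaf 3868361)))))))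

/-- A point of the block, part 408. -/
def ptCodePart408 : Janko1.Tree ℕ := (.node (.node (.node (.node (.node (.node (.leaf 22450988) (.leaf 8094110)) (.node (.leaf 27514266) (.leaf 21680029))) (.node (.node (.leaf 3873580) (.leaf 10570737)) (.node (.leaf 1330249) (.leaf 24989900)))) (.node (.node (.node (.leaf 15490617) (.leaf 13108137)) (.node (.leaf 9685593) (.leaf 11192064))) (.node (.node (.leaf 9470994) (.leaf 4116086)) (.node (.leaf 17651150) (.leaf 3399506))))) (.node (.node (.node (.node (.leaf 4774944) (.leaf 29102572)) (.node (.leaf 13472950) (.leaf 34116785))) (.node (.node (.leaf 18074912) (.leaf 24286661)) (.node (.leaf 9211678) (.leaf 23039989)))) (.node (.node (.node (.leaf 30706578) (.leaf 23895237)) (.node (.leaf 30137541) (.leaf 5247768))) (.node (.node (.leaf 17093492) (.leaf 34489196)) (.node (.leaf 15175450) (.leaf 13420034)))))) (.node (.node (.node (.node (.node (.leaf 18010802) (.leaf 18079493)) (.node (.leaf 4949812) (.leaf 24693256))) (.node (.node (.leaf 22877206) (.leaf 17061118))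 (.node (.leaf 29105977) (.leaf 17433846)))) (.node (.node (.node (.leaf 16748098) (.leaf 9077145)) (.node (.leaf 872689) (.leaf 29335934))) (.node (.node (.leaf 17893734) (.leaf 23432762)) (.node (.leaf 934109) (.leaf 32642812))))) (.node (.node (.node (.node (.leaf 21682277) (.leaf 11197253)) (.node (.leaf 29450461) (.leaf 3268706))) (.node (.node (.leaf 5935394) (.leaf 4676408)) (.node (.leaf 24938662) (.leaf 18908940)))) (.node (.node (.node (.leaf 26628054) (.leaf 31967436)) (.node (.leaf 2922028) (.leaf 27516790))) (.node (.node (.leaf 25236421) (.leaf 25236332)) (.node (.leaf 19161157) (.leaf 1328804)))))))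

/-- A point of the block, part 409. -/
def ptCodePart409 : Janko1.Tree ℕ := (.node (.node (.node (.node (.node (.node (.leaf 29673396) (.leaf 16752524)) (.node (.leaf 1332790) (.leaf 2133576))) (.node (.node (.leaf 31427404) (.leaf 6020192)) (.node (.leaf 3133537) (.leaf 32297768)))) (.node (.node (.node (.leaf 22219562) (.leaf 29335629)) (.node (.leaf 6968756) (.leaf 9831842))) (.node (.node (.leaf 10568378) (.leaf 4250233)) (.node (.leaf 2482312) (.leaf 8177696))))) (.node (.node (.node (.node (.leaf 14337314) (.leaf 33824096)) (.node (.leaf 15171642) (.leaf 30708625))) (.node (.node (.leaf 22369420) (.leaf 29447042)) (.node (.leaf 22318118) (.leaf 23551077)))) (.node (.node (.node (.leaf 15454024) (.leaf 16750593)) (.node (.leaf 12574794) (.leaf 15483936))) (.node (.node (.leaf 15485949) (.leaf 31167461)) (.node (.leaf 19128129) (.leaf 26527960)))))) (.node (.node (.node (.node (.node (.leaf 4212950) (.leaf 34030572)) (.node (.leaf 15455500) (.leaf 28069938))) (.node (.node (.leaf 21383593) (.leaf 4676317))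 (.node (.leaf 14304936) (.leaf 2216554)))) (.node (.node (.node (.leaf 17223612) (.leaf 11193958)) (.node (.leaf 22971081) (.leaf 32297942))) (.node (.node (.leaf 2134389) (.leaf 23595717)) (.node (.leaf 15041912) (.leaf 4544204))))) (.node (.node (.node (.node (.leaf 24577681) (.leaf 19006721)) (.node (.leaf 29868457) (.leaf 18075977))) (.node (.node (.leaf 16745374) (.leaf 4949604)) (.node (.leaf 9835086) (.leaf 6971550)))) (.node (.node (.node (.leaf 30364284) (.leaf 22371144)) (.node (.leaf 22192496) (.leaf 13469342))) (.node (.node (.leaf 15374208) (.leaf 22365166)) (.node (.leaf 18209977) (.leaf 22221642)))))))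

/-- A point of the block, part 410. -/
def ptCodePart410 : Janko1.Tree ℕ := (.node (.node (.node (.node (.node (.node (.leaf 28675957) (.leaf 33325937)) (.node (.leaf 22975545) (.leaf 19155680))) (.node (.node (.leaf 26872052) (.leaf 30133428)) (.node (.leaf 28254112) (.leaf 19121917)))) (.node (.node (.node (.leaf 4669744) (.leaf 15488049)) (.node (.leaf 30195904) (.leaf 32293605))) (.node (.node (.leaf 27938224) (.leaf 3397917)) (.node (.leaf 3393734) (.leaf 3268562))))) (.node (.node (.node (.node (.leaf 26876273) (.leaf 23054457)) (.node (.leaf 901676) (.leaf 4217300))) (.node (.node (.leaf 2477557) (.leaf 10573169)) (.node (.leaf 24269918) (.leaf 24791036)))) (.node (.node (.node (.leaf 4117153) (.leaf 24697058)) (.node (.leaf 16750769) (.leaf 15043556))) (.node (.node (.leaf 29444274) (.leaf 7919101)) (.node (.leaf 3608528) (.leaf 31039758)))))) (.node (.node (.node (.node (.node (.leaf 21383977) (.leaf 23546994)) (.node (.leaf 8246913) (.leaf 30673686))) (.node (.node (.leaf 24265532) (.leaf 30676144))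 (.node (.leaf 9214029) (.leaf 30415877)))) (.node (.node (.node (.leaf 17436562) (.leaf 17433262)) (.node (.leaf 23448337) (.leaf 3391877))) (.node (.node (.leaf 14310481) (.leaf 31429364)) (.node (.leaf 21677368) (.leaf 12190761))))) (.node (.node (.node (.node (.leaf 14472204) (.leaf 13045621)) (.node (.leaf 22971025) (.leaf 32104234))) (.node (.node (.leaf 31431760) (.leaf 22222238)) (.node (.leaf 30200638) (.leaf 22451690)))) (.node (.node (.node (.leaf 20104276) (.leaf 28069665)) (.node (.leaf 13109500) (.leaf 29676018))) (.node (.node (.leaf 3609204) (.leaf 23600240)) (.node (.leaf 25086234) (.leaf 19121825)))))))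

/-- A point of the block, part 411. -/
def ptCodePart411 : Janko1.Tree ℕ := (.node (.node (.node (.node (.node (.node (.leaf 24993710) (.leaf 5245550)) (.node (.leaf 16909177) (.leaf 14190573))) (.node (.node (.leaf 29350820) (.leaf 20303586)) (.node (.leaf 17891812) (.leaf 27516398)))) (.node (.node (.node (.leaf 8850234) (.leaf 25087512)) (.node (.leaf 20108870) (.leaf 25231972))) (.node (.node (.leaf 28070665) (.leaf 20107718)) (.node (.leaf 2921868) (.leaf 33001449))))) (.node (.node (.node (.node (.leaf 934588) (.leaf 16551624)) (.node (.leaf 16505773) (.leaf 23040349))) (.node (.node (.leaf 21678816) (.leaf 18013068)) (.node (.leaf 30364288) (.leaf 16156729)))) (.node (.node (.node (.leaf 10788416) (.leaf 12566620)) (.node (.leaf 22364290) (.leaf 18567973))) (.node (.node (.leaf 22454457) (.leaf 22322884)) (.node (.leaf 14162662) (.leaf 16158196)))))) (.node (.node (.node (.node (.node (.leaf 23038410) (.leaf 12569692)) (.node (.leaf 15057988) (.leaf 5938544))) (.node (.node (.leaf 14910912) (.leaf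 18073729)) (.node (.leaf 2213185) (.leaf 26869829)))) (.node (.node (.node (.leaf 9833360) (.leaf 11733172)) (.node (.leaf 18571614) (.leaf 18077560))) (.node (.node (.leaf 20824237) (.leaf 4546222)) (.node (.leaf 3129916) (.leaf 3655396))))) (.node (.node (.node (.node (.leaf 25889353) (.leaf 3870312)) (.node (.leaf 19120970) (.leaf 9471868))) (.node (.node (.leaf 3186636) (.leaf 3655709)) (.node (.leaf 21678922) (.leaf 297956)))) (.node (.node (.node (.leaf 15453117) (.leaf 15044124)) (.node (.leaf 2661277) (.leaf 12190729))) (.node (.node (.leaf 32949677) (.leaf 3180742)) (.node (.leaf 20973458) (.leaf 20383478)))))))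

/-- A point of the block, part 412. -/
def ptCodePart412 : Janko1.Tree ℕ := (.node (.node (.node (.node (.node (.node (.leaf 22190756) (.leaf 33332048)) (.node (.leaf 9838733) (.leaf 29445690))) (.node (.node (.leaf 9586372) (.leaf 17011712)) (.node (.leaf 20977212) (.leaf 8247700)))) (.node (.node (.node (.leaf 2215881) (.leaf 5722670)) (.node (.leaf 24266137) (.leaf 5718760))) (.node (.node (.leaf 28131866) (.leaf 9684456)) (.node (.leaf 28132889) (.leaf 17651554))))) (.node (.node (.node (.node (.leaf 16860698) (.leaf 2214488)) (.node (.leaf 24745824) (.leaf 17095209))) (.node (.node (.leaf 27512422) (.leaf 31163697)) (.node (.leaf 9586078) (.leaf 21383464)))) (.node (.node (.node (.leaf 17652057) (.leaf 299372)) (.node (.leaf 23053394) (.leaf 1006957))) (.node (.node (.leaf 3180044) (.leaf 22218762)) (.node (.leaf 4113108) (.leaf 14161269)))))) (.node (.node (.node (.node (.node (.leaf 25595264) (.leaf 3605029)) (.node (.leaf 30365418) (.leaf 24289252))) (.node (.node (.leaf 6840642) (.leaf 22872597))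 (.node (.leaf 15370264) (.leaf 9588765)))) (.node (.node (.node (.leaf 32886033) (.leaf 28135676)) (.node (.leaf 28249876) (.leaf 15996236))) (.node (.node (.leaf 11736349) (.leaf 22369090)) (.node (.leaf 27515178) (.leaf 30364252))))) (.node (.node (.node (.node (.leaf 6834942) (.leaf 12570621)) (.node (.leaf 33000962) (.leaf 24987606))) (.node (.node (.leaf 8848469) (.leaf 21389513)) (.node (.leaf 23551042) (.leaf 9475848)))) (.node (.node (.node (.leaf 20826517) (.leaf 32950653)) (.node (.leaf 3183508) (.leaf 15501262))) (.node (.node (.leaf 295378) (.leaf 29098776)) (.node (.leaf 26533168) (.leaf 1332741)))))))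

/-- A point of the block, part 413. -/
def ptCodePart413 : Janko1.Tree ℕ := (.node (.node (.node (.node (.node (.node (.leaf 1819404) (.leaf 24266232)) (.node (.leaf 21251396) (.leaf 9830790))) (.node (.node (.leaf 32104461) (.leaf 6963664)) (.node (.leaf 3608544) (.leaf 30138696)))) (.node (.node (.node (.leaf 22188917) (.leaf 25592688)) (.node (.leaf 26870110) (.leaf 5249837))) (.node (.node (.leaf 21388328) (.leaf 27958072)) (.node (.leaf 19894134) (.leaf 8853844))))) (.node (.node (.node (.node (.leaf 21256725) (.leaf 6839788)) (.node (.leaf 5496256) (.leaf 9210842))) (.node (.node (.leaf 5494237) (.leaf 27510653)) (.node (.leaf 23453114) (.leaf 23595418)))) (.node (.node (.node (.leaf 20105524) (.leaf 14338538)) (.node (.leaf 22202816) (.leaf 3655834))) (.node (.node (.leaf 12195646) (.leaf 26531738)) (.node (.leaf 5250752) (.leaf 32100449)))))) (.node (.node (.node (.node (.node (.leaf 24287472) (.leaf 34145930)) (.node (.leaf 28139568) (.leaf 8539941))) (.node (.node (.leaf 30711070) (.leaf 15992405))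 (.node (.leaf 13044753) (.leaf 16501866)))) (.node (.node (.node (.leaf 13474930) (.leaf 22450796)) (.node (.leaf 20111714) (.leaf 8754406))) (.node (.node (.leaf 19122198) (.leaf 24740297)) (.node (.leaf 2658408) (.leaf 34493234))))) (.node (.node (.node (.node (.leaf 13043334) (.leaf 30365924)) (.node (.leaf 6840522) (.leaf 25891904))) (.node (.node (.leaf 29053293) (.leaf 10787261)) (.node (.leaf 9476318) (.leaf 2920000)))) (.node (.node (.node (.leaf 23429601) (.leaf 18566870)) (.node (.leaf 19159708) (.leaf 4119664))) (.node (.node (.leaf 19160470) (.leaf 4528092)) (.node (.leaf 4538782) (.leaf 24740846)))))))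

/-- A point of the block, part 414. -/
def ptCodePart414 : Janko1.Tree ℕ := (.node (.node (.node (.node (.node (.node (.leaf 9685873) (.leaf 20979129)) (.node (.leaf 17893033) (.leaf 6838544))) (.node (.node (.leaf 2217358) (.leaf 10438772)) (.node (.leaf 4590034) (.leaf 14310462)))) (.node (.node (.node (.leaf 16501781) (.leaf 18071996)) (.node (.leaf 8850414) (.leaf 19161257))) (.node (.node (.leaf 20825089) (.leaf 35341981)) (.node (.leaf 937237) (.leaf 15046602))))) (.node (.node (.node (.node (.leaf 14195790) (.leaf 13426033)) (.node (.leaf 20980021) (.leaf 34033605))) (.node (.node (.leaf 18565046) (.leaf 8962805)) (.node (.leaf 29673617) (.leaf 19156685)))) (.node (.node (.node (.leaf 24272436) (.leaf 4676384)) (.node (.leaf 33005133) (.leaf 5493276))) (.node (.node (.leaf 10789025) (.leaf 20976800)) (.node (.leaf 24287774) (.leaf 28676046)))))) (.node (.node (.node (.node (.node (.leaf 5722300) (.leaf 8241810)) (.node (.leaf 22221246) (.leaf 19896489))) (.node (.node (.leaf 15171944) (.leaf 31162900))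 (.node (.leaf 19405778) (.leaf 870326)))) (.node (.node (.node (.leaf 27941438) (.leaf 29442126)) (.node (.leaf 23891793) (.leaf 22449793))) (.node (.node (.leaf 27942290) (.leaf 28136553)) (.node (.leaf 20826289) (.leaf 24696962))))) (.node (.node (.node (.node (.leaf 27937985) (.leaf 13535188)) (.node (.leaf 23895584) (.leaf 27953854))) (.node (.node (.leaf 5604741) (.leaf 34755392)) (.node (.leaf 4545322) (.leaf 30198001)))) (.node (.node (.node (.leaf 32362508) (.leaf 24364689)) (.node (.leaf 30673193) (.leaf 32956625))) (.node (.node (.leaf 14340068) (.leaf 8093718)) (.node (.leaf 20977604) (.leaf 29332249)))))))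

/-- A point of the block, part 415. -/
def ptCodePart415 : Janko1.Tree ℕ := (.node (.node (.node (.node (.node (.node (.leaf 10571236) (.leaf 30136169)) (.node (.leaf 20830540) (.leaf 32295137))) (.node (.node (.leaf 35341773) (.leaf 29053144)) (.node (.leaf 10576076) (.leaf 16748392)))) (.node (.node (.node (.leaf 1002288) (.leaf 3605906)) (.node (.leaf 11734704) (.leaf 21676744))) (.node (.node (.leaf 9586176) (.leaf 29054177)) (.node (.leaf 33325249) (.leaf 17094532))))) (.node (.node (.node (.node (.leaf 909113) (.leaf 22447710)) (.node (.leaf 24838390) (.leaf 23052429))) (.node (.node (.leaf 29350246) (.leaf 31162798)) (.node (.leaf 32883470) (.leaf 10781512)))) (.node (.node (.node (.leaf 10441698) (.leaf 25893744)) (.node (.leaf 871750) (.leaf 8540673))) (.node (.node (.leaf 23593302) (.leaf 19896286)) (.node (.leaf 18072860) (.leaf 18079889)))))) (.node (.node (.node (.node (.node (.leaf 22191801) (.leaf 14474390)) (.node (.leaf 22187030) (.leaf 22191465))) (.node (.node (.leaf 29332305) (.leaf 18909553))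 (.node (.leaf 24581834) (.leaf 18010958)))) (.node (.node (.node (.leaf 6019277) (.leaf 22320780)) (.node (.leaf 32883478) (.leaf 30360186))) (.node (.node (.leaf 869620) (.leaf 30134866)) (.node (.leaf 9830684) (.leaf 8245506))))) (.node (.node (.node (.node (.leaf 8854429) (.leaf 24272152)) (.node (.leaf 9080692) (.leaf 30705180))) (.node (.node (.leaf 17653546) (.leaf 22189704)) (.node (.leaf 23888386) (.leaf 18650324)))) (.node (.node (.node (.leaf 17891772) (.leaf 4247633)) (.node (.leaf 31170484) (.leaf 20387348))) (.node (.node (.leaf 15456830) (.leaf 29870072)) (.node (.leaf 34033013) (.leaf 14162413)))))))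

/-- A point of the block, part 416. -/
def ptCodePart416 : Janko1.Tree ℕ := (.node (.node (.node (.node (.node (.node (.leaf 34114654) (.leaf 4215997)) (.node (.leaf 8097490) (.leaf 14197002))) (.node (.node (.leaf 22206885) (.leaf 34148529)) (.node (.leaf 22204532) (.leaf 24137834)))) (.node (.node (.node (.leaf 14344274) (.leaf 936481)) (.node (.leaf 10568881) (.leaf 2786524))) (.node (.node (.leaf 3661117) (.leaf 1007500)) (.node (.leaf 34758626) (.leaf 22972249))))) (.node (.node (.node (.node (.leaf 14910456) (.leaf 16745506)) (.node (.leaf 7920513) (.leaf 5726193))) (.node (.node (.leaf 24696092) (.leaf 25087752)) (.node (.leaf 23054524) (.leaf 24987309)))) (.node (.node (.node (.leaf 9213320) (.leaf 16914944)) (.node (.leaf 20830348) (.leaf 9470217))) (.node (.node (.leaf 15499309) (.leaf 24991370)) (.node (.leaf 33000876) (.leaf 8750533)))))) (.node (.node (.node (.node (.node (.leaf 8242345) (.leaf 26876152)) (.node (.leaf 35346850) (.leaf 24579978))) (.node (.node (.leaf 3392569) (.leaf 12195393))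 (.node (.leaf 9478340) (.leaf 29105608)))) (.node (.node (.node (.leaf 13046729) (.leaf 34145650)) (.node (.leaf 28069004) (.leaf 24791106))) (.node (.node (.leaf 16551409) (.leaf 936577)) (.node (.leaf 16862786) (.leaf 30415776))))) (.node (.node (.node (.node (.leaf 28675796) (.leaf 29675162)) (.node (.leaf 25088952) (.leaf 24697569))) (.node (.node (.leaf 17092992) (.leaf 17061853)) (.node (.leaf 23550430) (.leaf 17094328)))) (.node (.node (.node (.leaf 7919152) (.leaf 17434337)) (.node (.leaf 1824696) (.leaf 4214352))) (.node (.node (.leaf 19009664) (.leaf 8100254)) (.node (.leaf 29329978) (.leaf 13538174)))))))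

/-- A point of the block, part 417. -/
def ptCodePart417 : Janko1.Tree ℕ := (.node (.node (.node (.node (.node (.node (.leaf 3181773) (.leaf 32099830)) (.node (.leaf 22872589) (.leaf 14156177))) (.node (.node (.leaf 22317889) (.leaf 26525968)) (.node (.leaf 7917542) (.leaf 22875021)))) (.node (.node (.node (.leaf 15454205) (.leaf 26875658)) (.node (.leaf 14164170) (.leaf 5495609))) (.node (.node (.leaf 28070245) (.leaf 9687342)) (.node (.leaf 8538756) (.leaf 297153))))) (.node (.node (.node (.node (.leaf 32887361) (.leaf 18645213)) (.node (.leaf 34115265) (.leaf 33000476))) (.node (.node (.leaf 18910446) (.leaf 17096672)) (.node (.leaf 2656086) (.leaf 25234518)))) (.node (.node (.node (.leaf 24987732) (.leaf 27954798)) (.node (.leaf 13474970) (.leaf 2474449))) (.node (.node (.leaf 9586682) (.leaf 6965952)) (.node (.leaf 9470580) (.leaf 11734308)))))) (.node (.node (.node (.node (.node (.leaf 28676600) (.leaf 17221726)) (.node (.leaf 5720826) (.leaf 1825502))) (.node (.node (.leaf 30197670) (.leaf 3266692))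 (.node (.leaf 4769070) (.leaf 15049068)))) (.node (.node (.node (.leaf 999457) (.leaf 14340732)) (.node (.leaf 14471141) (.leaf 16159850))) (.node (.node (.leaf 9215185) (.leaf 30365150)) (.node (.leaf 26624465) (.leaf 24697752))))) (.node (.node (.node (.node (.leaf 26529774) (.leaf 9084162)) (.node (.leaf 4593232) (.leaf 12566986))) (.node (.node (.leaf 3872512) (.leaf 29055326)) (.node (.leaf 20105160) (.leaf 8965328)))) (.node (.node (.node (.leaf 13420997) (.leaf 936900)) (.node (.leaf 4673938) (.leaf 4217949))) (.node (.node (.leaf 2785505) (.leaf 34119661)) (.node (.leaf 22371397) (.leaf 20389825)))))))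

/-- A point of the block, part 418. -/
def ptCodePart418 : Janko1.Tree ℕ := (.node (.node (.node (.node (.node (.node (.leaf 8176936) (.leaf 23434453)) (.node (.leaf 23545322) (.leaf 18210169))) (.node (.node (.leaf 34488492) (.leaf 16503729)) (.node (.leaf 3187134) (.leaf 4770602)))) (.node (.node (.node (.leaf 30709517) (.leaf 22205590)) (.node (.leaf 8966896) (.leaf 3608413))) (.node (.node (.leaf 14467141) (.leaf 24366341)) (.node (.leaf 24791341) (.leaf 30672785))))) (.node (.node (.node (.node (.leaf 17892440) (.leaf 31967193)) (.node (.leaf 16866966) (.leaf 10606560))) (.node (.node (.leaf 21681716) (.leaf 27958356)) (.node (.leaf 20303828) (.leaf 31425733)))) (.node (.node (.node (.leaf 13538396) (.leaf 2917672)) (.node (.leaf 23037153) (.leaf 33330433))) (.node (.node (.leaf 30198625) (.leaf 34488422)) (.node (.leaf 21253340) (.leaf 9471022)))))) (.node (.node (.node (.node (.node (.leaf 23596460) (.leaf 5492433)) (.node (.leaf 34750844) (.leaf 18648338))) (.node (.node (.leaf 2130150) (.leaf 27958117))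 (.node (.leaf 10605956) (.leaf 10602172)))) (.node (.node (.node (.leaf 24938498) (.leaf 24936862)) (.node (.leaf 13540498) (.leaf 31430068))) (.node (.node (.leaf 32954189) (.leaf 14310510)) (.node (.leaf 14304445) (.leaf 20972152))))) (.node (.node (.node (.node (.leaf 14196554) (.leaf 2660069)) (.node (.leaf 6965262) (.leaf 24838364))) (.node (.node (.leaf 4530016) (.leaf 13426470)) (.node (.leaf 24135362) (.leaf 15370145)))) (.node (.node (.node (.leaf 32948488) (.leaf 3265765)) (.node (.leaf 24939309) (.leaf 29057222))) (.node (.node (.leaf 29872717) (.leaf 4525952)) (.node (.leaf 4588808) (.leaf 29104601)))))))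

/-- A point of the block, part 419. -/
def ptCodePart419 : Janko1.Tree ℕ := (.node (.node (.node (.node (.node (.node (.leaf 14910526) (.leaf 20300017)) (.node (.leaf 24943753) (.leaf 19010480))) (.node (.node (.leaf 14308277) (.leaf 20303892)) (.node (.leaf 15374070) (.leaf 19403493)))) (.node (.node (.node (.leaf 16554642) (.leaf 15373732)) (.node (.leaf 18205898) (.leaf 33818836))) (.node (.node (.leaf 31039258) (.leaf 31425637)) (.node (.leaf 32955006) (.leaf 17891685))))) (.node (.node (.node (.node (.leaf 18208469) (.leaf 30133001)) (.node (.leaf 15174998) (.leaf 17010404))) (.node (.node (.leaf 17009776) (.leaf 18646285)) (.node (.leaf 18909372) (.leaf 872473)))) (.node (.node (.node (.leaf 24369565) (.leaf 17892917)) (.node (.leaf 30200685) (.leaf 3661928))) (.node (.node (.leaf 6963361) (.leaf 15500998)) (.node (.leaf 30408849) (.leaf 5250558)))))) (.node (.node (.node (.node (.node (.leaf 15058174) (.leaf 17653689)) (.node (.leaf 18569182) (.leaf 17436308))) (.node (.node (.leaf 13114590) (.leaf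 9077554)) (.node (.leaf 30412513) (.leaf 29334529)))) (.node (.node (.node (.leaf 25594250) (.leaf 30136281)) (.node (.leaf 34111682) (.leaf 8177932))) (.node (.node (.leaf 17221109) (.leaf 12566750)) (.node (.leaf 28249148) (.leaf 13536338))))) (.node (.node (.node (.node (.leaf 8179204) (.leaf 21258205)) (.node (.leaf 24134037) (.leaf 15059025))) (.node (.node (.leaf 28674537) (.leaf 302076)) (.node (.leaf 34152684) (.leaf 24286322)))) (.node (.node (.node (.leaf 22975401) (.leaf 24136181)) (.node (.leaf 33325585) (.leaf 2792948))) (.node (.node (.leaf 34037526) (.leaf 24844298)) (.node (.leaf 16865009) (.leaf 20308148)))))))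

/-- A point of the block, part 420. -/
def ptCodePart420 : Janko1.Tree ℕ := (.node (.node (.node (.node (.node (.node (.leaf 25090806) (.leaf 18008592)) (.node (.leaf 17056077) (.leaf 23544736))) (.node (.node (.leaf 2477608) (.leaf 24371545)) (.node (.leaf 14914530) (.leaf 9836238)))) (.node (.node (.node (.leaf 9584842) (.leaf 29344989)) (.node (.leaf 8749377) (.leaf 15484493))) (.node (.node (.leaf 23436514) (.leaf 34757606)) (.node (.leaf 24943209) (.leaf 934385))))) (.node (.node (.node (.node (.leaf 34491940) (.leaf 24985909)) (.node (.leaf 18914220) (.leaf 32645348))) (.node (.node (.leaf 4539800) (.leaf 19402588)) (.node (.leaf 13042717) (.leaf 16866314)))) (.node (.node (.node (.leaf 4218128) (.leaf 19124400)) (.node (.leaf 18202734) (.leaf 16913144))) (.node (.node (.leaf 24940294) (.leaf 6840222)) (.node (.leaf 21676937) (.leaf 29868480)))))) (.node (.node (.node (.node (.node (.leaf 31162949) (.leaf 11190482)) (.node (.leaf 2922257) (.leaf 35343868))) (.node (.node (.leaf 2133705) (.leaf 32361432))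 (.node (.leaf 17058362) (.leaf 19894864)))) (.node (.node (.node (.leaf 18204974) (.leaf 32641381)) (.node (.leaf 3136668) (.leaf 16498918))) (.node (.node (.leaf 2658933) (.leaf 14196250)) (.node (.leaf 25239069) (.leaf 32888489))))) (.node (.node (.node (.node (.leaf 2788916) (.leaf 16506186)) (.node (.leaf 17060081) (.leaf 29347101))) (.node (.node (.leaf 12192256) (.leaf 875978)) (.node (.leaf 17006833) (.leaf 26628177)))) (.node (.node (.node (.leaf 10438132) (.leaf 20973374)) (.node (.leaf 8177113) (.leaf 16155656))) (.node (.node (.leaf 10441828) (.leaf 30705625)) (.node (.leaf 28250861) (.leaf 16157624)))))))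

/-- A point of the block, part 421. -/
def ptCodePart421 : Janko1.Tree ℕ := (.node (.node (.node (.node (.node (.node (.leaf 4675201) (.leaf 34753674)) (.node (.leaf 14468310) (.leaf 19124440))) (.node (.node (.leaf 15063836) (.leaf 8848188)) (.node (.leaf 18964248) (.leaf 24923150)))) (.node (.node (.node (.leaf 34524732) (.leaf 18713177)) (.node (.leaf 23201702) (.leaf 7723522))) (.node (.node (.leaf 21499529) (.leaf 19569574)) (.node (.leaf 13934749) (.leaf 2662714))))) (.node (.node (.node (.node (.leaf 18715501) (.leaf 5590044)) (.node (.leaf 12949737) (.leaf 12701170))) (.node (.node (.leaf 8657829) (.leaf 20351945)) (.node (.leaf 31281757) (.leaf 27612038)))) (.node (.node (.node (.leaf 14933981) (.leaf 22993840)) (.node (.leaf 12321902) (.leaf 31279132))) (.node (.node (.leaf 23200706) (.leaf 34523169)) (.node (.leaf 32919529) (.leaf 32544034)))))) (.node (.node (.node (.node (.node (.leaf 23071770) (.leaf 23157678)) (.node (.leaf 20729180) (.leaf 1744412))) (.node (.node (.leaf 5676485) (.leaf 13566593))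 (.node (.leaf 31512992) (.leaf 14225153)))) (.node (.node (.node (.leaf 18960044) (.leaf 11131450)) (.node (.leaf 9576042) (.leaf 24661198))) (.node (.node (.leaf 31772698) (.leaf 2231761)) (.node (.leaf 30695172) (.leaf 26953757))))) (.node (.node (.node (.node (.leaf 18960913) (.leaf 3100956)) (.node (.leaf 18325534) (.leaf 5719661))) (.node (.node (.leaf 29220648) (.leaf 28301401)) (.node (.leaf 32507668) (.leaf 22235353)))) (.node (.node (.node (.leaf 19799818) (.leaf 8656914)) (.node (.leaf 21551329) (.leaf 30001088))) (.node (.node (.leaf 6537937) (.leaf 18324154)) (.node (.leaf 14016134) (.leaf 19193217)))))))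

/-- A point of the block, part 422. -/
def ptCodePart422 : Janko1.Tree ℕ := (.node (.node (.node (.node (.node (.node (.leaf 15289730) (.leaf 29590501)) (.node (.leaf 32465146) (.leaf 1758964))) (.node (.node (.leaf 16637106) (.leaf 18700821)) (.node (.leaf 8445070) (.leaf 12944026)))) (.node (.node (.node (.leaf 29180968) (.leaf 17006849)) (.node (.leaf 32917128) (.leaf 21498794))) (.node (.node (.leaf 28295677) (.leaf 11830040)) (.node (.leaf 11471585) (.leaf 27218348))))) (.node (.node (.node (.node (.leaf 5183109) (.leaf 7521572)) (.node (.leaf 19453880) (.leaf 22224760))) (.node (.node (.leaf 23155561) (.leaf 22252193)) (.node (.leaf 3954514) (.leaf 29215150)))) (.node (.node (.node (.leaf 24136178) (.leaf 8918765)) (.node (.leaf 19308862) (.leaf 29184588))) (.node (.node (.leaf 1740284) (.leaf 8651046)) (.node (.leaf 27759574) (.leaf 18696016)))))) (.node (.node (.node (.node (.node (.leaf 32512001) (.leaf 21957944)) (.node (.leaf 11878573) (.leaf 16745168))) (.node (.node (.leaf 10340505) (.leaf 8653369))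 (.node (.leaf 33165074) (.leaf 20088672)))) (.node (.node (.node (.leaf 2967996) (.leaf 14225821)) (.node (.leaf 30838478) (.leaf 25659556))) (.node (.node (.leaf 29589937) (.leaf 18957308)) (.node (.leaf 26992040) (.leaf 3970337))))) (.node (.node (.node (.node (.leaf 21602253) (.leaf 19320781)) (.node (.leaf 8510257) (.leaf 19322596))) (.node (.node (.leaf 32919818) (.leaf 2661988)) (.node (.leaf 12704418) (.leaf 2662316)))) (.node (.node (.node (.leaf 19324170) (.leaf 2968482)) (.node (.leaf 28696798) (.leaf 10556048))) (.node (.node (.leaf 10552573) (.leaf 32462570)) (.node (.leaf 11834109) (.leaf 10257718)))))))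

/-- A point of the block, part 423. -/
def ptCodePart423 : Janko1.Tree ℕ := (.node (.node (.node (.node (.node (.node (.leaf 9572570) (.leaf 15554626)) (.node (.leaf 2659625) (.leaf 32923216))) (.node (.node (.leaf 5834117) (.leaf 9831920)) (.node (.leaf 13931990) (.leaf 17010105)))) (.node (.node (.node (.leaf 33166894) (.leaf 18957353)) (.node (.leaf 10125872) (.leaf 5183493))) (.node (.node (.leaf 3622658) (.leaf 25740293)) (.node (.leaf 8511513) (.leaf 23207200))))) (.node (.node (.node (.node (.leaf 9535780) (.leaf 26992480)) (.node (.leaf 18564514) (.leaf 19792481))) (.node (.node (.leaf 9249117) (.leaf 22250906)) (.node (.leaf 18305148) (.leaf 5593697)))) (.node (.node (.node (.leaf 12770292) (.leaf 5920637)) (.node (.leaf 2790264) (.leaf 22991476))) (.node (.node (.leaf 18963450) (.leaf 26398381)) (.node (.leaf 16635462) (.leaf 23483810)))))) (.node (.node (.node (.node (.node (.leaf 27612896) (.leaf 15337733)) (.node (.leaf 7297598) (.leaf 19993565))) (.node (.node (.leaf 3102260) (.leaf 17614144))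 (.node (.leaf 25909657) (.leaf 30840606)))) (.node (.node (.node (.leaf 7691950) (.leaf 29564581)) (.node (.leaf 29589613) (.leaf 13934934))) (.node (.node (.leaf 2513086) (.leaf 32937096)) (.node (.leaf 12323494) (.leaf 18813810))))) (.node (.node (.node (.node (.leaf 31066362) (.leaf 18566400)) (.node (.leaf 19451165) (.leaf 34529578))) (.node (.node (.leaf 9765470) (.leaf 12943544)) (.node (.leaf 17620558) (.leaf 15621849)))) (.node (.node (.node (.leaf 6545341) (.leaf 5836012)) (.node (.leaf 29180349) (.leaf 28072041))) (.node (.node (.leaf 3723422) (.leaf 17614116)) (.node (.leaf 31773584) (.leaf 9543813)))))))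

/-- A point of the block, part 424. -/
def ptCodePart424 : Janko1.Tree ℕ := (.node (.node (.node (.node (.node (.node (.leaf 27739708) (.leaf 20827466)) (.node (.leaf 15648552) (.leaf 19570642))) (.node (.node (.leaf 17653446) (.leaf 1006300)) (.node (.leaf 5609285) (.leaf 19186634)))) (.node (.node (.node (.leaf 7296218) (.leaf 32545810)) (.node (.leaf 16636972) (.leaf 32546918))) (.node (.node (.leaf 10606868) (.leaf 23484601)) (.node (.leaf 15616434) (.leaf 21596962))))) (.node (.node (.node (.node (.leaf 5718201) (.leaf 7520477)) (.node (.leaf 459964) (.leaf 29183448))) (.node (.node (.leaf 23152121) (.leaf 28298573)) (.node (.leaf 10553332) (.leaf 32934736)))) (.node (.node (.node (.leaf 11835140) (.leaf 15552560)) (.node (.leaf 7686208) (.leaf 33278216))) (.node (.node (.leaf 8446050) (.leaf 19160665)) (.node (.leaf 28726210) (.leaf 13144846)))))) (.node (.node (.node (.node (.node (.leaf 10656462) (.leaf 19810893)) (.node (.leaf 34527136) (.leaf 28691884))) (.node (.node (.leaf 26957620) (.leaf 28071189))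 (.node (.leaf 27741453) (.leaf 3654750)))) (.node (.node (.node (.leaf 23693306) (.leaf 18351986)) (.node (.leaf 3104248) (.leaf 21896488))) (.node (.node (.leaf 29220970) (.leaf 24136346)) (.node (.leaf 15552518) (.leaf 29623037))))) (.node (.node (.node (.node (.leaf 28690965) (.leaf 10126405)) (.node (.leaf 11575068) (.leaf 11125056))) (.node (.node (.leaf 16753080) (.leaf 25904844)) (.node (.leaf 19816496) (.leaf 3955089)))) (.node (.node (.node (.leaf 19156160) (.leaf 20369853)) (.node (.leaf 3953069) (.leaf 8920216))) (.node (.node (.leaf 14933190) (.leaf 14932458)) (.node (.leaf 16634030) (.leaf 10606666)))))))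

/-- A point of the block, part 425. -/
def ptCodePart425 : Janko1.Tree ℕ := (.node (.node (.node (.node (.node (.node (.leaf 20351130) (.leaf 21597456)) (.node (.leaf 28729046) (.leaf 3973173))) (.node (.node (.leaf 5670117) (.leaf 27218218)) (.node (.leaf 11575141) (.leaf 5589637)))) (.node (.node (.node (.leaf 15553709) (.leaf 23549704)) (.node (.leaf 6983306) (.leaf 13271281))) (.node (.node (.leaf 17651149) (.leaf 15671510)) (.node (.leaf 18962078) (.leaf 25761664))))) (.node (.node (.node (.node (.leaf 17647761) (.leaf 10346378)) (.node (.leaf 5161290) (.leaf 22249646))) (.node (.node (.leaf 8442638) (.leaf 461446)) (.node (.leaf 29563370) (.leaf 1753265)))) (.node (.node (.node (.leaf 21957501) (.leaf 15517684)) (.node (.leaf 5177444) (.leaf 18730345))) (.node (.node (.leaf 23485912) (.leaf 34524818)) (.node (.leaf 31066145) (.leaf 24761016)))))) (.node (.node (.node (.node (.node (.leaf 19924957) (.leaf 24140661)) (.node (.leaf 30691466) (.leaf 8884398))) (.node (.node (.leaf 19193601) (.leaf 14226621))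 (.node (.leaf 21157120) (.leaf 15523364)))) (.node (.node (.node (.leaf 14933206) (.leaf 19305226)) (.node (.leaf 9771936) (.leaf 4988996))) (.node (.node (.leaf 13273981) (.leaf 12948457)) (.node (.leaf 29216833) (.leaf 19798574))))) (.node (.node (.node (.node (.leaf 3955349) (.leaf 31069098)) (.node (.leaf 22220040) (.leaf 19566193))) (.node (.node (.leaf 10559298) (.leaf 10655076)) (.node (.leaf 24928124) (.leaf 28066953)))) (.node (.node (.node (.leaf 18728501) (.leaf 23780213)) (.node (.leaf 11886020) (.leaf 30834972))) (.node (.node (.leaf 21155157) (.leaf 29558922)) (.node (.leaf 13276726) (.leaf 22990212)))))))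

/-- A point of the block, part 426. -/
def ptCodePart426 : Janko1.Tree ℕ := (.node (.node (.node (.node (.node (.node (.leaf 24911836) (.leaf 23776960)) (.node (.leaf 15549038) (.leaf 30840269))) (.node (.node (.leaf 3775800) (.leaf 19996305)) (.node (.leaf 25596313) (.leaf 5063746)))) (.node (.node (.node (.leaf 7755310) (.leaf 14225258)) (.node (.leaf 19778200) (.leaf 23485164))) (.node (.node (.leaf 8880132) (.leaf 14925865)) (.node (.leaf 11257828) (.leaf 5167018))))) (.node (.node (.node (.node (.leaf 10340916) (.leaf 16384669)) (.node (.leaf 24756412) (.leaf 32457001))) (.node (.node (.leaf 14933853) (.leaf 26989140)) (.node (.leaf 29592964) (.leaf 7684248)))) (.node (.node (.node (.leaf 27755581) (.leaf 15289142)) (.node (.leaf 8921433) (.leaf 16747404))) (.node (.node (.leaf 25910016) (.leaf 26399502)) (.node (.leaf 24926846) (.leaf 15615125)))))) (.node (.node (.node (.node (.node (.leaf 11261256) (.leaf 31072233)) (.node (.leaf 11608490) (.leaf 15647021))) (.node (.node (.leaf 22235481) (.leaf 1740920))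 (.node (.leaf 29628705) (.leaf 6979845)))) (.node (.node (.node (.leaf 15294365) (.leaf 33161716)) (.node (.leaf 13933537) (.leaf 22529041))) (.node (.node (.leaf 17013365) (.leaf 31507297)) (.node (.leaf 21957054) (.leaf 33283282))))) (.node (.node (.node (.node (.leaf 9768636) (.leaf 3050825)) (.node (.leaf 21956240) (.leaf 28069728))) (.node (.node (.leaf 6537416) (.leaf 26951970)) (.node (.leaf 9830920) (.leaf 10489354)))) (.node (.node (.node (.leaf 29872801) (.leaf 23150961)) (.node (.leaf 12770713) (.leaf 5611056))) (.node (.node (.leaf 26987090) (.leaf 14927097)) (.node (.leaf 20092685) (.leaf 5720261)))))))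

/-- A point of the block, part 427. -/
def ptCodePart427 : Janko1.Tree ℕ := (.node (.node (.node (.node (.node (.node (.leaf 10654038) (.leaf 13572222)) (.node (.leaf 24911952) (.leaf 3102918))) (.node (.node (.leaf 31768662) (.leaf 7292302)) (.node (.leaf 6538116) (.leaf 32464685)))) (.node (.node (.node (.leaf 21552541) (.leaf 21596268)) (.node (.leaf 22219513) (.leaf 21548942))) (.node (.node (.leaf 33166874) (.leaf 3967276)) (.node (.leaf 3772717) (.leaf 15520956))))) (.node (.node (.node (.node (.leaf 25740184) (.leaf 27222382)) (.node (.leaf 1753964) (.leaf 20858616))) (.node (.node (.leaf 33165234) (.leaf 22004237)) (.node (.leaf 3510260) (.leaf 10261092)))) (.node (.node (.node (.leaf 31769956) (.leaf 33279870)) (.node (.leaf 7294934) (.leaf 5185501))) (.node (.node (.leaf 2791248) (.leaf 7722124)) (.node (.leaf 7719134) (.leaf 14229778)))))) (.node (.node (.node (.node (.node (.leaf 30842457) (.leaf 27615116)) (.node (.leaf 4983017) (.leaf 18700913))) (.node (.node (.leaf 4540150) (.leaf 466037))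 (.node (.leaf 18357396) (.leaf 22004289)))) (.node (.node (.node (.leaf 13274126) (.leaf 15294188)) (.node (.leaf 2786564) (.leaf 12766077))) (.node (.node (.leaf 11879716) (.leaf 10603480)) (.node (.leaf 9771380) (.leaf 19455916))))) (.node (.node (.node (.node (.leaf 11833202) (.leaf 24925892)) (.node (.leaf 14014046) (.leaf 23699644))) (.node (.node (.leaf 10264277) (.leaf 3969058)) (.node (.leaf 18353972) (.leaf 6541529)))) (.node (.node (.node (.leaf 15289633) (.leaf 26952529)) (.node (.leaf 10487540) (.leaf 18301766))) (.node (.node (.leaf 15650125) (.leaf 32462770)) (.node (.leaf 19324148) (.leaf 7528572)))))))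

/-- A point of the block, part 428. -/
def ptCodePart428 : Janko1.Tree ℕ := (.node (.node (.node (.node (.node (.node (.leaf 27740570) (.leaf 13930736)) (.node (.leaf 25596162) (.leaf 22004200))) (.node (.node (.leaf 26986601) (.leaf 3965165)) (.node (.leaf 19160325) (.leaf 3768934)))) (.node (.node (.node (.leaf 22235000) (.leaf 3512461)) (.node (.leaf 16392044) (.leaf 5841030))) (.node (.node (.leaf 25592610) (.leaf 33281729)) (.node (.leaf 3627638) (.leaf 34493989))))) (.node (.node (.node (.node (.leaf 12327677) (.leaf 29594897)) (.node (.leaf 3972925) (.leaf 29181856))) (.node (.node (.leaf 11126193) (.leaf 28727681)) (.node (.leaf 2790365) (.leaf 15519464)))) (.node (.node (.node (.leaf 8852952) (.leaf 16391373)) (.node (.leaf 12951266) (.leaf 20366749))) (.node (.node (.leaf 9245298) (.leaf 24773138)) (.node (.leaf 27741172) (.leaf 11131622)))))) (.node (.node (.node (.node (.node (.leaf 14225946) (.leaf 10490120)) (.node (.leaf 33278372) (.leaf 5611670))) (.node (.node (.leaf 8440592) (.leaf 19319972))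 (.node (.leaf 7995677) (.leaf 10493329)))) (.node (.node (.node (.leaf 7754520) (.leaf 17008176)) (.node (.leaf 24903904) (.leaf 31512412))) (.node (.node (.leaf 18355498) (.leaf 3951865)) (.node (.leaf 19927157) (.leaf 10575133))))) (.node (.node (.node (.node (.leaf 15649504) (.leaf 9569220)) (.node (.leaf 29625470) (.leaf 12771621))) (.node (.node (.leaf 5670029) (.leaf 23781588)) (.node (.leaf 27221876) (.leaf 23544625)))) (.node (.node (.node (.leaf 10489030) (.leaf 22991068)) (.node (.leaf 20023644) (.leaf 3096710))) (.node (.node (.leaf 18320934) (.leaf 15549437)) (.node (.leaf 31072526) (.leaf 25760650)))))))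

/-- A point of the block, part 429. -/
def ptCodePart429 : Janko1.Tree ℕ := (.node (.node (.node (.node (.node (.node (.leaf 15287586) (.leaf 26401238)) (.node (.leaf 7521617) (.leaf 16635366))) (.node (.node (.leaf 3721330) (.leaf 27608729)) (.node (.leaf 24780621) (.leaf 23200108)))) (.node (.node (.node (.leaf 4981906) (.leaf 6545101)) (.node (.leaf 18301580) (.leaf 8443077))) (.node (.node (.leaf 10342180) (.leaf 32543997)) (.node (.leaf 19927385) (.leaf 18351374))))) (.node (.node (.node (.node (.leaf 30007617) (.leaf 10131048)) (.node (.leaf 3100121) (.leaf 32507005))) (.node (.node (.leaf 3654404) (.leaf 34493672)) (.node (.leaf 10129230) (.leaf 22235714)))) (.node (.node (.node (.leaf 10601226) (.leaf 5183246)) (.node (.leaf 19454866) (.leaf 5590377))) (.node (.node (.leaf 23200132) (.leaf 19157826)) (.node (.leaf 2788662) (.leaf 28069038)))))) (.node (.node (.node (.node (.node (.leaf 24138994) (.leaf 21553102)) (.node (.leaf 23153598) (.leaf 5718021))) (.node (.node (.leaf 20369690) (.leaf 17646288))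 (.node (.leaf 30840817) (.leaf 28298693)))) (.node (.node (.node (.leaf 8921136) (.leaf 18710892)) (.node (.leaf 19304608) (.leaf 5610004))) (.node (.node (.leaf 12944074) (.leaf 20354226)) (.node (.leaf 18716677) (.leaf 11880353))))) (.node (.node (.node (.node (.leaf 26992322) (.leaf 5609814)) (.node (.leaf 7692305) (.leaf 9571098))) (.node (.node (.leaf 9246333) (.leaf 18734980)) (.node (.leaf 27218820) (.leaf 19796670)))) (.node (.node (.node (.leaf 34719005) (.leaf 25593308)) (.node (.leaf 15651198) (.leaf 18301374))) (.node (.node (.leaf 9830620) (.leaf 24763780)) (.node (.leaf 14011998) (.leaf 19996884)))))))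

/-- A point of the block, part 430. -/
def ptCodePart430 : Janko1.Tree ℕ := (.node (.node (.node (.node (.node (.node (.leaf 18698490) (.leaf 13567606)) (.node (.leaf 30005708) (.leaf 11568136))) (.node (.node (.leaf 20856962) (.leaf 5163316)) (.node (.leaf 8651481) (.leaf 31776250)))) (.node (.node (.node (.leaf 3514680) (.leaf 1738789)) (.node (.leaf 12486085) (.leaf 22991157))) (.node (.node (.leaf 18728605) (.leaf 26401262)) (.node (.leaf 19192589) (.leaf 29590574))))) (.node (.node (.node (.node (.leaf 7298168) (.leaf 19569578)) (.node (.leaf 28695974) (.leaf 13147724))) (.node (.node (.leaf 11470224) (.leaf 18727585)) (.node (.leaf 11604008) (.leaf 7999508)))) (.node (.node (.node (.leaf 24904332) (.leaf 11473484)) (.node (.leaf 21158497) (.leaf 22006934))) (.node (.node (.leaf 28722318) (.leaf 23401736)) (.node (.leaf 2229800) (.leaf 23073153)))))) (.node (.node (.node (.node (.node (.leaf 2973157) (.leaf 6983413)) (.node (.leaf 12701081) (.leaf 24776340))) (.node (.node (.leaf 29871873) (.leaf 24776700))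 (.node (.leaf 15667725) (.leaf 10657414)))) (.node (.node (.node (.leaf 19569898) (.leaf 20289792)) (.node (.leaf 1740013) (.leaf 22994104))) (.node (.node (.leaf 9538646) (.leaf 9536197)) (.node (.leaf 19779993) (.leaf 5916134))))) (.node (.node (.node (.node (.leaf 8884616) (.leaf 5066632)) (.node (.leaf 20288904) (.leaf 5835146))) (.node (.node (.leaf 5718124) (.leaf 5590345)) (.node (.leaf 25663993) (.leaf 19775573)))) (.node (.node (.node (.leaf 9832981) (.leaf 28298513)) (.node (.leaf 14222626) (.leaf 7998648))) (.node (.node (.leaf 29870589) (.leaf 20027470)) (.node (.leaf 11263260) (.leaf 7751201)))))))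

/-- A point of the block, part 431. -/
def ptCodePart431 : Janko1.Tree ℕ := (.node (.node (.node (.node (.node (.node (.leaf 28298617) (.leaf 3770980)) (.node (.leaf 24660490) (.leaf 2792174))) (.node (.node (.leaf 19815648) (.leaf 19799790)) (.node (.leaf 11836857) (.leaf 22251241)))) (.node (.node (.node (.leaf 9242530) (.leaf 3656028)) (.node (.leaf 5841210) (.leaf 20726505))) (.node (.node (.leaf 18816118) (.leaf 11575178)) (.node (.leaf 21157168) (.leaf 28724492))))) (.node (.node (.node (.node (.leaf 24139420) (.leaf 11469398)) (.node (.leaf 2662446) (.leaf 9574810))) (.node (.node (.leaf 3049350) (.leaf 34525529)) (.node (.leaf 23547589) (.leaf 4981694)))) (.node (.node (.node (.leaf 7527756) (.leaf 24660741)) (.node (.leaf 12326922) (.leaf 24777585))) (.node (.node (.leaf 8920785) (.leaf 28297208)) (.node (.leaf 2656438) (.leaf 591232)))))) (.node (.node (.node (.node (.node (.leaf 7997490) (.leaf 13928958)) (.node (.leaf 19996192) (.leaf 21895830))) (.node (.node (.leaf 2788770) (.leaf 1005017))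 (.node (.leaf 18730169) (.leaf 7756158)))) (.node (.node (.node (.leaf 18564277) (.leaf 15340070)) (.node (.leaf 8440106) (.leaf 5589781))) (.node (.node (.leaf 5670994) (.leaf 12702182)) (.node (.leaf 7527120) (.leaf 31509982))))) (.node (.node (.node (.node (.leaf 23076638) (.leaf 24757149)) (.node (.leaf 3048953) (.leaf 12486490))) (.node (.node (.leaf 7688169) (.leaf 11883096)) (.node (.leaf 19322401) (.leaf 2514332)))) (.node (.node (.node (.leaf 10571810) (.leaf 3949114)) (.node (.leaf 22254578) (.leaf 21893608))) (.node (.node (.leaf 24764024) (.leaf 17613442)) (.node (.leaf 15339789) (.leaf 2965701)))))))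

/-- A point of the block, part 432. -/
def ptCodePart432 : Janko1.Tree ℕ := (.node (.node (.node (.node (.node (.node (.leaf 13276614) (.leaf 5167237)) (.node (.leaf 19780172) (.leaf 5606446))) (.node (.node (.leaf 8914926) (.leaf 21502692)) (.node (.leaf 27746209) (.leaf 14011034)))) (.node (.node (.node (.leaf 5671786) (.leaf 11125658)) (.node (.leaf 20356153) (.leaf 19305312))) (.node (.node (.leaf 21553181) (.leaf 8848509)) (.node (.leaf 3768417) (.leaf 5063782))))) (.node (.node (.node (.node (.leaf 25598877) (.leaf 13568794)) (.node (.leaf 19812686) (.leaf 20354310))) (.node (.node (.leaf 16392278) (.leaf 10568928)) (.node (.leaf 2228492) (.leaf 10338370)))) (.node (.node (.node (.leaf 11127641) (.leaf 5594592)) (.node (.leaf 19306268) (.leaf 23398937))) (.node (.node (.leaf 20350052) (.leaf 26401254)) (.node (.leaf 8510810) (.leaf 20861381)))))) (.node (.node (.node (.node (.node (.leaf 18309450) (.leaf 25762577)) (.node (.leaf 9541418) (.leaf 23693077))) (.node (.node (.leaf 26399449) (.leaf 34718708))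 (.node (.leaf 9240834) (.leaf 31070685)))) (.node (.node (.node (.leaf 18718553) (.leaf 3054198)) (.node (.leaf 25741957) (.leaf 15286992))) (.node (.node (.leaf 19798526) (.leaf 11885500)) (.node (.leaf 31278220) (.leaf 5719072))))) (.node (.node (.node (.node (.leaf 7295442) (.leaf 21962736)) (.node (.leaf 33276237) (.leaf 28695868))) (.node (.node (.leaf 8884718) (.leaf 32506414)) (.node (.leaf 21503890) (.leaf 3511045)))) (.node (.node (.node (.leaf 21596614) (.leaf 24135956)) (.node (.leaf 29559588) (.leaf 15516020))) (.node (.node (.leaf 19813858) (.leaf 25761845)) (.node (.leaf 31513257) (.leaf 15343746)))))))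

/-- A point of the block, part 433. -/
def ptCodePart433 : Janko1.Tree ℕ := (.node (.node (.node (.node (.node (.node (.leaf 9834278) (.leaf 10257654)) (.node (.leaf 34495478) (.leaf 23401278))) (.node (.node (.leaf 3623749) (.leaf 23692665)) (.node (.leaf 21891018) (.leaf 31285358)))) (.node (.node (.node (.leaf 27608044) (.leaf 19566158)) (.node (.leaf 33162237) (.leaf 24906322))) (.node (.node (.leaf 32509486) (.leaf 22219756)) (.node (.leaf 31279052) (.leaf 34490628))))) (.node (.node (.node (.node (.leaf 1741434) (.leaf 18715493)) (.node (.leaf 7298465) (.leaf 10574632))) (.node (.node (.leaf 20029528) (.leaf 9248300)) (.node (.leaf 23779090) (.leaf 1001802)))) (.node (.node (.node (.leaf 20025544) (.leaf 22256978)) (.node (.leaf 3972357) (.leaf 18350462))) (.node (.node (.leaf 5922660) (.leaf 20734364)) (.node (.leaf 22233552) (.leaf 19454612)))))) (.node (.node (.node (.node (.node (.leaf 10339217) (.leaf 20285357)) (.node (.leaf 29556777) (.leaf 30002954))) (.node (.node (.leaf 3953097) (.leaf 7527617))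 (.node (.leaf 4986920) (.leaf 28724629)))) (.node (.node (.node (.leaf 2971304) (.leaf 19448925)) (.node (.leaf 8887590) (.leaf 3629402))) (.node (.node (.leaf 11599938) (.leaf 23397844)) (.node (.leaf 15665546) (.leaf 18351204))))) (.node (.node (.node (.node (.leaf 11602761) (.leaf 13571849)) (.node (.leaf 25744461) (.leaf 18730572))) (.node (.node (.leaf 3049368) (.leaf 11880716)) (.node (.leaf 20287909) (.leaf 26953830)))) (.node (.node (.node (.leaf 24903912) (.leaf 31769020)) (.node (.leaf 12486093) (.leaf 27756777))) (.node (.node (.leaf 31279344) (.leaf 18812272)) (.node (.leaf 24927294) (.leaf 17010078)))))))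

/-- A point of the block, part 434. -/
def ptCodePart434 : Janko1.Tree ℕ := (.node (.node (.node (.node (.node (.node (.leaf 19928094) (.leaf 5834989)) (.node (.leaf 32918225) (.leaf 19321664))) (.node (.node (.leaf 26957838) (.leaf 29182505)) (.node (.leaf 10575670) (.leaf 6537762)))) (.node (.node (.node (.leaf 23486808) (.leaf 26953256)) (.node (.leaf 20829034) (.leaf 8504280))) (.node (.node (.leaf 15649513) (.leaf 8441393)) (.node (.leaf 11885770) (.leaf 26395589))))) (.node (.node (.node (.node (.leaf 20373506) (.leaf 20023369)) (.node (.leaf 5922125) (.leaf 21954837))) (.node (.node (.leaf 3969542) (.leaf 17651454)) (.node (.leaf 31770132) (.leaf 16387830)))) (.node (.node (.node (.leaf 25597862) (.leaf 1756744)) (.node (.leaf 5166610) (.leaf 10486801))) (.node (.node (.leaf 31508112) (.leaf 16748304)) (.node (.leaf 23206768) (.leaf 18319438)))))) (.node (.node (.node (.node (.node (.leaf 3512824) (.leaf 7758216)) (.node (.leaf 12491840) (.leaf 3100890))) (.node (.node (.leaf 18729737) (.leaf 5607780))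 (.node (.leaf 12771704) (.leaf 22250458)))) (.node (.node (.node (.leaf 26991533) (.leaf 18963444)) (.node (.leaf 3773650) (.leaf 10257078))) (.node (.node (.leaf 23073505) (.leaf 10129437)) (.node (.leaf 15666014) (.leaf 459294))))) (.node (.node (.node (.node (.leaf 15614118) (.leaf 24779886)) (.node (.leaf 13147645) (.leaf 19797933))) (.node (.node (.leaf 19808429) (.leaf 3621973)) (.node (.leaf 19192504) (.leaf 31510253)))) (.node (.node (.node (.leaf 15550206) (.leaf 13930740)) (.node (.leaf 20864862) (.leaf 10131205))) (.node (.node (.leaf 5181825) (.leaf 9241848)) (.node (.leaf 25756506) (.leaf 18719082)))))))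

/-- A point of the block, part 435. -/
def ptCodePart435 : Janko1.Tree ℕ := (.node (.node (.node (.node (.node (.node (.leaf 8848341) (.leaf 8503630)) (.node (.leaf 22255064) (.leaf 18813882))) (.node (.node (.leaf 28721581) (.leaf 34496109)) (.node (.leaf 9535646) (.leaf 6540106)))) (.node (.node (.node (.leaf 25657821) (.leaf 22531162)) (.node (.leaf 17652762) (.leaf 5674018))) (.node (.node (.leaf 20291761) (.leaf 34489796)) (.node (.leaf 20863881) (.leaf 19306636))))) (.node (.node (.node (.node (.leaf 1004764) (.leaf 3624964)) (.node (.leaf 26395212) (.leaf 4543168))) (.node (.node (.leaf 29625617) (.leaf 20286206)) (.node (.leaf 19159934) (.leaf 13574569)))) (.node (.node (.node (.leaf 15620020) (.leaf 32464184)) (.node (.leaf 29181692) (.leaf 23478777))) (.node (.node (.leaf 2967496) (.leaf 18702532)) (.node (.leaf 12327718) (.leaf 21153484)))))) (.node (.node (.node (.node (.node (.leaf 19811784) (.leaf 20288466)) (.node (.leaf 23074160) (.leaf 12324880))) (.node (.node (.leaf 27757582) (.leaf 18301340))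 (.node (.leaf 15342072) (.leaf 1005157)))) (.node (.node (.node (.leaf 23478764) (.leaf 1754581)) (.node (.leaf 19563452) (.leaf 24909812))) (.node (.node (.leaf 29565136) (.leaf 23155433)) (.node (.leaf 4543376) (.leaf 15519440))))) (.node (.node (.node (.node (.leaf 21547466) (.leaf 23157672)) (.node (.leaf 30005292) (.leaf 3726460))) (.node (.node (.leaf 2512142) (.leaf 30841102)) (.node (.leaf 6983897) (.leaf 30000229)))) (.node (.node (.node (.leaf 25742116) (.leaf 7718186)) (.node (.leaf 21894210) (.leaf 20371320))) (.node (.node (.leaf 27221973) (.leaf 29874826)) (.node (.leaf 7685906) (.leaf 14929838)))))))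

/-- A point of the block, part 436. -/
def ptCodePart436 : Janko1.Tree ℕ := (.node (.node (.node (.node (.node (.node (.leaf 20829508) (.leaf 25598101)) (.node (.leaf 28721929) (.leaf 19158793))) (.node (.node (.leaf 25745090) (.leaf 18350152)) (.node (.leaf 12487864) (.leaf 7718721)))) (.node (.node (.node (.leaf 3509022) (.leaf 16634774)) (.node (.leaf 591457) (.leaf 13275346))) (.node (.node (.leaf 19782386) (.leaf 23207732)) (.node (.leaf 30839760) (.leaf 3725240))))) (.node (.node (.node (.node (.leaf 29868249) (.leaf 3776392)) (.node (.leaf 34725922) (.leaf 3054318))) (.node (.node (.leaf 17014368) (.leaf 3726408)) (.node (.leaf 34489238) (.leaf 22992160)))) (.node (.node (.node (.leaf 12767922) (.leaf 18814930)) (.node (.leaf 10553100) (.leaf 14015740))) (.node (.node (.leaf 4540236) (.leaf 28689228)) (.node (.leaf 13567641) (.leaf 32461714)))))) (.node (.node (.node (.node (.node (.leaf 19779409) (.leaf 11260136)) (.node (.leaf 32459644) (.leaf 3724528))) (.node (.node (.leaf 24139228) (.leaf 11259730))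 (.node (.leaf 20862673) (.leaf 22233761)))) (.node (.node (.node (.leaf 5677254) (.leaf 20026850)) (.node (.leaf 32922840) (.leaf 20089180))) (.node (.node (.leaf 19993445) (.leaf 23403117)) (.node (.leaf 21954965) (.leaf 2234526))))) (.node (.node (.node (.node (.leaf 8000626) (.leaf 3723328)) (.node (.leaf 20727780) (.leaf 13141489))) (.node (.node (.leaf 7292332) (.leaf 8654077)) (.node (.leaf 16387681) (.leaf 29221300)))) (.node (.node (.node (.leaf 32920444) (.leaf 19564756)) (.node (.leaf 25906554) (.leaf 16750556))) (.node (.node (.leaf 5167537) (.leaf 27614562)) (.node (.leaf 23781600) (.leaf 34719126)))))))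

/-- A point of the block, part 437. -/
def ptCodePart437 : Janko1.Tree ℕ := (.node (.node (.node (.node (.node (.node (.leaf 11263258) (.leaf 11601797)) (.node (.leaf 17620318) (.leaf 31065070))) (.node (.node (.leaf 29180402) (.leaf 22534829)) (.node (.leaf 22004020) (.leaf 12764054)))) (.node (.node (.node (.leaf 27754797) (.leaf 11471777)) (.node (.leaf 34526840) (.leaf 19453417))) (.node (.node (.leaf 4988622) (.leaf 15337154)) (.node (.leaf 18309553) (.leaf 13574361))))) (.node (.node (.node (.node (.leaf 8852332) (.leaf 17646942)) (.node (.leaf 27760904) (.leaf 10568901))) (.node (.node (.leaf 596241) (.leaf 33169278)) (.node (.leaf 33276874) (.leaf 2515233)))) (.node (.node (.node (.leaf 5067656) (.leaf 466789)) (.node (.leaf 18699978) (.leaf 21549573))) (.node (.node (.leaf 11126721) (.leaf 1743422)) (.node (.leaf 10652193) (.leaf 5184496)))))) (.node (.node (.node (.node (.node (.leaf 20025028) (.leaf 22012037)) (.node (.leaf 32938349) (.leaf 33276858))) (.node (.node (.leaf 12703497) (.leaf 4544890))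 (.node (.leaf 13931358) (.leaf 15552072)))) (.node (.node (.node (.leaf 5066842) (.leaf 8003346)) (.node (.leaf 30689041) (.leaf 23544930))) (.node (.node (.leaf 10493854) (.leaf 20089894)) (.node (.leaf 32514032) (.leaf 18320025))))) (.node (.node (.node (.node (.leaf 30693426) (.leaf 25760208)) (.node (.leaf 20824476) (.leaf 22530793))) (.node (.node (.leaf 4984360) (.leaf 21499805)) (.node (.leaf 20727085) (.leaf 34720193)))) (.node (.node (.node (.leaf 19928176) (.leaf 21596593)) (.node (.leaf 9543802) (.leaf 463841))) (.node (.node (.leaf 29215986) (.leaf 23398686)) (.node (.leaf 3950745) (.leaf 591204)))))))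

/-- A point of the block, part 438. -/
def ptCodePart438 : Janko1.Tree ℕ := (.node (.node (.node (.node (.node (.node (.leaf 5064026) (.leaf 17619374)) (.node (.leaf 29874241) (.leaf 20830245))) (.node (.node (.leaf 11573450) (.leaf 1757397)) (.node (.leaf 10656408) (.leaf 23398790)))) (.node (.node (.node (.leaf 15342029) (.leaf 7723874)) (.node (.leaf 7691133) (.leaf 15667368))) (.node (.node (.leaf 8849648) (.leaf 10260217)) (.node (.leaf 23403830) (.leaf 12698216))))) (.node (.node (.node (.node (.leaf 11260128) (.leaf 7719174)) (.node (.leaf 4543633) (.leaf 11476506))) (.node (.node (.leaf 8914840) (.leaf 25665865)) (.node (.leaf 2511358) (.leaf 13140265)))) (.node (.node (.node (.leaf 19189725) (.leaf 10607526)) (.node (.leaf 10133940) (.leaf 25761676))) (.node (.node (.leaf 12326046) (.leaf 21158221)) (.node (.leaf 592710) (.leaf 10262985)))))) (.node (.node (.node (.node (.node (.leaf 11572924) (.leaf 23204898)) (.node (.leaf 24925081) (.leaf 8509414))) (.node (.node (.leaf 22219824) (.leaf 12491906))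 (.node (.leaf 8656512) (.leaf 21156309)))) (.node (.node (.node (.leaf 18320265) (.leaf 5722770)) (.node (.leaf 25905430) (.leaf 25904938))) (.node (.node (.leaf 9569625) (.leaf 5837748)) (.node (.leaf 15671726) (.leaf 32935120))))) (.node (.node (.node (.node (.leaf 6985380) (.leaf 21896357)) (.node (.leaf 23548770) (.leaf 29625213))) (.node (.node (.leaf 1003048) (.leaf 2510588)) (.node (.leaf 20088742) (.leaf 23544770)))) (.node (.node (.node (.leaf 5065585) (.leaf 24925572)) (.node (.leaf 23551230) (.leaf 31772572))) (.node (.node (.leaf 3774613) (.leaf 29623185)) (.node (.leaf 34526134) (.leaf 21158246)))))))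

/-- A point of the block, part 439. -/
def ptCodePart439 : Janko1.Tree ℕ := (.node (.node (.node (.node (.node (.node (.leaf 17007853) (.leaf 32512777)) (.node (.leaf 10568837) (.leaf 11607524))) (.node (.node (.leaf 20357318) (.leaf 23151470)) (.node (.leaf 16748584) (.leaf 15619708)))) (.node (.node (.node (.leaf 25746470) (.leaf 8503945)) (.node (.leaf 3624220) (.leaf 12765345))) (.node (.node (.leaf 29563946) (.leaf 16633820)) (.node (.leaf 3661380) (.leaf 466800))))) (.node (.node (.node (.node (.leaf 9770201) (.leaf 34724829)) (.node (.leaf 8850016) (.leaf 19995805))) (.node (.node (.leaf 17012152) (.leaf 19797665)) (.node (.leaf 34720816) (.leaf 29563372)))) (.node (.node (.node (.leaf 20733060) (.leaf 20860548)) (.node (.leaf 11133317) (.leaf 19930960))) (.node (.node (.leaf 10342885) (.leaf 2789938)) (.node (.leaf 28690220) (.leaf 19158933)))))) (.node (.node (.node (.node (.node (.leaf 592105) (.leaf 10338940)) (.node (.leaf 25664481) (.leaf 22007812))) (.node (.node (.leaf 28695716) (.leaf 3661534))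 (.node (.leaf 10653769) (.leaf 18324592)))) (.node (.node (.node (.leaf 11832720) (.leaf 23699626)) (.node (.leaf 1006561) (.leaf 18567441))) (.node (.node (.leaf 21889744) (.leaf 32511157)) (.node (.leaf 14011090) (.leaf 19810562))))) (.node (.node (.node (.node (.leaf 19996976) (.leaf 18570116)) (.node (.leaf 7997845) (.leaf 11831633))) (.node (.node (.leaf 3051642) (.leaf 10552773)) (.node (.leaf 20368156) (.leaf 9766969)))) (.node (.node (.node (.leaf 10570593) (.leaf 29622641)) (.node (.leaf 19777533) (.leaf 18812536))) (.node (.node (.leaf 25662160) (.leaf 5611929)) (.node (.leaf 14226138) (.leaf 19155434)))))))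

/-- A point of the block, part 440. -/
def ptCodePart440 : Janko1.Tree ℕ := (.node (.node (.node (.node (.node (.node (.leaf 2235041) (.leaf 31067600)) (.node (.leaf 25741084) (.leaf 24909309))) (.node (.node (.leaf 32547262) (.leaf 20286664)) (.node (.leaf 24926501) (.leaf 9539882)))) (.node (.node (.node (.leaf 27219188) (.leaf 20094249)) (.node (.leaf 6986778) (.leaf 15649033))) (.node (.node (.leaf 16752340) (.leaf 22534964)) (.node (.leaf 16632194) (.leaf 6627645))))) (.node (.node (.node (.node (.leaf 14147217) (.leaf 13213125)) (.node (.leaf 573870) (.leaf 13210481))) (.node (.node (.leaf 13064937) (.leaf 3021465)) (.node (.leaf 2576294) (.leaf 19384308)))) (.node (.node (.node (.leaf 33676477) (.leaf 2890398)) (.node (.leaf 23434088) (.leaf 35131506))) (.node (.node (.leaf 22380900) (.leaf 20570534)) (.node (.leaf 1557160) (.leaf 14209753)))))) (.node (.node (.node (.node (.node (.leaf 19390665) (.leaf 14144954)) (.node (.leaf 14145434) (.leaf 11788298))) (.node (.node (.leaf 12309169) (.leaf 33686348))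 (.node (.leaf 30971848) (.leaf 6572230)))) (.node (.node (.node (.leaf 25317866) (.leaf 12830737)) (.node (.leaf 12847498) (.leaf 24287024))) (.node (.node (.leaf 1558813) (.leaf 32411917)) (.node (.leaf 34554860) (.leaf 15028810))))) (.node (.node (.node (.node (.leaf 34554158) (.leaf 35051812)) (.node (.leaf 23433461) (.leaf 4527880))) (.node (.node (.leaf 8314501) (.leaf 20024840)) (.node (.leaf 30902102) (.leaf 18189933)))) (.node (.node (.node (.leaf 12128980) (.leaf 24288982)) (.node (.leaf 12222796) (.leaf 30428824))) (.node (.node (.leaf 8000028) (.leaf 30429212)) (.node (.leaf 28628146) (.leaf 6577034)))))))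

/-- A point of the block, part 441. -/
def ptCodePart441 : Janko1.Tree ℕ := (.node (.node (.node (.node (.node (.node (.leaf 21152188) (.leaf 2890333)) (.node (.leaf 23431109) (.leaf 5472458))) (.node (.node (.leaf 27416545) (.leaf 9258214)) (.node (.leaf 27448981) (.leaf 8802189)))) (.node (.node (.node (.leaf 34577017) (.leaf 21126858)) (.node (.leaf 8821798) (.leaf 26871645))) (.node (.node (.leaf 34524838) (.leaf 17619173)) (.node (.leaf 23421006) (.leaf 27476029))))) (.node (.node (.node (.node (.leaf 30016954) (.leaf 13639561)) (.node (.leaf 18976456) (.leaf 12226637))) (.node (.node (.leaf 32971786) (.leaf 2580326)) (.node (.leaf 101926) (.leaf 15827240)))) (.node (.node (.node (.leaf 22642966) (.leaf 29081769)) (.node (.leaf 8800256) (.leaf 19448686))) (.node (.node (.leaf 5480529) (.leaf 26248653)) (.node (.leaf 27418814) (.leaf 2148181)))))) (.node (.node (.node (.node (.node (.leaf 15622486) (.leaf 2365301)) (.node (.leaf 14145921) (.leaf 20845516))) (.node (.node (.leaf 24101418) (.leaf 18842389))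 (.node (.leaf 14211865) (.leaf 7720070)))) (.node (.node (.node (.leaf 16288436) (.leaf 4720318)) (.node (.leaf 22384484) (.leaf 20843912))) (.node (.node (.leaf 3579680) (.leaf 14818474)) (.node (.leaf 1557416) (.leaf 104197))))) (.node (.node (.node (.node (.leaf 33687294) (.leaf 32544493)) (.node (.leaf 4723713) (.leaf 14307258))) (.node (.node (.leaf 5480552) (.leaf 27053330)) (.node (.leaf 34166436) (.leaf 25315697)))) (.node (.node (.node (.leaf 18111182) (.leaf 16518142)) (.node (.leaf 99888) (.leaf 5148141))) (.node (.node (.leaf 12230262) (.leaf 23434188)) (.node (.leaf 5477602) (.leaf 4527920)))))))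

/-- A point of the block, part 442. -/
def ptCodePart442 : Janko1.Tree ℕ := (.node (.node (.node (.node (.node (.node (.leaf 6278504) (.leaf 25379902)) (.node (.leaf 30545152) (.leaf 22381798))) (.node (.node (.leaf 27705942) (.leaf 12207852)) (.node (.leaf 14865316) (.leaf 24600954)))) (.node (.node (.node (.leaf 101993) (.leaf 5475550)) (.node (.leaf 5476036) (.leaf 12125158))) (.node (.node (.leaf 30498454) (.leaf 30547641)) (.node (.leaf 4457376) (.leaf 18842361))))) (.node (.node (.node (.node (.leaf 20252224) (.leaf 14207748)) (.node (.leaf 32416042) (.leaf 32541044))) (.node (.node (.leaf 17433142) (.leaf 14522141)) (.node (.leaf 15028464) (.leaf 20257562)))) (.node (.node (.node (.leaf 6282360) (.leaf 20562454)) (.node (.leaf 14814328) (.leaf 12208376))) (.node (.node (.leaf 15617689) (.leaf 22909433)) (.node (.leaf 30491764) (.leaf 29347578)))))) (.node (.node (.node (.node (.node (.leaf 11044369) (.leaf 575962)) (.node (.leaf 20710150) (.leaf 14818193))) (.node (.node (.leaf 13454938) (.leaf 22911254))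 (.node (.leaf 16092358) (.leaf 21156857)))) (.node (.node (.node (.leaf 14207140) (.leaf 16286321)) (.node (.leaf 26646037) (.leaf 35358012))) (.node (.node (.leaf 29348182) (.leaf 22651049)) (.node (.leaf 28742250) (.leaf 26906849))))) (.node (.node (.node (.node (.leaf 22790592) (.leaf 16614538)) (.node (.leaf 35359350) (.leaf 26250482))) (.node (.node (.leaf 9262485) (.leaf 2364220)) (.node (.leaf 32415388) (.leaf 23418361)))) (.node (.node (.node (.leaf 25517188) (.leaf 9704885)) (.node (.leaf 19748310) (.leaf 6575882))) (.node (.node (.leaf 22268228) (.leaf 3578981)) (.node (.leaf 16617613) (.leaf 34161306)))))))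

/-- A point of the block, part 443. -/
def ptCodePart443 : Janko1.Tree ℕ := (.node (.node (.node (.node (.node (.node (.leaf 13454569) (.leaf 5674270)) (.node (.leaf 7035817) (.leaf 34619686))) (.node (.node (.leaf 6771404) (.leaf 21152020)) (.node (.leaf 20716794) (.leaf 12851418)))) (.node (.node (.node (.leaf 15680718) (.leaf 13934410)) (.node (.leaf 34168884) (.leaf 11099153))) (.node (.node (.leaf 4458361) (.leaf 24282021)) (.node (.leaf 25511726) (.leaf 34165066))))) (.node (.node (.node (.node (.leaf 23679074) (.leaf 28416992)) (.node (.leaf 28688922) (.leaf 16466034))) (.node (.node (.leaf 32605514) (.leaf 1184058)) (.node (.leaf 24106272) (.leaf 30018649)))) (.node (.node (.node (.leaf 6768645) (.leaf 1563688)) (.node (.leaf 13455761) (.leaf 27447621))) (.node (.node (.leaf 24599538) (.leaf 30018276)) (.node (.leaf 22646814) (.leaf 25516490)))))) (.node (.node (.node (.node (.node (.leaf 10079785) (.leaf 4724965)) (.node (.leaf 15686674) (.leaf 26872676))) (.node (.node (.leaf 32607297) (.leaf 10080302))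 (.node (.leaf 30544350) (.leaf 27352194)))) (.node (.node (.node (.leaf 18112586) (.leaf 25515005)) (.node (.leaf 15909628) (.leaf 18980624))) (.node (.node (.leaf 33545118) (.leaf 14304353)) (.node (.leaf 35151746) (.leaf 12963102))))) (.node (.node (.node (.node (.leaf 14311045) (.leaf 20846988)) (.node (.leaf 12834898) (.leaf 5983701))) (.node (.node (.leaf 22272730) (.leaf 11097873)) (.node (.leaf 14140660) (.leaf 11785506)))) (.node (.node (.node (.leaf 15827650) (.leaf 22791553)) (.node (.leaf 1564628) (.leaf 22383396))) (.node (.node (.leaf 5476832) (.leaf 23436938)) (.node (.leaf 27482936) (.leaf 9700413)))))))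

/-- A point of the block, part 444. -/
def ptCodePart444 : Janko1.Tree ℕ := (.node (.node (.node (.node (.node (.node (.leaf 22268914) (.leaf 5669906)) (.node (.leaf 2153189) (.leaf 12124873))) (.node (.node (.leaf 19452473) (.leaf 14535150)) (.node (.leaf 14535550) (.leaf 4726957)))) (.node (.node (.node (.leaf 15683484) (.leaf 22568296)) (.node (.leaf 8002221) (.leaf 22272244))) (.node (.node (.leaf 14816269) (.leaf 27057297)) (.node (.leaf 23418453) (.leaf 12836112))))) (.node (.node (.node (.node (.leaf 27414634) (.leaf 30525117)) (.node (.leaf 31087036) (.leaf 26251297))) (.node (.node (.leaf 25381072) (.leaf 23282113)) (.node (.leaf 577306) (.leaf 26906988)))) (.node (.node (.node (.leaf 33687966) (.leaf 34577226)) (.node (.leaf 26873541) (.leaf 32544804))) (.node (.node (.leaf 26646238) (.leaf 5133529)) (.node (.leaf 7032740) (.leaf 20110525)))))) (.node (.node (.node (.node (.node (.leaf 29838477) (.leaf 14786417)) (.node (.leaf 19743468) (.leaf 20799642))) (.node (.node (.leaf 33685785) (.leaf 11783004))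 (.node (.leaf 5128984) (.leaf 18389745)))) (.node (.node (.node (.leaf 32657893) (.leaf 1556830)) (.node (.leaf 15571337) (.leaf 32608322))) (.node (.node (.leaf 29876261) (.leaf 24609672)) (.node (.leaf 20809982) (.leaf 28740722))))) (.node (.node (.node (.node (.leaf 24101384) (.leaf 26641846)) (.node (.leaf 31081202) (.leaf 27477489))) (.node (.node (.leaf 4463752) (.leaf 34393484)) (.node (.leaf 18974594) (.leaf 15620080)))) (.node (.node (.node (.leaf 22267486) (.leaf 17614026)) (.node (.leaf 25101072) (.leaf 17948089))) (.node (.node (.leaf 30972326) (.leaf 21122122)) (.node (.leaf 14521116) (.leaf 22337460)))))))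

/-- A point of the block, part 445. -/
def ptCodePart445 : Janko1.Tree ℕ := (.node (.node (.node (.node (.node (.node (.leaf 16519669) (.leaf 27450494)) (.node (.leaf 13934128) (.leaf 6280482))) (.node (.node (.leaf 15681188) (.leaf 20712785)) (.node (.leaf 34625165) (.leaf 22565092)))) (.node (.node (.node (.leaf 100768) (.leaf 24592878)) (.node (.leaf 7231197) (.leaf 2889465))) (.node (.node (.leaf 18845093) (.leaf 7589161)) (.node (.leaf 24107768) (.leaf 35051334))))) (.node (.node (.node (.node (.leaf 28691166) (.leaf 28415717)) (.node (.leaf 32968576) (.leaf 32545478))) (.node (.node (.leaf 26641346) (.leaf 2430308)) (.node (.leaf 16504345) (.leaf 29351286)))) (.node (.node (.node (.leaf 30496582) (.leaf 26876004)) (.node (.leaf 15566814) (.leaf 10817602))) (.node (.node (.leaf 16515685) (.leaf 14144108)) (.node (.leaf 7032490) (.leaf 20568057)))))) (.node (.node (.node (.node (.node (.leaf 21123733) (.leaf 20813432)) (.node (.leaf 22911976) (.leaf 13931565))) (.node (.node (.leaf 25517285) (.leaf 32412350))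 (.node (.leaf 14811753) (.leaf 12129281)))) (.node (.node (.node (.leaf 9262090) (.leaf 17940838)) (.node (.leaf 14781309) (.leaf 10816880))) (.node (.node (.leaf 23284749) (.leaf 14523538)) (.node (.leaf 19388554) (.leaf 27071438))))) (.node (.node (.node (.node (.leaf 20814866) (.leaf 23086172)) (.node (.leaf 30902288) (.leaf 18389992))) (.node (.node (.leaf 8800860) (.leaf 32967908)) (.node (.leaf 23420677) (.leaf 12213478)))) (.node (.node (.node (.leaf 23416113) (.leaf 25313692)) (.node (.leaf 25514260) (.leaf 13933834))) (.node (.node (.leaf 2362302) (.leaf 13060074)) (.node (.leaf 1558726) (.leaf 34576958)))))))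

/-- A point of the block, part 446. -/
def ptCodePart446 : Janko1.Tree ℕ := (.node (.node (.node (.node (.node (.node (.leaf 30021426) (.leaf 6282218)) (.node (.leaf 28627972) (.leaf 20710680))) (.node (.node (.leaf 24611968) (.leaf 29838394)) (.node (.leaf 8805881) (.leaf 16471644)))) (.node (.node (.node (.leaf 13062486) (.leaf 8000044)) (.node (.leaf 3576920) (.leaf 5984710))) (.node (.node (.leaf 13454253) (.leaf 1809873)) (.node (.leaf 12212252) (.leaf 15829497))))) (.node (.node (.node (.node (.leaf 13212638) (.leaf 27053072)) (.node (.leaf 4953608) (.leaf 20698205))) (.node (.node (.leaf 14306450) (.leaf 15828364)) (.node (.leaf 20563538) (.leaf 19421532)))) (.node (.node (.node (.leaf 14537192) (.leaf 30491778)) (.node (.leaf 30491782) (.leaf 32277798))) (.node (.node (.leaf 14813169) (.leaf 30544200)) (.node (.leaf 22796602) (.leaf 16620405)))))) (.node (.node (.node (.node (.node (.leaf 3017870) (.leaf 24992793)) (.node (.leaf 32541736) (.leaf 12211096))) (.node (.node (.leaf 22332457) (.leaf 7232921))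 (.node (.leaf 10082541) (.leaf 7718418)))) (.node (.node (.node (.leaf 18980829) (.leaf 20258258)) (.node (.leaf 28202068) (.leaf 18372154))) (.node (.node (.leaf 17438098) (.leaf 22649194)) (.node (.leaf 106832) (.leaf 34561917))))) (.node (.node (.node (.node (.leaf 33691849) (.leaf 18842776)) (.node (.leaf 20028758) (.leaf 30901549))) (.node (.node (.leaf 34396565) (.leaf 24272984)) (.node (.leaf 28411446) (.leaf 17944698)))) (.node (.node (.node (.leaf 28627900) (.leaf 20815460)) (.node (.leaf 7717393) (.leaf 19384145))) (.node (.node (.leaf 7722720) (.leaf 7722605)) (.node (.leaf 30525178) (.leaf 21156841)))))))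

/-- A point of the block, part 447. -/
def ptCodePart447 : Janko1.Tree ℕ := (.node (.node (.node (.node (.node (.node (.leaf 25386774) (.leaf 13934765)) (.node (.leaf 22795580) (.leaf 24272077))) (.node (.node (.leaf 35145270) (.leaf 30971802)) (.node (.leaf 9705997) (.leaf 13213120)))) (.node (.node (.node (.leaf 27484096) (.leaf 33545970)) (.node (.leaf 10082194) (.leaf 30971442))) (.node (.node (.leaf 28626361) (.leaf 8802648)) (.node (.leaf 14539420) (.leaf 19748654))))) (.node (.node (.node (.node (.leaf 12967192) (.leaf 6626014)) (.node (.leaf 20809849) (.leaf 5985250))) (.node (.node (.leaf 32824660) (.leaf 22192390)) (.node (.leaf 20565274) (.leaf 29087430)))) (.node (.node (.node (.leaf 5128365) (.leaf 32806338)) (.node (.leaf 15304908) (.leaf 24105353))) (.node (.node (.leaf 24105380) (.leaf 26872758)) (.node (.leaf 5149970) (.leaf 21121230)))))) (.node (.node (.node (.node (.node (.leaf 20025226) (.leaf 34398030)) (.node (.leaf 29873113) (.leaf 30530057))) (.node (.node (.leaf 12308554) (.leaf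 27414516)) (.node (.leaf 2428346) (.leaf 22728385)))) (.node (.node (.node (.leaf 23680008) (.leaf 18187074)) (.node (.leaf 12304636) (.leaf 6279408))) (.node (.node (.leaf 18383358) (.leaf 3574296)) (.node (.leaf 1183624) (.leaf 34575029))))) (.node (.node (.node (.node (.leaf 15620989) (.leaf 6576438)) (.node (.leaf 22646521) (.leaf 22383830))) (.node (.node (.leaf 21157888) (.leaf 1186717)) (.node (.leaf 28204850) (.leaf 23679845)))) (.node (.node (.node (.leaf 16499869) (.leaf 22332754)) (.node (.leaf 19386890) (.leaf 23419962))) (.node (.node (.leaf 5133784) (.leaf 573486)) (.node (.leaf 17948544) (.leaf 2365778)))))))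

/-- A point of the block, part 448. -/
def ptCodePart448 : Janko1.Tree ℕ := (.node (.node (.node (.node (.node (.node (.leaf 10080508) (.leaf 5675330)) (.node (.leaf 27346664) (.leaf 16620138))) (.node (.node (.leaf 30394078) (.leaf 3375574)) (.node (.leaf 578641) (.leaf 35180046)))) (.node (.node (.node (.leaf 20564349) (.leaf 573782)) (.node (.leaf 22725589) (.leaf 33669324))) (.node (.node (.leaf 20693400) (.leaf 14779177)) (.node (.leaf 27476113) (.leaf 18372025))))) (.node (.node (.node (.node (.leaf 34561690) (.leaf 7587678)) (.node (.leaf 4523765) (.leaf 32411978))) (.node (.node (.leaf 20796746) (.leaf 29088605)) (.node (.leaf 22643425) (.leaf 30169640)))) (.node (.node (.node (.leaf 32611457) (.leaf 14863054)) (.node (.leaf 28737896) (.leaf 25313794))) (.node (.node (.leaf 16095133) (.leaf 35183046)) (.node (.leaf 20028856) (.leaf 16501564)))))) (.node (.node (.node (.node (.node (.leaf 35053118) (.leaf 22269926)) (.node (.leaf 30543464) (.leaf 20105906))) (.node (.node (.leaf 4952772) (.leaf 22563562))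 (.node (.leaf 13635285) (.leaf 27070373)))) (.node (.node (.node (.leaf 18367560) (.leaf 22560901)) (.node (.leaf 32821005) (.leaf 17438648))) (.node (.node (.leaf 4526048) (.leaf 10817678)) (.node (.leaf 20022921) (.leaf 28691540))))) (.node (.node (.node (.node (.leaf 20108405) (.leaf 511334)) (.node (.leaf 25378986) (.leaf 27066658))) (.node (.node (.leaf 29843578) (.leaf 34555466)) (.node (.leaf 7037276) (.leaf 14206036)))) (.node (.node (.node (.leaf 5134229) (.leaf 11044397)) (.node (.leaf 3378556) (.leaf 24985672))) (.node (.node (.leaf 33539689) (.leaf 27484526)) (.node (.leaf 11100105) (.leaf 23287170)))))))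

/-- A point of the block, part 449. -/
def ptCodePart449 : Janko1.Tree ℕ := (.node (.node (.node (.node (.node (.node (.leaf 27449912) (.leaf 34562012)) (.node (.leaf 21158217) (.leaf 3378356))) (.node (.node (.leaf 14540457) (.leaf 30968201)) (.node (.leaf 32605405) (.leaf 24617072)))) (.node (.node (.node (.leaf 21121509) (.leaf 24282821)) (.node (.leaf 26643408) (.leaf 7717072))) (.node (.node (.leaf 15682477) (.leaf 28200204)) (.node (.leaf 27478373) (.leaf 7029625))))) (.node (.node (.node (.node (.leaf 30902113) (.leaf 15687896)) (.node (.leaf 32808961) (.leaf 25383440))) (.node (.node (.leaf 6622614) (.leaf 6576733)) (.node (.leaf 24285681) (.leaf 25511346)))) (.node (.node (.node (.leaf 22791180) (.leaf 29838205)) (.node (.leaf 34623078) (.leaf 11093097))) (.node (.node (.leaf 13063577) (.leaf 32413170)) (.node (.leaf 26252448) (.leaf 1185301)))))) (.node (.node (.node (.node (.node (.leaf 574948) (.leaf 33540956)) (.node (.leaf 5135744) (.leaf 23680733))) (.node (.node (.leaf 16285737) (.leaf 11541340))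 (.node (.leaf 32804860) (.leaf 16290120)))) (.node (.node (.node (.leaf 27071669) (.leaf 25318458)) (.node (.leaf 12312760) (.leaf 14782741))) (.node (.node (.leaf 15915705) (.leaf 5673901)) (.node (.leaf 24271561) (.leaf 316990))))) (.node (.node (.node (.node (.leaf 34561782) (.leaf 15682441)) (.node (.leaf 3576472) (.leaf 32807485))) (.node (.node (.leaf 12964301) (.leaf 29839093)) (.node (.leaf 29345893) (.leaf 31084744)))) (.node (.node (.node (.leaf 24985882) (.leaf 22188608)) (.node (.leaf 7588876) (.leaf 12829217))) (.node (.node (.leaf 11787180) (.leaf 12228753)) (.node (.leaf 35363184) (.leaf 4722596)))))))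

/-- A point of the block, part 450. -/
def ptCodePart450 : Janko1.Tree ℕ := (.node (.node (.node (.node (.node (.node (.leaf 11535422) (.leaf 5985316)) (.node (.leaf 34526728) (.leaf 20840568))) (.node (.node (.leaf 13208852) (.leaf 20793022)) (.node (.leaf 26876676) (.leaf 16784453)))) (.node (.node (.node (.leaf 14814134) (.leaf 18109668)) (.node (.leaf 14780381) (.leaf 15917258))) (.node (.node (.leaf 13458930) (.leaf 12845249)) (.node (.leaf 34619585) (.leaf 15614364))))) (.node (.node (.node (.node (.leaf 318169) (.leaf 14537292)) (.node (.leaf 30427117) (.leaf 16613558))) (.node (.node (.leaf 25514081) (.leaf 29083402)) (.node (.leaf 18194808) (.leaf 34578434)))) (.node (.node (.node (.leaf 6619156) (.leaf 14307128)) (.node (.leaf 14867489) (.leaf 27056237))) (.node (.node (.leaf 7260484) (.leaf 28630485)) (.node (.leaf 15835081) (.leaf 24286132)))))) (.node (.node (.node (.node (.node (.leaf 33671862) (.leaf 32808498)) (.node (.leaf 22336041) (.leaf 34577929))) (.node (.node (.leaf 12847589) (.leaf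 30394224)) (.node (.leaf 30392912) (.leaf 18111657)))) (.node (.node (.node (.leaf 18194816) (.leaf 18384690)) (.node (.leaf 35051218) (.leaf 26255516))) (.node (.node (.leaf 28201436) (.leaf 15565744)) (.node (.leaf 29842326) (.leaf 30524418))))) (.node (.node (.node (.node (.leaf 4723166) (.leaf 22563048)) (.node (.leaf 25104556) (.leaf 28410465))) (.node (.node (.leaf 32605728) (.leaf 13638140)) (.node (.leaf 35148469) (.leaf 2887368)))) (.node (.node (.node (.leaf 5981438) (.leaf 510277)) (.node (.leaf 35359634) (.leaf 4956520))) (.node (.node (.leaf 27351698) (.leaf 34554234)) (.node (.leaf 19421677) (.leaf 32544818)))))))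

/-- A point of the block, part 451. -/
def ptCodePart451 : Janko1.Tree ℕ := (.node (.node (.node (.node (.node (.node (.leaf 25316144) (.leaf 5673818)) (.node (.leaf 20717746) (.leaf 27410736))) (.node (.node (.leaf 26903458) (.leaf 26910808)) (.node (.leaf 12863634) (.leaf 14782029)))) (.node (.node (.node (.leaf 20792753) (.leaf 24284137)) (.node (.leaf 30165269) (.leaf 8798453))) (.node (.node (.leaf 24266953) (.leaf 4529262)) (.node (.leaf 35149258) (.leaf 18978402))))) (.node (.node (.node (.node (.leaf 21125660) (.leaf 22268048)) (.node (.leaf 11095706) (.leaf 28738930))) (.node (.node (.leaf 18186941) (.leaf 6571901)) (.node (.leaf 32542326) (.leaf 35145085)))) (.node (.node (.node (.leaf 11786538) (.leaf 580321)) (.node (.leaf 512745) (.leaf 5980766))) (.node (.node (.leaf 27443668) (.leaf 11047370)) (.node (.leaf 16499477) (.leaf 24609084)))))) (.node (.node (.node (.node (.node (.leaf 16294077) (.leaf 12962898)) (.node (.leaf 16745498) (.leaf 29344524))) (.node (.node (.leaf 27066937) (.leaf 23093454))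 (.node (.leaf 35360377) (.leaf 15834869)))) (.node (.node (.node (.leaf 12865061) (.leaf 13064628)) (.node (.leaf 4523894) (.leaf 21157176))) (.node (.node (.leaf 16779654) (.leaf 3018210)) (.node (.leaf 27417577) (.leaf 21120732))))) (.node (.node (.node (.node (.leaf 35365164) (.leaf 5151942)) (.node (.leaf 30017814) (.leaf 35052566))) (.node (.node (.leaf 33541365) (.leaf 19454217)) (.node (.leaf 34392725) (.leaf 1808321)))) (.node (.node (.node (.leaf 4463558) (.leaf 15683425)) (.node (.leaf 22732430) (.leaf 32806089))) (.node (.node (.leaf 22331718) (.leaf 11049369)) (.node (.leaf 1185038) (.leaf 7591589)))))))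

/-- A point of the block, part 452. -/
def ptCodePart452 : Janko1.Tree ℕ := (.node (.node (.node (.node (.node (.node (.leaf 11050665) (.leaf 23288901)) (.node (.leaf 17433058) (.leaf 104253))) (.node (.node (.leaf 15831266) (.leaf 15910168)) (.node (.leaf 7260285) (.leaf 24992569)))) (.node (.node (.node (.leaf 12311345) (.leaf 30968337)) (.node (.leaf 32972262) (.leaf 16779685))) (.node (.node (.leaf 29874637) (.leaf 14812341)) (.node (.leaf 20711913) (.leaf 14520662))))) (.node (.node (.node (.node (.leaf 35129933) (.leaf 12224437)) (.node (.leaf 5134680) (.leaf 26873206))) (.node (.node (.leaf 20255414) (.leaf 22646188)) (.node (.leaf 23677933) (.leaf 12961284)))) (.node (.node (.node (.leaf 26250418) (.leaf 28630982)) (.node (.leaf 22726285) (.leaf 14536373))) (.node (.node (.leaf 23676578) (.leaf 34527592)) (.node (.leaf 23287464) (.leaf 14780509)))))) (.node (.node (.node (.node (.node (.leaf 12961738) (.leaf 16287672)) (.node (.leaf 24986928) (.leaf 30528374))) (.node (.node (.leaf 30528418) (.leaf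 20693276)) (.node (.leaf 27351181) (.leaf 18847306)))) (.node (.node (.node (.leaf 22386314) (.leaf 22649772)) (.node (.leaf 18367228) (.leaf 7032249))) (.node (.node (.leaf 12961028) (.leaf 12965576)) (.node (.leaf 13640006) (.leaf 31085285))))) (.node (.node (.node (.node (.leaf 13635698) (.leaf 32282804)) (.node (.leaf 7261714) (.leaf 20253422))) (.node (.node (.leaf 12866620) (.leaf 27708352)) (.node (.leaf 34625970) (.leaf 34627757)))) (.node (.node (.node (.leaf 27410969) (.leaf 27712685)) (.node (.leaf 18976834) (.leaf 25316557))) (.node (.node (.leaf 32657198) (.leaf 3572518)) (.node (.leaf 30541937) (.leaf 16507234)))))))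

/-- A point of the block, part 453. -/
def ptCodePart453 : Janko1.Tree ℕ := (.node (.node (.node (.node (.node (.node (.leaf 32808222) (.leaf 28692817)) (.node (.leaf 16746718) (.leaf 13210720))) (.node (.node (.leaf 4953584) (.leaf 34392585)) (.node (.leaf 34393157) (.leaf 5675013)))) (.node (.node (.node (.leaf 30168532) (.leaf 5132580)) (.node (.leaf 35360498) (.leaf 15622401))) (.node (.node (.leaf 14142204) (.leaf 9705234)) (.node (.leaf 14142980) (.leaf 30430941))))) (.node (.node (.node (.node (.leaf 14206841) (.leaf 23429468)) (.node (.leaf 22386525) (.leaf 27712553))) (.node (.node (.leaf 34167554) (.leaf 19746026)) (.node (.leaf 26250677) (.leaf 24613982)))) (.node (.node (.node (.leaf 22905282) (.leaf 20026562)) (.node (.leaf 34395137) (.leaf 14309469))) (.node (.node (.leaf 2364137) (.leaf 22911384)) (.node (.leaf 17432949) (.leaf 34164170)))))) (.node (.node (.node (.node (.node (.leaf 2154674) (.leaf 17620772)) (.node (.leaf 106037) (.leaf 16094628))) (.node (.node (.leaf 6772900) (.leaf 30540149))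 (.node (.leaf 24268509) (.leaf 20795450)))) (.node (.node (.node (.leaf 1806910) (.leaf 13636981)) (.node (.leaf 20029356) (.leaf 34522626))) (.node (.node (.leaf 20811337) (.leaf 34526010)) (.node (.leaf 5152809) (.leaf 19746882))))) (.node (.node (.node (.node (.leaf 12862821) (.leaf 19423180)) (.node (.leaf 30966644) (.leaf 6276400))) (.node (.node (.leaf 27713148) (.leaf 32820428)) (.node (.leaf 30426093) (.leaf 11098042)))) (.node (.node (.node (.leaf 17946389) (.leaf 16466132)) (.node (.leaf 314374) (.leaf 19449320))) (.node (.node (.leaf 24592802) (.leaf 33541290)) (.node (.leaf 12209097) (.leaf 32969920)))))))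

/-- A point of the block, part 454. -/
def ptCodePart454 : Janko1.Tree ℕ := (.node (.node (.node (.node (.node (.node (.leaf 10821541) (.leaf 17618765)) (.node (.leaf 19456232) (.leaf 2430830))) (.node (.node (.leaf 16783721) (.leaf 7265970)) (.node (.leaf 20714694) (.leaf 15909829)))) (.node (.node (.node (.leaf 22908501) (.leaf 5145620)) (.node (.leaf 21159756) (.leaf 32279416))) (.node (.node (.leaf 28413074) (.leaf 8822249)) (.node (.leaf 2574168) (.leaf 28743085))))) (.node (.node (.node (.node (.leaf 23429542) (.leaf 16471126)) (.node (.leaf 20847076) (.leaf 30524682))) (.node (.node (.leaf 5474217) (.leaf 34527780)) (.node (.leaf 12850645) (.leaf 20021825)))) (.node (.node (.node (.leaf 16467945) (.leaf 27071584)) (.node (.leaf 25386978) (.leaf 6623074))) (.node (.node (.leaf 12866548) (.leaf 15308193)) (.node (.leaf 22790844) (.leaf 2359685)))))) (.node (.node (.node (.node (.node (.leaf 30971470) (.leaf 6573832)) (.node (.leaf 7717102) (.leaf 18109626))) (.node (.node (.leaf 25379568) (.leaf 20798453))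 (.node (.leaf 22192008) (.leaf 2148772)))) (.node (.node (.node (.leaf 7258524) (.leaf 26250730)) (.node (.leaf 26905916) (.leaf 28198300))) (.node (.node (.leaf 13206270) (.leaf 23415082)) (.node (.leaf 7996936) (.leaf 27055252))))) (.node (.node (.node (.node (.leaf 22338921) (.leaf 16783517)) (.node (.leaf 34165366) (.leaf 17437936))) (.node (.node (.leaf 12228970) (.leaf 8312754)) (.node (.leaf 11540313) (.leaf 6627152)))) (.node (.node (.node (.leaf 4948510) (.leaf 13210894)) (.node (.leaf 12312928) (.leaf 26870818))) (.node (.node (.leaf 19418134) (.leaf 311864)) (.node (.leaf 12129753) (.leaf 35182089)))))))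

/-- A point of the block, part 455. -/
def ptCodePart455 : Janko1.Tree ℕ := (.node (.node (.node (.node (.node (.node (.leaf 18975964) (.leaf 24286389)) (.node (.leaf 32801914) (.leaf 14866454))) (.node (.node (.leaf 28695053) (.leaf 27066380)) (.node (.leaf 7229869) (.leaf 28694788)))) (.node (.node (.node (.leaf 18843769) (.leaf 33689309)) (.node (.leaf 19385302) (.leaf 3020278))) (.node (.node (.leaf 22335108) (.leaf 23087064)) (.node (.leaf 17616440) (.leaf 8313882))))) (.node (.node (.node (.node (.leaf 2578686) (.leaf 7264642)) (.node (.leaf 8307149) (.leaf 16621398))) (.node (.node (.leaf 27068732) (.leaf 20811002)) (.node (.leaf 19417097) (.leaf 30541276)))) (.node (.node (.node (.leaf 17941936) (.leaf 5987253)) (.node (.leaf 35143829) (.leaf 26904778))) (.node (.node (.leaf 15912029) (.leaf 20257701)) (.node (.leaf 7226574) (.leaf 23088178)))))) (.node (.node (.node (.node (.node (.leaf 29351637) (.leaf 27052432)) (.node (.leaf 25387128) (.leaf 15308177))) (.node (.node (.leaf 20111282) (.leaf 30392681))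 (.node (.leaf 8816293) (.leaf 515393)))) (.node (.node (.node (.leaf 11785989) (.leaf 16747282)) (.node (.leaf 20814626) (.leaf 34524681))) (.node (.node (.leaf 30427952) (.leaf 32283474)) (.node (.leaf 12211369) (.leaf 26909206))))) (.node (.node (.node (.node (.leaf 2887933) (.leaf 32968146)) (.node (.leaf 32821405) (.leaf 32818508))) (.node (.node (.leaf 19451958) (.leaf 3021894)) (.node (.leaf 29875329) (.leaf 3574632)))) (.node (.node (.node (.leaf 6627230) (.leaf 17617738)) (.node (.leaf 27051776) (.leaf 27711512))) (.node (.node (.leaf 20792664) (.leaf 27352160)) (.node (.leaf 33690156) (.leaf 14207292)))))))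

/-- A point of the block, part 456. -/
def ptCodePart456 : Janko1.Tree ℕ := (.node (.node (.node (.node (.node (.node (.leaf 35129497) (.leaf 32284773)) (.node (.leaf 4948384) (.leaf 16503222))) (.node (.node (.leaf 16472552) (.leaf 10819281)) (.node (.leaf 5676217) (.leaf 11048832)))) (.node (.node (.node (.leaf 30491541) (.leaf 30903814)) (.node (.leaf 18388806) (.leaf 2432226))) (.node (.node (.leaf 20846882) (.leaf 14863837)) (.node (.leaf 25107661) (.leaf 35178598))))) (.node (.node (.node (.node (.leaf 11045860) (.leaf 26648802)) (.node (.leaf 27446938) (.leaf 35178769))) (.node (.node (.leaf 11100389) (.leaf 20847444)) (.node (.leaf 24268866) (.leaf 13451513)))) (.node (.node (.node (.leaf 10815760) (.leaf 2579618)) (.node (.leaf 20695362) (.leaf 15303686))) (.node (.node (.leaf 31081349) (.leaf 23088569)) (.node (.leaf 17943900) (.leaf 2429246)))))) (.node (.node (.node (.node (.node (.leaf 22339009) (.leaf 11540282)) (.node (.leaf 10077136) (.leaf 12847470))) (.node (.node (.leaf 16094378) (.leaf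 23682573)) (.node (.leaf 4460458) (.leaf 30394072)))) (.node (.node (.node (.leaf 32818700) (.leaf 3382793)) (.node (.leaf 29082732) (.leaf 12129129))) (.node (.node (.leaf 35130361) (.leaf 3577562)) (.node (.leaf 10815320) (.leaf 17438550))))) (.node (.node (.node (.node (.leaf 30493942) (.leaf 24268096)) (.node (.leaf 15565056) (.leaf 511794))) (.node (.node (.leaf 25104185) (.leaf 15306808)) (.node (.leaf 25313333) (.leaf 4458748)))) (.node (.node (.node (.leaf 15573069) (.leaf 30167433)) (.node (.leaf 30169628) (.leaf 25101494))) (.node (.node (.leaf 10076400) (.leaf 29840405)) (.node (.leaf 35147932) (.leaf 30166677)))))))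

/-- A point of the block, part 457. -/
def ptCodePart457 : Janko1.Tree ℕ := (.node (.node (.node (.node (.node (.node (.leaf 22190878) (.leaf 8315289)) (.node (.leaf 28689502) (.leaf 24597918))) (.node (.node (.leaf 33544886) (.leaf 32971056)) (.node (.leaf 35130285) (.leaf 18374697)))) (.node (.node (.node (.leaf 8822465) (.leaf 16519004)) (.node (.leaf 26640746) (.leaf 314468))) (.node (.node (.leaf 8820150) (.leaf 5674822)) (.node (.leaf 23282325) (.leaf 13932274))))) (.node (.node (.node (.node (.leaf 15565109) (.leaf 20696658)) (.node (.leaf 4949225) (.leaf 2433280))) (.node (.node (.leaf 14205694) (.leaf 30394437)) (.node (.leaf 32656846) (.leaf 12130022)))) (.node (.node (.node (.leaf 22907924) (.leaf 11049548)) (.node (.leaf 16097165) (.leaf 15914004))) (.node (.node (.leaf 12831880) (.leaf 15026030)) (.node (.leaf 2360644) (.leaf 33672080)))))) (.node (.node (.node (.node (.node (.leaf 16517781) (.leaf 27054476)) (.node (.leaf 31081640) (.leaf 2151348))) (.node (.node (.leaf 29869274) (.leaf 33690941))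 (.node (.leaf 319817) (.leaf 16293872)))) (.node (.node (.node (.leaf 19747068) (.leaf 30163288)) (.node (.leaf 6768201) (.leaf 32660248))) (.node (.node (.leaf 27444505) (.leaf 19750450)) (.node (.leaf 2363673) (.leaf 20711280))))) (.node (.node (.node (.node (.leaf 18187542) (.leaf 12834082)) (.node (.leaf 2573813) (.leaf 30400933))) (.node (.node (.leaf 30432694) (.leaf 8817990)) (.node (.leaf 14862784) (.leaf 28742168)))) (.node (.node (.node (.leaf 16471365) (.leaf 1186326)) (.node (.leaf 24598336) (.leaf 28416336))) (.node (.node (.leaf 12836780) (.leaf 15311106)) (.node (.leaf 27707097) (.leaf 20256402)))))))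

/-- A point of the block, part 458. -/
def ptCodePart458 : Janko1.Tree ℕ := (.node (.node (.node (.node (.node (.node (.leaf 30903118) (.leaf 14867788)) (.node (.leaf 12847454) (.leaf 8308832))) (.node (.node (.leaf 33670672) (.leaf 12305522)) (.node (.leaf 24986588) (.leaf 16472221)))) (.node (.node (.node (.leaf 16616758) (.leaf 15028370)) (.node (.leaf 32655546) (.leaf 13926756))) (.node (.node (.leaf 29345597) (.leaf 32411304)) (.node (.leaf 18110630) (.leaf 2577244))))) (.node (.node (.node (.node (.leaf 7227409) (.leaf 35358353)) (.node (.leaf 16504902) (.leaf 22728825))) (.node (.node (.leaf 32280485) (.leaf 32818250)) (.node (.leaf 12210106) (.leaf 27347193)))) (.node (.node (.node (.leaf 29089524) (.leaf 27709244)) (.node (.leaf 27477629) (.leaf 6279656))) (.node (.node (.leaf 1802410) (.leaf 32657632)) (.node (.leaf 4522829) (.leaf 24105484)))))) (.node (.node (.node (.node (.node (.leaf 15568313) (.leaf 13637032)) (.node (.leaf 9700782) (.leaf 9705178))) (.node (.node (.leaf 2152686) (.leaf 22569297))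 (.node (.leaf 4722085) (.leaf 22268801)))) (.node (.node (.node (.leaf 30906114) (.leaf 26646632)) (.node (.leaf 16746180) (.leaf 16782198))) (.node (.node (.leaf 22797452) (.leaf 35177762)) (.node (.leaf 29875730) (.leaf 7228896))))) (.node (.node (.node (.node (.leaf 16500317) (.leaf 24272034)) (.node (.leaf 2429552) (.leaf 7996666))) (.node (.node (.leaf 33670198) (.leaf 32607441)) (.node (.leaf 13059653) (.leaf 32542749)))) (.node (.node (.node (.leaf 34578620) (.leaf 7719420)) (.node (.leaf 1810405) (.leaf 34574316))) (.node (.node (.leaf 3015614) (.leaf 32606617)) (.node (.leaf 23088497) (.leaf 20699741)))))))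

/-- A point of the block, part 459. -/
def ptCodePart459 : Janko1.Tree ℕ := (.node (.node (.node (.node (.node (.node (.leaf 29875110) (.leaf 7230353)) (.node (.leaf 17618548) (.leaf 8001194))) (.node (.node (.leaf 6282650) (.leaf 22792982)) (.node (.leaf 6625542) (.leaf 15026649)))) (.node (.node (.node (.leaf 28203405) (.leaf 28626754)) (.node (.leaf 6577448) (.leaf 27351581))) (.node (.node (.leaf 34166977) (.leaf 1559354)) (.node (.leaf 22385937) (.leaf 13927193))))) (.node (.node (.node (.node (.leaf 12866418) (.leaf 9262833)) (.node (.leaf 32285060) (.leaf 18390741))) (.node (.node (.leaf 30427550) (.leaf 29872238)) (.node (.leaf 33670945) (.leaf 3383097)))) (.node (.node (.node (.leaf 1622737) (.leaf 5066202)) (.node (.leaf 26526464) (.leaf 11670198))) (.node (.node (.leaf 25363528) (.leaf 25368153)) (.node (.leaf 16702184) (.leaf 18403045)))))) (.node (.node (.node (.node (.node (.leaf 16276162) (.leaf 31934586)) (.node (.leaf 25370408) (.leaf 26580244))) (.node (.node (.leaf 16162470) (.leaf 20301600))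 (.node (.leaf 19140441) (.leaf 27513074)))) (.node (.node (.node (.leaf 9832430) (.leaf 25366162)) (.node (.leaf 2642397) (.leaf 28887462))) (.node (.node (.leaf 31936385) (.leaf 19630460)) (.node (.leaf 16947784) (.leaf 25364369))))) (.node (.node (.node (.node (.leaf 14438168) (.leaf 29712437)) (.node (.leaf 10328142) (.leaf 4284360))) (.node (.node (.leaf 3872722) (.leaf 18751742)) (.node (.leaf 10082130) (.leaf 32330154)))) (.node (.node (.node (.leaf 10816905) (.leaf 32327480)) (.node (.leaf 28885462) (.leaf 22794097))) (.node (.node (.leaf 4282085) (.leaf 10538716)) (.node (.leaf 32327861) (.leaf 16990536)))))))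

/-- A point of the block, part 460. -/
def ptCodePart460 : Janko1.Tree ℕ := (.node (.node (.node (.node (.node (.node (.leaf 25059029) (.leaf 16321014)) (.node (.leaf 33818281) (.leaf 10297377))) (.node (.node (.leaf 21349102) (.leaf 10027916)) (.node (.leaf 24675444) (.leaf 28138250)))) (.node (.node (.node (.leaf 11672097) (.leaf 1753681)) (.node (.leaf 5427385) (.leaf 15124277))) (.node (.node (.leaf 5447549) (.leaf 10033540)) (.node (.leaf 26037525) (.leaf 26609353))))) (.node (.node (.node (.node (.leaf 12960029) (.leaf 1459809)) (.node (.leaf 12966412) (.leaf 28838917))) (.node (.node (.leaf 30593784) (.leaf 754794)) (.node (.leaf 8544636) (.leaf 17285178)))) (.node (.node (.node (.leaf 20858553) (.leaf 25791634)) (.node (.leaf 28445709) (.leaf 33966696))) (.node (.node (.leaf 19794204) (.leaf 32245396)) (.node (.leaf 12731256) (.leaf 30689064)))))) (.node (.node (.node (.node (.node (.leaf 12305218) (.leaf 25363454)) (.node (.leaf 32920732) (.leaf 31247325))) (.node (.node (.leaf 31247341) (.leaf 29628788))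 (.node (.leaf 11145332) (.leaf 10360250)))) (.node (.node (.node (.leaf 20170760) (.leaf 29773253)) (.node (.leaf 23712237) (.leaf 3871854))) (.node (.node (.leaf 34429006) (.leaf 4923429)) (.node (.leaf 16831606) (.leaf 28991736))))) (.node (.node (.node (.node (.leaf 25365985) (.leaf 19498784)) (.node (.leaf 14306917) (.leaf 8669758))) (.node (.node (.leaf 5430229) (.leaf 19898402)) (.node (.leaf 32248101) (.leaf 22828481)))) (.node (.node (.node (.leaf 1622941) (.leaf 4113609)) (.node (.leaf 2706925) (.leaf 32918641))) (.node (.node (.leaf 15015624) (.leaf 9767305)) (.node (.leaf 19890886) (.leaf 21285529)))))))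

/-- A point of the block, part 461. -/
def ptCodePart461 : Janko1.Tree ℕ := (.node (.node (.node (.node (.node (.node (.leaf 21078157) (.leaf 32326313)) (.node (.leaf 12311746) (.leaf 25432769))) (.node (.node (.leaf 28942548) (.leaf 25430269)) (.node (.leaf 30384056) (.leaf 31643958)))) (.node (.node (.node (.leaf 4283094) (.leaf 28886153)) (.node (.leaf 24725598) (.leaf 29049081))) (.node (.node (.leaf 30688478) (.leaf 14371154)) (.node (.leaf 32327917) (.leaf 33937789))))) (.node (.node (.node (.node (.leaf 16813702) (.leaf 31577600)) (.node (.leaf 18399609) (.leaf 25056278))) (.node (.node (.leaf 17007196) (.leaf 1204040)) (.node (.leaf 14309058) (.leaf 19257146)))) (.node (.node (.node (.leaf 17286314) (.leaf 8081350)) (.node (.leaf 26035212) (.leaf 33971681))) (.node (.node (.leaf 34489780) (.leaf 35177428)) (.node (.leaf 25370680) (.leaf 21078342)))))) (.node (.node (.node (.node (.node (.leaf 18406765) (.leaf 28989792)) (.node (.leaf 33774784) (.leaf 32333850))) (.node (.node (.leaf 9836426) (.leaf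 2706178)) (.node (.leaf 11128577) (.leaf 16664064)))) (.node (.node (.node (.leaf 6102128) (.leaf 11882893)) (.node (.leaf 23715360) (.leaf 32212494))) (.node (.node (.leaf 20515544) (.leaf 26034484)) (.node (.leaf 22825588) (.leaf 24678340))))) (.node (.node (.node (.node (.leaf 27690353) (.leaf 18681798)) (.node (.leaf 31643198) (.leaf 24731516))) (.node (.node (.leaf 4064645) (.leaf 6103341)) (.node (.leaf 20863978) (.leaf 12962101)))) (.node (.node (.node (.leaf 29181650) (.leaf 25059726)) (.node (.leaf 19798144) (.leaf 21074188))) (.node (.node (.leaf 22581020) (.leaf 11146200)) (.node (.leaf 7116476) (.leaf 31249234)))))))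

/-- A point of the block, part 462. -/
def ptCodePart462 : Janko1.Tree ℕ := (.node (.node (.node (.node (.node (.node (.leaf 14442276) (.leaf 7837726)) (.node (.leaf 16990836) (.leaf 33591358))) (.node (.node (.leaf 28840974) (.leaf 755393)) (.node (.leaf 20306806) (.leaf 31296442)))) (.node (.node (.node (.leaf 1626124) (.leaf 28839541)) (.node (.leaf 7444036) (.leaf 32178600))) (.node (.node (.leaf 8083909) (.leaf 15012537)) (.node (.leaf 29625272) (.leaf 21482602))))) (.node (.node (.node (.node (.leaf 20176918) (.leaf 14765176)) (.node (.leaf 22776305) (.leaf 29951330))) (.node (.node (.leaf 33590972) (.leaf 33512154)) (.node (.leaf 6082596) (.leaf 15128808)))) (.node (.node (.node (.leaf 28935810) (.leaf 29448578)) (.node (.leaf 14946970) (.leaf 34424521))) (.node (.node (.leaf 23694829) (.leaf 15815144)) (.node (.leaf 3609161) (.leaf 2839324)))))) (.node (.node (.node (.node (.node (.leaf 6212813) (.leaf 33589620)) (.node (.leaf 19138796) (.leaf 34493377))) (.node (.node (.leaf 6214520) (.leaf 16998121))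 (.node (.leaf 15014677) (.leaf 19795021)))) (.node (.node (.node (.leaf 11673330) (.leaf 23634280)) (.node (.leaf 16949462) (.leaf 13786337))) (.node (.node (.leaf 32916814) (.leaf 10362161)) (.node (.leaf 22824826) (.leaf 10328900))))) (.node (.node (.node (.node (.leaf 31229428) (.leaf 33636621)) (.node (.leaf 31579084) (.leaf 26395638))) (.node (.node (.leaf 14012873) (.leaf 13175350)) (.node (.leaf 10819452) (.leaf 31229360)))) (.node (.node (.node (.leaf 29180870) (.leaf 1630313)) (.node (.leaf 24731220) (.leaf 10292936))) (.node (.node (.leaf 24681250) (.leaf 23628181)) (.node (.leaf 15009348) (.leaf 1462745)))))))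

/-- A point of the block, part 463. -/
def ptCodePart463 : Janko1.Tree ℕ := (.node (.node (.node (.node (.node (.node (.leaf 22580869) (.leaf 26398741)) (.node (.leaf 30987170) (.leaf 6604829))) (.node (.node (.leaf 16159518) (.leaf 6898565)) (.node (.leaf 34495890) (.leaf 17074236)))) (.node (.node (.node (.leaf 17074532) (.leaf 4922084)) (.node (.leaf 21268720) (.leaf 30709484))) (.node (.node (.leaf 17072318) (.leaf 6095140)) (.node (.leaf 18680821) (.leaf 28987821))))) (.node (.node (.node (.node (.leaf 19503736) (.leaf 11884289)) (.node (.leaf 14434633) (.leaf 20172082))) (.node (.node (.leaf 19307612) (.leaf 16702096)) (.node (.leaf 21075837) (.leaf 6080388)))) (.node (.node (.node (.leaf 21075605) (.leaf 17291177)) (.node (.leaf 5426104) (.leaf 10027502))) (.node (.node (.leaf 32211337) (.leaf 14948950)) (.node (.leaf 1753414) (.leaf 34426546)))))) (.node (.node (.node (.node (.node (.leaf 10293740) (.leaf 28988052)) (.node (.leaf 25632553) (.leaf 29442440))) (.node (.node (.leaf 30695386) (.leaf 29954652))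 (.node (.leaf 10535828) (.leaf 29950954)))) (.node (.node (.node (.leaf 14014769) (.leaf 18276624)) (.node (.leaf 28836698) (.leaf 9766210))) (.node (.node (.leaf 33507148) (.leaf 4922074)) (.node (.leaf 29679562) (.leaf 2726468))))) (.node (.node (.node (.node (.leaf 33595669) (.leaf 31937918)) (.node (.leaf 20514262) (.leaf 16814008))) (.node (.node (.leaf 28446420) (.leaf 34540333)) (.node (.leaf 8806497) (.leaf 21287470)))) (.node (.node (.node (.leaf 14942872) (.leaf 31230032)) (.node (.leaf 7117936) (.leaf 1757620))) (.node (.node (.leaf 2837750) (.leaf 5444145)) (.node (.leaf 26499440) (.leaf 1626437)))))))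

/-- A point of the block, part 464. -/
def ptCodePart464 : Janko1.Tree ℕ := (.node (.node (.node (.node (.node (.node (.leaf 6084808) (.leaf 19257845)) (.node (.leaf 30594852) (.leaf 4279012))) (.node (.node (.leaf 7439958) (.leaf 29055961)) (.node (.leaf 20515078) (.leaf 12312392)))) (.node (.node (.node (.leaf 16668952) (.leaf 21349656)) (.node (.leaf 31855534) (.leaf 16998265))) (.node (.node (.leaf 16702385) (.leaf 22829521)) (.node (.leaf 2724497) (.leaf 2710049))))) (.node (.node (.node (.node (.leaf 32919917) (.leaf 34574109)) (.node (.leaf 8085250) (.leaf 31857062))) (.node (.node (.leaf 18273293) (.leaf 32251920)) (.node (.leaf 30382997) (.leaf 8538648)))) (.node (.node (.node (.leaf 24249160) (.leaf 17007129)) (.node (.leaf 7916685) (.leaf 21273752))) (.node (.node (.leaf 30711633) (.leaf 19793812)) (.node (.leaf 29958372) (.leaf 6209670)))))) (.node (.node (.node (.node (.node (.leaf 1196932) (.leaf 20667596)) (.node (.leaf 26613132) (.leaf 24985913))) (.node (.node (.leaf 34136365) (.leaf 7445737))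 (.node (.leaf 24993105) (.leaf 9999805)))) (.node (.node (.node (.leaf 6078994) (.leaf 26611677)) (.node (.leaf 17076013) (.leaf 28103524))) (.node (.node (.leaf 7919193) (.leaf 7445829)) (.node (.leaf 1755642) (.leaf 18276756))))) (.node (.node (.node (.node (.leaf 30985354) (.leaf 24986200)) (.node (.leaf 27514680) (.leaf 15130501))) (.node (.node (.leaf 18748336) (.leaf 16326205)) (.node (.leaf 10029065) (.leaf 14763374)))) (.node (.node (.node (.leaf 29677718) (.leaf 7921141)) (.node (.leaf 5447280) (.leaf 10082872))) (.node (.node (.leaf 19303862) (.leaf 10000654)) (.node (.leaf 30706020) (.leaf 33591129)))))))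

/-- A point of the block, part 465. -/
def ptCodePart465 : Janko1.Tree ℕ := (.node (.node (.node (.node (.node (.node (.leaf 30377014) (.leaf 29775509)) (.node (.leaf 22795336) (.leaf 28941274))) (.node (.node (.leaf 29957110) (.leaf 31154481)) (.node (.leaf 10820282) (.leaf 10819340)))) (.node (.node (.node (.leaf 17712664) (.leaf 28296529)) (.node (.leaf 17076297) (.leaf 28025157))) (.node (.node (.leaf 8668497) (.leaf 7921022)) (.node (.leaf 25626686) (.leaf 33343842))))) (.node (.node (.node (.node (.leaf 16663490) (.leaf 31645433)) (.node (.leaf 19894037) (.leaf 21483205))) (.node (.node (.leaf 14948798) (.leaf 4282093)) (.node (.leaf 3605508) (.leaf 4113621)))) (.node (.node (.node (.leaf 12458878) (.leaf 12456700)) (.node (.leaf 34575269) (.leaf 30706944))) (.node (.node (.leaf 19630525) (.leaf 32915468)) (.node (.leaf 27508910) (.leaf 29952798)))))) (.node (.node (.node (.node (.node (.leaf 19205608) (.leaf 608)) (.node (.leaf 27509244) (.leaf 29624621))) (.node (.node (.leaf 1597018) (.leaf 10357008))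 (.node (.leaf 19792857) (.leaf 1589737)))) (.node (.node (.node (.leaf 5068860) (.leaf 26494669)) (.node (.leaf 10543181) (.leaf 24991778))) (.node (.node (.leaf 31295537) (.leaf 23698085)) (.node (.leaf 27689021) (.leaf 32938636))))) (.node (.node (.node (.node (.leaf 32215088) (.leaf 7443928)) (.node (.leaf 15130613) (.leaf 13180282))) (.node (.node (.leaf 31297097) (.leaf 3607624)) (.node (.leaf 33589126) (.leaf 19203840)))) (.node (.node (.node (.leaf 19891978) (.leaf 16664712)) (.node (.leaf 32049166) (.leaf 29675913))) (.node (.node (.leaf 22798517) (.leaf 33937870)) (.node (.leaf 10356248) (.leaf 31580358)))))))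

/-- A point of the block, part 466. -/
def ptCodePart466 : Janko1.Tree ℕ := (.node (.node (.node (.node (.node (.node (.leaf 1589805) (.leaf 27516428)) (.node (.leaf 32935532) (.leaf 13174328))) (.node (.node (.leaf 26399728) (.leaf 30589913)) (.node (.leaf 759405) (.leaf 2643144)))) (.node (.node (.node (.leaf 6903184) (.leaf 33824656)) (.node (.leaf 6609281) (.leaf 32218866))) (.node (.node (.leaf 15013213) (.leaf 21356413)) (.node (.leaf 25532421) (.leaf 10292242))))) (.node (.node (.node (.node (.leaf 32048648) (.leaf 16946364)) (.node (.leaf 12730996) (.leaf 7440286))) (.node (.node (.leaf 7886956) (.leaf 16947456)) (.node (.leaf 23692468) (.leaf 8080665)))) (.node (.node (.node (.leaf 29678864) (.leaf 22774742)) (.node (.leaf 29774634) (.leaf 19896921))) (.node (.node (.leaf 31935609) (.leaf 31939708)) (.node (.leaf 16162077) (.leaf 1590558)))))) (.node (.node (.node (.node (.node (.leaf 31933508) (.leaf 20517154)) (.node (.leaf 25792960) (.leaf 14009268))) (.node (.node (.leaf 2072970) (.leaf 16833062))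 (.node (.leaf 14766742) (.leaf 26526974)))) (.node (.node (.node (.leaf 17716046) (.leaf 12994065)) (.node (.leaf 2643689) (.leaf 6095022))) (.node (.node (.leaf 26532288) (.leaf 8675648)) (.node (.leaf 25534357) (.leaf 32234501))))) (.node (.node (.node (.node (.leaf 18269474) (.leaf 28442840)) (.node (.leaf 13779281) (.leaf 13180942))) (.node (.node (.leaf 14947816) (.leaf 32049908)) (.node (.leaf 10032120) (.leaf 24250278)))) (.node (.node (.node (.leaf 31301910) (.leaf 8542130)) (.node (.leaf 14306770) (.leaf 5069321))) (.node (.node (.leaf 29778189) (.leaf 17712254)) (.node (.leaf 19140529) (.leaf 12731837)))))))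

/-- A point of the block, part 467. -/
def ptCodePart467 : Janko1.Tree ℕ := (.node (.node (.node (.node (.node (.node (.leaf 16665665) (.leaf 10362110)) (.node (.leaf 24249957) (.leaf 26038918))) (.node (.node (.leaf 8805549) (.leaf 30985025)) (.node (.leaf 2640190) (.leaf 3607781)))) (.node (.node (.node (.leaf 19307176) (.leaf 28989365)) (.node (.leaf 34538377) (.leaf 24680350))) (.node (.node (.leaf 21071108) (.leaf 33344244)) (.node (.leaf 33775414) (.leaf 11141342))))) (.node (.node (.node (.node (.leaf 33770736) (.leaf 28101824)) (.node (.leaf 762213) (.leaf 28303260))) (.node (.node (.leaf 24681033) (.leaf 14437578)) (.node (.leaf 14946354) (.leaf 30594802)))) (.node (.node (.node (.leaf 237) (.leaf 30594178)) (.node (.leaf 27512508) (.leaf 28301978))) (.node (.node (.leaf 10327166) (.leaf 33513657)) (.node (.leaf 4070620) (.leaf 28892716)))))) (.node (.node (.node (.node (.node (.leaf 9765636) (.leaf 12458382)) (.node (.leaf 10539708) (.leaf 8804262))) (.node (.node (.leaf 26533804) (.leaf 24990210))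 (.node (.leaf 10326190) (.leaf 28942573)))) (.node (.node (.node (.leaf 32181432) (.leaf 21285338)) (.node (.leaf 7887308) (.leaf 20303209))) (.node (.node (.leaf 32235196) (.leaf 33343134)) (.node (.leaf 19156077) (.leaf 7884358))))) (.node (.node (.node (.node (.leaf 15814720) (.leaf 6898828)) (.node (.leaf 28132010) (.leaf 4280786))) (.node (.node (.leaf 18683324) (.leaf 34135325)) (.node (.leaf 34135505) (.leaf 30705548)))) (.node (.node (.node (.leaf 27515165) (.leaf 6078598)) (.node (.leaf 28020469) (.leaf 28019445))) (.node (.node (.leaf 14010464) (.leaf 25791834)) (.node (.leaf 29627240) (.leaf 16274446)))))))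

/-- A point of the block, part 468. -/
def ptCodePart468 : Janko1.Tree ℕ := (.node (.node (.node (.node (.node (.node (.leaf 28841109) (.leaf 5427565)) (.node (.leaf 18680470) (.leaf 16156857))) (.node (.node (.leaf 14437966) (.leaf 21287205)) (.node (.leaf 26034732) (.leaf 20858397)))) (.node (.node (.node (.leaf 26532076) (.leaf 11128544)) (.node (.leaf 16155272) (.leaf 6080996))) (.node (.node (.leaf 35181420) (.leaf 18400782)) (.node (.leaf 23632737) (.leaf 18401304))))) (.node (.node (.node (.node (.leaf 21483752) (.leaf 20169305)) (.node (.leaf 26041613) (.leaf 8674022))) (.node (.node (.leaf 14371102) (.leaf 26613598)) (.node (.leaf 7444) (.leaf 13928625)))) (.node (.node (.node (.leaf 25533057) (.leaf 10001021)) (.node (.leaf 34574757) (.leaf 17009793))) (.node (.node (.leaf 33967328) (.leaf 16817330)) (.node (.leaf 11146312) (.leaf 21348801)))))) (.node (.node (.node (.node (.node (.leaf 31858476) (.leaf 5431714)) (.node (.leaf 16269609) (.leaf 2841906))) (.node (.node (.leaf 23632845) (.leaf 2072508))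 (.node (.leaf 14013761) (.leaf 7836241)))) (.node (.node (.node (.leaf 29958532) (.leaf 11125209)) (.node (.leaf 15013688) (.leaf 28888352))) (.node (.node (.leaf 28941224) (.leaf 35180218)) (.node (.leaf 19634902) (.leaf 16318918))))) (.node (.node (.node (.node (.leaf 28443445) (.leaf 8673893)) (.node (.leaf 7114577) (.leaf 33638481))) (.node (.node (.leaf 12733632) (.leaf 7833029)) (.node (.leaf 6605073) (.leaf 33970752)))) (.node (.node (.node (.leaf 19209816) (.leaf 32233596)) (.node (.leaf 5441016) (.leaf 28101368))) (.node (.node (.leaf 30379885) (.leaf 26611112)) (.node (.leaf 21271102) (.leaf 14434985)))))))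

/-- A point of the block, part 469. -/
def ptCodePart469 : Janko1.Tree ℕ := (.node (.node (.node (.node (.node (.node (.leaf 19307853) (.leaf 13933893)) (.node (.leaf 28842502) (.leaf 28892142))) (.node (.node (.leaf 8540280) (.leaf 31853421)) (.node (.leaf 26088066) (.leaf 12734377)))) (.node (.node (.node (.leaf 10354844) (.leaf 14369794)) (.node (.leaf 9997728) (.leaf 5425161))) (.node (.node (.leaf 7885017) (.leaf 33936796)) (.node (.leaf 6900009) (.leaf 31149537))))) (.node (.node (.node (.node (.leaf 31579180) (.leaf 26397341)) (.node (.leaf 31572805) (.leaf 31152417))) (.node (.node (.leaf 23696269) (.leaf 7837412)) (.node (.leaf 31573674) (.leaf 11142537)))) (.node (.node (.node (.leaf 32918006) (.leaf 12735310)) (.node (.leaf 12738922) (.leaf 16668808))) (.node (.node (.leaf 15016190) (.leaf 7114554)) (.node (.leaf 3873944) (.leaf 1200544)))))) (.node (.node (.node (.node (.node (.leaf 32248469) (.leaf 31645118)) (.node (.leaf 19259278) (.leaf 22780982))) (.node (.node (.leaf 30377909) (.leaf 19890489))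 (.node (.leaf 22823333) (.leaf 13173802)))) (.node (.node (.node (.leaf 32243768) (.leaf 1757180)) (.node (.leaf 25052894) (.leaf 34544982))) (.node (.node (.leaf 2720418) (.leaf 16832653)) (.node (.leaf 31299465) (.leaf 4261058))))) (.node (.node (.node (.node (.leaf 29627908) (.leaf 9836890)) (.node (.leaf 26581212) (.leaf 13000129))) (.node (.node (.leaf 16990705) (.leaf 19137292)) (.node (.leaf 29760701) (.leaf 16941348)))) (.node (.node (.node (.leaf 16670001) (.leaf 31228509)) (.node (.leaf 28101388) (.leaf 4262458))) (.node (.node (.leaf 33823237) (.leaf 31249378)) (.node (.leaf 2064742) (.leaf 26493498)))))))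

/-- A point of the block, part 470. -/
def ptCodePart470 : Janko1.Tree ℕ := (.node (.node (.node (.node (.node (.node (.leaf 34430873) (.leaf 18749973)) (.node (.leaf 28135060) (.leaf 21284965))) (.node (.node (.leaf 35179190) (.leaf 12306269)) (.node (.leaf 7914478) (.leaf 1521)))) (.node (.node (.node (.leaf 9765902) (.leaf 6604248)) (.node (.leaf 33510556) (.leaf 4279673))) (.node (.node (.leaf 6084585) (.leaf 25527996)) (.node (.leaf 16326584) (.leaf 31299329))))) (.node (.node (.node (.node (.leaf 29183940) (.leaf 34545746)) (.node (.leaf 25054804) (.leaf 29056097))) (.node (.node (.leaf 1758870) (.leaf 17077080)) (.node (.leaf 755749) (.leaf 34578609)))) (.node (.node (.node (.leaf 2707441) (.leaf 20668001)) (.node (.leaf 14371982) (.leaf 27696377))) (.node (.node (.leaf 9999496) (.leaf 26580984)) (.node (.leaf 23693393) (.leaf 18276780)))))) (.node (.node (.node (.node (.node (.leaf 15129197) (.leaf 28134796)) (.node (.leaf 4068001) (.leaf 10536550))) (.node (.node (.leaf 21272058) (.leaf 4923653))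 (.node (.leaf 8077662) (.leaf 34578681)))) (.node (.node (.node (.leaf 17291368) (.leaf 29050102)) (.node (.leaf 10028041) (.leaf 33824942))) (.node (.node (.leaf 21273268) (.leaf 1758308)) (.node (.leaf 33938293) (.leaf 14376826))))) (.node (.node (.node (.node (.leaf 33931570) (.leaf 30988264)) (.node (.leaf 19255350) (.leaf 14947932))) (.node (.node (.leaf 16810968) (.leaf 12458189)) (.node (.leaf 4266029) (.leaf 1198237)))) (.node (.node (.node (.leaf 29445026) (.leaf 14434400)) (.node (.leaf 29758540) (.leaf 35182480))) (.node (.node (.leaf 32215598) (.leaf 12967157)) (.node (.leaf 8544393) (.leaf 4067894)))))))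

/-- A point of the block, part 471. -/
def ptCodePart471 : Janko1.Tree ℕ := (.node (.node (.node (.node (.node (.node (.leaf 2722544) (.leaf 14949484)) (.node (.leaf 19156542) (.leaf 19798965))) (.node (.node (.leaf 2638613) (.leaf 17719517)) (.node (.leaf 16942476) (.leaf 7887642)))) (.node (.node (.node (.leaf 34431218) (.leaf 28941256)) (.node (.leaf 31645520) (.leaf 34136470))) (.node (.node (.leaf 11128909) (.leaf 19630666)) (.node (.leaf 32186208) (.leaf 10819464))))) (.node (.node (.node (.node (.leaf 1460653) (.leaf 19252428)) (.node (.leaf 22581404) (.leaf 7405))) (.node (.node (.leaf 33771806) (.leaf 12997321)) (.node (.leaf 21270946) (.leaf 31149342)))) (.node (.node (.node (.leaf 29754229) (.leaf 28446624)) (.node (.leaf 30704977) (.leaf 10361160))) (.node (.node (.leaf 1465868) (.leaf 26083734)) (.node (.leaf 22823392) (.leaf 16993056)))))) (.node (.node (.node (.node (.node (.leaf 23631394) (.leaf 12734973)) (.node (.leaf 7116248) (.leaf 22825657))) (.node (.node (.leaf 33642722) (.leaf 17292872))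 (.node (.leaf 12308429) (.leaf 22791728)))) (.node (.node (.node (.leaf 21355306) (.leaf 11149298)) (.node (.leaf 18745909) (.leaf 19159620))) (.node (.node (.leaf 1629020) (.leaf 14763806)) (.node (.leaf 17080436) (.leaf 20173640))))) (.node (.node (.node (.node (.leaf 29450364) (.leaf 21290906)) (.node (.leaf 16700440) (.leaf 31574616))) (.node (.node (.leaf 7835772) (.leaf 30379962)) (.node (.leaf 28941157) (.leaf 31252254)))) (.node (.node (.node (.leaf 13785201) (.leaf 33644486)) (.node (.leaf 33821974) (.leaf 32214666))) (.node (.node (.leaf 28020633) (.leaf 30692797)) (.node (.leaf 17712946) (.leaf 5447429)))))))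

/-- A point of the block, part 472. -/
def ptCodePart472 : Janko1.Tree ℕ := (.node (.node (.node (.node (.node (.node (.leaf 2642453) (.leaf 1462476)) (.node (.leaf 12999176) (.leaf 20513332))) (.node (.node (.leaf 27689100) (.leaf 6209756)) (.node (.leaf 12961513) (.leaf 26500202)))) (.node (.node (.node (.leaf 2710909) (.leaf 28301424)) (.node (.leaf 25429426) (.leaf 24677005))) (.node (.node (.leaf 16160042) (.leaf 1592784)) (.node (.leaf 21273926) (.leaf 28991857))))) (.node (.node (.node (.node (.leaf 7119085) (.leaf 1199216)) (.node (.leaf 29754857) (.leaf 31232276))) (.node (.node (.leaf 9766722) (.leaf 27695506)) (.node (.leaf 32052856) (.leaf 31940689)))) (.node (.node (.node (.leaf 19308265) (.leaf 31300258)) (.node (.leaf 6079921) (.leaf 25434386))) (.node (.node (.leaf 17287822) (.leaf 11671196)) (.node (.leaf 16274909) (.leaf 33774800)))))) (.node (.node (.node (.node (.node (.leaf 16162430) (.leaf 19301866)) (.node (.leaf 33638201) (.leaf 16828796))) (.node (.node (.leaf 6608014) (.leaf 19890497))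 (.node (.leaf 11669360) (.leaf 4113844)))) (.node (.node (.node (.leaf 26529926) (.leaf 33970049)) (.node (.leaf 2727786) (.leaf 18407516))) (.node (.node (.leaf 26496009) (.leaf 16942805)) (.node (.leaf 29759120) (.leaf 17014588))))) (.node (.node (.node (.node (.leaf 33966384) (.leaf 31642992)) (.node (.leaf 5068734) (.leaf 27690069))) (.node (.node (.leaf 32918592) (.leaf 20863690)) (.node (.leaf 26494942) (.leaf 20667785)))) (.node (.node (.node (.leaf 9831992) (.leaf 21485250)) (.node (.leaf 18406469) (.leaf 15130344))) (.node (.node (.leaf 2836546) (.leaf 33505554)) (.node (.leaf 19159780) (.leaf 34495081)))))))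

/-- A point of the block, part 473. -/
def ptCodePart473 : Janko1.Tree ℕ := (.node (.node (.node (.node (.node (.node (.leaf 25629736) (.leaf 1196477)) (.node (.leaf 33934230) (.leaf 4116802))) (.node (.node (.leaf 20864693) (.leaf 5447069)) (.node (.leaf 10002216) (.leaf 33770189)))) (.node (.node (.node (.leaf 32332752) (.leaf 28990716)) (.node (.leaf 19302053) (.leaf 29709513))) (.node (.node (.leaf 28986149) (.leaf 26581274)) (.node (.leaf 26614601) (.leaf 4114034))))) (.node (.node (.node (.node (.leaf 17011748) (.leaf 29671769)) (.node (.leaf 16698230) (.leaf 29051685))) (.node (.node (.leaf 21481552) (.leaf 22578970)) (.node (.leaf 25434925) (.leaf 28104262)))) (.node (.node (.node (.leaf 21274544) (.leaf 25629876)) (.node (.leaf 22777548) (.leaf 4265513))) (.node (.node (.leaf 30689053) (.leaf 22782354)) (.node (.leaf 21485173) (.leaf 33344656)))))) (.node (.node (.node (.node (.node (.leaf 9835821) (.leaf 6100033)) (.node (.leaf 25433397) (.leaf 21289296))) (.node (.node (.leaf 21355870) (.leaf 13177300))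 (.node (.leaf 32216265) (.leaf 21485170)))) (.node (.node (.node (.leaf 28295700) (.leaf 11125494)) (.node (.leaf 28301202) (.leaf 22775481))) (.node (.node (.leaf 2706529) (.leaf 10361960)) (.node (.leaf 2294) (.leaf 32216856))))) (.node (.node (.node (.node (.leaf 8084630) (.leaf 29629177)) (.node (.leaf 31851673) (.leaf 26401760))) (.node (.node (.leaf 6606017) (.leaf 29052834)) (.node (.leaf 7921402) (.leaf 29445378)))) (.node (.node (.node (.leaf 29954129) (.leaf 11673766)) (.node (.leaf 20859040) (.leaf 13934897))) (.node (.node (.leaf 6902637) (.leaf 25051493)) (.node (.leaf 22780252) (.leaf 30709592)))))))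

/-- A point of the block, part 474. -/
def ptCodePart474 : Janko1.Tree ℕ := (.node (.node (.node (.node (.node (.node (.leaf 5065464) (.leaf 24681758)) (.node (.leaf 4264810) (.leaf 30694441))) (.node (.node (.leaf 34429722) (.leaf 16701602)) (.node (.leaf 23694777) (.leaf 11145229)))) (.node (.node (.node (.leaf 19504708) (.leaf 32235921)) (.node (.leaf 34543848) (.leaf 9832786))) (.node (.node (.leaf 13784388) (.leaf 7886696)) (.node (.leaf 10077477) (.leaf 29708900))))) (.node (.node (.node (.node (.leaf 16827885) (.leaf 5428493)) (.node (.leaf 13779432) (.leaf 7887152))) (.node (.node (.leaf 21351634) (.leaf 32055446)) (.node (.leaf 10537720) (.leaf 33770941)))) (.node (.node (.node (.leaf 31227924) (.leaf 5427069)) (.node (.leaf 20301116) (.leaf 29628564))) (.node (.node (.leaf 14376134) (.leaf 26090741)) (.node (.leaf 34429756) (.leaf 20513628)))))) (.node (.node (.node (.node (.node (.leaf 4278048) (.leaf 28442948)) (.node (.leaf 18751056) (.leaf 18747032))) (.node (.node (.leaf 27696308) (.leaf 30382448))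 (.node (.leaf 23693246) (.leaf 12996474)))) (.node (.node (.node (.leaf 2070782) (.leaf 18678900)) (.node (.leaf 20306048) (.leaf 2834597))) (.node (.node (.leaf 1756165) (.leaf 25428084)) (.node (.leaf 34540497) (.leaf 13176333))))) (.node (.node (.node (.node (.leaf 7439993) (.leaf 33638237)) (.node (.leaf 1592117) (.leaf 16827266))) (.node (.node (.leaf 30590906) (.leaf 10081025)) (.node (.leaf 21283514) (.leaf 16813065)))) (.node (.node (.node (.leaf 29753714) (.leaf 26610725)) (.node (.leaf 32938254) (.leaf 16670188))) (.node (.node (.leaf 29188126) (.leaf 33638677)) (.node (.leaf 8800418) (.leaf 10536973)))))))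

/-- A point of the block, part 475. -/
def ptCodePart475 : Janko1.Tree ℕ := (.node (.node (.node (.node (.node (.node (.leaf 33342440) (.leaf 16816982)) (.node (.leaf 29711461) (.leaf 20515308))) (.node (.node (.leaf 34129182) (.leaf 19504465)) (.node (.leaf 2726262) (.leaf 12453364)))) (.node (.node (.node (.leaf 16945896) (.leaf 32052037)) (.node (.leaf 33772858) (.leaf 10322453))) (.node (.node (.leaf 19894842) (.leaf 28136864)) (.node (.leaf 6096494) (.leaf 33343580))))) (.node (.node (.node (.node (.leaf 22830393) (.leaf 29054206)) (.node (.leaf 34538212) (.leaf 31150298))) (.node (.node (.leaf 4065837) (.leaf 4920497)) (.node (.leaf 7884832) (.leaf 18749885)))) (.node (.node (.node (.leaf 34135602) (.leaf 20172086)) (.node (.leaf 17714025) (.leaf 26087026))) (.node (.node (.leaf 34134676) (.leaf 26088666)) (.node (.leaf 29704773) (.leaf 19633436)))))) (.node (.node (.node (.node (.node (.leaf 24725218) (.leaf 14305750)) (.node (.leaf 19156156) (.leaf 12305230))) (.node (.node (.leaf 30384146) (.leaf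 10328298)) (.node (.leaf 28131437) (.leaf 28106077)))) (.node (.node (.node (.leaf 31233626) (.leaf 29771672)) (.node (.leaf 22795914) (.leaf 31146408))) (.node (.node (.leaf 4063528) (.leaf 1464498)) (.node (.leaf 32919461) (.leaf 18747682))))) (.node (.node (.node (.node (.leaf 12996360) (.leaf 13781441)) (.node (.leaf 29184708) (.leaf 4063316))) (.node (.node (.leaf 10077680) (.leaf 14373085)) (.node (.leaf 28446046) (.leaf 18270642)))) (.node (.node (.node (.leaf 19795076) (.leaf 29711997)) (.node (.leaf 2070824) (.leaf 16326985))) (.node (.node (.leaf 29706388) (.leaf 19139761)) (.node (.leaf 7916337) (.leaf 3605048)))))))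

/-- A point of the block, part 476. -/
def ptCodePart476 : Janko1.Tree ℕ := (.node (.node (.node (.node (.node (.node (.leaf 29776901) (.leaf 3605560)) (.node (.leaf 4114416) (.leaf 11666726))) (.node (.node (.leaf 11881941) (.leaf 32326030)) (.node (.leaf 25627668) (.leaf 26580552)))) (.node (.node (.node (.leaf 10294064) (.leaf 32235540)) (.node (.leaf 13934149) (.leaf 19155181))) (.node (.node (.leaf 20858118) (.leaf 31146660)) (.node (.leaf 24985937) (.leaf 33821886))))) (.node (.node (.node (.node (.leaf 9999026) (.leaf 25624737)) (.node (.leaf 14008838) (.leaf 17006834))) (.node (.node (.leaf 33824344) (.leaf 14309281)) (.node (.leaf 13934905) (.leaf 25528461)))) (.node (.node (.node (.leaf 29236748) (.leaf 31854829)) (.node (.leaf 20662770) (.leaf 19155036))) (.node (.node (.leaf 33970600) (.leaf 25795116)) (.node (.leaf 8675320) (.leaf 16277073)))))) (.node (.node (.node (.node (.node (.leaf 19140932) (.leaf 5064649)) (.node (.leaf 8803873) (.leaf 9995614))) (.node (.node (.leaf 22790276) (.leaf 29444906))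 (.node (.leaf 28099748) (.leaf 4260736)))) (.node (.node (.node (.leaf 29231949) (.leaf 2839424)) (.node (.leaf 14303436) (.leaf 32182168))) (.node (.node (.leaf 29446565) (.leaf 11884508)) (.node (.leaf 24988829) (.leaf 34577017))))) (.node (.node (.node (.node (.leaf 16828002) (.leaf 24256460)) (.node (.leaf 29678209) (.leaf 28295616))) (.node (.node (.leaf 12960185) (.leaf 19141089)) (.node (.leaf 16320577) (.leaf 23712074)))) (.node (.node (.node (.leaf 25632286) (.leaf 26086540)) (.node (.leaf 6210338) (.leaf 29234166))) (.node (.node (.leaf 7837840) (.leaf 4725)) (.node (.leaf 18275714) (.leaf 24729386)))))))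

/-- A point of the block, part 477. -/
def ptCodePart477 : Janko1.Tree ℕ := (.node (.node (.node (.node (.node (.node (.leaf 24724222) (.leaf 15008365)) (.node (.leaf 23710006) (.leaf 9835480))) (.node (.node (.leaf 15124508) (.leaf 19204969)) (.node (.leaf 26526537) (.leaf 18684350)))) (.node (.node (.node (.leaf 23633026) (.leaf 33939669)) (.node (.leaf 30986101) (.leaf 25534145))) (.node (.node (.leaf 7118385) (.leaf 23628856)) (.node (.leaf 33639989) (.leaf 25058592))))) (.node (.node (.node (.node (.leaf 10819336) (.leaf 23710085)) (.node (.leaf 23695204) (.leaf 21356614))) (.node (.node (.leaf 24253509) (.leaf 5066612)) (.node (.leaf 27510162) (.leaf 28022258)))) (.node (.node (.node (.leaf 10292102) (.leaf 6214076)) (.node (.leaf 8544569) (.leaf 19203261))) (.node (.node (.leaf 32178340) (.leaf 2707860)) (.node (.leaf 17291528) (.leaf 31249017)))))) (.node (.node (.node (.node (.node (.leaf 8543546) (.leaf 16695469)) (.node (.leaf 11885229) (.leaf 22580665))) (.node (.node (.leaf 30990448) (.leaf 28938268))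 (.node (.leaf 12998661) (.leaf 26494194)))) (.node (.node (.node (.leaf 34573381) (.leaf 24726182)) (.node (.leaf 25527822) (.leaf 33345029))) (.node (.node (.leaf 19259385) (.leaf 32938816)) (.node (.leaf 19139189) (.leaf 10079790))))) (.node (.node (.node (.node (.leaf 28103154) (.leaf 21070056)) (.node (.leaf 5445972) (.leaf 10821268))) (.node (.node (.leaf 8670836) (.leaf 5069957)) (.node (.leaf 2704074) (.leaf 34572570)))) (.node (.node (.node (.leaf 17711301) (.leaf 19504194)) (.node (.leaf 3870513) (.leaf 15811846))) (.node (.node (.leaf 6607993) (.leaf 4261084)) (.node (.leaf 34423432) (.leaf 29677917)))))))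

/-- A point of the block, part 478. -/
def ptCodePart478 : Janko1.Tree ℕ := (.node (.node (.node (.node (.node (.node (.leaf 9773008) (.leaf 35177574)) (.node (.leaf 2837513) (.leaf 28136084))) (.node (.node (.leaf 17074156) (.leaf 34495465)) (.node (.leaf 32938800) (.leaf 19154892)))) (.node (.node (.node (.leaf 9769993) (.leaf 19632994)) (.node (.leaf 10819049) (.leaf 29775224))) (.node (.node (.leaf 761493) (.leaf 1461297)) (.node (.leaf 29761821) (.leaf 8801941))))) (.node (.node (.node (.node (.leaf 26398856) (.leaf 26038180)) (.node (.leaf 6096176) (.leaf 33348110))) (.node (.node (.leaf 12454262) (.leaf 15815446)) (.node (.leaf 30692177) (.leaf 17287574)))) (.node (.node (.node (.leaf 14311510) (.leaf 7117688)) (.node (.leaf 26039769) (.leaf 1148))) (.node (.node (.leaf 14368854) (.leaf 29627484)) (.node (.leaf 26090616) (.leaf 3872964)))))) (.node (.node (.node (.node (.node (.leaf 5442161) (.leaf 2970314)) (.node (.leaf 29679048) (.leaf 5593824))) (.node (.node (.leaf 15370182) (.leaf 4136398)) (.node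 (.leaf 14913992) (.leaf 6069746)))) (.node (.node (.node (.leaf 16155041) (.leaf 29548082)) (.node (.leaf 33901530) (.leaf 822552))) (.node (.node (.leaf 7265092) (.leaf 9542145)) (.node (.leaf 25631613) (.leaf 10756538))))) (.node (.node (.node (.node (.leaf 10753110) (.leaf 7264589)) (.node (.leaf 7260429) (.leaf 11604197))) (.node (.node (.leaf 21351258) (.leaf 16158468)) (.node (.leaf 18782842) (.leaf 28434792)))) (.node (.node (.node (.leaf 3786677) (.leaf 14027746)) (.node (.leaf 23074350) (.leaf 13192326))) (.node (.node (.leaf 25723134) (.leaf 9639165)) (.node (.leaf 2936790) (.leaf 21072856)))))))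

/-- A point of the block, part 479. -/
def ptCodePart479 : Janko1.Tree ℕ := (.node (.node (.node (.node (.node (.node (.leaf 34152484) (.leaf 16224824)) (.node (.leaf 33447638) (.leaf 33932644))) (.node (.node (.leaf 33937186) (.leaf 6065104)) (.node (.leaf 9521560) (.leaf 16157738)))) (.node (.node (.node (.leaf 18174292) (.leaf 22647993)) (.node (.leaf 2970872) (.leaf 30166116))) (.node (.node (.leaf 26072160) (.leaf 34150824)) (.node (.leaf 16155662) (.leaf 13418986))))) (.node (.node (.node (.node (.leaf 21601994) (.leaf 32461673)) (.node (.leaf 5164997) (.leaf 22666690))) (.node (.node (.leaf 5541686) (.leaf 7962634)) (.node (.leaf 16028540) (.leaf 11600261)))) (.node (.node (.node (.leaf 22726000) (.leaf 32463460)) (.node (.leaf 12570738) (.leaf 14370421))) (.node (.node (.leaf 9854710) (.leaf 23074705)) (.node (.leaf 29086376) (.leaf 14376328)))))) (.node (.node (.node (.node (.node (.leaf 5151965) (.leaf 22732661)) (.node (.leaf 33836714) (.leaf 18535821))) (.node (.node (.leaf 34460029) (.leaf 2728001))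 (.node (.leaf 23906876) (.leaf 21189096)))) (.node (.node (.node (.leaf 12570440) (.leaf 16159569)) (.node (.leaf 21352593) (.leaf 7980932))) (.node (.node (.leaf 23005022) (.leaf 4131860)) (.node (.leaf 29546518) (.leaf 9028868))))) (.node (.node (.node (.node (.leaf 5590326) (.leaf 28234528)) (.node (.leaf 28546037) (.leaf 22879045))) (.node (.node (.leaf 282966) (.leaf 5084685)) (.node (.leaf 33098957) (.leaf 35314069)))) (.node (.node (.node (.leaf 21185529) (.leaf 12228093)) (.node (.leaf 1597566) (.leaf 12569784))) (.node (.node (.leaf 23495726) (.leaf 21578972)) (.node (.leaf 1416481) (.leaf 34463881)))))))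

/-- A point of the block, part 480. -/
def ptCodePart480 : Janko1.Tree ℕ := (.node (.node (.node (.node (.node (.node (.leaf 9374041) (.leaf 18471486)) (.node (.leaf 4014566) (.leaf 5718137))) (.node (.node (.leaf 17241102) (.leaf 13195508)) (.node (.leaf 4396670) (.leaf 21913997)))) (.node (.node (.node (.leaf 6803338) (.leaf 11063957)) (.node (.leaf 28428433) (.leaf 17293633))) (.node (.node (.leaf 5147390) (.leaf 11066152)) (.node (.leaf 22877072) (.leaf 14126761))))) (.node (.node (.node (.node (.leaf 16520805) (.leaf 21601906)) (.node (.leaf 33382152) (.leaf 16159105))) (.node (.node (.leaf 22582976) (.leaf 9538812)) (.node (.leaf 1416620) (.leaf 21381673)))) (.node (.node (.node (.leaf 21268162) (.leaf 14914338)) (.node (.leaf 33704998) (.leaf 10179477))) (.node (.node (.leaf 5588305) (.leaf 4724001)) (.node (.leaf 33377894) (.leaf 11031068)))))) (.node (.node (.node (.node (.node (.leaf 19303132) (.leaf 21336602)) (.node (.leaf 282888) (.leaf 4395684))) (.node (.node (.leaf 22585078) (.leaf 33099424))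 (.node (.leaf 4506890) (.leaf 11586673)))) (.node (.node (.node (.leaf 7110952) (.leaf 22872629)) (.node (.leaf 3096901) (.leaf 6998852))) (.node (.node (.leaf 11821445) (.leaf 4719214)) (.node (.leaf 10181218) (.leaf 18190692))))) (.node (.node (.node (.node (.leaf 17308462) (.leaf 19646456)) (.node (.leaf 26074441) (.leaf 16222917))) (.node (.node (.leaf 4505964) (.leaf 29688481)) (.node (.leaf 1754613) (.leaf 29532593)))) (.node (.node (.node (.leaf 13517294) (.leaf 13517786)) (.node (.leaf 22107898) (.leaf 33374344))) (.node (.node (.leaf 13190752) (.leaf 10179878)) (.node (.leaf 22730720) (.leaf 29924630)))))))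

/-- A point of the block, part 481. -/
def ptCodePart481 : Janko1.Tree ℕ := (.node (.node (.node (.node (.node (.node (.leaf 2754600) (.leaf 3788700)) (.node (.leaf 28084637) (.leaf 30753360))) (.node (.node (.leaf 22206376) (.leaf 29679668)) (.node (.leaf 26072240) (.leaf 11569657)))) (.node (.node (.node (.leaf 10409476) (.leaf 19649928)) (.node (.leaf 7983580) (.leaf 30758668))) (.node (.node (.leaf 35308689) (.leaf 33442358)) (.node (.leaf 22103793) (.leaf 5507878))))) (.node (.node (.node (.node (.leaf 14123032) (.leaf 18191593)) (.node (.leaf 32071489) (.leaf 28072990))) (.node (.node (.leaf 18176209) (.leaf 16008681)) (.node (.leaf 4212122) (.leaf 25730125)))) (.node (.node (.node (.leaf 27312594) (.leaf 11064260)) (.node (.leaf 29017950) (.leaf 22105438))) (.node (.node (.leaf 28778308) (.leaf 34232162)) (.node (.leaf 16027025) (.leaf 4153656)))))) (.node (.node (.node (.node (.node (.leaf 11753060) (.leaf 22200921)) (.node (.leaf 3247033) (.leaf 12634376))) (.node (.node (.leaf 6407876) (.leaf 3247025))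 (.node (.leaf 8396962) (.leaf 19947777)))) (.node (.node (.node (.leaf 7968530) (.leaf 11817172)) (.node (.leaf 14375822) (.leaf 6410316))) (.node (.node (.leaf 21206492) (.leaf 14913749)) (.node (.leaf 21596048) (.leaf 5162186))))) (.node (.node (.node (.node (.leaf 28069568) (.leaf 9854876)) (.node (.leaf 29022148) (.leaf 28430557))) (.node (.node (.leaf 17287236) (.leaf 5161926)) (.node (.leaf 21076256) (.leaf 4572498)))) (.node (.node (.node (.leaf 17289705) (.leaf 22581257)) (.node (.leaf 16965792) (.leaf 13193558))) (.node (.node (.leaf 11214721) (.leaf 25728522)) (.node (.leaf 20242796) (.leaf 34227612)))))))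

/-- A point of the block, part 482. -/
def ptCodePart482 : Janko1.Tree ℕ := (.node (.node (.node (.node (.node (.node (.leaf 6070398) (.leaf 29530713)) (.node (.leaf 21073009) (.leaf 25626770))) (.node (.node (.leaf 19928189) (.leaf 33544954)) (.node (.leaf 14128342) (.leaf 21338634)))) (.node (.node (.node (.leaf 29919504) (.leaf 6063018)) (.node (.leaf 20909242) (.leaf 14125776))) (.node (.node (.leaf 35310154) (.leaf 21206984)) (.node (.leaf 28231552) (.leaf 30758042))))) (.node (.node (.node (.node (.leaf 4216888) (.leaf 18172149)) (.node (.leaf 22122930) (.leaf 33932389))) (.node (.node (.leaf 9521845) (.leaf 18778086)) (.node (.leaf 23896014) (.leaf 32181494)))) (.node (.node (.node (.leaf 14125397) (.leaf 12569470)) (.node (.leaf 13525112) (.leaf 6508033))) (.node (.node (.leaf 5592666) (.leaf 17817552)) (.node (.leaf 32462310) (.leaf 27952902)))))) (.node (.node (.node (.node (.node (.leaf 33704102) (.leaf 6097510)) (.node (.leaf 7965237) (.leaf 7965610))) (.node (.node (.leaf 11208157) (.leaf 30166738))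 (.node (.leaf 21271282) (.leaf 5544646)))) (.node (.node (.node (.leaf 21203604) (.leaf 34462817)) (.node (.leaf 27548201) (.leaf 18193993))) (.node (.node (.leaf 18620616) (.leaf 9439816)) (.node (.leaf 34458084) (.leaf 11063690))))) (.node (.node (.node (.node (.leaf 32185233) (.leaf 16224741)) (.node (.leaf 7963864) (.leaf 22644436))) (.node (.node (.leaf 11820412) (.leaf 17816834)) (.node (.leaf 32065305) (.leaf 12567065)))) (.node (.node (.node (.leaf 27745436) (.leaf 26070753)) (.node (.leaf 29920154) (.leaf 16523420))) (.node (.node (.leaf 29024058) (.leaf 28770861)) (.node (.leaf 23005944) (.leaf 27742885)))))))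

/-- A point of the block, part 483. -/
def ptCodePart483 : Janko1.Tree ℕ := (.node (.node (.node (.node (.node (.node (.leaf 10690441) (.leaf 4571176)) (.node (.leaf 28544909) (.leaf 34310404))) (.node (.node (.leaf 30760689) (.leaf 11575617)) (.node (.leaf 20356329) (.leaf 18191085)))) (.node (.node (.node (.leaf 9847796) (.leaf 4392426)) (.node (.leaf 27318128) (.leaf 29530514))) (.node (.node (.leaf 4726029) (.leaf 8640720)) (.node (.leaf 5586965) (.leaf 21906518))))) (.node (.node (.node (.node (.leaf 18781050) (.leaf 11061246)) (.node (.leaf 16014644) (.leaf 5085700))) (.node (.node (.leaf 2722768) (.leaf 30315424)) (.node (.leaf 33540905) (.leaf 11591341)))) (.node (.node (.node (.leaf 8637380) (.leaf 34230272)) (.node (.leaf 28431822) (.leaf 35312630))) (.node (.node (.leaf 17291406) (.leaf 11030860)) (.node (.leaf 12634596) (.leaf 24051749)))))) (.node (.node (.node (.node (.node (.leaf 5512172) (.leaf 18170438)) (.node (.leaf 7119080) (.leaf 34231201))) (.node (.node (.leaf 16961325) (.leaf 5261428))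 (.node (.leaf 9542733) (.leaf 33100744)))) (.node (.node (.node (.leaf 4512532) (.leaf 29689288)) (.node (.leaf 607025) (.leaf 4211562))) (.node (.node (.leaf 21074453) (.leaf 33834637)) (.node (.leaf 3164441) (.leaf 9422749))))) (.node (.node (.node (.node (.leaf 21204074) (.leaf 19894125)) (.node (.leaf 17286628) (.leaf 25631640))) (.node (.node (.leaf 4671944) (.leaf 22664062)) (.node (.leaf 20910701) (.leaf 29082949)))) (.node (.node (.node (.leaf 17815610) (.leaf 6803381)) (.node (.leaf 4507384) (.leaf 18534952))) (.node (.node (.leaf 11574150) (.leaf 9377762)) (.node (.leaf 18536804) (.leaf 18464850)))))))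

/-- A point of the block, part 484. -/
def ptCodePart484 : Janko1.Tree ℕ := (.node (.node (.node (.node (.node (.node (.leaf 4014582) (.leaf 10180804)) (.node (.leaf 17407929) (.leaf 11214453))) (.node (.node (.leaf 31575690) (.leaf 33445546)) (.node (.leaf 10408858) (.leaf 10750544)))) (.node (.node (.node (.leaf 22878986) (.leaf 8390360)) (.node (.leaf 5036130) (.leaf 28072597))) (.node (.node (.leaf 33709593) (.leaf 6069570)) (.node (.leaf 7000222) (.leaf 22120722))))) (.node (.node (.node (.node (.leaf 21913470) (.leaf 22725558)) (.node (.leaf 17241050) (.leaf 28232821))) (.node (.node (.leaf 4509637) (.leaf 13797718)) (.node (.leaf 34310476) (.leaf 29678121)))) (.node (.node (.node (.leaf 17303917) (.leaf 2936913)) (.node (.leaf 29529598) (.leaf 21578000))) (.node (.node (.leaf 34308650) (.leaf 32069414)) (.node (.leaf 27957242) (.leaf 23011548)))))) (.node (.node (.node (.node (.node (.leaf 12572628) (.leaf 9375386)) (.node (.leaf 34147144) (.leaf 22662712))) (.node (.node (.leaf 7963066) (.leaf 4671476))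 (.node (.leaf 6097613) (.leaf 10683336)))) (.node (.node (.node (.leaf 24583376) (.leaf 18189428)) (.node (.leaf 27544870) (.leaf 24579556))) (.node (.node (.leaf 20907884) (.leaf 25740350)) (.node (.leaf 33542672) (.leaf 21913989))))) (.node (.node (.node (.node (.leaf 27543270) (.leaf 21354785)) (.node (.leaf 22203286) (.leaf 33835986))) (.node (.node (.leaf 19931324) (.leaf 25531138)) (.node (.leaf 33546333) (.leaf 16961590)))) (.node (.node (.node (.leaf 4217837) (.leaf 16028356)) (.node (.leaf 32424362) (.leaf 12227893))) (.node (.node (.leaf 9424630) (.leaf 25726618)) (.node (.leaf 16026937) (.leaf 17404545)))))))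

/-- A point of the block, part 485. -/
def ptCodePart485 : Janko1.Tree ℕ := (.node (.node (.node (.node (.node (.node (.leaf 1413852) (.leaf 17293604)) (.node (.leaf 5081377) (.leaf 29086608))) (.node (.node (.leaf 22123250) (.leaf 20907836)) (.node (.leaf 14369813) (.leaf 1760725)))) (.node (.node (.node (.leaf 22074505) (.leaf 1594345)) (.node (.leaf 11602756) (.leaf 20353784))) (.node (.node (.leaf 7422026) (.leaf 22123658)) (.node (.leaf 283680) (.leaf 6510960))))) (.node (.node (.node (.node (.leaf 9522401) (.leaf 13800616)) (.node (.leaf 8838530) (.leaf 11600518))) (.node (.node (.leaf 22076197) (.leaf 8831554)) (.node (.leaf 22662104) (.leaf 19944450)))) (.node (.node (.node (.leaf 29671556) (.leaf 18171873)) (.node (.leaf 19924038) (.leaf 33543024))) (.node (.node (.leaf 28541853) (.leaf 8641426)) (.node (.leaf 7116432) (.leaf 3163573)))))) (.node (.node (.node (.node (.node (.leaf 5033642) (.leaf 28772677)) (.node (.leaf 10748129) (.leaf 22207196))) (.node (.node (.leaf 16030206) (.leaf 11585104))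 (.node (.leaf 24060014) (.leaf 11583704)))) (.node (.node (.node (.leaf 21269749) (.leaf 15373264)) (.node (.leaf 19301504) (.leaf 10690544))) (.node (.node (.leaf 11754684) (.leaf 31576704)) (.node (.leaf 25628122) (.leaf 29089078))))) (.node (.node (.node (.node (.leaf 8396464) (.leaf 11575738)) (.node (.leaf 26071138) (.leaf 18614014))) (.node (.node (.leaf 13802781) (.leaf 22643376)) (.node (.leaf 19644730) (.leaf 5724252)))) (.node (.node (.node (.leaf 12223580) (.leaf 19941005)) (.node (.leaf 4133645) (.leaf 21913513))) (.node (.node (.leaf 21582221) (.leaf 8393573)) (.node (.leaf 1410653) (.leaf 9379245)))))))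

/-- A point of the block, part 486. -/
def ptCodePart486 : Janko1.Tree ℕ := (.node (.node (.node (.node (.node (.node (.leaf 24579189) (.leaf 6098730)) (.node (.leaf 9855084) (.leaf 29690072))) (.node (.node (.leaf 11030262) (.leaf 19301345)) (.node (.leaf 4571284) (.leaf 10404656)))) (.node (.node (.node (.leaf 6801120) (.leaf 7969686)) (.node (.leaf 33446822) (.leaf 7984606))) (.node (.node (.leaf 33705546) (.leaf 11568922)) (.node (.leaf 21334633) (.leaf 30312184))))) (.node (.node (.node (.node (.leaf 4676397) (.leaf 29532405)) (.node (.leaf 4131720) (.leaf 20913564))) (.node (.node (.leaf 10405585) (.leaf 21192326)) (.node (.leaf 12784513) (.leaf 16028970)))) (.node (.node (.node (.leaf 1130804) (.leaf 30317866)) (.node (.leaf 29919014) (.leaf 25724658))) (.node (.node (.leaf 8393977) (.leaf 19941109)) (.node (.leaf 9028180) (.leaf 34149592)))))) (.node (.node (.node (.node (.node (.leaf 17817886) (.leaf 4020040)) (.node (.leaf 27547973) (.leaf 13424694))) (.node (.node (.leaf 1595908) (.leaf 4725210))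 (.node (.leaf 23894152) (.leaf 7259201)))) (.node (.node (.node (.leaf 4129161) (.leaf 32183118)) (.node (.leaf 8388894) (.leaf 16012584))) (.node (.node (.leaf 10751126) (.leaf 9422054)) (.node (.leaf 9421366) (.leaf 32065574))))) (.node (.node (.node (.node (.leaf 22203068) (.leaf 12784933)) (.node (.leaf 9377565) (.leaf 8012464))) (.node (.node (.leaf 32457209) (.leaf 25727249)) (.node (.leaf 16220624) (.leaf 1130597)))) (.node (.node (.node (.leaf 22659509) (.leaf 22731054)) (.node (.leaf 1754921) (.leaf 4674392))) (.node (.node (.leaf 33375246) (.leaf 8012629)) (.node (.leaf 10409261) (.leaf 25740976)))))))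

/-- A point of the block, part 487. -/
def ptCodePart487 : Janko1.Tree ℕ := (.node (.node (.node (.node (.node (.node (.leaf 10408916) (.leaf 22578232)) (.node (.leaf 29672746) (.leaf 34458064))) (.node (.node (.leaf 30756493) (.leaf 3250417)) (.node (.leaf 22106521) (.leaf 5592325)))) (.node (.node (.node (.leaf 4577360) (.leaf 22875365)) (.node (.leaf 17585485) (.leaf 14128941))) (.node (.node (.leaf 27955296) (.leaf 8636016)) (.node (.leaf 361170) (.leaf 19924022))))) (.node (.node (.node (.node (.leaf 32431686) (.leaf 1138402)) (.node (.leaf 28088574) (.leaf 11207862))) (.node (.node (.leaf 12640090) (.leaf 23075329)) (.node (.leaf 11212209) (.leaf 17434085)))) (.node (.node (.node (.leaf 15535558) (.leaf 18537366)) (.node (.leaf 25531090) (.leaf 10689296))) (.node (.node (.leaf 17407085) (.leaf 9638118)) (.node (.leaf 3166416) (.leaf 11819932)))))) (.node (.node (.node (.node (.node (.leaf 34308196) (.leaf 28426598)) (.node (.leaf 23904477) (.leaf 360748))) (.node (.node (.leaf 6800760) (.leaf 17814072))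 (.node (.leaf 2935105) (.leaf 28067946)))) (.node (.node (.node (.leaf 25265484) (.leaf 606704)) (.node (.leaf 366853) (.leaf 11032186))) (.node (.node (.leaf 7259934) (.leaf 17238754)) (.node (.leaf 16963381) (.leaf 5266926))))) (.node (.node (.node (.node (.leaf 7259022) (.leaf 21351114)) (.node (.leaf 25072440) (.leaf 34230216))) (.node (.node (.leaf 33703878) (.leaf 33833578)) (.node (.leaf 3163181) (.leaf 27957282)))) (.node (.node (.node (.leaf 25265146) (.leaf 4214177)) (.node (.leaf 29672322) (.leaf 5083628))) (.node (.node (.leaf 1135740) (.leaf 5512188)) (.node (.leaf 11208848) (.leaf 20242621)))))))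

/-- A point of the block, part 488. -/
def ptCodePart488 : Janko1.Tree ℕ := (.node (.node (.node (.node (.node (.node (.leaf 33443158) (.leaf 22119760)) (.node (.leaf 19644494) (.leaf 1760289))) (.node (.node (.leaf 10686700) (.leaf 25729058)) (.node (.leaf 612345) (.leaf 15539641)))) (.node (.node (.node (.leaf 9855273) (.leaf 29087049)) (.node (.leaf 4573522) (.leaf 21600105))) (.node (.node (.leaf 9372266) (.leaf 16519817)) (.node (.leaf 22108468) (.leaf 10176924))))) (.node (.node (.node (.node (.leaf 4135472) (.leaf 4135304)) (.node (.leaf 34229325) (.leaf 15371104))) (.node (.node (.leaf 34311348) (.leaf 14032350)) (.node (.leaf 21389744) (.leaf 8016062)))) (.node (.node (.node (.leaf 7264705) (.leaf 14909608)) (.node (.leaf 32426304) (.leaf 15155436))) (.node (.node (.leaf 27314401) (.leaf 6100992)) (.node (.leaf 21269602) (.leaf 4723358)))))) (.node (.node (.node (.node (.node (.leaf 9853909) (.leaf 7114796)) (.node (.leaf 18615945) (.leaf 14032946))) (.node (.node (.leaf 6063201) (.leaf 22583958))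 (.node (.leaf 34308332) (.leaf 4218568)))) (.node (.node (.node (.leaf 6998324) (.leaf 25632440)) (.node (.leaf 28429541) (.leaf 17587652))) (.node (.node (.leaf 16515424) (.leaf 19892734)) (.node (.leaf 11215233) (.leaf 610045))))) (.node (.node (.node (.node (.leaf 24578596) (.leaf 11820098)) (.node (.leaf 22108888) (.leaf 34227253))) (.node (.node (.leaf 10174816) (.leaf 21909036)) (.node (.leaf 17407368) (.leaf 25533661)))) (.node (.node (.node (.leaf 14369042) (.leaf 5267852)) (.node (.leaf 20913234) (.leaf 22644258))) (.node (.node (.leaf 28541720) (.leaf 8016417)) (.node (.leaf 28235372) (.leaf 32180181)))))))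

/-- A point of the block, part 489. -/
def ptCodePart489 : Janko1.Tree ℕ := (.node (.node (.node (.node (.node (.node (.leaf 23011196) (.leaf 9425764)) (.node (.leaf 19650705) (.leaf 11584353))) (.node (.node (.leaf 22663169) (.leaf 9439489)) (.node (.leaf 29018745) (.leaf 5723021)))) (.node (.node (.node (.leaf 11751502) (.leaf 3791282)) (.node (.leaf 281564) (.leaf 34309322))) (.node (.node (.leaf 24576277) (.leaf 11608496)) (.node (.leaf 6799613) (.leaf 279917))))) (.node (.node (.node (.node (.leaf 28069509) (.leaf 1756868)) (.node (.leaf 23495293) (.leaf 11210770))) (.node (.node (.leaf 5261121) (.leaf 13801300)) (.node (.leaf 5722098) (.leaf 32459022)))) (.node (.node (.node (.leaf 6097970) (.leaf 6506052)) (.node (.leaf 12637054) (.leaf 12226329))) (.node (.node (.leaf 3248524) (.leaf 25632158)) (.node (.leaf 6806898) (.leaf 22878760)))))) (.node (.node (.node (.node (.node (.leaf 28778644) (.leaf 23501561)) (.node (.leaf 7982582) (.leaf 25269304))) (.node (.node (.leaf 22725625) (.leaf 33932486))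 (.node (.leaf 17306990) (.leaf 8394809)))) (.node (.node (.node (.leaf 12570417) (.leaf 29546240)) (.node (.leaf 15156552) (.leaf 4399336))) (.node (.node (.leaf 4150488) (.leaf 17400488)) (.node (.leaf 22726249) (.leaf 32459349))))) (.node (.node (.node (.node (.leaf 33938405) (.leaf 4578701)) (.node (.leaf 5261578) (.leaf 27315330))) (.node (.node (.leaf 34145561) (.leaf 24583620)) (.node (.leaf 24052356) (.leaf 11608241)))) (.node (.node (.node (.leaf 8012494) (.leaf 33444472)) (.node (.leaf 9636153) (.leaf 5546142))) (.node (.node (.leaf 613193) (.leaf 28070800)) (.node (.leaf 17402581) (.leaf 23910782)))))))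

/-- A point of the block, part 490. -/
def ptCodePart490 : Janko1.Tree ℕ := (.node (.node (.node (.node (.node (.node (.leaf 22585704) (.leaf 29548894)) (.node (.leaf 15537312) (.leaf 27548358))) (.node (.node (.leaf 12787376) (.leaf 30314468)) (.node (.leaf 21577729) (.leaf 18174041)))) (.node (.node (.node (.leaf 21274690) (.leaf 5544433)) (.node (.leaf 19944466) (.leaf 28089486))) (.node (.node (.leaf 14910378) (.leaf 13519289)) (.node (.leaf 18616113) (.leaf 5147508))))) (.node (.node (.node (.node (.leaf 612458) (.leaf 11586922)) (.node (.leaf 5546060) (.leaf 3168560))) (.node (.node (.leaf 14372658) (.leaf 15540066)) (.node (.leaf 13797393) (.leaf 10753885)))) (.node (.node (.node (.leaf 25071101) (.leaf 29689670)) (.node (.leaf 5180740) (.leaf 25627416))) (.node (.node (.leaf 20352206) (.leaf 30171510)) (.node (.leaf 14370933) (.leaf 12632653)))))) (.node (.node (.node (.node (.node (.leaf 11034313) (.leaf 2935366)) (.node (.leaf 9029074) (.leaf 9636262))) (.node (.node (.leaf 5539617) (.leaf 18781557))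 (.node (.leaf 25270998) (.leaf 827428)))) (.node (.node (.node (.leaf 31579758) (.leaf 13422520)) (.node (.leaf 1594074) (.leaf 18783293))) (.node (.node (.leaf 7427868) (.leaf 27956249)) (.node (.leaf 19890765) (.leaf 3100546))))) (.node (.node (.node (.node (.leaf 23894713) (.leaf 22873970)) (.node (.leaf 18189765) (.leaf 17580888))) (.node (.node (.leaf 2723366) (.leaf 26070550)) (.node (.leaf 17303904) (.leaf 29674948)))) (.node (.node (.node (.leaf 20241972) (.leaf 28430836)) (.node (.leaf 2722584) (.leaf 4145402))) (.node (.node (.leaf 13420485) (.leaf 17402137)) (.node (.leaf 5544465) (.leaf 1590945)))))))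

/-- A point of the block, part 491. -/
def ptCodePart491 : Janko1.Tree ℕ := (.node (.node (.node (.node (.node (.node (.leaf 21597506) (.leaf 34151790)) (.node (.leaf 13520713) (.leaf 6068272))) (.node (.node (.leaf 29675670) (.leaf 23006164)) (.node (.leaf 21189301) (.leaf 33704322)))) (.node (.node (.node (.leaf 21355036) (.leaf 18190762)) (.node (.leaf 8640404) (.leaf 27956257))) (.node (.node (.leaf 7426450) (.leaf 19893880)) (.node (.leaf 28775434) (.leaf 3165894))))) (.node (.node (.node (.node (.leaf 1416926) (.leaf 24580085)) (.node (.leaf 17587532) (.leaf 32185454))) (.node (.node (.leaf 27314896) (.leaf 21585184)) (.node (.leaf 21595432) (.leaf 32462961)))) (.node (.node (.node (.leaf 11062465) (.leaf 15368309)) (.node (.leaf 8837820) (.leaf 17288256))) (.node (.node (.leaf 10753258) (.leaf 35309856)) (.node (.leaf 25271809) (.leaf 21577972)))))) (.node (.node (.node (.node (.node (.leaf 22577262) (.leaf 12786265)) (.node (.leaf 366056) (.leaf 4670493))) (.node (.node (.leaf 4726480) (.leaf 22124908))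 (.node (.leaf 34459800) (.leaf 29541369)))) (.node (.node (.node (.leaf 19926888) (.leaf 22649294)) (.node (.leaf 13800552) (.leaf 21338757))) (.node (.node (.leaf 21333761) (.leaf 5148098)) (.node (.leaf 15368385) (.leaf 22583846))))) (.node (.node (.node (.node (.leaf 2726000) (.leaf 2969636)) (.node (.leaf 5267125) (.leaf 12574861))) (.node (.node (.leaf 1416260) (.leaf 7115926)) (.node (.leaf 29532141) (.leaf 5180074)))) (.node (.node (.node (.leaf 28775237) (.leaf 14024841)) (.node (.leaf 2724366) (.leaf 13190454))) (.node (.node (.leaf 27549724) (.leaf 9520824)) (.node (.leaf 15160192) (.leaf 29690733)))))))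

/-- A point of the block, part 492. -/
def ptCodePart492 : Janko1.Tree ℕ := (.node (.node (.node (.node (.node (.node (.leaf 11033642) (.leaf 10180894)) (.node (.leaf 22660866) (.leaf 5165496))) (.node (.node (.leaf 32069086) (.leaf 3250698)) (.node (.leaf 5720389) (.leaf 17240778)))) (.node (.node (.node (.leaf 25528349) (.leaf 11748332)) (.node (.leaf 19306729) (.leaf 614809))) (.node (.node (.leaf 12634084) (.leaf 20236609)) (.node (.leaf 27742453) (.leaf 15534250))))) (.node (.node (.node (.node (.leaf 20357105) (.leaf 12227146)) (.node (.leaf 5152066) (.leaf 21340265))) (.node (.node (.leaf 32458176) (.leaf 10686696)) (.node (.leaf 13194833) (.leaf 7982988)))) (.node (.node (.node (.leaf 4396352) (.leaf 28778536)) (.node (.leaf 9524253) (.leaf 17305974))) (.node (.node (.leaf 23893048) (.leaf 21078276)) (.node (.leaf 5181724) (.leaf 5177858)))))) (.node (.node (.node (.node (.node (.leaf 2969365) (.leaf 25730846)) (.node (.leaf 2757864) (.leaf 9441424))) (.node (.node (.leaf 20238018) (.leaf 27742946))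 (.node (.leaf 19929221) (.leaf 29917332)))) (.node (.node (.node (.leaf 33900796) (.leaf 17813140)) (.node (.leaf 23073620) (.leaf 361389))) (.node (.node (.leaf 23008960) (.leaf 23500280)) (.node (.leaf 3246950) (.leaf 11589477))))) (.node (.node (.node (.node (.leaf 5512920) (.leaf 5181753)) (.node (.leaf 9635956) (.leaf 17434288))) (.node (.node (.leaf 6512669) (.leaf 5148965)) (.node (.leaf 33898598) (.leaf 4513842)))) (.node (.node (.node (.leaf 32425778) (.leaf 22123798)) (.node (.leaf 7423289) (.leaf 15156757))) (.node (.node (.leaf 28431673) (.leaf 27549462)) (.node (.leaf 31578173) (.leaf 3103917)))))))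

/-- A point of the block, part 493. -/
def ptCodePart493 : Janko1.Tree ℕ := (.node (.node (.node (.node (.node (.node (.leaf 10756242) (.leaf 14131633)) (.node (.leaf 17582061) (.leaf 11569176))) (.node (.node (.leaf 30170484) (.leaf 31572858)) (.node (.leaf 33835549) (.leaf 4576025)))) (.node (.node (.node (.leaf 21207662) (.leaf 3101796)) (.node (.leaf 16026710) (.leaf 9523377))) (.node (.node (.leaf 1413218) (.leaf 6100832)) (.node (.leaf 21386124) (.leaf 23907984))))) (.node (.node (.node (.node (.leaf 33933458) (.leaf 12782586)) (.node (.leaf 16521376) (.leaf 33100805))) (.node (.node (.leaf 3099090) (.leaf 18538680)) (.node (.leaf 22118570) (.leaf 5083212)))) (.node (.node (.node (.leaf 823558) (.leaf 27549382)) (.node (.leaf 5079521) (.leaf 12633508))) (.node (.node (.leaf 17285450) (.leaf 21268538)) (.node (.leaf 22650037) (.leaf 6806660)))))) (.node (.node (.node (.node (.node (.leaf 8836746) (.leaf 27315308)) (.node (.leaf 29022550) (.leaf 22205229))) (.node (.node (.leaf 18537168) (.leaf 4677529))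 (.node (.leaf 14026576) (.leaf 7983690)))) (.node (.node (.node (.leaf 22076342) (.leaf 23895216)) (.node (.leaf 33841044) (.leaf 7979816))) (.node (.node (.leaf 27953740) (.leaf 279504)) (.node (.leaf 25073897) (.leaf 23894653))))) (.node (.node (.node (.node (.leaf 19942905) (.leaf 2973548)) (.node (.leaf 9031328) (.leaf 11573280))) (.node (.node (.leaf 21584668) (.leaf 1755585)) (.node (.leaf 18780781) (.leaf 24580866)))) (.node (.node (.node (.leaf 16225985) (.leaf 15539161)) (.node (.leaf 11820706) (.leaf 21333345))) (.node (.node (.leaf 21186369) (.leaf 22070566)) (.node (.leaf 33839590) (.leaf 33902430)))))))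

/-- A point of the block, part 494. -/
def ptCodePart494 : Janko1.Tree ℕ := (.node (.node (.node (.node (.node (.node (.leaf 285348) (.leaf 6505777)) (.node (.leaf 22874282) (.leaf 4514236))) (.node (.node (.leaf 19941437) (.leaf 2724740)) (.node (.leaf 9424506) (.leaf 25068954)))) (.node (.node (.node (.leaf 15370325) (.leaf 11059378)) (.node (.leaf 2932802) (.leaf 33702418))) (.node (.node (.leaf 18776524) (.leaf 23071873)) (.node (.leaf 17587029) (.leaf 34228845))))) (.node (.node (.node (.node (.leaf 16515866) (.leaf 18613358)) (.node (.leaf 2754957) (.leaf 13517602))) (.node (.node (.leaf 7264973) (.leaf 4509086)) (.node (.leaf 22204080) (.leaf 15369213)))) (.node (.node (.node (.leaf 18468182) (.leaf 13191673)) (.node (.leaf 4670024) (.leaf 15155928))) (.node (.node (.leaf 6410621) (.leaf 20241462)) (.node (.leaf 28543774) (.leaf 25746166)))))) (.node (.node (.node (.node (.node (.leaf 28547397) (.leaf 17584218)) (.node (.leaf 10406028) (.leaf 29548381))) (.node (.node (.leaf 6099866) (.leaf 7428432))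 (.node (.leaf 9031580) (.leaf 4150026)))) (.node (.node (.node (.leaf 284760) (.leaf 21077492)) (.node (.leaf 4146074) (.leaf 27313806))) (.node (.node (.leaf 33935769) (.leaf 9373198)) (.node (.leaf 6509918) (.leaf 19924825))))) (.node (.node (.node (.node (.leaf 5086584) (.leaf 19650449)) (.node (.leaf 34150344) (.leaf 6406240))) (.node (.node (.leaf 15540632) (.leaf 32430893)) (.node (.leaf 6802121) (.leaf 29024416)))) (.node (.node (.node (.leaf 34462936) (.leaf 29921188)) (.node (.leaf 18189720) (.leaf 16010466))) (.node (.node (.leaf 14025897) (.leaf 5036214)) (.node (.leaf 29087421) (.leaf 17432658)))))))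

/-- A point of the block, part 495. -/
def ptCodePart495 : Janko1.Tree ℕ := (.node (.node (.node (.node (.node (.node (.leaf 3164670) (.leaf 3247722)) (.node (.leaf 23500838) (.leaf 16162524))) (.node (.node (.leaf 16161910) (.leaf 17439656)) (.node (.leaf 5538181) (.leaf 23908670)))) (.node (.node (.node (.leaf 9522626) (.leaf 18535753)) (.node (.leaf 5034198) (.leaf 1130601))) (.node (.node (.leaf 29918498) (.leaf 6999338)) (.node (.leaf 5177466) (.leaf 29695653))))) (.node (.node (.node (.node (.leaf 33096781) (.leaf 6506506)) (.node (.leaf 28084173) (.leaf 25531314))) (.node (.node (.leaf 21906918) (.leaf 17438517)) (.node (.leaf 16522112) (.leaf 17237910)))) (.node (.node (.node (.leaf 30167746) (.leaf 32184694)) (.node (.leaf 20354825) (.leaf 11754414))) (.node (.node (.leaf 826552) (.leaf 33545860)) (.node (.leaf 29924165) (.leaf 30313252)))))) (.node (.node (.node (.node (.node (.leaf 15161556) (.leaf 15160721)) (.node (.leaf 25741041) (.leaf 33101249))) (.node (.node (.leaf 21192982) (.leaf 19896192))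 (.node (.leaf 4149777) (.leaf 18465113)))) (.node (.node (.node (.leaf 10690781) (.leaf 826606)) (.node (.leaf 28089180) (.leaf 9535590))) (.node (.node (.leaf 11601233) (.leaf 6505684)) (.node (.leaf 11821169) (.leaf 29690557))))) (.node (.node (.node (.node (.leaf 21580348) (.leaf 15532697)) (.node (.leaf 24058357) (.leaf 5036692))) (.node (.node (.leaf 20353681) (.leaf 6997746)) (.node (.leaf 21350845) (.leaf 25265532)))) (.node (.node (.node (.leaf 23500689) (.leaf 5508277)) (.node (.leaf 30167102) (.leaf 8832678))) (.node (.node (.leaf 21912541) (.leaf 5595148)) (.node (.leaf 17402957) (.leaf 7112557)))))))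

/-- A point of the block, part 496. -/
def ptCodePart496 : Janko1.Tree ℕ := (.node (.node (.node (.node (.node (.node (.leaf 823669) (.leaf 821717)) (.node (.leaf 19651801) (.leaf 30315617))) (.node (.node (.leaf 10404352) (.leaf 16011708)) (.node (.leaf 366662) (.leaf 2759936)))) (.node (.node (.node (.leaf 28237333) (.leaf 9520669)) (.node (.leaf 5185378) (.leaf 5037838))) (.node (.node (.leaf 28547776) (.leaf 16958502)) (.node (.leaf 8833732) (.leaf 14914112))))) (.node (.node (.node (.node (.leaf 21202188) (.leaf 8395380)) (.node (.leaf 30759054) (.leaf 18616720))) (.node (.node (.leaf 16961850) (.leaf 1592905)) (.node (.leaf 33381893) (.leaf 16014198)))) (.node (.node (.node (.leaf 25627244) (.leaf 18171269)) (.node (.leaf 19896726) (.leaf 19893964))) (.node (.node (.leaf 8832621) (.leaf 3785882)) (.node (.leaf 15376661) (.leaf 29530510)))))) (.node (.node (.node (.node (.node (.leaf 11062006) (.leaf 18616672)) (.node (.leaf 21209166) (.leaf 26069388))) (.node (.node (.leaf 33935806) (.leaf 25269152))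 (.node (.leaf 33095862) (.leaf 1759789)))) (.node (.node (.node (.leaf 19929165) (.leaf 2968669)) (.node (.leaf 5087029) (.leaf 5149676))) (.node (.node (.leaf 16518778) (.leaf 22069709)) (.node (.leaf 25533877) (.leaf 29083302))))) (.node (.node (.node (.node (.leaf 16225190) (.leaf 1417605)) (.node (.leaf 14913222) (.leaf 22070873))) (.node (.node (.leaf 27744210) (.leaf 30163498)) (.node (.leaf 25743616) (.leaf 31576278)))) (.node (.node (.node (.leaf 25070988) (.leaf 5718065)) (.node (.leaf 33380590) (.leaf 22074358))) (.node (.node (.leaf 32181762) (.leaf 3786120)) (.node (.leaf 17308613) (.leaf 33441517)))))))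

/-- A point of the block, part 497. -/
def ptCodePart497 : Janko1.Tree ℕ := (.node (.node (.node (.node (.node (.node (.leaf 33376602) (.leaf 27738129)) (.node (.leaf 820749) (.leaf 12222832))) (.node (.node (.leaf 12636557) (.leaf 17435960)) (.node (.leaf 5261424) (.leaf 30311088)))) (.node (.node (.node (.leaf 27739312) (.leaf 23500782)) (.node (.leaf 34147764) (.leaf 10689461))) (.node (.node (.leaf 3102422) (.leaf 21201349)) (.node (.leaf 28775274) (.leaf 17580082))))) (.node (.node (.node (.node (.leaf 13190100) (.leaf 3251657)) (.node (.leaf 13522518) (.leaf 11751736))) (.node (.node (.leaf 1590581) (.leaf 13425468)) (.node (.leaf 29693390) (.leaf 7115732)))) (.node (.node (.node (.leaf 23070358) (.leaf 28073190)) (.node (.leaf 14031533) (.leaf 23068942))) (.node (.node (.leaf 22108757) (.leaf 6070294)) (.node (.leaf 33446252) (.leaf 8839101)))))) (.node (.node (.node (.node (.node (.leaf 33840209) (.leaf 32431385)) (.node (.leaf 11572777) (.leaf 32429266))) (.node (.node (.leaf 13520665) (.leaf 29547300))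 (.node (.leaf 18537425) (.leaf 33381709)))) (.node (.node (.node (.leaf 1592141) (.leaf 21598332)) (.node (.leaf 2889352) (.leaf 32166837))) (.node (.node (.leaf 4866349) (.leaf 728530)) (.node (.leaf 2886605) (.leaf 88080))))) (.node (.node (.node (.node (.leaf 25772180) (.leaf 1282025)) (.node (.leaf 18712530) (.leaf 25253886))) (.node (.node (.leaf 26395761) (.leaf 86085)) (.node (.leaf 7225821) (.leaf 24510481)))) (.node (.node (.node (.leaf 10801956) (.leaf 31868653)) (.node (.leaf 3381688) (.leaf 4395040))) (.node (.node (.leaf 1132972) (.leaf 11882936)) (.node (.leaf 9244338) (.leaf 6275629)))))))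

/-- A point of the block, part 498. -/
def ptCodePart498 : Janko1.Tree ℕ := (.node (.node (.node (.node (.node (.node (.leaf 1071700) (.leaf 7231082)) (.node (.leaf 34986808) (.leaf 11820341))) (.node (.node (.leaf 21733084) (.leaf 4395842)) (.node (.leaf 31572041) (.leaf 31022544)))) (.node (.node (.node (.leaf 29557505) (.leaf 26184826)) (.node (.leaf 26776486) (.leaf 31330109))) (.node (.node (.leaf 8410737) (.leaf 629281)) (.node (.leaf 16293308) (.leaf 17784444))))) (.node (.node (.node (.node (.leaf 32768088) (.leaf 4458576)) (.node (.leaf 27509786) (.leaf 1135772))) (.node (.node (.leaf 11815332) (.leaf 10590656)) (.node (.leaf 1130670) (.leaf 1136681)))) (.node (.node (.node (.leaf 8751084) (.leaf 33315998)) (.node (.leaf 12703558) (.leaf 10919378))) (.node (.node (.leaf 22512397) (.leaf 1018093)) (.node (.leaf 1137630) (.leaf 32164382)))))) (.node (.node (.node (.node (.node (.leaf 34572444) (.leaf 31904772)) (.node (.leaf 1286145) (.leaf 24746728))) (.node (.node (.leaf 16291800) (.leaf 87810))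 (.node (.leaf 18683348) (.leaf 9241765)))) (.node (.node (.node (.leaf 17861973) (.leaf 10100580)) (.node (.leaf 10588138) (.leaf 21877980))) (.node (.node (.leaf 28201117) (.leaf 8412577)) (.node (.leaf 8834977) (.leaf 31901916))))) (.node (.node (.node (.node (.leaf 28205413) (.leaf 31575332)) (.node (.leaf 27460389) (.leaf 25510197))) (.node (.node (.leaf 33770976) (.leaf 19798697)) (.node (.leaf 22071134) (.leaf 26187449)))) (.node (.node (.node (.leaf 32165393) (.leaf 26696064)) (.node (.leaf 10917742) (.leaf 6311212))) (.node (.node (.leaf 29020270) (.leaf 9999088)) (.node (.leaf 27516690) (.leaf 10029369)))))))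

/-- A point of the block, part 499. -/
def ptCodePart499 : Janko1.Tree ℕ := (.node (.node (.node (.node (.node (.node (.leaf 1613936) (.leaf 31015078)) (.node (.leaf 17785276) (.leaf 3251156))) (.node (.node (.leaf 12492754) (.leaf 591902)) (.node (.leaf 18686268) (.leaf 17992029)))) (.node (.node (.node (.leaf 5757356) (.leaf 10801980)) (.node (.leaf 1135776) (.leaf 9244176))) (.node (.node (.leaf 17866932) (.leaf 17995446)) (.node (.leaf 10034976) (.leaf 5867301))))) (.node (.node (.node (.node (.leaf 1132094) (.leaf 5195397)) (.node (.leaf 26283588) (.leaf 18187173))) (.node (.node (.leaf 20138694) (.leaf 34817120)) (.node (.leaf 11832733) (.leaf 19718560)))) (.node (.node (.node (.leaf 23793340) (.leaf 18680830)) (.node (.leaf 17171893) (.leaf 30084613))) (.node (.node (.leaf 9634832) (.leaf 1557288)) (.node (.leaf 33135496) (.leaf 32166112)))))) (.node (.node (.node (.node (.node (.leaf 32163077) (.leaf 2890016)) (.node (.leaf 34572082) (.leaf 15472790))) (.node (.node (.leaf 23791972) (.leaf 1690852))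 (.node (.leaf 32951946) (.leaf 5118836)))) (.node (.node (.node (.leaf 4643328) (.leaf 4868052)) (.node (.leaf 21109634) (.leaf 32723942))) (.node (.node (.leaf 2788997) (.leaf 4868554)) (.node (.leaf 32165770) (.leaf 23021113))))) (.node (.node (.node (.node (.leaf 16320925) (.leaf 19796686)) (.node (.leaf 15288026) (.leaf 9995666))) (.node (.node (.leaf 10486562) (.leaf 9934920)) (.node (.leaf 10014317) (.leaf 32661337)))) (.node (.node (.node (.leaf 21978525) (.leaf 4638842)) (.node (.leaf 4638745) (.leaf 23943300))) (.node (.node (.leaf 24380229) (.leaf 25513510)) (.node (.leaf 87692) (.leaf 25510181)))))))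

/-- A point of the block, part 500. -/
def ptCodePart500 : Janko1.Tree ℕ := (.node (.node (.node (.node (.node (.node (.leaf 25510669) (.leaf 7229105)) (.node (.leaf 25511748) (.leaf 25514238))) (.node (.node (.leaf 20140058) (.leaf 31252562)) (.node (.leaf 3855812) (.leaf 3251793)))) (.node (.node (.node (.leaf 4391917) (.leaf 3005378)) (.node (.leaf 2088360) (.leaf 4448188))) (.node (.node (.leaf 9291344) (.leaf 33588262)) (.node (.leaf 19717057) (.leaf 7232208))))) (.node (.node (.node (.node (.leaf 7249908) (.leaf 2687406)) (.node (.leaf 15503644) (.leaf 32168614))) (.node (.node (.leaf 9210860) (.leaf 35018080)) (.node (.leaf 1134798) (.leaf 1692121)))) (.node (.node (.node (.leaf 15288953) (.leaf 7233388)) (.node (.leaf 2888754) (.leaf 5315833))) (.node (.node (.leaf 1607414) (.leaf 10589418)) (.node (.leaf 10012136) (.leaf 33476554)))))) (.node (.node (.node (.node (.node (.leaf 18684586) (.leaf 15109904)) (.node (.leaf 24382826) (.leaf 4867614))) (.node (.node (.leaf 9209790) (.leaf 15468122)) (.node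 (.leaf 32952930) (.leaf 23024129)))) (.node (.node (.node (.leaf 12929848) (.leaf 19564106)) (.node (.leaf 2790012) (.leaf 14588858))) (.node (.node (.leaf 31904780) (.leaf 1055128)) (.node (.leaf 19963805) (.leaf 26697453))))) (.node (.node (.node (.node (.leaf 2792004) (.leaf 19569773)) (.node (.leaf 4754369) (.leaf 9995994))) (.node (.node (.leaf 21384969) (.leaf 5752886)) (.node (.leaf 34150606) (.leaf 30084557)))) (.node (.node (.node (.leaf 31332545) (.leaf 31334493)) (.node (.leaf 1638921) (.leaf 10099785))) (.node (.node (.leaf 4397032) (.leaf 11044086)) (.node (.leaf 10029926) (.leaf 1642136)))))))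

/-- A point of the block, part 501. -/
def ptCodePart501 : Janko1.Tree ℕ := (.node (.node (.node (.node (.node (.node (.leaf 148481) (.leaf 10493968)) (.node (.leaf 31579002) (.leaf 384317))) (.node (.node (.leaf 29810074) (.leaf 34150554)) (.node (.leaf 17782948) (.leaf 8753678)))) (.node (.node (.node (.leaf 10097209) (.leaf 5194000)) (.node (.leaf 89022) (.leaf 33311004))) (.node (.node (.leaf 32624498) (.leaf 29936174)) (.node (.leaf 9214076) (.leaf 18317716))))) (.node (.node (.node (.node (.leaf 29103868) (.leaf 14847658)) (.node (.leaf 21975360) (.leaf 7149174))) (.node (.node (.leaf 16631604) (.leaf 20236402)) (.node (.leaf 10798142) (.leaf 4447516)))) (.node (.node (.node (.leaf 34986865) (.leaf 30086588)) (.node (.leaf 5117164) (.leaf 203572))) (.node (.node (.leaf 4458204) (.leaf 17861582)) (.node (.leaf 29019962) (.leaf 15505709)))))) (.node (.node (.node (.node (.node (.leaf 9935378) (.leaf 20236017)) (.node (.leaf 5310016) (.leaf 30085172))) (.node (.node (.leaf 26696002) (.leaf 26396505)) (.node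 (.leaf 29104013) (.leaf 15468714)))) (.node (.node (.node (.leaf 6279582) (.leaf 31022170)) (.node (.leaf 9981670) (.leaf 18189465))) (.node (.node (.leaf 28640182) (.leaf 10488629)) (.node (.leaf 18323421) (.leaf 5316060))))) (.node (.node (.node (.node (.leaf 24742784) (.leaf 20388820)) (.node (.leaf 24518349) (.leaf 25872642))) (.node (.node (.leaf 9978532) (.leaf 20141168)) (.node (.leaf 26394668) (.leaf 384324)))) (.node (.node (.node (.leaf 19060110) (.leaf 29024366)) (.node (.leaf 8405336) (.leaf 33592445))) (.node (.node (.leaf 21371414) (.leaf 5118792)) (.node (.leaf 5708242) (.leaf 20236665)))))))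

/-- A point of the block, part 502. -/
def ptCodePart502 : Janko1.Tree ℕ := (.node (.node (.node (.node (.node (.node (.leaf 17996397) (.leaf 17272210)) (.node (.leaf 2183584) (.leaf 24550514))) (.node (.node (.leaf 17732714) (.leaf 2885817)) (.node (.leaf 18322457) (.leaf 4459496)))) (.node (.node (.node (.leaf 33133040) (.leaf 7244374)) (.node (.leaf 32772648) (.leaf 33475052))) (.node (.node (.leaf 11829869) (.leaf 4867538)) (.node (.leaf 723984) (.leaf 12124272))))) (.node (.node (.node (.node (.leaf 1020058) (.leaf 9293980)) (.node (.leaf 25515650) (.leaf 24384632))) (.node (.node (.leaf 24546420) (.leaf 29804761)) (.node (.leaf 19796094) (.leaf 1055465)))) (.node (.node (.node (.leaf 32661824) (.leaf 1024149)) (.node (.leaf 20384801) (.leaf 12127549))) (.node (.node (.leaf 30577168) (.leaf 15404481)) (.node (.leaf 9636708) (.leaf 10962678)))))) (.node (.node (.node (.node (.node (.leaf 21727468) (.leaf 7445890)) (.node (.leaf 7560600) (.leaf 18717861))) (.node (.node (.leaf 16325273) (.leaf 22511621))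 (.node (.leaf 2786261) (.leaf 18323000)))) (.node (.node (.node (.leaf 24232601) (.leaf 26693050)) (.node (.leaf 7242804) (.leaf 30723244))) (.node (.node (.leaf 12930840) (.leaf 9996290)) (.node (.leaf 26184668) (.leaf 11046808))))) (.node (.node (.node (.node (.leaf 19811316) (.leaf 3857057)) (.node (.leaf 15106981) (.leaf 1612330))) (.node (.node (.leaf 18336604) (.leaf 7148300)) (.node (.leaf 32459472) (.leaf 13441570)))) (.node (.node (.node (.leaf 24379509) (.leaf 32456992)) (.node (.leaf 26183924) (.leaf 7248606))) (.node (.node (.leaf 33935352) (.leaf 10963624)) (.node (.leaf 33935188) (.leaf 154724)))))))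

/-- A point of the block, part 503. -/
def ptCodePart503 : Janko1.Tree ℕ := (.node (.node (.node (.node (.node (.node (.leaf 30990336) (.leaf 1605949)) (.node (.leaf 28641472) (.leaf 28641673))) (.node (.node (.leaf 10588268) (.leaf 12931266)) (.node (.leaf 14208321) (.leaf 6310054)))) (.node (.node (.node (.leaf 34575008) (.leaf 33475990)) (.node (.leaf 10490149) (.leaf 18323405))) (.node (.node (.leaf 30723057) (.leaf 7887042)) (.node (.leaf 381105) (.leaf 2693978))))) (.node (.node (.node (.node (.leaf 14568508) (.leaf 29935857)) (.node (.leaf 8904854) (.leaf 8904814))) (.node (.node (.leaf 8896917) (.leaf 32953524)) (.node (.leaf 32725964) (.leaf 32465060)))) (.node (.node (.node (.leaf 29098078) (.leaf 591666)) (.node (.leaf 33309906) (.leaf 9633962))) (.node (.node (.leaf 5868432) (.leaf 12706112)) (.node (.leaf 14567064) (.leaf 8407540)))))) (.node (.node (.node (.node (.node (.leaf 9212374) (.leaf 20142394)) (.node (.leaf 15470750) (.leaf 26776941))) (.node (.node (.leaf 26774977) (.leaf 10015084))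 (.node (.leaf 4759710) (.leaf 1645728)))) (.node (.node (.node (.leaf 24517877) (.leaf 13181309)) (.node (.leaf 9209770) (.leaf 9638554))) (.node (.node (.leaf 11046854) (.leaf 32723764)) (.node (.leaf 32621722) (.leaf 14207048))))) (.node (.node (.node (.node (.leaf 17990558) (.leaf 15289749)) (.node (.leaf 31900674) (.leaf 21369994))) (.node (.node (.leaf 19816109) (.leaf 14571896)) (.node (.leaf 14568748) (.leaf 2888368)))) (.node (.node (.node (.leaf 14587745) (.leaf 19565661)) (.node (.leaf 7232505) (.leaf 15404977))) (.node (.node (.leaf 23942594) (.leaf 1640212)) (.node (.leaf 10031780) (.leaf 29936749)))))))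

/-- A point of the block, part 504. -/
def ptCodePart504 : Janko1.Tree ℕ := (.node (.node (.node (.node (.node (.node (.leaf 623126) (.leaf 1072824)) (.node (.leaf 9983878) (.leaf 31250590))) (.node (.node (.leaf 1056492) (.leaf 17173889)) (.node (.leaf 17270298) (.leaf 20240176)))) (.node (.node (.node (.leaf 9297941) (.leaf 9822084)) (.node (.leaf 13442808) (.leaf 2792472))) (.node (.node (.leaf 26395906) (.leaf 18341189)) (.node (.leaf 1018664) (.leaf 30724885))))) (.node (.node (.node (.node (.leaf 12633721) (.leaf 5311790)) (.node (.leaf 5753672) (.leaf 14210589))) (.node (.node (.leaf 5709726) (.leaf 1066333)) (.node (.leaf 33005789) (.leaf 33934060)))) (.node (.node (.node (.leaf 1102189) (.leaf 8755658)) (.node (.leaf 22516300) (.leaf 22075556))) (.node (.node (.leaf 24235698) (.leaf 19712213)) (.node (.leaf 19714524) (.leaf 25253108)))))) (.node (.node (.node (.node (.node (.leaf 12698422) (.leaf 11051133)) (.node (.leaf 8897656) (.leaf 4458244))) (.node (.node (.leaf 21322785) (.leaf 29017317))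 (.node (.leaf 10804062) (.leaf 30578668)))) (.node (.node (.node (.leaf 12485876) (.leaf 8755586)) (.node (.leaf 11814877) (.leaf 14209424))) (.node (.node (.leaf 11831124) (.leaf 21103249)) (.node (.leaf 22516217) (.leaf 34571500))))) (.node (.node (.node (.node (.leaf 25778137) (.leaf 18275000)) (.node (.leaf 3382152) (.leaf 8904238))) (.node (.node (.leaf 16620397) (.leaf 2688304)) (.node (.leaf 1102280) (.leaf 3250661)))) (.node (.node (.node (.leaf 24514884) (.leaf 5315160)) (.node (.leaf 4391393) (.leaf 19713309))) (.node (.node (.leaf 6280524) (.leaf 8831885)) (.node (.leaf 30572681) (.leaf 24544592)))))))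

/-- A point of the block, part 505. -/
def ptCodePart505 : Janko1.Tree ℕ := (.node (.node (.node (.node (.node (.node (.leaf 18717569) (.leaf 3002322)) (.node (.leaf 17992916) (.leaf 31249304))) (.node (.node (.leaf 18325132) (.leaf 8752029)) (.node (.leaf 5757992) (.leaf 15470077)))) (.node (.node (.node (.leaf 25773884) (.leaf 31327849)) (.node (.leaf 2081346) (.leaf 12703917))) (.node (.node (.leaf 2082968) (.leaf 726758)) (.node (.leaf 18193437) (.leaf 7244570))))) (.node (.node (.node (.node (.leaf 30988230) (.leaf 10016196)) (.node (.leaf 11817624) (.leaf 19813868))) (.node (.node (.leaf 32998420) (.leaf 18269818)) (.node (.leaf 5116464) (.leaf 20238520)))) (.node (.node (.node (.leaf 23795217) (.leaf 19568337)) (.node (.leaf 30727157) (.leaf 19808464))) (.node (.node (.leaf 12130881) (.leaf 25255430)) (.node (.leaf 32653470) (.leaf 30580690)))))) (.node (.node (.node (.node (.node (.leaf 27051678) (.leaf 1099336)) (.node (.leaf 31900634) (.leaf 11832437))) (.node (.node (.leaf 19794724) (.leaf 33003322))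 (.node (.leaf 28204482) (.leaf 10012374)))) (.node (.node (.node (.leaf 381710) (.leaf 19563149)) (.node (.leaf 18194828) (.leaf 16618094))) (.node (.node (.leaf 26190114) (.leaf 9995897)) (.node (.leaf 18718026) (.leaf 15335634))))) (.node (.node (.node (.node (.leaf 24232817) (.leaf 11044929)) (.node (.leaf 22512320) (.leaf 19961209))) (.node (.node (.leaf 22514894) (.leaf 35081417)) (.node (.leaf 32775478) (.leaf 4457768)))) (.node (.node (.node (.leaf 21727404) (.leaf 25778330)) (.node (.leaf 6313133) (.leaf 23024790))) (.node (.node (.leaf 5115749) (.leaf 34148722)) (.node (.leaf 1609480) (.leaf 31329086)))))))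

/-- A point of the block, part 506. -/
def ptCodePart506 : Janko1.Tree ℕ := (.node (.node (.node (.node (.node (.node (.leaf 10969326) (.leaf 9243386)) (.node (.leaf 4637833) (.leaf 4756782))) (.node (.node (.leaf 17861914) (.leaf 28205446)) (.node (.leaf 19712513) (.leaf 16637008)))) (.node (.node (.node (.leaf 9814054) (.leaf 30720122)) (.node (.leaf 5197457) (.leaf 3377046))) (.node (.node (.leaf 21976604) (.leaf 21976740)) (.node (.leaf 33311916) (.leaf 15408404))))) (.node (.node (.node (.node (.leaf 16632914) (.leaf 23793224)) (.node (.leaf 11885684) (.leaf 17867181))) (.node (.node (.leaf 33132461) (.leaf 8897622)) (.node (.leaf 29020926) (.leaf 3251349)))) (.node (.node (.node (.leaf 21323557) (.leaf 29803296)) (.node (.leaf 32775145) (.leaf 1053252))) (.node (.node (.leaf 17170634) (.leaf 27057434)) (.node (.leaf 4756437) (.leaf 1278120)))))) (.node (.node (.node (.node (.node (.leaf 21365461) (.leaf 4444865)) (.node (.leaf 14669542) (.leaf 32458306))) (.node (.node (.leaf 5752760) (.leaf 591770))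 (.node (.leaf 32461812) (.leaf 10019176)))) (.node (.node (.node (.leaf 27464596) (.leaf 12752138)) (.node (.leaf 10914696) (.leaf 23938884))) (.node (.node (.leaf 1694144) (.leaf 16613621)) (.node (.leaf 21370500) (.leaf 29803205))))) (.node (.node (.node (.node (.leaf 9641377) (.leaf 5709353)) (.node (.leaf 21104545) (.leaf 21384170))) (.node (.node (.leaf 20389877) (.leaf 27512385)) (.node (.leaf 29808090) (.leaf 9981625)))) (.node (.node (.node (.leaf 5707254) (.leaf 7250088)) (.node (.leaf 10966232) (.leaf 24548472))) (.node (.node (.leaf 35085208) (.leaf 27054186)) (.node (.leaf 625114) (.leaf 14852141)))))))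

/-- A point of the block, part 507. -/
def ptCodePart507 : Janko1.Tree ℕ := (.node (.node (.node (.node (.node (.node (.leaf 33136372) (.leaf 7885574)) (.node (.leaf 12487405) (.leaf 26772878))) (.node (.node (.leaf 19059330) (.leaf 21369014)) (.node (.leaf 16320494) (.leaf 15294373)))) (.node (.node (.node (.leaf 22072276) (.leaf 12640186)) (.node (.leaf 7145101) (.leaf 18270721))) (.node (.node (.leaf 5310093) (.leaf 12129834)) (.node (.leaf 8412885) (.leaf 10591173))))) (.node (.node (.node (.node (.leaf 31899976) (.leaf 5754128)) (.node (.leaf 21730941) (.leaf 4440201))) (.node (.node (.leaf 16319793) (.leaf 1646328)) (.node (.leaf 7440453) (.leaf 21383952)))) (.node (.node (.node (.leaf 33311225) (.leaf 25878918)) (.node (.leaf 27462970) (.leaf 17732194))) (.node (.node (.leaf 3003253) (.leaf 28643876)) (.node (.leaf 198241) (.leaf 2086416)))))) (.node (.node (.node (.node (.node (.leaf 12928780) (.leaf 1105138)) (.node (.leaf 31246969) (.leaf 3379525))) (.node (.node (.leaf 5873488) (.leaf 24236358))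 (.node (.leaf 21106832) (.leaf 19564065)))) (.node (.node (.node (.leaf 8837494) (.leaf 11883134)) (.node (.leaf 13180442) (.leaf 15292478))) (.node (.node (.leaf 24550546) (.leaf 199014)) (.node (.leaf 26696758) (.leaf 7556846))))) (.node (.node (.node (.node (.leaf 18340028) (.leaf 25874472)) (.node (.leaf 17277056) (.leaf 9216014))) (.node (.node (.leaf 17174828) (.leaf 27463320)) (.node (.leaf 28204741) (.leaf 20383942)))) (.node (.node (.node (.leaf 1049513) (.leaf 14665629)) (.node (.leaf 25249973) (.leaf 10016025))) (.node (.node (.leaf 8899212) (.leaf 4758589)) (.node (.leaf 21881054) (.leaf 12927856)))))))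

/-- A point of the block, part 508. -/
def ptCodePart508 : Janko1.Tree ℕ := (.node (.node (.node (.node (.node (.node (.leaf 34987242) (.leaf 18274826)) (.node (.leaf 10098813) (.leaf 15507680))) (.node (.node (.leaf 1284114) (.leaf 26282349)) (.node (.leaf 27513513) (.leaf 11883766)))) (.node (.node (.node (.leaf 8749362) (.leaf 12753286)) (.node (.leaf 33770565) (.leaf 10092730))) (.node (.node (.leaf 31023125) (.leaf 34149565)) (.node (.leaf 11049414) (.leaf 627906))))) (.node (.node (.node (.node (.leaf 26183094) (.leaf 11043016)) (.node (.leaf 15107150) (.leaf 12127505))) (.node (.node (.leaf 17732937) (.leaf 20236442)) (.node (.leaf 2181976) (.leaf 155688)))) (.node (.node (.node (.leaf 12933598) (.leaf 35086480)) (.node (.leaf 32726041) (.leaf 35013724))) (.node (.node (.leaf 32724896) (.leaf 2695448)) (.node (.leaf 33587460) (.leaf 5113580)))))) (.node (.node (.node (.node (.node (.leaf 2790690) (.leaf 528840)) (.node (.leaf 7150340) (.leaf 1069712))) (.node (.node (.leaf 13180714) (.leaf 7559826))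 (.node (.leaf 13442130) (.leaf 21369024)))) (.node (.node (.node (.leaf 27051773) (.leaf 10968420)) (.node (.leaf 24386098) (.leaf 595217))) (.node (.node (.leaf 10588505) (.leaf 26284638)) (.node (.leaf 35084901) (.leaf 527177))))) (.node (.node (.node (.node (.leaf 35018716) (.leaf 200374)) (.node (.leaf 1024086) (.leaf 21316512))) (.node (.node (.leaf 12637148) (.leaf 4391832)) (.node (.leaf 6277885) (.leaf 8834898)))) (.node (.node (.node (.leaf 3377681) (.leaf 18683606)) (.node (.leaf 15341002) (.leaf 12639382))) (.node (.node (.leaf 7557173) (.leaf 4458401)) (.node (.leaf 4444478) (.leaf 16321513)))))))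

/-- A point of the block, part 509. -/
def ptCodePart509 : Janko1.Tree ℕ := (.node (.node (.node (.node (.node (.node (.leaf 28640545) (.leaf 12747049)) (.node (.leaf 15409336) (.leaf 34818714))) (.node (.node (.leaf 3244237) (.leaf 5707766)) (.node (.leaf 3857376) (.leaf 29098233)))) (.node (.node (.node (.leaf 86514) (.leaf 27466246)) (.node (.leaf 23945356) (.leaf 22073196))) (.node (.node (.leaf 29803352) (.leaf 1016028)) (.node (.leaf 14206632) (.leaf 11831582))))) (.node (.node (.node (.node (.leaf 11817156) (.leaf 8410450)) (.node (.leaf 6278776) (.leaf 34816192))) (.node (.node (.leaf 12490945) (.leaf 33316426)) (.node (.leaf 33932069) (.leaf 32660862)))) (.node (.node (.node (.leaf 12490977) (.leaf 19959033)) (.node (.leaf 31871309) (.leaf 14567994))) (.node (.node (.leaf 6316158) (.leaf 4759604)) (.node (.leaf 9814358) (.leaf 32726869)))))) (.node (.node (.node (.node (.node (.leaf 15343754) (.leaf 8753992)) (.node (.leaf 27463706) (.leaf 17735785))) (.node (.node (.leaf 9983502) (.leaf 12637070))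 (.node (.leaf 7249416) (.leaf 30723268)))) (.node (.node (.node (.leaf 35085028) (.leaf 28202229)) (.node (.leaf 33938044) (.leaf 14663793))) (.node (.node (.leaf 4459874) (.leaf 18274293)) (.node (.leaf 10966249) (.leaf 22076945))))) (.node (.node (.node (.node (.leaf 34821100) (.leaf 32658594)) (.node (.leaf 1644680) (.leaf 17864041))) (.node (.node (.leaf 726854) (.leaf 31248850)) (.node (.leaf 4753016) (.leaf 33136626)))) (.node (.node (.node (.leaf 11820642) (.leaf 33937160)) (.node (.leaf 9816266) (.leaf 23791481))) (.node (.node (.leaf 16289028) (.leaf 25248236)) (.node (.leaf 9817760) (.leaf 5116488)))))))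

/-- A point of the block, part 510. -/
def ptCodePart510 : Janko1.Tree ℕ := (.node (.node (.node (.node (.node (.node (.leaf 18679317) (.leaf 152460)) (.node (.leaf 10001930) (.leaf 1050768))) (.node (.node (.leaf 10590704) (.leaf 4638506)) (.node (.leaf 4637545) (.leaf 16618505)))) (.node (.node (.node (.leaf 30982982) (.leaf 32771037)) (.node (.leaf 10027014) (.leaf 6316301))) (.node (.node (.leaf 10802957) (.leaf 10803550)) (.node (.leaf 14210194) (.leaf 2182192))))) (.node (.node (.node (.node (.leaf 34819593) (.leaf 1688305)) (.node (.leaf 17778108) (.leaf 26692045))) (.node (.node (.leaf 34980688) (.leaf 10799004)) (.node (.leaf 3854078) (.leaf 12702165)))) (.node (.node (.node (.leaf 33775430) (.leaf 32998005)) (.node (.leaf 27466198) (.leaf 25876702))) (.node (.node (.leaf 9815468) (.leaf 1285609)) (.node (.leaf 33311064) (.leaf 14212688)))))) (.node (.node (.node (.node (.node (.leaf 34982481) (.leaf 3854970)) (.node (.leaf 21107830) (.leaf 15292014))) (.node (.node (.leaf 11819457) (.leaf 10797334))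 (.node (.leaf 10917533) (.leaf 35016864)))) (.node (.node (.node (.leaf 5195049) (.leaf 12127516)) (.node (.leaf 4442469) (.leaf 31868204))) (.node (.node (.leaf 19714642) (.leaf 1101280)) (.node (.leaf 623785) (.leaf 18273524))))) (.node (.node (.node (.node (.leaf 23027609) (.leaf 82338)) (.node (.leaf 19058637) (.leaf 2182429))) (.node (.node (.leaf 15335844) (.leaf 35021121)) (.node (.leaf 17995984) (.leaf 26399350)))) (.node (.node (.node (.leaf 10028060) (.leaf 25778521)) (.node (.leaf 2088469) (.leaf 26186333))) (.node (.node (.leaf 21106661) (.leaf 20387940)) (.node (.leaf 12126661) (.leaf 1562202)))))))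

/-- A point of the block, part 511. -/
def ptCodePart511 : Janko1.Tree ℕ := (.node (.node (.node (.node (.node (.node (.leaf 30089517) (.leaf 1559930)) (.node (.leaf 11834412) (.leaf 23937077))) (.node (.node (.leaf 29558153) (.leaf 18715690)) (.node (.leaf 12932928) (.leaf 33932801)))) (.node (.node (.node (.leaf 15501430) (.leaf 201637)) (.node (.leaf 35018661) (.leaf 9245194))) (.node (.node (.leaf 18677885) (.leaf 7882972)) (.node (.leaf 22075500) (.leaf 35078601))))) (.node (.node (.node (.node (.leaf 32170168) (.leaf 29940093)) (.node (.leaf 29016368) (.leaf 33479818))) (.node (.node (.leaf 8836101) (.leaf 7556246)) (.node (.leaf 5758308) (.leaf 5759213)))) (.node (.node (.node (.leaf 9293221) (.leaf 24546633)) (.node (.leaf 7444961) (.leaf 3852316))) (.node (.node (.leaf 14206196) (.leaf 29563958)) (.node (.leaf 15507634) (.leaf 11836738)))))) (.node (.node (.node (.node (.node (.leaf 7244597) (.leaf 1556621)) (.node (.leaf 17728229) (.leaf 4396154))) (.node (.node (.leaf 12636962) (.leaf 19061032))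 (.node (.leaf 19570662) (.leaf 19564305)))) (.node (.node (.node (.leaf 13177724) (.leaf 3246822)) (.node (.leaf 1100278) (.leaf 16619274))) (.node (.node (.leaf 14582122) (.leaf 26690977)) (.node (.leaf 12132768) (.leaf 11832577))))) (.node (.node (.node (.node (.leaf 14847808) (.leaf 21385262)) (.node (.leaf 21107882) (.leaf 18323850))) (.node (.node (.leaf 1054140) (.leaf 24234952)) (.node (.leaf 31327204) (.leaf 1564650)))) (.node (.node (.node (.leaf 27057498) (.leaf 3855816)) (.node (.leaf 1285201) (.leaf 12754341))) (.node (.node (.leaf 9820942) (.leaf 29559782)) (.node (.leaf 17275209) (.leaf 33775153)))))))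

/-- A point of the block, part 512. -/
def ptCodePart512 : Janko1.Tree ℕ := (.node (.node (.node (.node (.node (.node (.leaf 33479880) (.leaf 33775001)) (.node (.leaf 3251189) (.leaf 17776982))) (.node (.node (.leaf 21977730) (.leaf 24235418)) (.node (.leaf 14571918) (.leaf 12699892)))) (.node (.node (.node (.leaf 1691628) (.leaf 3853024)) (.node (.leaf 377772) (.leaf 31866942))) (.node (.node (.leaf 21728701) (.leaf 1564258)) (.node (.leaf 17997534) (.leaf 4867469))))) (.node (.node (.node (.node (.leaf 34149010) (.leaf 31578416)) (.node (.leaf 3003066) (.leaf 525034))) (.node (.node (.leaf 29563898) (.leaf 1052928)) (.node (.leaf 531816) (.leaf 32626642)))) (.node (.node (.node (.leaf 26287289) (.leaf 26697186)) (.node (.leaf 8839257) (.leaf 5868113))) (.node (.node (.leaf 33131664) (.leaf 10490664)) (.node (.leaf 26283324) (.leaf 19795506)))))) (.node (.node (.node (.node (.node (.leaf 10030273) (.leaf 31576741)) (.node (.leaf 31901416) (.leaf 17781678))) (.node (.node (.leaf 16287584) (.leaf 15289993))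 (.node (.leaf 5201093) (.leaf 23941846)))) (.node (.node (.node (.leaf 21387153) (.leaf 29938737)) (.node (.leaf 12748760) (.leaf 12635448))) (.node (.node (.leaf 28640074) (.leaf 5708093)) (.node (.leaf 33595078) (.leaf 13443457))))) (.node (.node (.node (.node (.leaf 6315652) (.leaf 34818780)) (.node (.leaf 31245122) (.leaf 26395834))) (.node (.node (.leaf 31248345) (.leaf 30984246)) (.node (.leaf 623626) (.leaf 31872881)))) (.node (.node (.node (.leaf 33129828) (.leaf 7150976)) (.node (.leaf 21873524) (.leaf 26287882))) (.node (.node (.leaf 24382478) (.leaf 3002476)) (.node (.leaf 24548340) (.leaf 23027762)))))))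

/-- A point of the block, part 513. -/
def ptCodePart513 : Janko1.Tree ℕ := (.node (.node (.node (.node (.node (.node (.leaf 31244982) (.leaf 1611313)) (.node (.leaf 17781670) (.leaf 19815509))) (.node (.node (.leaf 9290410) (.leaf 4871356)) (.node (.leaf 12492146) (.leaf 13180210)))) (.node (.node (.node (.leaf 25876960) (.leaf 17992912)) (.node (.leaf 14664637) (.leaf 5199108))) (.node (.node (.leaf 16322756) (.leaf 32950761)) (.node (.leaf 5198108) (.leaf 30088994))))) (.node (.node (.node (.node (.leaf 21319022) (.leaf 34570570)) (.node (.leaf 13440196) (.leaf 11879234))) (.node (.node (.leaf 8831637) (.leaf 27513648)) (.node (.leaf 19795794) (.leaf 11879289)))) (.node (.node (.node (.leaf 33313365) (.leaf 32773661)) (.node (.leaf 34980952) (.leaf 7888917))) (.node (.node (.leaf 1646038) (.leaf 32949396)) (.node (.leaf 2789270) (.leaf 25253526)))))) (.node (.node (.node (.node (.node (.leaf 2187221) (.leaf 2184194)) (.node (.leaf 27511086) (.leaf 19810128))) (.node (.node (.leaf 20141538) (.leaf 14568342))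 (.node (.leaf 5315637) (.leaf 29104242)))) (.node (.node (.node (.leaf 16291313) (.leaf 12489244)) (.node (.leaf 590992) (.leaf 11818162))) (.node (.node (.leaf 31868446) (.leaf 21322893)) (.node (.leaf 34816073) (.leaf 31874338))))) (.node (.node (.node (.node (.leaf 16617366) (.leaf 26774492)) (.node (.leaf 3376310) (.leaf 19962452))) (.node (.node (.leaf 34150976) (.leaf 30720761)) (.node (.leaf 29017366) (.leaf 14570673)))) (.node (.node (.node (.leaf 16291002) (.leaf 1070830)) (.node (.leaf 9982897) (.leaf 15504268))) (.node (.node (.leaf 1557422) (.leaf 9211130)) (.node (.leaf 24518117) (.leaf 16319192)))))))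

/-- A point of the block, part 514. -/
def ptCodePart514 : Janko1.Tree ℕ := (.node (.node (.node (.node (.node (.node (.leaf 33936229) (.leaf 29564900)) (.node (.leaf 10967061) (.leaf 13440172))) (.node (.node (.leaf 23796734) (.leaf 17728741)) (.node (.leaf 27054829) (.leaf 15114273)))) (.node (.node (.node (.leaf 7441310) (.leaf 15335772)) (.node (.leaf 7443364) (.leaf 1643141))) (.node (.node (.leaf 25876865) (.leaf 15337760)) (.node (.leaf 35086304) (.leaf 19796498))))) (.node (.node (.node (.node (.leaf 25516018) (.leaf 21389605)) (.node (.leaf 2886740) (.leaf 31578424))) (.node (.node (.leaf 15406272) (.leaf 14667528)) (.node (.leaf 33478866) (.leaf 530572)))) (.node (.node (.node (.leaf 151154) (.leaf 28201540)) (.node (.leaf 377068) (.leaf 28199833))) (.node (.node (.leaf 20236566) (.leaf 16292310)) (.node (.leaf 35080830) (.leaf 27056922)))))) (.node (.node (.node (.node (.node (.leaf 26287421) (.leaf 24745398)) (.node (.leaf 14843914) (.leaf 18340168))) (.node (.node (.leaf 10488012) (.leaf 18190436))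 (.node (.leaf 1099884) (.leaf 9296126)))) (.node (.node (.node (.leaf 9933949) (.leaf 21880086)) (.node (.leaf 9980578) (.leaf 2691350))) (.node (.node (.leaf 19056388) (.leaf 19063192)) (.node (.leaf 626146) (.leaf 14583758))))) (.node (.node (.node (.node (.leaf 203110) (.leaf 4752925)) (.node (.leaf 33590350) (.leaf 29807096))) (.node (.node (.leaf 18338786) (.leaf 21971142)) (.node (.leaf 10914310) (.leaf 16620945)))) (.node (.node (.node (.leaf 15507544) (.leaf 17270422)) (.node (.leaf 1072156) (.leaf 9820713))) (.node (.node (.leaf 10487526) (.leaf 7881136)) (.node (.leaf 17729152) (.leaf 13179372)))))))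

/-- A point of the block, part 515. -/
def ptCodePart515 : Janko1.Tree ℕ := (.node (.node (.node (.node (.node (.node (.leaf 21366656) (.leaf 2690989)) (.node (.leaf 5707282) (.leaf 34570688))) (.node (.node (.leaf 7884033) (.leaf 30987944)) (.node (.leaf 31578174) (.leaf 15404037)))) (.node (.node (.node (.leaf 15403628) (.leaf 32949020)) (.node (.leaf 19063070) (.leaf 14587061))) (.node (.node (.leaf 14844072) (.leaf 20137517)) (.node (.leaf 11879086) (.leaf 5112000))))) (.node (.node (.node (.node (.leaf 9931682) (.leaf 33475114)) (.node (.leaf 19957568) (.leaf 595697))) (.node (.node (.leaf 20235398) (.leaf 22516220)) (.node (.leaf 33005805) (.leaf 29940682)))) (.node (.node (.node (.leaf 30089170) (.leaf 23021489)) (.node (.leaf 4446089) (.leaf 30088304))) (.node (.node (.leaf 17776770) (.leaf 32623241)) (.node (.leaf 21316336) (.leaf 21323825)))))) (.node (.node (.node (.node (.node (.leaf 19812757) (.leaf 722852)) (.node (.leaf 19812480) (.leaf 34150917))) (.node (.node (.leaf 2084965) (.leaf 19963269))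 (.node (.leaf 3382624) (.leaf 2788850)))) (.node (.node (.node (.leaf 33771628) (.leaf 21389726)) (.node (.leaf 33002784) (.leaf 18718230))) (.node (.node (.leaf 29105868) (.leaf 5865602)) (.node (.leaf 1689454) (.leaf 17276709))))) (.node (.node (.node (.node (.leaf 1564684) (.leaf 15109657)) (.node (.leaf 9214372) (.leaf 7444580))) (.node (.node (.leaf 15506122) (.leaf 199154)) (.node (.leaf 25776322) (.leaf 21732976)))) (.node (.node (.node (.leaf 21105032) (.leaf 28645304)) (.node (.leaf 8837368) (.leaf 14848530))) (.node (.node (.leaf 156048) (.leaf 17274566)) (.node (.leaf 33769742) (.leaf 10590136)))))))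

/-- A point of the block, part 516. -/
def ptCodePart516 : Janko1.Tree ℕ := (.node (.node (.node (.node (.node (.node (.leaf 525762) (.leaf 32951278)) (.node (.leaf 5871185) (.leaf 19956634))) (.node (.node (.leaf 6309912) (.leaf 9241496)) (.node (.leaf 23022246) (.leaf 21727609)))) (.node (.node (.node (.leaf 32626594) (.leaf 2187177)) (.node (.leaf 10013981) (.leaf 25773421))) (.node (.node (.leaf 32623614) (.leaf 16319044)) (.node (.leaf 15338586) (.leaf 34987826))))) (.node (.node (.node (.node (.leaf 18188306) (.leaf 32624126)) (.node (.leaf 24518529) (.leaf 7554750))) (.node (.node (.leaf 19957725) (.leaf 1282028)) (.node (.leaf 1693118) (.leaf 32658100)))) (.node (.node (.node (.leaf 9978189) (.leaf 11885489)) (.node (.leaf 7148401) (.leaf 18188769))) (.node (.node (.leaf 14586957) (.leaf 14846265)) (.node (.leaf 14667465) (.leaf 9995604)))))) (.node (.node (.node (.node (.node (.leaf 5873021) (.leaf 2085489)) (.node (.leaf 7560860) (.leaf 20388436))) (.node (.node (.leaf 7555205) (.leaf 21732570))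 (.node (.leaf 26773664) (.leaf 12753573)))) (.node (.node (.node (.leaf 24385921) (.leaf 9635798)) (.node (.leaf 33130937) (.leaf 9638230))) (.node (.node (.leaf 16637174) (.leaf 31872653)) (.node (.leaf 24236038) (.leaf 25249085))))) (.node (.node (.node (.node (.leaf 10914844) (.leaf 8409098)) (.node (.leaf 24513224) (.leaf 33150554))) (.node (.node (.leaf 25501932) (.leaf 32182165)) (.node (.leaf 2378328) (.leaf 4002880)))) (.node (.node (.node (.leaf 24172001) (.leaf 12276286)) (.node (.leaf 24057590) (.leaf 31612380))) (.node (.node (.leaf 26791237) (.leaf 19567422)) (.node (.leaf 29607869) (.leaf 23911982)))))))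

/-- A point of the block, part 517. -/
def ptCodePart517 : Janko1.Tree ℕ := (.node (.node (.node (.node (.node (.node (.leaf 24953848) (.leaf 32182494)) (.node (.leaf 18063757) (.leaf 15501748))) (.node (.node (.leaf 32180920) (.leaf 35243322)) (.node (.leaf 2378985) (.leaf 31901581)))) (.node (.node (.node (.leaf 4005873) (.leaf 2380457)) (.node (.leaf 28381654) (.leaf 2885298))) (.node (.node (.leaf 31907024) (.leaf 1085502)) (.node (.leaf 24338482) (.leaf 24336861))))) (.node (.node (.node (.node (.leaf 17077248) (.leaf 4004621)) (.node (.leaf 28334396) (.leaf 33297272))) (.node (.node (.leaf 16063946) (.leaf 1855828)) (.node (.leaf 3312086) (.leaf 12914564)))) (.node (.node (.node (.leaf 17420688) (.leaf 9687052)) (.node (.leaf 28333638) (.leaf 2382672))) (.node (.node (.leaf 25498473) (.leaf 30514625)) (.node (.leaf 28870440) (.leaf 20075193)))))) (.node (.node (.node (.node (.node (.leaf 21218913) (.leaf 32346768)) (.node (.leaf 35327422) (.leaf 10520462))) (.node (.node (.leaf 33364018) (.leaf 28138922))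 (.node (.leaf 23679353) (.leaf 29612594)))) (.node (.node (.node (.leaf 16944316) (.leaf 5115278)) (.node (.leaf 28875198) (.leaf 20040748))) (.node (.node (.leaf 17846672) (.leaf 25448945)) (.node (.leaf 23283529) (.leaf 25859017))))) (.node (.node (.node (.node (.leaf 24333765) (.leaf 31612237)) (.node (.leaf 30508585) (.leaf 18044272))) (.node (.node (.leaf 25379972) (.leaf 33297328)) (.node (.leaf 27773521) (.leaf 344596)))) (.node (.node (.node (.leaf 33167561) (.leaf 4414886)) (.node (.leaf 12910752) (.leaf 3954290))) (.node (.node (.leaf 3950524) (.leaf 21634333)) (.node (.leaf 17307792) (.leaf 31609820)))))))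

/-- A point of the block, part 518. -/
def ptCodePart518 : Janko1.Tree ℕ := (.node (.node (.node (.node (.node (.node (.leaf 3999118) (.leaf 29672068)) (.node (.leaf 29266732) (.leaf 21288864))) (.node (.node (.leaf 30514550) (.leaf 32346918)) (.node (.leaf 3807881) (.leaf 32769253)))) (.node (.node (.node (.leaf 28334906) (.leaf 28874262)) (.node (.leaf 35312297) (.leaf 15991421))) (.node (.node (.leaf 18041613) (.leaf 5840044)) (.node (.leaf 19892372) (.leaf 15679796))))) (.node (.node (.node (.node (.leaf 3589244) (.leaf 29319570)) (.node (.leaf 23908770) (.leaf 28333554))) (.node (.node (.leaf 34162492) (.leaf 15504742)) (.node (.leaf 15277796) (.leaf 15482981)))) (.node (.node (.node (.leaf 3969937) (.leaf 32195690)) (.node (.leaf 30054558) (.leaf 24171918))) (.node (.node (.leaf 22141101) (.leaf 25385861)) (.node (.leaf 352600) (.leaf 27754528)))))) (.node (.node (.node (.node (.node (.leaf 10142276) (.leaf 2384040)) (.node (.leaf 3033388) (.leaf 20579262))) (.node (.node (.leaf 691066) (.leaf 31378586))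 (.node (.leaf 9556842) (.leaf 792428)))) (.node (.node (.node (.leaf 24174222) (.leaf 3997849)) (.node (.leaf 24172070) (.leaf 10045444))) (.node (.node (.leaf 9051314) (.leaf 23678262)) (.node (.leaf 9554162) (.leaf 15816986))))) (.node (.node (.node (.node (.leaf 28876749) (.leaf 25010528)) (.node (.leaf 2382664) (.leaf 31902848))) (.node (.node (.leaf 31904572) (.leaf 18045498)) (.node (.leaf 34460857) (.leaf 34181506)))) (.node (.node (.node (.leaf 11476865) (.leaf 8462618)) (.node (.leaf 32441886) (.leaf 6021172))) (.node (.node (.leaf 18497996) (.leaf 7178605)) (.node (.leaf 32183086) (.leaf 7882285)))))))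

/-- A point of the block, part 519. -/
def ptCodePart519 : Janko1.Tree ℕ := (.node (.node (.node (.node (.node (.node (.leaf 1859913) (.leaf 28871573)) (.node (.leaf 28335234) (.leaf 22528993))) (.node (.node (.leaf 25384805) (.leaf 12734762)) (.node (.leaf 12914910) (.leaf 34177264)))) (.node (.node (.node (.leaf 32181646) (.leaf 33447278)) (.node (.leaf 18504390) (.leaf 28331360))) (.node (.node (.leaf 5885720) (.leaf 14419508)) (.node (.leaf 25003160) (.leaf 33691714))))) (.node (.node (.node (.node (.leaf 17075730) (.leaf 26853789)) (.node (.leaf 3541464) (.leaf 31905812))) (.node (.node (.leaf 30499082) (.leaf 4002276)) (.node (.leaf 2376469) (.leaf 15998538)))) (.node (.node (.node (.leaf 7459344) (.leaf 21634214)) (.node (.leaf 1083240) (.leaf 399758))) (.node (.node (.leaf 3998542) (.leaf 8164265)) (.node (.leaf 20892126) (.leaf 12910874)))))) (.node (.node (.node (.node (.node (.leaf 8228810) (.leaf 29117748)) (.node (.leaf 7572113) (.leaf 16942440))) (.node (.node (.leaf 34357840) (.leaf 28379521))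 (.node (.leaf 26790918) (.leaf 16942253)))) (.node (.node (.node (.leaf 8227878) (.leaf 19564893)) (.node (.leaf 32162138) (.leaf 16060676))) (.node (.node (.leaf 24776537) (.leaf 24334134)) (.node (.leaf 689762) (.leaf 29294805))))) (.node (.node (.node (.node (.leaf 4478932) (.leaf 3165958)) (.node (.leaf 5839600) (.leaf 12736625))) (.node (.node (.leaf 4474874) (.leaf 32196629)) (.node (.leaf 19814276) (.leaf 24055342)))) (.node (.node (.node (.leaf 29314617) (.leaf 8225781)) (.node (.leaf 18045358) (.leaf 11946768))) (.node (.node (.leaf 31824190) (.leaf 31823997)) (.node (.leaf 15994380) (.leaf 15483892)))))))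

/-- A point of the block, part 520. -/
def ptCodePart520 : Janko1.Tree ℕ := (.node (.node (.node (.node (.node (.node (.leaf 5805537) (.leaf 13409889)) (.node (.leaf 13405821) (.leaf 12271986))) (.node (.node (.leaf 5801216) (.leaf 3951960)) (.node (.leaf 27466920) (.leaf 34168858)))) (.node (.node (.node (.leaf 9685564) (.leaf 29303048)) (.node (.leaf 6196693) (.leaf 7176214))) (.node (.node (.leaf 28136742) (.leaf 32935580)) (.node (.leaf 26791114) (.leaf 3710164))))) (.node (.node (.node (.node (.leaf 25400410) (.leaf 3707045)) (.node (.leaf 15504041) (.leaf 19159914))) (.node (.node (.leaf 5836782) (.leaf 18501844)) (.node (.leaf 2678944) (.leaf 31376434)))) (.node (.node (.node (.leaf 15814590) (.leaf 6868936)) (.node (.leaf 694636) (.leaf 10144516))) (.node (.node (.leaf 15486265) (.leaf 12911532)) (.node (.leaf 24956950) (.leaf 32692810)))))) (.node (.node (.node (.node (.node (.leaf 20893409) (.leaf 12263772)) (.node (.leaf 32934544) (.leaf 8160594))) (.node (.node (.leaf 12256622) (.leaf 15272672))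 (.node (.leaf 2678853) (.leaf 5080622)))) (.node (.node (.node (.leaf 2840106) (.leaf 18497686)) (.node (.leaf 34166013) (.leaf 3311672))) (.node (.node (.leaf 3809269) (.leaf 33464414)) (.node (.leaf 18503780) (.leaf 27467856))))) (.node (.node (.node (.node (.leaf 29606657) (.leaf 19571060)) (.node (.leaf 28645568) (.leaf 4790538))) (.node (.node (.leaf 9245134) (.leaf 22143222)) (.node (.leaf 35328186) (.leaf 11946621)))) (.node (.node (.node (.leaf 26659513) (.leaf 5083710)) (.node (.leaf 20894417) (.leaf 23675757))) (.node (.node (.leaf 31611378) (.leaf 33643084)) (.node (.leaf 34457640) (.leaf 34179552)))))))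

/-- A point of the block, part 521. -/
def ptCodePart521 : Janko1.Tree ℕ := (.node (.node (.node (.node (.node (.node (.leaf 8166128) (.leaf 21077018)) (.node (.leaf 13310162) (.leaf 3770032))) (.node (.node (.leaf 17253901) (.leaf 17256628)) (.node (.leaf 15272392) (.leaf 34456197)))) (.node (.node (.node (.leaf 3807121) (.leaf 32932908)) (.node (.leaf 31380473) (.leaf 10981336))) (.node (.node (.leaf 35329194) (.leaf 401078)) (.node (.leaf 10146470) (.leaf 23812722))))) (.node (.node (.node (.node (.leaf 4787002) (.leaf 15685674)) (.node (.leaf 32774234) (.leaf 32342629))) (.node (.node (.leaf 11472110) (.leaf 9930793)) (.node (.leaf 19891673) (.leaf 21626930)))) (.node (.node (.node (.leaf 17253368) (.leaf 4476342)) (.node (.leaf 21630953) (.leaf 27464844))) (.node (.node (.leaf 8115617) (.leaf 13976989)) (.node (.leaf 30624800) (.leaf 17782192)))))) (.node (.node (.node (.node (.node (.leaf 1857204) (.leaf 24170680)) (.node (.leaf 33295872) (.leaf 12731565))) (.node (.node (.leaf 24170164) (.leaf 14418393))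 (.node (.leaf 34362854) (.leaf 17912321)))) (.node (.node (.node (.leaf 24336245) (.leaf 689274)) (.node (.leaf 31907176) (.leaf 35330214))) (.node (.node (.leaf 15504758) (.leaf 11847081)) (.node (.leaf 25397438) (.leaf 19812512))))) (.node (.node (.node (.node (.leaf 349013) (.leaf 22533590)) (.node (.leaf 7459816) (.leaf 25003554))) (.node (.node (.leaf 12305624) (.leaf 33364873)) (.node (.leaf 24954334) (.leaf 22154268)))) (.node (.node (.node (.leaf 17914850) (.leaf 19846698)) (.node (.leaf 18059924) (.leaf 18058234))) (.node (.node (.leaf 26985948) (.leaf 25003276)) (.node (.leaf 17073026) (.leaf 23283858)))))))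

/-- A point of the block, part 522. -/
def ptCodePart522 : Janko1.Tree ℕ := (.node (.node (.node (.node (.node (.node (.leaf 19894120) (.leaf 6195769)) (.node (.leaf 9553186) (.leaf 22528261))) (.node (.node (.leaf 30495712) (.leaf 9248600)) (.node (.leaf 13405996) (.leaf 20040538)))) (.node (.node (.node (.leaf 20039869) (.leaf 6017124)) (.node (.leaf 24960922) (.leaf 17423493))) (.node (.node (.leaf 32772392) (.leaf 4788273)) (.node (.leaf 32167568) (.leaf 2891717))))) (.node (.node (.node (.node (.leaf 34461928) (.leaf 34167453)) (.node (.leaf 23677005) (.leaf 27762696))) (.node (.node (.leaf 14424518) (.leaf 13980500)) (.node (.leaf 21289917) (.leaf 30117132)))) (.node (.node (.node (.leaf 17843300) (.leaf 34460909)) (.node (.leaf 6198904) (.leaf 21680069))) (.node (.node (.leaf 30622905) (.leaf 27754592)) (.node (.leaf 25496176) (.leaf 30493785)))))) (.node (.node (.node (.node (.node (.leaf 33691080) (.leaf 33297641)) (.node (.leaf 19841302) (.leaf 2626445))) (.node (.node (.leaf 21077030) (.leaf 17974537))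 (.node (.leaf 25500642) (.leaf 2839041)))) (.node (.node (.node (.leaf 19159612) (.leaf 27053166)) (.node (.leaf 30626890) (.leaf 27760185))) (.node (.node (.leaf 35244865) (.leaf 5080734)) (.node (.leaf 15684212) (.leaf 10977616))))) (.node (.node (.node (.node (.leaf 10144977) (.leaf 19811817)) (.node (.leaf 12292592) (.leaf 10391361))) (.node (.node (.leaf 8964774) (.leaf 4489561)) (.node (.leaf 26861525) (.leaf 32769858)))) (.node (.node (.node (.leaf 1889500) (.leaf 24052841)) (.node (.leaf 24168184) (.leaf 25383501))) (.node (.node (.leaf 24170701) (.leaf 35325044)) (.node (.leaf 19813412) (.leaf 8225618)))))))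

/-- A point of the block, part 523. -/
def ptCodePart523 : Janko1.Tree ℕ := (.node (.node (.node (.node (.node (.node (.leaf 21629401) (.leaf 21566362)) (.node (.leaf 4415605) (.leaf 15483573))) (.node (.node (.leaf 10149660) (.leaf 31379556)) (.node (.leaf 18045197) (.leaf 34177841)))) (.node (.node (.node (.leaf 20071322) (.leaf 11475197)) (.node (.leaf 32933493) (.leaf 30053345))) (.node (.node (.leaf 22153769) (.leaf 15680548)) (.node (.leaf 25861485) (.leaf 33686990))))) (.node (.node (.node (.node (.leaf 27664573) (.leaf 32688161)) (.node (.leaf 3807072) (.leaf 13983724))) (.node (.node (.leaf 34168540) (.leaf 34169169)) (.node (.leaf 27760404) (.leaf 29262090)))) (.node (.node (.node (.leaf 10998502) (.leaf 21634077)) (.node (.leaf 4250170) (.leaf 18502754))) (.node (.node (.leaf 2836004) (.leaf 12732328)) (.node (.leaf 15734788) (.leaf 15687700)))))) (.node (.node (.node (.node (.node (.leaf 5886754) (.leaf 15992657)) (.node (.leaf 20578722) (.leaf 19843033))) (.node (.node (.leaf 7882293) (.leaf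 15278472)) (.node (.leaf 3034141) (.leaf 32165592)))) (.node (.node (.node (.leaf 26656884) (.leaf 11472833)) (.node (.leaf 27771753) (.leaf 1082556))) (.node (.node (.leaf 2840766) (.leaf 4495592)) (.node (.leaf 27660133) (.leaf 23285566))))) (.node (.node (.node (.node (.leaf 9556561) (.leaf 33644866)) (.node (.leaf 9050114) (.leaf 33364702))) (.node (.node (.leaf 30121488) (.leaf 35310046)) (.node (.leaf 28873082) (.leaf 20892820)))) (.node (.node (.node (.leaf 31378885) (.leaf 8166672)) (.node (.leaf 10046013) (.leaf 22138357))) (.node (.node (.leaf 12256918) (.leaf 31609192)) (.node (.leaf 17779090) (.leaf 30493793)))))))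

/-- A point of the block, part 524. -/
def ptCodePart524 : Janko1.Tree ℕ := (.node (.node (.node (.node (.node (.node (.leaf 20289496) (.leaf 16062481)) (.node (.leaf 9687114) (.leaf 1884877))) (.node (.node (.leaf 31378661) (.leaf 21072450)) (.node (.leaf 26855029) (.leaf 7180152)))) (.node (.node (.node (.leaf 32183410) (.leaf 32198045)) (.node (.leaf 29262653) (.leaf 33234613))) (.node (.node (.leaf 20583982) (.leaf 32185849)) (.node (.leaf 35246374) (.leaf 15272174))))) (.node (.node (.node (.node (.leaf 25859572) (.leaf 22141633)) (.node (.leaf 32688836) (.leaf 6870397))) (.node (.node (.leaf 4492182) (.leaf 29311842)) (.node (.leaf 32250534) (.leaf 5883022)))) (.node (.node (.node (.leaf 7881602) (.leaf 1889898)) (.node (.leaf 23810650) (.leaf 32446714))) (.node (.node (.leaf 20287608) (.leaf 10142544)) (.node (.leaf 3167558) (.leaf 23908146)))))) (.node (.node (.node (.node (.node (.leaf 6019902) (.leaf 10522381)) (.node (.leaf 30628380) (.leaf 23813266))) (.node (.node (.leaf 17915606) (.leaf 3708620))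 (.node (.leaf 16941094) (.leaf 20042410)))) (.node (.node (.node (.leaf 398341) (.leaf 32245908)) (.node (.leaf 20044304) (.leaf 3591541))) (.node (.node (.leaf 12292664) (.leaf 8160334)) (.node (.leaf 27755284) (.leaf 9407140))))) (.node (.node (.node (.node (.leaf 3315757) (.leaf 33442464)) (.node (.leaf 12279452) (.leaf 5885206))) (.node (.node (.leaf 25445858) (.leaf 16944153)) (.node (.leaf 34365672) (.leaf 4784437)))) (.node (.node (.node (.leaf 3965269) (.leaf 29114918)) (.node (.leaf 20075625) (.leaf 15501936))) (.node (.node (.leaf 3956533) (.leaf 33462869)) (.node (.leaf 33463253) (.leaf 23904592)))))))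

/-- A point of the block, part 525. -/
def ptCodePart525 : Janko1.Tree ℕ := (.node (.node (.node (.node (.node (.node (.leaf 13981584) (.leaf 27465808)) (.node (.leaf 3709786) (.leaf 27662128))) (.node (.node (.leaf 27050598) (.leaf 4251413)) (.node (.leaf 9691552) (.leaf 9410078)))) (.node (.node (.node (.leaf 20288985) (.leaf 32180085)) (.node (.leaf 5841334) (.leaf 30121517))) (.node (.node (.leaf 26985104) (.leaf 7570348)) (.node (.leaf 7184026) (.leaf 10392181))))) (.node (.node (.node (.node (.leaf 23285498) (.leaf 9556429)) (.node (.leaf 15683033) (.leaf 27663352))) (.node (.node (.leaf 25004537) (.leaf 3972805)) (.node (.leaf 4477225) (.leaf 28875573)))) (.node (.node (.node (.leaf 30051482) (.leaf 9617744)) (.node (.leaf 19569554) (.leaf 7184453))) (.node (.node (.leaf 21567973) (.leaf 30497841)) (.node (.leaf 19891978) (.leaf 2622502)))))) (.node (.node (.node (.node (.node (.leaf 35324512) (.leaf 3971210)) (.node (.leaf 33229633) (.leaf 32198321))) (.node (.node (.leaf 30621850) (.leaf 21221745))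 (.node (.leaf 3546953) (.leaf 32168576)))) (.node (.node (.node (.leaf 32245068) (.leaf 24053153)) (.node (.leaf 33295570) (.leaf 21678742))) (.node (.node (.leaf 19154102) (.leaf 30051297)) (.node (.leaf 2887196) (.leaf 35329946))))) (.node (.node (.node (.node (.leaf 13310300) (.leaf 4490318)) (.node (.leaf 18044845) (.leaf 5882997))) (.node (.node (.leaf 26854538) (.leaf 14419642)) (.node (.leaf 29678420) (.leaf 20890053)))) (.node (.node (.node (.leaf 2676380) (.leaf 30122224)) (.node (.leaf 19846454) (.leaf 20582066))) (.node (.node (.leaf 26794156) (.leaf 3774913)) (.node (.leaf 31821961) (.leaf 2100140)))))))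

/-- A point of the block, part 526. -/
def ptCodePart526 : Janko1.Tree ℕ := (.node (.node (.node (.node (.node (.node (.leaf 13311790) (.leaf 22153796)) (.node (.leaf 23814001) (.leaf 2104738))) (.node (.node (.leaf 17080086) (.leaf 23810614)) (.node (.leaf 35311104) (.leaf 7576869)))) (.node (.node (.node (.leaf 18062689) (.leaf 27657120)) (.node (.leaf 5119746) (.leaf 12311802))) (.node (.node (.leaf 8167446) (.leaf 25386901)) (.node (.leaf 3595214) (.leaf 17846648))))) (.node (.node (.node (.node (.leaf 10520793) (.leaf 30513908)) (.node (.leaf 30626649) (.leaf 28134718))) (.node (.node (.leaf 2100548) (.leaf 2623102)) (.node (.leaf 3806385) (.leaf 9619961)))) (.node (.node (.node (.leaf 2625644) (.leaf 4409113)) (.node (.leaf 21680693) (.leaf 21679525))) (.node (.node (.leaf 6868968) (.leaf 10994798)) (.node (.leaf 10061637) (.leaf 2628870)))))) (.node (.node (.node (.node (.node (.leaf 33164289) (.leaf 33464300)) (.node (.leaf 8167029) (.leaf 7576810))) (.node (.node (.leaf 20283934) (.leaf 32938684))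 (.node (.leaf 24960529) (.leaf 15271886)))) (.node (.node (.node (.leaf 19845510) (.leaf 28873572)) (.node (.leaf 10394401) (.leaf 5116526))) (.node (.node (.leaf 21682517) (.leaf 23683110)) (.node (.leaf 9933328) (.leaf 33693230))))) (.node (.node (.node (.node (.leaf 2838829) (.leaf 12289938)) (.node (.leaf 25004678) (.leaf 21634449))) (.node (.node (.leaf 33440081) (.leaf 9050284)) (.node (.leaf 1885049) (.leaf 29674130)))) (.node (.node (.node (.leaf 28641230) (.leaf 3709209)) (.node (.leaf 24953985) (.leaf 25399238))) (.node (.node (.leaf 22536606) (.leaf 7462002)) (.node (.leaf 12295889) (.leaf 9555424)))))))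

/-- A point of the block, part 527. -/
def ptCodePart527 : Janko1.Tree ℕ := (.node (.node (.node (.node (.node (.node (.leaf 33457016) (.leaf 23286348)) (.node (.leaf 5524930) (.leaf 27771324))) (.node (.node (.leaf 6197122) (.leaf 15507721)) (.node (.leaf 21282942) (.leaf 19846618)))) (.node (.node (.node (.leaf 10983937) (.leaf 26659565)) (.node (.leaf 3317573) (.leaf 3542868))) (.node (.node (.leaf 30120177) (.leaf 12258630)) (.node (.leaf 23906406) (.leaf 27057481))))) (.node (.node (.node (.node (.leaf 22155401) (.leaf 20581100)) (.node (.leaf 9247934) (.leaf 1892136))) (.node (.node (.leaf 10994493) (.leaf 3593058)) (.node (.leaf 7883404) (.leaf 2627136)))) (.node (.node (.node (.leaf 30507620) (.leaf 25854533)) (.node (.leaf 33687612) (.leaf 5112934))) (.node (.node (.leaf 1086205) (.leaf 24775064)) (.node (.leaf 12273572) (.leaf 6201062)))))) (.node (.node (.node (.node (.node (.leaf 12289426) (.leaf 10065597)) (.node (.leaf 24332946) (.leaf 35307861))) (.node (.node (.leaf 9936548) (.leaf 3539629))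 (.node (.leaf 30496037) (.leaf 6021342)))) (.node (.node (.node (.leaf 20291656) (.leaf 15995304)) (.node (.leaf 5085398) (.leaf 6019329))) (.node (.node (.leaf 8460633) (.leaf 27772545)) (.node (.leaf 17782726) (.leaf 15735917))))) (.node (.node (.node (.node (.leaf 17418866) (.leaf 15490178)) (.node (.leaf 4249105) (.leaf 17780680))) (.node (.node (.leaf 348106) (.leaf 7571756)) (.node (.leaf 26796205) (.leaf 17308062)))) (.node (.node (.node (.leaf 9409898) (.leaf 3966602)) (.node (.leaf 19158860) (.leaf 33442126))) (.node (.node (.leaf 15273577) (.leaf 28137122)) (.node (.leaf 12738293) (.leaf 16057810)))))))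

/-- A point of the block, part 528. -/
def ptCodePart528 : Janko1.Tree ℕ := (.node (.node (.node (.node (.node (.node (.leaf 28383288) (.leaf 7461394)) (.node (.leaf 7882333) (.leaf 30513548))) (.node (.node (.leaf 19155720) (.leaf 28136680)) (.node (.leaf 4787609) (.leaf 5522401)))) (.node (.node (.node (.leaf 2101116) (.leaf 29678352)) (.node (.leaf 9246397) (.leaf 8227442))) (.node (.node (.leaf 19563824) (.leaf 25713434)) (.node (.leaf 13309440) (.leaf 10520108))))) (.node (.node (.node (.node (.leaf 4412952) (.leaf 22534822)) (.node (.leaf 4496741) (.leaf 3949718))) (.node (.node (.leaf 26853864) (.leaf 3970729)) (.node (.leaf 33689126) (.leaf 21289869)))) (.node (.node (.node (.leaf 33163644) (.leaf 25451401)) (.node (.leaf 34363780) (.leaf 2101934))) (.node (.node (.leaf 17259050) (.leaf 17844846)) (.node (.leaf 5527688) (.leaf 12306825)))))) (.node (.node (.node (.node (.node (.leaf 33297446) (.leaf 1086050)) (.node (.leaf 4411520) (.leaf 12272270))) (.node (.node (.leaf 10051252) (.leaf 25002985))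 (.node (.leaf 14422602) (.leaf 31610942)))) (.node (.node (.node (.leaf 8458545) (.leaf 32441570)) (.node (.leaf 2627777) (.leaf 20073881))) (.node (.node (.leaf 10047565) (.leaf 5527608)) (.node (.leaf 34181886) (.leaf 25448630))))) (.node (.node (.node (.node (.leaf 19564836) (.leaf 32247148)) (.node (.leaf 26992321) (.leaf 2673905))) (.node (.node (.leaf 23286356) (.leaf 33440933)) (.node (.leaf 8966366) (.leaf 4248216)))) (.node (.node (.node (.leaf 32687684) (.leaf 1855037)) (.node (.leaf 29676916) (.leaf 10389385))) (.node (.node (.leaf 32441737) (.leaf 11474394)) (.node (.leaf 34179982) (.leaf 8966310)))))))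

/-- A point of the block, part 529. -/
def ptCodePart529 : Janko1.Tree ℕ := (.node (.node (.node (.node (.node (.node (.leaf 12295065) (.leaf 17781930)) (.node (.leaf 21224716) (.leaf 33640224))) (.node (.node (.leaf 3710696) (.leaf 2674012)) (.node (.leaf 3596333) (.leaf 2839418)))) (.node (.node (.node (.leaf 13981633) (.leaf 30121586)) (.node (.leaf 17416628) (.leaf 9690021))) (.node (.node (.leaf 26991692) (.leaf 33458173)) (.node (.leaf 25711882) (.leaf 25710108))))) (.node (.node (.node (.node (.leaf 10065108) (.leaf 3776164)) (.node (.leaf 29116029) (.leaf 12290944))) (.node (.node (.leaf 10999616) (.leaf 27467812)) (.node (.leaf 7886269) (.leaf 9045750)))) (.node (.node (.node (.leaf 11848337) (.leaf 9691321)) (.node (.leaf 20077592) (.leaf 10997022))) (.node (.node (.leaf 15271405) (.leaf 32166338)) (.node (.leaf 25862425) (.leaf 17304450)))))) (.node (.node (.node (.node (.node (.leaf 3806002) (.leaf 33229961)) (.node (.leaf 9046144) (.leaf 17913236))) (.node (.node (.leaf 24779537) (.leaf 5116008))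 (.node (.leaf 11854010) (.leaf 17259201)))) (.node (.node (.node (.leaf 21224449) (.leaf 28643352)) (.node (.leaf 27053074) (.leaf 20077712))) (.node (.node (.leaf 27464990) (.leaf 15500801)) (.node (.leaf 12278065) (.leaf 32443998))))) (.node (.node (.node (.node (.leaf 7573442) (.leaf 8964816)) (.node (.leaf 12914480) (.leaf 3031060))) (.node (.node (.leaf 20897034) (.leaf 26664866)) (.node (.leaf 32775405) (.leaf 21224068)))) (.node (.node (.node (.leaf 11952258) (.leaf 29610456)) (.node (.leaf 26861604) (.leaf 12279704))) (.node (.node (.leaf 11847520) (.leaf 20077333)) (.node (.leaf 25859414) (.leaf 7883692)))))))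

/-- A point of the block, part 530. -/
def ptCodePart530 : Janko1.Tree ℕ := (.node (.node (.node (.node (.node (.node (.leaf 29676772) (.leaf 21285580)) (.node (.leaf 5801678) (.leaf 19848033))) (.node (.node (.leaf 24057225) (.leaf 33162646)) (.node (.leaf 27058496) (.leaf 11473682)))) (.node (.node (.node (.leaf 22137174) (.leaf 17308486)) (.node (.leaf 27055042) (.leaf 11949402))) (.node (.node (.leaf 32199360) (.leaf 24059280)) (.node (.leaf 25450772) (.leaf 1888622))))) (.node (.node (.node (.node (.leaf 11472897) (.leaf 17848393)) (.node (.leaf 35249941) (.leaf 27462666))) (.node (.node (.leaf 28133222) (.leaf 9246389)) (.node (.leaf 9409830) (.leaf 20042584)))) (.node (.node (.node (.leaf 23676546) (.leaf 23682584)) (.node (.leaf 3543137) (.leaf 17913468))) (.node (.node (.leaf 17973737) (.leaf 15485381)) (.node (.leaf 15815524) (.leaf 3310720)))))) (.node (.node (.node (.node (.node (.leaf 10985858) (.leaf 11946464)) (.node (.leaf 9620630) (.leaf 32345429))) (.node (.node (.leaf 17780637) (.leaf 5523216))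 (.node (.leaf 10395772) (.leaf 9932442)))) (.node (.node (.node (.leaf 16942005) (.leaf 30514890)) (.node (.leaf 31908178) (.leaf 29263342))) (.node (.node (.leaf 31819933) (.leaf 25403232)) (.node (.leaf 33295108) (.leaf 24776849))))) (.node (.node (.node (.node (.leaf 5525577) (.leaf 28644145)) (.node (.leaf 25498574) (.leaf 15731524))) (.node (.node (.leaf 793284) (.leaf 793377)) (.node (.leaf 3951089) (.leaf 35316008)))) (.node (.node (.node (.leaf 3168405) (.leaf 12308621)) (.node (.leaf 32440848) (.leaf 1885749))) (.node (.node (.leaf 17256401) (.leaf 32771708)) (.node (.leaf 9621984) (.leaf 9407925)))))))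

/-- A point of the block, part 531. -/
def ptCodePart531 : Janko1.Tree ℕ := (.node (.node (.node (.node (.node (.node (.leaf 696244) (.leaf 27055772)) (.node (.leaf 19816509) (.leaf 5885377))) (.node (.node (.leaf 34361962) (.leaf 30053665)) (.node (.leaf 22156593) (.leaf 26794833)))) (.node (.node (.node (.leaf 8454738) (.leaf 29114888)) (.node (.leaf 25499856) (.leaf 27462446))) (.node (.node (.leaf 3589192) (.leaf 24336880)) (.node (.leaf 791121) (.leaf 17974849))))) (.node (.node (.node (.node (.leaf 9045769) (.leaf 17306329)) (.node (.leaf 26789720) (.leaf 25386230))) (.node (.node (.leaf 12307384) (.leaf 401254)) (.node (.leaf 10065196) (.leaf 3592125)))) (.node (.node (.node (.leaf 29300273) (.leaf 2839245)) (.node (.leaf 3162202) (.leaf 21070196))) (.node (.node (.leaf 16945777) (.leaf 12296305)) (.node (.leaf 3951721) (.leaf 33359626)))))) (.node (.node (.node (.node (.node (.leaf 33459901) (.leaf 2892173)) (.node (.leaf 21565080) (.leaf 5113385))) (.node (.node (.leaf 20290178) (.leaf 6021222))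 (.node (.leaf 32687269) (.leaf 22136009)))) (.node (.node (.node (.leaf 32345897) (.leaf 4474500)) (.node (.leaf 9617930) (.leaf 2097965))) (.node (.node (.leaf 23675633) (.leaf 19815066)) (.node (.leaf 401302) (.leaf 15815544))))) (.node (.node (.node (.node (.leaf 32773060) (.leaf 33358686)) (.node (.leaf 21286412) (.leaf 2377858))) (.node (.node (.leaf 9408169) (.leaf 29319064)) (.node (.leaf 30627553) (.leaf 34364649)))) (.node (.node (.node (.leaf 17422741) (.leaf 34458016)) (.node (.leaf 28646733) (.leaf 9245808))) (.node (.node (.leaf 31825245) (.leaf 9689476)) (.node (.leaf 16060836) (.leaf 20898120)))))))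

/-- A point of the block, part 532. -/
def ptCodePart532 : Janko1.Tree ℕ := (.node (.node (.node (.node (.node (.node (.leaf 27052034) (.leaf 4250561)) (.node (.leaf 15736820) (.leaf 4494249))) (.node (.node (.leaf 690170) (.leaf 2890125)) (.node (.leaf 19569354) (.leaf 29318706)))) (.node (.node (.node (.leaf 15687270) (.leaf 10047266)) (.node (.leaf 25497234) (.leaf 31379158))) (.node (.node (.leaf 26658472) (.leaf 33690040)) (.node (.leaf 25403584) (.leaf 31820652))))) (.node (.node (.node (.node (.leaf 32441558) (.leaf 25855460)) (.node (.leaf 12263252) (.leaf 1089434))) (.node (.node (.leaf 22141301) (.leaf 9557822)) (.node (.leaf 20896620) (.leaf 27777768)))) (.node (.node (.node (.leaf 13404766) (.leaf 17908245)) (.node (.leaf 25379660) (.leaf 11951858))) (.node (.node (.leaf 5084529) (.leaf 5890329)) (.node (.leaf 30628036) (.leaf 9408190)))))) (.node (.node (.node (.node (.node (.leaf 18043120) (.leaf 23808361)) (.node (.leaf 34459525) (.leaf 13402857))) (.node (.node (.leaf 15998910) (.leaf 1086668))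 (.node (.leaf 793517) (.leaf 6869334)))) (.node (.node (.node (.leaf 17980856) (.leaf 25710526)) (.node (.leaf 19809092) (.leaf 25860293))) (.node (.node (.leaf 18497901) (.leaf 17848224)) (.node (.leaf 3165778) (.leaf 35244593))))) (.node (.node (.node (.node (.leaf 692696) (.leaf 3971454)) (.node (.leaf 3163134) (.leaf 17252461))) (.node (.node (.leaf 12730861) (.leaf 18045098)) (.node (.leaf 24953942) (.leaf 21289977)))) (.node (.node (.node (.leaf 21567026) (.leaf 1884752)) (.node (.leaf 28136506) (.leaf 23281850))) (.node (.node (.leaf 17256485) (.leaf 4473532)) (.node (.leaf 20581998) (.leaf 9552721)))))))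

/-- A point of the block, part 533. -/
def ptCodePart533 : Janko1.Tree ℕ := (.node (.node (.node (.node (.node (.node (.leaf 25709000) (.leaf 10143698)) (.node (.leaf 347858) (.leaf 29613210))) (.node (.node (.leaf 7575465) (.leaf 24954696)) (.node (.leaf 8227862) (.leaf 5800445)))) (.node (.node (.node (.leaf 10520577) (.leaf 32165478)) (.node (.leaf 17417545) (.leaf 18055465))) (.node (.node (.leaf 9247845) (.leaf 13979360)) (.node (.leaf 17980768) (.leaf 29120937))))) (.node (.node (.node (.node (.leaf 5529333) (.leaf 17304093)) (.node (.leaf 8458994) (.leaf 10998685))) (.node (.node (.leaf 21074548) (.leaf 6195566)) (.node (.leaf 9050162) (.leaf 29606254)))) (.node (.node (.node (.leaf 29678573) (.leaf 3315613)) (.node (.leaf 3773828) (.leaf 9618968))) (.node (.node (.leaf 32692693) (.leaf 4251145)) (.node (.leaf 32687452) (.leaf 690892)))))) (.node (.node (.node (.node (.node (.leaf 20583530) (.leaf 16062102)) (.node (.leaf 34183562) (.leaf 34458736))) (.node (.node (.leaf 26985337) (.leaf 12914048))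 (.node (.leaf 1851576) (.leaf 347024)))) (.node (.node (.node (.leaf 24777585) (.leaf 17076928)) (.node (.leaf 28328466) (.leaf 3775844))) (.node (.node (.leaf 6867914) (.leaf 5836552)) (.node (.leaf 4002265) (.leaf 31905454))))) (.node (.node (.node (.node (.leaf 27663994) (.leaf 34360005)) (.node (.leaf 3310504) (.leaf 17910629))) (.node (.node (.leaf 32245817) (.leaf 13978245)) (.node (.leaf 32200333) (.leaf 4784318)))) (.node (.node (.node (.leaf 7461812) (.leaf 17073588)) (.node (.leaf 8115765) (.leaf 17418128))) (.node (.node (.leaf 32343226) (.leaf 1087973)) (.node (.leaf 25449196) (.leaf 15996412)))))))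

/-- A point of the block, part 534. -/
def ptCodePart534 : Janko1.Tree ℕ := (.node (.node (.node (.node (.node (.node (.leaf 8457692) (.leaf 5836500)) (.node (.leaf 17780237) (.leaf 10524152))) (.node (.node (.leaf 15729837) (.leaf 9932593)) (.node (.leaf 29312204) (.leaf 20291832)))) (.node (.node (.node (.leaf 15992356) (.leaf 10523938)) (.node (.leaf 3775425) (.leaf 349082))) (.node (.node (.leaf 19894708) (.leaf 29263453)) (.node (.leaf 21563094) (.leaf 15732720))))) (.node (.node (.node (.node (.leaf 5087172) (.leaf 5805830)) (.node (.leaf 8963762) (.leaf 788465))) (.node (.node (.leaf 33167966) (.leaf 5890437)) (.node (.leaf 12912122) (.leaf 29301198)))) (.node (.node (.node (.leaf 25004818) (.leaf 29120520)) (.node (.leaf 30120680) (.leaf 21223706))) (.node (.node (.leaf 19564412) (.leaf 10395309)) (.node (.leaf 793113) (.leaf 8110284)))))) (.node (.node (.node (.node (.node (.leaf 7181226) (.leaf 5113069)) (.node (.leaf 20290202) (.leaf 31607221))) (.node (.node (.leaf 35313536) (.leaf 5836584)) (.node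 (.leaf 4480888) (.leaf 399038)))) (.node (.node (.node (.leaf 23908562) (.leaf 26860893)) (.node (.leaf 15729700) (.leaf 5804290))) (.node (.node (.leaf 8228297) (.leaf 25501017)) (.node (.leaf 9620661) (.leaf 28133313))))) (.node (.node (.node (.node (.leaf 24776058) (.leaf 3313890)) (.node (.leaf 4790102) (.leaf 31824662))) (.node (.node (.leaf 29267630) (.leaf 16059192)) (.node (.leaf 394914) (.leaf 27771184)))) (.node (.node (.node (.leaf 19810458) (.leaf 3774414)) (.node (.leaf 13307561) (.leaf 8114758))) (.node (.node (.leaf 12272961) (.leaf 20044910)) (.node (.leaf 22153848) (.leaf 31821178)))))))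

/-- A point of the block, part 535. -/
def ptCodePart535 : Janko1.Tree ℕ := (.node (.node (.node (.node (.node (.node (.leaf 32769792) (.leaf 3770270)) (.node (.leaf 10984977) (.leaf 4490489))) (.node (.node (.leaf 8117246) (.leaf 29298726)) (.node (.leaf 3542584) (.leaf 22533484)))) (.node (.node (.node (.leaf 27656756) (.leaf 17844956)) (.node (.leaf 10044088) (.leaf 10985792))) (.node (.node (.leaf 33235233) (.leaf 3037205)) (.node (.leaf 10387889) (.leaf 10996826))))) (.node (.node (.node (.node (.leaf 27757441) (.leaf 29265356)) (.node (.leaf 21565518) (.leaf 10060020))) (.node (.node (.leaf 11948664) (.leaf 10045429)) (.node (.leaf 21075664) (.leaf 25448713)))) (.node (.node (.node (.leaf 33637484) (.leaf 34165450)) (.node (.leaf 24338358) (.leaf 25400214))) (.node (.node (.leaf 3807962) (.leaf 30494842)) (.node (.leaf 12733622) (.leaf 34168060)))))) (.node (.node (.node (.node (.node (.leaf 29300329) (.leaf 394766)) (.node (.leaf 19891365) (.leaf 17418422))) (.node (.node (.leaf 34181462) (.leaf 350770))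 (.node (.leaf 6873109) (.leaf 27659985)))) (.node (.node (.node (.leaf 27772740) (.leaf 32687261)) (.node (.leaf 8456554) (.leaf 32939180))) (.node (.node (.leaf 25400137) (.leaf 26791844)) (.node (.leaf 17308414) (.leaf 3031144))))) (.node (.node (.node (.node (.leaf 29270085) (.leaf 5526530)) (.node (.leaf 11476100) (.leaf 12255522))) (.node (.node (.leaf 32246353) (.leaf 29614372)) (.node (.leaf 25713013) (.leaf 29296942)))) (.node (.node (.node (.leaf 26663097) (.leaf 2884228)) (.node (.leaf 20580741) (.leaf 9406936))) (.node (.node (.leaf 0) (.leaf 0)) (.node (.leaf 0) (.leaf 0)))))))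

/-- A point of the block, part 536. -/
def ptCodePart536 : Janko1.Tree ℕ := (.node (.node (.node (.node (.node (.node (.leaf 0) (.leaf 0)) (.node (.leaf 0) (.leaf 0))) (.node (.node (.leaf 0) (.leaf 0)) (.node (.leaf 0) (.leaf 0)))) (.node (.node (.node (.leaf 0) (.leaf 0)) (.node (.leaf 0) (.leaf 0))) (.node (.node (.leaf 0) (.leaf 0)) (.node (.leaf 0) (.leaf 0))))) (.node (.node (.node (.node (.leaf 0) (.leaf 0)) (.node (.leaf 0) (.leaf 0))) (.node (.node (.leaf 0) (.leaf 0)) (.node (.leaf 0) (.leaf 0)))) (.node (.node (.node (.leaf 0) (.leaf 0)) (.node (.leaf 0) (.leaf 0))) (.node (.node (.leaf 0) (.leaf 0)) (.node (.leaf 0) (.leaf 0)))))) (.node (.node (.node (.node (.node (.leaf 0) (.leaf 0)) (.node (.leaf 0) (.leaf 0))) (.node (.node (.leaf 0) (.leaf 0)) (.node (.leaf 0) (.leaf 0)))) (.node (.node (.node (.leaf 0) (.leaf 0)) (.node (.leaf 0) (.leaf 0))) (.node (.node (.leaf 0) (.leaf 0)) (.node (.leaf 0) (.leaf 0))))) (.node (.node (.node (.node (.leaf 0) (.leaf 0)) (.node (.leaf 0) (.leaf 0))) (.node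 (.node (.leaf 0) (.leaf 0)) (.node (.leaf 0) (.leaf 0)))) (.node (.node (.node (.leaf 0) (.leaf 0)) (.node (.leaf 0) (.leaf 0))) (.node (.node (.leaf 0) (.leaf 0)) (.node (.leaf 0) (.leaf 0)))))))

/-- A point of the block, part 537. -/
def ptCodePart537 : Janko1.Tree ℕ := (.node (.node (.node (.node (.node (.node (.leaf 0) (.leaf 0)) (.node (.leaf 0) (.leaf 0))) (.node (.node (.leaf 0) (.leaf 0)) (.node (.leaf 0) (.leaf 0)))) (.node (.node (.node (.leaf 0) (.leaf 0)) (.node (.leaf 0) (.leaf 0))) (.node (.node (.leaf 0) (.leaf 0)) (.node (.leaf 0) (.leaf 0))))) (.node (.node (.node (.node (.leaf 0) (.leaf 0)) (.node (.leaf 0) (.leaf 0))) (.node (.node (.leaf 0) (.leaf 0)) (.node (.leaf 0) (.leaf 0)))) (.node (.node (.node (.leaf 0) (.leaf 0)) (.node (.leaf 0) (.leaf 0))) (.node (.node (.leaf 0) (.leaf 0)) (.node (.leaf 0) (.leaf 0)))))) (.node (.node (.node (.node (.node (.leaf 0) (.leaf 0)) (.node (.leaf 0) (.leaf 0))) (.node (.node (.leaf 0) (.leaf 0)) (.node (.leaf 0) (.leaf 0)))) (.node (.node (.node (.leaf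 0) (.leaf 0)) (.node (.leaf 0) (.leaf 0))) (.node (.node (.leaf 0) (.leaf 0)) (.node (.leaf 0) (.leaf 0))))) (.node (.node (.node (.node (.leaf 0) (.leaf 0)) (.node (.leaf 0) (.leaf 0))) (.node (.node (.leaf 0) (.leaf 0)) (.node (.leaf 0) (.leaf 0)))) (.node (.node (.node (.leaf 0) (.leaf 0)) (.node (.leaf 0) (.leaf 0))) (.node (.node (.leaf 0) (.leaf 0)) (.node (.leaf 0) (.leaf 0)))))))

/-- A point of the block, part 538. -/
def ptCodePart538 : Janko1.Tree ℕ := (.node (.node (.node (.node (.node (.node (.leaf 0) (.leaf 0)) (.node (.leaf 0) (.leaf 0))) (.node (.node (.leaf 0) (.leaf 0)) (.node (.leaf 0) (.leaf 0)))) (.node (.node (.node (.leaf 0) (.leaf 0)) (.node (.leaf 0) (.leaf 0))) (.node (.node (.leaf 0) (.leaf 0)) (.node (.leaf 0) (.leaf 0))))) (.node (.node (.node (.node (.leaf 0) (.leaf 0)) (.node (.leaf 0) (.leaf 0))) (.node (.node (.leaf 0) (.leaf 0)) (.node (.leaf 0) (.leaf 0)))) (.node (.node (.node (.leaf 0) (.leaf 0)) (.node (.leaf 0) (.leaf 0))) (.node (.node (.leaf 0) (.leaf 0)) (.node (.leaf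 0) (.leaf 0)))))) (.node (.node (.node (.node (.node (.leaf 0) (.leaf 0)) (.node (.leaf 0) (.leaf 0))) (.node (.node (.leaf 0) (.leaf 0)) (.node (.leaf 0) (.leaf 0)))) (.node (.node (.node (.leaf 0) (.leaf 0)) (.node (.leaf 0) (.leaf 0))) (.node (.node (.leaf 0) (.leaf 0)) (.node (.leaf 0) (.leaf 0))))) (.node (.node (.node (.node (.leaf 0) (.leaf 0)) (.node (.leaf 0) (.leaf 0))) (.node (.node (.leaf 0) (.leaf 0)) (.node (.leaf 0) (.leaf 0)))) (.node (.node (.node (.leaf 0) (.leaf 0)) (.node (.leaf 0) (.leaf 0))) (.node (.node (.leaf 0) (.leaf 0)) (.node (.leaf 0) (.leaf 0)))))))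

/-- A point of the block, part 539. -/
def ptCodePart539 : Janko1.Tree ℕ := (.node (.node (.node (.node (.node (.node (.leaf 0) (.leaf 0)) (.node (.leaf 0) (.leaf 0))) (.node (.node (.leaf 0) (.leaf 0)) (.node (.leaf 0) (.leaf 0)))) (.node (.node (.node (.leaf 0) (.leaf 0)) (.node (.leaf 0) (.leaf 0))) (.node (.node (.leaf 0) (.leaf 0)) (.node (.leaf 0) (.leaf 0))))) (.node (.node (.node (.node (.leaf 0) (.leaf 0)) (.node (.leaf 0) (.leaf 0))) (.node (.node (.leaf 0) (.leaf 0)) (.node (.leaf 0) (.leaf 0)))) (.node (.node (.node (.leaf 0) (.leaf 0)) (.node (.leaf 0) (.leaf 0))) (.node (.node (.leaf 0) (.leaf 0)) (.node (.leaf 0) (.leaf 0)))))) (.node (.node (.node (.node (.node (.leaf 0) (.leaf 0)) (.node (.leaf 0) (.leaf 0))) (.node (.node (.leaf 0) (.leaf 0)) (.node (.leaf 0) (.leaf 0)))) (.node (.node (.node (.leaf 0) (.leaf 0)) (.node (.leaf 0) (.leaf 0))) (.node (.node (.leaf 0) (.leaf 0)) (.node (.leaf 0) (.leaf 0))))) (.node (.node (.node (.node (.leaf 0) (.leaf 0)) (.node (.leaf 0) (.leaf 0))) (.node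 (.node (.leaf 0) (.leaf 0)) (.node (.leaf 0) (.leaf 0)))) (.node (.node (.node (.leaf 0) (.leaf 0)) (.node (.leaf 0) (.leaf 0))) (.node (.node (.leaf 0) (.leaf 0)) (.node (.leaf 0) (.leaf 0)))))))

/-- A point of the block, part 540. -/
def ptCodePart540 : Janko1.Tree ℕ := (.node (.node (.node (.node (.node (.node (.leaf 0) (.leaf 0)) (.node (.leaf 0) (.leaf 0))) (.node (.node (.leaf 0) (.leaf 0)) (.node (.leaf 0) (.leaf 0)))) (.node (.node (.node (.leaf 0) (.leaf 0)) (.node (.leaf 0) (.leaf 0))) (.node (.node (.leaf 0) (.leaf 0)) (.node (.leaf 0) (.leaf 0))))) (.node (.node (.node (.node (.leaf 0) (.leaf 0)) (.node (.leaf 0) (.leaf 0))) (.node (.node (.leaf 0) (.leaf 0)) (.node (.leaf 0) (.leaf 0)))) (.node (.node (.node (.leaf 0) (.leaf 0)) (.node (.leaf 0) (.leaf 0))) (.node (.node (.leaf 0) (.leaf 0)) (.node (.leaf 0) (.leaf 0)))))) (.node (.node (.node (.node (.node (.leaf 0) (.leaf 0)) (.node (.leaf 0) (.leaf 0))) (.node (.node (.leaf 0) (.leaf 0)) (.node (.leaf 0) (.leaf 0)))) (.node (.node (.node (.leaf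 0) (.leaf 0)) (.node (.leaf 0) (.leaf 0))) (.node (.node (.leaf 0) (.leaf 0)) (.node (.leaf 0) (.leaf 0))))) (.node (.node (.node (.node (.leaf 0) (.leaf 0)) (.node (.leaf 0) (.leaf 0))) (.node (.node (.leaf 0) (.leaf 0)) (.node (.leaf 0) (.leaf 0)))) (.node (.node (.node (.leaf 0) (.leaf 0)) (.node (.leaf 0) (.leaf 0))) (.node (.node (.leaf 0) (.leaf 0)) (.node (.leaf 0) (.leaf 0)))))))

/-- A point of the block, part 541. -/
def ptCodePart541 : Janko1.Tree ℕ := (.node (.node (.node (.node (.node (.node (.leaf 0) (.leaf 0)) (.node (.leaf 0) (.leaf 0))) (.node (.node (.leaf 0) (.leaf 0)) (.node (.leaf 0) (.leaf 0)))) (.node (.node (.node (.leaf 0) (.leaf 0)) (.node (.leaf 0) (.leaf 0))) (.node (.node (.leaf 0) (.leaf 0)) (.node (.leaf 0) (.leaf 0))))) (.node (.node (.node (.node (.leaf 0) (.leaf 0)) (.node (.leaf 0) (.leaf 0))) (.node (.node (.leaf 0) (.leaf 0)) (.node (.leaf 0) (.leaf 0)))) (.node (.node (.node (.leaf 0) (.leaf 0)) (.node (.leaf 0) (.leaf 0))) (.node (.node (.leaf 0) (.leaf 0)) (.node (.leaf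 0) (.leaf 0)))))) (.node (.node (.node (.node (.node (.leaf 0) (.leaf 0)) (.node (.leaf 0) (.leaf 0))) (.node (.node (.leaf 0) (.leaf 0)) (.node (.leaf 0) (.leaf 0)))) (.node (.node (.node (.leaf 0) (.leaf 0)) (.node (.leaf 0) (.leaf 0))) (.node (.node (.leaf 0) (.leaf 0)) (.node (.leaf 0) (.leaf 0))))) (.node (.node (.node (.node (.leaf 0) (.leaf 0)) (.node (.leaf 0) (.leaf 0))) (.node (.node (.leaf 0) (.leaf 0)) (.node (.leaf 0) (.leaf 0)))) (.node (.node (.node (.leaf 0) (.leaf 0)) (.node (.leaf 0) (.leaf 0))) (.node (.node (.leaf 0) (.leaf 0)) (.node (.leaf 0) (.leaf 0)))))))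

/-- A point of the block, part 542. -/
def ptCodePart542 : Janko1.Tree ℕ := (.node (.node (.node (.node (.node (.node (.leaf 0) (.leaf 0)) (.node (.leaf 0) (.leaf 0))) (.node (.node (.leaf 0) (.leaf 0)) (.node (.leaf 0) (.leaf 0)))) (.node (.node (.node (.leaf 0) (.leaf 0)) (.node (.leaf 0) (.leaf 0))) (.node (.node (.leaf 0) (.leaf 0)) (.node (.leaf 0) (.leaf 0))))) (.node (.node (.node (.node (.leaf 0) (.leaf 0)) (.node (.leaf 0) (.leaf 0))) (.node (.node (.leaf 0) (.leaf 0)) (.node (.leaf 0) (.leaf 0)))) (.node (.node (.node (.leaf 0) (.leaf 0)) (.node (.leaf 0) (.leaf 0))) (.node (.node (.leaf 0) (.leaf 0)) (.node (.leaf 0) (.leaf 0)))))) (.node (.node (.node (.node (.node (.leaf 0) (.leaf 0)) (.node (.leaf 0) (.leaf 0))) (.node (.node (.leaf 0) (.leaf 0)) (.node (.leaf 0) (.leaf 0)))) (.node (.node (.node (.leaf 0) (.leaf 0)) (.node (.leaf 0) (.leaf 0))) (.node (.node (.leaf 0) (.leaf 0)) (.node (.leaf 0) (.leaf 0))))) (.node (.node (.node (.node (.leaf 0) (.leaf 0)) (.node (.leaf 0) (.leaf 0))) (.node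 (.node (.leaf 0) (.leaf 0)) (.node (.leaf 0) (.leaf 0)))) (.node (.node (.node (.leaf 0) (.leaf 0)) (.node (.leaf 0) (.leaf 0))) (.node (.node (.leaf 0) (.leaf 0)) (.node (.leaf 0) (.leaf 0)))))))

/-- A point of the block, part 543. -/
def ptCodePart543 : Janko1.Tree ℕ := (.node (.node (.node (.node (.node (.node (.leaf 0) (.leaf 0)) (.node (.leaf 0) (.leaf 0))) (.node (.node (.leaf 0) (.leaf 0)) (.node (.leaf 0) (.leaf 0)))) (.node (.node (.node (.leaf 0) (.leaf 0)) (.node (.leaf 0) (.leaf 0))) (.node (.node (.leaf 0) (.leaf 0)) (.node (.leaf 0) (.leaf 0))))) (.node (.node (.node (.node (.leaf 0) (.leaf 0)) (.node (.leaf 0) (.leaf 0))) (.node (.node (.leaf 0) (.leaf 0)) (.node (.leaf 0) (.leaf 0)))) (.node (.node (.node (.leaf 0) (.leaf 0)) (.node (.leaf 0) (.leaf 0))) (.node (.node (.leaf 0) (.leaf 0)) (.node (.leaf 0) (.leaf 0)))))) (.node (.node (.node (.node (.node (.leaf 0) (.leaf 0)) (.node (.leaf 0) (.leaf 0))) (.node (.node (.leaf 0) (.leaf 0)) (.node (.leaf 0) (.leaf 0)))) (.node (.node (.node (.leaf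 0) (.leaf 0)) (.node (.leaf 0) (.leaf 0))) (.node (.node (.leaf 0) (.leaf 0)) (.node (.leaf 0) (.leaf 0))))) (.node (.node (.node (.node (.leaf 0) (.leaf 0)) (.node (.leaf 0) (.leaf 0))) (.node (.node (.leaf 0) (.leaf 0)) (.node (.leaf 0) (.leaf 0)))) (.node (.node (.node (.leaf 0) (.leaf 0)) (.node (.leaf 0) (.leaf 0))) (.node (.node (.leaf 0) (.leaf 0)) (.node (.leaf 0) (.leaf 0)))))))

/-- A point of the block, part 544. -/
def ptCodePart544 : Janko1.Tree ℕ := (.node (.node (.node (.node (.node (.node (.leaf 0) (.leaf 0)) (.node (.leaf 0) (.leaf 0))) (.node (.node (.leaf 0) (.leaf 0)) (.node (.leaf 0) (.leaf 0)))) (.node (.node (.node (.leaf 0) (.leaf 0)) (.node (.leaf 0) (.leaf 0))) (.node (.node (.leaf 0) (.leaf 0)) (.node (.leaf 0) (.leaf 0))))) (.node (.node (.node (.node (.leaf 0) (.leaf 0)) (.node (.leaf 0) (.leaf 0))) (.node (.node (.leaf 0) (.leaf 0)) (.node (.leaf 0) (.leaf 0)))) (.node (.node (.node (.leaf 0) (.leaf 0)) (.node (.leaf 0) (.leaf 0))) (.node (.node (.leaf 0) (.leaf 0)) (.node (.leaf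 0) (.leaf 0)))))) (.node (.node (.node (.node (.node (.leaf 0) (.leaf 0)) (.node (.leaf 0) (.leaf 0))) (.node (.node (.leaf 0) (.leaf 0)) (.node (.leaf 0) (.leaf 0)))) (.node (.node (.node (.leaf 0) (.leaf 0)) (.node (.leaf 0) (.leaf 0))) (.node (.node (.leaf 0) (.leaf 0)) (.node (.leaf 0) (.leaf 0))))) (.node (.node (.node (.node (.leaf 0) (.leaf 0)) (.node (.leaf 0) (.leaf 0))) (.node (.node (.leaf 0) (.leaf 0)) (.node (.leaf 0) (.leaf 0)))) (.node (.node (.node (.leaf 0) (.leaf 0)) (.node (.leaf 0) (.leaf 0))) (.node (.node (.leaf 0) (.leaf 0)) (.node (.leaf 0) (.leaf 0)))))))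

/-- A point of the block, part 545. -/
def ptCodePart545 : Janko1.Tree ℕ := (.node (.node (.node (.node (.node (.node (.leaf 0) (.leaf 0)) (.node (.leaf 0) (.leaf 0))) (.node (.node (.leaf 0) (.leaf 0)) (.node (.leaf 0) (.leaf 0)))) (.node (.node (.node (.leaf 0) (.leaf 0)) (.node (.leaf 0) (.leaf 0))) (.node (.node (.leaf 0) (.leaf 0)) (.node (.leaf 0) (.leaf 0))))) (.node (.node (.node (.node (.leaf 0) (.leaf 0)) (.node (.leaf 0) (.leaf 0))) (.node (.node (.leaf 0) (.leaf 0)) (.node (.leaf 0) (.leaf 0)))) (.node (.node (.node (.leaf 0) (.leaf 0)) (.node (.leaf 0) (.leaf 0))) (.node (.node (.leaf 0) (.leaf 0)) (.node (.leaf 0) (.leaf 0)))))) (.node (.node (.node (.node (.node (.leaf 0) (.leaf 0)) (.node (.leaf 0) (.leaf 0))) (.node (.node (.leaf 0) (.leaf 0)) (.node (.leaf 0) (.leaf 0)))) (.node (.node (.node (.leaf 0) (.leaf 0)) (.node (.leaf 0) (.leaf 0))) (.node (.node (.leaf 0) (.leaf 0)) (.node (.leaf 0) (.leaf 0))))) (.node (.node (.node (.node (.leaf 0) (.leaf 0)) (.node (.leaf 0) (.leaf 0))) (.node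 (.node (.leaf 0) (.leaf 0)) (.node (.leaf 0) (.leaf 0)))) (.node (.node (.node (.leaf 0) (.leaf 0)) (.node (.leaf 0) (.leaf 0))) (.node (.node (.leaf 0) (.leaf 0)) (.node (.leaf 0) (.leaf 0)))))))

/-- A point of the block, part 546. -/
def ptCodePart546 : Janko1.Tree ℕ := (.node (.node (.node (.node (.node (.node (.leaf 0) (.leaf 0)) (.node (.leaf 0) (.leaf 0))) (.node (.node (.leaf 0) (.leaf 0)) (.node (.leaf 0) (.leaf 0)))) (.node (.node (.node (.leaf 0) (.leaf 0)) (.node (.leaf 0) (.leaf 0))) (.node (.node (.leaf 0) (.leaf 0)) (.node (.leaf 0) (.leaf 0))))) (.node (.node (.node (.node (.leaf 0) (.leaf 0)) (.node (.leaf 0) (.leaf 0))) (.node (.node (.leaf 0) (.leaf 0)) (.node (.leaf 0) (.leaf 0)))) (.node (.node (.node (.leaf 0) (.leaf 0)) (.node (.leaf 0) (.leaf 0))) (.node (.node (.leaf 0) (.leaf 0)) (.node (.leaf 0) (.leaf 0)))))) (.node (.node (.node (.node (.node (.leaf 0) (.leaf 0)) (.node (.leaf 0) (.leaf 0))) (.node (.node (.leaf 0) (.leaf 0)) (.node (.leaf 0) (.leaf 0)))) (.node (.node (.node (.leaf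 0) (.leaf 0)) (.node (.leaf 0) (.leaf 0))) (.node (.node (.leaf 0) (.leaf 0)) (.node (.leaf 0) (.leaf 0))))) (.node (.node (.node (.node (.leaf 0) (.leaf 0)) (.node (.leaf 0) (.leaf 0))) (.node (.node (.leaf 0) (.leaf 0)) (.node (.leaf 0) (.leaf 0)))) (.node (.node (.node (.leaf 0) (.leaf 0)) (.node (.leaf 0) (.leaf 0))) (.node (.node (.leaf 0) (.leaf 0)) (.node (.leaf 0) (.leaf 0)))))))

/-- A point of the block, part 547. -/
def ptCodePart547 : Janko1.Tree ℕ := (.node (.node (.node (.node (.node (.node (.leaf 0) (.leaf 0)) (.node (.leaf 0) (.leaf 0))) (.node (.node (.leaf 0) (.leaf 0)) (.node (.leaf 0) (.leaf 0)))) (.node (.node (.node (.leaf 0) (.leaf 0)) (.node (.leaf 0) (.leaf 0))) (.node (.node (.leaf 0) (.leaf 0)) (.node (.leaf 0) (.leaf 0))))) (.node (.node (.node (.node (.leaf 0) (.leaf 0)) (.node (.leaf 0) (.leaf 0))) (.node (.node (.leaf 0) (.leaf 0)) (.node (.leaf 0) (.leaf 0)))) (.node (.node (.node (.leaf 0) (.leaf 0)) (.node (.leaf 0) (.leaf 0))) (.node (.node (.leaf 0) (.leaf 0)) (.node (.leaf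 0) (.leaf 0)))))) (.node (.node (.node (.node (.node (.leaf 0) (.leaf 0)) (.node (.leaf 0) (.leaf 0))) (.node (.node (.leaf 0) (.leaf 0)) (.node (.leaf 0) (.leaf 0)))) (.node (.node (.node (.leaf 0) (.leaf 0)) (.node (.leaf 0) (.leaf 0))) (.node (.node (.leaf 0) (.leaf 0)) (.node (.leaf 0) (.leaf 0))))) (.node (.node (.node (.node (.leaf 0) (.leaf 0)) (.node (.leaf 0) (.leaf 0))) (.node (.node (.leaf 0) (.leaf 0)) (.node (.leaf 0) (.leaf 0)))) (.node (.node (.node (.leaf 0) (.leaf 0)) (.node (.leaf 0) (.leaf 0))) (.node (.node (.leaf 0) (.leaf 0)) (.node (.leaf 0) (.leaf 0)))))))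

/-- A point of the block, part 548. -/
def ptCodePart548 : Janko1.Tree ℕ := (.node (.node (.node (.node (.node (.node (.leaf 0) (.leaf 0)) (.node (.leaf 0) (.leaf 0))) (.node (.node (.leaf 0) (.leaf 0)) (.node (.leaf 0) (.leaf 0)))) (.node (.node (.node (.leaf 0) (.leaf 0)) (.node (.leaf 0) (.leaf 0))) (.node (.node (.leaf 0) (.leaf 0)) (.node (.leaf 0) (.leaf 0))))) (.node (.node (.node (.node (.leaf 0) (.leaf 0)) (.node (.leaf 0) (.leaf 0))) (.node (.node (.leaf 0) (.leaf 0)) (.node (.leaf 0) (.leaf 0)))) (.node (.node (.node (.leaf 0) (.leaf 0)) (.node (.leaf 0) (.leaf 0))) (.node (.node (.leaf 0) (.leaf 0)) (.node (.leaf 0) (.leaf 0)))))) (.node (.node (.node (.node (.node (.leaf 0) (.leaf 0)) (.node (.leaf 0) (.leaf 0))) (.node (.node (.leaf 0) (.leaf 0)) (.node (.leaf 0) (.leaf 0)))) (.node (.node (.node (.leaf 0) (.leaf 0)) (.node (.leaf 0) (.leaf 0))) (.node (.node (.leaf 0) (.leaf 0)) (.node (.leaf 0) (.leaf 0))))) (.node (.node (.node (.node (.leaf 0) (.leaf 0)) (.node (.leaf 0) (.leaf 0))) (.node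 (.node (.leaf 0) (.leaf 0)) (.node (.leaf 0) (.leaf 0)))) (.node (.node (.node (.leaf 0) (.leaf 0)) (.node (.leaf 0) (.leaf 0))) (.node (.node (.leaf 0) (.leaf 0)) (.node (.leaf 0) (.leaf 0)))))))

/-- A point of the block, part 549. -/
def ptCodePart549 : Janko1.Tree ℕ := (.node (.node (.node (.node (.node (.node (.leaf 0) (.leaf 0)) (.node (.leaf 0) (.leaf 0))) (.node (.node (.leaf 0) (.leaf 0)) (.node (.leaf 0) (.leaf 0)))) (.node (.node (.node (.leaf 0) (.leaf 0)) (.node (.leaf 0) (.leaf 0))) (.node (.node (.leaf 0) (.leaf 0)) (.node (.leaf 0) (.leaf 0))))) (.node (.node (.node (.node (.leaf 0) (.leaf 0)) (.node (.leaf 0) (.leaf 0))) (.node (.node (.leaf 0) (.leaf 0)) (.node (.leaf 0) (.leaf 0)))) (.node (.node (.node (.leaf 0) (.leaf 0)) (.node (.leaf 0) (.leaf 0))) (.node (.node (.leaf 0) (.leaf 0)) (.node (.leaf 0) (.leaf 0)))))) (.node (.node (.node (.node (.node (.leaf 0) (.leaf 0)) (.node (.leaf 0) (.leaf 0))) (.node (.node (.leaf 0) (.leaf 0)) (.node (.leaf 0) (.leaf 0)))) (.node (.node (.node (.leaf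 0) (.leaf 0)) (.node (.leaf 0) (.leaf 0))) (.node (.node (.leaf 0) (.leaf 0)) (.node (.leaf 0) (.leaf 0))))) (.node (.node (.node (.node (.leaf 0) (.leaf 0)) (.node (.leaf 0) (.leaf 0))) (.node (.node (.leaf 0) (.leaf 0)) (.node (.leaf 0) (.leaf 0)))) (.node (.node (.node (.leaf 0) (.leaf 0)) (.node (.leaf 0) (.leaf 0))) (.node (.node (.leaf 0) (.leaf 0)) (.node (.leaf 0) (.leaf 0)))))))

/-- A point of the block, part 550. -/
def ptCodePart550 : Janko1.Tree ℕ := (.node (.node (.node (.node (.node (.node (.leaf 0) (.leaf 0)) (.node (.leaf 0) (.leaf 0))) (.node (.node (.leaf 0) (.leaf 0)) (.node (.leaf 0) (.leaf 0)))) (.node (.node (.node (.leaf 0) (.leaf 0)) (.node (.leaf 0) (.leaf 0))) (.node (.node (.leaf 0) (.leaf 0)) (.node (.leaf 0) (.leaf 0))))) (.node (.node (.node (.node (.leaf 0) (.leaf 0)) (.node (.leaf 0) (.leaf 0))) (.node (.node (.leaf 0) (.leaf 0)) (.node (.leaf 0) (.leaf 0)))) (.node (.node (.node (.leaf 0) (.leaf 0)) (.node (.leaf 0) (.leaf 0))) (.node (.node (.leaf 0) (.leaf 0)) (.node (.leaf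 0) (.leaf 0)))))) (.node (.node (.node (.node (.node (.leaf 0) (.leaf 0)) (.node (.leaf 0) (.leaf 0))) (.node (.node (.leaf 0) (.leaf 0)) (.node (.leaf 0) (.leaf 0)))) (.node (.node (.node (.leaf 0) (.leaf 0)) (.node (.leaf 0) (.leaf 0))) (.node (.node (.leaf 0) (.leaf 0)) (.node (.leaf 0) (.leaf 0))))) (.node (.node (.node (.node (.leaf 0) (.leaf 0)) (.node (.leaf 0) (.leaf 0))) (.node (.node (.leaf 0) (.leaf 0)) (.node (.leaf 0) (.leaf 0)))) (.node (.node (.node (.leaf 0) (.leaf 0)) (.node (.leaf 0) (.leaf 0))) (.node (.node (.leaf 0) (.leaf 0)) (.node (.leaf 0) (.leaf 0)))))))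

/-- A point of the block, part 551. -/
def ptCodePart551 : Janko1.Tree ℕ := (.node (.node (.node (.node (.node (.node (.leaf 0) (.leaf 0)) (.node (.leaf 0) (.leaf 0))) (.node (.node (.leaf 0) (.leaf 0)) (.node (.leaf 0) (.leaf 0)))) (.node (.node (.node (.leaf 0) (.leaf 0)) (.node (.leaf 0) (.leaf 0))) (.node (.node (.leaf 0) (.leaf 0)) (.node (.leaf 0) (.leaf 0))))) (.node (.node (.node (.node (.leaf 0) (.leaf 0)) (.node (.leaf 0) (.leaf 0))) (.node (.node (.leaf 0) (.leaf 0)) (.node (.leaf 0) (.leaf 0)))) (.node (.node (.node (.leaf 0) (.leaf 0)) (.node (.leaf 0) (.leaf 0))) (.node (.node (.leaf 0) (.leaf 0)) (.node (.leaf 0) (.leaf 0)))))) (.node (.node (.node (.node (.node (.leaf 0) (.leaf 0)) (.node (.leaf 0) (.leaf 0))) (.node (.node (.leaf 0) (.leaf 0)) (.node (.leaf 0) (.leaf 0)))) (.node (.node (.node (.leaf 0) (.leaf 0)) (.node (.leaf 0) (.leaf 0))) (.node (.node (.leaf 0) (.leaf 0)) (.node (.leaf 0) (.leaf 0))))) (.node (.node (.node (.node (.leaf 0) (.leaf 0)) (.node (.leaf 0) (.leaf 0))) (.node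 (.node (.leaf 0) (.leaf 0)) (.node (.leaf 0) (.leaf 0)))) (.node (.node (.node (.leaf 0) (.leaf 0)) (.node (.leaf 0) (.leaf 0))) (.node (.node (.leaf 0) (.leaf 0)) (.node (.leaf 0) (.leaf 0)))))))

/-- A point of the block, part 552. -/
def ptCodePart552 : Janko1.Tree ℕ := (.node (.node (.node (.node (.node (.node (.leaf 0) (.leaf 0)) (.node (.leaf 0) (.leaf 0))) (.node (.node (.leaf 0) (.leaf 0)) (.node (.leaf 0) (.leaf 0)))) (.node (.node (.node (.leaf 0) (.leaf 0)) (.node (.leaf 0) (.leaf 0))) (.node (.node (.leaf 0) (.leaf 0)) (.node (.leaf 0) (.leaf 0))))) (.node (.node (.node (.node (.leaf 0) (.leaf 0)) (.node (.leaf 0) (.leaf 0))) (.node (.node (.leaf 0) (.leaf 0)) (.node (.leaf 0) (.leaf 0)))) (.node (.node (.node (.leaf 0) (.leaf 0)) (.node (.leaf 0) (.leaf 0))) (.node (.node (.leaf 0) (.leaf 0)) (.node (.leaf 0) (.leaf 0)))))) (.node (.node (.node (.node (.node (.leaf 0) (.leaf 0)) (.node (.leaf 0) (.leaf 0))) (.node (.node (.leaf 0) (.leaf 0)) (.node (.leaf 0) (.leaf 0)))) (.node (.node (.node (.leaf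 0) (.leaf 0)) (.node (.leaf 0) (.leaf 0))) (.node (.node (.leaf 0) (.leaf 0)) (.node (.leaf 0) (.leaf 0))))) (.node (.node (.node (.node (.leaf 0) (.leaf 0)) (.node (.leaf 0) (.leaf 0))) (.node (.node (.leaf 0) (.leaf 0)) (.node (.leaf 0) (.leaf 0)))) (.node (.node (.node (.leaf 0) (.leaf 0)) (.node (.leaf 0) (.leaf 0))) (.node (.node (.leaf 0) (.leaf 0)) (.node (.leaf 0) (.leaf 0)))))))

/-- A point of the block, part 553. -/
def ptCodePart553 : Janko1.Tree ℕ := (.node (.node (.node (.node (.node (.node (.leaf 0) (.leaf 0)) (.node (.leaf 0) (.leaf 0))) (.node (.node (.leaf 0) (.leaf 0)) (.node (.leaf 0) (.leaf 0)))) (.node (.node (.node (.leaf 0) (.leaf 0)) (.node (.leaf 0) (.leaf 0))) (.node (.node (.leaf 0) (.leaf 0)) (.node (.leaf 0) (.leaf 0))))) (.node (.node (.node (.node (.leaf 0) (.leaf 0)) (.node (.leaf 0) (.leaf 0))) (.node (.node (.leaf 0) (.leaf 0)) (.node (.leaf 0) (.leaf 0)))) (.node (.node (.node (.leaf 0) (.leaf 0)) (.node (.leaf 0) (.leaf 0))) (.node (.node (.leaf 0) (.leaf 0)) (.node (.leaf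 0) (.leaf 0)))))) (.node (.node (.node (.node (.node (.leaf 0) (.leaf 0)) (.node (.leaf 0) (.leaf 0))) (.node (.node (.leaf 0) (.leaf 0)) (.node (.leaf 0) (.leaf 0)))) (.node (.node (.node (.leaf 0) (.leaf 0)) (.node (.leaf 0) (.leaf 0))) (.node (.node (.leaf 0) (.leaf 0)) (.node (.leaf 0) (.leaf 0))))) (.node (.node (.node (.node (.leaf 0) (.leaf 0)) (.node (.leaf 0) (.leaf 0))) (.node (.node (.leaf 0) (.leaf 0)) (.node (.leaf 0) (.leaf 0)))) (.node (.node (.node (.leaf 0) (.leaf 0)) (.node (.leaf 0) (.leaf 0))) (.node (.node (.leaf 0) (.leaf 0)) (.node (.leaf 0) (.leaf 0)))))))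

/-- A point of the block, part 554. -/
def ptCodePart554 : Janko1.Tree ℕ := (.node (.node (.node (.node (.node (.node (.leaf 0) (.leaf 0)) (.node (.leaf 0) (.leaf 0))) (.node (.node (.leaf 0) (.leaf 0)) (.node (.leaf 0) (.leaf 0)))) (.node (.node (.node (.leaf 0) (.leaf 0)) (.node (.leaf 0) (.leaf 0))) (.node (.node (.leaf 0) (.leaf 0)) (.node (.leaf 0) (.leaf 0))))) (.node (.node (.node (.node (.leaf 0) (.leaf 0)) (.node (.leaf 0) (.leaf 0))) (.node (.node (.leaf 0) (.leaf 0)) (.node (.leaf 0) (.leaf 0)))) (.node (.node (.node (.leaf 0) (.leaf 0)) (.node (.leaf 0) (.leaf 0))) (.node (.node (.leaf 0) (.leaf 0)) (.node (.leaf 0) (.leaf 0)))))) (.node (.node (.node (.node (.node (.leaf 0) (.leaf 0)) (.node (.leaf 0) (.leaf 0))) (.node (.node (.leaf 0) (.leaf 0)) (.node (.leaf 0) (.leaf 0)))) (.node (.node (.node (.leaf 0) (.leaf 0)) (.node (.leaf 0) (.leaf 0))) (.node (.node (.leaf 0) (.leaf 0)) (.node (.leaf 0) (.leaf 0))))) (.node (.node (.node (.node (.leaf 0) (.leaf 0)) (.node (.leaf 0) (.leaf 0))) (.node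 (.node (.leaf 0) (.leaf 0)) (.node (.leaf 0) (.leaf 0)))) (.node (.node (.node (.leaf 0) (.leaf 0)) (.node (.leaf 0) (.leaf 0))) (.node (.node (.leaf 0) (.leaf 0)) (.node (.leaf 0) (.leaf 0)))))))

/-- A point of the block, part 555. -/
def ptCodePart555 : Janko1.Tree ℕ := (.node (.node (.node (.node (.node (.node (.leaf 0) (.leaf 0)) (.node (.leaf 0) (.leaf 0))) (.node (.node (.leaf 0) (.leaf 0)) (.node (.leaf 0) (.leaf 0)))) (.node (.node (.node (.leaf 0) (.leaf 0)) (.node (.leaf 0) (.leaf 0))) (.node (.node (.leaf 0) (.leaf 0)) (.node (.leaf 0) (.leaf 0))))) (.node (.node (.node (.node (.leaf 0) (.leaf 0)) (.node (.leaf 0) (.leaf 0))) (.node (.node (.leaf 0) (.leaf 0)) (.node (.leaf 0) (.leaf 0)))) (.node (.node (.node (.leaf 0) (.leaf 0)) (.node (.leaf 0) (.leaf 0))) (.node (.node (.leaf 0) (.leaf 0)) (.node (.leaf 0) (.leaf 0)))))) (.node (.node (.node (.node (.node (.leaf 0) (.leaf 0)) (.node (.leaf 0) (.leaf 0))) (.node (.node (.leaf 0) (.leaf 0)) (.node (.leaf 0) (.leaf 0)))) (.node (.node (.node (.leaf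 0) (.leaf 0)) (.node (.leaf 0) (.leaf 0))) (.node (.node (.leaf 0) (.leaf 0)) (.node (.leaf 0) (.leaf 0))))) (.node (.node (.node (.node (.leaf 0) (.leaf 0)) (.node (.leaf 0) (.leaf 0))) (.node (.node (.leaf 0) (.leaf 0)) (.node (.leaf 0) (.leaf 0)))) (.node (.node (.node (.leaf 0) (.leaf 0)) (.node (.leaf 0) (.leaf 0))) (.node (.node (.leaf 0) (.leaf 0)) (.node (.leaf 0) (.leaf 0)))))))

/-- A point of the block, part 556. -/
def ptCodePart556 : Janko1.Tree ℕ := (.node (.node (.node (.node (.node (.node (.leaf 0) (.leaf 0)) (.node (.leaf 0) (.leaf 0))) (.node (.node (.leaf 0) (.leaf 0)) (.node (.leaf 0) (.leaf 0)))) (.node (.node (.node (.leaf 0) (.leaf 0)) (.node (.leaf 0) (.leaf 0))) (.node (.node (.leaf 0) (.leaf 0)) (.node (.leaf 0) (.leaf 0))))) (.node (.node (.node (.node (.leaf 0) (.leaf 0)) (.node (.leaf 0) (.leaf 0))) (.node (.node (.leaf 0) (.leaf 0)) (.node (.leaf 0) (.leaf 0)))) (.node (.node (.node (.leaf 0) (.leaf 0)) (.node (.leaf 0) (.leaf 0))) (.node (.node (.leaf 0) (.leaf 0)) (.node (.leaf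 0) (.leaf 0)))))) (.node (.node (.node (.node (.node (.leaf 0) (.leaf 0)) (.node (.leaf 0) (.leaf 0))) (.node (.node (.leaf 0) (.leaf 0)) (.node (.leaf 0) (.leaf 0)))) (.node (.node (.node (.leaf 0) (.leaf 0)) (.node (.leaf 0) (.leaf 0))) (.node (.node (.leaf 0) (.leaf 0)) (.node (.leaf 0) (.leaf 0))))) (.node (.node (.node (.node (.leaf 0) (.leaf 0)) (.node (.leaf 0) (.leaf 0))) (.node (.node (.leaf 0) (.leaf 0)) (.node (.leaf 0) (.leaf 0)))) (.node (.node (.node (.leaf 0) (.leaf 0)) (.node (.leaf 0) (.leaf 0))) (.node (.node (.leaf 0) (.leaf 0)) (.node (.leaf 0) (.leaf 0)))))))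

/-- A point of the block, part 557. -/
def ptCodePart557 : Janko1.Tree ℕ := (.node (.node (.node (.node (.node (.node (.leaf 0) (.leaf 0)) (.node (.leaf 0) (.leaf 0))) (.node (.node (.leaf 0) (.leaf 0)) (.node (.leaf 0) (.leaf 0)))) (.node (.node (.node (.leaf 0) (.leaf 0)) (.node (.leaf 0) (.leaf 0))) (.node (.node (.leaf 0) (.leaf 0)) (.node (.leaf 0) (.leaf 0))))) (.node (.node (.node (.node (.leaf 0) (.leaf 0)) (.node (.leaf 0) (.leaf 0))) (.node (.node (.leaf 0) (.leaf 0)) (.node (.leaf 0) (.leaf 0)))) (.node (.node (.node (.leaf 0) (.leaf 0)) (.node (.leaf 0) (.leaf 0))) (.node (.node (.leaf 0) (.leaf 0)) (.node (.leaf 0) (.leaf 0)))))) (.node (.node (.node (.node (.node (.leaf 0) (.leaf 0)) (.node (.leaf 0) (.leaf 0))) (.node (.node (.leaf 0) (.leaf 0)) (.node (.leaf 0) (.leaf 0)))) (.node (.node (.node (.leaf 0) (.leaf 0)) (.node (.leaf 0) (.leaf 0))) (.node (.node (.leaf 0) (.leaf 0)) (.node (.leaf 0) (.leaf 0))))) (.node (.node (.node (.node (.leaf 0) (.leaf 0)) (.node (.leaf 0) (.leaf 0))) (.node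 (.node (.leaf 0) (.leaf 0)) (.node (.leaf 0) (.leaf 0)))) (.node (.node (.node (.leaf 0) (.leaf 0)) (.node (.leaf 0) (.leaf 0))) (.node (.node (.leaf 0) (.leaf 0)) (.node (.leaf 0) (.leaf 0)))))))

/-- A point of the block, part 558. -/
def ptCodePart558 : Janko1.Tree ℕ := (.node (.node (.node (.node (.node (.node (.leaf 0) (.leaf 0)) (.node (.leaf 0) (.leaf 0))) (.node (.node (.leaf 0) (.leaf 0)) (.node (.leaf 0) (.leaf 0)))) (.node (.node (.node (.leaf 0) (.leaf 0)) (.node (.leaf 0) (.leaf 0))) (.node (.node (.leaf 0) (.leaf 0)) (.node (.leaf 0) (.leaf 0))))) (.node (.node (.node (.node (.leaf 0) (.leaf 0)) (.node (.leaf 0) (.leaf 0))) (.node (.node (.leaf 0) (.leaf 0)) (.node (.leaf 0) (.leaf 0)))) (.node (.node (.node (.leaf 0) (.leaf 0)) (.node (.leaf 0) (.leaf 0))) (.node (.node (.leaf 0) (.leaf 0)) (.node (.leaf 0) (.leaf 0)))))) (.node (.node (.node (.node (.node (.leaf 0) (.leaf 0)) (.node (.leaf 0) (.leaf 0))) (.node (.node (.leaf 0) (.leaf 0)) (.node (.leaf 0) (.leaf 0)))) (.node (.node (.node (.leaf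 0) (.leaf 0)) (.node (.leaf 0) (.leaf 0))) (.node (.node (.leaf 0) (.leaf 0)) (.node (.leaf 0) (.leaf 0))))) (.node (.node (.node (.node (.leaf 0) (.leaf 0)) (.node (.leaf 0) (.leaf 0))) (.node (.node (.leaf 0) (.leaf 0)) (.node (.leaf 0) (.leaf 0)))) (.node (.node (.node (.leaf 0) (.leaf 0)) (.node (.leaf 0) (.leaf 0))) (.node (.node (.leaf 0) (.leaf 0)) (.node (.leaf 0) (.leaf 0)))))))

/-- A point of the block, part 559. -/
def ptCodePart559 : Janko1.Tree ℕ := (.node (.node (.node (.node (.node (.node (.leaf 0) (.leaf 0)) (.node (.leaf 0) (.leaf 0))) (.node (.node (.leaf 0) (.leaf 0)) (.node (.leaf 0) (.leaf 0)))) (.node (.node (.node (.leaf 0) (.leaf 0)) (.node (.leaf 0) (.leaf 0))) (.node (.node (.leaf 0) (.leaf 0)) (.node (.leaf 0) (.leaf 0))))) (.node (.node (.node (.node (.leaf 0) (.leaf 0)) (.node (.leaf 0) (.leaf 0))) (.node (.node (.leaf 0) (.leaf 0)) (.node (.leaf 0) (.leaf 0)))) (.node (.node (.node (.leaf 0) (.leaf 0)) (.node (.leaf 0) (.leaf 0))) (.node (.node (.leaf 0) (.leaf 0)) (.node (.leaf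 0) (.leaf 0)))))) (.node (.node (.node (.node (.node (.leaf 0) (.leaf 0)) (.node (.leaf 0) (.leaf 0))) (.node (.node (.leaf 0) (.leaf 0)) (.node (.leaf 0) (.leaf 0)))) (.node (.node (.node (.leaf 0) (.leaf 0)) (.node (.leaf 0) (.leaf 0))) (.node (.node (.leaf 0) (.leaf 0)) (.node (.leaf 0) (.leaf 0))))) (.node (.node (.node (.node (.leaf 0) (.leaf 0)) (.node (.leaf 0) (.leaf 0))) (.node (.node (.leaf 0) (.leaf 0)) (.node (.leaf 0) (.leaf 0)))) (.node (.node (.node (.leaf 0) (.leaf 0)) (.node (.leaf 0) (.leaf 0))) (.node (.node (.leaf 0) (.leaf 0)) (.node (.leaf 0) (.leaf 0)))))))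

/-- A point of the block, part 560. -/
def ptCodePart560 : Janko1.Tree ℕ := (.node (.node (.node (.node (.node (.node (.leaf 0) (.leaf 0)) (.node (.leaf 0) (.leaf 0))) (.node (.node (.leaf 0) (.leaf 0)) (.node (.leaf 0) (.leaf 0)))) (.node (.node (.node (.leaf 0) (.leaf 0)) (.node (.leaf 0) (.leaf 0))) (.node (.node (.leaf 0) (.leaf 0)) (.node (.leaf 0) (.leaf 0))))) (.node (.node (.node (.node (.leaf 0) (.leaf 0)) (.node (.leaf 0) (.leaf 0))) (.node (.node (.leaf 0) (.leaf 0)) (.node (.leaf 0) (.leaf 0)))) (.node (.node (.node (.leaf 0) (.leaf 0)) (.node (.leaf 0) (.leaf 0))) (.node (.node (.leaf 0) (.leaf 0)) (.node (.leaf 0) (.leaf 0)))))) (.node (.node (.node (.node (.node (.leaf 0) (.leaf 0)) (.node (.leaf 0) (.leaf 0))) (.node (.node (.leaf 0) (.leaf 0)) (.node (.leaf 0) (.leaf 0)))) (.node (.node (.node (.leaf 0) (.leaf 0)) (.node (.leaf 0) (.leaf 0))) (.node (.node (.leaf 0) (.leaf 0)) (.node (.leaf 0) (.leaf 0))))) (.node (.node (.node (.node (.leaf 0) (.leaf 0)) (.node (.leaf 0) (.leaf 0))) (.node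 (.node (.leaf 0) (.leaf 0)) (.node (.leaf 0) (.leaf 0)))) (.node (.node (.node (.leaf 0) (.leaf 0)) (.node (.leaf 0) (.leaf 0))) (.node (.node (.leaf 0) (.leaf 0)) (.node (.leaf 0) (.leaf 0)))))))

/-- A point of the block, part 561. -/
def ptCodePart561 : Janko1.Tree ℕ := (.node (.node (.node (.node (.node (.node (.leaf 0) (.leaf 0)) (.node (.leaf 0) (.leaf 0))) (.node (.node (.leaf 0) (.leaf 0)) (.node (.leaf 0) (.leaf 0)))) (.node (.node (.node (.leaf 0) (.leaf 0)) (.node (.leaf 0) (.leaf 0))) (.node (.node (.leaf 0) (.leaf 0)) (.node (.leaf 0) (.leaf 0))))) (.node (.node (.node (.node (.leaf 0) (.leaf 0)) (.node (.leaf 0) (.leaf 0))) (.node (.node (.leaf 0) (.leaf 0)) (.node (.leaf 0) (.leaf 0)))) (.node (.node (.node (.leaf 0) (.leaf 0)) (.node (.leaf 0) (.leaf 0))) (.node (.node (.leaf 0) (.leaf 0)) (.node (.leaf 0) (.leaf 0)))))) (.node (.node (.node (.node (.node (.leaf 0) (.leaf 0)) (.node (.leaf 0) (.leaf 0))) (.node (.node (.leaf 0) (.leaf 0)) (.node (.leaf 0) (.leaf 0)))) (.node (.node (.node (.leaf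 0) (.leaf 0)) (.node (.leaf 0) (.leaf 0))) (.node (.node (.leaf 0) (.leaf 0)) (.node (.leaf 0) (.leaf 0))))) (.node (.node (.node (.node (.leaf 0) (.leaf 0)) (.node (.leaf 0) (.leaf 0))) (.node (.node (.leaf 0) (.leaf 0)) (.node (.leaf 0) (.leaf 0)))) (.node (.node (.node (.leaf 0) (.leaf 0)) (.node (.leaf 0) (.leaf 0))) (.node (.node (.leaf 0) (.leaf 0)) (.node (.leaf 0) (.leaf 0)))))))

/-- A point of the block, part 562. -/
def ptCodePart562 : Janko1.Tree ℕ := (.node (.node (.node (.node (.node (.node (.leaf 0) (.leaf 0)) (.node (.leaf 0) (.leaf 0))) (.node (.node (.leaf 0) (.leaf 0)) (.node (.leaf 0) (.leaf 0)))) (.node (.node (.node (.leaf 0) (.leaf 0)) (.node (.leaf 0) (.leaf 0))) (.node (.node (.leaf 0) (.leaf 0)) (.node (.leaf 0) (.leaf 0))))) (.node (.node (.node (.node (.leaf 0) (.leaf 0)) (.node (.leaf 0) (.leaf 0))) (.node (.node (.leaf 0) (.leaf 0)) (.node (.leaf 0) (.leaf 0)))) (.node (.node (.node (.leaf 0) (.leaf 0)) (.node (.leaf 0) (.leaf 0))) (.node (.node (.leaf 0) (.leaf 0)) (.node (.leaf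 0) (.leaf 0)))))) (.node (.node (.node (.node (.node (.leaf 0) (.leaf 0)) (.node (.leaf 0) (.leaf 0))) (.node (.node (.leaf 0) (.leaf 0)) (.node (.leaf 0) (.leaf 0)))) (.node (.node (.node (.leaf 0) (.leaf 0)) (.node (.leaf 0) (.leaf 0))) (.node (.node (.leaf 0) (.leaf 0)) (.node (.leaf 0) (.leaf 0))))) (.node (.node (.node (.node (.leaf 0) (.leaf 0)) (.node (.leaf 0) (.leaf 0))) (.node (.node (.leaf 0) (.leaf 0)) (.node (.leaf 0) (.leaf 0)))) (.node (.node (.node (.leaf 0) (.leaf 0)) (.node (.leaf 0) (.leaf 0))) (.node (.node (.leaf 0) (.leaf 0)) (.node (.leaf 0) (.leaf 0)))))))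

/-- A point of the block, part 563. -/
def ptCodePart563 : Janko1.Tree ℕ := (.node (.node (.node (.node (.node (.node (.leaf 0) (.leaf 0)) (.node (.leaf 0) (.leaf 0))) (.node (.node (.leaf 0) (.leaf 0)) (.node (.leaf 0) (.leaf 0)))) (.node (.node (.node (.leaf 0) (.leaf 0)) (.node (.leaf 0) (.leaf 0))) (.node (.node (.leaf 0) (.leaf 0)) (.node (.leaf 0) (.leaf 0))))) (.node (.node (.node (.node (.leaf 0) (.leaf 0)) (.node (.leaf 0) (.leaf 0))) (.node (.node (.leaf 0) (.leaf 0)) (.node (.leaf 0) (.leaf 0)))) (.node (.node (.node (.leaf 0) (.leaf 0)) (.node (.leaf 0) (.leaf 0))) (.node (.node (.leaf 0) (.leaf 0)) (.node (.leaf 0) (.leaf 0)))))) (.node (.node (.node (.node (.node (.leaf 0) (.leaf 0)) (.node (.leaf 0) (.leaf 0))) (.node (.node (.leaf 0) (.leaf 0)) (.node (.leaf 0) (.leaf 0)))) (.node (.node (.node (.leaf 0) (.leaf 0)) (.node (.leaf 0) (.leaf 0))) (.node (.node (.leaf 0) (.leaf 0)) (.node (.leaf 0) (.leaf 0))))) (.node (.node (.node (.node (.leaf 0) (.leaf 0)) (.node (.leaf 0) (.leaf 0))) (.node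 (.node (.leaf 0) (.leaf 0)) (.node (.leaf 0) (.leaf 0)))) (.node (.node (.node (.leaf 0) (.leaf 0)) (.node (.leaf 0) (.leaf 0))) (.node (.node (.leaf 0) (.leaf 0)) (.node (.leaf 0) (.leaf 0)))))))

/-- A point of the block, part 564. -/
def ptCodePart564 : Janko1.Tree ℕ := (.node (.node (.node (.node (.node (.node (.leaf 0) (.leaf 0)) (.node (.leaf 0) (.leaf 0))) (.node (.node (.leaf 0) (.leaf 0)) (.node (.leaf 0) (.leaf 0)))) (.node (.node (.node (.leaf 0) (.leaf 0)) (.node (.leaf 0) (.leaf 0))) (.node (.node (.leaf 0) (.leaf 0)) (.node (.leaf 0) (.leaf 0))))) (.node (.node (.node (.node (.leaf 0) (.leaf 0)) (.node (.leaf 0) (.leaf 0))) (.node (.node (.leaf 0) (.leaf 0)) (.node (.leaf 0) (.leaf 0)))) (.node (.node (.node (.leaf 0) (.leaf 0)) (.node (.leaf 0) (.leaf 0))) (.node (.node (.leaf 0) (.leaf 0)) (.node (.leaf 0) (.leaf 0)))))) (.node (.node (.node (.node (.node (.leaf 0) (.leaf 0)) (.node (.leaf 0) (.leaf 0))) (.node (.node (.leaf 0) (.leaf 0)) (.node (.leaf 0) (.leaf 0)))) (.node (.node (.node (.leaf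 0) (.leaf 0)) (.node (.leaf 0) (.leaf 0))) (.node (.node (.leaf 0) (.leaf 0)) (.node (.leaf 0) (.leaf 0))))) (.node (.node (.node (.node (.leaf 0) (.leaf 0)) (.node (.leaf 0) (.leaf 0))) (.node (.node (.leaf 0) (.leaf 0)) (.node (.leaf 0) (.leaf 0)))) (.node (.node (.node (.leaf 0) (.leaf 0)) (.node (.leaf 0) (.leaf 0))) (.node (.node (.leaf 0) (.leaf 0)) (.node (.leaf 0) (.leaf 0)))))))

/-- A point of the block, part 565. -/
def ptCodePart565 : Janko1.Tree ℕ := (.node (.node (.node (.node (.node (.node (.leaf 0) (.leaf 0)) (.node (.leaf 0) (.leaf 0))) (.node (.node (.leaf 0) (.leaf 0)) (.node (.leaf 0) (.leaf 0)))) (.node (.node (.node (.leaf 0) (.leaf 0)) (.node (.leaf 0) (.leaf 0))) (.node (.node (.leaf 0) (.leaf 0)) (.node (.leaf 0) (.leaf 0))))) (.node (.node (.node (.node (.leaf 0) (.leaf 0)) (.node (.leaf 0) (.leaf 0))) (.node (.node (.leaf 0) (.leaf 0)) (.node (.leaf 0) (.leaf 0)))) (.node (.node (.node (.leaf 0) (.leaf 0)) (.node (.leaf 0) (.leaf 0))) (.node (.node (.leaf 0) (.leaf 0)) (.node (.leaf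 0) (.leaf 0)))))) (.node (.node (.node (.node (.node (.leaf 0) (.leaf 0)) (.node (.leaf 0) (.leaf 0))) (.node (.node (.leaf 0) (.leaf 0)) (.node (.leaf 0) (.leaf 0)))) (.node (.node (.node (.leaf 0) (.leaf 0)) (.node (.leaf 0) (.leaf 0))) (.node (.node (.leaf 0) (.leaf 0)) (.node (.leaf 0) (.leaf 0))))) (.node (.node (.node (.node (.leaf 0) (.leaf 0)) (.node (.leaf 0) (.leaf 0))) (.node (.node (.leaf 0) (.leaf 0)) (.node (.leaf 0) (.leaf 0)))) (.node (.node (.node (.leaf 0) (.leaf 0)) (.node (.leaf 0) (.leaf 0))) (.node (.node (.leaf 0) (.leaf 0)) (.node (.leaf 0) (.leaf 0)))))))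

/-- A point of the block, part 566. -/
def ptCodePart566 : Janko1.Tree ℕ := (.node (.node (.node (.node (.node (.node (.leaf 0) (.leaf 0)) (.node (.leaf 0) (.leaf 0))) (.node (.node (.leaf 0) (.leaf 0)) (.node (.leaf 0) (.leaf 0)))) (.node (.node (.node (.leaf 0) (.leaf 0)) (.node (.leaf 0) (.leaf 0))) (.node (.node (.leaf 0) (.leaf 0)) (.node (.leaf 0) (.leaf 0))))) (.node (.node (.node (.node (.leaf 0) (.leaf 0)) (.node (.leaf 0) (.leaf 0))) (.node (.node (.leaf 0) (.leaf 0)) (.node (.leaf 0) (.leaf 0)))) (.node (.node (.node (.leaf 0) (.leaf 0)) (.node (.leaf 0) (.leaf 0))) (.node (.node (.leaf 0) (.leaf 0)) (.node (.leaf 0) (.leaf 0)))))) (.node (.node (.node (.node (.node (.leaf 0) (.leaf 0)) (.node (.leaf 0) (.leaf 0))) (.node (.node (.leaf 0) (.leaf 0)) (.node (.leaf 0) (.leaf 0)))) (.node (.node (.node (.leaf 0) (.leaf 0)) (.node (.leaf 0) (.leaf 0))) (.node (.node (.leaf 0) (.leaf 0)) (.node (.leaf 0) (.leaf 0))))) (.node (.node (.node (.node (.leaf 0) (.leaf 0)) (.node (.leaf 0) (.leaf 0))) (.node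 (.node (.leaf 0) (.leaf 0)) (.node (.leaf 0) (.leaf 0)))) (.node (.node (.node (.leaf 0) (.leaf 0)) (.node (.leaf 0) (.leaf 0))) (.node (.node (.leaf 0) (.leaf 0)) (.node (.leaf 0) (.leaf 0)))))))

/-- A point of the block, part 567. -/
def ptCodePart567 : Janko1.Tree ℕ := (.node (.node (.node (.node (.node (.node (.leaf 0) (.leaf 0)) (.node (.leaf 0) (.leaf 0))) (.node (.node (.leaf 0) (.leaf 0)) (.node (.leaf 0) (.leaf 0)))) (.node (.node (.node (.leaf 0) (.leaf 0)) (.node (.leaf 0) (.leaf 0))) (.node (.node (.leaf 0) (.leaf 0)) (.node (.leaf 0) (.leaf 0))))) (.node (.node (.node (.node (.leaf 0) (.leaf 0)) (.node (.leaf 0) (.leaf 0))) (.node (.node (.leaf 0) (.leaf 0)) (.node (.leaf 0) (.leaf 0)))) (.node (.node (.node (.leaf 0) (.leaf 0)) (.node (.leaf 0) (.leaf 0))) (.node (.node (.leaf 0) (.leaf 0)) (.node (.leaf 0) (.leaf 0)))))) (.node (.node (.node (.node (.node (.leaf 0) (.leaf 0)) (.node (.leaf 0) (.leaf 0))) (.node (.node (.leaf 0) (.leaf 0)) (.node (.leaf 0) (.leaf 0)))) (.node (.node (.node (.leaf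 0) (.leaf 0)) (.node (.leaf 0) (.leaf 0))) (.node (.node (.leaf 0) (.leaf 0)) (.node (.leaf 0) (.leaf 0))))) (.node (.node (.node (.node (.leaf 0) (.leaf 0)) (.node (.leaf 0) (.leaf 0))) (.node (.node (.leaf 0) (.leaf 0)) (.node (.leaf 0) (.leaf 0)))) (.node (.node (.node (.leaf 0) (.leaf 0)) (.node (.leaf 0) (.leaf 0))) (.node (.node (.leaf 0) (.leaf 0)) (.node (.leaf 0) (.leaf 0)))))))

/-- A point of the block, part 568. -/
def ptCodePart568 : Janko1.Tree ℕ := (.node (.node (.node (.node (.node (.node (.leaf 0) (.leaf 0)) (.node (.leaf 0) (.leaf 0))) (.node (.node (.leaf 0) (.leaf 0)) (.node (.leaf 0) (.leaf 0)))) (.node (.node (.node (.leaf 0) (.leaf 0)) (.node (.leaf 0) (.leaf 0))) (.node (.node (.leaf 0) (.leaf 0)) (.node (.leaf 0) (.leaf 0))))) (.node (.node (.node (.node (.leaf 0) (.leaf 0)) (.node (.leaf 0) (.leaf 0))) (.node (.node (.leaf 0) (.leaf 0)) (.node (.leaf 0) (.leaf 0)))) (.node (.node (.node (.leaf 0) (.leaf 0)) (.node (.leaf 0) (.leaf 0))) (.node (.node (.leaf 0) (.leaf 0)) (.node (.leaf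 0) (.leaf 0)))))) (.node (.node (.node (.node (.node (.leaf 0) (.leaf 0)) (.node (.leaf 0) (.leaf 0))) (.node (.node (.leaf 0) (.leaf 0)) (.node (.leaf 0) (.leaf 0)))) (.node (.node (.node (.leaf 0) (.leaf 0)) (.node (.leaf 0) (.leaf 0))) (.node (.node (.leaf 0) (.leaf 0)) (.node (.leaf 0) (.leaf 0))))) (.node (.node (.node (.node (.leaf 0) (.leaf 0)) (.node (.leaf 0) (.leaf 0))) (.node (.node (.leaf 0) (.leaf 0)) (.node (.leaf 0) (.leaf 0)))) (.node (.node (.node (.leaf 0) (.leaf 0)) (.node (.leaf 0) (.leaf 0))) (.node (.node (.leaf 0) (.leaf 0)) (.node (.leaf 0) (.leaf 0)))))))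

/-- A point of the block, part 569. -/
def ptCodePart569 : Janko1.Tree ℕ := (.node (.node (.node (.node (.node (.node (.leaf 0) (.leaf 0)) (.node (.leaf 0) (.leaf 0))) (.node (.node (.leaf 0) (.leaf 0)) (.node (.leaf 0) (.leaf 0)))) (.node (.node (.node (.leaf 0) (.leaf 0)) (.node (.leaf 0) (.leaf 0))) (.node (.node (.leaf 0) (.leaf 0)) (.node (.leaf 0) (.leaf 0))))) (.node (.node (.node (.node (.leaf 0) (.leaf 0)) (.node (.leaf 0) (.leaf 0))) (.node (.node (.leaf 0) (.leaf 0)) (.node (.leaf 0) (.leaf 0)))) (.node (.node (.node (.leaf 0) (.leaf 0)) (.node (.leaf 0) (.leaf 0))) (.node (.node (.leaf 0) (.leaf 0)) (.node (.leaf 0) (.leaf 0)))))) (.node (.node (.node (.node (.node (.leaf 0) (.leaf 0)) (.node (.leaf 0) (.leaf 0))) (.node (.node (.leaf 0) (.leaf 0)) (.node (.leaf 0) (.leaf 0)))) (.node (.node (.node (.leaf 0) (.leaf 0)) (.node (.leaf 0) (.leaf 0))) (.node (.node (.leaf 0) (.leaf 0)) (.node (.leaf 0) (.leaf 0))))) (.node (.node (.node (.node (.leaf 0) (.leaf 0)) (.node (.leaf 0) (.leaf 0))) (.node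 (.node (.leaf 0) (.leaf 0)) (.node (.leaf 0) (.leaf 0)))) (.node (.node (.node (.leaf 0) (.leaf 0)) (.node (.leaf 0) (.leaf 0))) (.node (.node (.leaf 0) (.leaf 0)) (.node (.leaf 0) (.leaf 0)))))))

/-- A point of the block, part 570. -/
def ptCodePart570 : Janko1.Tree ℕ := (.node (.node (.node (.node (.node (.node (.leaf 0) (.leaf 0)) (.node (.leaf 0) (.leaf 0))) (.node (.node (.leaf 0) (.leaf 0)) (.node (.leaf 0) (.leaf 0)))) (.node (.node (.node (.leaf 0) (.leaf 0)) (.node (.leaf 0) (.leaf 0))) (.node (.node (.leaf 0) (.leaf 0)) (.node (.leaf 0) (.leaf 0))))) (.node (.node (.node (.node (.leaf 0) (.leaf 0)) (.node (.leaf 0) (.leaf 0))) (.node (.node (.leaf 0) (.leaf 0)) (.node (.leaf 0) (.leaf 0)))) (.node (.node (.node (.leaf 0) (.leaf 0)) (.node (.leaf 0) (.leaf 0))) (.node (.node (.leaf 0) (.leaf 0)) (.node (.leaf 0) (.leaf 0)))))) (.node (.node (.node (.node (.node (.leaf 0) (.leaf 0)) (.node (.leaf 0) (.leaf 0))) (.node (.node (.leaf 0) (.leaf 0)) (.node (.leaf 0) (.leaf 0)))) (.node (.node (.node (.leaf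 0) (.leaf 0)) (.node (.leaf 0) (.leaf 0))) (.node (.node (.leaf 0) (.leaf 0)) (.node (.leaf 0) (.leaf 0))))) (.node (.node (.node (.node (.leaf 0) (.leaf 0)) (.node (.leaf 0) (.leaf 0))) (.node (.node (.leaf 0) (.leaf 0)) (.node (.leaf 0) (.leaf 0)))) (.node (.node (.node (.leaf 0) (.leaf 0)) (.node (.leaf 0) (.leaf 0))) (.node (.node (.leaf 0) (.leaf 0)) (.node (.leaf 0) (.leaf 0)))))))

/-- A point of the block, part 571. -/
def ptCodePart571 : Janko1.Tree ℕ := (.node (.node (.node (.node (.node (.node (.leaf 0) (.leaf 0)) (.node (.leaf 0) (.leaf 0))) (.node (.node (.leaf 0) (.leaf 0)) (.node (.leaf 0) (.leaf 0)))) (.node (.node (.node (.leaf 0) (.leaf 0)) (.node (.leaf 0) (.leaf 0))) (.node (.node (.leaf 0) (.leaf 0)) (.node (.leaf 0) (.leaf 0))))) (.node (.node (.node (.node (.leaf 0) (.leaf 0)) (.node (.leaf 0) (.leaf 0))) (.node (.node (.leaf 0) (.leaf 0)) (.node (.leaf 0) (.leaf 0)))) (.node (.node (.node (.leaf 0) (.leaf 0)) (.node (.leaf 0) (.leaf 0))) (.node (.node (.leaf 0) (.leaf 0)) (.node (.leaf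 0) (.leaf 0)))))) (.node (.node (.node (.node (.node (.leaf 0) (.leaf 0)) (.node (.leaf 0) (.leaf 0))) (.node (.node (.leaf 0) (.leaf 0)) (.node (.leaf 0) (.leaf 0)))) (.node (.node (.node (.leaf 0) (.leaf 0)) (.node (.leaf 0) (.leaf 0))) (.node (.node (.leaf 0) (.leaf 0)) (.node (.leaf 0) (.leaf 0))))) (.node (.node (.node (.node (.leaf 0) (.leaf 0)) (.node (.leaf 0) (.leaf 0))) (.node (.node (.leaf 0) (.leaf 0)) (.node (.leaf 0) (.leaf 0)))) (.node (.node (.node (.leaf 0) (.leaf 0)) (.node (.leaf 0) (.leaf 0))) (.node (.node (.leaf 0) (.leaf 0)) (.node (.leaf 0) (.leaf 0)))))))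

/-- A point of the block, part 572. -/
def ptCodePart572 : Janko1.Tree ℕ := (.node (.node (.node (.node (.node (.node (.leaf 0) (.leaf 0)) (.node (.leaf 0) (.leaf 0))) (.node (.node (.leaf 0) (.leaf 0)) (.node (.leaf 0) (.leaf 0)))) (.node (.node (.node (.leaf 0) (.leaf 0)) (.node (.leaf 0) (.leaf 0))) (.node (.node (.leaf 0) (.leaf 0)) (.node (.leaf 0) (.leaf 0))))) (.node (.node (.node (.node (.leaf 0) (.leaf 0)) (.node (.leaf 0) (.leaf 0))) (.node (.node (.leaf 0) (.leaf 0)) (.node (.leaf 0) (.leaf 0)))) (.node (.node (.node (.leaf 0) (.leaf 0)) (.node (.leaf 0) (.leaf 0))) (.node (.node (.leaf 0) (.leaf 0)) (.node (.leaf 0) (.leaf 0)))))) (.node (.node (.node (.node (.node (.leaf 0) (.leaf 0)) (.node (.leaf 0) (.leaf 0))) (.node (.node (.leaf 0) (.leaf 0)) (.node (.leaf 0) (.leaf 0)))) (.node (.node (.node (.leaf 0) (.leaf 0)) (.node (.leaf 0) (.leaf 0))) (.node (.node (.leaf 0) (.leaf 0)) (.node (.leaf 0) (.leaf 0))))) (.node (.node (.node (.node (.leaf 0) (.leaf 0)) (.node (.leaf 0) (.leaf 0))) (.node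 (.node (.leaf 0) (.leaf 0)) (.node (.leaf 0) (.leaf 0)))) (.node (.node (.node (.leaf 0) (.leaf 0)) (.node (.leaf 0) (.leaf 0))) (.node (.node (.leaf 0) (.leaf 0)) (.node (.leaf 0) (.leaf 0)))))))

/-- A point of the block, part 573. -/
def ptCodePart573 : Janko1.Tree ℕ := (.node (.node (.node (.node (.node (.node (.leaf 0) (.leaf 0)) (.node (.leaf 0) (.leaf 0))) (.node (.node (.leaf 0) (.leaf 0)) (.node (.leaf 0) (.leaf 0)))) (.node (.node (.node (.leaf 0) (.leaf 0)) (.node (.leaf 0) (.leaf 0))) (.node (.node (.leaf 0) (.leaf 0)) (.node (.leaf 0) (.leaf 0))))) (.node (.node (.node (.node (.leaf 0) (.leaf 0)) (.node (.leaf 0) (.leaf 0))) (.node (.node (.leaf 0) (.leaf 0)) (.node (.leaf 0) (.leaf 0)))) (.node (.node (.node (.leaf 0) (.leaf 0)) (.node (.leaf 0) (.leaf 0))) (.node (.node (.leaf 0) (.leaf 0)) (.node (.leaf 0) (.leaf 0)))))) (.node (.node (.node (.node (.node (.leaf 0) (.leaf 0)) (.node (.leaf 0) (.leaf 0))) (.node (.node (.leaf 0) (.leaf 0)) (.node (.leaf 0) (.leaf 0)))) (.node (.node (.node (.leaf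 0) (.leaf 0)) (.node (.leaf 0) (.leaf 0))) (.node (.node (.leaf 0) (.leaf 0)) (.node (.leaf 0) (.leaf 0))))) (.node (.node (.node (.node (.leaf 0) (.leaf 0)) (.node (.leaf 0) (.leaf 0))) (.node (.node (.leaf 0) (.leaf 0)) (.node (.leaf 0) (.leaf 0)))) (.node (.node (.node (.leaf 0) (.leaf 0)) (.node (.leaf 0) (.leaf 0))) (.node (.node (.leaf 0) (.leaf 0)) (.node (.leaf 0) (.leaf 0)))))))

/-- A point of the block, part 574. -/
def ptCodePart574 : Janko1.Tree ℕ := (.node (.node (.node (.node (.node (.node (.leaf 0) (.leaf 0)) (.node (.leaf 0) (.leaf 0))) (.node (.node (.leaf 0) (.leaf 0)) (.node (.leaf 0) (.leaf 0)))) (.node (.node (.node (.leaf 0) (.leaf 0)) (.node (.leaf 0) (.leaf 0))) (.node (.node (.leaf 0) (.leaf 0)) (.node (.leaf 0) (.leaf 0))))) (.node (.node (.node (.node (.leaf 0) (.leaf 0)) (.node (.leaf 0) (.leaf 0))) (.node (.node (.leaf 0) (.leaf 0)) (.node (.leaf 0) (.leaf 0)))) (.node (.node (.node (.leaf 0) (.leaf 0)) (.node (.leaf 0) (.leaf 0))) (.node (.node (.leaf 0) (.leaf 0)) (.node (.leaf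 0) (.leaf 0)))))) (.node (.node (.node (.node (.node (.leaf 0) (.leaf 0)) (.node (.leaf 0) (.leaf 0))) (.node (.node (.leaf 0) (.leaf 0)) (.node (.leaf 0) (.leaf 0)))) (.node (.node (.node (.leaf 0) (.leaf 0)) (.node (.leaf 0) (.leaf 0))) (.node (.node (.leaf 0) (.leaf 0)) (.node (.leaf 0) (.leaf 0))))) (.node (.node (.node (.node (.leaf 0) (.leaf 0)) (.node (.leaf 0) (.leaf 0))) (.node (.node (.leaf 0) (.leaf 0)) (.node (.leaf 0) (.leaf 0)))) (.node (.node (.node (.leaf 0) (.leaf 0)) (.node (.leaf 0) (.leaf 0))) (.node (.node (.leaf 0) (.leaf 0)) (.node (.leaf 0) (.leaf 0)))))))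

/-- A point of the block, part 575. -/
def ptCodePart575 : Janko1.Tree ℕ := (.node (.node (.node (.node (.node (.node (.leaf 0) (.leaf 0)) (.node (.leaf 0) (.leaf 0))) (.node (.node (.leaf 0) (.leaf 0)) (.node (.leaf 0) (.leaf 0)))) (.node (.node (.node (.leaf 0) (.leaf 0)) (.node (.leaf 0) (.leaf 0))) (.node (.node (.leaf 0) (.leaf 0)) (.node (.leaf 0) (.leaf 0))))) (.node (.node (.node (.node (.leaf 0) (.leaf 0)) (.node (.leaf 0) (.leaf 0))) (.node (.node (.leaf 0) (.leaf 0)) (.node (.leaf 0) (.leaf 0)))) (.node (.node (.node (.leaf 0) (.leaf 0)) (.node (.leaf 0) (.leaf 0))) (.node (.node (.leaf 0) (.leaf 0)) (.node (.leaf 0) (.leaf 0)))))) (.node (.node (.node (.node (.node (.leaf 0) (.leaf 0)) (.node (.leaf 0) (.leaf 0))) (.node (.node (.leaf 0) (.leaf 0)) (.node (.leaf 0) (.leaf 0)))) (.node (.node (.node (.leaf 0) (.leaf 0)) (.node (.leaf 0) (.leaf 0))) (.node (.node (.leaf 0) (.leaf 0)) (.node (.leaf 0) (.leaf 0))))) (.node (.node (.node (.node (.leaf 0) (.leaf 0)) (.node (.leaf 0) (.leaf 0))) (.node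 (.node (.leaf 0) (.leaf 0)) (.node (.leaf 0) (.leaf 0)))) (.node (.node (.node (.leaf 0) (.leaf 0)) (.node (.leaf 0) (.leaf 0))) (.node (.node (.leaf 0) (.leaf 0)) (.node (.leaf 0) (.leaf 0)))))))

/-- A point of the block, part 576. -/
def ptCodePart576 : Janko1.Tree ℕ := (.node (.node (.node (.node (.node (.node (.leaf 0) (.leaf 0)) (.node (.leaf 0) (.leaf 0))) (.node (.node (.leaf 0) (.leaf 0)) (.node (.leaf 0) (.leaf 0)))) (.node (.node (.node (.leaf 0) (.leaf 0)) (.node (.leaf 0) (.leaf 0))) (.node (.node (.leaf 0) (.leaf 0)) (.node (.leaf 0) (.leaf 0))))) (.node (.node (.node (.node (.leaf 0) (.leaf 0)) (.node (.leaf 0) (.leaf 0))) (.node (.node (.leaf 0) (.leaf 0)) (.node (.leaf 0) (.leaf 0)))) (.node (.node (.node (.leaf 0) (.leaf 0)) (.node (.leaf 0) (.leaf 0))) (.node (.node (.leaf 0) (.leaf 0)) (.node (.leaf 0) (.leaf 0)))))) (.node (.node (.node (.node (.node (.leaf 0) (.leaf 0)) (.node (.leaf 0) (.leaf 0))) (.node (.node (.leaf 0) (.leaf 0)) (.node (.leaf 0) (.leaf 0)))) (.node (.node (.node (.leaf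 0) (.leaf 0)) (.node (.leaf 0) (.leaf 0))) (.node (.node (.leaf 0) (.leaf 0)) (.node (.leaf 0) (.leaf 0))))) (.node (.node (.node (.node (.leaf 0) (.leaf 0)) (.node (.leaf 0) (.leaf 0))) (.node (.node (.leaf 0) (.leaf 0)) (.node (.leaf 0) (.leaf 0)))) (.node (.node (.node (.leaf 0) (.leaf 0)) (.node (.leaf 0) (.leaf 0))) (.node (.node (.leaf 0) (.leaf 0)) (.node (.leaf 0) (.leaf 0)))))))

/-- A point of the block, part 577. -/
def ptCodePart577 : Janko1.Tree ℕ := (.node (.node (.node (.node (.node (.node (.leaf 0) (.leaf 0)) (.node (.leaf 0) (.leaf 0))) (.node (.node (.leaf 0) (.leaf 0)) (.node (.leaf 0) (.leaf 0)))) (.node (.node (.node (.leaf 0) (.leaf 0)) (.node (.leaf 0) (.leaf 0))) (.node (.node (.leaf 0) (.leaf 0)) (.node (.leaf 0) (.leaf 0))))) (.node (.node (.node (.node (.leaf 0) (.leaf 0)) (.node (.leaf 0) (.leaf 0))) (.node (.node (.leaf 0) (.leaf 0)) (.node (.leaf 0) (.leaf 0)))) (.node (.node (.node (.leaf 0) (.leaf 0)) (.node (.leaf 0) (.leaf 0))) (.node (.node (.leaf 0) (.leaf 0)) (.node (.leaf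 0) (.leaf 0)))))) (.node (.node (.node (.node (.node (.leaf 0) (.leaf 0)) (.node (.leaf 0) (.leaf 0))) (.node (.node (.leaf 0) (.leaf 0)) (.node (.leaf 0) (.leaf 0)))) (.node (.node (.node (.leaf 0) (.leaf 0)) (.node (.leaf 0) (.leaf 0))) (.node (.node (.leaf 0) (.leaf 0)) (.node (.leaf 0) (.leaf 0))))) (.node (.node (.node (.node (.leaf 0) (.leaf 0)) (.node (.leaf 0) (.leaf 0))) (.node (.node (.leaf 0) (.leaf 0)) (.node (.leaf 0) (.leaf 0)))) (.node (.node (.node (.leaf 0) (.leaf 0)) (.node (.leaf 0) (.leaf 0))) (.node (.node (.leaf 0) (.leaf 0)) (.node (.leaf 0) (.leaf 0)))))))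

/-- A point of the block, part 578. -/
def ptCodePart578 : Janko1.Tree ℕ := (.node (.node (.node (.node (.node (.node (.leaf 0) (.leaf 0)) (.node (.leaf 0) (.leaf 0))) (.node (.node (.leaf 0) (.leaf 0)) (.node (.leaf 0) (.leaf 0)))) (.node (.node (.node (.leaf 0) (.leaf 0)) (.node (.leaf 0) (.leaf 0))) (.node (.node (.leaf 0) (.leaf 0)) (.node (.leaf 0) (.leaf 0))))) (.node (.node (.node (.node (.leaf 0) (.leaf 0)) (.node (.leaf 0) (.leaf 0))) (.node (.node (.leaf 0) (.leaf 0)) (.node (.leaf 0) (.leaf 0)))) (.node (.node (.node (.leaf 0) (.leaf 0)) (.node (.leaf 0) (.leaf 0))) (.node (.node (.leaf 0) (.leaf 0)) (.node (.leaf 0) (.leaf 0)))))) (.node (.node (.node (.node (.node (.leaf 0) (.leaf 0)) (.node (.leaf 0) (.leaf 0))) (.node (.node (.leaf 0) (.leaf 0)) (.node (.leaf 0) (.leaf 0)))) (.node (.node (.node (.leaf 0) (.leaf 0)) (.node (.leaf 0) (.leaf 0))) (.node (.node (.leaf 0) (.leaf 0)) (.node (.leaf 0) (.leaf 0))))) (.node (.node (.node (.node (.leaf 0) (.leaf 0)) (.node (.leaf 0) (.leaf 0))) (.node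 (.node (.leaf 0) (.leaf 0)) (.node (.leaf 0) (.leaf 0)))) (.node (.node (.node (.leaf 0) (.leaf 0)) (.node (.leaf 0) (.leaf 0))) (.node (.node (.leaf 0) (.leaf 0)) (.node (.leaf 0) (.leaf 0)))))))

/-- A point of the block, part 579. -/
def ptCodePart579 : Janko1.Tree ℕ := (.node (.node (.node (.node (.node (.node (.leaf 0) (.leaf 0)) (.node (.leaf 0) (.leaf 0))) (.node (.node (.leaf 0) (.leaf 0)) (.node (.leaf 0) (.leaf 0)))) (.node (.node (.node (.leaf 0) (.leaf 0)) (.node (.leaf 0) (.leaf 0))) (.node (.node (.leaf 0) (.leaf 0)) (.node (.leaf 0) (.leaf 0))))) (.node (.node (.node (.node (.leaf 0) (.leaf 0)) (.node (.leaf 0) (.leaf 0))) (.node (.node (.leaf 0) (.leaf 0)) (.node (.leaf 0) (.leaf 0)))) (.node (.node (.node (.leaf 0) (.leaf 0)) (.node (.leaf 0) (.leaf 0))) (.node (.node (.leaf 0) (.leaf 0)) (.node (.leaf 0) (.leaf 0)))))) (.node (.node (.node (.node (.node (.leaf 0) (.leaf 0)) (.node (.leaf 0) (.leaf 0))) (.node (.node (.leaf 0) (.leaf 0)) (.node (.leaf 0) (.leaf 0)))) (.node (.node (.node (.leaf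 0) (.leaf 0)) (.node (.leaf 0) (.leaf 0))) (.node (.node (.leaf 0) (.leaf 0)) (.node (.leaf 0) (.leaf 0))))) (.node (.node (.node (.node (.leaf 0) (.leaf 0)) (.node (.leaf 0) (.leaf 0))) (.node (.node (.leaf 0) (.leaf 0)) (.node (.leaf 0) (.leaf 0)))) (.node (.node (.node (.leaf 0) (.leaf 0)) (.node (.leaf 0) (.leaf 0))) (.node (.node (.leaf 0) (.leaf 0)) (.node (.leaf 0) (.leaf 0)))))))

/-- A point of the block, part 580. -/
def ptCodePart580 : Janko1.Tree ℕ := (.node (.node (.node (.node (.node (.node (.leaf 0) (.leaf 0)) (.node (.leaf 0) (.leaf 0))) (.node (.node (.leaf 0) (.leaf 0)) (.node (.leaf 0) (.leaf 0)))) (.node (.node (.node (.leaf 0) (.leaf 0)) (.node (.leaf 0) (.leaf 0))) (.node (.node (.leaf 0) (.leaf 0)) (.node (.leaf 0) (.leaf 0))))) (.node (.node (.node (.node (.leaf 0) (.leaf 0)) (.node (.leaf 0) (.leaf 0))) (.node (.node (.leaf 0) (.leaf 0)) (.node (.leaf 0) (.leaf 0)))) (.node (.node (.node (.leaf 0) (.leaf 0)) (.node (.leaf 0) (.leaf 0))) (.node (.node (.leaf 0) (.leaf 0)) (.node (.leaf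 0) (.leaf 0)))))) (.node (.node (.node (.node (.node (.leaf 0) (.leaf 0)) (.node (.leaf 0) (.leaf 0))) (.node (.node (.leaf 0) (.leaf 0)) (.node (.leaf 0) (.leaf 0)))) (.node (.node (.node (.leaf 0) (.leaf 0)) (.node (.leaf 0) (.leaf 0))) (.node (.node (.leaf 0) (.leaf 0)) (.node (.leaf 0) (.leaf 0))))) (.node (.node (.node (.node (.leaf 0) (.leaf 0)) (.node (.leaf 0) (.leaf 0))) (.node (.node (.leaf 0) (.leaf 0)) (.node (.leaf 0) (.leaf 0)))) (.node (.node (.node (.leaf 0) (.leaf 0)) (.node (.leaf 0) (.leaf 0))) (.node (.node (.leaf 0) (.leaf 0)) (.node (.leaf 0) (.leaf 0)))))))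

/-- A point of the block, part 581. -/
def ptCodePart581 : Janko1.Tree ℕ := (.node (.node (.node (.node (.node (.node (.leaf 0) (.leaf 0)) (.node (.leaf 0) (.leaf 0))) (.node (.node (.leaf 0) (.leaf 0)) (.node (.leaf 0) (.leaf 0)))) (.node (.node (.node (.leaf 0) (.leaf 0)) (.node (.leaf 0) (.leaf 0))) (.node (.node (.leaf 0) (.leaf 0)) (.node (.leaf 0) (.leaf 0))))) (.node (.node (.node (.node (.leaf 0) (.leaf 0)) (.node (.leaf 0) (.leaf 0))) (.node (.node (.leaf 0) (.leaf 0)) (.node (.leaf 0) (.leaf 0)))) (.node (.node (.node (.leaf 0) (.leaf 0)) (.node (.leaf 0) (.leaf 0))) (.node (.node (.leaf 0) (.leaf 0)) (.node (.leaf 0) (.leaf 0)))))) (.node (.node (.node (.node (.node (.leaf 0) (.leaf 0)) (.node (.leaf 0) (.leaf 0))) (.node (.node (.leaf 0) (.leaf 0)) (.node (.leaf 0) (.leaf 0)))) (.node (.node (.node (.leaf 0) (.leaf 0)) (.node (.leaf 0) (.leaf 0))) (.node (.node (.leaf 0) (.leaf 0)) (.node (.leaf 0) (.leaf 0))))) (.node (.node (.node (.node (.leaf 0) (.leaf 0)) (.node (.leaf 0) (.leaf 0))) (.node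 (.node (.leaf 0) (.leaf 0)) (.node (.leaf 0) (.leaf 0)))) (.node (.node (.node (.leaf 0) (.leaf 0)) (.node (.leaf 0) (.leaf 0))) (.node (.node (.leaf 0) (.leaf 0)) (.node (.leaf 0) (.leaf 0)))))))

/-- A point of the block, part 582. -/
def ptCodePart582 : Janko1.Tree ℕ := (.node (.node (.node (.node (.node (.node (.leaf 0) (.leaf 0)) (.node (.leaf 0) (.leaf 0))) (.node (.node (.leaf 0) (.leaf 0)) (.node (.leaf 0) (.leaf 0)))) (.node (.node (.node (.leaf 0) (.leaf 0)) (.node (.leaf 0) (.leaf 0))) (.node (.node (.leaf 0) (.leaf 0)) (.node (.leaf 0) (.leaf 0))))) (.node (.node (.node (.node (.leaf 0) (.leaf 0)) (.node (.leaf 0) (.leaf 0))) (.node (.node (.leaf 0) (.leaf 0)) (.node (.leaf 0) (.leaf 0)))) (.node (.node (.node (.leaf 0) (.leaf 0)) (.node (.leaf 0) (.leaf 0))) (.node (.node (.leaf 0) (.leaf 0)) (.node (.leaf 0) (.leaf 0)))))) (.node (.node (.node (.node (.node (.leaf 0) (.leaf 0)) (.node (.leaf 0) (.leaf 0))) (.node (.node (.leaf 0) (.leaf 0)) (.node (.leaf 0) (.leaf 0)))) (.node (.node (.node (.leaf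 0) (.leaf 0)) (.node (.leaf 0) (.leaf 0))) (.node (.node (.leaf 0) (.leaf 0)) (.node (.leaf 0) (.leaf 0))))) (.node (.node (.node (.node (.leaf 0) (.leaf 0)) (.node (.leaf 0) (.leaf 0))) (.node (.node (.leaf 0) (.leaf 0)) (.node (.leaf 0) (.leaf 0)))) (.node (.node (.node (.leaf 0) (.leaf 0)) (.node (.leaf 0) (.leaf 0))) (.node (.node (.leaf 0) (.leaf 0)) (.node (.leaf 0) (.leaf 0)))))))

/-- A point of the block, part 583. -/
def ptCodePart583 : Janko1.Tree ℕ := (.node (.node (.node (.node (.node (.node (.leaf 0) (.leaf 0)) (.node (.leaf 0) (.leaf 0))) (.node (.node (.leaf 0) (.leaf 0)) (.node (.leaf 0) (.leaf 0)))) (.node (.node (.node (.leaf 0) (.leaf 0)) (.node (.leaf 0) (.leaf 0))) (.node (.node (.leaf 0) (.leaf 0)) (.node (.leaf 0) (.leaf 0))))) (.node (.node (.node (.node (.leaf 0) (.leaf 0)) (.node (.leaf 0) (.leaf 0))) (.node (.node (.leaf 0) (.leaf 0)) (.node (.leaf 0) (.leaf 0)))) (.node (.node (.node (.leaf 0) (.leaf 0)) (.node (.leaf 0) (.leaf 0))) (.node (.node (.leaf 0) (.leaf 0)) (.node (.leaf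 0) (.leaf 0)))))) (.node (.node (.node (.node (.node (.leaf 0) (.leaf 0)) (.node (.leaf 0) (.leaf 0))) (.node (.node (.leaf 0) (.leaf 0)) (.node (.leaf 0) (.leaf 0)))) (.node (.node (.node (.leaf 0) (.leaf 0)) (.node (.leaf 0) (.leaf 0))) (.node (.node (.leaf 0) (.leaf 0)) (.node (.leaf 0) (.leaf 0))))) (.node (.node (.node (.node (.leaf 0) (.leaf 0)) (.node (.leaf 0) (.leaf 0))) (.node (.node (.leaf 0) (.leaf 0)) (.node (.leaf 0) (.leaf 0)))) (.node (.node (.node (.leaf 0) (.leaf 0)) (.node (.leaf 0) (.leaf 0))) (.node (.node (.leaf 0) (.leaf 0)) (.node (.leaf 0) (.leaf 0)))))))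

/-- A point of the block, part 584. -/
def ptCodePart584 : Janko1.Tree ℕ := (.node (.node (.node (.node (.node (.node (.leaf 0) (.leaf 0)) (.node (.leaf 0) (.leaf 0))) (.node (.node (.leaf 0) (.leaf 0)) (.node (.leaf 0) (.leaf 0)))) (.node (.node (.node (.leaf 0) (.leaf 0)) (.node (.leaf 0) (.leaf 0))) (.node (.node (.leaf 0) (.leaf 0)) (.node (.leaf 0) (.leaf 0))))) (.node (.node (.node (.node (.leaf 0) (.leaf 0)) (.node (.leaf 0) (.leaf 0))) (.node (.node (.leaf 0) (.leaf 0)) (.node (.leaf 0) (.leaf 0)))) (.node (.node (.node (.leaf 0) (.leaf 0)) (.node (.leaf 0) (.leaf 0))) (.node (.node (.leaf 0) (.leaf 0)) (.node (.leaf 0) (.leaf 0)))))) (.node (.node (.node (.node (.node (.leaf 0) (.leaf 0)) (.node (.leaf 0) (.leaf 0))) (.node (.node (.leaf 0) (.leaf 0)) (.node (.leaf 0) (.leaf 0)))) (.node (.node (.node (.leaf 0) (.leaf 0)) (.node (.leaf 0) (.leaf 0))) (.node (.node (.leaf 0) (.leaf 0)) (.node (.leaf 0) (.leaf 0))))) (.node (.node (.node (.node (.leaf 0) (.leaf 0)) (.node (.leaf 0) (.leaf 0))) (.node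 (.node (.leaf 0) (.leaf 0)) (.node (.leaf 0) (.leaf 0)))) (.node (.node (.node (.leaf 0) (.leaf 0)) (.node (.leaf 0) (.leaf 0))) (.node (.node (.leaf 0) (.leaf 0)) (.node (.leaf 0) (.leaf 0)))))))

/-- A point of the block, part 585. -/
def ptCodePart585 : Janko1.Tree ℕ := (.node (.node (.node (.node (.node (.node (.leaf 0) (.leaf 0)) (.node (.leaf 0) (.leaf 0))) (.node (.node (.leaf 0) (.leaf 0)) (.node (.leaf 0) (.leaf 0)))) (.node (.node (.node (.leaf 0) (.leaf 0)) (.node (.leaf 0) (.leaf 0))) (.node (.node (.leaf 0) (.leaf 0)) (.node (.leaf 0) (.leaf 0))))) (.node (.node (.node (.node (.leaf 0) (.leaf 0)) (.node (.leaf 0) (.leaf 0))) (.node (.node (.leaf 0) (.leaf 0)) (.node (.leaf 0) (.leaf 0)))) (.node (.node (.node (.leaf 0) (.leaf 0)) (.node (.leaf 0) (.leaf 0))) (.node (.node (.leaf 0) (.leaf 0)) (.node (.leaf 0) (.leaf 0)))))) (.node (.node (.node (.node (.node (.leaf 0) (.leaf 0)) (.node (.leaf 0) (.leaf 0))) (.node (.node (.leaf 0) (.leaf 0)) (.node (.leaf 0) (.leaf 0)))) (.node (.node (.node (.leaf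 0) (.leaf 0)) (.node (.leaf 0) (.leaf 0))) (.node (.node (.leaf 0) (.leaf 0)) (.node (.leaf 0) (.leaf 0))))) (.node (.node (.node (.node (.leaf 0) (.leaf 0)) (.node (.leaf 0) (.leaf 0))) (.node (.node (.leaf 0) (.leaf 0)) (.node (.leaf 0) (.leaf 0)))) (.node (.node (.node (.leaf 0) (.leaf 0)) (.node (.leaf 0) (.leaf 0))) (.node (.node (.leaf 0) (.leaf 0)) (.node (.leaf 0) (.leaf 0)))))))

/-- A point of the block, part 586. -/
def ptCodePart586 : Janko1.Tree ℕ := (.node (.node (.node (.node (.node (.node (.leaf 0) (.leaf 0)) (.node (.leaf 0) (.leaf 0))) (.node (.node (.leaf 0) (.leaf 0)) (.node (.leaf 0) (.leaf 0)))) (.node (.node (.node (.leaf 0) (.leaf 0)) (.node (.leaf 0) (.leaf 0))) (.node (.node (.leaf 0) (.leaf 0)) (.node (.leaf 0) (.leaf 0))))) (.node (.node (.node (.node (.leaf 0) (.leaf 0)) (.node (.leaf 0) (.leaf 0))) (.node (.node (.leaf 0) (.leaf 0)) (.node (.leaf 0) (.leaf 0)))) (.node (.node (.node (.leaf 0) (.leaf 0)) (.node (.leaf 0) (.leaf 0))) (.node (.node (.leaf 0) (.leaf 0)) (.node (.leaf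 0) (.leaf 0)))))) (.node (.node (.node (.node (.node (.leaf 0) (.leaf 0)) (.node (.leaf 0) (.leaf 0))) (.node (.node (.leaf 0) (.leaf 0)) (.node (.leaf 0) (.leaf 0)))) (.node (.node (.node (.leaf 0) (.leaf 0)) (.node (.leaf 0) (.leaf 0))) (.node (.node (.leaf 0) (.leaf 0)) (.node (.leaf 0) (.leaf 0))))) (.node (.node (.node (.node (.leaf 0) (.leaf 0)) (.node (.leaf 0) (.leaf 0))) (.node (.node (.leaf 0) (.leaf 0)) (.node (.leaf 0) (.leaf 0)))) (.node (.node (.node (.leaf 0) (.leaf 0)) (.node (.leaf 0) (.leaf 0))) (.node (.node (.leaf 0) (.leaf 0)) (.node (.leaf 0) (.leaf 0)))))))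

/-- A point of the block, part 587. -/
def ptCodePart587 : Janko1.Tree ℕ := (.node (.node (.node (.node (.node (.node (.leaf 0) (.leaf 0)) (.node (.leaf 0) (.leaf 0))) (.node (.node (.leaf 0) (.leaf 0)) (.node (.leaf 0) (.leaf 0)))) (.node (.node (.node (.leaf 0) (.leaf 0)) (.node (.leaf 0) (.leaf 0))) (.node (.node (.leaf 0) (.leaf 0)) (.node (.leaf 0) (.leaf 0))))) (.node (.node (.node (.node (.leaf 0) (.leaf 0)) (.node (.leaf 0) (.leaf 0))) (.node (.node (.leaf 0) (.leaf 0)) (.node (.leaf 0) (.leaf 0)))) (.node (.node (.node (.leaf 0) (.leaf 0)) (.node (.leaf 0) (.leaf 0))) (.node (.node (.leaf 0) (.leaf 0)) (.node (.leaf 0) (.leaf 0)))))) (.node (.node (.node (.node (.node (.leaf 0) (.leaf 0)) (.node (.leaf 0) (.leaf 0))) (.node (.node (.leaf 0) (.leaf 0)) (.node (.leaf 0) (.leaf 0)))) (.node (.node (.node (.leaf 0) (.leaf 0)) (.node (.leaf 0) (.leaf 0))) (.node (.node (.leaf 0) (.leaf 0)) (.node (.leaf 0) (.leaf 0))))) (.node (.node (.node (.node (.leaf 0) (.leaf 0)) (.node (.leaf 0) (.leaf 0))) (.node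 (.node (.leaf 0) (.leaf 0)) (.node (.leaf 0) (.leaf 0)))) (.node (.node (.node (.leaf 0) (.leaf 0)) (.node (.leaf 0) (.leaf 0))) (.node (.node (.leaf 0) (.leaf 0)) (.node (.leaf 0) (.leaf 0)))))))

/-- A point of the block, part 588. -/
def ptCodePart588 : Janko1.Tree ℕ := (.node (.node (.node (.node (.node (.node (.leaf 0) (.leaf 0)) (.node (.leaf 0) (.leaf 0))) (.node (.node (.leaf 0) (.leaf 0)) (.node (.leaf 0) (.leaf 0)))) (.node (.node (.node (.leaf 0) (.leaf 0)) (.node (.leaf 0) (.leaf 0))) (.node (.node (.leaf 0) (.leaf 0)) (.node (.leaf 0) (.leaf 0))))) (.node (.node (.node (.node (.leaf 0) (.leaf 0)) (.node (.leaf 0) (.leaf 0))) (.node (.node (.leaf 0) (.leaf 0)) (.node (.leaf 0) (.leaf 0)))) (.node (.node (.node (.leaf 0) (.leaf 0)) (.node (.leaf 0) (.leaf 0))) (.node (.node (.leaf 0) (.leaf 0)) (.node (.leaf 0) (.leaf 0)))))) (.node (.node (.node (.node (.node (.leaf 0) (.leaf 0)) (.node (.leaf 0) (.leaf 0))) (.node (.node (.leaf 0) (.leaf 0)) (.node (.leaf 0) (.leaf 0)))) (.node (.node (.node (.leaf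 0) (.leaf 0)) (.node (.leaf 0) (.leaf 0))) (.node (.node (.leaf 0) (.leaf 0)) (.node (.leaf 0) (.leaf 0))))) (.node (.node (.node (.node (.leaf 0) (.leaf 0)) (.node (.leaf 0) (.leaf 0))) (.node (.node (.leaf 0) (.leaf 0)) (.node (.leaf 0) (.leaf 0)))) (.node (.node (.node (.leaf 0) (.leaf 0)) (.node (.leaf 0) (.leaf 0))) (.node (.node (.leaf 0) (.leaf 0)) (.node (.leaf 0) (.leaf 0)))))))

/-- A point of the block, part 589. -/
def ptCodePart589 : Janko1.Tree ℕ := (.node (.node (.node (.node (.node (.node (.leaf 0) (.leaf 0)) (.node (.leaf 0) (.leaf 0))) (.node (.node (.leaf 0) (.leaf 0)) (.node (.leaf 0) (.leaf 0)))) (.node (.node (.node (.leaf 0) (.leaf 0)) (.node (.leaf 0) (.leaf 0))) (.node (.node (.leaf 0) (.leaf 0)) (.node (.leaf 0) (.leaf 0))))) (.node (.node (.node (.node (.leaf 0) (.leaf 0)) (.node (.leaf 0) (.leaf 0))) (.node (.node (.leaf 0) (.leaf 0)) (.node (.leaf 0) (.leaf 0)))) (.node (.node (.node (.leaf 0) (.leaf 0)) (.node (.leaf 0) (.leaf 0))) (.node (.node (.leaf 0) (.leaf 0)) (.node (.leaf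 0) (.leaf 0)))))) (.node (.node (.node (.node (.node (.leaf 0) (.leaf 0)) (.node (.leaf 0) (.leaf 0))) (.node (.node (.leaf 0) (.leaf 0)) (.node (.leaf 0) (.leaf 0)))) (.node (.node (.node (.leaf 0) (.leaf 0)) (.node (.leaf 0) (.leaf 0))) (.node (.node (.leaf 0) (.leaf 0)) (.node (.leaf 0) (.leaf 0))))) (.node (.node (.node (.node (.leaf 0) (.leaf 0)) (.node (.leaf 0) (.leaf 0))) (.node (.node (.leaf 0) (.leaf 0)) (.node (.leaf 0) (.leaf 0)))) (.node (.node (.node (.leaf 0) (.leaf 0)) (.node (.leaf 0) (.leaf 0))) (.node (.node (.leaf 0) (.leaf 0)) (.node (.leaf 0) (.leaf 0)))))))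

/-- A point of the block, part 590. -/
def ptCodePart590 : Janko1.Tree ℕ := (.node (.node (.node (.node (.node (.node (.leaf 0) (.leaf 0)) (.node (.leaf 0) (.leaf 0))) (.node (.node (.leaf 0) (.leaf 0)) (.node (.leaf 0) (.leaf 0)))) (.node (.node (.node (.leaf 0) (.leaf 0)) (.node (.leaf 0) (.leaf 0))) (.node (.node (.leaf 0) (.leaf 0)) (.node (.leaf 0) (.leaf 0))))) (.node (.node (.node (.node (.leaf 0) (.leaf 0)) (.node (.leaf 0) (.leaf 0))) (.node (.node (.leaf 0) (.leaf 0)) (.node (.leaf 0) (.leaf 0)))) (.node (.node (.node (.leaf 0) (.leaf 0)) (.node (.leaf 0) (.leaf 0))) (.node (.node (.leaf 0) (.leaf 0)) (.node (.leaf 0) (.leaf 0)))))) (.node (.node (.node (.node (.node (.leaf 0) (.leaf 0)) (.node (.leaf 0) (.leaf 0))) (.node (.node (.leaf 0) (.leaf 0)) (.node (.leaf 0) (.leaf 0)))) (.node (.node (.node (.leaf 0) (.leaf 0)) (.node (.leaf 0) (.leaf 0))) (.node (.node (.leaf 0) (.leaf 0)) (.node (.leaf 0) (.leaf 0))))) (.node (.node (.node (.node (.leaf 0) (.leaf 0)) (.node (.leaf 0) (.leaf 0))) (.node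 (.node (.leaf 0) (.leaf 0)) (.node (.leaf 0) (.leaf 0)))) (.node (.node (.node (.leaf 0) (.leaf 0)) (.node (.leaf 0) (.leaf 0))) (.node (.node (.leaf 0) (.leaf 0)) (.node (.leaf 0) (.leaf 0)))))))

/-- A point of the block, part 591. -/
def ptCodePart591 : Janko1.Tree ℕ := (.node (.node (.node (.node (.node (.node (.leaf 0) (.leaf 0)) (.node (.leaf 0) (.leaf 0))) (.node (.node (.leaf 0) (.leaf 0)) (.node (.leaf 0) (.leaf 0)))) (.node (.node (.node (.leaf 0) (.leaf 0)) (.node (.leaf 0) (.leaf 0))) (.node (.node (.leaf 0) (.leaf 0)) (.node (.leaf 0) (.leaf 0))))) (.node (.node (.node (.node (.leaf 0) (.leaf 0)) (.node (.leaf 0) (.leaf 0))) (.node (.node (.leaf 0) (.leaf 0)) (.node (.leaf 0) (.leaf 0)))) (.node (.node (.node (.leaf 0) (.leaf 0)) (.node (.leaf 0) (.leaf 0))) (.node (.node (.leaf 0) (.leaf 0)) (.node (.leaf 0) (.leaf 0)))))) (.node (.node (.node (.node (.node (.leaf 0) (.leaf 0)) (.node (.leaf 0) (.leaf 0))) (.node (.node (.leaf 0) (.leaf 0)) (.node (.leaf 0) (.leaf 0)))) (.node (.node (.node (.leaf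 0) (.leaf 0)) (.node (.leaf 0) (.leaf 0))) (.node (.node (.leaf 0) (.leaf 0)) (.node (.leaf 0) (.leaf 0))))) (.node (.node (.node (.node (.leaf 0) (.leaf 0)) (.node (.leaf 0) (.leaf 0))) (.node (.node (.leaf 0) (.leaf 0)) (.node (.leaf 0) (.leaf 0)))) (.node (.node (.node (.leaf 0) (.leaf 0)) (.node (.leaf 0) (.leaf 0))) (.node (.node (.leaf 0) (.leaf 0)) (.node (.leaf 0) (.leaf 0)))))))

/-- A point of the block, part 592. -/
def ptCodePart592 : Janko1.Tree ℕ := (.node (.node (.node (.node (.node (.node (.leaf 0) (.leaf 0)) (.node (.leaf 0) (.leaf 0))) (.node (.node (.leaf 0) (.leaf 0)) (.node (.leaf 0) (.leaf 0)))) (.node (.node (.node (.leaf 0) (.leaf 0)) (.node (.leaf 0) (.leaf 0))) (.node (.node (.leaf 0) (.leaf 0)) (.node (.leaf 0) (.leaf 0))))) (.node (.node (.node (.node (.leaf 0) (.leaf 0)) (.node (.leaf 0) (.leaf 0))) (.node (.node (.leaf 0) (.leaf 0)) (.node (.leaf 0) (.leaf 0)))) (.node (.node (.node (.leaf 0) (.leaf 0)) (.node (.leaf 0) (.leaf 0))) (.node (.node (.leaf 0) (.leaf 0)) (.node (.leaf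 0) (.leaf 0)))))) (.node (.node (.node (.node (.node (.leaf 0) (.leaf 0)) (.node (.leaf 0) (.leaf 0))) (.node (.node (.leaf 0) (.leaf 0)) (.node (.leaf 0) (.leaf 0)))) (.node (.node (.node (.leaf 0) (.leaf 0)) (.node (.leaf 0) (.leaf 0))) (.node (.node (.leaf 0) (.leaf 0)) (.node (.leaf 0) (.leaf 0))))) (.node (.node (.node (.node (.leaf 0) (.leaf 0)) (.node (.leaf 0) (.leaf 0))) (.node (.node (.leaf 0) (.leaf 0)) (.node (.leaf 0) (.leaf 0)))) (.node (.node (.node (.leaf 0) (.leaf 0)) (.node (.leaf 0) (.leaf 0))) (.node (.node (.leaf 0) (.leaf 0)) (.node (.leaf 0) (.leaf 0)))))))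

/-- A point of the block, part 593. -/
def ptCodePart593 : Janko1.Tree ℕ := (.node (.node (.node (.node (.node (.node (.leaf 0) (.leaf 0)) (.node (.leaf 0) (.leaf 0))) (.node (.node (.leaf 0) (.leaf 0)) (.node (.leaf 0) (.leaf 0)))) (.node (.node (.node (.leaf 0) (.leaf 0)) (.node (.leaf 0) (.leaf 0))) (.node (.node (.leaf 0) (.leaf 0)) (.node (.leaf 0) (.leaf 0))))) (.node (.node (.node (.node (.leaf 0) (.leaf 0)) (.node (.leaf 0) (.leaf 0))) (.node (.node (.leaf 0) (.leaf 0)) (.node (.leaf 0) (.leaf 0)))) (.node (.node (.node (.leaf 0) (.leaf 0)) (.node (.leaf 0) (.leaf 0))) (.node (.node (.leaf 0) (.leaf 0)) (.node (.leaf 0) (.leaf 0)))))) (.node (.node (.node (.node (.node (.leaf 0) (.leaf 0)) (.node (.leaf 0) (.leaf 0))) (.node (.node (.leaf 0) (.leaf 0)) (.node (.leaf 0) (.leaf 0)))) (.node (.node (.node (.leaf 0) (.leaf 0)) (.node (.leaf 0) (.leaf 0))) (.node (.node (.leaf 0) (.leaf 0)) (.node (.leaf 0) (.leaf 0))))) (.node (.node (.node (.node (.leaf 0) (.leaf 0)) (.node (.leaf 0) (.leaf 0))) (.node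 (.node (.leaf 0) (.leaf 0)) (.node (.leaf 0) (.leaf 0)))) (.node (.node (.node (.leaf 0) (.leaf 0)) (.node (.leaf 0) (.leaf 0))) (.node (.node (.leaf 0) (.leaf 0)) (.node (.leaf 0) (.leaf 0)))))))

/-- A point of the block, part 594. -/
def ptCodePart594 : Janko1.Tree ℕ := (.node (.node (.node (.node (.node (.node (.leaf 0) (.leaf 0)) (.node (.leaf 0) (.leaf 0))) (.node (.node (.leaf 0) (.leaf 0)) (.node (.leaf 0) (.leaf 0)))) (.node (.node (.node (.leaf 0) (.leaf 0)) (.node (.leaf 0) (.leaf 0))) (.node (.node (.leaf 0) (.leaf 0)) (.node (.leaf 0) (.leaf 0))))) (.node (.node (.node (.node (.leaf 0) (.leaf 0)) (.node (.leaf 0) (.leaf 0))) (.node (.node (.leaf 0) (.leaf 0)) (.node (.leaf 0) (.leaf 0)))) (.node (.node (.node (.leaf 0) (.leaf 0)) (.node (.leaf 0) (.leaf 0))) (.node (.node (.leaf 0) (.leaf 0)) (.node (.leaf 0) (.leaf 0)))))) (.node (.node (.node (.node (.node (.leaf 0) (.leaf 0)) (.node (.leaf 0) (.leaf 0))) (.node (.node (.leaf 0) (.leaf 0)) (.node (.leaf 0) (.leaf 0)))) (.node (.node (.node (.leaf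 0) (.leaf 0)) (.node (.leaf 0) (.leaf 0))) (.node (.node (.leaf 0) (.leaf 0)) (.node (.leaf 0) (.leaf 0))))) (.node (.node (.node (.node (.leaf 0) (.leaf 0)) (.node (.leaf 0) (.leaf 0))) (.node (.node (.leaf 0) (.leaf 0)) (.node (.leaf 0) (.leaf 0)))) (.node (.node (.node (.leaf 0) (.leaf 0)) (.node (.leaf 0) (.leaf 0))) (.node (.node (.leaf 0) (.leaf 0)) (.node (.leaf 0) (.leaf 0)))))))

/-- A point of the block, part 595. -/
def ptCodePart595 : Janko1.Tree ℕ := (.node (.node (.node (.node (.node (.node (.leaf 0) (.leaf 0)) (.node (.leaf 0) (.leaf 0))) (.node (.node (.leaf 0) (.leaf 0)) (.node (.leaf 0) (.leaf 0)))) (.node (.node (.node (.leaf 0) (.leaf 0)) (.node (.leaf 0) (.leaf 0))) (.node (.node (.leaf 0) (.leaf 0)) (.node (.leaf 0) (.leaf 0))))) (.node (.node (.node (.node (.leaf 0) (.leaf 0)) (.node (.leaf 0) (.leaf 0))) (.node (.node (.leaf 0) (.leaf 0)) (.node (.leaf 0) (.leaf 0)))) (.node (.node (.node (.leaf 0) (.leaf 0)) (.node (.leaf 0) (.leaf 0))) (.node (.node (.leaf 0) (.leaf 0)) (.node (.leaf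 0) (.leaf 0)))))) (.node (.node (.node (.node (.node (.leaf 0) (.leaf 0)) (.node (.leaf 0) (.leaf 0))) (.node (.node (.leaf 0) (.leaf 0)) (.node (.leaf 0) (.leaf 0)))) (.node (.node (.node (.leaf 0) (.leaf 0)) (.node (.leaf 0) (.leaf 0))) (.node (.node (.leaf 0) (.leaf 0)) (.node (.leaf 0) (.leaf 0))))) (.node (.node (.node (.node (.leaf 0) (.leaf 0)) (.node (.leaf 0) (.leaf 0))) (.node (.node (.leaf 0) (.leaf 0)) (.node (.leaf 0) (.leaf 0)))) (.node (.node (.node (.leaf 0) (.leaf 0)) (.node (.leaf 0) (.leaf 0))) (.node (.node (.leaf 0) (.leaf 0)) (.node (.leaf 0) (.leaf 0)))))))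

/-- A point of the block, part 596. -/
def ptCodePart596 : Janko1.Tree ℕ := (.node (.node (.node (.node (.node (.node (.leaf 0) (.leaf 0)) (.node (.leaf 0) (.leaf 0))) (.node (.node (.leaf 0) (.leaf 0)) (.node (.leaf 0) (.leaf 0)))) (.node (.node (.node (.leaf 0) (.leaf 0)) (.node (.leaf 0) (.leaf 0))) (.node (.node (.leaf 0) (.leaf 0)) (.node (.leaf 0) (.leaf 0))))) (.node (.node (.node (.node (.leaf 0) (.leaf 0)) (.node (.leaf 0) (.leaf 0))) (.node (.node (.leaf 0) (.leaf 0)) (.node (.leaf 0) (.leaf 0)))) (.node (.node (.node (.leaf 0) (.leaf 0)) (.node (.leaf 0) (.leaf 0))) (.node (.node (.leaf 0) (.leaf 0)) (.node (.leaf 0) (.leaf 0)))))) (.node (.node (.node (.node (.node (.leaf 0) (.leaf 0)) (.node (.leaf 0) (.leaf 0))) (.node (.node (.leaf 0) (.leaf 0)) (.node (.leaf 0) (.leaf 0)))) (.node (.node (.node (.leaf 0) (.leaf 0)) (.node (.leaf 0) (.leaf 0))) (.node (.node (.leaf 0) (.leaf 0)) (.node (.leaf 0) (.leaf 0))))) (.node (.node (.node (.node (.leaf 0) (.leaf 0)) (.node (.leaf 0) (.leaf 0))) (.node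 (.node (.leaf 0) (.leaf 0)) (.node (.leaf 0) (.leaf 0)))) (.node (.node (.node (.leaf 0) (.leaf 0)) (.node (.leaf 0) (.leaf 0))) (.node (.node (.leaf 0) (.leaf 0)) (.node (.leaf 0) (.leaf 0)))))))

/-- A point of the block, part 597. -/
def ptCodePart597 : Janko1.Tree ℕ := (.node (.node (.node (.node (.node (.node (.leaf 0) (.leaf 0)) (.node (.leaf 0) (.leaf 0))) (.node (.node (.leaf 0) (.leaf 0)) (.node (.leaf 0) (.leaf 0)))) (.node (.node (.node (.leaf 0) (.leaf 0)) (.node (.leaf 0) (.leaf 0))) (.node (.node (.leaf 0) (.leaf 0)) (.node (.leaf 0) (.leaf 0))))) (.node (.node (.node (.node (.leaf 0) (.leaf 0)) (.node (.leaf 0) (.leaf 0))) (.node (.node (.leaf 0) (.leaf 0)) (.node (.leaf 0) (.leaf 0)))) (.node (.node (.node (.leaf 0) (.leaf 0)) (.node (.leaf 0) (.leaf 0))) (.node (.node (.leaf 0) (.leaf 0)) (.node (.leaf 0) (.leaf 0)))))) (.node (.node (.node (.node (.node (.leaf 0) (.leaf 0)) (.node (.leaf 0) (.leaf 0))) (.node (.node (.leaf 0) (.leaf 0)) (.node (.leaf 0) (.leaf 0)))) (.node (.node (.node (.leaf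 0) (.leaf 0)) (.node (.leaf 0) (.leaf 0))) (.node (.node (.leaf 0) (.leaf 0)) (.node (.leaf 0) (.leaf 0))))) (.node (.node (.node (.node (.leaf 0) (.leaf 0)) (.node (.leaf 0) (.leaf 0))) (.node (.node (.leaf 0) (.leaf 0)) (.node (.leaf 0) (.leaf 0)))) (.node (.node (.node (.leaf 0) (.leaf 0)) (.node (.leaf 0) (.leaf 0))) (.node (.node (.leaf 0) (.leaf 0)) (.node (.leaf 0) (.leaf 0)))))))

/-- A point of the block, part 598. -/
def ptCodePart598 : Janko1.Tree ℕ := (.node (.node (.node (.node (.node (.node (.leaf 0) (.leaf 0)) (.node (.leaf 0) (.leaf 0))) (.node (.node (.leaf 0) (.leaf 0)) (.node (.leaf 0) (.leaf 0)))) (.node (.node (.node (.leaf 0) (.leaf 0)) (.node (.leaf 0) (.leaf 0))) (.node (.node (.leaf 0) (.leaf 0)) (.node (.leaf 0) (.leaf 0))))) (.node (.node (.node (.node (.leaf 0) (.leaf 0)) (.node (.leaf 0) (.leaf 0))) (.node (.node (.leaf 0) (.leaf 0)) (.node (.leaf 0) (.leaf 0)))) (.node (.node (.node (.leaf 0) (.leaf 0)) (.node (.leaf 0) (.leaf 0))) (.node (.node (.leaf 0) (.leaf 0)) (.node (.leaf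 0) (.leaf 0)))))) (.node (.node (.node (.node (.node (.leaf 0) (.leaf 0)) (.node (.leaf 0) (.leaf 0))) (.node (.node (.leaf 0) (.leaf 0)) (.node (.leaf 0) (.leaf 0)))) (.node (.node (.node (.leaf 0) (.leaf 0)) (.node (.leaf 0) (.leaf 0))) (.node (.node (.leaf 0) (.leaf 0)) (.node (.leaf 0) (.leaf 0))))) (.node (.node (.node (.node (.leaf 0) (.leaf 0)) (.node (.leaf 0) (.leaf 0))) (.node (.node (.leaf 0) (.leaf 0)) (.node (.leaf 0) (.leaf 0)))) (.node (.node (.node (.leaf 0) (.leaf 0)) (.node (.leaf 0) (.leaf 0))) (.node (.node (.leaf 0) (.leaf 0)) (.node (.leaf 0) (.leaf 0)))))))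

/-- A point of the block, part 599. -/
def ptCodePart599 : Janko1.Tree ℕ := (.node (.node (.node (.node (.node (.node (.leaf 0) (.leaf 0)) (.node (.leaf 0) (.leaf 0))) (.node (.node (.leaf 0) (.leaf 0)) (.node (.leaf 0) (.leaf 0)))) (.node (.node (.node (.leaf 0) (.leaf 0)) (.node (.leaf 0) (.leaf 0))) (.node (.node (.leaf 0) (.leaf 0)) (.node (.leaf 0) (.leaf 0))))) (.node (.node (.node (.node (.leaf 0) (.leaf 0)) (.node (.leaf 0) (.leaf 0))) (.node (.node (.leaf 0) (.leaf 0)) (.node (.leaf 0) (.leaf 0)))) (.node (.node (.node (.leaf 0) (.leaf 0)) (.node (.leaf 0) (.leaf 0))) (.node (.node (.leaf 0) (.leaf 0)) (.node (.leaf 0) (.leaf 0)))))) (.node (.node (.node (.node (.node (.leaf 0) (.leaf 0)) (.node (.leaf 0) (.leaf 0))) (.node (.node (.leaf 0) (.leaf 0)) (.node (.leaf 0) (.leaf 0)))) (.node (.node (.node (.leaf 0) (.leaf 0)) (.node (.leaf 0) (.leaf 0))) (.node (.node (.leaf 0) (.leaf 0)) (.node (.leaf 0) (.leaf 0))))) (.node (.node (.node (.node (.leaf 0) (.leaf 0)) (.node (.leaf 0) (.leaf 0))) (.node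 (.node (.leaf 0) (.leaf 0)) (.node (.leaf 0) (.leaf 0)))) (.node (.node (.node (.leaf 0) (.leaf 0)) (.node (.leaf 0) (.leaf 0))) (.node (.node (.leaf 0) (.leaf 0)) (.node (.leaf 0) (.leaf 0)))))))

/-- A point of the block, part 600. -/
def ptCodePart600 : Janko1.Tree ℕ := (.node (.node (.node (.node (.node (.node (.leaf 0) (.leaf 0)) (.node (.leaf 0) (.leaf 0))) (.node (.node (.leaf 0) (.leaf 0)) (.node (.leaf 0) (.leaf 0)))) (.node (.node (.node (.leaf 0) (.leaf 0)) (.node (.leaf 0) (.leaf 0))) (.node (.node (.leaf 0) (.leaf 0)) (.node (.leaf 0) (.leaf 0))))) (.node (.node (.node (.node (.leaf 0) (.leaf 0)) (.node (.leaf 0) (.leaf 0))) (.node (.node (.leaf 0) (.leaf 0)) (.node (.leaf 0) (.leaf 0)))) (.node (.node (.node (.leaf 0) (.leaf 0)) (.node (.leaf 0) (.leaf 0))) (.node (.node (.leaf 0) (.leaf 0)) (.node (.leaf 0) (.leaf 0)))))) (.node (.node (.node (.node (.node (.leaf 0) (.leaf 0)) (.node (.leaf 0) (.leaf 0))) (.node (.node (.leaf 0) (.leaf 0)) (.node (.leaf 0) (.leaf 0)))) (.node (.node (.node (.leaf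 0) (.leaf 0)) (.node (.leaf 0) (.leaf 0))) (.node (.node (.leaf 0) (.leaf 0)) (.node (.leaf 0) (.leaf 0))))) (.node (.node (.node (.node (.leaf 0) (.leaf 0)) (.node (.leaf 0) (.leaf 0))) (.node (.node (.leaf 0) (.leaf 0)) (.node (.leaf 0) (.leaf 0)))) (.node (.node (.node (.leaf 0) (.leaf 0)) (.node (.leaf 0) (.leaf 0))) (.node (.node (.leaf 0) (.leaf 0)) (.node (.leaf 0) (.leaf 0)))))))

/-- A point of the block, part 601. -/
def ptCodePart601 : Janko1.Tree ℕ := (.node (.node (.node (.node (.node (.node (.leaf 0) (.leaf 0)) (.node (.leaf 0) (.leaf 0))) (.node (.node (.leaf 0) (.leaf 0)) (.node (.leaf 0) (.leaf 0)))) (.node (.node (.node (.leaf 0) (.leaf 0)) (.node (.leaf 0) (.leaf 0))) (.node (.node (.leaf 0) (.leaf 0)) (.node (.leaf 0) (.leaf 0))))) (.node (.node (.node (.node (.leaf 0) (.leaf 0)) (.node (.leaf 0) (.leaf 0))) (.node (.node (.leaf 0) (.leaf 0)) (.node (.leaf 0) (.leaf 0)))) (.node (.node (.node (.leaf 0) (.leaf 0)) (.node (.leaf 0) (.leaf 0))) (.node (.node (.leaf 0) (.leaf 0)) (.node (.leaf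 0) (.leaf 0)))))) (.node (.node (.node (.node (.node (.leaf 0) (.leaf 0)) (.node (.leaf 0) (.leaf 0))) (.node (.node (.leaf 0) (.leaf 0)) (.node (.leaf 0) (.leaf 0)))) (.node (.node (.node (.leaf 0) (.leaf 0)) (.node (.leaf 0) (.leaf 0))) (.node (.node (.leaf 0) (.leaf 0)) (.node (.leaf 0) (.leaf 0))))) (.node (.node (.node (.node (.leaf 0) (.leaf 0)) (.node (.leaf 0) (.leaf 0))) (.node (.node (.leaf 0) (.leaf 0)) (.node (.leaf 0) (.leaf 0)))) (.node (.node (.node (.leaf 0) (.leaf 0)) (.node (.leaf 0) (.leaf 0))) (.node (.node (.leaf 0) (.leaf 0)) (.node (.leaf 0) (.leaf 0)))))))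

/-- A point of the block, part 602. -/
def ptCodePart602 : Janko1.Tree ℕ := (.node (.node (.node (.node (.node (.node (.leaf 0) (.leaf 0)) (.node (.leaf 0) (.leaf 0))) (.node (.node (.leaf 0) (.leaf 0)) (.node (.leaf 0) (.leaf 0)))) (.node (.node (.node (.leaf 0) (.leaf 0)) (.node (.leaf 0) (.leaf 0))) (.node (.node (.leaf 0) (.leaf 0)) (.node (.leaf 0) (.leaf 0))))) (.node (.node (.node (.node (.leaf 0) (.leaf 0)) (.node (.leaf 0) (.leaf 0))) (.node (.node (.leaf 0) (.leaf 0)) (.node (.leaf 0) (.leaf 0)))) (.node (.node (.node (.leaf 0) (.leaf 0)) (.node (.leaf 0) (.leaf 0))) (.node (.node (.leaf 0) (.leaf 0)) (.node (.leaf 0) (.leaf 0)))))) (.node (.node (.node (.node (.node (.leaf 0) (.leaf 0)) (.node (.leaf 0) (.leaf 0))) (.node (.node (.leaf 0) (.leaf 0)) (.node (.leaf 0) (.leaf 0)))) (.node (.node (.node (.leaf 0) (.leaf 0)) (.node (.leaf 0) (.leaf 0))) (.node (.node (.leaf 0) (.leaf 0)) (.node (.leaf 0) (.leaf 0))))) (.node (.node (.node (.node (.leaf 0) (.leaf 0)) (.node (.leaf 0) (.leaf 0))) (.node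 (.node (.leaf 0) (.leaf 0)) (.node (.leaf 0) (.leaf 0)))) (.node (.node (.node (.leaf 0) (.leaf 0)) (.node (.leaf 0) (.leaf 0))) (.node (.node (.leaf 0) (.leaf 0)) (.node (.leaf 0) (.leaf 0)))))))

/-- A point of the block, part 603. -/
def ptCodePart603 : Janko1.Tree ℕ := (.node (.node (.node (.node (.node (.node (.leaf 0) (.leaf 0)) (.node (.leaf 0) (.leaf 0))) (.node (.node (.leaf 0) (.leaf 0)) (.node (.leaf 0) (.leaf 0)))) (.node (.node (.node (.leaf 0) (.leaf 0)) (.node (.leaf 0) (.leaf 0))) (.node (.node (.leaf 0) (.leaf 0)) (.node (.leaf 0) (.leaf 0))))) (.node (.node (.node (.node (.leaf 0) (.leaf 0)) (.node (.leaf 0) (.leaf 0))) (.node (.node (.leaf 0) (.leaf 0)) (.node (.leaf 0) (.leaf 0)))) (.node (.node (.node (.leaf 0) (.leaf 0)) (.node (.leaf 0) (.leaf 0))) (.node (.node (.leaf 0) (.leaf 0)) (.node (.leaf 0) (.leaf 0)))))) (.node (.node (.node (.node (.node (.leaf 0) (.leaf 0)) (.node (.leaf 0) (.leaf 0))) (.node (.node (.leaf 0) (.leaf 0)) (.node (.leaf 0) (.leaf 0)))) (.node (.node (.node (.leaf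 0) (.leaf 0)) (.node (.leaf 0) (.leaf 0))) (.node (.node (.leaf 0) (.leaf 0)) (.node (.leaf 0) (.leaf 0))))) (.node (.node (.node (.node (.leaf 0) (.leaf 0)) (.node (.leaf 0) (.leaf 0))) (.node (.node (.leaf 0) (.leaf 0)) (.node (.leaf 0) (.leaf 0)))) (.node (.node (.node (.leaf 0) (.leaf 0)) (.node (.leaf 0) (.leaf 0))) (.node (.node (.leaf 0) (.leaf 0)) (.node (.leaf 0) (.leaf 0)))))))

/-- A point of the block, part 604. -/
def ptCodePart604 : Janko1.Tree ℕ := (.node (.node (.node (.node (.node (.node (.leaf 0) (.leaf 0)) (.node (.leaf 0) (.leaf 0))) (.node (.node (.leaf 0) (.leaf 0)) (.node (.leaf 0) (.leaf 0)))) (.node (.node (.node (.leaf 0) (.leaf 0)) (.node (.leaf 0) (.leaf 0))) (.node (.node (.leaf 0) (.leaf 0)) (.node (.leaf 0) (.leaf 0))))) (.node (.node (.node (.node (.leaf 0) (.leaf 0)) (.node (.leaf 0) (.leaf 0))) (.node (.node (.leaf 0) (.leaf 0)) (.node (.leaf 0) (.leaf 0)))) (.node (.node (.node (.leaf 0) (.leaf 0)) (.node (.leaf 0) (.leaf 0))) (.node (.node (.leaf 0) (.leaf 0)) (.node (.leaf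 0) (.leaf 0)))))) (.node (.node (.node (.node (.node (.leaf 0) (.leaf 0)) (.node (.leaf 0) (.leaf 0))) (.node (.node (.leaf 0) (.leaf 0)) (.node (.leaf 0) (.leaf 0)))) (.node (.node (.node (.leaf 0) (.leaf 0)) (.node (.leaf 0) (.leaf 0))) (.node (.node (.leaf 0) (.leaf 0)) (.node (.leaf 0) (.leaf 0))))) (.node (.node (.node (.node (.leaf 0) (.leaf 0)) (.node (.leaf 0) (.leaf 0))) (.node (.node (.leaf 0) (.leaf 0)) (.node (.leaf 0) (.leaf 0)))) (.node (.node (.node (.leaf 0) (.leaf 0)) (.node (.leaf 0) (.leaf 0))) (.node (.node (.leaf 0) (.leaf 0)) (.node (.leaf 0) (.leaf 0)))))))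

/-- A point of the block, part 605. -/
def ptCodePart605 : Janko1.Tree ℕ := (.node (.node (.node (.node (.node (.node (.leaf 0) (.leaf 0)) (.node (.leaf 0) (.leaf 0))) (.node (.node (.leaf 0) (.leaf 0)) (.node (.leaf 0) (.leaf 0)))) (.node (.node (.node (.leaf 0) (.leaf 0)) (.node (.leaf 0) (.leaf 0))) (.node (.node (.leaf 0) (.leaf 0)) (.node (.leaf 0) (.leaf 0))))) (.node (.node (.node (.node (.leaf 0) (.leaf 0)) (.node (.leaf 0) (.leaf 0))) (.node (.node (.leaf 0) (.leaf 0)) (.node (.leaf 0) (.leaf 0)))) (.node (.node (.node (.leaf 0) (.leaf 0)) (.node (.leaf 0) (.leaf 0))) (.node (.node (.leaf 0) (.leaf 0)) (.node (.leaf 0) (.leaf 0)))))) (.node (.node (.node (.node (.node (.leaf 0) (.leaf 0)) (.node (.leaf 0) (.leaf 0))) (.node (.node (.leaf 0) (.leaf 0)) (.node (.leaf 0) (.leaf 0)))) (.node (.node (.node (.leaf 0) (.leaf 0)) (.node (.leaf 0) (.leaf 0))) (.node (.node (.leaf 0) (.leaf 0)) (.node (.leaf 0) (.leaf 0))))) (.node (.node (.node (.node (.leaf 0) (.leaf 0)) (.node (.leaf 0) (.leaf 0))) (.node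 (.node (.leaf 0) (.leaf 0)) (.node (.leaf 0) (.leaf 0)))) (.node (.node (.node (.leaf 0) (.leaf 0)) (.node (.leaf 0) (.leaf 0))) (.node (.node (.leaf 0) (.leaf 0)) (.node (.leaf 0) (.leaf 0)))))))

/-- A point of the block, part 606. -/
def ptCodePart606 : Janko1.Tree ℕ := (.node (.node (.node (.node (.node (.node (.leaf 0) (.leaf 0)) (.node (.leaf 0) (.leaf 0))) (.node (.node (.leaf 0) (.leaf 0)) (.node (.leaf 0) (.leaf 0)))) (.node (.node (.node (.leaf 0) (.leaf 0)) (.node (.leaf 0) (.leaf 0))) (.node (.node (.leaf 0) (.leaf 0)) (.node (.leaf 0) (.leaf 0))))) (.node (.node (.node (.node (.leaf 0) (.leaf 0)) (.node (.leaf 0) (.leaf 0))) (.node (.node (.leaf 0) (.leaf 0)) (.node (.leaf 0) (.leaf 0)))) (.node (.node (.node (.leaf 0) (.leaf 0)) (.node (.leaf 0) (.leaf 0))) (.node (.node (.leaf 0) (.leaf 0)) (.node (.leaf 0) (.leaf 0)))))) (.node (.node (.node (.node (.node (.leaf 0) (.leaf 0)) (.node (.leaf 0) (.leaf 0))) (.node (.node (.leaf 0) (.leaf 0)) (.node (.leaf 0) (.leaf 0)))) (.node (.node (.node (.leaf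 0) (.leaf 0)) (.node (.leaf 0) (.leaf 0))) (.node (.node (.leaf 0) (.leaf 0)) (.node (.leaf 0) (.leaf 0))))) (.node (.node (.node (.node (.leaf 0) (.leaf 0)) (.node (.leaf 0) (.leaf 0))) (.node (.node (.leaf 0) (.leaf 0)) (.node (.leaf 0) (.leaf 0)))) (.node (.node (.node (.leaf 0) (.leaf 0)) (.node (.leaf 0) (.leaf 0))) (.node (.node (.leaf 0) (.leaf 0)) (.node (.leaf 0) (.leaf 0)))))))

/-- A point of the block, part 607. -/
def ptCodePart607 : Janko1.Tree ℕ := (.node (.node (.node (.node (.node (.node (.leaf 0) (.leaf 0)) (.node (.leaf 0) (.leaf 0))) (.node (.node (.leaf 0) (.leaf 0)) (.node (.leaf 0) (.leaf 0)))) (.node (.node (.node (.leaf 0) (.leaf 0)) (.node (.leaf 0) (.leaf 0))) (.node (.node (.leaf 0) (.leaf 0)) (.node (.leaf 0) (.leaf 0))))) (.node (.node (.node (.node (.leaf 0) (.leaf 0)) (.node (.leaf 0) (.leaf 0))) (.node (.node (.leaf 0) (.leaf 0)) (.node (.leaf 0) (.leaf 0)))) (.node (.node (.node (.leaf 0) (.leaf 0)) (.node (.leaf 0) (.leaf 0))) (.node (.node (.leaf 0) (.leaf 0)) (.node (.leaf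 0) (.leaf 0)))))) (.node (.node (.node (.node (.node (.leaf 0) (.leaf 0)) (.node (.leaf 0) (.leaf 0))) (.node (.node (.leaf 0) (.leaf 0)) (.node (.leaf 0) (.leaf 0)))) (.node (.node (.node (.leaf 0) (.leaf 0)) (.node (.leaf 0) (.leaf 0))) (.node (.node (.leaf 0) (.leaf 0)) (.node (.leaf 0) (.leaf 0))))) (.node (.node (.node (.node (.leaf 0) (.leaf 0)) (.node (.leaf 0) (.leaf 0))) (.node (.node (.leaf 0) (.leaf 0)) (.node (.leaf 0) (.leaf 0)))) (.node (.node (.node (.leaf 0) (.leaf 0)) (.node (.leaf 0) (.leaf 0))) (.node (.node (.leaf 0) (.leaf 0)) (.node (.leaf 0) (.leaf 0)))))))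

/-- A point of the block, part 608. -/
def ptCodePart608 : Janko1.Tree ℕ := (.node (.node (.node (.node (.node (.node (.leaf 0) (.leaf 0)) (.node (.leaf 0) (.leaf 0))) (.node (.node (.leaf 0) (.leaf 0)) (.node (.leaf 0) (.leaf 0)))) (.node (.node (.node (.leaf 0) (.leaf 0)) (.node (.leaf 0) (.leaf 0))) (.node (.node (.leaf 0) (.leaf 0)) (.node (.leaf 0) (.leaf 0))))) (.node (.node (.node (.node (.leaf 0) (.leaf 0)) (.node (.leaf 0) (.leaf 0))) (.node (.node (.leaf 0) (.leaf 0)) (.node (.leaf 0) (.leaf 0)))) (.node (.node (.node (.leaf 0) (.leaf 0)) (.node (.leaf 0) (.leaf 0))) (.node (.node (.leaf 0) (.leaf 0)) (.node (.leaf 0) (.leaf 0)))))) (.node (.node (.node (.node (.node (.leaf 0) (.leaf 0)) (.node (.leaf 0) (.leaf 0))) (.node (.node (.leaf 0) (.leaf 0)) (.node (.leaf 0) (.leaf 0)))) (.node (.node (.node (.leaf 0) (.leaf 0)) (.node (.leaf 0) (.leaf 0))) (.node (.node (.leaf 0) (.leaf 0)) (.node (.leaf 0) (.leaf 0))))) (.node (.node (.node (.node (.leaf 0) (.leaf 0)) (.node (.leaf 0) (.leaf 0))) (.node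 (.node (.leaf 0) (.leaf 0)) (.node (.leaf 0) (.leaf 0)))) (.node (.node (.node (.leaf 0) (.leaf 0)) (.node (.leaf 0) (.leaf 0))) (.node (.node (.leaf 0) (.leaf 0)) (.node (.leaf 0) (.leaf 0)))))))

/-- A point of the block, part 609. -/
def ptCodePart609 : Janko1.Tree ℕ := (.node (.node (.node (.node (.node (.node (.leaf 0) (.leaf 0)) (.node (.leaf 0) (.leaf 0))) (.node (.node (.leaf 0) (.leaf 0)) (.node (.leaf 0) (.leaf 0)))) (.node (.node (.node (.leaf 0) (.leaf 0)) (.node (.leaf 0) (.leaf 0))) (.node (.node (.leaf 0) (.leaf 0)) (.node (.leaf 0) (.leaf 0))))) (.node (.node (.node (.node (.leaf 0) (.leaf 0)) (.node (.leaf 0) (.leaf 0))) (.node (.node (.leaf 0) (.leaf 0)) (.node (.leaf 0) (.leaf 0)))) (.node (.node (.node (.leaf 0) (.leaf 0)) (.node (.leaf 0) (.leaf 0))) (.node (.node (.leaf 0) (.leaf 0)) (.node (.leaf 0) (.leaf 0)))))) (.node (.node (.node (.node (.node (.leaf 0) (.leaf 0)) (.node (.leaf 0) (.leaf 0))) (.node (.node (.leaf 0) (.leaf 0)) (.node (.leaf 0) (.leaf 0)))) (.node (.node (.node (.leaf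 0) (.leaf 0)) (.node (.leaf 0) (.leaf 0))) (.node (.node (.leaf 0) (.leaf 0)) (.node (.leaf 0) (.leaf 0))))) (.node (.node (.node (.node (.leaf 0) (.leaf 0)) (.node (.leaf 0) (.leaf 0))) (.node (.node (.leaf 0) (.leaf 0)) (.node (.leaf 0) (.leaf 0)))) (.node (.node (.node (.leaf 0) (.leaf 0)) (.node (.leaf 0) (.leaf 0))) (.node (.node (.leaf 0) (.leaf 0)) (.node (.leaf 0) (.leaf 0)))))))

/-- A point of the block, part 610. -/
def ptCodePart610 : Janko1.Tree ℕ := (.node (.node (.node (.node (.node (.node (.leaf 0) (.leaf 0)) (.node (.leaf 0) (.leaf 0))) (.node (.node (.leaf 0) (.leaf 0)) (.node (.leaf 0) (.leaf 0)))) (.node (.node (.node (.leaf 0) (.leaf 0)) (.node (.leaf 0) (.leaf 0))) (.node (.node (.leaf 0) (.leaf 0)) (.node (.leaf 0) (.leaf 0))))) (.node (.node (.node (.node (.leaf 0) (.leaf 0)) (.node (.leaf 0) (.leaf 0))) (.node (.node (.leaf 0) (.leaf 0)) (.node (.leaf 0) (.leaf 0)))) (.node (.node (.node (.leaf 0) (.leaf 0)) (.node (.leaf 0) (.leaf 0))) (.node (.node (.leaf 0) (.leaf 0)) (.node (.leaf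 0) (.leaf 0)))))) (.node (.node (.node (.node (.node (.leaf 0) (.leaf 0)) (.node (.leaf 0) (.leaf 0))) (.node (.node (.leaf 0) (.leaf 0)) (.node (.leaf 0) (.leaf 0)))) (.node (.node (.node (.leaf 0) (.leaf 0)) (.node (.leaf 0) (.leaf 0))) (.node (.node (.leaf 0) (.leaf 0)) (.node (.leaf 0) (.leaf 0))))) (.node (.node (.node (.node (.leaf 0) (.leaf 0)) (.node (.leaf 0) (.leaf 0))) (.node (.node (.leaf 0) (.leaf 0)) (.node (.leaf 0) (.leaf 0)))) (.node (.node (.node (.leaf 0) (.leaf 0)) (.node (.leaf 0) (.leaf 0))) (.node (.node (.leaf 0) (.leaf 0)) (.node (.leaf 0) (.leaf 0)))))))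

/-- A point of the block, part 611. -/
def ptCodePart611 : Janko1.Tree ℕ := (.node (.node (.node (.node (.node (.node (.leaf 0) (.leaf 0)) (.node (.leaf 0) (.leaf 0))) (.node (.node (.leaf 0) (.leaf 0)) (.node (.leaf 0) (.leaf 0)))) (.node (.node (.node (.leaf 0) (.leaf 0)) (.node (.leaf 0) (.leaf 0))) (.node (.node (.leaf 0) (.leaf 0)) (.node (.leaf 0) (.leaf 0))))) (.node (.node (.node (.node (.leaf 0) (.leaf 0)) (.node (.leaf 0) (.leaf 0))) (.node (.node (.leaf 0) (.leaf 0)) (.node (.leaf 0) (.leaf 0)))) (.node (.node (.node (.leaf 0) (.leaf 0)) (.node (.leaf 0) (.leaf 0))) (.node (.node (.leaf 0) (.leaf 0)) (.node (.leaf 0) (.leaf 0)))))) (.node (.node (.node (.node (.node (.leaf 0) (.leaf 0)) (.node (.leaf 0) (.leaf 0))) (.node (.node (.leaf 0) (.leaf 0)) (.node (.leaf 0) (.leaf 0)))) (.node (.node (.node (.leaf 0) (.leaf 0)) (.node (.leaf 0) (.leaf 0))) (.node (.node (.leaf 0) (.leaf 0)) (.node (.leaf 0) (.leaf 0))))) (.node (.node (.node (.node (.leaf 0) (.leaf 0)) (.node (.leaf 0) (.leaf 0))) (.node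 (.node (.leaf 0) (.leaf 0)) (.node (.leaf 0) (.leaf 0)))) (.node (.node (.node (.leaf 0) (.leaf 0)) (.node (.leaf 0) (.leaf 0))) (.node (.node (.leaf 0) (.leaf 0)) (.node (.leaf 0) (.leaf 0)))))))

/-- A point of the block, part 612. -/
def ptCodePart612 : Janko1.Tree ℕ := (.node (.node (.node (.node (.node (.node (.leaf 0) (.leaf 0)) (.node (.leaf 0) (.leaf 0))) (.node (.node (.leaf 0) (.leaf 0)) (.node (.leaf 0) (.leaf 0)))) (.node (.node (.node (.leaf 0) (.leaf 0)) (.node (.leaf 0) (.leaf 0))) (.node (.node (.leaf 0) (.leaf 0)) (.node (.leaf 0) (.leaf 0))))) (.node (.node (.node (.node (.leaf 0) (.leaf 0)) (.node (.leaf 0) (.leaf 0))) (.node (.node (.leaf 0) (.leaf 0)) (.node (.leaf 0) (.leaf 0)))) (.node (.node (.node (.leaf 0) (.leaf 0)) (.node (.leaf 0) (.leaf 0))) (.node (.node (.leaf 0) (.leaf 0)) (.node (.leaf 0) (.leaf 0)))))) (.node (.node (.node (.node (.node (.leaf 0) (.leaf 0)) (.node (.leaf 0) (.leaf 0))) (.node (.node (.leaf 0) (.leaf 0)) (.node (.leaf 0) (.leaf 0)))) (.node (.node (.node (.leaf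 0) (.leaf 0)) (.node (.leaf 0) (.leaf 0))) (.node (.node (.leaf 0) (.leaf 0)) (.node (.leaf 0) (.leaf 0))))) (.node (.node (.node (.node (.leaf 0) (.leaf 0)) (.node (.leaf 0) (.leaf 0))) (.node (.node (.leaf 0) (.leaf 0)) (.node (.leaf 0) (.leaf 0)))) (.node (.node (.node (.leaf 0) (.leaf 0)) (.node (.leaf 0) (.leaf 0))) (.node (.node (.leaf 0) (.leaf 0)) (.node (.leaf 0) (.leaf 0)))))))

/-- A point of the block, part 613. -/
def ptCodePart613 : Janko1.Tree ℕ := (.node (.node (.node (.node (.node (.node (.leaf 0) (.leaf 0)) (.node (.leaf 0) (.leaf 0))) (.node (.node (.leaf 0) (.leaf 0)) (.node (.leaf 0) (.leaf 0)))) (.node (.node (.node (.leaf 0) (.leaf 0)) (.node (.leaf 0) (.leaf 0))) (.node (.node (.leaf 0) (.leaf 0)) (.node (.leaf 0) (.leaf 0))))) (.node (.node (.node (.node (.leaf 0) (.leaf 0)) (.node (.leaf 0) (.leaf 0))) (.node (.node (.leaf 0) (.leaf 0)) (.node (.leaf 0) (.leaf 0)))) (.node (.node (.node (.leaf 0) (.leaf 0)) (.node (.leaf 0) (.leaf 0))) (.node (.node (.leaf 0) (.leaf 0)) (.node (.leaf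 0) (.leaf 0)))))) (.node (.node (.node (.node (.node (.leaf 0) (.leaf 0)) (.node (.leaf 0) (.leaf 0))) (.node (.node (.leaf 0) (.leaf 0)) (.node (.leaf 0) (.leaf 0)))) (.node (.node (.node (.leaf 0) (.leaf 0)) (.node (.leaf 0) (.leaf 0))) (.node (.node (.leaf 0) (.leaf 0)) (.node (.leaf 0) (.leaf 0))))) (.node (.node (.node (.node (.leaf 0) (.leaf 0)) (.node (.leaf 0) (.leaf 0))) (.node (.node (.leaf 0) (.leaf 0)) (.node (.leaf 0) (.leaf 0)))) (.node (.node (.node (.leaf 0) (.leaf 0)) (.node (.leaf 0) (.leaf 0))) (.node (.node (.leaf 0) (.leaf 0)) (.node (.leaf 0) (.leaf 0)))))))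

/-- A point of the block, part 614. -/
def ptCodePart614 : Janko1.Tree ℕ := (.node (.node (.node (.node (.node (.node (.leaf 0) (.leaf 0)) (.node (.leaf 0) (.leaf 0))) (.node (.node (.leaf 0) (.leaf 0)) (.node (.leaf 0) (.leaf 0)))) (.node (.node (.node (.leaf 0) (.leaf 0)) (.node (.leaf 0) (.leaf 0))) (.node (.node (.leaf 0) (.leaf 0)) (.node (.leaf 0) (.leaf 0))))) (.node (.node (.node (.node (.leaf 0) (.leaf 0)) (.node (.leaf 0) (.leaf 0))) (.node (.node (.leaf 0) (.leaf 0)) (.node (.leaf 0) (.leaf 0)))) (.node (.node (.node (.leaf 0) (.leaf 0)) (.node (.leaf 0) (.leaf 0))) (.node (.node (.leaf 0) (.leaf 0)) (.node (.leaf 0) (.leaf 0)))))) (.node (.node (.node (.node (.node (.leaf 0) (.leaf 0)) (.node (.leaf 0) (.leaf 0))) (.node (.node (.leaf 0) (.leaf 0)) (.node (.leaf 0) (.leaf 0)))) (.node (.node (.node (.leaf 0) (.leaf 0)) (.node (.leaf 0) (.leaf 0))) (.node (.node (.leaf 0) (.leaf 0)) (.node (.leaf 0) (.leaf 0))))) (.node (.node (.node (.node (.leaf 0) (.leaf 0)) (.node (.leaf 0) (.leaf 0))) (.node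 (.node (.leaf 0) (.leaf 0)) (.node (.leaf 0) (.leaf 0)))) (.node (.node (.node (.leaf 0) (.leaf 0)) (.node (.leaf 0) (.leaf 0))) (.node (.node (.leaf 0) (.leaf 0)) (.node (.leaf 0) (.leaf 0)))))))

/-- A point of the block, part 615. -/
def ptCodePart615 : Janko1.Tree ℕ := (.node (.node (.node (.node (.node (.node (.leaf 0) (.leaf 0)) (.node (.leaf 0) (.leaf 0))) (.node (.node (.leaf 0) (.leaf 0)) (.node (.leaf 0) (.leaf 0)))) (.node (.node (.node (.leaf 0) (.leaf 0)) (.node (.leaf 0) (.leaf 0))) (.node (.node (.leaf 0) (.leaf 0)) (.node (.leaf 0) (.leaf 0))))) (.node (.node (.node (.node (.leaf 0) (.leaf 0)) (.node (.leaf 0) (.leaf 0))) (.node (.node (.leaf 0) (.leaf 0)) (.node (.leaf 0) (.leaf 0)))) (.node (.node (.node (.leaf 0) (.leaf 0)) (.node (.leaf 0) (.leaf 0))) (.node (.node (.leaf 0) (.leaf 0)) (.node (.leaf 0) (.leaf 0)))))) (.node (.node (.node (.node (.node (.leaf 0) (.leaf 0)) (.node (.leaf 0) (.leaf 0))) (.node (.node (.leaf 0) (.leaf 0)) (.node (.leaf 0) (.leaf 0)))) (.node (.node (.node (.leaf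 0) (.leaf 0)) (.node (.leaf 0) (.leaf 0))) (.node (.node (.leaf 0) (.leaf 0)) (.node (.leaf 0) (.leaf 0))))) (.node (.node (.node (.node (.leaf 0) (.leaf 0)) (.node (.leaf 0) (.leaf 0))) (.node (.node (.leaf 0) (.leaf 0)) (.node (.leaf 0) (.leaf 0)))) (.node (.node (.node (.leaf 0) (.leaf 0)) (.node (.leaf 0) (.leaf 0))) (.node (.node (.leaf 0) (.leaf 0)) (.node (.leaf 0) (.leaf 0)))))))

/-- A point of the block, part 616. -/
def ptCodePart616 : Janko1.Tree ℕ := (.node (.node (.node (.node (.node (.node (.leaf 0) (.leaf 0)) (.node (.leaf 0) (.leaf 0))) (.node (.node (.leaf 0) (.leaf 0)) (.node (.leaf 0) (.leaf 0)))) (.node (.node (.node (.leaf 0) (.leaf 0)) (.node (.leaf 0) (.leaf 0))) (.node (.node (.leaf 0) (.leaf 0)) (.node (.leaf 0) (.leaf 0))))) (.node (.node (.node (.node (.leaf 0) (.leaf 0)) (.node (.leaf 0) (.leaf 0))) (.node (.node (.leaf 0) (.leaf 0)) (.node (.leaf 0) (.leaf 0)))) (.node (.node (.node (.leaf 0) (.leaf 0)) (.node (.leaf 0) (.leaf 0))) (.node (.node (.leaf 0) (.leaf 0)) (.node (.leaf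 0) (.leaf 0)))))) (.node (.node (.node (.node (.node (.leaf 0) (.leaf 0)) (.node (.leaf 0) (.leaf 0))) (.node (.node (.leaf 0) (.leaf 0)) (.node (.leaf 0) (.leaf 0)))) (.node (.node (.node (.leaf 0) (.leaf 0)) (.node (.leaf 0) (.leaf 0))) (.node (.node (.leaf 0) (.leaf 0)) (.node (.leaf 0) (.leaf 0))))) (.node (.node (.node (.node (.leaf 0) (.leaf 0)) (.node (.leaf 0) (.leaf 0))) (.node (.node (.leaf 0) (.leaf 0)) (.node (.leaf 0) (.leaf 0)))) (.node (.node (.node (.leaf 0) (.leaf 0)) (.node (.leaf 0) (.leaf 0))) (.node (.node (.leaf 0) (.leaf 0)) (.node (.leaf 0) (.leaf 0)))))))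

/-- A point of the block, part 617. -/
def ptCodePart617 : Janko1.Tree ℕ := (.node (.node (.node (.node (.node (.node (.leaf 0) (.leaf 0)) (.node (.leaf 0) (.leaf 0))) (.node (.node (.leaf 0) (.leaf 0)) (.node (.leaf 0) (.leaf 0)))) (.node (.node (.node (.leaf 0) (.leaf 0)) (.node (.leaf 0) (.leaf 0))) (.node (.node (.leaf 0) (.leaf 0)) (.node (.leaf 0) (.leaf 0))))) (.node (.node (.node (.node (.leaf 0) (.leaf 0)) (.node (.leaf 0) (.leaf 0))) (.node (.node (.leaf 0) (.leaf 0)) (.node (.leaf 0) (.leaf 0)))) (.node (.node (.node (.leaf 0) (.leaf 0)) (.node (.leaf 0) (.leaf 0))) (.node (.node (.leaf 0) (.leaf 0)) (.node (.leaf 0) (.leaf 0)))))) (.node (.node (.node (.node (.node (.leaf 0) (.leaf 0)) (.node (.leaf 0) (.leaf 0))) (.node (.node (.leaf 0) (.leaf 0)) (.node (.leaf 0) (.leaf 0)))) (.node (.node (.node (.leaf 0) (.leaf 0)) (.node (.leaf 0) (.leaf 0))) (.node (.node (.leaf 0) (.leaf 0)) (.node (.leaf 0) (.leaf 0))))) (.node (.node (.node (.node (.leaf 0) (.leaf 0)) (.node (.leaf 0) (.leaf 0))) (.node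 (.node (.leaf 0) (.leaf 0)) (.node (.leaf 0) (.leaf 0)))) (.node (.node (.node (.leaf 0) (.leaf 0)) (.node (.leaf 0) (.leaf 0))) (.node (.node (.leaf 0) (.leaf 0)) (.node (.leaf 0) (.leaf 0)))))))

/-- A point of the block, part 618. -/
def ptCodePart618 : Janko1.Tree ℕ := (.node (.node (.node (.node (.node (.node (.leaf 0) (.leaf 0)) (.node (.leaf 0) (.leaf 0))) (.node (.node (.leaf 0) (.leaf 0)) (.node (.leaf 0) (.leaf 0)))) (.node (.node (.node (.leaf 0) (.leaf 0)) (.node (.leaf 0) (.leaf 0))) (.node (.node (.leaf 0) (.leaf 0)) (.node (.leaf 0) (.leaf 0))))) (.node (.node (.node (.node (.leaf 0) (.leaf 0)) (.node (.leaf 0) (.leaf 0))) (.node (.node (.leaf 0) (.leaf 0)) (.node (.leaf 0) (.leaf 0)))) (.node (.node (.node (.leaf 0) (.leaf 0)) (.node (.leaf 0) (.leaf 0))) (.node (.node (.leaf 0) (.leaf 0)) (.node (.leaf 0) (.leaf 0)))))) (.node (.node (.node (.node (.node (.leaf 0) (.leaf 0)) (.node (.leaf 0) (.leaf 0))) (.node (.node (.leaf 0) (.leaf 0)) (.node (.leaf 0) (.leaf 0)))) (.node (.node (.node (.leaf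 0) (.leaf 0)) (.node (.leaf 0) (.leaf 0))) (.node (.node (.leaf 0) (.leaf 0)) (.node (.leaf 0) (.leaf 0))))) (.node (.node (.node (.node (.leaf 0) (.leaf 0)) (.node (.leaf 0) (.leaf 0))) (.node (.node (.leaf 0) (.leaf 0)) (.node (.leaf 0) (.leaf 0)))) (.node (.node (.node (.leaf 0) (.leaf 0)) (.node (.leaf 0) (.leaf 0))) (.node (.node (.leaf 0) (.leaf 0)) (.node (.leaf 0) (.leaf 0)))))))

/-- A point of the block, part 619. -/
def ptCodePart619 : Janko1.Tree ℕ := (.node (.node (.node (.node (.node (.node (.leaf 0) (.leaf 0)) (.node (.leaf 0) (.leaf 0))) (.node (.node (.leaf 0) (.leaf 0)) (.node (.leaf 0) (.leaf 0)))) (.node (.node (.node (.leaf 0) (.leaf 0)) (.node (.leaf 0) (.leaf 0))) (.node (.node (.leaf 0) (.leaf 0)) (.node (.leaf 0) (.leaf 0))))) (.node (.node (.node (.node (.leaf 0) (.leaf 0)) (.node (.leaf 0) (.leaf 0))) (.node (.node (.leaf 0) (.leaf 0)) (.node (.leaf 0) (.leaf 0)))) (.node (.node (.node (.leaf 0) (.leaf 0)) (.node (.leaf 0) (.leaf 0))) (.node (.node (.leaf 0) (.leaf 0)) (.node (.leaf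 0) (.leaf 0)))))) (.node (.node (.node (.node (.node (.leaf 0) (.leaf 0)) (.node (.leaf 0) (.leaf 0))) (.node (.node (.leaf 0) (.leaf 0)) (.node (.leaf 0) (.leaf 0)))) (.node (.node (.node (.leaf 0) (.leaf 0)) (.node (.leaf 0) (.leaf 0))) (.node (.node (.leaf 0) (.leaf 0)) (.node (.leaf 0) (.leaf 0))))) (.node (.node (.node (.node (.leaf 0) (.leaf 0)) (.node (.leaf 0) (.leaf 0))) (.node (.node (.leaf 0) (.leaf 0)) (.node (.leaf 0) (.leaf 0)))) (.node (.node (.node (.leaf 0) (.leaf 0)) (.node (.leaf 0) (.leaf 0))) (.node (.node (.leaf 0) (.leaf 0)) (.node (.leaf 0) (.leaf 0)))))))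

/-- A point of the block, part 620. -/
def ptCodePart620 : Janko1.Tree ℕ := (.node (.node (.node (.node (.node (.node (.leaf 0) (.leaf 0)) (.node (.leaf 0) (.leaf 0))) (.node (.node (.leaf 0) (.leaf 0)) (.node (.leaf 0) (.leaf 0)))) (.node (.node (.node (.leaf 0) (.leaf 0)) (.node (.leaf 0) (.leaf 0))) (.node (.node (.leaf 0) (.leaf 0)) (.node (.leaf 0) (.leaf 0))))) (.node (.node (.node (.node (.leaf 0) (.leaf 0)) (.node (.leaf 0) (.leaf 0))) (.node (.node (.leaf 0) (.leaf 0)) (.node (.leaf 0) (.leaf 0)))) (.node (.node (.node (.leaf 0) (.leaf 0)) (.node (.leaf 0) (.leaf 0))) (.node (.node (.leaf 0) (.leaf 0)) (.node (.leaf 0) (.leaf 0)))))) (.node (.node (.node (.node (.node (.leaf 0) (.leaf 0)) (.node (.leaf 0) (.leaf 0))) (.node (.node (.leaf 0) (.leaf 0)) (.node (.leaf 0) (.leaf 0)))) (.node (.node (.node (.leaf 0) (.leaf 0)) (.node (.leaf 0) (.leaf 0))) (.node (.node (.leaf 0) (.leaf 0)) (.node (.leaf 0) (.leaf 0))))) (.node (.node (.node (.node (.leaf 0) (.leaf 0)) (.node (.leaf 0) (.leaf 0))) (.node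 (.node (.leaf 0) (.leaf 0)) (.node (.leaf 0) (.leaf 0)))) (.node (.node (.node (.leaf 0) (.leaf 0)) (.node (.leaf 0) (.leaf 0))) (.node (.node (.leaf 0) (.leaf 0)) (.node (.leaf 0) (.leaf 0)))))))

/-- A point of the block, part 621. -/
def ptCodePart621 : Janko1.Tree ℕ := (.node (.node (.node (.node (.node (.node (.leaf 0) (.leaf 0)) (.node (.leaf 0) (.leaf 0))) (.node (.node (.leaf 0) (.leaf 0)) (.node (.leaf 0) (.leaf 0)))) (.node (.node (.node (.leaf 0) (.leaf 0)) (.node (.leaf 0) (.leaf 0))) (.node (.node (.leaf 0) (.leaf 0)) (.node (.leaf 0) (.leaf 0))))) (.node (.node (.node (.node (.leaf 0) (.leaf 0)) (.node (.leaf 0) (.leaf 0))) (.node (.node (.leaf 0) (.leaf 0)) (.node (.leaf 0) (.leaf 0)))) (.node (.node (.node (.leaf 0) (.leaf 0)) (.node (.leaf 0) (.leaf 0))) (.node (.node (.leaf 0) (.leaf 0)) (.node (.leaf 0) (.leaf 0)))))) (.node (.node (.node (.node (.node (.leaf 0) (.leaf 0)) (.node (.leaf 0) (.leaf 0))) (.node (.node (.leaf 0) (.leaf 0)) (.node (.leaf 0) (.leaf 0)))) (.node (.node (.node (.leaf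 0) (.leaf 0)) (.node (.leaf 0) (.leaf 0))) (.node (.node (.leaf 0) (.leaf 0)) (.node (.leaf 0) (.leaf 0))))) (.node (.node (.node (.node (.leaf 0) (.leaf 0)) (.node (.leaf 0) (.leaf 0))) (.node (.node (.leaf 0) (.leaf 0)) (.node (.leaf 0) (.leaf 0)))) (.node (.node (.node (.leaf 0) (.leaf 0)) (.node (.leaf 0) (.leaf 0))) (.node (.node (.leaf 0) (.leaf 0)) (.node (.leaf 0) (.leaf 0)))))))

/-- A point of the block, part 622. -/
def ptCodePart622 : Janko1.Tree ℕ := (.node (.node (.node (.node (.node (.node (.leaf 0) (.leaf 0)) (.node (.leaf 0) (.leaf 0))) (.node (.node (.leaf 0) (.leaf 0)) (.node (.leaf 0) (.leaf 0)))) (.node (.node (.node (.leaf 0) (.leaf 0)) (.node (.leaf 0) (.leaf 0))) (.node (.node (.leaf 0) (.leaf 0)) (.node (.leaf 0) (.leaf 0))))) (.node (.node (.node (.node (.leaf 0) (.leaf 0)) (.node (.leaf 0) (.leaf 0))) (.node (.node (.leaf 0) (.leaf 0)) (.node (.leaf 0) (.leaf 0)))) (.node (.node (.node (.leaf 0) (.leaf 0)) (.node (.leaf 0) (.leaf 0))) (.node (.node (.leaf 0) (.leaf 0)) (.node (.leaf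 0) (.leaf 0)))))) (.node (.node (.node (.node (.node (.leaf 0) (.leaf 0)) (.node (.leaf 0) (.leaf 0))) (.node (.node (.leaf 0) (.leaf 0)) (.node (.leaf 0) (.leaf 0)))) (.node (.node (.node (.leaf 0) (.leaf 0)) (.node (.leaf 0) (.leaf 0))) (.node (.node (.leaf 0) (.leaf 0)) (.node (.leaf 0) (.leaf 0))))) (.node (.node (.node (.node (.leaf 0) (.leaf 0)) (.node (.leaf 0) (.leaf 0))) (.node (.node (.leaf 0) (.leaf 0)) (.node (.leaf 0) (.leaf 0)))) (.node (.node (.node (.leaf 0) (.leaf 0)) (.node (.leaf 0) (.leaf 0))) (.node (.node (.leaf 0) (.leaf 0)) (.node (.leaf 0) (.leaf 0)))))))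

/-- A point of the block, part 623. -/
def ptCodePart623 : Janko1.Tree ℕ := (.node (.node (.node (.node (.node (.node (.leaf 0) (.leaf 0)) (.node (.leaf 0) (.leaf 0))) (.node (.node (.leaf 0) (.leaf 0)) (.node (.leaf 0) (.leaf 0)))) (.node (.node (.node (.leaf 0) (.leaf 0)) (.node (.leaf 0) (.leaf 0))) (.node (.node (.leaf 0) (.leaf 0)) (.node (.leaf 0) (.leaf 0))))) (.node (.node (.node (.node (.leaf 0) (.leaf 0)) (.node (.leaf 0) (.leaf 0))) (.node (.node (.leaf 0) (.leaf 0)) (.node (.leaf 0) (.leaf 0)))) (.node (.node (.node (.leaf 0) (.leaf 0)) (.node (.leaf 0) (.leaf 0))) (.node (.node (.leaf 0) (.leaf 0)) (.node (.leaf 0) (.leaf 0)))))) (.node (.node (.node (.node (.node (.leaf 0) (.leaf 0)) (.node (.leaf 0) (.leaf 0))) (.node (.node (.leaf 0) (.leaf 0)) (.node (.leaf 0) (.leaf 0)))) (.node (.node (.node (.leaf 0) (.leaf 0)) (.node (.leaf 0) (.leaf 0))) (.node (.node (.leaf 0) (.leaf 0)) (.node (.leaf 0) (.leaf 0))))) (.node (.node (.node (.node (.leaf 0) (.leaf 0)) (.node (.leaf 0) (.leaf 0))) (.node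 (.node (.leaf 0) (.leaf 0)) (.node (.leaf 0) (.leaf 0)))) (.node (.node (.node (.leaf 0) (.leaf 0)) (.node (.leaf 0) (.leaf 0))) (.node (.node (.leaf 0) (.leaf 0)) (.node (.leaf 0) (.leaf 0)))))))

/-- A point of the block, part 624. -/
def ptCodePart624 : Janko1.Tree ℕ := (.node (.node (.node (.node (.node (.node (.leaf 0) (.leaf 0)) (.node (.leaf 0) (.leaf 0))) (.node (.node (.leaf 0) (.leaf 0)) (.node (.leaf 0) (.leaf 0)))) (.node (.node (.node (.leaf 0) (.leaf 0)) (.node (.leaf 0) (.leaf 0))) (.node (.node (.leaf 0) (.leaf 0)) (.node (.leaf 0) (.leaf 0))))) (.node (.node (.node (.node (.leaf 0) (.leaf 0)) (.node (.leaf 0) (.leaf 0))) (.node (.node (.leaf 0) (.leaf 0)) (.node (.leaf 0) (.leaf 0)))) (.node (.node (.node (.leaf 0) (.leaf 0)) (.node (.leaf 0) (.leaf 0))) (.node (.node (.leaf 0) (.leaf 0)) (.node (.leaf 0) (.leaf 0)))))) (.node (.node (.node (.node (.node (.leaf 0) (.leaf 0)) (.node (.leaf 0) (.leaf 0))) (.node (.node (.leaf 0) (.leaf 0)) (.node (.leaf 0) (.leaf 0)))) (.node (.node (.node (.leaf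 0) (.leaf 0)) (.node (.leaf 0) (.leaf 0))) (.node (.node (.leaf 0) (.leaf 0)) (.node (.leaf 0) (.leaf 0))))) (.node (.node (.node (.node (.leaf 0) (.leaf 0)) (.node (.leaf 0) (.leaf 0))) (.node (.node (.leaf 0) (.leaf 0)) (.node (.leaf 0) (.leaf 0)))) (.node (.node (.node (.leaf 0) (.leaf 0)) (.node (.leaf 0) (.leaf 0))) (.node (.node (.leaf 0) (.leaf 0)) (.node (.leaf 0) (.leaf 0)))))))

/-- A point of the block, part 625. -/
def ptCodePart625 : Janko1.Tree ℕ := (.node (.node (.node (.node (.node (.node (.leaf 0) (.leaf 0)) (.node (.leaf 0) (.leaf 0))) (.node (.node (.leaf 0) (.leaf 0)) (.node (.leaf 0) (.leaf 0)))) (.node (.node (.node (.leaf 0) (.leaf 0)) (.node (.leaf 0) (.leaf 0))) (.node (.node (.leaf 0) (.leaf 0)) (.node (.leaf 0) (.leaf 0))))) (.node (.node (.node (.node (.leaf 0) (.leaf 0)) (.node (.leaf 0) (.leaf 0))) (.node (.node (.leaf 0) (.leaf 0)) (.node (.leaf 0) (.leaf 0)))) (.node (.node (.node (.leaf 0) (.leaf 0)) (.node (.leaf 0) (.leaf 0))) (.node (.node (.leaf 0) (.leaf 0)) (.node (.leaf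 0) (.leaf 0)))))) (.node (.node (.node (.node (.node (.leaf 0) (.leaf 0)) (.node (.leaf 0) (.leaf 0))) (.node (.node (.leaf 0) (.leaf 0)) (.node (.leaf 0) (.leaf 0)))) (.node (.node (.node (.leaf 0) (.leaf 0)) (.node (.leaf 0) (.leaf 0))) (.node (.node (.leaf 0) (.leaf 0)) (.node (.leaf 0) (.leaf 0))))) (.node (.node (.node (.node (.leaf 0) (.leaf 0)) (.node (.leaf 0) (.leaf 0))) (.node (.node (.leaf 0) (.leaf 0)) (.node (.leaf 0) (.leaf 0)))) (.node (.node (.node (.leaf 0) (.leaf 0)) (.node (.leaf 0) (.leaf 0))) (.node (.node (.leaf 0) (.leaf 0)) (.node (.leaf 0) (.leaf 0)))))))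

/-- A point of the block, part 626. -/
def ptCodePart626 : Janko1.Tree ℕ := (.node (.node (.node (.node (.node (.node (.leaf 0) (.leaf 0)) (.node (.leaf 0) (.leaf 0))) (.node (.node (.leaf 0) (.leaf 0)) (.node (.leaf 0) (.leaf 0)))) (.node (.node (.node (.leaf 0) (.leaf 0)) (.node (.leaf 0) (.leaf 0))) (.node (.node (.leaf 0) (.leaf 0)) (.node (.leaf 0) (.leaf 0))))) (.node (.node (.node (.node (.leaf 0) (.leaf 0)) (.node (.leaf 0) (.leaf 0))) (.node (.node (.leaf 0) (.leaf 0)) (.node (.leaf 0) (.leaf 0)))) (.node (.node (.node (.leaf 0) (.leaf 0)) (.node (.leaf 0) (.leaf 0))) (.node (.node (.leaf 0) (.leaf 0)) (.node (.leaf 0) (.leaf 0)))))) (.node (.node (.node (.node (.node (.leaf 0) (.leaf 0)) (.node (.leaf 0) (.leaf 0))) (.node (.node (.leaf 0) (.leaf 0)) (.node (.leaf 0) (.leaf 0)))) (.node (.node (.node (.leaf 0) (.leaf 0)) (.node (.leaf 0) (.leaf 0))) (.node (.node (.leaf 0) (.leaf 0)) (.node (.leaf 0) (.leaf 0))))) (.node (.node (.node (.node (.leaf 0) (.leaf 0)) (.node (.leaf 0) (.leaf 0))) (.node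 (.node (.leaf 0) (.leaf 0)) (.node (.leaf 0) (.leaf 0)))) (.node (.node (.node (.leaf 0) (.leaf 0)) (.node (.leaf 0) (.leaf 0))) (.node (.node (.leaf 0) (.leaf 0)) (.node (.leaf 0) (.leaf 0)))))))

/-- A point of the block, part 627. -/
def ptCodePart627 : Janko1.Tree ℕ := (.node (.node (.node (.node (.node (.node (.leaf 0) (.leaf 0)) (.node (.leaf 0) (.leaf 0))) (.node (.node (.leaf 0) (.leaf 0)) (.node (.leaf 0) (.leaf 0)))) (.node (.node (.node (.leaf 0) (.leaf 0)) (.node (.leaf 0) (.leaf 0))) (.node (.node (.leaf 0) (.leaf 0)) (.node (.leaf 0) (.leaf 0))))) (.node (.node (.node (.node (.leaf 0) (.leaf 0)) (.node (.leaf 0) (.leaf 0))) (.node (.node (.leaf 0) (.leaf 0)) (.node (.leaf 0) (.leaf 0)))) (.node (.node (.node (.leaf 0) (.leaf 0)) (.node (.leaf 0) (.leaf 0))) (.node (.node (.leaf 0) (.leaf 0)) (.node (.leaf 0) (.leaf 0)))))) (.node (.node (.node (.node (.node (.leaf 0) (.leaf 0)) (.node (.leaf 0) (.leaf 0))) (.node (.node (.leaf 0) (.leaf 0)) (.node (.leaf 0) (.leaf 0)))) (.node (.node (.node (.leaf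 0) (.leaf 0)) (.node (.leaf 0) (.leaf 0))) (.node (.node (.leaf 0) (.leaf 0)) (.node (.leaf 0) (.leaf 0))))) (.node (.node (.node (.node (.leaf 0) (.leaf 0)) (.node (.leaf 0) (.leaf 0))) (.node (.node (.leaf 0) (.leaf 0)) (.node (.leaf 0) (.leaf 0)))) (.node (.node (.node (.leaf 0) (.leaf 0)) (.node (.leaf 0) (.leaf 0))) (.node (.node (.leaf 0) (.leaf 0)) (.node (.leaf 0) (.leaf 0)))))))

/-- A point of the block, part 628. -/
def ptCodePart628 : Janko1.Tree ℕ := (.node (.node (.node (.node (.node (.node (.leaf 0) (.leaf 0)) (.node (.leaf 0) (.leaf 0))) (.node (.node (.leaf 0) (.leaf 0)) (.node (.leaf 0) (.leaf 0)))) (.node (.node (.node (.leaf 0) (.leaf 0)) (.node (.leaf 0) (.leaf 0))) (.node (.node (.leaf 0) (.leaf 0)) (.node (.leaf 0) (.leaf 0))))) (.node (.node (.node (.node (.leaf 0) (.leaf 0)) (.node (.leaf 0) (.leaf 0))) (.node (.node (.leaf 0) (.leaf 0)) (.node (.leaf 0) (.leaf 0)))) (.node (.node (.node (.leaf 0) (.leaf 0)) (.node (.leaf 0) (.leaf 0))) (.node (.node (.leaf 0) (.leaf 0)) (.node (.leaf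 0) (.leaf 0)))))) (.node (.node (.node (.node (.node (.leaf 0) (.leaf 0)) (.node (.leaf 0) (.leaf 0))) (.node (.node (.leaf 0) (.leaf 0)) (.node (.leaf 0) (.leaf 0)))) (.node (.node (.node (.leaf 0) (.leaf 0)) (.node (.leaf 0) (.leaf 0))) (.node (.node (.leaf 0) (.leaf 0)) (.node (.leaf 0) (.leaf 0))))) (.node (.node (.node (.node (.leaf 0) (.leaf 0)) (.node (.leaf 0) (.leaf 0))) (.node (.node (.leaf 0) (.leaf 0)) (.node (.leaf 0) (.leaf 0)))) (.node (.node (.node (.leaf 0) (.leaf 0)) (.node (.leaf 0) (.leaf 0))) (.node (.node (.leaf 0) (.leaf 0)) (.node (.leaf 0) (.leaf 0)))))))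

/-- A point of the block, part 629. -/
def ptCodePart629 : Janko1.Tree ℕ := (.node (.node (.node (.node (.node (.node (.leaf 0) (.leaf 0)) (.node (.leaf 0) (.leaf 0))) (.node (.node (.leaf 0) (.leaf 0)) (.node (.leaf 0) (.leaf 0)))) (.node (.node (.node (.leaf 0) (.leaf 0)) (.node (.leaf 0) (.leaf 0))) (.node (.node (.leaf 0) (.leaf 0)) (.node (.leaf 0) (.leaf 0))))) (.node (.node (.node (.node (.leaf 0) (.leaf 0)) (.node (.leaf 0) (.leaf 0))) (.node (.node (.leaf 0) (.leaf 0)) (.node (.leaf 0) (.leaf 0)))) (.node (.node (.node (.leaf 0) (.leaf 0)) (.node (.leaf 0) (.leaf 0))) (.node (.node (.leaf 0) (.leaf 0)) (.node (.leaf 0) (.leaf 0)))))) (.node (.node (.node (.node (.node (.leaf 0) (.leaf 0)) (.node (.leaf 0) (.leaf 0))) (.node (.node (.leaf 0) (.leaf 0)) (.node (.leaf 0) (.leaf 0)))) (.node (.node (.node (.leaf 0) (.leaf 0)) (.node (.leaf 0) (.leaf 0))) (.node (.node (.leaf 0) (.leaf 0)) (.node (.leaf 0) (.leaf 0))))) (.node (.node (.node (.node (.leaf 0) (.leaf 0)) (.node (.leaf 0) (.leaf 0))) (.node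 (.node (.leaf 0) (.leaf 0)) (.node (.leaf 0) (.leaf 0)))) (.node (.node (.node (.leaf 0) (.leaf 0)) (.node (.leaf 0) (.leaf 0))) (.node (.node (.leaf 0) (.leaf 0)) (.node (.leaf 0) (.leaf 0)))))))

/-- A point of the block, part 630. -/
def ptCodePart630 : Janko1.Tree ℕ := (.node (.node (.node (.node (.node (.node (.leaf 0) (.leaf 0)) (.node (.leaf 0) (.leaf 0))) (.node (.node (.leaf 0) (.leaf 0)) (.node (.leaf 0) (.leaf 0)))) (.node (.node (.node (.leaf 0) (.leaf 0)) (.node (.leaf 0) (.leaf 0))) (.node (.node (.leaf 0) (.leaf 0)) (.node (.leaf 0) (.leaf 0))))) (.node (.node (.node (.node (.leaf 0) (.leaf 0)) (.node (.leaf 0) (.leaf 0))) (.node (.node (.leaf 0) (.leaf 0)) (.node (.leaf 0) (.leaf 0)))) (.node (.node (.node (.leaf 0) (.leaf 0)) (.node (.leaf 0) (.leaf 0))) (.node (.node (.leaf 0) (.leaf 0)) (.node (.leaf 0) (.leaf 0)))))) (.node (.node (.node (.node (.node (.leaf 0) (.leaf 0)) (.node (.leaf 0) (.leaf 0))) (.node (.node (.leaf 0) (.leaf 0)) (.node (.leaf 0) (.leaf 0)))) (.node (.node (.node (.leaf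 0) (.leaf 0)) (.node (.leaf 0) (.leaf 0))) (.node (.node (.leaf 0) (.leaf 0)) (.node (.leaf 0) (.leaf 0))))) (.node (.node (.node (.node (.leaf 0) (.leaf 0)) (.node (.leaf 0) (.leaf 0))) (.node (.node (.leaf 0) (.leaf 0)) (.node (.leaf 0) (.leaf 0)))) (.node (.node (.node (.leaf 0) (.leaf 0)) (.node (.leaf 0) (.leaf 0))) (.node (.node (.leaf 0) (.leaf 0)) (.node (.leaf 0) (.leaf 0)))))))

/-- A point of the block, part 631. -/
def ptCodePart631 : Janko1.Tree ℕ := (.node (.node (.node (.node (.node (.node (.leaf 0) (.leaf 0)) (.node (.leaf 0) (.leaf 0))) (.node (.node (.leaf 0) (.leaf 0)) (.node (.leaf 0) (.leaf 0)))) (.node (.node (.node (.leaf 0) (.leaf 0)) (.node (.leaf 0) (.leaf 0))) (.node (.node (.leaf 0) (.leaf 0)) (.node (.leaf 0) (.leaf 0))))) (.node (.node (.node (.node (.leaf 0) (.leaf 0)) (.node (.leaf 0) (.leaf 0))) (.node (.node (.leaf 0) (.leaf 0)) (.node (.leaf 0) (.leaf 0)))) (.node (.node (.node (.leaf 0) (.leaf 0)) (.node (.leaf 0) (.leaf 0))) (.node (.node (.leaf 0) (.leaf 0)) (.node (.leaf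 0) (.leaf 0)))))) (.node (.node (.node (.node (.node (.leaf 0) (.leaf 0)) (.node (.leaf 0) (.leaf 0))) (.node (.node (.leaf 0) (.leaf 0)) (.node (.leaf 0) (.leaf 0)))) (.node (.node (.node (.leaf 0) (.leaf 0)) (.node (.leaf 0) (.leaf 0))) (.node (.node (.leaf 0) (.leaf 0)) (.node (.leaf 0) (.leaf 0))))) (.node (.node (.node (.node (.leaf 0) (.leaf 0)) (.node (.leaf 0) (.leaf 0))) (.node (.node (.leaf 0) (.leaf 0)) (.node (.leaf 0) (.leaf 0)))) (.node (.node (.node (.leaf 0) (.leaf 0)) (.node (.leaf 0) (.leaf 0))) (.node (.node (.leaf 0) (.leaf 0)) (.node (.leaf 0) (.leaf 0)))))))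

/-- A point of the block, part 632. -/
def ptCodePart632 : Janko1.Tree ℕ := (.node (.node (.node (.node (.node (.node (.leaf 0) (.leaf 0)) (.node (.leaf 0) (.leaf 0))) (.node (.node (.leaf 0) (.leaf 0)) (.node (.leaf 0) (.leaf 0)))) (.node (.node (.node (.leaf 0) (.leaf 0)) (.node (.leaf 0) (.leaf 0))) (.node (.node (.leaf 0) (.leaf 0)) (.node (.leaf 0) (.leaf 0))))) (.node (.node (.node (.node (.leaf 0) (.leaf 0)) (.node (.leaf 0) (.leaf 0))) (.node (.node (.leaf 0) (.leaf 0)) (.node (.leaf 0) (.leaf 0)))) (.node (.node (.node (.leaf 0) (.leaf 0)) (.node (.leaf 0) (.leaf 0))) (.node (.node (.leaf 0) (.leaf 0)) (.node (.leaf 0) (.leaf 0)))))) (.node (.node (.node (.node (.node (.leaf 0) (.leaf 0)) (.node (.leaf 0) (.leaf 0))) (.node (.node (.leaf 0) (.leaf 0)) (.node (.leaf 0) (.leaf 0)))) (.node (.node (.node (.leaf 0) (.leaf 0)) (.node (.leaf 0) (.leaf 0))) (.node (.node (.leaf 0) (.leaf 0)) (.node (.leaf 0) (.leaf 0))))) (.node (.node (.node (.node (.leaf 0) (.leaf 0)) (.node (.leaf 0) (.leaf 0))) (.node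 (.node (.leaf 0) (.leaf 0)) (.node (.leaf 0) (.leaf 0)))) (.node (.node (.node (.leaf 0) (.leaf 0)) (.node (.leaf 0) (.leaf 0))) (.node (.node (.leaf 0) (.leaf 0)) (.node (.leaf 0) (.leaf 0)))))))

/-- A point of the block, part 633. -/
def ptCodePart633 : Janko1.Tree ℕ := (.node (.node (.node (.node (.node (.node (.leaf 0) (.leaf 0)) (.node (.leaf 0) (.leaf 0))) (.node (.node (.leaf 0) (.leaf 0)) (.node (.leaf 0) (.leaf 0)))) (.node (.node (.node (.leaf 0) (.leaf 0)) (.node (.leaf 0) (.leaf 0))) (.node (.node (.leaf 0) (.leaf 0)) (.node (.leaf 0) (.leaf 0))))) (.node (.node (.node (.node (.leaf 0) (.leaf 0)) (.node (.leaf 0) (.leaf 0))) (.node (.node (.leaf 0) (.leaf 0)) (.node (.leaf 0) (.leaf 0)))) (.node (.node (.node (.leaf 0) (.leaf 0)) (.node (.leaf 0) (.leaf 0))) (.node (.node (.leaf 0) (.leaf 0)) (.node (.leaf 0) (.leaf 0)))))) (.node (.node (.node (.node (.node (.leaf 0) (.leaf 0)) (.node (.leaf 0) (.leaf 0))) (.node (.node (.leaf 0) (.leaf 0)) (.node (.leaf 0) (.leaf 0)))) (.node (.node (.node (.leaf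 0) (.leaf 0)) (.node (.leaf 0) (.leaf 0))) (.node (.node (.leaf 0) (.leaf 0)) (.node (.leaf 0) (.leaf 0))))) (.node (.node (.node (.node (.leaf 0) (.leaf 0)) (.node (.leaf 0) (.leaf 0))) (.node (.node (.leaf 0) (.leaf 0)) (.node (.leaf 0) (.leaf 0)))) (.node (.node (.node (.leaf 0) (.leaf 0)) (.node (.leaf 0) (.leaf 0))) (.node (.node (.leaf 0) (.leaf 0)) (.node (.leaf 0) (.leaf 0)))))))

/-- A point of the block, part 634. -/
def ptCodePart634 : Janko1.Tree ℕ := (.node (.node (.node (.node (.node (.node (.leaf 0) (.leaf 0)) (.node (.leaf 0) (.leaf 0))) (.node (.node (.leaf 0) (.leaf 0)) (.node (.leaf 0) (.leaf 0)))) (.node (.node (.node (.leaf 0) (.leaf 0)) (.node (.leaf 0) (.leaf 0))) (.node (.node (.leaf 0) (.leaf 0)) (.node (.leaf 0) (.leaf 0))))) (.node (.node (.node (.node (.leaf 0) (.leaf 0)) (.node (.leaf 0) (.leaf 0))) (.node (.node (.leaf 0) (.leaf 0)) (.node (.leaf 0) (.leaf 0)))) (.node (.node (.node (.leaf 0) (.leaf 0)) (.node (.leaf 0) (.leaf 0))) (.node (.node (.leaf 0) (.leaf 0)) (.node (.leaf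 0) (.leaf 0)))))) (.node (.node (.node (.node (.node (.leaf 0) (.leaf 0)) (.node (.leaf 0) (.leaf 0))) (.node (.node (.leaf 0) (.leaf 0)) (.node (.leaf 0) (.leaf 0)))) (.node (.node (.node (.leaf 0) (.leaf 0)) (.node (.leaf 0) (.leaf 0))) (.node (.node (.leaf 0) (.leaf 0)) (.node (.leaf 0) (.leaf 0))))) (.node (.node (.node (.node (.leaf 0) (.leaf 0)) (.node (.leaf 0) (.leaf 0))) (.node (.node (.leaf 0) (.leaf 0)) (.node (.leaf 0) (.leaf 0)))) (.node (.node (.node (.leaf 0) (.leaf 0)) (.node (.leaf 0) (.leaf 0))) (.node (.node (.leaf 0) (.leaf 0)) (.node (.leaf 0) (.leaf 0)))))))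

/-- A point of the block, part 635. -/
def ptCodePart635 : Janko1.Tree ℕ := (.node (.node (.node (.node (.node (.node (.leaf 0) (.leaf 0)) (.node (.leaf 0) (.leaf 0))) (.node (.node (.leaf 0) (.leaf 0)) (.node (.leaf 0) (.leaf 0)))) (.node (.node (.node (.leaf 0) (.leaf 0)) (.node (.leaf 0) (.leaf 0))) (.node (.node (.leaf 0) (.leaf 0)) (.node (.leaf 0) (.leaf 0))))) (.node (.node (.node (.node (.leaf 0) (.leaf 0)) (.node (.leaf 0) (.leaf 0))) (.node (.node (.leaf 0) (.leaf 0)) (.node (.leaf 0) (.leaf 0)))) (.node (.node (.node (.leaf 0) (.leaf 0)) (.node (.leaf 0) (.leaf 0))) (.node (.node (.leaf 0) (.leaf 0)) (.node (.leaf 0) (.leaf 0)))))) (.node (.node (.node (.node (.node (.leaf 0) (.leaf 0)) (.node (.leaf 0) (.leaf 0))) (.node (.node (.leaf 0) (.leaf 0)) (.node (.leaf 0) (.leaf 0)))) (.node (.node (.node (.leaf 0) (.leaf 0)) (.node (.leaf 0) (.leaf 0))) (.node (.node (.leaf 0) (.leaf 0)) (.node (.leaf 0) (.leaf 0))))) (.node (.node (.node (.node (.leaf 0) (.leaf 0)) (.node (.leaf 0) (.leaf 0))) (.node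 (.node (.leaf 0) (.leaf 0)) (.node (.leaf 0) (.leaf 0)))) (.node (.node (.node (.leaf 0) (.leaf 0)) (.node (.leaf 0) (.leaf 0))) (.node (.node (.leaf 0) (.leaf 0)) (.node (.leaf 0) (.leaf 0)))))))

/-- A point of the block, part 636. -/
def ptCodePart636 : Janko1.Tree ℕ := (.node (.node (.node (.node (.node (.node (.leaf 0) (.leaf 0)) (.node (.leaf 0) (.leaf 0))) (.node (.node (.leaf 0) (.leaf 0)) (.node (.leaf 0) (.leaf 0)))) (.node (.node (.node (.leaf 0) (.leaf 0)) (.node (.leaf 0) (.leaf 0))) (.node (.node (.leaf 0) (.leaf 0)) (.node (.leaf 0) (.leaf 0))))) (.node (.node (.node (.node (.leaf 0) (.leaf 0)) (.node (.leaf 0) (.leaf 0))) (.node (.node (.leaf 0) (.leaf 0)) (.node (.leaf 0) (.leaf 0)))) (.node (.node (.node (.leaf 0) (.leaf 0)) (.node (.leaf 0) (.leaf 0))) (.node (.node (.leaf 0) (.leaf 0)) (.node (.leaf 0) (.leaf 0)))))) (.node (.node (.node (.node (.node (.leaf 0) (.leaf 0)) (.node (.leaf 0) (.leaf 0))) (.node (.node (.leaf 0) (.leaf 0)) (.node (.leaf 0) (.leaf 0)))) (.node (.node (.node (.leaf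 0) (.leaf 0)) (.node (.leaf 0) (.leaf 0))) (.node (.node (.leaf 0) (.leaf 0)) (.node (.leaf 0) (.leaf 0))))) (.node (.node (.node (.node (.leaf 0) (.leaf 0)) (.node (.leaf 0) (.leaf 0))) (.node (.node (.leaf 0) (.leaf 0)) (.node (.leaf 0) (.leaf 0)))) (.node (.node (.node (.leaf 0) (.leaf 0)) (.node (.leaf 0) (.leaf 0))) (.node (.node (.leaf 0) (.leaf 0)) (.node (.leaf 0) (.leaf 0)))))))

/-- A point of the block, part 637. -/
def ptCodePart637 : Janko1.Tree ℕ := (.node (.node (.node (.node (.node (.node (.leaf 0) (.leaf 0)) (.node (.leaf 0) (.leaf 0))) (.node (.node (.leaf 0) (.leaf 0)) (.node (.leaf 0) (.leaf 0)))) (.node (.node (.node (.leaf 0) (.leaf 0)) (.node (.leaf 0) (.leaf 0))) (.node (.node (.leaf 0) (.leaf 0)) (.node (.leaf 0) (.leaf 0))))) (.node (.node (.node (.node (.leaf 0) (.leaf 0)) (.node (.leaf 0) (.leaf 0))) (.node (.node (.leaf 0) (.leaf 0)) (.node (.leaf 0) (.leaf 0)))) (.node (.node (.node (.leaf 0) (.leaf 0)) (.node (.leaf 0) (.leaf 0))) (.node (.node (.leaf 0) (.leaf 0)) (.node (.leaf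 0) (.leaf 0)))))) (.node (.node (.node (.node (.node (.leaf 0) (.leaf 0)) (.node (.leaf 0) (.leaf 0))) (.node (.node (.leaf 0) (.leaf 0)) (.node (.leaf 0) (.leaf 0)))) (.node (.node (.node (.leaf 0) (.leaf 0)) (.node (.leaf 0) (.leaf 0))) (.node (.node (.leaf 0) (.leaf 0)) (.node (.leaf 0) (.leaf 0))))) (.node (.node (.node (.node (.leaf 0) (.leaf 0)) (.node (.leaf 0) (.leaf 0))) (.node (.node (.leaf 0) (.leaf 0)) (.node (.leaf 0) (.leaf 0)))) (.node (.node (.node (.leaf 0) (.leaf 0)) (.node (.leaf 0) (.leaf 0))) (.node (.node (.leaf 0) (.leaf 0)) (.node (.leaf 0) (.leaf 0)))))))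

/-- A point of the block, part 638. -/
def ptCodePart638 : Janko1.Tree ℕ := (.node (.node (.node (.node (.node (.node (.leaf 0) (.leaf 0)) (.node (.leaf 0) (.leaf 0))) (.node (.node (.leaf 0) (.leaf 0)) (.node (.leaf 0) (.leaf 0)))) (.node (.node (.node (.leaf 0) (.leaf 0)) (.node (.leaf 0) (.leaf 0))) (.node (.node (.leaf 0) (.leaf 0)) (.node (.leaf 0) (.leaf 0))))) (.node (.node (.node (.node (.leaf 0) (.leaf 0)) (.node (.leaf 0) (.leaf 0))) (.node (.node (.leaf 0) (.leaf 0)) (.node (.leaf 0) (.leaf 0)))) (.node (.node (.node (.leaf 0) (.leaf 0)) (.node (.leaf 0) (.leaf 0))) (.node (.node (.leaf 0) (.leaf 0)) (.node (.leaf 0) (.leaf 0)))))) (.node (.node (.node (.node (.node (.leaf 0) (.leaf 0)) (.node (.leaf 0) (.leaf 0))) (.node (.node (.leaf 0) (.leaf 0)) (.node (.leaf 0) (.leaf 0)))) (.node (.node (.node (.leaf 0) (.leaf 0)) (.node (.leaf 0) (.leaf 0))) (.node (.node (.leaf 0) (.leaf 0)) (.node (.leaf 0) (.leaf 0))))) (.node (.node (.node (.node (.leaf 0) (.leaf 0)) (.node (.leaf 0) (.leaf 0))) (.node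 (.node (.leaf 0) (.leaf 0)) (.node (.leaf 0) (.leaf 0)))) (.node (.node (.node (.leaf 0) (.leaf 0)) (.node (.leaf 0) (.leaf 0))) (.node (.node (.leaf 0) (.leaf 0)) (.node (.leaf 0) (.leaf 0)))))))

/-- A point of the block, part 639. -/
def ptCodePart639 : Janko1.Tree ℕ := (.node (.node (.node (.node (.node (.node (.leaf 0) (.leaf 0)) (.node (.leaf 0) (.leaf 0))) (.node (.node (.leaf 0) (.leaf 0)) (.node (.leaf 0) (.leaf 0)))) (.node (.node (.node (.leaf 0) (.leaf 0)) (.node (.leaf 0) (.leaf 0))) (.node (.node (.leaf 0) (.leaf 0)) (.node (.leaf 0) (.leaf 0))))) (.node (.node (.node (.node (.leaf 0) (.leaf 0)) (.node (.leaf 0) (.leaf 0))) (.node (.node (.leaf 0) (.leaf 0)) (.node (.leaf 0) (.leaf 0)))) (.node (.node (.node (.leaf 0) (.leaf 0)) (.node (.leaf 0) (.leaf 0))) (.node (.node (.leaf 0) (.leaf 0)) (.node (.leaf 0) (.leaf 0)))))) (.node (.node (.node (.node (.node (.leaf 0) (.leaf 0)) (.node (.leaf 0) (.leaf 0))) (.node (.node (.leaf 0) (.leaf 0)) (.node (.leaf 0) (.leaf 0)))) (.node (.node (.node (.leaf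 0) (.leaf 0)) (.node (.leaf 0) (.leaf 0))) (.node (.node (.leaf 0) (.leaf 0)) (.node (.leaf 0) (.leaf 0))))) (.node (.node (.node (.node (.leaf 0) (.leaf 0)) (.node (.leaf 0) (.leaf 0))) (.node (.node (.leaf 0) (.leaf 0)) (.node (.leaf 0) (.leaf 0)))) (.node (.node (.node (.leaf 0) (.leaf 0)) (.node (.leaf 0) (.leaf 0))) (.node (.node (.leaf 0) (.leaf 0)) (.node (.leaf 0) (.leaf 0)))))))

/-- A point of the block, part 640. -/
def ptCodePart640 : Janko1.Tree ℕ := (.node (.node (.node (.node (.node (.node (.leaf 0) (.leaf 0)) (.node (.leaf 0) (.leaf 0))) (.node (.node (.leaf 0) (.leaf 0)) (.node (.leaf 0) (.leaf 0)))) (.node (.node (.node (.leaf 0) (.leaf 0)) (.node (.leaf 0) (.leaf 0))) (.node (.node (.leaf 0) (.leaf 0)) (.node (.leaf 0) (.leaf 0))))) (.node (.node (.node (.node (.leaf 0) (.leaf 0)) (.node (.leaf 0) (.leaf 0))) (.node (.node (.leaf 0) (.leaf 0)) (.node (.leaf 0) (.leaf 0)))) (.node (.node (.node (.leaf 0) (.leaf 0)) (.node (.leaf 0) (.leaf 0))) (.node (.node (.leaf 0) (.leaf 0)) (.node (.leaf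 0) (.leaf 0)))))) (.node (.node (.node (.node (.node (.leaf 0) (.leaf 0)) (.node (.leaf 0) (.leaf 0))) (.node (.node (.leaf 0) (.leaf 0)) (.node (.leaf 0) (.leaf 0)))) (.node (.node (.node (.leaf 0) (.leaf 0)) (.node (.leaf 0) (.leaf 0))) (.node (.node (.leaf 0) (.leaf 0)) (.node (.leaf 0) (.leaf 0))))) (.node (.node (.node (.node (.leaf 0) (.leaf 0)) (.node (.leaf 0) (.leaf 0))) (.node (.node (.leaf 0) (.leaf 0)) (.node (.leaf 0) (.leaf 0)))) (.node (.node (.node (.leaf 0) (.leaf 0)) (.node (.leaf 0) (.leaf 0))) (.node (.node (.leaf 0) (.leaf 0)) (.node (.leaf 0) (.leaf 0)))))))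

/-- A point of the block, part 641. -/
def ptCodePart641 : Janko1.Tree ℕ := (.node (.node (.node (.node (.node (.node (.leaf 0) (.leaf 0)) (.node (.leaf 0) (.leaf 0))) (.node (.node (.leaf 0) (.leaf 0)) (.node (.leaf 0) (.leaf 0)))) (.node (.node (.node (.leaf 0) (.leaf 0)) (.node (.leaf 0) (.leaf 0))) (.node (.node (.leaf 0) (.leaf 0)) (.node (.leaf 0) (.leaf 0))))) (.node (.node (.node (.node (.leaf 0) (.leaf 0)) (.node (.leaf 0) (.leaf 0))) (.node (.node (.leaf 0) (.leaf 0)) (.node (.leaf 0) (.leaf 0)))) (.node (.node (.node (.leaf 0) (.leaf 0)) (.node (.leaf 0) (.leaf 0))) (.node (.node (.leaf 0) (.leaf 0)) (.node (.leaf 0) (.leaf 0)))))) (.node (.node (.node (.node (.node (.leaf 0) (.leaf 0)) (.node (.leaf 0) (.leaf 0))) (.node (.node (.leaf 0) (.leaf 0)) (.node (.leaf 0) (.leaf 0)))) (.node (.node (.node (.leaf 0) (.leaf 0)) (.node (.leaf 0) (.leaf 0))) (.node (.node (.leaf 0) (.leaf 0)) (.node (.leaf 0) (.leaf 0))))) (.node (.node (.node (.node (.leaf 0) (.leaf 0)) (.node (.leaf 0) (.leaf 0))) (.node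 (.node (.leaf 0) (.leaf 0)) (.node (.leaf 0) (.leaf 0)))) (.node (.node (.node (.leaf 0) (.leaf 0)) (.node (.leaf 0) (.leaf 0))) (.node (.node (.leaf 0) (.leaf 0)) (.node (.leaf 0) (.leaf 0)))))))

/-- A point of the block, part 642. -/
def ptCodePart642 : Janko1.Tree ℕ := (.node (.node (.node (.node (.node (.node (.leaf 0) (.leaf 0)) (.node (.leaf 0) (.leaf 0))) (.node (.node (.leaf 0) (.leaf 0)) (.node (.leaf 0) (.leaf 0)))) (.node (.node (.node (.leaf 0) (.leaf 0)) (.node (.leaf 0) (.leaf 0))) (.node (.node (.leaf 0) (.leaf 0)) (.node (.leaf 0) (.leaf 0))))) (.node (.node (.node (.node (.leaf 0) (.leaf 0)) (.node (.leaf 0) (.leaf 0))) (.node (.node (.leaf 0) (.leaf 0)) (.node (.leaf 0) (.leaf 0)))) (.node (.node (.node (.leaf 0) (.leaf 0)) (.node (.leaf 0) (.leaf 0))) (.node (.node (.leaf 0) (.leaf 0)) (.node (.leaf 0) (.leaf 0)))))) (.node (.node (.node (.node (.node (.leaf 0) (.leaf 0)) (.node (.leaf 0) (.leaf 0))) (.node (.node (.leaf 0) (.leaf 0)) (.node (.leaf 0) (.leaf 0)))) (.node (.node (.node (.leaf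 0) (.leaf 0)) (.node (.leaf 0) (.leaf 0))) (.node (.node (.leaf 0) (.leaf 0)) (.node (.leaf 0) (.leaf 0))))) (.node (.node (.node (.node (.leaf 0) (.leaf 0)) (.node (.leaf 0) (.leaf 0))) (.node (.node (.leaf 0) (.leaf 0)) (.node (.leaf 0) (.leaf 0)))) (.node (.node (.node (.leaf 0) (.leaf 0)) (.node (.leaf 0) (.leaf 0))) (.node (.node (.leaf 0) (.leaf 0)) (.node (.leaf 0) (.leaf 0)))))))

/-- A point of the block, part 643. -/
def ptCodePart643 : Janko1.Tree ℕ := (.node (.node (.node (.node (.node (.node (.leaf 0) (.leaf 0)) (.node (.leaf 0) (.leaf 0))) (.node (.node (.leaf 0) (.leaf 0)) (.node (.leaf 0) (.leaf 0)))) (.node (.node (.node (.leaf 0) (.leaf 0)) (.node (.leaf 0) (.leaf 0))) (.node (.node (.leaf 0) (.leaf 0)) (.node (.leaf 0) (.leaf 0))))) (.node (.node (.node (.node (.leaf 0) (.leaf 0)) (.node (.leaf 0) (.leaf 0))) (.node (.node (.leaf 0) (.leaf 0)) (.node (.leaf 0) (.leaf 0)))) (.node (.node (.node (.leaf 0) (.leaf 0)) (.node (.leaf 0) (.leaf 0))) (.node (.node (.leaf 0) (.leaf 0)) (.node (.leaf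 0) (.leaf 0)))))) (.node (.node (.node (.node (.node (.leaf 0) (.leaf 0)) (.node (.leaf 0) (.leaf 0))) (.node (.node (.leaf 0) (.leaf 0)) (.node (.leaf 0) (.leaf 0)))) (.node (.node (.node (.leaf 0) (.leaf 0)) (.node (.leaf 0) (.leaf 0))) (.node (.node (.leaf 0) (.leaf 0)) (.node (.leaf 0) (.leaf 0))))) (.node (.node (.node (.node (.leaf 0) (.leaf 0)) (.node (.leaf 0) (.leaf 0))) (.node (.node (.leaf 0) (.leaf 0)) (.node (.leaf 0) (.leaf 0)))) (.node (.node (.node (.leaf 0) (.leaf 0)) (.node (.leaf 0) (.leaf 0))) (.node (.node (.leaf 0) (.leaf 0)) (.node (.leaf 0) (.leaf 0)))))))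

/-- A point of the block, part 644. -/
def ptCodePart644 : Janko1.Tree ℕ := (.node (.node (.node (.node (.node (.node (.leaf 0) (.leaf 0)) (.node (.leaf 0) (.leaf 0))) (.node (.node (.leaf 0) (.leaf 0)) (.node (.leaf 0) (.leaf 0)))) (.node (.node (.node (.leaf 0) (.leaf 0)) (.node (.leaf 0) (.leaf 0))) (.node (.node (.leaf 0) (.leaf 0)) (.node (.leaf 0) (.leaf 0))))) (.node (.node (.node (.node (.leaf 0) (.leaf 0)) (.node (.leaf 0) (.leaf 0))) (.node (.node (.leaf 0) (.leaf 0)) (.node (.leaf 0) (.leaf 0)))) (.node (.node (.node (.leaf 0) (.leaf 0)) (.node (.leaf 0) (.leaf 0))) (.node (.node (.leaf 0) (.leaf 0)) (.node (.leaf 0) (.leaf 0)))))) (.node (.node (.node (.node (.node (.leaf 0) (.leaf 0)) (.node (.leaf 0) (.leaf 0))) (.node (.node (.leaf 0) (.leaf 0)) (.node (.leaf 0) (.leaf 0)))) (.node (.node (.node (.leaf 0) (.leaf 0)) (.node (.leaf 0) (.leaf 0))) (.node (.node (.leaf 0) (.leaf 0)) (.node (.leaf 0) (.leaf 0))))) (.node (.node (.node (.node (.leaf 0) (.leaf 0)) (.node (.leaf 0) (.leaf 0))) (.node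 (.node (.leaf 0) (.leaf 0)) (.node (.leaf 0) (.leaf 0)))) (.node (.node (.node (.leaf 0) (.leaf 0)) (.node (.leaf 0) (.leaf 0))) (.node (.node (.leaf 0) (.leaf 0)) (.node (.leaf 0) (.leaf 0)))))))

/-- A point of the block, part 645. -/
def ptCodePart645 : Janko1.Tree ℕ := (.node (.node (.node (.node (.node (.node (.leaf 0) (.leaf 0)) (.node (.leaf 0) (.leaf 0))) (.node (.node (.leaf 0) (.leaf 0)) (.node (.leaf 0) (.leaf 0)))) (.node (.node (.node (.leaf 0) (.leaf 0)) (.node (.leaf 0) (.leaf 0))) (.node (.node (.leaf 0) (.leaf 0)) (.node (.leaf 0) (.leaf 0))))) (.node (.node (.node (.node (.leaf 0) (.leaf 0)) (.node (.leaf 0) (.leaf 0))) (.node (.node (.leaf 0) (.leaf 0)) (.node (.leaf 0) (.leaf 0)))) (.node (.node (.node (.leaf 0) (.leaf 0)) (.node (.leaf 0) (.leaf 0))) (.node (.node (.leaf 0) (.leaf 0)) (.node (.leaf 0) (.leaf 0)))))) (.node (.node (.node (.node (.node (.leaf 0) (.leaf 0)) (.node (.leaf 0) (.leaf 0))) (.node (.node (.leaf 0) (.leaf 0)) (.node (.leaf 0) (.leaf 0)))) (.node (.node (.node (.leaf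 0) (.leaf 0)) (.node (.leaf 0) (.leaf 0))) (.node (.node (.leaf 0) (.leaf 0)) (.node (.leaf 0) (.leaf 0))))) (.node (.node (.node (.node (.leaf 0) (.leaf 0)) (.node (.leaf 0) (.leaf 0))) (.node (.node (.leaf 0) (.leaf 0)) (.node (.leaf 0) (.leaf 0)))) (.node (.node (.node (.leaf 0) (.leaf 0)) (.node (.leaf 0) (.leaf 0))) (.node (.node (.leaf 0) (.leaf 0)) (.node (.leaf 0) (.leaf 0)))))))

/-- A point of the block, part 646. -/
def ptCodePart646 : Janko1.Tree ℕ := (.node (.node (.node (.node (.node (.node (.leaf 0) (.leaf 0)) (.node (.leaf 0) (.leaf 0))) (.node (.node (.leaf 0) (.leaf 0)) (.node (.leaf 0) (.leaf 0)))) (.node (.node (.node (.leaf 0) (.leaf 0)) (.node (.leaf 0) (.leaf 0))) (.node (.node (.leaf 0) (.leaf 0)) (.node (.leaf 0) (.leaf 0))))) (.node (.node (.node (.node (.leaf 0) (.leaf 0)) (.node (.leaf 0) (.leaf 0))) (.node (.node (.leaf 0) (.leaf 0)) (.node (.leaf 0) (.leaf 0)))) (.node (.node (.node (.leaf 0) (.leaf 0)) (.node (.leaf 0) (.leaf 0))) (.node (.node (.leaf 0) (.leaf 0)) (.node (.leaf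 0) (.leaf 0)))))) (.node (.node (.node (.node (.node (.leaf 0) (.leaf 0)) (.node (.leaf 0) (.leaf 0))) (.node (.node (.leaf 0) (.leaf 0)) (.node (.leaf 0) (.leaf 0)))) (.node (.node (.node (.leaf 0) (.leaf 0)) (.node (.leaf 0) (.leaf 0))) (.node (.node (.leaf 0) (.leaf 0)) (.node (.leaf 0) (.leaf 0))))) (.node (.node (.node (.node (.leaf 0) (.leaf 0)) (.node (.leaf 0) (.leaf 0))) (.node (.node (.leaf 0) (.leaf 0)) (.node (.leaf 0) (.leaf 0)))) (.node (.node (.node (.leaf 0) (.leaf 0)) (.node (.leaf 0) (.leaf 0))) (.node (.node (.leaf 0) (.leaf 0)) (.node (.leaf 0) (.leaf 0)))))))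

/-- A point of the block, part 647. -/
def ptCodePart647 : Janko1.Tree ℕ := (.node (.node (.node (.node (.node (.node (.leaf 0) (.leaf 0)) (.node (.leaf 0) (.leaf 0))) (.node (.node (.leaf 0) (.leaf 0)) (.node (.leaf 0) (.leaf 0)))) (.node (.node (.node (.leaf 0) (.leaf 0)) (.node (.leaf 0) (.leaf 0))) (.node (.node (.leaf 0) (.leaf 0)) (.node (.leaf 0) (.leaf 0))))) (.node (.node (.node (.node (.leaf 0) (.leaf 0)) (.node (.leaf 0) (.leaf 0))) (.node (.node (.leaf 0) (.leaf 0)) (.node (.leaf 0) (.leaf 0)))) (.node (.node (.node (.leaf 0) (.leaf 0)) (.node (.leaf 0) (.leaf 0))) (.node (.node (.leaf 0) (.leaf 0)) (.node (.leaf 0) (.leaf 0)))))) (.node (.node (.node (.node (.node (.leaf 0) (.leaf 0)) (.node (.leaf 0) (.leaf 0))) (.node (.node (.leaf 0) (.leaf 0)) (.node (.leaf 0) (.leaf 0)))) (.node (.node (.node (.leaf 0) (.leaf 0)) (.node (.leaf 0) (.leaf 0))) (.node (.node (.leaf 0) (.leaf 0)) (.node (.leaf 0) (.leaf 0))))) (.node (.node (.node (.node (.leaf 0) (.leaf 0)) (.node (.leaf 0) (.leaf 0))) (.node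 (.node (.leaf 0) (.leaf 0)) (.node (.leaf 0) (.leaf 0)))) (.node (.node (.node (.leaf 0) (.leaf 0)) (.node (.leaf 0) (.leaf 0))) (.node (.node (.leaf 0) (.leaf 0)) (.node (.leaf 0) (.leaf 0)))))))

/-- A point of the block, part 648. -/
def ptCodePart648 : Janko1.Tree ℕ := (.node (.node (.node (.node (.node (.node (.leaf 0) (.leaf 0)) (.node (.leaf 0) (.leaf 0))) (.node (.node (.leaf 0) (.leaf 0)) (.node (.leaf 0) (.leaf 0)))) (.node (.node (.node (.leaf 0) (.leaf 0)) (.node (.leaf 0) (.leaf 0))) (.node (.node (.leaf 0) (.leaf 0)) (.node (.leaf 0) (.leaf 0))))) (.node (.node (.node (.node (.leaf 0) (.leaf 0)) (.node (.leaf 0) (.leaf 0))) (.node (.node (.leaf 0) (.leaf 0)) (.node (.leaf 0) (.leaf 0)))) (.node (.node (.node (.leaf 0) (.leaf 0)) (.node (.leaf 0) (.leaf 0))) (.node (.node (.leaf 0) (.leaf 0)) (.node (.leaf 0) (.leaf 0)))))) (.node (.node (.node (.node (.node (.leaf 0) (.leaf 0)) (.node (.leaf 0) (.leaf 0))) (.node (.node (.leaf 0) (.leaf 0)) (.node (.leaf 0) (.leaf 0)))) (.node (.node (.node (.leaf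 0) (.leaf 0)) (.node (.leaf 0) (.leaf 0))) (.node (.node (.leaf 0) (.leaf 0)) (.node (.leaf 0) (.leaf 0))))) (.node (.node (.node (.node (.leaf 0) (.leaf 0)) (.node (.leaf 0) (.leaf 0))) (.node (.node (.leaf 0) (.leaf 0)) (.node (.leaf 0) (.leaf 0)))) (.node (.node (.node (.leaf 0) (.leaf 0)) (.node (.leaf 0) (.leaf 0))) (.node (.node (.leaf 0) (.leaf 0)) (.node (.leaf 0) (.leaf 0)))))))

/-- A point of the block, part 649. -/
def ptCodePart649 : Janko1.Tree ℕ := (.node (.node (.node (.node (.node (.node (.leaf 0) (.leaf 0)) (.node (.leaf 0) (.leaf 0))) (.node (.node (.leaf 0) (.leaf 0)) (.node (.leaf 0) (.leaf 0)))) (.node (.node (.node (.leaf 0) (.leaf 0)) (.node (.leaf 0) (.leaf 0))) (.node (.node (.leaf 0) (.leaf 0)) (.node (.leaf 0) (.leaf 0))))) (.node (.node (.node (.node (.leaf 0) (.leaf 0)) (.node (.leaf 0) (.leaf 0))) (.node (.node (.leaf 0) (.leaf 0)) (.node (.leaf 0) (.leaf 0)))) (.node (.node (.node (.leaf 0) (.leaf 0)) (.node (.leaf 0) (.leaf 0))) (.node (.node (.leaf 0) (.leaf 0)) (.node (.leaf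 0) (.leaf 0)))))) (.node (.node (.node (.node (.node (.leaf 0) (.leaf 0)) (.node (.leaf 0) (.leaf 0))) (.node (.node (.leaf 0) (.leaf 0)) (.node (.leaf 0) (.leaf 0)))) (.node (.node (.node (.leaf 0) (.leaf 0)) (.node (.leaf 0) (.leaf 0))) (.node (.node (.leaf 0) (.leaf 0)) (.node (.leaf 0) (.leaf 0))))) (.node (.node (.node (.node (.leaf 0) (.leaf 0)) (.node (.leaf 0) (.leaf 0))) (.node (.node (.leaf 0) (.leaf 0)) (.node (.leaf 0) (.leaf 0)))) (.node (.node (.node (.leaf 0) (.leaf 0)) (.node (.leaf 0) (.leaf 0))) (.node (.node (.leaf 0) (.leaf 0)) (.node (.leaf 0) (.leaf 0)))))))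

/-- A point of the block, part 650. -/
def ptCodePart650 : Janko1.Tree ℕ := (.node (.node (.node (.node (.node (.node (.leaf 0) (.leaf 0)) (.node (.leaf 0) (.leaf 0))) (.node (.node (.leaf 0) (.leaf 0)) (.node (.leaf 0) (.leaf 0)))) (.node (.node (.node (.leaf 0) (.leaf 0)) (.node (.leaf 0) (.leaf 0))) (.node (.node (.leaf 0) (.leaf 0)) (.node (.leaf 0) (.leaf 0))))) (.node (.node (.node (.node (.leaf 0) (.leaf 0)) (.node (.leaf 0) (.leaf 0))) (.node (.node (.leaf 0) (.leaf 0)) (.node (.leaf 0) (.leaf 0)))) (.node (.node (.node (.leaf 0) (.leaf 0)) (.node (.leaf 0) (.leaf 0))) (.node (.node (.leaf 0) (.leaf 0)) (.node (.leaf 0) (.leaf 0)))))) (.node (.node (.node (.node (.node (.leaf 0) (.leaf 0)) (.node (.leaf 0) (.leaf 0))) (.node (.node (.leaf 0) (.leaf 0)) (.node (.leaf 0) (.leaf 0)))) (.node (.node (.node (.leaf 0) (.leaf 0)) (.node (.leaf 0) (.leaf 0))) (.node (.node (.leaf 0) (.leaf 0)) (.node (.leaf 0) (.leaf 0))))) (.node (.node (.node (.node (.leaf 0) (.leaf 0)) (.node (.leaf 0) (.leaf 0))) (.node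 (.node (.leaf 0) (.leaf 0)) (.node (.leaf 0) (.leaf 0)))) (.node (.node (.node (.leaf 0) (.leaf 0)) (.node (.leaf 0) (.leaf 0))) (.node (.node (.leaf 0) (.leaf 0)) (.node (.leaf 0) (.leaf 0)))))))

/-- A point of the block, part 651. -/
def ptCodePart651 : Janko1.Tree ℕ := (.node (.node (.node (.node (.node (.node (.leaf 0) (.leaf 0)) (.node (.leaf 0) (.leaf 0))) (.node (.node (.leaf 0) (.leaf 0)) (.node (.leaf 0) (.leaf 0)))) (.node (.node (.node (.leaf 0) (.leaf 0)) (.node (.leaf 0) (.leaf 0))) (.node (.node (.leaf 0) (.leaf 0)) (.node (.leaf 0) (.leaf 0))))) (.node (.node (.node (.node (.leaf 0) (.leaf 0)) (.node (.leaf 0) (.leaf 0))) (.node (.node (.leaf 0) (.leaf 0)) (.node (.leaf 0) (.leaf 0)))) (.node (.node (.node (.leaf 0) (.leaf 0)) (.node (.leaf 0) (.leaf 0))) (.node (.node (.leaf 0) (.leaf 0)) (.node (.leaf 0) (.leaf 0)))))) (.node (.node (.node (.node (.node (.leaf 0) (.leaf 0)) (.node (.leaf 0) (.leaf 0))) (.node (.node (.leaf 0) (.leaf 0)) (.node (.leaf 0) (.leaf 0)))) (.node (.node (.node (.leaf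 0) (.leaf 0)) (.node (.leaf 0) (.leaf 0))) (.node (.node (.leaf 0) (.leaf 0)) (.node (.leaf 0) (.leaf 0))))) (.node (.node (.node (.node (.leaf 0) (.leaf 0)) (.node (.leaf 0) (.leaf 0))) (.node (.node (.leaf 0) (.leaf 0)) (.node (.leaf 0) (.leaf 0)))) (.node (.node (.node (.leaf 0) (.leaf 0)) (.node (.leaf 0) (.leaf 0))) (.node (.node (.leaf 0) (.leaf 0)) (.node (.leaf 0) (.leaf 0)))))))

/-- A point of the block, part 652. -/
def ptCodePart652 : Janko1.Tree ℕ := (.node (.node (.node (.node (.node (.node (.leaf 0) (.leaf 0)) (.node (.leaf 0) (.leaf 0))) (.node (.node (.leaf 0) (.leaf 0)) (.node (.leaf 0) (.leaf 0)))) (.node (.node (.node (.leaf 0) (.leaf 0)) (.node (.leaf 0) (.leaf 0))) (.node (.node (.leaf 0) (.leaf 0)) (.node (.leaf 0) (.leaf 0))))) (.node (.node (.node (.node (.leaf 0) (.leaf 0)) (.node (.leaf 0) (.leaf 0))) (.node (.node (.leaf 0) (.leaf 0)) (.node (.leaf 0) (.leaf 0)))) (.node (.node (.node (.leaf 0) (.leaf 0)) (.node (.leaf 0) (.leaf 0))) (.node (.node (.leaf 0) (.leaf 0)) (.node (.leaf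 0) (.leaf 0)))))) (.node (.node (.node (.node (.node (.leaf 0) (.leaf 0)) (.node (.leaf 0) (.leaf 0))) (.node (.node (.leaf 0) (.leaf 0)) (.node (.leaf 0) (.leaf 0)))) (.node (.node (.node (.leaf 0) (.leaf 0)) (.node (.leaf 0) (.leaf 0))) (.node (.node (.leaf 0) (.leaf 0)) (.node (.leaf 0) (.leaf 0))))) (.node (.node (.node (.node (.leaf 0) (.leaf 0)) (.node (.leaf 0) (.leaf 0))) (.node (.node (.leaf 0) (.leaf 0)) (.node (.leaf 0) (.leaf 0)))) (.node (.node (.node (.leaf 0) (.leaf 0)) (.node (.leaf 0) (.leaf 0))) (.node (.node (.leaf 0) (.leaf 0)) (.node (.leaf 0) (.leaf 0)))))))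

/-- A point of the block, part 653. -/
def ptCodePart653 : Janko1.Tree ℕ := (.node (.node (.node (.node (.node (.node (.leaf 0) (.leaf 0)) (.node (.leaf 0) (.leaf 0))) (.node (.node (.leaf 0) (.leaf 0)) (.node (.leaf 0) (.leaf 0)))) (.node (.node (.node (.leaf 0) (.leaf 0)) (.node (.leaf 0) (.leaf 0))) (.node (.node (.leaf 0) (.leaf 0)) (.node (.leaf 0) (.leaf 0))))) (.node (.node (.node (.node (.leaf 0) (.leaf 0)) (.node (.leaf 0) (.leaf 0))) (.node (.node (.leaf 0) (.leaf 0)) (.node (.leaf 0) (.leaf 0)))) (.node (.node (.node (.leaf 0) (.leaf 0)) (.node (.leaf 0) (.leaf 0))) (.node (.node (.leaf 0) (.leaf 0)) (.node (.leaf 0) (.leaf 0)))))) (.node (.node (.node (.node (.node (.leaf 0) (.leaf 0)) (.node (.leaf 0) (.leaf 0))) (.node (.node (.leaf 0) (.leaf 0)) (.node (.leaf 0) (.leaf 0)))) (.node (.node (.node (.leaf 0) (.leaf 0)) (.node (.leaf 0) (.leaf 0))) (.node (.node (.leaf 0) (.leaf 0)) (.node (.leaf 0) (.leaf 0))))) (.node (.node (.node (.node (.leaf 0) (.leaf 0)) (.node (.leaf 0) (.leaf 0))) (.node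 (.node (.leaf 0) (.leaf 0)) (.node (.leaf 0) (.leaf 0)))) (.node (.node (.node (.leaf 0) (.leaf 0)) (.node (.leaf 0) (.leaf 0))) (.node (.node (.leaf 0) (.leaf 0)) (.node (.leaf 0) (.leaf 0)))))))

/-- A point of the block, part 654. -/
def ptCodePart654 : Janko1.Tree ℕ := (.node (.node (.node (.node (.node (.node (.leaf 0) (.leaf 0)) (.node (.leaf 0) (.leaf 0))) (.node (.node (.leaf 0) (.leaf 0)) (.node (.leaf 0) (.leaf 0)))) (.node (.node (.node (.leaf 0) (.leaf 0)) (.node (.leaf 0) (.leaf 0))) (.node (.node (.leaf 0) (.leaf 0)) (.node (.leaf 0) (.leaf 0))))) (.node (.node (.node (.node (.leaf 0) (.leaf 0)) (.node (.leaf 0) (.leaf 0))) (.node (.node (.leaf 0) (.leaf 0)) (.node (.leaf 0) (.leaf 0)))) (.node (.node (.node (.leaf 0) (.leaf 0)) (.node (.leaf 0) (.leaf 0))) (.node (.node (.leaf 0) (.leaf 0)) (.node (.leaf 0) (.leaf 0)))))) (.node (.node (.node (.node (.node (.leaf 0) (.leaf 0)) (.node (.leaf 0) (.leaf 0))) (.node (.node (.leaf 0) (.leaf 0)) (.node (.leaf 0) (.leaf 0)))) (.node (.node (.node (.leaf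 0) (.leaf 0)) (.node (.leaf 0) (.leaf 0))) (.node (.node (.leaf 0) (.leaf 0)) (.node (.leaf 0) (.leaf 0))))) (.node (.node (.node (.node (.leaf 0) (.leaf 0)) (.node (.leaf 0) (.leaf 0))) (.node (.node (.leaf 0) (.leaf 0)) (.node (.leaf 0) (.leaf 0)))) (.node (.node (.node (.leaf 0) (.leaf 0)) (.node (.leaf 0) (.leaf 0))) (.node (.node (.leaf 0) (.leaf 0)) (.node (.leaf 0) (.leaf 0)))))))

/-- A point of the block, part 655. -/
def ptCodePart655 : Janko1.Tree ℕ := (.node (.node (.node (.node (.node (.node (.leaf 0) (.leaf 0)) (.node (.leaf 0) (.leaf 0))) (.node (.node (.leaf 0) (.leaf 0)) (.node (.leaf 0) (.leaf 0)))) (.node (.node (.node (.leaf 0) (.leaf 0)) (.node (.leaf 0) (.leaf 0))) (.node (.node (.leaf 0) (.leaf 0)) (.node (.leaf 0) (.leaf 0))))) (.node (.node (.node (.node (.leaf 0) (.leaf 0)) (.node (.leaf 0) (.leaf 0))) (.node (.node (.leaf 0) (.leaf 0)) (.node (.leaf 0) (.leaf 0)))) (.node (.node (.node (.leaf 0) (.leaf 0)) (.node (.leaf 0) (.leaf 0))) (.node (.node (.leaf 0) (.leaf 0)) (.node (.leaf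 0) (.leaf 0)))))) (.node (.node (.node (.node (.node (.leaf 0) (.leaf 0)) (.node (.leaf 0) (.leaf 0))) (.node (.node (.leaf 0) (.leaf 0)) (.node (.leaf 0) (.leaf 0)))) (.node (.node (.node (.leaf 0) (.leaf 0)) (.node (.leaf 0) (.leaf 0))) (.node (.node (.leaf 0) (.leaf 0)) (.node (.leaf 0) (.leaf 0))))) (.node (.node (.node (.node (.leaf 0) (.leaf 0)) (.node (.leaf 0) (.leaf 0))) (.node (.node (.leaf 0) (.leaf 0)) (.node (.leaf 0) (.leaf 0)))) (.node (.node (.node (.leaf 0) (.leaf 0)) (.node (.leaf 0) (.leaf 0))) (.node (.node (.leaf 0) (.leaf 0)) (.node (.leaf 0) (.leaf 0)))))))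

/-- A point of the block, part 656. -/
def ptCodePart656 : Janko1.Tree ℕ := (.node (.node (.node (.node (.node (.node (.leaf 0) (.leaf 0)) (.node (.leaf 0) (.leaf 0))) (.node (.node (.leaf 0) (.leaf 0)) (.node (.leaf 0) (.leaf 0)))) (.node (.node (.node (.leaf 0) (.leaf 0)) (.node (.leaf 0) (.leaf 0))) (.node (.node (.leaf 0) (.leaf 0)) (.node (.leaf 0) (.leaf 0))))) (.node (.node (.node (.node (.leaf 0) (.leaf 0)) (.node (.leaf 0) (.leaf 0))) (.node (.node (.leaf 0) (.leaf 0)) (.node (.leaf 0) (.leaf 0)))) (.node (.node (.node (.leaf 0) (.leaf 0)) (.node (.leaf 0) (.leaf 0))) (.node (.node (.leaf 0) (.leaf 0)) (.node (.leaf 0) (.leaf 0)))))) (.node (.node (.node (.node (.node (.leaf 0) (.leaf 0)) (.node (.leaf 0) (.leaf 0))) (.node (.node (.leaf 0) (.leaf 0)) (.node (.leaf 0) (.leaf 0)))) (.node (.node (.node (.leaf 0) (.leaf 0)) (.node (.leaf 0) (.leaf 0))) (.node (.node (.leaf 0) (.leaf 0)) (.node (.leaf 0) (.leaf 0))))) (.node (.node (.node (.node (.leaf 0) (.leaf 0)) (.node (.leaf 0) (.leaf 0))) (.node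 (.node (.leaf 0) (.leaf 0)) (.node (.leaf 0) (.leaf 0)))) (.node (.node (.node (.leaf 0) (.leaf 0)) (.node (.leaf 0) (.leaf 0))) (.node (.node (.leaf 0) (.leaf 0)) (.node (.leaf 0) (.leaf 0)))))))

/-- A point of the block, part 657. -/
def ptCodePart657 : Janko1.Tree ℕ := (.node (.node (.node (.node (.node (.node (.leaf 0) (.leaf 0)) (.node (.leaf 0) (.leaf 0))) (.node (.node (.leaf 0) (.leaf 0)) (.node (.leaf 0) (.leaf 0)))) (.node (.node (.node (.leaf 0) (.leaf 0)) (.node (.leaf 0) (.leaf 0))) (.node (.node (.leaf 0) (.leaf 0)) (.node (.leaf 0) (.leaf 0))))) (.node (.node (.node (.node (.leaf 0) (.leaf 0)) (.node (.leaf 0) (.leaf 0))) (.node (.node (.leaf 0) (.leaf 0)) (.node (.leaf 0) (.leaf 0)))) (.node (.node (.node (.leaf 0) (.leaf 0)) (.node (.leaf 0) (.leaf 0))) (.node (.node (.leaf 0) (.leaf 0)) (.node (.leaf 0) (.leaf 0)))))) (.node (.node (.node (.node (.node (.leaf 0) (.leaf 0)) (.node (.leaf 0) (.leaf 0))) (.node (.node (.leaf 0) (.leaf 0)) (.node (.leaf 0) (.leaf 0)))) (.node (.node (.node (.leaf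 0) (.leaf 0)) (.node (.leaf 0) (.leaf 0))) (.node (.node (.leaf 0) (.leaf 0)) (.node (.leaf 0) (.leaf 0))))) (.node (.node (.node (.node (.leaf 0) (.leaf 0)) (.node (.leaf 0) (.leaf 0))) (.node (.node (.leaf 0) (.leaf 0)) (.node (.leaf 0) (.leaf 0)))) (.node (.node (.node (.leaf 0) (.leaf 0)) (.node (.leaf 0) (.leaf 0))) (.node (.node (.leaf 0) (.leaf 0)) (.node (.leaf 0) (.leaf 0)))))))

/-- A point of the block, part 658. -/
def ptCodePart658 : Janko1.Tree ℕ := (.node (.node (.node (.node (.node (.node (.leaf 0) (.leaf 0)) (.node (.leaf 0) (.leaf 0))) (.node (.node (.leaf 0) (.leaf 0)) (.node (.leaf 0) (.leaf 0)))) (.node (.node (.node (.leaf 0) (.leaf 0)) (.node (.leaf 0) (.leaf 0))) (.node (.node (.leaf 0) (.leaf 0)) (.node (.leaf 0) (.leaf 0))))) (.node (.node (.node (.node (.leaf 0) (.leaf 0)) (.node (.leaf 0) (.leaf 0))) (.node (.node (.leaf 0) (.leaf 0)) (.node (.leaf 0) (.leaf 0)))) (.node (.node (.node (.leaf 0) (.leaf 0)) (.node (.leaf 0) (.leaf 0))) (.node (.node (.leaf 0) (.leaf 0)) (.node (.leaf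 0) (.leaf 0)))))) (.node (.node (.node (.node (.node (.leaf 0) (.leaf 0)) (.node (.leaf 0) (.leaf 0))) (.node (.node (.leaf 0) (.leaf 0)) (.node (.leaf 0) (.leaf 0)))) (.node (.node (.node (.leaf 0) (.leaf 0)) (.node (.leaf 0) (.leaf 0))) (.node (.node (.leaf 0) (.leaf 0)) (.node (.leaf 0) (.leaf 0))))) (.node (.node (.node (.node (.leaf 0) (.leaf 0)) (.node (.leaf 0) (.leaf 0))) (.node (.node (.leaf 0) (.leaf 0)) (.node (.leaf 0) (.leaf 0)))) (.node (.node (.node (.leaf 0) (.leaf 0)) (.node (.leaf 0) (.leaf 0))) (.node (.node (.leaf 0) (.leaf 0)) (.node (.leaf 0) (.leaf 0)))))))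

/-- A point of the block, part 659. -/
def ptCodePart659 : Janko1.Tree ℕ := (.node (.node (.node (.node (.node (.node (.leaf 0) (.leaf 0)) (.node (.leaf 0) (.leaf 0))) (.node (.node (.leaf 0) (.leaf 0)) (.node (.leaf 0) (.leaf 0)))) (.node (.node (.node (.leaf 0) (.leaf 0)) (.node (.leaf 0) (.leaf 0))) (.node (.node (.leaf 0) (.leaf 0)) (.node (.leaf 0) (.leaf 0))))) (.node (.node (.node (.node (.leaf 0) (.leaf 0)) (.node (.leaf 0) (.leaf 0))) (.node (.node (.leaf 0) (.leaf 0)) (.node (.leaf 0) (.leaf 0)))) (.node (.node (.node (.leaf 0) (.leaf 0)) (.node (.leaf 0) (.leaf 0))) (.node (.node (.leaf 0) (.leaf 0)) (.node (.leaf 0) (.leaf 0)))))) (.node (.node (.node (.node (.node (.leaf 0) (.leaf 0)) (.node (.leaf 0) (.leaf 0))) (.node (.node (.leaf 0) (.leaf 0)) (.node (.leaf 0) (.leaf 0)))) (.node (.node (.node (.leaf 0) (.leaf 0)) (.node (.leaf 0) (.leaf 0))) (.node (.node (.leaf 0) (.leaf 0)) (.node (.leaf 0) (.leaf 0))))) (.node (.node (.node (.node (.leaf 0) (.leaf 0)) (.node (.leaf 0) (.leaf 0))) (.node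 (.node (.leaf 0) (.leaf 0)) (.node (.leaf 0) (.leaf 0)))) (.node (.node (.node (.leaf 0) (.leaf 0)) (.node (.leaf 0) (.leaf 0))) (.node (.node (.leaf 0) (.leaf 0)) (.node (.leaf 0) (.leaf 0)))))))

/-- A point of the block, part 660. -/
def ptCodePart660 : Janko1.Tree ℕ := (.node (.node (.node (.node (.node (.node (.leaf 0) (.leaf 0)) (.node (.leaf 0) (.leaf 0))) (.node (.node (.leaf 0) (.leaf 0)) (.node (.leaf 0) (.leaf 0)))) (.node (.node (.node (.leaf 0) (.leaf 0)) (.node (.leaf 0) (.leaf 0))) (.node (.node (.leaf 0) (.leaf 0)) (.node (.leaf 0) (.leaf 0))))) (.node (.node (.node (.node (.leaf 0) (.leaf 0)) (.node (.leaf 0) (.leaf 0))) (.node (.node (.leaf 0) (.leaf 0)) (.node (.leaf 0) (.leaf 0)))) (.node (.node (.node (.leaf 0) (.leaf 0)) (.node (.leaf 0) (.leaf 0))) (.node (.node (.leaf 0) (.leaf 0)) (.node (.leaf 0) (.leaf 0)))))) (.node (.node (.node (.node (.node (.leaf 0) (.leaf 0)) (.node (.leaf 0) (.leaf 0))) (.node (.node (.leaf 0) (.leaf 0)) (.node (.leaf 0) (.leaf 0)))) (.node (.node (.node (.leaf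 0) (.leaf 0)) (.node (.leaf 0) (.leaf 0))) (.node (.node (.leaf 0) (.leaf 0)) (.node (.leaf 0) (.leaf 0))))) (.node (.node (.node (.node (.leaf 0) (.leaf 0)) (.node (.leaf 0) (.leaf 0))) (.node (.node (.leaf 0) (.leaf 0)) (.node (.leaf 0) (.leaf 0)))) (.node (.node (.node (.leaf 0) (.leaf 0)) (.node (.leaf 0) (.leaf 0))) (.node (.node (.leaf 0) (.leaf 0)) (.node (.leaf 0) (.leaf 0)))))))

/-- A point of the block, part 661. -/
def ptCodePart661 : Janko1.Tree ℕ := (.node (.node (.node (.node (.node (.node (.leaf 0) (.leaf 0)) (.node (.leaf 0) (.leaf 0))) (.node (.node (.leaf 0) (.leaf 0)) (.node (.leaf 0) (.leaf 0)))) (.node (.node (.node (.leaf 0) (.leaf 0)) (.node (.leaf 0) (.leaf 0))) (.node (.node (.leaf 0) (.leaf 0)) (.node (.leaf 0) (.leaf 0))))) (.node (.node (.node (.node (.leaf 0) (.leaf 0)) (.node (.leaf 0) (.leaf 0))) (.node (.node (.leaf 0) (.leaf 0)) (.node (.leaf 0) (.leaf 0)))) (.node (.node (.node (.leaf 0) (.leaf 0)) (.node (.leaf 0) (.leaf 0))) (.node (.node (.leaf 0) (.leaf 0)) (.node (.leaf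 0) (.leaf 0)))))) (.node (.node (.node (.node (.node (.leaf 0) (.leaf 0)) (.node (.leaf 0) (.leaf 0))) (.node (.node (.leaf 0) (.leaf 0)) (.node (.leaf 0) (.leaf 0)))) (.node (.node (.node (.leaf 0) (.leaf 0)) (.node (.leaf 0) (.leaf 0))) (.node (.node (.leaf 0) (.leaf 0)) (.node (.leaf 0) (.leaf 0))))) (.node (.node (.node (.node (.leaf 0) (.leaf 0)) (.node (.leaf 0) (.leaf 0))) (.node (.node (.leaf 0) (.leaf 0)) (.node (.leaf 0) (.leaf 0)))) (.node (.node (.node (.leaf 0) (.leaf 0)) (.node (.leaf 0) (.leaf 0))) (.node (.node (.leaf 0) (.leaf 0)) (.node (.leaf 0) (.leaf 0)))))))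

/-- A point of the block, part 662. -/
def ptCodePart662 : Janko1.Tree ℕ := (.node (.node (.node (.node (.node (.node (.leaf 0) (.leaf 0)) (.node (.leaf 0) (.leaf 0))) (.node (.node (.leaf 0) (.leaf 0)) (.node (.leaf 0) (.leaf 0)))) (.node (.node (.node (.leaf 0) (.leaf 0)) (.node (.leaf 0) (.leaf 0))) (.node (.node (.leaf 0) (.leaf 0)) (.node (.leaf 0) (.leaf 0))))) (.node (.node (.node (.node (.leaf 0) (.leaf 0)) (.node (.leaf 0) (.leaf 0))) (.node (.node (.leaf 0) (.leaf 0)) (.node (.leaf 0) (.leaf 0)))) (.node (.node (.node (.leaf 0) (.leaf 0)) (.node (.leaf 0) (.leaf 0))) (.node (.node (.leaf 0) (.leaf 0)) (.node (.leaf 0) (.leaf 0)))))) (.node (.node (.node (.node (.node (.leaf 0) (.leaf 0)) (.node (.leaf 0) (.leaf 0))) (.node (.node (.leaf 0) (.leaf 0)) (.node (.leaf 0) (.leaf 0)))) (.node (.node (.node (.leaf 0) (.leaf 0)) (.node (.leaf 0) (.leaf 0))) (.node (.node (.leaf 0) (.leaf 0)) (.node (.leaf 0) (.leaf 0))))) (.node (.node (.node (.node (.leaf 0) (.leaf 0)) (.node (.leaf 0) (.leaf 0))) (.node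 (.node (.leaf 0) (.leaf 0)) (.node (.leaf 0) (.leaf 0)))) (.node (.node (.node (.leaf 0) (.leaf 0)) (.node (.leaf 0) (.leaf 0))) (.node (.node (.leaf 0) (.leaf 0)) (.node (.leaf 0) (.leaf 0)))))))

/-- A point of the block, part 663. -/
def ptCodePart663 : Janko1.Tree ℕ := (.node (.node (.node (.node (.node (.node (.leaf 0) (.leaf 0)) (.node (.leaf 0) (.leaf 0))) (.node (.node (.leaf 0) (.leaf 0)) (.node (.leaf 0) (.leaf 0)))) (.node (.node (.node (.leaf 0) (.leaf 0)) (.node (.leaf 0) (.leaf 0))) (.node (.node (.leaf 0) (.leaf 0)) (.node (.leaf 0) (.leaf 0))))) (.node (.node (.node (.node (.leaf 0) (.leaf 0)) (.node (.leaf 0) (.leaf 0))) (.node (.node (.leaf 0) (.leaf 0)) (.node (.leaf 0) (.leaf 0)))) (.node (.node (.node (.leaf 0) (.leaf 0)) (.node (.leaf 0) (.leaf 0))) (.node (.node (.leaf 0) (.leaf 0)) (.node (.leaf 0) (.leaf 0)))))) (.node (.node (.node (.node (.node (.leaf 0) (.leaf 0)) (.node (.leaf 0) (.leaf 0))) (.node (.node (.leaf 0) (.leaf 0)) (.node (.leaf 0) (.leaf 0)))) (.node (.node (.node (.leaf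 0) (.leaf 0)) (.node (.leaf 0) (.leaf 0))) (.node (.node (.leaf 0) (.leaf 0)) (.node (.leaf 0) (.leaf 0))))) (.node (.node (.node (.node (.leaf 0) (.leaf 0)) (.node (.leaf 0) (.leaf 0))) (.node (.node (.leaf 0) (.leaf 0)) (.node (.leaf 0) (.leaf 0)))) (.node (.node (.node (.leaf 0) (.leaf 0)) (.node (.leaf 0) (.leaf 0))) (.node (.node (.leaf 0) (.leaf 0)) (.node (.leaf 0) (.leaf 0)))))))

/-- A point of the block, part 664. -/
def ptCodePart664 : Janko1.Tree ℕ := (.node (.node (.node (.node (.node (.node (.leaf 0) (.leaf 0)) (.node (.leaf 0) (.leaf 0))) (.node (.node (.leaf 0) (.leaf 0)) (.node (.leaf 0) (.leaf 0)))) (.node (.node (.node (.leaf 0) (.leaf 0)) (.node (.leaf 0) (.leaf 0))) (.node (.node (.leaf 0) (.leaf 0)) (.node (.leaf 0) (.leaf 0))))) (.node (.node (.node (.node (.leaf 0) (.leaf 0)) (.node (.leaf 0) (.leaf 0))) (.node (.node (.leaf 0) (.leaf 0)) (.node (.leaf 0) (.leaf 0)))) (.node (.node (.node (.leaf 0) (.leaf 0)) (.node (.leaf 0) (.leaf 0))) (.node (.node (.leaf 0) (.leaf 0)) (.node (.leaf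 0) (.leaf 0)))))) (.node (.node (.node (.node (.node (.leaf 0) (.leaf 0)) (.node (.leaf 0) (.leaf 0))) (.node (.node (.leaf 0) (.leaf 0)) (.node (.leaf 0) (.leaf 0)))) (.node (.node (.node (.leaf 0) (.leaf 0)) (.node (.leaf 0) (.leaf 0))) (.node (.node (.leaf 0) (.leaf 0)) (.node (.leaf 0) (.leaf 0))))) (.node (.node (.node (.node (.leaf 0) (.leaf 0)) (.node (.leaf 0) (.leaf 0))) (.node (.node (.leaf 0) (.leaf 0)) (.node (.leaf 0) (.leaf 0)))) (.node (.node (.node (.leaf 0) (.leaf 0)) (.node (.leaf 0) (.leaf 0))) (.node (.node (.leaf 0) (.leaf 0)) (.node (.leaf 0) (.leaf 0)))))))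

/-- A point of the block, part 665. -/
def ptCodePart665 : Janko1.Tree ℕ := (.node (.node (.node (.node (.node (.node (.leaf 0) (.leaf 0)) (.node (.leaf 0) (.leaf 0))) (.node (.node (.leaf 0) (.leaf 0)) (.node (.leaf 0) (.leaf 0)))) (.node (.node (.node (.leaf 0) (.leaf 0)) (.node (.leaf 0) (.leaf 0))) (.node (.node (.leaf 0) (.leaf 0)) (.node (.leaf 0) (.leaf 0))))) (.node (.node (.node (.node (.leaf 0) (.leaf 0)) (.node (.leaf 0) (.leaf 0))) (.node (.node (.leaf 0) (.leaf 0)) (.node (.leaf 0) (.leaf 0)))) (.node (.node (.node (.leaf 0) (.leaf 0)) (.node (.leaf 0) (.leaf 0))) (.node (.node (.leaf 0) (.leaf 0)) (.node (.leaf 0) (.leaf 0)))))) (.node (.node (.node (.node (.node (.leaf 0) (.leaf 0)) (.node (.leaf 0) (.leaf 0))) (.node (.node (.leaf 0) (.leaf 0)) (.node (.leaf 0) (.leaf 0)))) (.node (.node (.node (.leaf 0) (.leaf 0)) (.node (.leaf 0) (.leaf 0))) (.node (.node (.leaf 0) (.leaf 0)) (.node (.leaf 0) (.leaf 0))))) (.node (.node (.node (.node (.leaf 0) (.leaf 0)) (.node (.leaf 0) (.leaf 0))) (.node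 (.node (.leaf 0) (.leaf 0)) (.node (.leaf 0) (.leaf 0)))) (.node (.node (.node (.leaf 0) (.leaf 0)) (.node (.leaf 0) (.leaf 0))) (.node (.node (.leaf 0) (.leaf 0)) (.node (.leaf 0) (.leaf 0)))))))

/-- A point of the block, part 666. -/
def ptCodePart666 : Janko1.Tree ℕ := (.node (.node (.node (.node (.node (.node (.leaf 0) (.leaf 0)) (.node (.leaf 0) (.leaf 0))) (.node (.node (.leaf 0) (.leaf 0)) (.node (.leaf 0) (.leaf 0)))) (.node (.node (.node (.leaf 0) (.leaf 0)) (.node (.leaf 0) (.leaf 0))) (.node (.node (.leaf 0) (.leaf 0)) (.node (.leaf 0) (.leaf 0))))) (.node (.node (.node (.node (.leaf 0) (.leaf 0)) (.node (.leaf 0) (.leaf 0))) (.node (.node (.leaf 0) (.leaf 0)) (.node (.leaf 0) (.leaf 0)))) (.node (.node (.node (.leaf 0) (.leaf 0)) (.node (.leaf 0) (.leaf 0))) (.node (.node (.leaf 0) (.leaf 0)) (.node (.leaf 0) (.leaf 0)))))) (.node (.node (.node (.node (.node (.leaf 0) (.leaf 0)) (.node (.leaf 0) (.leaf 0))) (.node (.node (.leaf 0) (.leaf 0)) (.node (.leaf 0) (.leaf 0)))) (.node (.node (.node (.leaf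 0) (.leaf 0)) (.node (.leaf 0) (.leaf 0))) (.node (.node (.leaf 0) (.leaf 0)) (.node (.leaf 0) (.leaf 0))))) (.node (.node (.node (.node (.leaf 0) (.leaf 0)) (.node (.leaf 0) (.leaf 0))) (.node (.node (.leaf 0) (.leaf 0)) (.node (.leaf 0) (.leaf 0)))) (.node (.node (.node (.leaf 0) (.leaf 0)) (.node (.leaf 0) (.leaf 0))) (.node (.node (.leaf 0) (.leaf 0)) (.node (.leaf 0) (.leaf 0)))))))

/-- A point of the block, part 667. -/
def ptCodePart667 : Janko1.Tree ℕ := (.node (.node (.node (.node (.node (.node (.leaf 0) (.leaf 0)) (.node (.leaf 0) (.leaf 0))) (.node (.node (.leaf 0) (.leaf 0)) (.node (.leaf 0) (.leaf 0)))) (.node (.node (.node (.leaf 0) (.leaf 0)) (.node (.leaf 0) (.leaf 0))) (.node (.node (.leaf 0) (.leaf 0)) (.node (.leaf 0) (.leaf 0))))) (.node (.node (.node (.node (.leaf 0) (.leaf 0)) (.node (.leaf 0) (.leaf 0))) (.node (.node (.leaf 0) (.leaf 0)) (.node (.leaf 0) (.leaf 0)))) (.node (.node (.node (.leaf 0) (.leaf 0)) (.node (.leaf 0) (.leaf 0))) (.node (.node (.leaf 0) (.leaf 0)) (.node (.leaf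 0) (.leaf 0)))))) (.node (.node (.node (.node (.node (.leaf 0) (.leaf 0)) (.node (.leaf 0) (.leaf 0))) (.node (.node (.leaf 0) (.leaf 0)) (.node (.leaf 0) (.leaf 0)))) (.node (.node (.node (.leaf 0) (.leaf 0)) (.node (.leaf 0) (.leaf 0))) (.node (.node (.leaf 0) (.leaf 0)) (.node (.leaf 0) (.leaf 0))))) (.node (.node (.node (.node (.leaf 0) (.leaf 0)) (.node (.leaf 0) (.leaf 0))) (.node (.node (.leaf 0) (.leaf 0)) (.node (.leaf 0) (.leaf 0)))) (.node (.node (.node (.leaf 0) (.leaf 0)) (.node (.leaf 0) (.leaf 0))) (.node (.node (.leaf 0) (.leaf 0)) (.node (.leaf 0) (.leaf 0)))))))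

/-- A point of the block, part 668. -/
def ptCodePart668 : Janko1.Tree ℕ := (.node (.node (.node (.node (.node (.node (.leaf 0) (.leaf 0)) (.node (.leaf 0) (.leaf 0))) (.node (.node (.leaf 0) (.leaf 0)) (.node (.leaf 0) (.leaf 0)))) (.node (.node (.node (.leaf 0) (.leaf 0)) (.node (.leaf 0) (.leaf 0))) (.node (.node (.leaf 0) (.leaf 0)) (.node (.leaf 0) (.leaf 0))))) (.node (.node (.node (.node (.leaf 0) (.leaf 0)) (.node (.leaf 0) (.leaf 0))) (.node (.node (.leaf 0) (.leaf 0)) (.node (.leaf 0) (.leaf 0)))) (.node (.node (.node (.leaf 0) (.leaf 0)) (.node (.leaf 0) (.leaf 0))) (.node (.node (.leaf 0) (.leaf 0)) (.node (.leaf 0) (.leaf 0)))))) (.node (.node (.node (.node (.node (.leaf 0) (.leaf 0)) (.node (.leaf 0) (.leaf 0))) (.node (.node (.leaf 0) (.leaf 0)) (.node (.leaf 0) (.leaf 0)))) (.node (.node (.node (.leaf 0) (.leaf 0)) (.node (.leaf 0) (.leaf 0))) (.node (.node (.leaf 0) (.leaf 0)) (.node (.leaf 0) (.leaf 0))))) (.node (.node (.node (.node (.leaf 0) (.leaf 0)) (.node (.leaf 0) (.leaf 0))) (.node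 (.node (.leaf 0) (.leaf 0)) (.node (.leaf 0) (.leaf 0)))) (.node (.node (.node (.leaf 0) (.leaf 0)) (.node (.leaf 0) (.leaf 0))) (.node (.node (.leaf 0) (.leaf 0)) (.node (.leaf 0) (.leaf 0)))))))

/-- A point of the block, part 669. -/
def ptCodePart669 : Janko1.Tree ℕ := (.node (.node (.node (.node (.node (.node (.leaf 0) (.leaf 0)) (.node (.leaf 0) (.leaf 0))) (.node (.node (.leaf 0) (.leaf 0)) (.node (.leaf 0) (.leaf 0)))) (.node (.node (.node (.leaf 0) (.leaf 0)) (.node (.leaf 0) (.leaf 0))) (.node (.node (.leaf 0) (.leaf 0)) (.node (.leaf 0) (.leaf 0))))) (.node (.node (.node (.node (.leaf 0) (.leaf 0)) (.node (.leaf 0) (.leaf 0))) (.node (.node (.leaf 0) (.leaf 0)) (.node (.leaf 0) (.leaf 0)))) (.node (.node (.node (.leaf 0) (.leaf 0)) (.node (.leaf 0) (.leaf 0))) (.node (.node (.leaf 0) (.leaf 0)) (.node (.leaf 0) (.leaf 0)))))) (.node (.node (.node (.node (.node (.leaf 0) (.leaf 0)) (.node (.leaf 0) (.leaf 0))) (.node (.node (.leaf 0) (.leaf 0)) (.node (.leaf 0) (.leaf 0)))) (.node (.node (.node (.leaf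 0) (.leaf 0)) (.node (.leaf 0) (.leaf 0))) (.node (.node (.leaf 0) (.leaf 0)) (.node (.leaf 0) (.leaf 0))))) (.node (.node (.node (.node (.leaf 0) (.leaf 0)) (.node (.leaf 0) (.leaf 0))) (.node (.node (.leaf 0) (.leaf 0)) (.node (.leaf 0) (.leaf 0)))) (.node (.node (.node (.leaf 0) (.leaf 0)) (.node (.leaf 0) (.leaf 0))) (.node (.node (.leaf 0) (.leaf 0)) (.node (.leaf 0) (.leaf 0)))))))

/-- A point of the block, part 670. -/
def ptCodePart670 : Janko1.Tree ℕ := (.node (.node (.node (.node (.node (.node (.leaf 0) (.leaf 0)) (.node (.leaf 0) (.leaf 0))) (.node (.node (.leaf 0) (.leaf 0)) (.node (.leaf 0) (.leaf 0)))) (.node (.node (.node (.leaf 0) (.leaf 0)) (.node (.leaf 0) (.leaf 0))) (.node (.node (.leaf 0) (.leaf 0)) (.node (.leaf 0) (.leaf 0))))) (.node (.node (.node (.node (.leaf 0) (.leaf 0)) (.node (.leaf 0) (.leaf 0))) (.node (.node (.leaf 0) (.leaf 0)) (.node (.leaf 0) (.leaf 0)))) (.node (.node (.node (.leaf 0) (.leaf 0)) (.node (.leaf 0) (.leaf 0))) (.node (.node (.leaf 0) (.leaf 0)) (.node (.leaf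 0) (.leaf 0)))))) (.node (.node (.node (.node (.node (.leaf 0) (.leaf 0)) (.node (.leaf 0) (.leaf 0))) (.node (.node (.leaf 0) (.leaf 0)) (.node (.leaf 0) (.leaf 0)))) (.node (.node (.node (.leaf 0) (.leaf 0)) (.node (.leaf 0) (.leaf 0))) (.node (.node (.leaf 0) (.leaf 0)) (.node (.leaf 0) (.leaf 0))))) (.node (.node (.node (.node (.leaf 0) (.leaf 0)) (.node (.leaf 0) (.leaf 0))) (.node (.node (.leaf 0) (.leaf 0)) (.node (.leaf 0) (.leaf 0)))) (.node (.node (.node (.leaf 0) (.leaf 0)) (.node (.leaf 0) (.leaf 0))) (.node (.node (.leaf 0) (.leaf 0)) (.node (.leaf 0) (.leaf 0)))))))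

/-- A point of the block, part 671. -/
def ptCodePart671 : Janko1.Tree ℕ := (.node (.node (.node (.node (.node (.node (.leaf 0) (.leaf 0)) (.node (.leaf 0) (.leaf 0))) (.node (.node (.leaf 0) (.leaf 0)) (.node (.leaf 0) (.leaf 0)))) (.node (.node (.node (.leaf 0) (.leaf 0)) (.node (.leaf 0) (.leaf 0))) (.node (.node (.leaf 0) (.leaf 0)) (.node (.leaf 0) (.leaf 0))))) (.node (.node (.node (.node (.leaf 0) (.leaf 0)) (.node (.leaf 0) (.leaf 0))) (.node (.node (.leaf 0) (.leaf 0)) (.node (.leaf 0) (.leaf 0)))) (.node (.node (.node (.leaf 0) (.leaf 0)) (.node (.leaf 0) (.leaf 0))) (.node (.node (.leaf 0) (.leaf 0)) (.node (.leaf 0) (.leaf 0)))))) (.node (.node (.node (.node (.node (.leaf 0) (.leaf 0)) (.node (.leaf 0) (.leaf 0))) (.node (.node (.leaf 0) (.leaf 0)) (.node (.leaf 0) (.leaf 0)))) (.node (.node (.node (.leaf 0) (.leaf 0)) (.node (.leaf 0) (.leaf 0))) (.node (.node (.leaf 0) (.leaf 0)) (.node (.leaf 0) (.leaf 0))))) (.node (.node (.node (.node (.leaf 0) (.leaf 0)) (.node (.leaf 0) (.leaf 0))) (.node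 (.node (.leaf 0) (.leaf 0)) (.node (.leaf 0) (.leaf 0)))) (.node (.node (.node (.leaf 0) (.leaf 0)) (.node (.leaf 0) (.leaf 0))) (.node (.node (.leaf 0) (.leaf 0)) (.node (.leaf 0) (.leaf 0)))))))

/-- A point of the block, part 672. -/
def ptCodePart672 : Janko1.Tree ℕ := (.node (.node (.node (.node (.node (.node (.leaf 0) (.leaf 0)) (.node (.leaf 0) (.leaf 0))) (.node (.node (.leaf 0) (.leaf 0)) (.node (.leaf 0) (.leaf 0)))) (.node (.node (.node (.leaf 0) (.leaf 0)) (.node (.leaf 0) (.leaf 0))) (.node (.node (.leaf 0) (.leaf 0)) (.node (.leaf 0) (.leaf 0))))) (.node (.node (.node (.node (.leaf 0) (.leaf 0)) (.node (.leaf 0) (.leaf 0))) (.node (.node (.leaf 0) (.leaf 0)) (.node (.leaf 0) (.leaf 0)))) (.node (.node (.node (.leaf 0) (.leaf 0)) (.node (.leaf 0) (.leaf 0))) (.node (.node (.leaf 0) (.leaf 0)) (.node (.leaf 0) (.leaf 0)))))) (.node (.node (.node (.node (.node (.leaf 0) (.leaf 0)) (.node (.leaf 0) (.leaf 0))) (.node (.node (.leaf 0) (.leaf 0)) (.node (.leaf 0) (.leaf 0)))) (.node (.node (.node (.leaf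 0) (.leaf 0)) (.node (.leaf 0) (.leaf 0))) (.node (.node (.leaf 0) (.leaf 0)) (.node (.leaf 0) (.leaf 0))))) (.node (.node (.node (.node (.leaf 0) (.leaf 0)) (.node (.leaf 0) (.leaf 0))) (.node (.node (.leaf 0) (.leaf 0)) (.node (.leaf 0) (.leaf 0)))) (.node (.node (.node (.leaf 0) (.leaf 0)) (.node (.leaf 0) (.leaf 0))) (.node (.node (.leaf 0) (.leaf 0)) (.node (.leaf 0) (.leaf 0)))))))

/-- A point of the block, part 673. -/
def ptCodePart673 : Janko1.Tree ℕ := (.node (.node (.node (.node (.node (.node (.leaf 0) (.leaf 0)) (.node (.leaf 0) (.leaf 0))) (.node (.node (.leaf 0) (.leaf 0)) (.node (.leaf 0) (.leaf 0)))) (.node (.node (.node (.leaf 0) (.leaf 0)) (.node (.leaf 0) (.leaf 0))) (.node (.node (.leaf 0) (.leaf 0)) (.node (.leaf 0) (.leaf 0))))) (.node (.node (.node (.node (.leaf 0) (.leaf 0)) (.node (.leaf 0) (.leaf 0))) (.node (.node (.leaf 0) (.leaf 0)) (.node (.leaf 0) (.leaf 0)))) (.node (.node (.node (.leaf 0) (.leaf 0)) (.node (.leaf 0) (.leaf 0))) (.node (.node (.leaf 0) (.leaf 0)) (.node (.leaf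 0) (.leaf 0)))))) (.node (.node (.node (.node (.node (.leaf 0) (.leaf 0)) (.node (.leaf 0) (.leaf 0))) (.node (.node (.leaf 0) (.leaf 0)) (.node (.leaf 0) (.leaf 0)))) (.node (.node (.node (.leaf 0) (.leaf 0)) (.node (.leaf 0) (.leaf 0))) (.node (.node (.leaf 0) (.leaf 0)) (.node (.leaf 0) (.leaf 0))))) (.node (.node (.node (.node (.leaf 0) (.leaf 0)) (.node (.leaf 0) (.leaf 0))) (.node (.node (.leaf 0) (.leaf 0)) (.node (.leaf 0) (.leaf 0)))) (.node (.node (.node (.leaf 0) (.leaf 0)) (.node (.leaf 0) (.leaf 0))) (.node (.node (.leaf 0) (.leaf 0)) (.node (.leaf 0) (.leaf 0)))))))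

/-- A point of the block, part 674. -/
def ptCodePart674 : Janko1.Tree ℕ := (.node (.node (.node (.node (.node (.node (.leaf 0) (.leaf 0)) (.node (.leaf 0) (.leaf 0))) (.node (.node (.leaf 0) (.leaf 0)) (.node (.leaf 0) (.leaf 0)))) (.node (.node (.node (.leaf 0) (.leaf 0)) (.node (.leaf 0) (.leaf 0))) (.node (.node (.leaf 0) (.leaf 0)) (.node (.leaf 0) (.leaf 0))))) (.node (.node (.node (.node (.leaf 0) (.leaf 0)) (.node (.leaf 0) (.leaf 0))) (.node (.node (.leaf 0) (.leaf 0)) (.node (.leaf 0) (.leaf 0)))) (.node (.node (.node (.leaf 0) (.leaf 0)) (.node (.leaf 0) (.leaf 0))) (.node (.node (.leaf 0) (.leaf 0)) (.node (.leaf 0) (.leaf 0)))))) (.node (.node (.node (.node (.node (.leaf 0) (.leaf 0)) (.node (.leaf 0) (.leaf 0))) (.node (.node (.leaf 0) (.leaf 0)) (.node (.leaf 0) (.leaf 0)))) (.node (.node (.node (.leaf 0) (.leaf 0)) (.node (.leaf 0) (.leaf 0))) (.node (.node (.leaf 0) (.leaf 0)) (.node (.leaf 0) (.leaf 0))))) (.node (.node (.node (.node (.leaf 0) (.leaf 0)) (.node (.leaf 0) (.leaf 0))) (.node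 (.node (.leaf 0) (.leaf 0)) (.node (.leaf 0) (.leaf 0)))) (.node (.node (.node (.leaf 0) (.leaf 0)) (.node (.leaf 0) (.leaf 0))) (.node (.node (.leaf 0) (.leaf 0)) (.node (.leaf 0) (.leaf 0)))))))

/-- A point of the block, part 675. -/
def ptCodePart675 : Janko1.Tree ℕ := (.node (.node (.node (.node (.node (.node (.leaf 0) (.leaf 0)) (.node (.leaf 0) (.leaf 0))) (.node (.node (.leaf 0) (.leaf 0)) (.node (.leaf 0) (.leaf 0)))) (.node (.node (.node (.leaf 0) (.leaf 0)) (.node (.leaf 0) (.leaf 0))) (.node (.node (.leaf 0) (.leaf 0)) (.node (.leaf 0) (.leaf 0))))) (.node (.node (.node (.node (.leaf 0) (.leaf 0)) (.node (.leaf 0) (.leaf 0))) (.node (.node (.leaf 0) (.leaf 0)) (.node (.leaf 0) (.leaf 0)))) (.node (.node (.node (.leaf 0) (.leaf 0)) (.node (.leaf 0) (.leaf 0))) (.node (.node (.leaf 0) (.leaf 0)) (.node (.leaf 0) (.leaf 0)))))) (.node (.node (.node (.node (.node (.leaf 0) (.leaf 0)) (.node (.leaf 0) (.leaf 0))) (.node (.node (.leaf 0) (.leaf 0)) (.node (.leaf 0) (.leaf 0)))) (.node (.node (.node (.leaf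 0) (.leaf 0)) (.node (.leaf 0) (.leaf 0))) (.node (.node (.leaf 0) (.leaf 0)) (.node (.leaf 0) (.leaf 0))))) (.node (.node (.node (.node (.leaf 0) (.leaf 0)) (.node (.leaf 0) (.leaf 0))) (.node (.node (.leaf 0) (.leaf 0)) (.node (.leaf 0) (.leaf 0)))) (.node (.node (.node (.leaf 0) (.leaf 0)) (.node (.leaf 0) (.leaf 0))) (.node (.node (.leaf 0) (.leaf 0)) (.node (.leaf 0) (.leaf 0)))))))

/-- A point of the block, part 676. -/
def ptCodePart676 : Janko1.Tree ℕ := (.node (.node (.node (.node (.node (.node (.leaf 0) (.leaf 0)) (.node (.leaf 0) (.leaf 0))) (.node (.node (.leaf 0) (.leaf 0)) (.node (.leaf 0) (.leaf 0)))) (.node (.node (.node (.leaf 0) (.leaf 0)) (.node (.leaf 0) (.leaf 0))) (.node (.node (.leaf 0) (.leaf 0)) (.node (.leaf 0) (.leaf 0))))) (.node (.node (.node (.node (.leaf 0) (.leaf 0)) (.node (.leaf 0) (.leaf 0))) (.node (.node (.leaf 0) (.leaf 0)) (.node (.leaf 0) (.leaf 0)))) (.node (.node (.node (.leaf 0) (.leaf 0)) (.node (.leaf 0) (.leaf 0))) (.node (.node (.leaf 0) (.leaf 0)) (.node (.leaf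 0) (.leaf 0)))))) (.node (.node (.node (.node (.node (.leaf 0) (.leaf 0)) (.node (.leaf 0) (.leaf 0))) (.node (.node (.leaf 0) (.leaf 0)) (.node (.leaf 0) (.leaf 0)))) (.node (.node (.node (.leaf 0) (.leaf 0)) (.node (.leaf 0) (.leaf 0))) (.node (.node (.leaf 0) (.leaf 0)) (.node (.leaf 0) (.leaf 0))))) (.node (.node (.node (.node (.leaf 0) (.leaf 0)) (.node (.leaf 0) (.leaf 0))) (.node (.node (.leaf 0) (.leaf 0)) (.node (.leaf 0) (.leaf 0)))) (.node (.node (.node (.leaf 0) (.leaf 0)) (.node (.leaf 0) (.leaf 0))) (.node (.node (.leaf 0) (.leaf 0)) (.node (.leaf 0) (.leaf 0)))))))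

/-- A point of the block, part 677. -/
def ptCodePart677 : Janko1.Tree ℕ := (.node (.node (.node (.node (.node (.node (.leaf 0) (.leaf 0)) (.node (.leaf 0) (.leaf 0))) (.node (.node (.leaf 0) (.leaf 0)) (.node (.leaf 0) (.leaf 0)))) (.node (.node (.node (.leaf 0) (.leaf 0)) (.node (.leaf 0) (.leaf 0))) (.node (.node (.leaf 0) (.leaf 0)) (.node (.leaf 0) (.leaf 0))))) (.node (.node (.node (.node (.leaf 0) (.leaf 0)) (.node (.leaf 0) (.leaf 0))) (.node (.node (.leaf 0) (.leaf 0)) (.node (.leaf 0) (.leaf 0)))) (.node (.node (.node (.leaf 0) (.leaf 0)) (.node (.leaf 0) (.leaf 0))) (.node (.node (.leaf 0) (.leaf 0)) (.node (.leaf 0) (.leaf 0)))))) (.node (.node (.node (.node (.node (.leaf 0) (.leaf 0)) (.node (.leaf 0) (.leaf 0))) (.node (.node (.leaf 0) (.leaf 0)) (.node (.leaf 0) (.leaf 0)))) (.node (.node (.node (.leaf 0) (.leaf 0)) (.node (.leaf 0) (.leaf 0))) (.node (.node (.leaf 0) (.leaf 0)) (.node (.leaf 0) (.leaf 0))))) (.node (.node (.node (.node (.leaf 0) (.leaf 0)) (.node (.leaf 0) (.leaf 0))) (.node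 (.node (.leaf 0) (.leaf 0)) (.node (.leaf 0) (.leaf 0)))) (.node (.node (.node (.leaf 0) (.leaf 0)) (.node (.leaf 0) (.leaf 0))) (.node (.node (.leaf 0) (.leaf 0)) (.node (.leaf 0) (.leaf 0)))))))

/-- A point of the block, part 678. -/
def ptCodePart678 : Janko1.Tree ℕ := (.node (.node (.node (.node (.node (.node (.leaf 0) (.leaf 0)) (.node (.leaf 0) (.leaf 0))) (.node (.node (.leaf 0) (.leaf 0)) (.node (.leaf 0) (.leaf 0)))) (.node (.node (.node (.leaf 0) (.leaf 0)) (.node (.leaf 0) (.leaf 0))) (.node (.node (.leaf 0) (.leaf 0)) (.node (.leaf 0) (.leaf 0))))) (.node (.node (.node (.node (.leaf 0) (.leaf 0)) (.node (.leaf 0) (.leaf 0))) (.node (.node (.leaf 0) (.leaf 0)) (.node (.leaf 0) (.leaf 0)))) (.node (.node (.node (.leaf 0) (.leaf 0)) (.node (.leaf 0) (.leaf 0))) (.node (.node (.leaf 0) (.leaf 0)) (.node (.leaf 0) (.leaf 0)))))) (.node (.node (.node (.node (.node (.leaf 0) (.leaf 0)) (.node (.leaf 0) (.leaf 0))) (.node (.node (.leaf 0) (.leaf 0)) (.node (.leaf 0) (.leaf 0)))) (.node (.node (.node (.leaf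 0) (.leaf 0)) (.node (.leaf 0) (.leaf 0))) (.node (.node (.leaf 0) (.leaf 0)) (.node (.leaf 0) (.leaf 0))))) (.node (.node (.node (.node (.leaf 0) (.leaf 0)) (.node (.leaf 0) (.leaf 0))) (.node (.node (.leaf 0) (.leaf 0)) (.node (.leaf 0) (.leaf 0)))) (.node (.node (.node (.leaf 0) (.leaf 0)) (.node (.leaf 0) (.leaf 0))) (.node (.node (.leaf 0) (.leaf 0)) (.node (.leaf 0) (.leaf 0)))))))

/-- A point of the block, part 679. -/
def ptCodePart679 : Janko1.Tree ℕ := (.node (.node (.node (.node (.node (.node (.leaf 0) (.leaf 0)) (.node (.leaf 0) (.leaf 0))) (.node (.node (.leaf 0) (.leaf 0)) (.node (.leaf 0) (.leaf 0)))) (.node (.node (.node (.leaf 0) (.leaf 0)) (.node (.leaf 0) (.leaf 0))) (.node (.node (.leaf 0) (.leaf 0)) (.node (.leaf 0) (.leaf 0))))) (.node (.node (.node (.node (.leaf 0) (.leaf 0)) (.node (.leaf 0) (.leaf 0))) (.node (.node (.leaf 0) (.leaf 0)) (.node (.leaf 0) (.leaf 0)))) (.node (.node (.node (.leaf 0) (.leaf 0)) (.node (.leaf 0) (.leaf 0))) (.node (.node (.leaf 0) (.leaf 0)) (.node (.leaf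 0) (.leaf 0)))))) (.node (.node (.node (.node (.node (.leaf 0) (.leaf 0)) (.node (.leaf 0) (.leaf 0))) (.node (.node (.leaf 0) (.leaf 0)) (.node (.leaf 0) (.leaf 0)))) (.node (.node (.node (.leaf 0) (.leaf 0)) (.node (.leaf 0) (.leaf 0))) (.node (.node (.leaf 0) (.leaf 0)) (.node (.leaf 0) (.leaf 0))))) (.node (.node (.node (.node (.leaf 0) (.leaf 0)) (.node (.leaf 0) (.leaf 0))) (.node (.node (.leaf 0) (.leaf 0)) (.node (.leaf 0) (.leaf 0)))) (.node (.node (.node (.leaf 0) (.leaf 0)) (.node (.leaf 0) (.leaf 0))) (.node (.node (.leaf 0) (.leaf 0)) (.node (.leaf 0) (.leaf 0)))))))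

/-- A point of the block, part 680. -/
def ptCodePart680 : Janko1.Tree ℕ := (.node (.node (.node (.node (.node (.node (.leaf 0) (.leaf 0)) (.node (.leaf 0) (.leaf 0))) (.node (.node (.leaf 0) (.leaf 0)) (.node (.leaf 0) (.leaf 0)))) (.node (.node (.node (.leaf 0) (.leaf 0)) (.node (.leaf 0) (.leaf 0))) (.node (.node (.leaf 0) (.leaf 0)) (.node (.leaf 0) (.leaf 0))))) (.node (.node (.node (.node (.leaf 0) (.leaf 0)) (.node (.leaf 0) (.leaf 0))) (.node (.node (.leaf 0) (.leaf 0)) (.node (.leaf 0) (.leaf 0)))) (.node (.node (.node (.leaf 0) (.leaf 0)) (.node (.leaf 0) (.leaf 0))) (.node (.node (.leaf 0) (.leaf 0)) (.node (.leaf 0) (.leaf 0)))))) (.node (.node (.node (.node (.node (.leaf 0) (.leaf 0)) (.node (.leaf 0) (.leaf 0))) (.node (.node (.leaf 0) (.leaf 0)) (.node (.leaf 0) (.leaf 0)))) (.node (.node (.node (.leaf 0) (.leaf 0)) (.node (.leaf 0) (.leaf 0))) (.node (.node (.leaf 0) (.leaf 0)) (.node (.leaf 0) (.leaf 0))))) (.node (.node (.node (.node (.leaf 0) (.leaf 0)) (.node (.leaf 0) (.leaf 0))) (.node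 (.node (.leaf 0) (.leaf 0)) (.node (.leaf 0) (.leaf 0)))) (.node (.node (.node (.leaf 0) (.leaf 0)) (.node (.leaf 0) (.leaf 0))) (.node (.node (.leaf 0) (.leaf 0)) (.node (.leaf 0) (.leaf 0)))))))

/-- A point of the block, part 681. -/
def ptCodePart681 : Janko1.Tree ℕ := (.node (.node (.node (.node (.node (.node (.leaf 0) (.leaf 0)) (.node (.leaf 0) (.leaf 0))) (.node (.node (.leaf 0) (.leaf 0)) (.node (.leaf 0) (.leaf 0)))) (.node (.node (.node (.leaf 0) (.leaf 0)) (.node (.leaf 0) (.leaf 0))) (.node (.node (.leaf 0) (.leaf 0)) (.node (.leaf 0) (.leaf 0))))) (.node (.node (.node (.node (.leaf 0) (.leaf 0)) (.node (.leaf 0) (.leaf 0))) (.node (.node (.leaf 0) (.leaf 0)) (.node (.leaf 0) (.leaf 0)))) (.node (.node (.node (.leaf 0) (.leaf 0)) (.node (.leaf 0) (.leaf 0))) (.node (.node (.leaf 0) (.leaf 0)) (.node (.leaf 0) (.leaf 0)))))) (.node (.node (.node (.node (.node (.leaf 0) (.leaf 0)) (.node (.leaf 0) (.leaf 0))) (.node (.node (.leaf 0) (.leaf 0)) (.node (.leaf 0) (.leaf 0)))) (.node (.node (.node (.leaf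 0) (.leaf 0)) (.node (.leaf 0) (.leaf 0))) (.node (.node (.leaf 0) (.leaf 0)) (.node (.leaf 0) (.leaf 0))))) (.node (.node (.node (.node (.leaf 0) (.leaf 0)) (.node (.leaf 0) (.leaf 0))) (.node (.node (.leaf 0) (.leaf 0)) (.node (.leaf 0) (.leaf 0)))) (.node (.node (.node (.leaf 0) (.leaf 0)) (.node (.leaf 0) (.leaf 0))) (.node (.node (.leaf 0) (.leaf 0)) (.node (.leaf 0) (.leaf 0)))))))

/-- A point of the block, part 682. -/
def ptCodePart682 : Janko1.Tree ℕ := (.node (.node (.node (.node (.node (.node (.leaf 0) (.leaf 0)) (.node (.leaf 0) (.leaf 0))) (.node (.node (.leaf 0) (.leaf 0)) (.node (.leaf 0) (.leaf 0)))) (.node (.node (.node (.leaf 0) (.leaf 0)) (.node (.leaf 0) (.leaf 0))) (.node (.node (.leaf 0) (.leaf 0)) (.node (.leaf 0) (.leaf 0))))) (.node (.node (.node (.node (.leaf 0) (.leaf 0)) (.node (.leaf 0) (.leaf 0))) (.node (.node (.leaf 0) (.leaf 0)) (.node (.leaf 0) (.leaf 0)))) (.node (.node (.node (.leaf 0) (.leaf 0)) (.node (.leaf 0) (.leaf 0))) (.node (.node (.leaf 0) (.leaf 0)) (.node (.leaf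 0) (.leaf 0)))))) (.node (.node (.node (.node (.node (.leaf 0) (.leaf 0)) (.node (.leaf 0) (.leaf 0))) (.node (.node (.leaf 0) (.leaf 0)) (.node (.leaf 0) (.leaf 0)))) (.node (.node (.node (.leaf 0) (.leaf 0)) (.node (.leaf 0) (.leaf 0))) (.node (.node (.leaf 0) (.leaf 0)) (.node (.leaf 0) (.leaf 0))))) (.node (.node (.node (.node (.leaf 0) (.leaf 0)) (.node (.leaf 0) (.leaf 0))) (.node (.node (.leaf 0) (.leaf 0)) (.node (.leaf 0) (.leaf 0)))) (.node (.node (.node (.leaf 0) (.leaf 0)) (.node (.leaf 0) (.leaf 0))) (.node (.node (.leaf 0) (.leaf 0)) (.node (.leaf 0) (.leaf 0)))))))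

/-- A point of the block, part 683. -/
def ptCodePart683 : Janko1.Tree ℕ := (.node (.node (.node (.node (.node (.node (.leaf 0) (.leaf 0)) (.node (.leaf 0) (.leaf 0))) (.node (.node (.leaf 0) (.leaf 0)) (.node (.leaf 0) (.leaf 0)))) (.node (.node (.node (.leaf 0) (.leaf 0)) (.node (.leaf 0) (.leaf 0))) (.node (.node (.leaf 0) (.leaf 0)) (.node (.leaf 0) (.leaf 0))))) (.node (.node (.node (.node (.leaf 0) (.leaf 0)) (.node (.leaf 0) (.leaf 0))) (.node (.node (.leaf 0) (.leaf 0)) (.node (.leaf 0) (.leaf 0)))) (.node (.node (.node (.leaf 0) (.leaf 0)) (.node (.leaf 0) (.leaf 0))) (.node (.node (.leaf 0) (.leaf 0)) (.node (.leaf 0) (.leaf 0)))))) (.node (.node (.node (.node (.node (.leaf 0) (.leaf 0)) (.node (.leaf 0) (.leaf 0))) (.node (.node (.leaf 0) (.leaf 0)) (.node (.leaf 0) (.leaf 0)))) (.node (.node (.node (.leaf 0) (.leaf 0)) (.node (.leaf 0) (.leaf 0))) (.node (.node (.leaf 0) (.leaf 0)) (.node (.leaf 0) (.leaf 0))))) (.node (.node (.node (.node (.leaf 0) (.leaf 0)) (.node (.leaf 0) (.leaf 0))) (.node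 (.node (.leaf 0) (.leaf 0)) (.node (.leaf 0) (.leaf 0)))) (.node (.node (.node (.leaf 0) (.leaf 0)) (.node (.leaf 0) (.leaf 0))) (.node (.node (.leaf 0) (.leaf 0)) (.node (.leaf 0) (.leaf 0)))))))

/-- A point of the block, part 684. -/
def ptCodePart684 : Janko1.Tree ℕ := (.node (.node (.node (.node (.node (.node (.leaf 0) (.leaf 0)) (.node (.leaf 0) (.leaf 0))) (.node (.node (.leaf 0) (.leaf 0)) (.node (.leaf 0) (.leaf 0)))) (.node (.node (.node (.leaf 0) (.leaf 0)) (.node (.leaf 0) (.leaf 0))) (.node (.node (.leaf 0) (.leaf 0)) (.node (.leaf 0) (.leaf 0))))) (.node (.node (.node (.node (.leaf 0) (.leaf 0)) (.node (.leaf 0) (.leaf 0))) (.node (.node (.leaf 0) (.leaf 0)) (.node (.leaf 0) (.leaf 0)))) (.node (.node (.node (.leaf 0) (.leaf 0)) (.node (.leaf 0) (.leaf 0))) (.node (.node (.leaf 0) (.leaf 0)) (.node (.leaf 0) (.leaf 0)))))) (.node (.node (.node (.node (.node (.leaf 0) (.leaf 0)) (.node (.leaf 0) (.leaf 0))) (.node (.node (.leaf 0) (.leaf 0)) (.node (.leaf 0) (.leaf 0)))) (.node (.node (.node (.leaf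 0) (.leaf 0)) (.node (.leaf 0) (.leaf 0))) (.node (.node (.leaf 0) (.leaf 0)) (.node (.leaf 0) (.leaf 0))))) (.node (.node (.node (.node (.leaf 0) (.leaf 0)) (.node (.leaf 0) (.leaf 0))) (.node (.node (.leaf 0) (.leaf 0)) (.node (.leaf 0) (.leaf 0)))) (.node (.node (.node (.leaf 0) (.leaf 0)) (.node (.leaf 0) (.leaf 0))) (.node (.node (.leaf 0) (.leaf 0)) (.node (.leaf 0) (.leaf 0)))))))

/-- A point of the block, part 685. -/
def ptCodePart685 : Janko1.Tree ℕ := (.node (.node (.node (.node (.node (.node (.leaf 0) (.leaf 0)) (.node (.leaf 0) (.leaf 0))) (.node (.node (.leaf 0) (.leaf 0)) (.node (.leaf 0) (.leaf 0)))) (.node (.node (.node (.leaf 0) (.leaf 0)) (.node (.leaf 0) (.leaf 0))) (.node (.node (.leaf 0) (.leaf 0)) (.node (.leaf 0) (.leaf 0))))) (.node (.node (.node (.node (.leaf 0) (.leaf 0)) (.node (.leaf 0) (.leaf 0))) (.node (.node (.leaf 0) (.leaf 0)) (.node (.leaf 0) (.leaf 0)))) (.node (.node (.node (.leaf 0) (.leaf 0)) (.node (.leaf 0) (.leaf 0))) (.node (.node (.leaf 0) (.leaf 0)) (.node (.leaf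 0) (.leaf 0)))))) (.node (.node (.node (.node (.node (.leaf 0) (.leaf 0)) (.node (.leaf 0) (.leaf 0))) (.node (.node (.leaf 0) (.leaf 0)) (.node (.leaf 0) (.leaf 0)))) (.node (.node (.node (.leaf 0) (.leaf 0)) (.node (.leaf 0) (.leaf 0))) (.node (.node (.leaf 0) (.leaf 0)) (.node (.leaf 0) (.leaf 0))))) (.node (.node (.node (.node (.leaf 0) (.leaf 0)) (.node (.leaf 0) (.leaf 0))) (.node (.node (.leaf 0) (.leaf 0)) (.node (.leaf 0) (.leaf 0)))) (.node (.node (.node (.leaf 0) (.leaf 0)) (.node (.leaf 0) (.leaf 0))) (.node (.node (.leaf 0) (.leaf 0)) (.node (.leaf 0) (.leaf 0)))))))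

/-- A point of the block, part 686. -/
def ptCodePart686 : Janko1.Tree ℕ := (.node (.node (.node (.node (.node (.node (.leaf 0) (.leaf 0)) (.node (.leaf 0) (.leaf 0))) (.node (.node (.leaf 0) (.leaf 0)) (.node (.leaf 0) (.leaf 0)))) (.node (.node (.node (.leaf 0) (.leaf 0)) (.node (.leaf 0) (.leaf 0))) (.node (.node (.leaf 0) (.leaf 0)) (.node (.leaf 0) (.leaf 0))))) (.node (.node (.node (.node (.leaf 0) (.leaf 0)) (.node (.leaf 0) (.leaf 0))) (.node (.node (.leaf 0) (.leaf 0)) (.node (.leaf 0) (.leaf 0)))) (.node (.node (.node (.leaf 0) (.leaf 0)) (.node (.leaf 0) (.leaf 0))) (.node (.node (.leaf 0) (.leaf 0)) (.node (.leaf 0) (.leaf 0)))))) (.node (.node (.node (.node (.node (.leaf 0) (.leaf 0)) (.node (.leaf 0) (.leaf 0))) (.node (.node (.leaf 0) (.leaf 0)) (.node (.leaf 0) (.leaf 0)))) (.node (.node (.node (.leaf 0) (.leaf 0)) (.node (.leaf 0) (.leaf 0))) (.node (.node (.leaf 0) (.leaf 0)) (.node (.leaf 0) (.leaf 0))))) (.node (.node (.node (.node (.leaf 0) (.leaf 0)) (.node (.leaf 0) (.leaf 0))) (.node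 (.node (.leaf 0) (.leaf 0)) (.node (.leaf 0) (.leaf 0)))) (.node (.node (.node (.leaf 0) (.leaf 0)) (.node (.leaf 0) (.leaf 0))) (.node (.node (.leaf 0) (.leaf 0)) (.node (.leaf 0) (.leaf 0)))))))

/-- A point of the block, part 687. -/
def ptCodePart687 : Janko1.Tree ℕ := (.node (.node (.node (.node (.node (.node (.leaf 0) (.leaf 0)) (.node (.leaf 0) (.leaf 0))) (.node (.node (.leaf 0) (.leaf 0)) (.node (.leaf 0) (.leaf 0)))) (.node (.node (.node (.leaf 0) (.leaf 0)) (.node (.leaf 0) (.leaf 0))) (.node (.node (.leaf 0) (.leaf 0)) (.node (.leaf 0) (.leaf 0))))) (.node (.node (.node (.node (.leaf 0) (.leaf 0)) (.node (.leaf 0) (.leaf 0))) (.node (.node (.leaf 0) (.leaf 0)) (.node (.leaf 0) (.leaf 0)))) (.node (.node (.node (.leaf 0) (.leaf 0)) (.node (.leaf 0) (.leaf 0))) (.node (.node (.leaf 0) (.leaf 0)) (.node (.leaf 0) (.leaf 0)))))) (.node (.node (.node (.node (.node (.leaf 0) (.leaf 0)) (.node (.leaf 0) (.leaf 0))) (.node (.node (.leaf 0) (.leaf 0)) (.node (.leaf 0) (.leaf 0)))) (.node (.node (.node (.leaf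 0) (.leaf 0)) (.node (.leaf 0) (.leaf 0))) (.node (.node (.leaf 0) (.leaf 0)) (.node (.leaf 0) (.leaf 0))))) (.node (.node (.node (.node (.leaf 0) (.leaf 0)) (.node (.leaf 0) (.leaf 0))) (.node (.node (.leaf 0) (.leaf 0)) (.node (.leaf 0) (.leaf 0)))) (.node (.node (.node (.leaf 0) (.leaf 0)) (.node (.leaf 0) (.leaf 0))) (.node (.node (.leaf 0) (.leaf 0)) (.node (.leaf 0) (.leaf 0)))))))

/-- A point of the block, part 688. -/
def ptCodePart688 : Janko1.Tree ℕ := (.node (.node (.node (.node (.node (.node (.leaf 0) (.leaf 0)) (.node (.leaf 0) (.leaf 0))) (.node (.node (.leaf 0) (.leaf 0)) (.node (.leaf 0) (.leaf 0)))) (.node (.node (.node (.leaf 0) (.leaf 0)) (.node (.leaf 0) (.leaf 0))) (.node (.node (.leaf 0) (.leaf 0)) (.node (.leaf 0) (.leaf 0))))) (.node (.node (.node (.node (.leaf 0) (.leaf 0)) (.node (.leaf 0) (.leaf 0))) (.node (.node (.leaf 0) (.leaf 0)) (.node (.leaf 0) (.leaf 0)))) (.node (.node (.node (.leaf 0) (.leaf 0)) (.node (.leaf 0) (.leaf 0))) (.node (.node (.leaf 0) (.leaf 0)) (.node (.leaf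 0) (.leaf 0)))))) (.node (.node (.node (.node (.node (.leaf 0) (.leaf 0)) (.node (.leaf 0) (.leaf 0))) (.node (.node (.leaf 0) (.leaf 0)) (.node (.leaf 0) (.leaf 0)))) (.node (.node (.node (.leaf 0) (.leaf 0)) (.node (.leaf 0) (.leaf 0))) (.node (.node (.leaf 0) (.leaf 0)) (.node (.leaf 0) (.leaf 0))))) (.node (.node (.node (.node (.leaf 0) (.leaf 0)) (.node (.leaf 0) (.leaf 0))) (.node (.node (.leaf 0) (.leaf 0)) (.node (.leaf 0) (.leaf 0)))) (.node (.node (.node (.leaf 0) (.leaf 0)) (.node (.leaf 0) (.leaf 0))) (.node (.node (.leaf 0) (.leaf 0)) (.node (.leaf 0) (.leaf 0)))))))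

/-- A point of the block, part 689. -/
def ptCodePart689 : Janko1.Tree ℕ := (.node (.node (.node (.node (.node (.node (.leaf 0) (.leaf 0)) (.node (.leaf 0) (.leaf 0))) (.node (.node (.leaf 0) (.leaf 0)) (.node (.leaf 0) (.leaf 0)))) (.node (.node (.node (.leaf 0) (.leaf 0)) (.node (.leaf 0) (.leaf 0))) (.node (.node (.leaf 0) (.leaf 0)) (.node (.leaf 0) (.leaf 0))))) (.node (.node (.node (.node (.leaf 0) (.leaf 0)) (.node (.leaf 0) (.leaf 0))) (.node (.node (.leaf 0) (.leaf 0)) (.node (.leaf 0) (.leaf 0)))) (.node (.node (.node (.leaf 0) (.leaf 0)) (.node (.leaf 0) (.leaf 0))) (.node (.node (.leaf 0) (.leaf 0)) (.node (.leaf 0) (.leaf 0)))))) (.node (.node (.node (.node (.node (.leaf 0) (.leaf 0)) (.node (.leaf 0) (.leaf 0))) (.node (.node (.leaf 0) (.leaf 0)) (.node (.leaf 0) (.leaf 0)))) (.node (.node (.node (.leaf 0) (.leaf 0)) (.node (.leaf 0) (.leaf 0))) (.node (.node (.leaf 0) (.leaf 0)) (.node (.leaf 0) (.leaf 0))))) (.node (.node (.node (.node (.leaf 0) (.leaf 0)) (.node (.leaf 0) (.leaf 0))) (.node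 (.node (.leaf 0) (.leaf 0)) (.node (.leaf 0) (.leaf 0)))) (.node (.node (.node (.leaf 0) (.leaf 0)) (.node (.leaf 0) (.leaf 0))) (.node (.node (.leaf 0) (.leaf 0)) (.node (.leaf 0) (.leaf 0)))))))

/-- A point of the block, part 690. -/
def ptCodePart690 : Janko1.Tree ℕ := (.node (.node (.node (.node (.node (.node (.leaf 0) (.leaf 0)) (.node (.leaf 0) (.leaf 0))) (.node (.node (.leaf 0) (.leaf 0)) (.node (.leaf 0) (.leaf 0)))) (.node (.node (.node (.leaf 0) (.leaf 0)) (.node (.leaf 0) (.leaf 0))) (.node (.node (.leaf 0) (.leaf 0)) (.node (.leaf 0) (.leaf 0))))) (.node (.node (.node (.node (.leaf 0) (.leaf 0)) (.node (.leaf 0) (.leaf 0))) (.node (.node (.leaf 0) (.leaf 0)) (.node (.leaf 0) (.leaf 0)))) (.node (.node (.node (.leaf 0) (.leaf 0)) (.node (.leaf 0) (.leaf 0))) (.node (.node (.leaf 0) (.leaf 0)) (.node (.leaf 0) (.leaf 0)))))) (.node (.node (.node (.node (.node (.leaf 0) (.leaf 0)) (.node (.leaf 0) (.leaf 0))) (.node (.node (.leaf 0) (.leaf 0)) (.node (.leaf 0) (.leaf 0)))) (.node (.node (.node (.leaf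 0) (.leaf 0)) (.node (.leaf 0) (.leaf 0))) (.node (.node (.leaf 0) (.leaf 0)) (.node (.leaf 0) (.leaf 0))))) (.node (.node (.node (.node (.leaf 0) (.leaf 0)) (.node (.leaf 0) (.leaf 0))) (.node (.node (.leaf 0) (.leaf 0)) (.node (.leaf 0) (.leaf 0)))) (.node (.node (.node (.leaf 0) (.leaf 0)) (.node (.leaf 0) (.leaf 0))) (.node (.node (.leaf 0) (.leaf 0)) (.node (.leaf 0) (.leaf 0)))))))

/-- A point of the block, part 691. -/
def ptCodePart691 : Janko1.Tree ℕ := (.node (.node (.node (.node (.node (.node (.leaf 0) (.leaf 0)) (.node (.leaf 0) (.leaf 0))) (.node (.node (.leaf 0) (.leaf 0)) (.node (.leaf 0) (.leaf 0)))) (.node (.node (.node (.leaf 0) (.leaf 0)) (.node (.leaf 0) (.leaf 0))) (.node (.node (.leaf 0) (.leaf 0)) (.node (.leaf 0) (.leaf 0))))) (.node (.node (.node (.node (.leaf 0) (.leaf 0)) (.node (.leaf 0) (.leaf 0))) (.node (.node (.leaf 0) (.leaf 0)) (.node (.leaf 0) (.leaf 0)))) (.node (.node (.node (.leaf 0) (.leaf 0)) (.node (.leaf 0) (.leaf 0))) (.node (.node (.leaf 0) (.leaf 0)) (.node (.leaf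 0) (.leaf 0)))))) (.node (.node (.node (.node (.node (.leaf 0) (.leaf 0)) (.node (.leaf 0) (.leaf 0))) (.node (.node (.leaf 0) (.leaf 0)) (.node (.leaf 0) (.leaf 0)))) (.node (.node (.node (.leaf 0) (.leaf 0)) (.node (.leaf 0) (.leaf 0))) (.node (.node (.leaf 0) (.leaf 0)) (.node (.leaf 0) (.leaf 0))))) (.node (.node (.node (.node (.leaf 0) (.leaf 0)) (.node (.leaf 0) (.leaf 0))) (.node (.node (.leaf 0) (.leaf 0)) (.node (.leaf 0) (.leaf 0)))) (.node (.node (.node (.leaf 0) (.leaf 0)) (.node (.leaf 0) (.leaf 0))) (.node (.node (.leaf 0) (.leaf 0)) (.node (.leaf 0) (.leaf 0)))))))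

/-- A point of the block, part 692. -/
def ptCodePart692 : Janko1.Tree ℕ := (.node (.node (.node (.node (.node (.node (.leaf 0) (.leaf 0)) (.node (.leaf 0) (.leaf 0))) (.node (.node (.leaf 0) (.leaf 0)) (.node (.leaf 0) (.leaf 0)))) (.node (.node (.node (.leaf 0) (.leaf 0)) (.node (.leaf 0) (.leaf 0))) (.node (.node (.leaf 0) (.leaf 0)) (.node (.leaf 0) (.leaf 0))))) (.node (.node (.node (.node (.leaf 0) (.leaf 0)) (.node (.leaf 0) (.leaf 0))) (.node (.node (.leaf 0) (.leaf 0)) (.node (.leaf 0) (.leaf 0)))) (.node (.node (.node (.leaf 0) (.leaf 0)) (.node (.leaf 0) (.leaf 0))) (.node (.node (.leaf 0) (.leaf 0)) (.node (.leaf 0) (.leaf 0)))))) (.node (.node (.node (.node (.node (.leaf 0) (.leaf 0)) (.node (.leaf 0) (.leaf 0))) (.node (.node (.leaf 0) (.leaf 0)) (.node (.leaf 0) (.leaf 0)))) (.node (.node (.node (.leaf 0) (.leaf 0)) (.node (.leaf 0) (.leaf 0))) (.node (.node (.leaf 0) (.leaf 0)) (.node (.leaf 0) (.leaf 0))))) (.node (.node (.node (.node (.leaf 0) (.leaf 0)) (.node (.leaf 0) (.leaf 0))) (.node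 (.node (.leaf 0) (.leaf 0)) (.node (.leaf 0) (.leaf 0)))) (.node (.node (.node (.leaf 0) (.leaf 0)) (.node (.leaf 0) (.leaf 0))) (.node (.node (.leaf 0) (.leaf 0)) (.node (.leaf 0) (.leaf 0)))))))

/-- A point of the block, part 693. -/
def ptCodePart693 : Janko1.Tree ℕ := (.node (.node (.node (.node (.node (.node (.leaf 0) (.leaf 0)) (.node (.leaf 0) (.leaf 0))) (.node (.node (.leaf 0) (.leaf 0)) (.node (.leaf 0) (.leaf 0)))) (.node (.node (.node (.leaf 0) (.leaf 0)) (.node (.leaf 0) (.leaf 0))) (.node (.node (.leaf 0) (.leaf 0)) (.node (.leaf 0) (.leaf 0))))) (.node (.node (.node (.node (.leaf 0) (.leaf 0)) (.node (.leaf 0) (.leaf 0))) (.node (.node (.leaf 0) (.leaf 0)) (.node (.leaf 0) (.leaf 0)))) (.node (.node (.node (.leaf 0) (.leaf 0)) (.node (.leaf 0) (.leaf 0))) (.node (.node (.leaf 0) (.leaf 0)) (.node (.leaf 0) (.leaf 0)))))) (.node (.node (.node (.node (.node (.leaf 0) (.leaf 0)) (.node (.leaf 0) (.leaf 0))) (.node (.node (.leaf 0) (.leaf 0)) (.node (.leaf 0) (.leaf 0)))) (.node (.node (.node (.leaf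 0) (.leaf 0)) (.node (.leaf 0) (.leaf 0))) (.node (.node (.leaf 0) (.leaf 0)) (.node (.leaf 0) (.leaf 0))))) (.node (.node (.node (.node (.leaf 0) (.leaf 0)) (.node (.leaf 0) (.leaf 0))) (.node (.node (.leaf 0) (.leaf 0)) (.node (.leaf 0) (.leaf 0)))) (.node (.node (.node (.leaf 0) (.leaf 0)) (.node (.leaf 0) (.leaf 0))) (.node (.node (.leaf 0) (.leaf 0)) (.node (.leaf 0) (.leaf 0)))))))

/-- A point of the block, part 694. -/
def ptCodePart694 : Janko1.Tree ℕ := (.node (.node (.node (.node (.node (.node (.leaf 0) (.leaf 0)) (.node (.leaf 0) (.leaf 0))) (.node (.node (.leaf 0) (.leaf 0)) (.node (.leaf 0) (.leaf 0)))) (.node (.node (.node (.leaf 0) (.leaf 0)) (.node (.leaf 0) (.leaf 0))) (.node (.node (.leaf 0) (.leaf 0)) (.node (.leaf 0) (.leaf 0))))) (.node (.node (.node (.node (.leaf 0) (.leaf 0)) (.node (.leaf 0) (.leaf 0))) (.node (.node (.leaf 0) (.leaf 0)) (.node (.leaf 0) (.leaf 0)))) (.node (.node (.node (.leaf 0) (.leaf 0)) (.node (.leaf 0) (.leaf 0))) (.node (.node (.leaf 0) (.leaf 0)) (.node (.leaf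 0) (.leaf 0)))))) (.node (.node (.node (.node (.node (.leaf 0) (.leaf 0)) (.node (.leaf 0) (.leaf 0))) (.node (.node (.leaf 0) (.leaf 0)) (.node (.leaf 0) (.leaf 0)))) (.node (.node (.node (.leaf 0) (.leaf 0)) (.node (.leaf 0) (.leaf 0))) (.node (.node (.leaf 0) (.leaf 0)) (.node (.leaf 0) (.leaf 0))))) (.node (.node (.node (.node (.leaf 0) (.leaf 0)) (.node (.leaf 0) (.leaf 0))) (.node (.node (.leaf 0) (.leaf 0)) (.node (.leaf 0) (.leaf 0)))) (.node (.node (.node (.leaf 0) (.leaf 0)) (.node (.leaf 0) (.leaf 0))) (.node (.node (.leaf 0) (.leaf 0)) (.node (.leaf 0) (.leaf 0)))))))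

/-- A point of the block, part 695. -/
def ptCodePart695 : Janko1.Tree ℕ := (.node (.node (.node (.node (.node (.node (.leaf 0) (.leaf 0)) (.node (.leaf 0) (.leaf 0))) (.node (.node (.leaf 0) (.leaf 0)) (.node (.leaf 0) (.leaf 0)))) (.node (.node (.node (.leaf 0) (.leaf 0)) (.node (.leaf 0) (.leaf 0))) (.node (.node (.leaf 0) (.leaf 0)) (.node (.leaf 0) (.leaf 0))))) (.node (.node (.node (.node (.leaf 0) (.leaf 0)) (.node (.leaf 0) (.leaf 0))) (.node (.node (.leaf 0) (.leaf 0)) (.node (.leaf 0) (.leaf 0)))) (.node (.node (.node (.leaf 0) (.leaf 0)) (.node (.leaf 0) (.leaf 0))) (.node (.node (.leaf 0) (.leaf 0)) (.node (.leaf 0) (.leaf 0)))))) (.node (.node (.node (.node (.node (.leaf 0) (.leaf 0)) (.node (.leaf 0) (.leaf 0))) (.node (.node (.leaf 0) (.leaf 0)) (.node (.leaf 0) (.leaf 0)))) (.node (.node (.node (.leaf 0) (.leaf 0)) (.node (.leaf 0) (.leaf 0))) (.node (.node (.leaf 0) (.leaf 0)) (.node (.leaf 0) (.leaf 0))))) (.node (.node (.node (.node (.leaf 0) (.leaf 0)) (.node (.leaf 0) (.leaf 0))) (.node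 (.node (.leaf 0) (.leaf 0)) (.node (.leaf 0) (.leaf 0)))) (.node (.node (.node (.leaf 0) (.leaf 0)) (.node (.leaf 0) (.leaf 0))) (.node (.node (.leaf 0) (.leaf 0)) (.node (.leaf 0) (.leaf 0)))))))

/-- A point of the block, part 696. -/
def ptCodePart696 : Janko1.Tree ℕ := (.node (.node (.node (.node (.node (.node (.leaf 0) (.leaf 0)) (.node (.leaf 0) (.leaf 0))) (.node (.node (.leaf 0) (.leaf 0)) (.node (.leaf 0) (.leaf 0)))) (.node (.node (.node (.leaf 0) (.leaf 0)) (.node (.leaf 0) (.leaf 0))) (.node (.node (.leaf 0) (.leaf 0)) (.node (.leaf 0) (.leaf 0))))) (.node (.node (.node (.node (.leaf 0) (.leaf 0)) (.node (.leaf 0) (.leaf 0))) (.node (.node (.leaf 0) (.leaf 0)) (.node (.leaf 0) (.leaf 0)))) (.node (.node (.node (.leaf 0) (.leaf 0)) (.node (.leaf 0) (.leaf 0))) (.node (.node (.leaf 0) (.leaf 0)) (.node (.leaf 0) (.leaf 0)))))) (.node (.node (.node (.node (.node (.leaf 0) (.leaf 0)) (.node (.leaf 0) (.leaf 0))) (.node (.node (.leaf 0) (.leaf 0)) (.node (.leaf 0) (.leaf 0)))) (.node (.node (.node (.leaf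 0) (.leaf 0)) (.node (.leaf 0) (.leaf 0))) (.node (.node (.leaf 0) (.leaf 0)) (.node (.leaf 0) (.leaf 0))))) (.node (.node (.node (.node (.leaf 0) (.leaf 0)) (.node (.leaf 0) (.leaf 0))) (.node (.node (.leaf 0) (.leaf 0)) (.node (.leaf 0) (.leaf 0)))) (.node (.node (.node (.leaf 0) (.leaf 0)) (.node (.leaf 0) (.leaf 0))) (.node (.node (.leaf 0) (.leaf 0)) (.node (.leaf 0) (.leaf 0)))))))

/-- A point of the block, part 697. -/
def ptCodePart697 : Janko1.Tree ℕ := (.node (.node (.node (.node (.node (.node (.leaf 0) (.leaf 0)) (.node (.leaf 0) (.leaf 0))) (.node (.node (.leaf 0) (.leaf 0)) (.node (.leaf 0) (.leaf 0)))) (.node (.node (.node (.leaf 0) (.leaf 0)) (.node (.leaf 0) (.leaf 0))) (.node (.node (.leaf 0) (.leaf 0)) (.node (.leaf 0) (.leaf 0))))) (.node (.node (.node (.node (.leaf 0) (.leaf 0)) (.node (.leaf 0) (.leaf 0))) (.node (.node (.leaf 0) (.leaf 0)) (.node (.leaf 0) (.leaf 0)))) (.node (.node (.node (.leaf 0) (.leaf 0)) (.node (.leaf 0) (.leaf 0))) (.node (.node (.leaf 0) (.leaf 0)) (.node (.leaf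 0) (.leaf 0)))))) (.node (.node (.node (.node (.node (.leaf 0) (.leaf 0)) (.node (.leaf 0) (.leaf 0))) (.node (.node (.leaf 0) (.leaf 0)) (.node (.leaf 0) (.leaf 0)))) (.node (.node (.node (.leaf 0) (.leaf 0)) (.node (.leaf 0) (.leaf 0))) (.node (.node (.leaf 0) (.leaf 0)) (.node (.leaf 0) (.leaf 0))))) (.node (.node (.node (.node (.leaf 0) (.leaf 0)) (.node (.leaf 0) (.leaf 0))) (.node (.node (.leaf 0) (.leaf 0)) (.node (.leaf 0) (.leaf 0)))) (.node (.node (.node (.leaf 0) (.leaf 0)) (.node (.leaf 0) (.leaf 0))) (.node (.node (.leaf 0) (.leaf 0)) (.node (.leaf 0) (.leaf 0)))))))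

/-- A point of the block, part 698. -/
def ptCodePart698 : Janko1.Tree ℕ := (.node (.node (.node (.node (.node (.node (.leaf 0) (.leaf 0)) (.node (.leaf 0) (.leaf 0))) (.node (.node (.leaf 0) (.leaf 0)) (.node (.leaf 0) (.leaf 0)))) (.node (.node (.node (.leaf 0) (.leaf 0)) (.node (.leaf 0) (.leaf 0))) (.node (.node (.leaf 0) (.leaf 0)) (.node (.leaf 0) (.leaf 0))))) (.node (.node (.node (.node (.leaf 0) (.leaf 0)) (.node (.leaf 0) (.leaf 0))) (.node (.node (.leaf 0) (.leaf 0)) (.node (.leaf 0) (.leaf 0)))) (.node (.node (.node (.leaf 0) (.leaf 0)) (.node (.leaf 0) (.leaf 0))) (.node (.node (.leaf 0) (.leaf 0)) (.node (.leaf 0) (.leaf 0)))))) (.node (.node (.node (.node (.node (.leaf 0) (.leaf 0)) (.node (.leaf 0) (.leaf 0))) (.node (.node (.leaf 0) (.leaf 0)) (.node (.leaf 0) (.leaf 0)))) (.node (.node (.node (.leaf 0) (.leaf 0)) (.node (.leaf 0) (.leaf 0))) (.node (.node (.leaf 0) (.leaf 0)) (.node (.leaf 0) (.leaf 0))))) (.node (.node (.node (.node (.leaf 0) (.leaf 0)) (.node (.leaf 0) (.leaf 0))) (.node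 (.node (.leaf 0) (.leaf 0)) (.node (.leaf 0) (.leaf 0)))) (.node (.node (.node (.leaf 0) (.leaf 0)) (.node (.leaf 0) (.leaf 0))) (.node (.node (.leaf 0) (.leaf 0)) (.node (.leaf 0) (.leaf 0)))))))

/-- A point of the block, part 699. -/
def ptCodePart699 : Janko1.Tree ℕ := (.node (.node (.node (.node (.node (.node (.leaf 0) (.leaf 0)) (.node (.leaf 0) (.leaf 0))) (.node (.node (.leaf 0) (.leaf 0)) (.node (.leaf 0) (.leaf 0)))) (.node (.node (.node (.leaf 0) (.leaf 0)) (.node (.leaf 0) (.leaf 0))) (.node (.node (.leaf 0) (.leaf 0)) (.node (.leaf 0) (.leaf 0))))) (.node (.node (.node (.node (.leaf 0) (.leaf 0)) (.node (.leaf 0) (.leaf 0))) (.node (.node (.leaf 0) (.leaf 0)) (.node (.leaf 0) (.leaf 0)))) (.node (.node (.node (.leaf 0) (.leaf 0)) (.node (.leaf 0) (.leaf 0))) (.node (.node (.leaf 0) (.leaf 0)) (.node (.leaf 0) (.leaf 0)))))) (.node (.node (.node (.node (.node (.leaf 0) (.leaf 0)) (.node (.leaf 0) (.leaf 0))) (.node (.node (.leaf 0) (.leaf 0)) (.node (.leaf 0) (.leaf 0)))) (.node (.node (.node (.leaf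 0) (.leaf 0)) (.node (.leaf 0) (.leaf 0))) (.node (.node (.leaf 0) (.leaf 0)) (.node (.leaf 0) (.leaf 0))))) (.node (.node (.node (.node (.leaf 0) (.leaf 0)) (.node (.leaf 0) (.leaf 0))) (.node (.node (.leaf 0) (.leaf 0)) (.node (.leaf 0) (.leaf 0)))) (.node (.node (.node (.leaf 0) (.leaf 0)) (.node (.leaf 0) (.leaf 0))) (.node (.node (.leaf 0) (.leaf 0)) (.node (.leaf 0) (.leaf 0)))))))

/-- A point of the block, part 700. -/
def ptCodePart700 : Janko1.Tree ℕ := (.node (.node (.node (.node (.node (.node (.leaf 0) (.leaf 0)) (.node (.leaf 0) (.leaf 0))) (.node (.node (.leaf 0) (.leaf 0)) (.node (.leaf 0) (.leaf 0)))) (.node (.node (.node (.leaf 0) (.leaf 0)) (.node (.leaf 0) (.leaf 0))) (.node (.node (.leaf 0) (.leaf 0)) (.node (.leaf 0) (.leaf 0))))) (.node (.node (.node (.node (.leaf 0) (.leaf 0)) (.node (.leaf 0) (.leaf 0))) (.node (.node (.leaf 0) (.leaf 0)) (.node (.leaf 0) (.leaf 0)))) (.node (.node (.node (.leaf 0) (.leaf 0)) (.node (.leaf 0) (.leaf 0))) (.node (.node (.leaf 0) (.leaf 0)) (.node (.leaf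 0) (.leaf 0)))))) (.node (.node (.node (.node (.node (.leaf 0) (.leaf 0)) (.node (.leaf 0) (.leaf 0))) (.node (.node (.leaf 0) (.leaf 0)) (.node (.leaf 0) (.leaf 0)))) (.node (.node (.node (.leaf 0) (.leaf 0)) (.node (.leaf 0) (.leaf 0))) (.node (.node (.leaf 0) (.leaf 0)) (.node (.leaf 0) (.leaf 0))))) (.node (.node (.node (.node (.leaf 0) (.leaf 0)) (.node (.leaf 0) (.leaf 0))) (.node (.node (.leaf 0) (.leaf 0)) (.node (.leaf 0) (.leaf 0)))) (.node (.node (.node (.leaf 0) (.leaf 0)) (.node (.leaf 0) (.leaf 0))) (.node (.node (.leaf 0) (.leaf 0)) (.node (.leaf 0) (.leaf 0)))))))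

/-- A point of the block, part 701. -/
def ptCodePart701 : Janko1.Tree ℕ := (.node (.node (.node (.node (.node (.node (.leaf 0) (.leaf 0)) (.node (.leaf 0) (.leaf 0))) (.node (.node (.leaf 0) (.leaf 0)) (.node (.leaf 0) (.leaf 0)))) (.node (.node (.node (.leaf 0) (.leaf 0)) (.node (.leaf 0) (.leaf 0))) (.node (.node (.leaf 0) (.leaf 0)) (.node (.leaf 0) (.leaf 0))))) (.node (.node (.node (.node (.leaf 0) (.leaf 0)) (.node (.leaf 0) (.leaf 0))) (.node (.node (.leaf 0) (.leaf 0)) (.node (.leaf 0) (.leaf 0)))) (.node (.node (.node (.leaf 0) (.leaf 0)) (.node (.leaf 0) (.leaf 0))) (.node (.node (.leaf 0) (.leaf 0)) (.node (.leaf 0) (.leaf 0)))))) (.node (.node (.node (.node (.node (.leaf 0) (.leaf 0)) (.node (.leaf 0) (.leaf 0))) (.node (.node (.leaf 0) (.leaf 0)) (.node (.leaf 0) (.leaf 0)))) (.node (.node (.node (.leaf 0) (.leaf 0)) (.node (.leaf 0) (.leaf 0))) (.node (.node (.leaf 0) (.leaf 0)) (.node (.leaf 0) (.leaf 0))))) (.node (.node (.node (.node (.leaf 0) (.leaf 0)) (.node (.leaf 0) (.leaf 0))) (.node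 (.node (.leaf 0) (.leaf 0)) (.node (.leaf 0) (.leaf 0)))) (.node (.node (.node (.leaf 0) (.leaf 0)) (.node (.leaf 0) (.leaf 0))) (.node (.node (.leaf 0) (.leaf 0)) (.node (.leaf 0) (.leaf 0)))))))

/-- A point of the block, part 702. -/
def ptCodePart702 : Janko1.Tree ℕ := (.node (.node (.node (.node (.node (.node (.leaf 0) (.leaf 0)) (.node (.leaf 0) (.leaf 0))) (.node (.node (.leaf 0) (.leaf 0)) (.node (.leaf 0) (.leaf 0)))) (.node (.node (.node (.leaf 0) (.leaf 0)) (.node (.leaf 0) (.leaf 0))) (.node (.node (.leaf 0) (.leaf 0)) (.node (.leaf 0) (.leaf 0))))) (.node (.node (.node (.node (.leaf 0) (.leaf 0)) (.node (.leaf 0) (.leaf 0))) (.node (.node (.leaf 0) (.leaf 0)) (.node (.leaf 0) (.leaf 0)))) (.node (.node (.node (.leaf 0) (.leaf 0)) (.node (.leaf 0) (.leaf 0))) (.node (.node (.leaf 0) (.leaf 0)) (.node (.leaf 0) (.leaf 0)))))) (.node (.node (.node (.node (.node (.leaf 0) (.leaf 0)) (.node (.leaf 0) (.leaf 0))) (.node (.node (.leaf 0) (.leaf 0)) (.node (.leaf 0) (.leaf 0)))) (.node (.node (.node (.leaf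 0) (.leaf 0)) (.node (.leaf 0) (.leaf 0))) (.node (.node (.leaf 0) (.leaf 0)) (.node (.leaf 0) (.leaf 0))))) (.node (.node (.node (.node (.leaf 0) (.leaf 0)) (.node (.leaf 0) (.leaf 0))) (.node (.node (.leaf 0) (.leaf 0)) (.node (.leaf 0) (.leaf 0)))) (.node (.node (.node (.leaf 0) (.leaf 0)) (.node (.leaf 0) (.leaf 0))) (.node (.node (.leaf 0) (.leaf 0)) (.node (.leaf 0) (.leaf 0)))))))

/-- A point of the block, part 703. -/
def ptCodePart703 : Janko1.Tree ℕ := (.node (.node (.node (.node (.node (.node (.leaf 0) (.leaf 0)) (.node (.leaf 0) (.leaf 0))) (.node (.node (.leaf 0) (.leaf 0)) (.node (.leaf 0) (.leaf 0)))) (.node (.node (.node (.leaf 0) (.leaf 0)) (.node (.leaf 0) (.leaf 0))) (.node (.node (.leaf 0) (.leaf 0)) (.node (.leaf 0) (.leaf 0))))) (.node (.node (.node (.node (.leaf 0) (.leaf 0)) (.node (.leaf 0) (.leaf 0))) (.node (.node (.leaf 0) (.leaf 0)) (.node (.leaf 0) (.leaf 0)))) (.node (.node (.node (.leaf 0) (.leaf 0)) (.node (.leaf 0) (.leaf 0))) (.node (.node (.leaf 0) (.leaf 0)) (.node (.leaf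 0) (.leaf 0)))))) (.node (.node (.node (.node (.node (.leaf 0) (.leaf 0)) (.node (.leaf 0) (.leaf 0))) (.node (.node (.leaf 0) (.leaf 0)) (.node (.leaf 0) (.leaf 0)))) (.node (.node (.node (.leaf 0) (.leaf 0)) (.node (.leaf 0) (.leaf 0))) (.node (.node (.leaf 0) (.leaf 0)) (.node (.leaf 0) (.leaf 0))))) (.node (.node (.node (.node (.leaf 0) (.leaf 0)) (.node (.leaf 0) (.leaf 0))) (.node (.node (.leaf 0) (.leaf 0)) (.node (.leaf 0) (.leaf 0)))) (.node (.node (.node (.leaf 0) (.leaf 0)) (.node (.leaf 0) (.leaf 0))) (.node (.node (.leaf 0) (.leaf 0)) (.node (.leaf 0) (.leaf 0)))))))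

/-- A point of the block, part 704. -/
def ptCodePart704 : Janko1.Tree ℕ := (.node (.node (.node (.node (.node (.node (.leaf 0) (.leaf 0)) (.node (.leaf 0) (.leaf 0))) (.node (.node (.leaf 0) (.leaf 0)) (.node (.leaf 0) (.leaf 0)))) (.node (.node (.node (.leaf 0) (.leaf 0)) (.node (.leaf 0) (.leaf 0))) (.node (.node (.leaf 0) (.leaf 0)) (.node (.leaf 0) (.leaf 0))))) (.node (.node (.node (.node (.leaf 0) (.leaf 0)) (.node (.leaf 0) (.leaf 0))) (.node (.node (.leaf 0) (.leaf 0)) (.node (.leaf 0) (.leaf 0)))) (.node (.node (.node (.leaf 0) (.leaf 0)) (.node (.leaf 0) (.leaf 0))) (.node (.node (.leaf 0) (.leaf 0)) (.node (.leaf 0) (.leaf 0)))))) (.node (.node (.node (.node (.node (.leaf 0) (.leaf 0)) (.node (.leaf 0) (.leaf 0))) (.node (.node (.leaf 0) (.leaf 0)) (.node (.leaf 0) (.leaf 0)))) (.node (.node (.node (.leaf 0) (.leaf 0)) (.node (.leaf 0) (.leaf 0))) (.node (.node (.leaf 0) (.leaf 0)) (.node (.leaf 0) (.leaf 0))))) (.node (.node (.node (.node (.leaf 0) (.leaf 0)) (.node (.leaf 0) (.leaf 0))) (.node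 (.node (.leaf 0) (.leaf 0)) (.node (.leaf 0) (.leaf 0)))) (.node (.node (.node (.leaf 0) (.leaf 0)) (.node (.leaf 0) (.leaf 0))) (.node (.node (.leaf 0) (.leaf 0)) (.node (.leaf 0) (.leaf 0)))))))

/-- A point of the block, part 705. -/
def ptCodePart705 : Janko1.Tree ℕ := (.node (.node (.node (.node (.node (.node (.leaf 0) (.leaf 0)) (.node (.leaf 0) (.leaf 0))) (.node (.node (.leaf 0) (.leaf 0)) (.node (.leaf 0) (.leaf 0)))) (.node (.node (.node (.leaf 0) (.leaf 0)) (.node (.leaf 0) (.leaf 0))) (.node (.node (.leaf 0) (.leaf 0)) (.node (.leaf 0) (.leaf 0))))) (.node (.node (.node (.node (.leaf 0) (.leaf 0)) (.node (.leaf 0) (.leaf 0))) (.node (.node (.leaf 0) (.leaf 0)) (.node (.leaf 0) (.leaf 0)))) (.node (.node (.node (.leaf 0) (.leaf 0)) (.node (.leaf 0) (.leaf 0))) (.node (.node (.leaf 0) (.leaf 0)) (.node (.leaf 0) (.leaf 0)))))) (.node (.node (.node (.node (.node (.leaf 0) (.leaf 0)) (.node (.leaf 0) (.leaf 0))) (.node (.node (.leaf 0) (.leaf 0)) (.node (.leaf 0) (.leaf 0)))) (.node (.node (.node (.leaf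 0) (.leaf 0)) (.node (.leaf 0) (.leaf 0))) (.node (.node (.leaf 0) (.leaf 0)) (.node (.leaf 0) (.leaf 0))))) (.node (.node (.node (.node (.leaf 0) (.leaf 0)) (.node (.leaf 0) (.leaf 0))) (.node (.node (.leaf 0) (.leaf 0)) (.node (.leaf 0) (.leaf 0)))) (.node (.node (.node (.leaf 0) (.leaf 0)) (.node (.leaf 0) (.leaf 0))) (.node (.node (.leaf 0) (.leaf 0)) (.node (.leaf 0) (.leaf 0)))))))

/-- A point of the block, part 706. -/
def ptCodePart706 : Janko1.Tree ℕ := (.node (.node (.node (.node (.node (.node (.leaf 0) (.leaf 0)) (.node (.leaf 0) (.leaf 0))) (.node (.node (.leaf 0) (.leaf 0)) (.node (.leaf 0) (.leaf 0)))) (.node (.node (.node (.leaf 0) (.leaf 0)) (.node (.leaf 0) (.leaf 0))) (.node (.node (.leaf 0) (.leaf 0)) (.node (.leaf 0) (.leaf 0))))) (.node (.node (.node (.node (.leaf 0) (.leaf 0)) (.node (.leaf 0) (.leaf 0))) (.node (.node (.leaf 0) (.leaf 0)) (.node (.leaf 0) (.leaf 0)))) (.node (.node (.node (.leaf 0) (.leaf 0)) (.node (.leaf 0) (.leaf 0))) (.node (.node (.leaf 0) (.leaf 0)) (.node (.leaf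 0) (.leaf 0)))))) (.node (.node (.node (.node (.node (.leaf 0) (.leaf 0)) (.node (.leaf 0) (.leaf 0))) (.node (.node (.leaf 0) (.leaf 0)) (.node (.leaf 0) (.leaf 0)))) (.node (.node (.node (.leaf 0) (.leaf 0)) (.node (.leaf 0) (.leaf 0))) (.node (.node (.leaf 0) (.leaf 0)) (.node (.leaf 0) (.leaf 0))))) (.node (.node (.node (.node (.leaf 0) (.leaf 0)) (.node (.leaf 0) (.leaf 0))) (.node (.node (.leaf 0) (.leaf 0)) (.node (.leaf 0) (.leaf 0)))) (.node (.node (.node (.leaf 0) (.leaf 0)) (.node (.leaf 0) (.leaf 0))) (.node (.node (.leaf 0) (.leaf 0)) (.node (.leaf 0) (.leaf 0)))))))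

/-- A point of the block, part 707. -/
def ptCodePart707 : Janko1.Tree ℕ := (.node (.node (.node (.node (.node (.node (.leaf 0) (.leaf 0)) (.node (.leaf 0) (.leaf 0))) (.node (.node (.leaf 0) (.leaf 0)) (.node (.leaf 0) (.leaf 0)))) (.node (.node (.node (.leaf 0) (.leaf 0)) (.node (.leaf 0) (.leaf 0))) (.node (.node (.leaf 0) (.leaf 0)) (.node (.leaf 0) (.leaf 0))))) (.node (.node (.node (.node (.leaf 0) (.leaf 0)) (.node (.leaf 0) (.leaf 0))) (.node (.node (.leaf 0) (.leaf 0)) (.node (.leaf 0) (.leaf 0)))) (.node (.node (.node (.leaf 0) (.leaf 0)) (.node (.leaf 0) (.leaf 0))) (.node (.node (.leaf 0) (.leaf 0)) (.node (.leaf 0) (.leaf 0)))))) (.node (.node (.node (.node (.node (.leaf 0) (.leaf 0)) (.node (.leaf 0) (.leaf 0))) (.node (.node (.leaf 0) (.leaf 0)) (.node (.leaf 0) (.leaf 0)))) (.node (.node (.node (.leaf 0) (.leaf 0)) (.node (.leaf 0) (.leaf 0))) (.node (.node (.leaf 0) (.leaf 0)) (.node (.leaf 0) (.leaf 0))))) (.node (.node (.node (.node (.leaf 0) (.leaf 0)) (.node (.leaf 0) (.leaf 0))) (.node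 (.node (.leaf 0) (.leaf 0)) (.node (.leaf 0) (.leaf 0)))) (.node (.node (.node (.leaf 0) (.leaf 0)) (.node (.leaf 0) (.leaf 0))) (.node (.node (.leaf 0) (.leaf 0)) (.node (.leaf 0) (.leaf 0)))))))

/-- A point of the block, part 708. -/
def ptCodePart708 : Janko1.Tree ℕ := (.node (.node (.node (.node (.node (.node (.leaf 0) (.leaf 0)) (.node (.leaf 0) (.leaf 0))) (.node (.node (.leaf 0) (.leaf 0)) (.node (.leaf 0) (.leaf 0)))) (.node (.node (.node (.leaf 0) (.leaf 0)) (.node (.leaf 0) (.leaf 0))) (.node (.node (.leaf 0) (.leaf 0)) (.node (.leaf 0) (.leaf 0))))) (.node (.node (.node (.node (.leaf 0) (.leaf 0)) (.node (.leaf 0) (.leaf 0))) (.node (.node (.leaf 0) (.leaf 0)) (.node (.leaf 0) (.leaf 0)))) (.node (.node (.node (.leaf 0) (.leaf 0)) (.node (.leaf 0) (.leaf 0))) (.node (.node (.leaf 0) (.leaf 0)) (.node (.leaf 0) (.leaf 0)))))) (.node (.node (.node (.node (.node (.leaf 0) (.leaf 0)) (.node (.leaf 0) (.leaf 0))) (.node (.node (.leaf 0) (.leaf 0)) (.node (.leaf 0) (.leaf 0)))) (.node (.node (.node (.leaf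 0) (.leaf 0)) (.node (.leaf 0) (.leaf 0))) (.node (.node (.leaf 0) (.leaf 0)) (.node (.leaf 0) (.leaf 0))))) (.node (.node (.node (.node (.leaf 0) (.leaf 0)) (.node (.leaf 0) (.leaf 0))) (.node (.node (.leaf 0) (.leaf 0)) (.node (.leaf 0) (.leaf 0)))) (.node (.node (.node (.leaf 0) (.leaf 0)) (.node (.leaf 0) (.leaf 0))) (.node (.node (.leaf 0) (.leaf 0)) (.node (.leaf 0) (.leaf 0)))))))

/-- A point of the block, part 709. -/
def ptCodePart709 : Janko1.Tree ℕ := (.node (.node (.node (.node (.node (.node (.leaf 0) (.leaf 0)) (.node (.leaf 0) (.leaf 0))) (.node (.node (.leaf 0) (.leaf 0)) (.node (.leaf 0) (.leaf 0)))) (.node (.node (.node (.leaf 0) (.leaf 0)) (.node (.leaf 0) (.leaf 0))) (.node (.node (.leaf 0) (.leaf 0)) (.node (.leaf 0) (.leaf 0))))) (.node (.node (.node (.node (.leaf 0) (.leaf 0)) (.node (.leaf 0) (.leaf 0))) (.node (.node (.leaf 0) (.leaf 0)) (.node (.leaf 0) (.leaf 0)))) (.node (.node (.node (.leaf 0) (.leaf 0)) (.node (.leaf 0) (.leaf 0))) (.node (.node (.leaf 0) (.leaf 0)) (.node (.leaf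 0) (.leaf 0)))))) (.node (.node (.node (.node (.node (.leaf 0) (.leaf 0)) (.node (.leaf 0) (.leaf 0))) (.node (.node (.leaf 0) (.leaf 0)) (.node (.leaf 0) (.leaf 0)))) (.node (.node (.node (.leaf 0) (.leaf 0)) (.node (.leaf 0) (.leaf 0))) (.node (.node (.leaf 0) (.leaf 0)) (.node (.leaf 0) (.leaf 0))))) (.node (.node (.node (.node (.leaf 0) (.leaf 0)) (.node (.leaf 0) (.leaf 0))) (.node (.node (.leaf 0) (.leaf 0)) (.node (.leaf 0) (.leaf 0)))) (.node (.node (.node (.leaf 0) (.leaf 0)) (.node (.leaf 0) (.leaf 0))) (.node (.node (.leaf 0) (.leaf 0)) (.node (.leaf 0) (.leaf 0)))))))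

/-- A point of the block, part 710. -/
def ptCodePart710 : Janko1.Tree ℕ := (.node (.node (.node (.node (.node (.node (.leaf 0) (.leaf 0)) (.node (.leaf 0) (.leaf 0))) (.node (.node (.leaf 0) (.leaf 0)) (.node (.leaf 0) (.leaf 0)))) (.node (.node (.node (.leaf 0) (.leaf 0)) (.node (.leaf 0) (.leaf 0))) (.node (.node (.leaf 0) (.leaf 0)) (.node (.leaf 0) (.leaf 0))))) (.node (.node (.node (.node (.leaf 0) (.leaf 0)) (.node (.leaf 0) (.leaf 0))) (.node (.node (.leaf 0) (.leaf 0)) (.node (.leaf 0) (.leaf 0)))) (.node (.node (.node (.leaf 0) (.leaf 0)) (.node (.leaf 0) (.leaf 0))) (.node (.node (.leaf 0) (.leaf 0)) (.node (.leaf 0) (.leaf 0)))))) (.node (.node (.node (.node (.node (.leaf 0) (.leaf 0)) (.node (.leaf 0) (.leaf 0))) (.node (.node (.leaf 0) (.leaf 0)) (.node (.leaf 0) (.leaf 0)))) (.node (.node (.node (.leaf 0) (.leaf 0)) (.node (.leaf 0) (.leaf 0))) (.node (.node (.leaf 0) (.leaf 0)) (.node (.leaf 0) (.leaf 0))))) (.node (.node (.node (.node (.leaf 0) (.leaf 0)) (.node (.leaf 0) (.leaf 0))) (.node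 (.node (.leaf 0) (.leaf 0)) (.node (.leaf 0) (.leaf 0)))) (.node (.node (.node (.leaf 0) (.leaf 0)) (.node (.leaf 0) (.leaf 0))) (.node (.node (.leaf 0) (.leaf 0)) (.node (.leaf 0) (.leaf 0)))))))

/-- A point of the block, part 711. -/
def ptCodePart711 : Janko1.Tree ℕ := (.node (.node (.node (.node (.node (.node (.leaf 0) (.leaf 0)) (.node (.leaf 0) (.leaf 0))) (.node (.node (.leaf 0) (.leaf 0)) (.node (.leaf 0) (.leaf 0)))) (.node (.node (.node (.leaf 0) (.leaf 0)) (.node (.leaf 0) (.leaf 0))) (.node (.node (.leaf 0) (.leaf 0)) (.node (.leaf 0) (.leaf 0))))) (.node (.node (.node (.node (.leaf 0) (.leaf 0)) (.node (.leaf 0) (.leaf 0))) (.node (.node (.leaf 0) (.leaf 0)) (.node (.leaf 0) (.leaf 0)))) (.node (.node (.node (.leaf 0) (.leaf 0)) (.node (.leaf 0) (.leaf 0))) (.node (.node (.leaf 0) (.leaf 0)) (.node (.leaf 0) (.leaf 0)))))) (.node (.node (.node (.node (.node (.leaf 0) (.leaf 0)) (.node (.leaf 0) (.leaf 0))) (.node (.node (.leaf 0) (.leaf 0)) (.node (.leaf 0) (.leaf 0)))) (.node (.node (.node (.leaf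 0) (.leaf 0)) (.node (.leaf 0) (.leaf 0))) (.node (.node (.leaf 0) (.leaf 0)) (.node (.leaf 0) (.leaf 0))))) (.node (.node (.node (.node (.leaf 0) (.leaf 0)) (.node (.leaf 0) (.leaf 0))) (.node (.node (.leaf 0) (.leaf 0)) (.node (.leaf 0) (.leaf 0)))) (.node (.node (.node (.leaf 0) (.leaf 0)) (.node (.leaf 0) (.leaf 0))) (.node (.node (.leaf 0) (.leaf 0)) (.node (.leaf 0) (.leaf 0)))))))

/-- A point of the block, part 712. -/
def ptCodePart712 : Janko1.Tree ℕ := (.node (.node (.node (.node (.node (.node (.leaf 0) (.leaf 0)) (.node (.leaf 0) (.leaf 0))) (.node (.node (.leaf 0) (.leaf 0)) (.node (.leaf 0) (.leaf 0)))) (.node (.node (.node (.leaf 0) (.leaf 0)) (.node (.leaf 0) (.leaf 0))) (.node (.node (.leaf 0) (.leaf 0)) (.node (.leaf 0) (.leaf 0))))) (.node (.node (.node (.node (.leaf 0) (.leaf 0)) (.node (.leaf 0) (.leaf 0))) (.node (.node (.leaf 0) (.leaf 0)) (.node (.leaf 0) (.leaf 0)))) (.node (.node (.node (.leaf 0) (.leaf 0)) (.node (.leaf 0) (.leaf 0))) (.node (.node (.leaf 0) (.leaf 0)) (.node (.leaf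 0) (.leaf 0)))))) (.node (.node (.node (.node (.node (.leaf 0) (.leaf 0)) (.node (.leaf 0) (.leaf 0))) (.node (.node (.leaf 0) (.leaf 0)) (.node (.leaf 0) (.leaf 0)))) (.node (.node (.node (.leaf 0) (.leaf 0)) (.node (.leaf 0) (.leaf 0))) (.node (.node (.leaf 0) (.leaf 0)) (.node (.leaf 0) (.leaf 0))))) (.node (.node (.node (.node (.leaf 0) (.leaf 0)) (.node (.leaf 0) (.leaf 0))) (.node (.node (.leaf 0) (.leaf 0)) (.node (.leaf 0) (.leaf 0)))) (.node (.node (.node (.leaf 0) (.leaf 0)) (.node (.leaf 0) (.leaf 0))) (.node (.node (.leaf 0) (.leaf 0)) (.node (.leaf 0) (.leaf 0)))))))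

/-- A point of the block, part 713. -/
def ptCodePart713 : Janko1.Tree ℕ := (.node (.node (.node (.node (.node (.node (.leaf 0) (.leaf 0)) (.node (.leaf 0) (.leaf 0))) (.node (.node (.leaf 0) (.leaf 0)) (.node (.leaf 0) (.leaf 0)))) (.node (.node (.node (.leaf 0) (.leaf 0)) (.node (.leaf 0) (.leaf 0))) (.node (.node (.leaf 0) (.leaf 0)) (.node (.leaf 0) (.leaf 0))))) (.node (.node (.node (.node (.leaf 0) (.leaf 0)) (.node (.leaf 0) (.leaf 0))) (.node (.node (.leaf 0) (.leaf 0)) (.node (.leaf 0) (.leaf 0)))) (.node (.node (.node (.leaf 0) (.leaf 0)) (.node (.leaf 0) (.leaf 0))) (.node (.node (.leaf 0) (.leaf 0)) (.node (.leaf 0) (.leaf 0)))))) (.node (.node (.node (.node (.node (.leaf 0) (.leaf 0)) (.node (.leaf 0) (.leaf 0))) (.node (.node (.leaf 0) (.leaf 0)) (.node (.leaf 0) (.leaf 0)))) (.node (.node (.node (.leaf 0) (.leaf 0)) (.node (.leaf 0) (.leaf 0))) (.node (.node (.leaf 0) (.leaf 0)) (.node (.leaf 0) (.leaf 0))))) (.node (.node (.node (.node (.leaf 0) (.leaf 0)) (.node (.leaf 0) (.leaf 0))) (.node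 (.node (.leaf 0) (.leaf 0)) (.node (.leaf 0) (.leaf 0)))) (.node (.node (.node (.leaf 0) (.leaf 0)) (.node (.leaf 0) (.leaf 0))) (.node (.node (.leaf 0) (.leaf 0)) (.node (.leaf 0) (.leaf 0)))))))

/-- A point of the block, part 714. -/
def ptCodePart714 : Janko1.Tree ℕ := (.node (.node (.node (.node (.node (.node (.leaf 0) (.leaf 0)) (.node (.leaf 0) (.leaf 0))) (.node (.node (.leaf 0) (.leaf 0)) (.node (.leaf 0) (.leaf 0)))) (.node (.node (.node (.leaf 0) (.leaf 0)) (.node (.leaf 0) (.leaf 0))) (.node (.node (.leaf 0) (.leaf 0)) (.node (.leaf 0) (.leaf 0))))) (.node (.node (.node (.node (.leaf 0) (.leaf 0)) (.node (.leaf 0) (.leaf 0))) (.node (.node (.leaf 0) (.leaf 0)) (.node (.leaf 0) (.leaf 0)))) (.node (.node (.node (.leaf 0) (.leaf 0)) (.node (.leaf 0) (.leaf 0))) (.node (.node (.leaf 0) (.leaf 0)) (.node (.leaf 0) (.leaf 0)))))) (.node (.node (.node (.node (.node (.leaf 0) (.leaf 0)) (.node (.leaf 0) (.leaf 0))) (.node (.node (.leaf 0) (.leaf 0)) (.node (.leaf 0) (.leaf 0)))) (.node (.node (.node (.leaf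 0) (.leaf 0)) (.node (.leaf 0) (.leaf 0))) (.node (.node (.leaf 0) (.leaf 0)) (.node (.leaf 0) (.leaf 0))))) (.node (.node (.node (.node (.leaf 0) (.leaf 0)) (.node (.leaf 0) (.leaf 0))) (.node (.node (.leaf 0) (.leaf 0)) (.node (.leaf 0) (.leaf 0)))) (.node (.node (.node (.leaf 0) (.leaf 0)) (.node (.leaf 0) (.leaf 0))) (.node (.node (.leaf 0) (.leaf 0)) (.node (.leaf 0) (.leaf 0)))))))

/-- A point of the block, part 715. -/
def ptCodePart715 : Janko1.Tree ℕ := (.node (.node (.node (.node (.node (.node (.leaf 0) (.leaf 0)) (.node (.leaf 0) (.leaf 0))) (.node (.node (.leaf 0) (.leaf 0)) (.node (.leaf 0) (.leaf 0)))) (.node (.node (.node (.leaf 0) (.leaf 0)) (.node (.leaf 0) (.leaf 0))) (.node (.node (.leaf 0) (.leaf 0)) (.node (.leaf 0) (.leaf 0))))) (.node (.node (.node (.node (.leaf 0) (.leaf 0)) (.node (.leaf 0) (.leaf 0))) (.node (.node (.leaf 0) (.leaf 0)) (.node (.leaf 0) (.leaf 0)))) (.node (.node (.node (.leaf 0) (.leaf 0)) (.node (.leaf 0) (.leaf 0))) (.node (.node (.leaf 0) (.leaf 0)) (.node (.leaf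 0) (.leaf 0)))))) (.node (.node (.node (.node (.node (.leaf 0) (.leaf 0)) (.node (.leaf 0) (.leaf 0))) (.node (.node (.leaf 0) (.leaf 0)) (.node (.leaf 0) (.leaf 0)))) (.node (.node (.node (.leaf 0) (.leaf 0)) (.node (.leaf 0) (.leaf 0))) (.node (.node (.leaf 0) (.leaf 0)) (.node (.leaf 0) (.leaf 0))))) (.node (.node (.node (.node (.leaf 0) (.leaf 0)) (.node (.leaf 0) (.leaf 0))) (.node (.node (.leaf 0) (.leaf 0)) (.node (.leaf 0) (.leaf 0)))) (.node (.node (.node (.leaf 0) (.leaf 0)) (.node (.leaf 0) (.leaf 0))) (.node (.node (.leaf 0) (.leaf 0)) (.node (.leaf 0) (.leaf 0)))))))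

/-- A point of the block, part 716. -/
def ptCodePart716 : Janko1.Tree ℕ := (.node (.node (.node (.node (.node (.node (.leaf 0) (.leaf 0)) (.node (.leaf 0) (.leaf 0))) (.node (.node (.leaf 0) (.leaf 0)) (.node (.leaf 0) (.leaf 0)))) (.node (.node (.node (.leaf 0) (.leaf 0)) (.node (.leaf 0) (.leaf 0))) (.node (.node (.leaf 0) (.leaf 0)) (.node (.leaf 0) (.leaf 0))))) (.node (.node (.node (.node (.leaf 0) (.leaf 0)) (.node (.leaf 0) (.leaf 0))) (.node (.node (.leaf 0) (.leaf 0)) (.node (.leaf 0) (.leaf 0)))) (.node (.node (.node (.leaf 0) (.leaf 0)) (.node (.leaf 0) (.leaf 0))) (.node (.node (.leaf 0) (.leaf 0)) (.node (.leaf 0) (.leaf 0)))))) (.node (.node (.node (.node (.node (.leaf 0) (.leaf 0)) (.node (.leaf 0) (.leaf 0))) (.node (.node (.leaf 0) (.leaf 0)) (.node (.leaf 0) (.leaf 0)))) (.node (.node (.node (.leaf 0) (.leaf 0)) (.node (.leaf 0) (.leaf 0))) (.node (.node (.leaf 0) (.leaf 0)) (.node (.leaf 0) (.leaf 0))))) (.node (.node (.node (.node (.leaf 0) (.leaf 0)) (.node (.leaf 0) (.leaf 0))) (.node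 (.node (.leaf 0) (.leaf 0)) (.node (.leaf 0) (.leaf 0)))) (.node (.node (.node (.leaf 0) (.leaf 0)) (.node (.leaf 0) (.leaf 0))) (.node (.node (.leaf 0) (.leaf 0)) (.node (.leaf 0) (.leaf 0)))))))

/-- A point of the block, part 717. -/
def ptCodePart717 : Janko1.Tree ℕ := (.node (.node (.node (.node (.node (.node (.leaf 0) (.leaf 0)) (.node (.leaf 0) (.leaf 0))) (.node (.node (.leaf 0) (.leaf 0)) (.node (.leaf 0) (.leaf 0)))) (.node (.node (.node (.leaf 0) (.leaf 0)) (.node (.leaf 0) (.leaf 0))) (.node (.node (.leaf 0) (.leaf 0)) (.node (.leaf 0) (.leaf 0))))) (.node (.node (.node (.node (.leaf 0) (.leaf 0)) (.node (.leaf 0) (.leaf 0))) (.node (.node (.leaf 0) (.leaf 0)) (.node (.leaf 0) (.leaf 0)))) (.node (.node (.node (.leaf 0) (.leaf 0)) (.node (.leaf 0) (.leaf 0))) (.node (.node (.leaf 0) (.leaf 0)) (.node (.leaf 0) (.leaf 0)))))) (.node (.node (.node (.node (.node (.leaf 0) (.leaf 0)) (.node (.leaf 0) (.leaf 0))) (.node (.node (.leaf 0) (.leaf 0)) (.node (.leaf 0) (.leaf 0)))) (.node (.node (.node (.leaf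 0) (.leaf 0)) (.node (.leaf 0) (.leaf 0))) (.node (.node (.leaf 0) (.leaf 0)) (.node (.leaf 0) (.leaf 0))))) (.node (.node (.node (.node (.leaf 0) (.leaf 0)) (.node (.leaf 0) (.leaf 0))) (.node (.node (.leaf 0) (.leaf 0)) (.node (.leaf 0) (.leaf 0)))) (.node (.node (.node (.leaf 0) (.leaf 0)) (.node (.leaf 0) (.leaf 0))) (.node (.node (.leaf 0) (.leaf 0)) (.node (.leaf 0) (.leaf 0)))))))

/-- A point of the block, part 718. -/
def ptCodePart718 : Janko1.Tree ℕ := (.node (.node (.node (.node (.node (.node (.leaf 0) (.leaf 0)) (.node (.leaf 0) (.leaf 0))) (.node (.node (.leaf 0) (.leaf 0)) (.node (.leaf 0) (.leaf 0)))) (.node (.node (.node (.leaf 0) (.leaf 0)) (.node (.leaf 0) (.leaf 0))) (.node (.node (.leaf 0) (.leaf 0)) (.node (.leaf 0) (.leaf 0))))) (.node (.node (.node (.node (.leaf 0) (.leaf 0)) (.node (.leaf 0) (.leaf 0))) (.node (.node (.leaf 0) (.leaf 0)) (.node (.leaf 0) (.leaf 0)))) (.node (.node (.node (.leaf 0) (.leaf 0)) (.node (.leaf 0) (.leaf 0))) (.node (.node (.leaf 0) (.leaf 0)) (.node (.leaf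 0) (.leaf 0)))))) (.node (.node (.node (.node (.node (.leaf 0) (.leaf 0)) (.node (.leaf 0) (.leaf 0))) (.node (.node (.leaf 0) (.leaf 0)) (.node (.leaf 0) (.leaf 0)))) (.node (.node (.node (.leaf 0) (.leaf 0)) (.node (.leaf 0) (.leaf 0))) (.node (.node (.leaf 0) (.leaf 0)) (.node (.leaf 0) (.leaf 0))))) (.node (.node (.node (.node (.leaf 0) (.leaf 0)) (.node (.leaf 0) (.leaf 0))) (.node (.node (.leaf 0) (.leaf 0)) (.node (.leaf 0) (.leaf 0)))) (.node (.node (.node (.leaf 0) (.leaf 0)) (.node (.leaf 0) (.leaf 0))) (.node (.node (.leaf 0) (.leaf 0)) (.node (.leaf 0) (.leaf 0)))))))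

/-- A point of the block, part 719. -/
def ptCodePart719 : Janko1.Tree ℕ := (.node (.node (.node (.node (.node (.node (.leaf 0) (.leaf 0)) (.node (.leaf 0) (.leaf 0))) (.node (.node (.leaf 0) (.leaf 0)) (.node (.leaf 0) (.leaf 0)))) (.node (.node (.node (.leaf 0) (.leaf 0)) (.node (.leaf 0) (.leaf 0))) (.node (.node (.leaf 0) (.leaf 0)) (.node (.leaf 0) (.leaf 0))))) (.node (.node (.node (.node (.leaf 0) (.leaf 0)) (.node (.leaf 0) (.leaf 0))) (.node (.node (.leaf 0) (.leaf 0)) (.node (.leaf 0) (.leaf 0)))) (.node (.node (.node (.leaf 0) (.leaf 0)) (.node (.leaf 0) (.leaf 0))) (.node (.node (.leaf 0) (.leaf 0)) (.node (.leaf 0) (.leaf 0)))))) (.node (.node (.node (.node (.node (.leaf 0) (.leaf 0)) (.node (.leaf 0) (.leaf 0))) (.node (.node (.leaf 0) (.leaf 0)) (.node (.leaf 0) (.leaf 0)))) (.node (.node (.node (.leaf 0) (.leaf 0)) (.node (.leaf 0) (.leaf 0))) (.node (.node (.leaf 0) (.leaf 0)) (.node (.leaf 0) (.leaf 0))))) (.node (.node (.node (.node (.leaf 0) (.leaf 0)) (.node (.leaf 0) (.leaf 0))) (.node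 (.node (.leaf 0) (.leaf 0)) (.node (.leaf 0) (.leaf 0)))) (.node (.node (.node (.leaf 0) (.leaf 0)) (.node (.leaf 0) (.leaf 0))) (.node (.node (.leaf 0) (.leaf 0)) (.node (.leaf 0) (.leaf 0)))))))

/-- A point of the block, part 720. -/
def ptCodePart720 : Janko1.Tree ℕ := (.node (.node (.node (.node (.node (.node (.leaf 0) (.leaf 0)) (.node (.leaf 0) (.leaf 0))) (.node (.node (.leaf 0) (.leaf 0)) (.node (.leaf 0) (.leaf 0)))) (.node (.node (.node (.leaf 0) (.leaf 0)) (.node (.leaf 0) (.leaf 0))) (.node (.node (.leaf 0) (.leaf 0)) (.node (.leaf 0) (.leaf 0))))) (.node (.node (.node (.node (.leaf 0) (.leaf 0)) (.node (.leaf 0) (.leaf 0))) (.node (.node (.leaf 0) (.leaf 0)) (.node (.leaf 0) (.leaf 0)))) (.node (.node (.node (.leaf 0) (.leaf 0)) (.node (.leaf 0) (.leaf 0))) (.node (.node (.leaf 0) (.leaf 0)) (.node (.leaf 0) (.leaf 0)))))) (.node (.node (.node (.node (.node (.leaf 0) (.leaf 0)) (.node (.leaf 0) (.leaf 0))) (.node (.node (.leaf 0) (.leaf 0)) (.node (.leaf 0) (.leaf 0)))) (.node (.node (.node (.leaf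 0) (.leaf 0)) (.node (.leaf 0) (.leaf 0))) (.node (.node (.leaf 0) (.leaf 0)) (.node (.leaf 0) (.leaf 0))))) (.node (.node (.node (.node (.leaf 0) (.leaf 0)) (.node (.leaf 0) (.leaf 0))) (.node (.node (.leaf 0) (.leaf 0)) (.node (.leaf 0) (.leaf 0)))) (.node (.node (.node (.leaf 0) (.leaf 0)) (.node (.leaf 0) (.leaf 0))) (.node (.node (.leaf 0) (.leaf 0)) (.node (.leaf 0) (.leaf 0)))))))

/-- A point of the block, part 721. -/
def ptCodePart721 : Janko1.Tree ℕ := (.node (.node (.node (.node (.node (.node (.leaf 0) (.leaf 0)) (.node (.leaf 0) (.leaf 0))) (.node (.node (.leaf 0) (.leaf 0)) (.node (.leaf 0) (.leaf 0)))) (.node (.node (.node (.leaf 0) (.leaf 0)) (.node (.leaf 0) (.leaf 0))) (.node (.node (.leaf 0) (.leaf 0)) (.node (.leaf 0) (.leaf 0))))) (.node (.node (.node (.node (.leaf 0) (.leaf 0)) (.node (.leaf 0) (.leaf 0))) (.node (.node (.leaf 0) (.leaf 0)) (.node (.leaf 0) (.leaf 0)))) (.node (.node (.node (.leaf 0) (.leaf 0)) (.node (.leaf 0) (.leaf 0))) (.node (.node (.leaf 0) (.leaf 0)) (.node (.leaf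 0) (.leaf 0)))))) (.node (.node (.node (.node (.node (.leaf 0) (.leaf 0)) (.node (.leaf 0) (.leaf 0))) (.node (.node (.leaf 0) (.leaf 0)) (.node (.leaf 0) (.leaf 0)))) (.node (.node (.node (.leaf 0) (.leaf 0)) (.node (.leaf 0) (.leaf 0))) (.node (.node (.leaf 0) (.leaf 0)) (.node (.leaf 0) (.leaf 0))))) (.node (.node (.node (.node (.leaf 0) (.leaf 0)) (.node (.leaf 0) (.leaf 0))) (.node (.node (.leaf 0) (.leaf 0)) (.node (.leaf 0) (.leaf 0)))) (.node (.node (.node (.leaf 0) (.leaf 0)) (.node (.leaf 0) (.leaf 0))) (.node (.node (.leaf 0) (.leaf 0)) (.node (.leaf 0) (.leaf 0)))))))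

/-- A point of the block, part 722. -/
def ptCodePart722 : Janko1.Tree ℕ := (.node (.node (.node (.node (.node (.node (.leaf 0) (.leaf 0)) (.node (.leaf 0) (.leaf 0))) (.node (.node (.leaf 0) (.leaf 0)) (.node (.leaf 0) (.leaf 0)))) (.node (.node (.node (.leaf 0) (.leaf 0)) (.node (.leaf 0) (.leaf 0))) (.node (.node (.leaf 0) (.leaf 0)) (.node (.leaf 0) (.leaf 0))))) (.node (.node (.node (.node (.leaf 0) (.leaf 0)) (.node (.leaf 0) (.leaf 0))) (.node (.node (.leaf 0) (.leaf 0)) (.node (.leaf 0) (.leaf 0)))) (.node (.node (.node (.leaf 0) (.leaf 0)) (.node (.leaf 0) (.leaf 0))) (.node (.node (.leaf 0) (.leaf 0)) (.node (.leaf 0) (.leaf 0)))))) (.node (.node (.node (.node (.node (.leaf 0) (.leaf 0)) (.node (.leaf 0) (.leaf 0))) (.node (.node (.leaf 0) (.leaf 0)) (.node (.leaf 0) (.leaf 0)))) (.node (.node (.node (.leaf 0) (.leaf 0)) (.node (.leaf 0) (.leaf 0))) (.node (.node (.leaf 0) (.leaf 0)) (.node (.leaf 0) (.leaf 0))))) (.node (.node (.node (.node (.leaf 0) (.leaf 0)) (.node (.leaf 0) (.leaf 0))) (.node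 (.node (.leaf 0) (.leaf 0)) (.node (.leaf 0) (.leaf 0)))) (.node (.node (.node (.leaf 0) (.leaf 0)) (.node (.leaf 0) (.leaf 0))) (.node (.node (.leaf 0) (.leaf 0)) (.node (.leaf 0) (.leaf 0)))))))

/-- A point of the block, part 723. -/
def ptCodePart723 : Janko1.Tree ℕ := (.node (.node (.node (.node (.node (.node (.leaf 0) (.leaf 0)) (.node (.leaf 0) (.leaf 0))) (.node (.node (.leaf 0) (.leaf 0)) (.node (.leaf 0) (.leaf 0)))) (.node (.node (.node (.leaf 0) (.leaf 0)) (.node (.leaf 0) (.leaf 0))) (.node (.node (.leaf 0) (.leaf 0)) (.node (.leaf 0) (.leaf 0))))) (.node (.node (.node (.node (.leaf 0) (.leaf 0)) (.node (.leaf 0) (.leaf 0))) (.node (.node (.leaf 0) (.leaf 0)) (.node (.leaf 0) (.leaf 0)))) (.node (.node (.node (.leaf 0) (.leaf 0)) (.node (.leaf 0) (.leaf 0))) (.node (.node (.leaf 0) (.leaf 0)) (.node (.leaf 0) (.leaf 0)))))) (.node (.node (.node (.node (.node (.leaf 0) (.leaf 0)) (.node (.leaf 0) (.leaf 0))) (.node (.node (.leaf 0) (.leaf 0)) (.node (.leaf 0) (.leaf 0)))) (.node (.node (.node (.leaf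 0) (.leaf 0)) (.node (.leaf 0) (.leaf 0))) (.node (.node (.leaf 0) (.leaf 0)) (.node (.leaf 0) (.leaf 0))))) (.node (.node (.node (.node (.leaf 0) (.leaf 0)) (.node (.leaf 0) (.leaf 0))) (.node (.node (.leaf 0) (.leaf 0)) (.node (.leaf 0) (.leaf 0)))) (.node (.node (.node (.leaf 0) (.leaf 0)) (.node (.leaf 0) (.leaf 0))) (.node (.node (.leaf 0) (.leaf 0)) (.node (.leaf 0) (.leaf 0)))))))

/-- A point of the block, part 724. -/
def ptCodePart724 : Janko1.Tree ℕ := (.node (.node (.node (.node (.node (.node (.leaf 0) (.leaf 0)) (.node (.leaf 0) (.leaf 0))) (.node (.node (.leaf 0) (.leaf 0)) (.node (.leaf 0) (.leaf 0)))) (.node (.node (.node (.leaf 0) (.leaf 0)) (.node (.leaf 0) (.leaf 0))) (.node (.node (.leaf 0) (.leaf 0)) (.node (.leaf 0) (.leaf 0))))) (.node (.node (.node (.node (.leaf 0) (.leaf 0)) (.node (.leaf 0) (.leaf 0))) (.node (.node (.leaf 0) (.leaf 0)) (.node (.leaf 0) (.leaf 0)))) (.node (.node (.node (.leaf 0) (.leaf 0)) (.node (.leaf 0) (.leaf 0))) (.node (.node (.leaf 0) (.leaf 0)) (.node (.leaf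 0) (.leaf 0)))))) (.node (.node (.node (.node (.node (.leaf 0) (.leaf 0)) (.node (.leaf 0) (.leaf 0))) (.node (.node (.leaf 0) (.leaf 0)) (.node (.leaf 0) (.leaf 0)))) (.node (.node (.node (.leaf 0) (.leaf 0)) (.node (.leaf 0) (.leaf 0))) (.node (.node (.leaf 0) (.leaf 0)) (.node (.leaf 0) (.leaf 0))))) (.node (.node (.node (.node (.leaf 0) (.leaf 0)) (.node (.leaf 0) (.leaf 0))) (.node (.node (.leaf 0) (.leaf 0)) (.node (.leaf 0) (.leaf 0)))) (.node (.node (.node (.leaf 0) (.leaf 0)) (.node (.leaf 0) (.leaf 0))) (.node (.node (.leaf 0) (.leaf 0)) (.node (.leaf 0) (.leaf 0)))))))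

/-- A point of the block, part 725. -/
def ptCodePart725 : Janko1.Tree ℕ := (.node (.node (.node (.node (.node (.node (.leaf 0) (.leaf 0)) (.node (.leaf 0) (.leaf 0))) (.node (.node (.leaf 0) (.leaf 0)) (.node (.leaf 0) (.leaf 0)))) (.node (.node (.node (.leaf 0) (.leaf 0)) (.node (.leaf 0) (.leaf 0))) (.node (.node (.leaf 0) (.leaf 0)) (.node (.leaf 0) (.leaf 0))))) (.node (.node (.node (.node (.leaf 0) (.leaf 0)) (.node (.leaf 0) (.leaf 0))) (.node (.node (.leaf 0) (.leaf 0)) (.node (.leaf 0) (.leaf 0)))) (.node (.node (.node (.leaf 0) (.leaf 0)) (.node (.leaf 0) (.leaf 0))) (.node (.node (.leaf 0) (.leaf 0)) (.node (.leaf 0) (.leaf 0)))))) (.node (.node (.node (.node (.node (.leaf 0) (.leaf 0)) (.node (.leaf 0) (.leaf 0))) (.node (.node (.leaf 0) (.leaf 0)) (.node (.leaf 0) (.leaf 0)))) (.node (.node (.node (.leaf 0) (.leaf 0)) (.node (.leaf 0) (.leaf 0))) (.node (.node (.leaf 0) (.leaf 0)) (.node (.leaf 0) (.leaf 0))))) (.node (.node (.node (.node (.leaf 0) (.leaf 0)) (.node (.leaf 0) (.leaf 0))) (.node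 (.node (.leaf 0) (.leaf 0)) (.node (.leaf 0) (.leaf 0)))) (.node (.node (.node (.leaf 0) (.leaf 0)) (.node (.leaf 0) (.leaf 0))) (.node (.node (.leaf 0) (.leaf 0)) (.node (.leaf 0) (.leaf 0)))))))

/-- A point of the block, part 726. -/
def ptCodePart726 : Janko1.Tree ℕ := (.node (.node (.node (.node (.node (.node (.leaf 0) (.leaf 0)) (.node (.leaf 0) (.leaf 0))) (.node (.node (.leaf 0) (.leaf 0)) (.node (.leaf 0) (.leaf 0)))) (.node (.node (.node (.leaf 0) (.leaf 0)) (.node (.leaf 0) (.leaf 0))) (.node (.node (.leaf 0) (.leaf 0)) (.node (.leaf 0) (.leaf 0))))) (.node (.node (.node (.node (.leaf 0) (.leaf 0)) (.node (.leaf 0) (.leaf 0))) (.node (.node (.leaf 0) (.leaf 0)) (.node (.leaf 0) (.leaf 0)))) (.node (.node (.node (.leaf 0) (.leaf 0)) (.node (.leaf 0) (.leaf 0))) (.node (.node (.leaf 0) (.leaf 0)) (.node (.leaf 0) (.leaf 0)))))) (.node (.node (.node (.node (.node (.leaf 0) (.leaf 0)) (.node (.leaf 0) (.leaf 0))) (.node (.node (.leaf 0) (.leaf 0)) (.node (.leaf 0) (.leaf 0)))) (.node (.node (.node (.leaf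 0) (.leaf 0)) (.node (.leaf 0) (.leaf 0))) (.node (.node (.leaf 0) (.leaf 0)) (.node (.leaf 0) (.leaf 0))))) (.node (.node (.node (.node (.leaf 0) (.leaf 0)) (.node (.leaf 0) (.leaf 0))) (.node (.node (.leaf 0) (.leaf 0)) (.node (.leaf 0) (.leaf 0)))) (.node (.node (.node (.leaf 0) (.leaf 0)) (.node (.leaf 0) (.leaf 0))) (.node (.node (.leaf 0) (.leaf 0)) (.node (.leaf 0) (.leaf 0)))))))

/-- A point of the block, part 727. -/
def ptCodePart727 : Janko1.Tree ℕ := (.node (.node (.node (.node (.node (.node (.leaf 0) (.leaf 0)) (.node (.leaf 0) (.leaf 0))) (.node (.node (.leaf 0) (.leaf 0)) (.node (.leaf 0) (.leaf 0)))) (.node (.node (.node (.leaf 0) (.leaf 0)) (.node (.leaf 0) (.leaf 0))) (.node (.node (.leaf 0) (.leaf 0)) (.node (.leaf 0) (.leaf 0))))) (.node (.node (.node (.node (.leaf 0) (.leaf 0)) (.node (.leaf 0) (.leaf 0))) (.node (.node (.leaf 0) (.leaf 0)) (.node (.leaf 0) (.leaf 0)))) (.node (.node (.node (.leaf 0) (.leaf 0)) (.node (.leaf 0) (.leaf 0))) (.node (.node (.leaf 0) (.leaf 0)) (.node (.leaf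 0) (.leaf 0)))))) (.node (.node (.node (.node (.node (.leaf 0) (.leaf 0)) (.node (.leaf 0) (.leaf 0))) (.node (.node (.leaf 0) (.leaf 0)) (.node (.leaf 0) (.leaf 0)))) (.node (.node (.node (.leaf 0) (.leaf 0)) (.node (.leaf 0) (.leaf 0))) (.node (.node (.leaf 0) (.leaf 0)) (.node (.leaf 0) (.leaf 0))))) (.node (.node (.node (.node (.leaf 0) (.leaf 0)) (.node (.leaf 0) (.leaf 0))) (.node (.node (.leaf 0) (.leaf 0)) (.node (.leaf 0) (.leaf 0)))) (.node (.node (.node (.leaf 0) (.leaf 0)) (.node (.leaf 0) (.leaf 0))) (.node (.node (.leaf 0) (.leaf 0)) (.node (.leaf 0) (.leaf 0)))))))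

/-- A point of the block, part 728. -/
def ptCodePart728 : Janko1.Tree ℕ := (.node (.node (.node (.node (.node (.node (.leaf 0) (.leaf 0)) (.node (.leaf 0) (.leaf 0))) (.node (.node (.leaf 0) (.leaf 0)) (.node (.leaf 0) (.leaf 0)))) (.node (.node (.node (.leaf 0) (.leaf 0)) (.node (.leaf 0) (.leaf 0))) (.node (.node (.leaf 0) (.leaf 0)) (.node (.leaf 0) (.leaf 0))))) (.node (.node (.node (.node (.leaf 0) (.leaf 0)) (.node (.leaf 0) (.leaf 0))) (.node (.node (.leaf 0) (.leaf 0)) (.node (.leaf 0) (.leaf 0)))) (.node (.node (.node (.leaf 0) (.leaf 0)) (.node (.leaf 0) (.leaf 0))) (.node (.node (.leaf 0) (.leaf 0)) (.node (.leaf 0) (.leaf 0)))))) (.node (.node (.node (.node (.node (.leaf 0) (.leaf 0)) (.node (.leaf 0) (.leaf 0))) (.node (.node (.leaf 0) (.leaf 0)) (.node (.leaf 0) (.leaf 0)))) (.node (.node (.node (.leaf 0) (.leaf 0)) (.node (.leaf 0) (.leaf 0))) (.node (.node (.leaf 0) (.leaf 0)) (.node (.leaf 0) (.leaf 0))))) (.node (.node (.node (.node (.leaf 0) (.leaf 0)) (.node (.leaf 0) (.leaf 0))) (.node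 (.node (.leaf 0) (.leaf 0)) (.node (.leaf 0) (.leaf 0)))) (.node (.node (.node (.leaf 0) (.leaf 0)) (.node (.leaf 0) (.leaf 0))) (.node (.node (.leaf 0) (.leaf 0)) (.node (.leaf 0) (.leaf 0)))))))

/-- A point of the block, part 729. -/
def ptCodePart729 : Janko1.Tree ℕ := (.node (.node (.node (.node (.node (.node (.leaf 0) (.leaf 0)) (.node (.leaf 0) (.leaf 0))) (.node (.node (.leaf 0) (.leaf 0)) (.node (.leaf 0) (.leaf 0)))) (.node (.node (.node (.leaf 0) (.leaf 0)) (.node (.leaf 0) (.leaf 0))) (.node (.node (.leaf 0) (.leaf 0)) (.node (.leaf 0) (.leaf 0))))) (.node (.node (.node (.node (.leaf 0) (.leaf 0)) (.node (.leaf 0) (.leaf 0))) (.node (.node (.leaf 0) (.leaf 0)) (.node (.leaf 0) (.leaf 0)))) (.node (.node (.node (.leaf 0) (.leaf 0)) (.node (.leaf 0) (.leaf 0))) (.node (.node (.leaf 0) (.leaf 0)) (.node (.leaf 0) (.leaf 0)))))) (.node (.node (.node (.node (.node (.leaf 0) (.leaf 0)) (.node (.leaf 0) (.leaf 0))) (.node (.node (.leaf 0) (.leaf 0)) (.node (.leaf 0) (.leaf 0)))) (.node (.node (.node (.leaf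 0) (.leaf 0)) (.node (.leaf 0) (.leaf 0))) (.node (.node (.leaf 0) (.leaf 0)) (.node (.leaf 0) (.leaf 0))))) (.node (.node (.node (.node (.leaf 0) (.leaf 0)) (.node (.leaf 0) (.leaf 0))) (.node (.node (.leaf 0) (.leaf 0)) (.node (.leaf 0) (.leaf 0)))) (.node (.node (.node (.leaf 0) (.leaf 0)) (.node (.leaf 0) (.leaf 0))) (.node (.node (.leaf 0) (.leaf 0)) (.node (.leaf 0) (.leaf 0)))))))

/-- A point of the block, part 730. -/
def ptCodePart730 : Janko1.Tree ℕ := (.node (.node (.node (.node (.node (.node (.leaf 0) (.leaf 0)) (.node (.leaf 0) (.leaf 0))) (.node (.node (.leaf 0) (.leaf 0)) (.node (.leaf 0) (.leaf 0)))) (.node (.node (.node (.leaf 0) (.leaf 0)) (.node (.leaf 0) (.leaf 0))) (.node (.node (.leaf 0) (.leaf 0)) (.node (.leaf 0) (.leaf 0))))) (.node (.node (.node (.node (.leaf 0) (.leaf 0)) (.node (.leaf 0) (.leaf 0))) (.node (.node (.leaf 0) (.leaf 0)) (.node (.leaf 0) (.leaf 0)))) (.node (.node (.node (.leaf 0) (.leaf 0)) (.node (.leaf 0) (.leaf 0))) (.node (.node (.leaf 0) (.leaf 0)) (.node (.leaf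 0) (.leaf 0)))))) (.node (.node (.node (.node (.node (.leaf 0) (.leaf 0)) (.node (.leaf 0) (.leaf 0))) (.node (.node (.leaf 0) (.leaf 0)) (.node (.leaf 0) (.leaf 0)))) (.node (.node (.node (.leaf 0) (.leaf 0)) (.node (.leaf 0) (.leaf 0))) (.node (.node (.leaf 0) (.leaf 0)) (.node (.leaf 0) (.leaf 0))))) (.node (.node (.node (.node (.leaf 0) (.leaf 0)) (.node (.leaf 0) (.leaf 0))) (.node (.node (.leaf 0) (.leaf 0)) (.node (.leaf 0) (.leaf 0)))) (.node (.node (.node (.leaf 0) (.leaf 0)) (.node (.leaf 0) (.leaf 0))) (.node (.node (.leaf 0) (.leaf 0)) (.node (.leaf 0) (.leaf 0)))))))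

/-- A point of the block, part 731. -/
def ptCodePart731 : Janko1.Tree ℕ := (.node (.node (.node (.node (.node (.node (.leaf 0) (.leaf 0)) (.node (.leaf 0) (.leaf 0))) (.node (.node (.leaf 0) (.leaf 0)) (.node (.leaf 0) (.leaf 0)))) (.node (.node (.node (.leaf 0) (.leaf 0)) (.node (.leaf 0) (.leaf 0))) (.node (.node (.leaf 0) (.leaf 0)) (.node (.leaf 0) (.leaf 0))))) (.node (.node (.node (.node (.leaf 0) (.leaf 0)) (.node (.leaf 0) (.leaf 0))) (.node (.node (.leaf 0) (.leaf 0)) (.node (.leaf 0) (.leaf 0)))) (.node (.node (.node (.leaf 0) (.leaf 0)) (.node (.leaf 0) (.leaf 0))) (.node (.node (.leaf 0) (.leaf 0)) (.node (.leaf 0) (.leaf 0)))))) (.node (.node (.node (.node (.node (.leaf 0) (.leaf 0)) (.node (.leaf 0) (.leaf 0))) (.node (.node (.leaf 0) (.leaf 0)) (.node (.leaf 0) (.leaf 0)))) (.node (.node (.node (.leaf 0) (.leaf 0)) (.node (.leaf 0) (.leaf 0))) (.node (.node (.leaf 0) (.leaf 0)) (.node (.leaf 0) (.leaf 0))))) (.node (.node (.node (.node (.leaf 0) (.leaf 0)) (.node (.leaf 0) (.leaf 0))) (.node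 (.node (.leaf 0) (.leaf 0)) (.node (.leaf 0) (.leaf 0)))) (.node (.node (.node (.leaf 0) (.leaf 0)) (.node (.leaf 0) (.leaf 0))) (.node (.node (.leaf 0) (.leaf 0)) (.node (.leaf 0) (.leaf 0)))))))

/-- A point of the block, part 732. -/
def ptCodePart732 : Janko1.Tree ℕ := (.node (.node (.node (.node (.node (.node (.leaf 0) (.leaf 0)) (.node (.leaf 0) (.leaf 0))) (.node (.node (.leaf 0) (.leaf 0)) (.node (.leaf 0) (.leaf 0)))) (.node (.node (.node (.leaf 0) (.leaf 0)) (.node (.leaf 0) (.leaf 0))) (.node (.node (.leaf 0) (.leaf 0)) (.node (.leaf 0) (.leaf 0))))) (.node (.node (.node (.node (.leaf 0) (.leaf 0)) (.node (.leaf 0) (.leaf 0))) (.node (.node (.leaf 0) (.leaf 0)) (.node (.leaf 0) (.leaf 0)))) (.node (.node (.node (.leaf 0) (.leaf 0)) (.node (.leaf 0) (.leaf 0))) (.node (.node (.leaf 0) (.leaf 0)) (.node (.leaf 0) (.leaf 0)))))) (.node (.node (.node (.node (.node (.leaf 0) (.leaf 0)) (.node (.leaf 0) (.leaf 0))) (.node (.node (.leaf 0) (.leaf 0)) (.node (.leaf 0) (.leaf 0)))) (.node (.node (.node (.leaf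 0) (.leaf 0)) (.node (.leaf 0) (.leaf 0))) (.node (.node (.leaf 0) (.leaf 0)) (.node (.leaf 0) (.leaf 0))))) (.node (.node (.node (.node (.leaf 0) (.leaf 0)) (.node (.leaf 0) (.leaf 0))) (.node (.node (.leaf 0) (.leaf 0)) (.node (.leaf 0) (.leaf 0)))) (.node (.node (.node (.leaf 0) (.leaf 0)) (.node (.leaf 0) (.leaf 0))) (.node (.node (.leaf 0) (.leaf 0)) (.node (.leaf 0) (.leaf 0)))))))

/-- A point of the block, part 733. -/
def ptCodePart733 : Janko1.Tree ℕ := (.node (.node (.node (.node (.node (.node (.leaf 0) (.leaf 0)) (.node (.leaf 0) (.leaf 0))) (.node (.node (.leaf 0) (.leaf 0)) (.node (.leaf 0) (.leaf 0)))) (.node (.node (.node (.leaf 0) (.leaf 0)) (.node (.leaf 0) (.leaf 0))) (.node (.node (.leaf 0) (.leaf 0)) (.node (.leaf 0) (.leaf 0))))) (.node (.node (.node (.node (.leaf 0) (.leaf 0)) (.node (.leaf 0) (.leaf 0))) (.node (.node (.leaf 0) (.leaf 0)) (.node (.leaf 0) (.leaf 0)))) (.node (.node (.node (.leaf 0) (.leaf 0)) (.node (.leaf 0) (.leaf 0))) (.node (.node (.leaf 0) (.leaf 0)) (.node (.leaf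 0) (.leaf 0)))))) (.node (.node (.node (.node (.node (.leaf 0) (.leaf 0)) (.node (.leaf 0) (.leaf 0))) (.node (.node (.leaf 0) (.leaf 0)) (.node (.leaf 0) (.leaf 0)))) (.node (.node (.node (.leaf 0) (.leaf 0)) (.node (.leaf 0) (.leaf 0))) (.node (.node (.leaf 0) (.leaf 0)) (.node (.leaf 0) (.leaf 0))))) (.node (.node (.node (.node (.leaf 0) (.leaf 0)) (.node (.leaf 0) (.leaf 0))) (.node (.node (.leaf 0) (.leaf 0)) (.node (.leaf 0) (.leaf 0)))) (.node (.node (.node (.leaf 0) (.leaf 0)) (.node (.leaf 0) (.leaf 0))) (.node (.node (.leaf 0) (.leaf 0)) (.node (.leaf 0) (.leaf 0)))))))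

/-- A point of the block, part 734. -/
def ptCodePart734 : Janko1.Tree ℕ := (.node (.node (.node (.node (.node (.node (.leaf 0) (.leaf 0)) (.node (.leaf 0) (.leaf 0))) (.node (.node (.leaf 0) (.leaf 0)) (.node (.leaf 0) (.leaf 0)))) (.node (.node (.node (.leaf 0) (.leaf 0)) (.node (.leaf 0) (.leaf 0))) (.node (.node (.leaf 0) (.leaf 0)) (.node (.leaf 0) (.leaf 0))))) (.node (.node (.node (.node (.leaf 0) (.leaf 0)) (.node (.leaf 0) (.leaf 0))) (.node (.node (.leaf 0) (.leaf 0)) (.node (.leaf 0) (.leaf 0)))) (.node (.node (.node (.leaf 0) (.leaf 0)) (.node (.leaf 0) (.leaf 0))) (.node (.node (.leaf 0) (.leaf 0)) (.node (.leaf 0) (.leaf 0)))))) (.node (.node (.node (.node (.node (.leaf 0) (.leaf 0)) (.node (.leaf 0) (.leaf 0))) (.node (.node (.leaf 0) (.leaf 0)) (.node (.leaf 0) (.leaf 0)))) (.node (.node (.node (.leaf 0) (.leaf 0)) (.node (.leaf 0) (.leaf 0))) (.node (.node (.leaf 0) (.leaf 0)) (.node (.leaf 0) (.leaf 0))))) (.node (.node (.node (.node (.leaf 0) (.leaf 0)) (.node (.leaf 0) (.leaf 0))) (.node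 (.node (.leaf 0) (.leaf 0)) (.node (.leaf 0) (.leaf 0)))) (.node (.node (.node (.leaf 0) (.leaf 0)) (.node (.leaf 0) (.leaf 0))) (.node (.node (.leaf 0) (.leaf 0)) (.node (.leaf 0) (.leaf 0)))))))

/-- A point of the block, part 735. -/
def ptCodePart735 : Janko1.Tree ℕ := (.node (.node (.node (.node (.node (.node (.leaf 0) (.leaf 0)) (.node (.leaf 0) (.leaf 0))) (.node (.node (.leaf 0) (.leaf 0)) (.node (.leaf 0) (.leaf 0)))) (.node (.node (.node (.leaf 0) (.leaf 0)) (.node (.leaf 0) (.leaf 0))) (.node (.node (.leaf 0) (.leaf 0)) (.node (.leaf 0) (.leaf 0))))) (.node (.node (.node (.node (.leaf 0) (.leaf 0)) (.node (.leaf 0) (.leaf 0))) (.node (.node (.leaf 0) (.leaf 0)) (.node (.leaf 0) (.leaf 0)))) (.node (.node (.node (.leaf 0) (.leaf 0)) (.node (.leaf 0) (.leaf 0))) (.node (.node (.leaf 0) (.leaf 0)) (.node (.leaf 0) (.leaf 0)))))) (.node (.node (.node (.node (.node (.leaf 0) (.leaf 0)) (.node (.leaf 0) (.leaf 0))) (.node (.node (.leaf 0) (.leaf 0)) (.node (.leaf 0) (.leaf 0)))) (.node (.node (.node (.leaf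 0) (.leaf 0)) (.node (.leaf 0) (.leaf 0))) (.node (.node (.leaf 0) (.leaf 0)) (.node (.leaf 0) (.leaf 0))))) (.node (.node (.node (.node (.leaf 0) (.leaf 0)) (.node (.leaf 0) (.leaf 0))) (.node (.node (.leaf 0) (.leaf 0)) (.node (.leaf 0) (.leaf 0)))) (.node (.node (.node (.leaf 0) (.leaf 0)) (.node (.leaf 0) (.leaf 0))) (.node (.node (.leaf 0) (.leaf 0)) (.node (.leaf 0) (.leaf 0)))))))

/-- A point of the block, part 736. -/
def ptCodePart736 : Janko1.Tree ℕ := (.node (.node (.node (.node (.node (.node (.leaf 0) (.leaf 0)) (.node (.leaf 0) (.leaf 0))) (.node (.node (.leaf 0) (.leaf 0)) (.node (.leaf 0) (.leaf 0)))) (.node (.node (.node (.leaf 0) (.leaf 0)) (.node (.leaf 0) (.leaf 0))) (.node (.node (.leaf 0) (.leaf 0)) (.node (.leaf 0) (.leaf 0))))) (.node (.node (.node (.node (.leaf 0) (.leaf 0)) (.node (.leaf 0) (.leaf 0))) (.node (.node (.leaf 0) (.leaf 0)) (.node (.leaf 0) (.leaf 0)))) (.node (.node (.node (.leaf 0) (.leaf 0)) (.node (.leaf 0) (.leaf 0))) (.node (.node (.leaf 0) (.leaf 0)) (.node (.leaf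 0) (.leaf 0)))))) (.node (.node (.node (.node (.node (.leaf 0) (.leaf 0)) (.node (.leaf 0) (.leaf 0))) (.node (.node (.leaf 0) (.leaf 0)) (.node (.leaf 0) (.leaf 0)))) (.node (.node (.node (.leaf 0) (.leaf 0)) (.node (.leaf 0) (.leaf 0))) (.node (.node (.leaf 0) (.leaf 0)) (.node (.leaf 0) (.leaf 0))))) (.node (.node (.node (.node (.leaf 0) (.leaf 0)) (.node (.leaf 0) (.leaf 0))) (.node (.node (.leaf 0) (.leaf 0)) (.node (.leaf 0) (.leaf 0)))) (.node (.node (.node (.leaf 0) (.leaf 0)) (.node (.leaf 0) (.leaf 0))) (.node (.node (.leaf 0) (.leaf 0)) (.node (.leaf 0) (.leaf 0)))))))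

/-- A point of the block, part 737. -/
def ptCodePart737 : Janko1.Tree ℕ := (.node (.node (.node (.node (.node (.node (.leaf 0) (.leaf 0)) (.node (.leaf 0) (.leaf 0))) (.node (.node (.leaf 0) (.leaf 0)) (.node (.leaf 0) (.leaf 0)))) (.node (.node (.node (.leaf 0) (.leaf 0)) (.node (.leaf 0) (.leaf 0))) (.node (.node (.leaf 0) (.leaf 0)) (.node (.leaf 0) (.leaf 0))))) (.node (.node (.node (.node (.leaf 0) (.leaf 0)) (.node (.leaf 0) (.leaf 0))) (.node (.node (.leaf 0) (.leaf 0)) (.node (.leaf 0) (.leaf 0)))) (.node (.node (.node (.leaf 0) (.leaf 0)) (.node (.leaf 0) (.leaf 0))) (.node (.node (.leaf 0) (.leaf 0)) (.node (.leaf 0) (.leaf 0)))))) (.node (.node (.node (.node (.node (.leaf 0) (.leaf 0)) (.node (.leaf 0) (.leaf 0))) (.node (.node (.leaf 0) (.leaf 0)) (.node (.leaf 0) (.leaf 0)))) (.node (.node (.node (.leaf 0) (.leaf 0)) (.node (.leaf 0) (.leaf 0))) (.node (.node (.leaf 0) (.leaf 0)) (.node (.leaf 0) (.leaf 0))))) (.node (.node (.node (.node (.leaf 0) (.leaf 0)) (.node (.leaf 0) (.leaf 0))) (.node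 (.node (.leaf 0) (.leaf 0)) (.node (.leaf 0) (.leaf 0)))) (.node (.node (.node (.leaf 0) (.leaf 0)) (.node (.leaf 0) (.leaf 0))) (.node (.node (.leaf 0) (.leaf 0)) (.node (.leaf 0) (.leaf 0)))))))

/-- A point of the block, part 738. -/
def ptCodePart738 : Janko1.Tree ℕ := (.node (.node (.node (.node (.node (.node (.leaf 0) (.leaf 0)) (.node (.leaf 0) (.leaf 0))) (.node (.node (.leaf 0) (.leaf 0)) (.node (.leaf 0) (.leaf 0)))) (.node (.node (.node (.leaf 0) (.leaf 0)) (.node (.leaf 0) (.leaf 0))) (.node (.node (.leaf 0) (.leaf 0)) (.node (.leaf 0) (.leaf 0))))) (.node (.node (.node (.node (.leaf 0) (.leaf 0)) (.node (.leaf 0) (.leaf 0))) (.node (.node (.leaf 0) (.leaf 0)) (.node (.leaf 0) (.leaf 0)))) (.node (.node (.node (.leaf 0) (.leaf 0)) (.node (.leaf 0) (.leaf 0))) (.node (.node (.leaf 0) (.leaf 0)) (.node (.leaf 0) (.leaf 0)))))) (.node (.node (.node (.node (.node (.leaf 0) (.leaf 0)) (.node (.leaf 0) (.leaf 0))) (.node (.node (.leaf 0) (.leaf 0)) (.node (.leaf 0) (.leaf 0)))) (.node (.node (.node (.leaf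 0) (.leaf 0)) (.node (.leaf 0) (.leaf 0))) (.node (.node (.leaf 0) (.leaf 0)) (.node (.leaf 0) (.leaf 0))))) (.node (.node (.node (.node (.leaf 0) (.leaf 0)) (.node (.leaf 0) (.leaf 0))) (.node (.node (.leaf 0) (.leaf 0)) (.node (.leaf 0) (.leaf 0)))) (.node (.node (.node (.leaf 0) (.leaf 0)) (.node (.leaf 0) (.leaf 0))) (.node (.node (.leaf 0) (.leaf 0)) (.node (.leaf 0) (.leaf 0)))))))

/-- A point of the block, part 739. -/
def ptCodePart739 : Janko1.Tree ℕ := (.node (.node (.node (.node (.node (.node (.leaf 0) (.leaf 0)) (.node (.leaf 0) (.leaf 0))) (.node (.node (.leaf 0) (.leaf 0)) (.node (.leaf 0) (.leaf 0)))) (.node (.node (.node (.leaf 0) (.leaf 0)) (.node (.leaf 0) (.leaf 0))) (.node (.node (.leaf 0) (.leaf 0)) (.node (.leaf 0) (.leaf 0))))) (.node (.node (.node (.node (.leaf 0) (.leaf 0)) (.node (.leaf 0) (.leaf 0))) (.node (.node (.leaf 0) (.leaf 0)) (.node (.leaf 0) (.leaf 0)))) (.node (.node (.node (.leaf 0) (.leaf 0)) (.node (.leaf 0) (.leaf 0))) (.node (.node (.leaf 0) (.leaf 0)) (.node (.leaf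 0) (.leaf 0)))))) (.node (.node (.node (.node (.node (.leaf 0) (.leaf 0)) (.node (.leaf 0) (.leaf 0))) (.node (.node (.leaf 0) (.leaf 0)) (.node (.leaf 0) (.leaf 0)))) (.node (.node (.node (.leaf 0) (.leaf 0)) (.node (.leaf 0) (.leaf 0))) (.node (.node (.leaf 0) (.leaf 0)) (.node (.leaf 0) (.leaf 0))))) (.node (.node (.node (.node (.leaf 0) (.leaf 0)) (.node (.leaf 0) (.leaf 0))) (.node (.node (.leaf 0) (.leaf 0)) (.node (.leaf 0) (.leaf 0)))) (.node (.node (.node (.leaf 0) (.leaf 0)) (.node (.leaf 0) (.leaf 0))) (.node (.node (.leaf 0) (.leaf 0)) (.node (.leaf 0) (.leaf 0)))))))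

/-- A point of the block, part 740. -/
def ptCodePart740 : Janko1.Tree ℕ := (.node (.node (.node (.node (.node (.node (.leaf 0) (.leaf 0)) (.node (.leaf 0) (.leaf 0))) (.node (.node (.leaf 0) (.leaf 0)) (.node (.leaf 0) (.leaf 0)))) (.node (.node (.node (.leaf 0) (.leaf 0)) (.node (.leaf 0) (.leaf 0))) (.node (.node (.leaf 0) (.leaf 0)) (.node (.leaf 0) (.leaf 0))))) (.node (.node (.node (.node (.leaf 0) (.leaf 0)) (.node (.leaf 0) (.leaf 0))) (.node (.node (.leaf 0) (.leaf 0)) (.node (.leaf 0) (.leaf 0)))) (.node (.node (.node (.leaf 0) (.leaf 0)) (.node (.leaf 0) (.leaf 0))) (.node (.node (.leaf 0) (.leaf 0)) (.node (.leaf 0) (.leaf 0)))))) (.node (.node (.node (.node (.node (.leaf 0) (.leaf 0)) (.node (.leaf 0) (.leaf 0))) (.node (.node (.leaf 0) (.leaf 0)) (.node (.leaf 0) (.leaf 0)))) (.node (.node (.node (.leaf 0) (.leaf 0)) (.node (.leaf 0) (.leaf 0))) (.node (.node (.leaf 0) (.leaf 0)) (.node (.leaf 0) (.leaf 0))))) (.node (.node (.node (.node (.leaf 0) (.leaf 0)) (.node (.leaf 0) (.leaf 0))) (.node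 (.node (.leaf 0) (.leaf 0)) (.node (.leaf 0) (.leaf 0)))) (.node (.node (.node (.leaf 0) (.leaf 0)) (.node (.leaf 0) (.leaf 0))) (.node (.node (.leaf 0) (.leaf 0)) (.node (.leaf 0) (.leaf 0)))))))

/-- A point of the block, part 741. -/
def ptCodePart741 : Janko1.Tree ℕ := (.node (.node (.node (.node (.node (.node (.leaf 0) (.leaf 0)) (.node (.leaf 0) (.leaf 0))) (.node (.node (.leaf 0) (.leaf 0)) (.node (.leaf 0) (.leaf 0)))) (.node (.node (.node (.leaf 0) (.leaf 0)) (.node (.leaf 0) (.leaf 0))) (.node (.node (.leaf 0) (.leaf 0)) (.node (.leaf 0) (.leaf 0))))) (.node (.node (.node (.node (.leaf 0) (.leaf 0)) (.node (.leaf 0) (.leaf 0))) (.node (.node (.leaf 0) (.leaf 0)) (.node (.leaf 0) (.leaf 0)))) (.node (.node (.node (.leaf 0) (.leaf 0)) (.node (.leaf 0) (.leaf 0))) (.node (.node (.leaf 0) (.leaf 0)) (.node (.leaf 0) (.leaf 0)))))) (.node (.node (.node (.node (.node (.leaf 0) (.leaf 0)) (.node (.leaf 0) (.leaf 0))) (.node (.node (.leaf 0) (.leaf 0)) (.node (.leaf 0) (.leaf 0)))) (.node (.node (.node (.leaf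 0) (.leaf 0)) (.node (.leaf 0) (.leaf 0))) (.node (.node (.leaf 0) (.leaf 0)) (.node (.leaf 0) (.leaf 0))))) (.node (.node (.node (.node (.leaf 0) (.leaf 0)) (.node (.leaf 0) (.leaf 0))) (.node (.node (.leaf 0) (.leaf 0)) (.node (.leaf 0) (.leaf 0)))) (.node (.node (.node (.leaf 0) (.leaf 0)) (.node (.leaf 0) (.leaf 0))) (.node (.node (.leaf 0) (.leaf 0)) (.node (.leaf 0) (.leaf 0)))))))

/-- A point of the block, part 742. -/
def ptCodePart742 : Janko1.Tree ℕ := (.node (.node (.node (.node (.node (.node (.leaf 0) (.leaf 0)) (.node (.leaf 0) (.leaf 0))) (.node (.node (.leaf 0) (.leaf 0)) (.node (.leaf 0) (.leaf 0)))) (.node (.node (.node (.leaf 0) (.leaf 0)) (.node (.leaf 0) (.leaf 0))) (.node (.node (.leaf 0) (.leaf 0)) (.node (.leaf 0) (.leaf 0))))) (.node (.node (.node (.node (.leaf 0) (.leaf 0)) (.node (.leaf 0) (.leaf 0))) (.node (.node (.leaf 0) (.leaf 0)) (.node (.leaf 0) (.leaf 0)))) (.node (.node (.node (.leaf 0) (.leaf 0)) (.node (.leaf 0) (.leaf 0))) (.node (.node (.leaf 0) (.leaf 0)) (.node (.leaf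 0) (.leaf 0)))))) (.node (.node (.node (.node (.node (.leaf 0) (.leaf 0)) (.node (.leaf 0) (.leaf 0))) (.node (.node (.leaf 0) (.leaf 0)) (.node (.leaf 0) (.leaf 0)))) (.node (.node (.node (.leaf 0) (.leaf 0)) (.node (.leaf 0) (.leaf 0))) (.node (.node (.leaf 0) (.leaf 0)) (.node (.leaf 0) (.leaf 0))))) (.node (.node (.node (.node (.leaf 0) (.leaf 0)) (.node (.leaf 0) (.leaf 0))) (.node (.node (.leaf 0) (.leaf 0)) (.node (.leaf 0) (.leaf 0)))) (.node (.node (.node (.leaf 0) (.leaf 0)) (.node (.leaf 0) (.leaf 0))) (.node (.node (.leaf 0) (.leaf 0)) (.node (.leaf 0) (.leaf 0)))))))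

/-- A point of the block, part 743. -/
def ptCodePart743 : Janko1.Tree ℕ := (.node (.node (.node (.node (.node (.node (.leaf 0) (.leaf 0)) (.node (.leaf 0) (.leaf 0))) (.node (.node (.leaf 0) (.leaf 0)) (.node (.leaf 0) (.leaf 0)))) (.node (.node (.node (.leaf 0) (.leaf 0)) (.node (.leaf 0) (.leaf 0))) (.node (.node (.leaf 0) (.leaf 0)) (.node (.leaf 0) (.leaf 0))))) (.node (.node (.node (.node (.leaf 0) (.leaf 0)) (.node (.leaf 0) (.leaf 0))) (.node (.node (.leaf 0) (.leaf 0)) (.node (.leaf 0) (.leaf 0)))) (.node (.node (.node (.leaf 0) (.leaf 0)) (.node (.leaf 0) (.leaf 0))) (.node (.node (.leaf 0) (.leaf 0)) (.node (.leaf 0) (.leaf 0)))))) (.node (.node (.node (.node (.node (.leaf 0) (.leaf 0)) (.node (.leaf 0) (.leaf 0))) (.node (.node (.leaf 0) (.leaf 0)) (.node (.leaf 0) (.leaf 0)))) (.node (.node (.node (.leaf 0) (.leaf 0)) (.node (.leaf 0) (.leaf 0))) (.node (.node (.leaf 0) (.leaf 0)) (.node (.leaf 0) (.leaf 0))))) (.node (.node (.node (.node (.leaf 0) (.leaf 0)) (.node (.leaf 0) (.leaf 0))) (.node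 (.node (.leaf 0) (.leaf 0)) (.node (.leaf 0) (.leaf 0)))) (.node (.node (.node (.leaf 0) (.leaf 0)) (.node (.leaf 0) (.leaf 0))) (.node (.node (.leaf 0) (.leaf 0)) (.node (.leaf 0) (.leaf 0)))))))

/-- A point of the block, part 744. -/
def ptCodePart744 : Janko1.Tree ℕ := (.node (.node (.node (.node (.node (.node (.leaf 0) (.leaf 0)) (.node (.leaf 0) (.leaf 0))) (.node (.node (.leaf 0) (.leaf 0)) (.node (.leaf 0) (.leaf 0)))) (.node (.node (.node (.leaf 0) (.leaf 0)) (.node (.leaf 0) (.leaf 0))) (.node (.node (.leaf 0) (.leaf 0)) (.node (.leaf 0) (.leaf 0))))) (.node (.node (.node (.node (.leaf 0) (.leaf 0)) (.node (.leaf 0) (.leaf 0))) (.node (.node (.leaf 0) (.leaf 0)) (.node (.leaf 0) (.leaf 0)))) (.node (.node (.node (.leaf 0) (.leaf 0)) (.node (.leaf 0) (.leaf 0))) (.node (.node (.leaf 0) (.leaf 0)) (.node (.leaf 0) (.leaf 0)))))) (.node (.node (.node (.node (.node (.leaf 0) (.leaf 0)) (.node (.leaf 0) (.leaf 0))) (.node (.node (.leaf 0) (.leaf 0)) (.node (.leaf 0) (.leaf 0)))) (.node (.node (.node (.leaf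 0) (.leaf 0)) (.node (.leaf 0) (.leaf 0))) (.node (.node (.leaf 0) (.leaf 0)) (.node (.leaf 0) (.leaf 0))))) (.node (.node (.node (.node (.leaf 0) (.leaf 0)) (.node (.leaf 0) (.leaf 0))) (.node (.node (.leaf 0) (.leaf 0)) (.node (.leaf 0) (.leaf 0)))) (.node (.node (.node (.leaf 0) (.leaf 0)) (.node (.leaf 0) (.leaf 0))) (.node (.node (.leaf 0) (.leaf 0)) (.node (.leaf 0) (.leaf 0)))))))

/-- A point of the block, part 745. -/
def ptCodePart745 : Janko1.Tree ℕ := (.node (.node (.node (.node (.node (.node (.leaf 0) (.leaf 0)) (.node (.leaf 0) (.leaf 0))) (.node (.node (.leaf 0) (.leaf 0)) (.node (.leaf 0) (.leaf 0)))) (.node (.node (.node (.leaf 0) (.leaf 0)) (.node (.leaf 0) (.leaf 0))) (.node (.node (.leaf 0) (.leaf 0)) (.node (.leaf 0) (.leaf 0))))) (.node (.node (.node (.node (.leaf 0) (.leaf 0)) (.node (.leaf 0) (.leaf 0))) (.node (.node (.leaf 0) (.leaf 0)) (.node (.leaf 0) (.leaf 0)))) (.node (.node (.node (.leaf 0) (.leaf 0)) (.node (.leaf 0) (.leaf 0))) (.node (.node (.leaf 0) (.leaf 0)) (.node (.leaf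 0) (.leaf 0)))))) (.node (.node (.node (.node (.node (.leaf 0) (.leaf 0)) (.node (.leaf 0) (.leaf 0))) (.node (.node (.leaf 0) (.leaf 0)) (.node (.leaf 0) (.leaf 0)))) (.node (.node (.node (.leaf 0) (.leaf 0)) (.node (.leaf 0) (.leaf 0))) (.node (.node (.leaf 0) (.leaf 0)) (.node (.leaf 0) (.leaf 0))))) (.node (.node (.node (.node (.leaf 0) (.leaf 0)) (.node (.leaf 0) (.leaf 0))) (.node (.node (.leaf 0) (.leaf 0)) (.node (.leaf 0) (.leaf 0)))) (.node (.node (.node (.leaf 0) (.leaf 0)) (.node (.leaf 0) (.leaf 0))) (.node (.node (.leaf 0) (.leaf 0)) (.node (.leaf 0) (.leaf 0)))))))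

/-- A point of the block, part 746. -/
def ptCodePart746 : Janko1.Tree ℕ := (.node (.node (.node (.node (.node (.node (.leaf 0) (.leaf 0)) (.node (.leaf 0) (.leaf 0))) (.node (.node (.leaf 0) (.leaf 0)) (.node (.leaf 0) (.leaf 0)))) (.node (.node (.node (.leaf 0) (.leaf 0)) (.node (.leaf 0) (.leaf 0))) (.node (.node (.leaf 0) (.leaf 0)) (.node (.leaf 0) (.leaf 0))))) (.node (.node (.node (.node (.leaf 0) (.leaf 0)) (.node (.leaf 0) (.leaf 0))) (.node (.node (.leaf 0) (.leaf 0)) (.node (.leaf 0) (.leaf 0)))) (.node (.node (.node (.leaf 0) (.leaf 0)) (.node (.leaf 0) (.leaf 0))) (.node (.node (.leaf 0) (.leaf 0)) (.node (.leaf 0) (.leaf 0)))))) (.node (.node (.node (.node (.node (.leaf 0) (.leaf 0)) (.node (.leaf 0) (.leaf 0))) (.node (.node (.leaf 0) (.leaf 0)) (.node (.leaf 0) (.leaf 0)))) (.node (.node (.node (.leaf 0) (.leaf 0)) (.node (.leaf 0) (.leaf 0))) (.node (.node (.leaf 0) (.leaf 0)) (.node (.leaf 0) (.leaf 0))))) (.node (.node (.node (.node (.leaf 0) (.leaf 0)) (.node (.leaf 0) (.leaf 0))) (.node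 (.node (.leaf 0) (.leaf 0)) (.node (.leaf 0) (.leaf 0)))) (.node (.node (.node (.leaf 0) (.leaf 0)) (.node (.leaf 0) (.leaf 0))) (.node (.node (.leaf 0) (.leaf 0)) (.node (.leaf 0) (.leaf 0)))))))

/-- A point of the block, part 747. -/
def ptCodePart747 : Janko1.Tree ℕ := (.node (.node (.node (.node (.node (.node (.leaf 0) (.leaf 0)) (.node (.leaf 0) (.leaf 0))) (.node (.node (.leaf 0) (.leaf 0)) (.node (.leaf 0) (.leaf 0)))) (.node (.node (.node (.leaf 0) (.leaf 0)) (.node (.leaf 0) (.leaf 0))) (.node (.node (.leaf 0) (.leaf 0)) (.node (.leaf 0) (.leaf 0))))) (.node (.node (.node (.node (.leaf 0) (.leaf 0)) (.node (.leaf 0) (.leaf 0))) (.node (.node (.leaf 0) (.leaf 0)) (.node (.leaf 0) (.leaf 0)))) (.node (.node (.node (.leaf 0) (.leaf 0)) (.node (.leaf 0) (.leaf 0))) (.node (.node (.leaf 0) (.leaf 0)) (.node (.leaf 0) (.leaf 0)))))) (.node (.node (.node (.node (.node (.leaf 0) (.leaf 0)) (.node (.leaf 0) (.leaf 0))) (.node (.node (.leaf 0) (.leaf 0)) (.node (.leaf 0) (.leaf 0)))) (.node (.node (.node (.leaf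 0) (.leaf 0)) (.node (.leaf 0) (.leaf 0))) (.node (.node (.leaf 0) (.leaf 0)) (.node (.leaf 0) (.leaf 0))))) (.node (.node (.node (.node (.leaf 0) (.leaf 0)) (.node (.leaf 0) (.leaf 0))) (.node (.node (.leaf 0) (.leaf 0)) (.node (.leaf 0) (.leaf 0)))) (.node (.node (.node (.leaf 0) (.leaf 0)) (.node (.leaf 0) (.leaf 0))) (.node (.node (.leaf 0) (.leaf 0)) (.node (.leaf 0) (.leaf 0)))))))

/-- A point of the block, part 748. -/
def ptCodePart748 : Janko1.Tree ℕ := (.node (.node (.node (.node (.node (.node (.leaf 0) (.leaf 0)) (.node (.leaf 0) (.leaf 0))) (.node (.node (.leaf 0) (.leaf 0)) (.node (.leaf 0) (.leaf 0)))) (.node (.node (.node (.leaf 0) (.leaf 0)) (.node (.leaf 0) (.leaf 0))) (.node (.node (.leaf 0) (.leaf 0)) (.node (.leaf 0) (.leaf 0))))) (.node (.node (.node (.node (.leaf 0) (.leaf 0)) (.node (.leaf 0) (.leaf 0))) (.node (.node (.leaf 0) (.leaf 0)) (.node (.leaf 0) (.leaf 0)))) (.node (.node (.node (.leaf 0) (.leaf 0)) (.node (.leaf 0) (.leaf 0))) (.node (.node (.leaf 0) (.leaf 0)) (.node (.leaf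 0) (.leaf 0)))))) (.node (.node (.node (.node (.node (.leaf 0) (.leaf 0)) (.node (.leaf 0) (.leaf 0))) (.node (.node (.leaf 0) (.leaf 0)) (.node (.leaf 0) (.leaf 0)))) (.node (.node (.node (.leaf 0) (.leaf 0)) (.node (.leaf 0) (.leaf 0))) (.node (.node (.leaf 0) (.leaf 0)) (.node (.leaf 0) (.leaf 0))))) (.node (.node (.node (.node (.leaf 0) (.leaf 0)) (.node (.leaf 0) (.leaf 0))) (.node (.node (.leaf 0) (.leaf 0)) (.node (.leaf 0) (.leaf 0)))) (.node (.node (.node (.leaf 0) (.leaf 0)) (.node (.leaf 0) (.leaf 0))) (.node (.node (.leaf 0) (.leaf 0)) (.node (.leaf 0) (.leaf 0)))))))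

/-- A point of the block, part 749. -/
def ptCodePart749 : Janko1.Tree ℕ := (.node (.node (.node (.node (.node (.node (.leaf 0) (.leaf 0)) (.node (.leaf 0) (.leaf 0))) (.node (.node (.leaf 0) (.leaf 0)) (.node (.leaf 0) (.leaf 0)))) (.node (.node (.node (.leaf 0) (.leaf 0)) (.node (.leaf 0) (.leaf 0))) (.node (.node (.leaf 0) (.leaf 0)) (.node (.leaf 0) (.leaf 0))))) (.node (.node (.node (.node (.leaf 0) (.leaf 0)) (.node (.leaf 0) (.leaf 0))) (.node (.node (.leaf 0) (.leaf 0)) (.node (.leaf 0) (.leaf 0)))) (.node (.node (.node (.leaf 0) (.leaf 0)) (.node (.leaf 0) (.leaf 0))) (.node (.node (.leaf 0) (.leaf 0)) (.node (.leaf 0) (.leaf 0)))))) (.node (.node (.node (.node (.node (.leaf 0) (.leaf 0)) (.node (.leaf 0) (.leaf 0))) (.node (.node (.leaf 0) (.leaf 0)) (.node (.leaf 0) (.leaf 0)))) (.node (.node (.node (.leaf 0) (.leaf 0)) (.node (.leaf 0) (.leaf 0))) (.node (.node (.leaf 0) (.leaf 0)) (.node (.leaf 0) (.leaf 0))))) (.node (.node (.node (.node (.leaf 0) (.leaf 0)) (.node (.leaf 0) (.leaf 0))) (.node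 (.node (.leaf 0) (.leaf 0)) (.node (.leaf 0) (.leaf 0)))) (.node (.node (.node (.leaf 0) (.leaf 0)) (.node (.leaf 0) (.leaf 0))) (.node (.node (.leaf 0) (.leaf 0)) (.node (.leaf 0) (.leaf 0)))))))

/-- A point of the block, part 750. -/
def ptCodePart750 : Janko1.Tree ℕ := (.node (.node (.node (.node (.node (.node (.leaf 0) (.leaf 0)) (.node (.leaf 0) (.leaf 0))) (.node (.node (.leaf 0) (.leaf 0)) (.node (.leaf 0) (.leaf 0)))) (.node (.node (.node (.leaf 0) (.leaf 0)) (.node (.leaf 0) (.leaf 0))) (.node (.node (.leaf 0) (.leaf 0)) (.node (.leaf 0) (.leaf 0))))) (.node (.node (.node (.node (.leaf 0) (.leaf 0)) (.node (.leaf 0) (.leaf 0))) (.node (.node (.leaf 0) (.leaf 0)) (.node (.leaf 0) (.leaf 0)))) (.node (.node (.node (.leaf 0) (.leaf 0)) (.node (.leaf 0) (.leaf 0))) (.node (.node (.leaf 0) (.leaf 0)) (.node (.leaf 0) (.leaf 0)))))) (.node (.node (.node (.node (.node (.leaf 0) (.leaf 0)) (.node (.leaf 0) (.leaf 0))) (.node (.node (.leaf 0) (.leaf 0)) (.node (.leaf 0) (.leaf 0)))) (.node (.node (.node (.leaf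 0) (.leaf 0)) (.node (.leaf 0) (.leaf 0))) (.node (.node (.leaf 0) (.leaf 0)) (.node (.leaf 0) (.leaf 0))))) (.node (.node (.node (.node (.leaf 0) (.leaf 0)) (.node (.leaf 0) (.leaf 0))) (.node (.node (.leaf 0) (.leaf 0)) (.node (.leaf 0) (.leaf 0)))) (.node (.node (.node (.leaf 0) (.leaf 0)) (.node (.leaf 0) (.leaf 0))) (.node (.node (.leaf 0) (.leaf 0)) (.node (.leaf 0) (.leaf 0)))))))

/-- A point of the block, part 751. -/
def ptCodePart751 : Janko1.Tree ℕ := (.node (.node (.node (.node (.node (.node (.leaf 0) (.leaf 0)) (.node (.leaf 0) (.leaf 0))) (.node (.node (.leaf 0) (.leaf 0)) (.node (.leaf 0) (.leaf 0)))) (.node (.node (.node (.leaf 0) (.leaf 0)) (.node (.leaf 0) (.leaf 0))) (.node (.node (.leaf 0) (.leaf 0)) (.node (.leaf 0) (.leaf 0))))) (.node (.node (.node (.node (.leaf 0) (.leaf 0)) (.node (.leaf 0) (.leaf 0))) (.node (.node (.leaf 0) (.leaf 0)) (.node (.leaf 0) (.leaf 0)))) (.node (.node (.node (.leaf 0) (.leaf 0)) (.node (.leaf 0) (.leaf 0))) (.node (.node (.leaf 0) (.leaf 0)) (.node (.leaf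 0) (.leaf 0)))))) (.node (.node (.node (.node (.node (.leaf 0) (.leaf 0)) (.node (.leaf 0) (.leaf 0))) (.node (.node (.leaf 0) (.leaf 0)) (.node (.leaf 0) (.leaf 0)))) (.node (.node (.node (.leaf 0) (.leaf 0)) (.node (.leaf 0) (.leaf 0))) (.node (.node (.leaf 0) (.leaf 0)) (.node (.leaf 0) (.leaf 0))))) (.node (.node (.node (.node (.leaf 0) (.leaf 0)) (.node (.leaf 0) (.leaf 0))) (.node (.node (.leaf 0) (.leaf 0)) (.node (.leaf 0) (.leaf 0)))) (.node (.node (.node (.leaf 0) (.leaf 0)) (.node (.leaf 0) (.leaf 0))) (.node (.node (.leaf 0) (.leaf 0)) (.node (.leaf 0) (.leaf 0)))))))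

/-- A point of the block, part 752. -/
def ptCodePart752 : Janko1.Tree ℕ := (.node (.node (.node (.node (.node (.node (.leaf 0) (.leaf 0)) (.node (.leaf 0) (.leaf 0))) (.node (.node (.leaf 0) (.leaf 0)) (.node (.leaf 0) (.leaf 0)))) (.node (.node (.node (.leaf 0) (.leaf 0)) (.node (.leaf 0) (.leaf 0))) (.node (.node (.leaf 0) (.leaf 0)) (.node (.leaf 0) (.leaf 0))))) (.node (.node (.node (.node (.leaf 0) (.leaf 0)) (.node (.leaf 0) (.leaf 0))) (.node (.node (.leaf 0) (.leaf 0)) (.node (.leaf 0) (.leaf 0)))) (.node (.node (.node (.leaf 0) (.leaf 0)) (.node (.leaf 0) (.leaf 0))) (.node (.node (.leaf 0) (.leaf 0)) (.node (.leaf 0) (.leaf 0)))))) (.node (.node (.node (.node (.node (.leaf 0) (.leaf 0)) (.node (.leaf 0) (.leaf 0))) (.node (.node (.leaf 0) (.leaf 0)) (.node (.leaf 0) (.leaf 0)))) (.node (.node (.node (.leaf 0) (.leaf 0)) (.node (.leaf 0) (.leaf 0))) (.node (.node (.leaf 0) (.leaf 0)) (.node (.leaf 0) (.leaf 0))))) (.node (.node (.node (.node (.leaf 0) (.leaf 0)) (.node (.leaf 0) (.leaf 0))) (.node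 (.node (.leaf 0) (.leaf 0)) (.node (.leaf 0) (.leaf 0)))) (.node (.node (.node (.leaf 0) (.leaf 0)) (.node (.leaf 0) (.leaf 0))) (.node (.node (.leaf 0) (.leaf 0)) (.node (.leaf 0) (.leaf 0)))))))

/-- A point of the block, part 753. -/
def ptCodePart753 : Janko1.Tree ℕ := (.node (.node (.node (.node (.node (.node (.leaf 0) (.leaf 0)) (.node (.leaf 0) (.leaf 0))) (.node (.node (.leaf 0) (.leaf 0)) (.node (.leaf 0) (.leaf 0)))) (.node (.node (.node (.leaf 0) (.leaf 0)) (.node (.leaf 0) (.leaf 0))) (.node (.node (.leaf 0) (.leaf 0)) (.node (.leaf 0) (.leaf 0))))) (.node (.node (.node (.node (.leaf 0) (.leaf 0)) (.node (.leaf 0) (.leaf 0))) (.node (.node (.leaf 0) (.leaf 0)) (.node (.leaf 0) (.leaf 0)))) (.node (.node (.node (.leaf 0) (.leaf 0)) (.node (.leaf 0) (.leaf 0))) (.node (.node (.leaf 0) (.leaf 0)) (.node (.leaf 0) (.leaf 0)))))) (.node (.node (.node (.node (.node (.leaf 0) (.leaf 0)) (.node (.leaf 0) (.leaf 0))) (.node (.node (.leaf 0) (.leaf 0)) (.node (.leaf 0) (.leaf 0)))) (.node (.node (.node (.leaf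 0) (.leaf 0)) (.node (.leaf 0) (.leaf 0))) (.node (.node (.leaf 0) (.leaf 0)) (.node (.leaf 0) (.leaf 0))))) (.node (.node (.node (.node (.leaf 0) (.leaf 0)) (.node (.leaf 0) (.leaf 0))) (.node (.node (.leaf 0) (.leaf 0)) (.node (.leaf 0) (.leaf 0)))) (.node (.node (.node (.leaf 0) (.leaf 0)) (.node (.leaf 0) (.leaf 0))) (.node (.node (.leaf 0) (.leaf 0)) (.node (.leaf 0) (.leaf 0)))))))

/-- A point of the block, part 754. -/
def ptCodePart754 : Janko1.Tree ℕ := (.node (.node (.node (.node (.node (.node (.leaf 0) (.leaf 0)) (.node (.leaf 0) (.leaf 0))) (.node (.node (.leaf 0) (.leaf 0)) (.node (.leaf 0) (.leaf 0)))) (.node (.node (.node (.leaf 0) (.leaf 0)) (.node (.leaf 0) (.leaf 0))) (.node (.node (.leaf 0) (.leaf 0)) (.node (.leaf 0) (.leaf 0))))) (.node (.node (.node (.node (.leaf 0) (.leaf 0)) (.node (.leaf 0) (.leaf 0))) (.node (.node (.leaf 0) (.leaf 0)) (.node (.leaf 0) (.leaf 0)))) (.node (.node (.node (.leaf 0) (.leaf 0)) (.node (.leaf 0) (.leaf 0))) (.node (.node (.leaf 0) (.leaf 0)) (.node (.leaf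 0) (.leaf 0)))))) (.node (.node (.node (.node (.node (.leaf 0) (.leaf 0)) (.node (.leaf 0) (.leaf 0))) (.node (.node (.leaf 0) (.leaf 0)) (.node (.leaf 0) (.leaf 0)))) (.node (.node (.node (.leaf 0) (.leaf 0)) (.node (.leaf 0) (.leaf 0))) (.node (.node (.leaf 0) (.leaf 0)) (.node (.leaf 0) (.leaf 0))))) (.node (.node (.node (.node (.leaf 0) (.leaf 0)) (.node (.leaf 0) (.leaf 0))) (.node (.node (.leaf 0) (.leaf 0)) (.node (.leaf 0) (.leaf 0)))) (.node (.node (.node (.leaf 0) (.leaf 0)) (.node (.leaf 0) (.leaf 0))) (.node (.node (.leaf 0) (.leaf 0)) (.node (.leaf 0) (.leaf 0)))))))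

/-- A point of the block, part 755. -/
def ptCodePart755 : Janko1.Tree ℕ := (.node (.node (.node (.node (.node (.node (.leaf 0) (.leaf 0)) (.node (.leaf 0) (.leaf 0))) (.node (.node (.leaf 0) (.leaf 0)) (.node (.leaf 0) (.leaf 0)))) (.node (.node (.node (.leaf 0) (.leaf 0)) (.node (.leaf 0) (.leaf 0))) (.node (.node (.leaf 0) (.leaf 0)) (.node (.leaf 0) (.leaf 0))))) (.node (.node (.node (.node (.leaf 0) (.leaf 0)) (.node (.leaf 0) (.leaf 0))) (.node (.node (.leaf 0) (.leaf 0)) (.node (.leaf 0) (.leaf 0)))) (.node (.node (.node (.leaf 0) (.leaf 0)) (.node (.leaf 0) (.leaf 0))) (.node (.node (.leaf 0) (.leaf 0)) (.node (.leaf 0) (.leaf 0)))))) (.node (.node (.node (.node (.node (.leaf 0) (.leaf 0)) (.node (.leaf 0) (.leaf 0))) (.node (.node (.leaf 0) (.leaf 0)) (.node (.leaf 0) (.leaf 0)))) (.node (.node (.node (.leaf 0) (.leaf 0)) (.node (.leaf 0) (.leaf 0))) (.node (.node (.leaf 0) (.leaf 0)) (.node (.leaf 0) (.leaf 0))))) (.node (.node (.node (.node (.leaf 0) (.leaf 0)) (.node (.leaf 0) (.leaf 0))) (.node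 (.node (.leaf 0) (.leaf 0)) (.node (.leaf 0) (.leaf 0)))) (.node (.node (.node (.leaf 0) (.leaf 0)) (.node (.leaf 0) (.leaf 0))) (.node (.node (.leaf 0) (.leaf 0)) (.node (.leaf 0) (.leaf 0)))))))

/-- A point of the block, part 756. -/
def ptCodePart756 : Janko1.Tree ℕ := (.node (.node (.node (.node (.node (.node (.leaf 0) (.leaf 0)) (.node (.leaf 0) (.leaf 0))) (.node (.node (.leaf 0) (.leaf 0)) (.node (.leaf 0) (.leaf 0)))) (.node (.node (.node (.leaf 0) (.leaf 0)) (.node (.leaf 0) (.leaf 0))) (.node (.node (.leaf 0) (.leaf 0)) (.node (.leaf 0) (.leaf 0))))) (.node (.node (.node (.node (.leaf 0) (.leaf 0)) (.node (.leaf 0) (.leaf 0))) (.node (.node (.leaf 0) (.leaf 0)) (.node (.leaf 0) (.leaf 0)))) (.node (.node (.node (.leaf 0) (.leaf 0)) (.node (.leaf 0) (.leaf 0))) (.node (.node (.leaf 0) (.leaf 0)) (.node (.leaf 0) (.leaf 0)))))) (.node (.node (.node (.node (.node (.leaf 0) (.leaf 0)) (.node (.leaf 0) (.leaf 0))) (.node (.node (.leaf 0) (.leaf 0)) (.node (.leaf 0) (.leaf 0)))) (.node (.node (.node (.leaf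 0) (.leaf 0)) (.node (.leaf 0) (.leaf 0))) (.node (.node (.leaf 0) (.leaf 0)) (.node (.leaf 0) (.leaf 0))))) (.node (.node (.node (.node (.leaf 0) (.leaf 0)) (.node (.leaf 0) (.leaf 0))) (.node (.node (.leaf 0) (.leaf 0)) (.node (.leaf 0) (.leaf 0)))) (.node (.node (.node (.leaf 0) (.leaf 0)) (.node (.leaf 0) (.leaf 0))) (.node (.node (.leaf 0) (.leaf 0)) (.node (.leaf 0) (.leaf 0)))))))

/-- A point of the block, part 757. -/
def ptCodePart757 : Janko1.Tree ℕ := (.node (.node (.node (.node (.node (.node (.leaf 0) (.leaf 0)) (.node (.leaf 0) (.leaf 0))) (.node (.node (.leaf 0) (.leaf 0)) (.node (.leaf 0) (.leaf 0)))) (.node (.node (.node (.leaf 0) (.leaf 0)) (.node (.leaf 0) (.leaf 0))) (.node (.node (.leaf 0) (.leaf 0)) (.node (.leaf 0) (.leaf 0))))) (.node (.node (.node (.node (.leaf 0) (.leaf 0)) (.node (.leaf 0) (.leaf 0))) (.node (.node (.leaf 0) (.leaf 0)) (.node (.leaf 0) (.leaf 0)))) (.node (.node (.node (.leaf 0) (.leaf 0)) (.node (.leaf 0) (.leaf 0))) (.node (.node (.leaf 0) (.leaf 0)) (.node (.leaf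 0) (.leaf 0)))))) (.node (.node (.node (.node (.node (.leaf 0) (.leaf 0)) (.node (.leaf 0) (.leaf 0))) (.node (.node (.leaf 0) (.leaf 0)) (.node (.leaf 0) (.leaf 0)))) (.node (.node (.node (.leaf 0) (.leaf 0)) (.node (.leaf 0) (.leaf 0))) (.node (.node (.leaf 0) (.leaf 0)) (.node (.leaf 0) (.leaf 0))))) (.node (.node (.node (.node (.leaf 0) (.leaf 0)) (.node (.leaf 0) (.leaf 0))) (.node (.node (.leaf 0) (.leaf 0)) (.node (.leaf 0) (.leaf 0)))) (.node (.node (.node (.leaf 0) (.leaf 0)) (.node (.leaf 0) (.leaf 0))) (.node (.node (.leaf 0) (.leaf 0)) (.node (.leaf 0) (.leaf 0)))))))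

/-- A point of the block, part 758. -/
def ptCodePart758 : Janko1.Tree ℕ := (.node (.node (.node (.node (.node (.node (.leaf 0) (.leaf 0)) (.node (.leaf 0) (.leaf 0))) (.node (.node (.leaf 0) (.leaf 0)) (.node (.leaf 0) (.leaf 0)))) (.node (.node (.node (.leaf 0) (.leaf 0)) (.node (.leaf 0) (.leaf 0))) (.node (.node (.leaf 0) (.leaf 0)) (.node (.leaf 0) (.leaf 0))))) (.node (.node (.node (.node (.leaf 0) (.leaf 0)) (.node (.leaf 0) (.leaf 0))) (.node (.node (.leaf 0) (.leaf 0)) (.node (.leaf 0) (.leaf 0)))) (.node (.node (.node (.leaf 0) (.leaf 0)) (.node (.leaf 0) (.leaf 0))) (.node (.node (.leaf 0) (.leaf 0)) (.node (.leaf 0) (.leaf 0)))))) (.node (.node (.node (.node (.node (.leaf 0) (.leaf 0)) (.node (.leaf 0) (.leaf 0))) (.node (.node (.leaf 0) (.leaf 0)) (.node (.leaf 0) (.leaf 0)))) (.node (.node (.node (.leaf 0) (.leaf 0)) (.node (.leaf 0) (.leaf 0))) (.node (.node (.leaf 0) (.leaf 0)) (.node (.leaf 0) (.leaf 0))))) (.node (.node (.node (.node (.leaf 0) (.leaf 0)) (.node (.leaf 0) (.leaf 0))) (.node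 (.node (.leaf 0) (.leaf 0)) (.node (.leaf 0) (.leaf 0)))) (.node (.node (.node (.leaf 0) (.leaf 0)) (.node (.leaf 0) (.leaf 0))) (.node (.node (.leaf 0) (.leaf 0)) (.node (.leaf 0) (.leaf 0)))))))

/-- A point of the block, part 759. -/
def ptCodePart759 : Janko1.Tree ℕ := (.node (.node (.node (.node (.node (.node (.leaf 0) (.leaf 0)) (.node (.leaf 0) (.leaf 0))) (.node (.node (.leaf 0) (.leaf 0)) (.node (.leaf 0) (.leaf 0)))) (.node (.node (.node (.leaf 0) (.leaf 0)) (.node (.leaf 0) (.leaf 0))) (.node (.node (.leaf 0) (.leaf 0)) (.node (.leaf 0) (.leaf 0))))) (.node (.node (.node (.node (.leaf 0) (.leaf 0)) (.node (.leaf 0) (.leaf 0))) (.node (.node (.leaf 0) (.leaf 0)) (.node (.leaf 0) (.leaf 0)))) (.node (.node (.node (.leaf 0) (.leaf 0)) (.node (.leaf 0) (.leaf 0))) (.node (.node (.leaf 0) (.leaf 0)) (.node (.leaf 0) (.leaf 0)))))) (.node (.node (.node (.node (.node (.leaf 0) (.leaf 0)) (.node (.leaf 0) (.leaf 0))) (.node (.node (.leaf 0) (.leaf 0)) (.node (.leaf 0) (.leaf 0)))) (.node (.node (.node (.leaf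 0) (.leaf 0)) (.node (.leaf 0) (.leaf 0))) (.node (.node (.leaf 0) (.leaf 0)) (.node (.leaf 0) (.leaf 0))))) (.node (.node (.node (.node (.leaf 0) (.leaf 0)) (.node (.leaf 0) (.leaf 0))) (.node (.node (.leaf 0) (.leaf 0)) (.node (.leaf 0) (.leaf 0)))) (.node (.node (.node (.leaf 0) (.leaf 0)) (.node (.leaf 0) (.leaf 0))) (.node (.node (.leaf 0) (.leaf 0)) (.node (.leaf 0) (.leaf 0)))))))

/-- A point of the block, part 760. -/
def ptCodePart760 : Janko1.Tree ℕ := (.node (.node (.node (.node (.node (.node (.leaf 0) (.leaf 0)) (.node (.leaf 0) (.leaf 0))) (.node (.node (.leaf 0) (.leaf 0)) (.node (.leaf 0) (.leaf 0)))) (.node (.node (.node (.leaf 0) (.leaf 0)) (.node (.leaf 0) (.leaf 0))) (.node (.node (.leaf 0) (.leaf 0)) (.node (.leaf 0) (.leaf 0))))) (.node (.node (.node (.node (.leaf 0) (.leaf 0)) (.node (.leaf 0) (.leaf 0))) (.node (.node (.leaf 0) (.leaf 0)) (.node (.leaf 0) (.leaf 0)))) (.node (.node (.node (.leaf 0) (.leaf 0)) (.node (.leaf 0) (.leaf 0))) (.node (.node (.leaf 0) (.leaf 0)) (.node (.leaf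 0) (.leaf 0)))))) (.node (.node (.node (.node (.node (.leaf 0) (.leaf 0)) (.node (.leaf 0) (.leaf 0))) (.node (.node (.leaf 0) (.leaf 0)) (.node (.leaf 0) (.leaf 0)))) (.node (.node (.node (.leaf 0) (.leaf 0)) (.node (.leaf 0) (.leaf 0))) (.node (.node (.leaf 0) (.leaf 0)) (.node (.leaf 0) (.leaf 0))))) (.node (.node (.node (.node (.leaf 0) (.leaf 0)) (.node (.leaf 0) (.leaf 0))) (.node (.node (.leaf 0) (.leaf 0)) (.node (.leaf 0) (.leaf 0)))) (.node (.node (.node (.leaf 0) (.leaf 0)) (.node (.leaf 0) (.leaf 0))) (.node (.node (.leaf 0) (.leaf 0)) (.node (.leaf 0) (.leaf 0)))))))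

/-- A point of the block, part 761. -/
def ptCodePart761 : Janko1.Tree ℕ := (.node (.node (.node (.node (.node (.node (.leaf 0) (.leaf 0)) (.node (.leaf 0) (.leaf 0))) (.node (.node (.leaf 0) (.leaf 0)) (.node (.leaf 0) (.leaf 0)))) (.node (.node (.node (.leaf 0) (.leaf 0)) (.node (.leaf 0) (.leaf 0))) (.node (.node (.leaf 0) (.leaf 0)) (.node (.leaf 0) (.leaf 0))))) (.node (.node (.node (.node (.leaf 0) (.leaf 0)) (.node (.leaf 0) (.leaf 0))) (.node (.node (.leaf 0) (.leaf 0)) (.node (.leaf 0) (.leaf 0)))) (.node (.node (.node (.leaf 0) (.leaf 0)) (.node (.leaf 0) (.leaf 0))) (.node (.node (.leaf 0) (.leaf 0)) (.node (.leaf 0) (.leaf 0)))))) (.node (.node (.node (.node (.node (.leaf 0) (.leaf 0)) (.node (.leaf 0) (.leaf 0))) (.node (.node (.leaf 0) (.leaf 0)) (.node (.leaf 0) (.leaf 0)))) (.node (.node (.node (.leaf 0) (.leaf 0)) (.node (.leaf 0) (.leaf 0))) (.node (.node (.leaf 0) (.leaf 0)) (.node (.leaf 0) (.leaf 0))))) (.node (.node (.node (.node (.leaf 0) (.leaf 0)) (.node (.leaf 0) (.leaf 0))) (.node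 (.node (.leaf 0) (.leaf 0)) (.node (.leaf 0) (.leaf 0)))) (.node (.node (.node (.leaf 0) (.leaf 0)) (.node (.leaf 0) (.leaf 0))) (.node (.node (.leaf 0) (.leaf 0)) (.node (.leaf 0) (.leaf 0)))))))

/-- A point of the block, part 762. -/
def ptCodePart762 : Janko1.Tree ℕ := (.node (.node (.node (.node (.node (.node (.leaf 0) (.leaf 0)) (.node (.leaf 0) (.leaf 0))) (.node (.node (.leaf 0) (.leaf 0)) (.node (.leaf 0) (.leaf 0)))) (.node (.node (.node (.leaf 0) (.leaf 0)) (.node (.leaf 0) (.leaf 0))) (.node (.node (.leaf 0) (.leaf 0)) (.node (.leaf 0) (.leaf 0))))) (.node (.node (.node (.node (.leaf 0) (.leaf 0)) (.node (.leaf 0) (.leaf 0))) (.node (.node (.leaf 0) (.leaf 0)) (.node (.leaf 0) (.leaf 0)))) (.node (.node (.node (.leaf 0) (.leaf 0)) (.node (.leaf 0) (.leaf 0))) (.node (.node (.leaf 0) (.leaf 0)) (.node (.leaf 0) (.leaf 0)))))) (.node (.node (.node (.node (.node (.leaf 0) (.leaf 0)) (.node (.leaf 0) (.leaf 0))) (.node (.node (.leaf 0) (.leaf 0)) (.node (.leaf 0) (.leaf 0)))) (.node (.node (.node (.leaf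 0) (.leaf 0)) (.node (.leaf 0) (.leaf 0))) (.node (.node (.leaf 0) (.leaf 0)) (.node (.leaf 0) (.leaf 0))))) (.node (.node (.node (.node (.leaf 0) (.leaf 0)) (.node (.leaf 0) (.leaf 0))) (.node (.node (.leaf 0) (.leaf 0)) (.node (.leaf 0) (.leaf 0)))) (.node (.node (.node (.leaf 0) (.leaf 0)) (.node (.leaf 0) (.leaf 0))) (.node (.node (.leaf 0) (.leaf 0)) (.node (.leaf 0) (.leaf 0)))))))

/-- A point of the block, part 763. -/
def ptCodePart763 : Janko1.Tree ℕ := (.node (.node (.node (.node (.node (.node (.leaf 0) (.leaf 0)) (.node (.leaf 0) (.leaf 0))) (.node (.node (.leaf 0) (.leaf 0)) (.node (.leaf 0) (.leaf 0)))) (.node (.node (.node (.leaf 0) (.leaf 0)) (.node (.leaf 0) (.leaf 0))) (.node (.node (.leaf 0) (.leaf 0)) (.node (.leaf 0) (.leaf 0))))) (.node (.node (.node (.node (.leaf 0) (.leaf 0)) (.node (.leaf 0) (.leaf 0))) (.node (.node (.leaf 0) (.leaf 0)) (.node (.leaf 0) (.leaf 0)))) (.node (.node (.node (.leaf 0) (.leaf 0)) (.node (.leaf 0) (.leaf 0))) (.node (.node (.leaf 0) (.leaf 0)) (.node (.leaf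 0) (.leaf 0)))))) (.node (.node (.node (.node (.node (.leaf 0) (.leaf 0)) (.node (.leaf 0) (.leaf 0))) (.node (.node (.leaf 0) (.leaf 0)) (.node (.leaf 0) (.leaf 0)))) (.node (.node (.node (.leaf 0) (.leaf 0)) (.node (.leaf 0) (.leaf 0))) (.node (.node (.leaf 0) (.leaf 0)) (.node (.leaf 0) (.leaf 0))))) (.node (.node (.node (.node (.leaf 0) (.leaf 0)) (.node (.leaf 0) (.leaf 0))) (.node (.node (.leaf 0) (.leaf 0)) (.node (.leaf 0) (.leaf 0)))) (.node (.node (.node (.leaf 0) (.leaf 0)) (.node (.leaf 0) (.leaf 0))) (.node (.node (.leaf 0) (.leaf 0)) (.node (.leaf 0) (.leaf 0)))))))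

/-- A point of the block, part 764. -/
def ptCodePart764 : Janko1.Tree ℕ := (.node (.node (.node (.node (.node (.node (.leaf 0) (.leaf 0)) (.node (.leaf 0) (.leaf 0))) (.node (.node (.leaf 0) (.leaf 0)) (.node (.leaf 0) (.leaf 0)))) (.node (.node (.node (.leaf 0) (.leaf 0)) (.node (.leaf 0) (.leaf 0))) (.node (.node (.leaf 0) (.leaf 0)) (.node (.leaf 0) (.leaf 0))))) (.node (.node (.node (.node (.leaf 0) (.leaf 0)) (.node (.leaf 0) (.leaf 0))) (.node (.node (.leaf 0) (.leaf 0)) (.node (.leaf 0) (.leaf 0)))) (.node (.node (.node (.leaf 0) (.leaf 0)) (.node (.leaf 0) (.leaf 0))) (.node (.node (.leaf 0) (.leaf 0)) (.node (.leaf 0) (.leaf 0)))))) (.node (.node (.node (.node (.node (.leaf 0) (.leaf 0)) (.node (.leaf 0) (.leaf 0))) (.node (.node (.leaf 0) (.leaf 0)) (.node (.leaf 0) (.leaf 0)))) (.node (.node (.node (.leaf 0) (.leaf 0)) (.node (.leaf 0) (.leaf 0))) (.node (.node (.leaf 0) (.leaf 0)) (.node (.leaf 0) (.leaf 0))))) (.node (.node (.node (.node (.leaf 0) (.leaf 0)) (.node (.leaf 0) (.leaf 0))) (.node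 (.node (.leaf 0) (.leaf 0)) (.node (.leaf 0) (.leaf 0)))) (.node (.node (.node (.leaf 0) (.leaf 0)) (.node (.leaf 0) (.leaf 0))) (.node (.node (.leaf 0) (.leaf 0)) (.node (.leaf 0) (.leaf 0)))))))

/-- A point of the block, part 765. -/
def ptCodePart765 : Janko1.Tree ℕ := (.node (.node (.node (.node (.node (.node (.leaf 0) (.leaf 0)) (.node (.leaf 0) (.leaf 0))) (.node (.node (.leaf 0) (.leaf 0)) (.node (.leaf 0) (.leaf 0)))) (.node (.node (.node (.leaf 0) (.leaf 0)) (.node (.leaf 0) (.leaf 0))) (.node (.node (.leaf 0) (.leaf 0)) (.node (.leaf 0) (.leaf 0))))) (.node (.node (.node (.node (.leaf 0) (.leaf 0)) (.node (.leaf 0) (.leaf 0))) (.node (.node (.leaf 0) (.leaf 0)) (.node (.leaf 0) (.leaf 0)))) (.node (.node (.node (.leaf 0) (.leaf 0)) (.node (.leaf 0) (.leaf 0))) (.node (.node (.leaf 0) (.leaf 0)) (.node (.leaf 0) (.leaf 0)))))) (.node (.node (.node (.node (.node (.leaf 0) (.leaf 0)) (.node (.leaf 0) (.leaf 0))) (.node (.node (.leaf 0) (.leaf 0)) (.node (.leaf 0) (.leaf 0)))) (.node (.node (.node (.leaf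 0) (.leaf 0)) (.node (.leaf 0) (.leaf 0))) (.node (.node (.leaf 0) (.leaf 0)) (.node (.leaf 0) (.leaf 0))))) (.node (.node (.node (.node (.leaf 0) (.leaf 0)) (.node (.leaf 0) (.leaf 0))) (.node (.node (.leaf 0) (.leaf 0)) (.node (.leaf 0) (.leaf 0)))) (.node (.node (.node (.leaf 0) (.leaf 0)) (.node (.leaf 0) (.leaf 0))) (.node (.node (.leaf 0) (.leaf 0)) (.node (.leaf 0) (.leaf 0)))))))

/-- A point of the block, part 766. -/
def ptCodePart766 : Janko1.Tree ℕ := (.node (.node (.node (.node (.node (.node (.leaf 0) (.leaf 0)) (.node (.leaf 0) (.leaf 0))) (.node (.node (.leaf 0) (.leaf 0)) (.node (.leaf 0) (.leaf 0)))) (.node (.node (.node (.leaf 0) (.leaf 0)) (.node (.leaf 0) (.leaf 0))) (.node (.node (.leaf 0) (.leaf 0)) (.node (.leaf 0) (.leaf 0))))) (.node (.node (.node (.node (.leaf 0) (.leaf 0)) (.node (.leaf 0) (.leaf 0))) (.node (.node (.leaf 0) (.leaf 0)) (.node (.leaf 0) (.leaf 0)))) (.node (.node (.node (.leaf 0) (.leaf 0)) (.node (.leaf 0) (.leaf 0))) (.node (.node (.leaf 0) (.leaf 0)) (.node (.leaf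 0) (.leaf 0)))))) (.node (.node (.node (.node (.node (.leaf 0) (.leaf 0)) (.node (.leaf 0) (.leaf 0))) (.node (.node (.leaf 0) (.leaf 0)) (.node (.leaf 0) (.leaf 0)))) (.node (.node (.node (.leaf 0) (.leaf 0)) (.node (.leaf 0) (.leaf 0))) (.node (.node (.leaf 0) (.leaf 0)) (.node (.leaf 0) (.leaf 0))))) (.node (.node (.node (.node (.leaf 0) (.leaf 0)) (.node (.leaf 0) (.leaf 0))) (.node (.node (.leaf 0) (.leaf 0)) (.node (.leaf 0) (.leaf 0)))) (.node (.node (.node (.leaf 0) (.leaf 0)) (.node (.leaf 0) (.leaf 0))) (.node (.node (.leaf 0) (.leaf 0)) (.node (.leaf 0) (.leaf 0)))))))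

/-- A point of the block, part 767. -/
def ptCodePart767 : Janko1.Tree ℕ := (.node (.node (.node (.node (.node (.node (.leaf 0) (.leaf 0)) (.node (.leaf 0) (.leaf 0))) (.node (.node (.leaf 0) (.leaf 0)) (.node (.leaf 0) (.leaf 0)))) (.node (.node (.node (.leaf 0) (.leaf 0)) (.node (.leaf 0) (.leaf 0))) (.node (.node (.leaf 0) (.leaf 0)) (.node (.leaf 0) (.leaf 0))))) (.node (.node (.node (.node (.leaf 0) (.leaf 0)) (.node (.leaf 0) (.leaf 0))) (.node (.node (.leaf 0) (.leaf 0)) (.node (.leaf 0) (.leaf 0)))) (.node (.node (.node (.leaf 0) (.leaf 0)) (.node (.leaf 0) (.leaf 0))) (.node (.node (.leaf 0) (.leaf 0)) (.node (.leaf 0) (.leaf 0)))))) (.node (.node (.node (.node (.node (.leaf 0) (.leaf 0)) (.node (.leaf 0) (.leaf 0))) (.node (.node (.leaf 0) (.leaf 0)) (.node (.leaf 0) (.leaf 0)))) (.node (.node (.node (.leaf 0) (.leaf 0)) (.node (.leaf 0) (.leaf 0))) (.node (.node (.leaf 0) (.leaf 0)) (.node (.leaf 0) (.leaf 0))))) (.node (.node (.node (.node (.leaf 0) (.leaf 0)) (.node (.leaf 0) (.leaf 0))) (.node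 (.node (.leaf 0) (.leaf 0)) (.node (.leaf 0) (.leaf 0)))) (.node (.node (.node (.leaf 0) (.leaf 0)) (.node (.leaf 0) (.leaf 0))) (.node (.node (.leaf 0) (.leaf 0)) (.node (.leaf 0) (.leaf 0)))))))

/-- A point of the block, part 768. -/
def ptCodePart768 : Janko1.Tree ℕ := (.node (.node (.node (.node (.node (.node (.leaf 0) (.leaf 0)) (.node (.leaf 0) (.leaf 0))) (.node (.node (.leaf 0) (.leaf 0)) (.node (.leaf 0) (.leaf 0)))) (.node (.node (.node (.leaf 0) (.leaf 0)) (.node (.leaf 0) (.leaf 0))) (.node (.node (.leaf 0) (.leaf 0)) (.node (.leaf 0) (.leaf 0))))) (.node (.node (.node (.node (.leaf 0) (.leaf 0)) (.node (.leaf 0) (.leaf 0))) (.node (.node (.leaf 0) (.leaf 0)) (.node (.leaf 0) (.leaf 0)))) (.node (.node (.node (.leaf 0) (.leaf 0)) (.node (.leaf 0) (.leaf 0))) (.node (.node (.leaf 0) (.leaf 0)) (.node (.leaf 0) (.leaf 0)))))) (.node (.node (.node (.node (.node (.leaf 0) (.leaf 0)) (.node (.leaf 0) (.leaf 0))) (.node (.node (.leaf 0) (.leaf 0)) (.node (.leaf 0) (.leaf 0)))) (.node (.node (.node (.leaf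 0) (.leaf 0)) (.node (.leaf 0) (.leaf 0))) (.node (.node (.leaf 0) (.leaf 0)) (.node (.leaf 0) (.leaf 0))))) (.node (.node (.node (.node (.leaf 0) (.leaf 0)) (.node (.leaf 0) (.leaf 0))) (.node (.node (.leaf 0) (.leaf 0)) (.node (.leaf 0) (.leaf 0)))) (.node (.node (.node (.leaf 0) (.leaf 0)) (.node (.leaf 0) (.leaf 0))) (.node (.node (.leaf 0) (.leaf 0)) (.node (.leaf 0) (.leaf 0)))))))

/-- A point of the block, part 769. -/
def ptCodePart769 : Janko1.Tree ℕ := (.node (.node (.node (.node (.node (.node (.leaf 0) (.leaf 0)) (.node (.leaf 0) (.leaf 0))) (.node (.node (.leaf 0) (.leaf 0)) (.node (.leaf 0) (.leaf 0)))) (.node (.node (.node (.leaf 0) (.leaf 0)) (.node (.leaf 0) (.leaf 0))) (.node (.node (.leaf 0) (.leaf 0)) (.node (.leaf 0) (.leaf 0))))) (.node (.node (.node (.node (.leaf 0) (.leaf 0)) (.node (.leaf 0) (.leaf 0))) (.node (.node (.leaf 0) (.leaf 0)) (.node (.leaf 0) (.leaf 0)))) (.node (.node (.node (.leaf 0) (.leaf 0)) (.node (.leaf 0) (.leaf 0))) (.node (.node (.leaf 0) (.leaf 0)) (.node (.leaf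 0) (.leaf 0)))))) (.node (.node (.node (.node (.node (.leaf 0) (.leaf 0)) (.node (.leaf 0) (.leaf 0))) (.node (.node (.leaf 0) (.leaf 0)) (.node (.leaf 0) (.leaf 0)))) (.node (.node (.node (.leaf 0) (.leaf 0)) (.node (.leaf 0) (.leaf 0))) (.node (.node (.leaf 0) (.leaf 0)) (.node (.leaf 0) (.leaf 0))))) (.node (.node (.node (.node (.leaf 0) (.leaf 0)) (.node (.leaf 0) (.leaf 0))) (.node (.node (.leaf 0) (.leaf 0)) (.node (.leaf 0) (.leaf 0)))) (.node (.node (.node (.leaf 0) (.leaf 0)) (.node (.leaf 0) (.leaf 0))) (.node (.node (.leaf 0) (.leaf 0)) (.node (.leaf 0) (.leaf 0)))))))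

/-- A point of the block, part 770. -/
def ptCodePart770 : Janko1.Tree ℕ := (.node (.node (.node (.node (.node (.node (.leaf 0) (.leaf 0)) (.node (.leaf 0) (.leaf 0))) (.node (.node (.leaf 0) (.leaf 0)) (.node (.leaf 0) (.leaf 0)))) (.node (.node (.node (.leaf 0) (.leaf 0)) (.node (.leaf 0) (.leaf 0))) (.node (.node (.leaf 0) (.leaf 0)) (.node (.leaf 0) (.leaf 0))))) (.node (.node (.node (.node (.leaf 0) (.leaf 0)) (.node (.leaf 0) (.leaf 0))) (.node (.node (.leaf 0) (.leaf 0)) (.node (.leaf 0) (.leaf 0)))) (.node (.node (.node (.leaf 0) (.leaf 0)) (.node (.leaf 0) (.leaf 0))) (.node (.node (.leaf 0) (.leaf 0)) (.node (.leaf 0) (.leaf 0)))))) (.node (.node (.node (.node (.node (.leaf 0) (.leaf 0)) (.node (.leaf 0) (.leaf 0))) (.node (.node (.leaf 0) (.leaf 0)) (.node (.leaf 0) (.leaf 0)))) (.node (.node (.node (.leaf 0) (.leaf 0)) (.node (.leaf 0) (.leaf 0))) (.node (.node (.leaf 0) (.leaf 0)) (.node (.leaf 0) (.leaf 0))))) (.node (.node (.node (.node (.leaf 0) (.leaf 0)) (.node (.leaf 0) (.leaf 0))) (.node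 (.node (.leaf 0) (.leaf 0)) (.node (.leaf 0) (.leaf 0)))) (.node (.node (.node (.leaf 0) (.leaf 0)) (.node (.leaf 0) (.leaf 0))) (.node (.node (.leaf 0) (.leaf 0)) (.node (.leaf 0) (.leaf 0)))))))

/-- A point of the block, part 771. -/
def ptCodePart771 : Janko1.Tree ℕ := (.node (.node (.node (.node (.node (.node (.leaf 0) (.leaf 0)) (.node (.leaf 0) (.leaf 0))) (.node (.node (.leaf 0) (.leaf 0)) (.node (.leaf 0) (.leaf 0)))) (.node (.node (.node (.leaf 0) (.leaf 0)) (.node (.leaf 0) (.leaf 0))) (.node (.node (.leaf 0) (.leaf 0)) (.node (.leaf 0) (.leaf 0))))) (.node (.node (.node (.node (.leaf 0) (.leaf 0)) (.node (.leaf 0) (.leaf 0))) (.node (.node (.leaf 0) (.leaf 0)) (.node (.leaf 0) (.leaf 0)))) (.node (.node (.node (.leaf 0) (.leaf 0)) (.node (.leaf 0) (.leaf 0))) (.node (.node (.leaf 0) (.leaf 0)) (.node (.leaf 0) (.leaf 0)))))) (.node (.node (.node (.node (.node (.leaf 0) (.leaf 0)) (.node (.leaf 0) (.leaf 0))) (.node (.node (.leaf 0) (.leaf 0)) (.node (.leaf 0) (.leaf 0)))) (.node (.node (.node (.leaf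 0) (.leaf 0)) (.node (.leaf 0) (.leaf 0))) (.node (.node (.leaf 0) (.leaf 0)) (.node (.leaf 0) (.leaf 0))))) (.node (.node (.node (.node (.leaf 0) (.leaf 0)) (.node (.leaf 0) (.leaf 0))) (.node (.node (.leaf 0) (.leaf 0)) (.node (.leaf 0) (.leaf 0)))) (.node (.node (.node (.leaf 0) (.leaf 0)) (.node (.leaf 0) (.leaf 0))) (.node (.node (.leaf 0) (.leaf 0)) (.node (.leaf 0) (.leaf 0)))))))

/-- A point of the block, part 772. -/
def ptCodePart772 : Janko1.Tree ℕ := (.node (.node (.node (.node (.node (.node (.leaf 0) (.leaf 0)) (.node (.leaf 0) (.leaf 0))) (.node (.node (.leaf 0) (.leaf 0)) (.node (.leaf 0) (.leaf 0)))) (.node (.node (.node (.leaf 0) (.leaf 0)) (.node (.leaf 0) (.leaf 0))) (.node (.node (.leaf 0) (.leaf 0)) (.node (.leaf 0) (.leaf 0))))) (.node (.node (.node (.node (.leaf 0) (.leaf 0)) (.node (.leaf 0) (.leaf 0))) (.node (.node (.leaf 0) (.leaf 0)) (.node (.leaf 0) (.leaf 0)))) (.node (.node (.node (.leaf 0) (.leaf 0)) (.node (.leaf 0) (.leaf 0))) (.node (.node (.leaf 0) (.leaf 0)) (.node (.leaf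 0) (.leaf 0)))))) (.node (.node (.node (.node (.node (.leaf 0) (.leaf 0)) (.node (.leaf 0) (.leaf 0))) (.node (.node (.leaf 0) (.leaf 0)) (.node (.leaf 0) (.leaf 0)))) (.node (.node (.node (.leaf 0) (.leaf 0)) (.node (.leaf 0) (.leaf 0))) (.node (.node (.leaf 0) (.leaf 0)) (.node (.leaf 0) (.leaf 0))))) (.node (.node (.node (.node (.leaf 0) (.leaf 0)) (.node (.leaf 0) (.leaf 0))) (.node (.node (.leaf 0) (.leaf 0)) (.node (.leaf 0) (.leaf 0)))) (.node (.node (.node (.leaf 0) (.leaf 0)) (.node (.leaf 0) (.leaf 0))) (.node (.node (.leaf 0) (.leaf 0)) (.node (.leaf 0) (.leaf 0)))))))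

/-- A point of the block, part 773. -/
def ptCodePart773 : Janko1.Tree ℕ := (.node (.node (.node (.node (.node (.node (.leaf 0) (.leaf 0)) (.node (.leaf 0) (.leaf 0))) (.node (.node (.leaf 0) (.leaf 0)) (.node (.leaf 0) (.leaf 0)))) (.node (.node (.node (.leaf 0) (.leaf 0)) (.node (.leaf 0) (.leaf 0))) (.node (.node (.leaf 0) (.leaf 0)) (.node (.leaf 0) (.leaf 0))))) (.node (.node (.node (.node (.leaf 0) (.leaf 0)) (.node (.leaf 0) (.leaf 0))) (.node (.node (.leaf 0) (.leaf 0)) (.node (.leaf 0) (.leaf 0)))) (.node (.node (.node (.leaf 0) (.leaf 0)) (.node (.leaf 0) (.leaf 0))) (.node (.node (.leaf 0) (.leaf 0)) (.node (.leaf 0) (.leaf 0)))))) (.node (.node (.node (.node (.node (.leaf 0) (.leaf 0)) (.node (.leaf 0) (.leaf 0))) (.node (.node (.leaf 0) (.leaf 0)) (.node (.leaf 0) (.leaf 0)))) (.node (.node (.node (.leaf 0) (.leaf 0)) (.node (.leaf 0) (.leaf 0))) (.node (.node (.leaf 0) (.leaf 0)) (.node (.leaf 0) (.leaf 0))))) (.node (.node (.node (.node (.leaf 0) (.leaf 0)) (.node (.leaf 0) (.leaf 0))) (.node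 (.node (.leaf 0) (.leaf 0)) (.node (.leaf 0) (.leaf 0)))) (.node (.node (.node (.leaf 0) (.leaf 0)) (.node (.leaf 0) (.leaf 0))) (.node (.node (.leaf 0) (.leaf 0)) (.node (.leaf 0) (.leaf 0)))))))

/-- A point of the block, part 774. -/
def ptCodePart774 : Janko1.Tree ℕ := (.node (.node (.node (.node (.node (.node (.leaf 0) (.leaf 0)) (.node (.leaf 0) (.leaf 0))) (.node (.node (.leaf 0) (.leaf 0)) (.node (.leaf 0) (.leaf 0)))) (.node (.node (.node (.leaf 0) (.leaf 0)) (.node (.leaf 0) (.leaf 0))) (.node (.node (.leaf 0) (.leaf 0)) (.node (.leaf 0) (.leaf 0))))) (.node (.node (.node (.node (.leaf 0) (.leaf 0)) (.node (.leaf 0) (.leaf 0))) (.node (.node (.leaf 0) (.leaf 0)) (.node (.leaf 0) (.leaf 0)))) (.node (.node (.node (.leaf 0) (.leaf 0)) (.node (.leaf 0) (.leaf 0))) (.node (.node (.leaf 0) (.leaf 0)) (.node (.leaf 0) (.leaf 0)))))) (.node (.node (.node (.node (.node (.leaf 0) (.leaf 0)) (.node (.leaf 0) (.leaf 0))) (.node (.node (.leaf 0) (.leaf 0)) (.node (.leaf 0) (.leaf 0)))) (.node (.node (.node (.leaf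 0) (.leaf 0)) (.node (.leaf 0) (.leaf 0))) (.node (.node (.leaf 0) (.leaf 0)) (.node (.leaf 0) (.leaf 0))))) (.node (.node (.node (.node (.leaf 0) (.leaf 0)) (.node (.leaf 0) (.leaf 0))) (.node (.node (.leaf 0) (.leaf 0)) (.node (.leaf 0) (.leaf 0)))) (.node (.node (.node (.leaf 0) (.leaf 0)) (.node (.leaf 0) (.leaf 0))) (.node (.node (.leaf 0) (.leaf 0)) (.node (.leaf 0) (.leaf 0)))))))

/-- A point of the block, part 775. -/
def ptCodePart775 : Janko1.Tree ℕ := (.node (.node (.node (.node (.node (.node (.leaf 0) (.leaf 0)) (.node (.leaf 0) (.leaf 0))) (.node (.node (.leaf 0) (.leaf 0)) (.node (.leaf 0) (.leaf 0)))) (.node (.node (.node (.leaf 0) (.leaf 0)) (.node (.leaf 0) (.leaf 0))) (.node (.node (.leaf 0) (.leaf 0)) (.node (.leaf 0) (.leaf 0))))) (.node (.node (.node (.node (.leaf 0) (.leaf 0)) (.node (.leaf 0) (.leaf 0))) (.node (.node (.leaf 0) (.leaf 0)) (.node (.leaf 0) (.leaf 0)))) (.node (.node (.node (.leaf 0) (.leaf 0)) (.node (.leaf 0) (.leaf 0))) (.node (.node (.leaf 0) (.leaf 0)) (.node (.leaf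 0) (.leaf 0)))))) (.node (.node (.node (.node (.node (.leaf 0) (.leaf 0)) (.node (.leaf 0) (.leaf 0))) (.node (.node (.leaf 0) (.leaf 0)) (.node (.leaf 0) (.leaf 0)))) (.node (.node (.node (.leaf 0) (.leaf 0)) (.node (.leaf 0) (.leaf 0))) (.node (.node (.leaf 0) (.leaf 0)) (.node (.leaf 0) (.leaf 0))))) (.node (.node (.node (.node (.leaf 0) (.leaf 0)) (.node (.leaf 0) (.leaf 0))) (.node (.node (.leaf 0) (.leaf 0)) (.node (.leaf 0) (.leaf 0)))) (.node (.node (.node (.leaf 0) (.leaf 0)) (.node (.leaf 0) (.leaf 0))) (.node (.node (.leaf 0) (.leaf 0)) (.node (.leaf 0) (.leaf 0)))))))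

/-- A point of the block, part 776. -/
def ptCodePart776 : Janko1.Tree ℕ := (.node (.node (.node (.node (.node (.node (.leaf 0) (.leaf 0)) (.node (.leaf 0) (.leaf 0))) (.node (.node (.leaf 0) (.leaf 0)) (.node (.leaf 0) (.leaf 0)))) (.node (.node (.node (.leaf 0) (.leaf 0)) (.node (.leaf 0) (.leaf 0))) (.node (.node (.leaf 0) (.leaf 0)) (.node (.leaf 0) (.leaf 0))))) (.node (.node (.node (.node (.leaf 0) (.leaf 0)) (.node (.leaf 0) (.leaf 0))) (.node (.node (.leaf 0) (.leaf 0)) (.node (.leaf 0) (.leaf 0)))) (.node (.node (.node (.leaf 0) (.leaf 0)) (.node (.leaf 0) (.leaf 0))) (.node (.node (.leaf 0) (.leaf 0)) (.node (.leaf 0) (.leaf 0)))))) (.node (.node (.node (.node (.node (.leaf 0) (.leaf 0)) (.node (.leaf 0) (.leaf 0))) (.node (.node (.leaf 0) (.leaf 0)) (.node (.leaf 0) (.leaf 0)))) (.node (.node (.node (.leaf 0) (.leaf 0)) (.node (.leaf 0) (.leaf 0))) (.node (.node (.leaf 0) (.leaf 0)) (.node (.leaf 0) (.leaf 0))))) (.node (.node (.node (.node (.leaf 0) (.leaf 0)) (.node (.leaf 0) (.leaf 0))) (.node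 (.node (.leaf 0) (.leaf 0)) (.node (.leaf 0) (.leaf 0)))) (.node (.node (.node (.leaf 0) (.leaf 0)) (.node (.leaf 0) (.leaf 0))) (.node (.node (.leaf 0) (.leaf 0)) (.node (.leaf 0) (.leaf 0)))))))

/-- A point of the block, part 777. -/
def ptCodePart777 : Janko1.Tree ℕ := (.node (.node (.node (.node (.node (.node (.leaf 0) (.leaf 0)) (.node (.leaf 0) (.leaf 0))) (.node (.node (.leaf 0) (.leaf 0)) (.node (.leaf 0) (.leaf 0)))) (.node (.node (.node (.leaf 0) (.leaf 0)) (.node (.leaf 0) (.leaf 0))) (.node (.node (.leaf 0) (.leaf 0)) (.node (.leaf 0) (.leaf 0))))) (.node (.node (.node (.node (.leaf 0) (.leaf 0)) (.node (.leaf 0) (.leaf 0))) (.node (.node (.leaf 0) (.leaf 0)) (.node (.leaf 0) (.leaf 0)))) (.node (.node (.node (.leaf 0) (.leaf 0)) (.node (.leaf 0) (.leaf 0))) (.node (.node (.leaf 0) (.leaf 0)) (.node (.leaf 0) (.leaf 0)))))) (.node (.node (.node (.node (.node (.leaf 0) (.leaf 0)) (.node (.leaf 0) (.leaf 0))) (.node (.node (.leaf 0) (.leaf 0)) (.node (.leaf 0) (.leaf 0)))) (.node (.node (.node (.leaf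 0) (.leaf 0)) (.node (.leaf 0) (.leaf 0))) (.node (.node (.leaf 0) (.leaf 0)) (.node (.leaf 0) (.leaf 0))))) (.node (.node (.node (.node (.leaf 0) (.leaf 0)) (.node (.leaf 0) (.leaf 0))) (.node (.node (.leaf 0) (.leaf 0)) (.node (.leaf 0) (.leaf 0)))) (.node (.node (.node (.leaf 0) (.leaf 0)) (.node (.leaf 0) (.leaf 0))) (.node (.node (.leaf 0) (.leaf 0)) (.node (.leaf 0) (.leaf 0)))))))

/-- A point of the block, part 778. -/
def ptCodePart778 : Janko1.Tree ℕ := (.node (.node (.node (.node (.node (.node (.leaf 0) (.leaf 0)) (.node (.leaf 0) (.leaf 0))) (.node (.node (.leaf 0) (.leaf 0)) (.node (.leaf 0) (.leaf 0)))) (.node (.node (.node (.leaf 0) (.leaf 0)) (.node (.leaf 0) (.leaf 0))) (.node (.node (.leaf 0) (.leaf 0)) (.node (.leaf 0) (.leaf 0))))) (.node (.node (.node (.node (.leaf 0) (.leaf 0)) (.node (.leaf 0) (.leaf 0))) (.node (.node (.leaf 0) (.leaf 0)) (.node (.leaf 0) (.leaf 0)))) (.node (.node (.node (.leaf 0) (.leaf 0)) (.node (.leaf 0) (.leaf 0))) (.node (.node (.leaf 0) (.leaf 0)) (.node (.leaf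 0) (.leaf 0)))))) (.node (.node (.node (.node (.node (.leaf 0) (.leaf 0)) (.node (.leaf 0) (.leaf 0))) (.node (.node (.leaf 0) (.leaf 0)) (.node (.leaf 0) (.leaf 0)))) (.node (.node (.node (.leaf 0) (.leaf 0)) (.node (.leaf 0) (.leaf 0))) (.node (.node (.leaf 0) (.leaf 0)) (.node (.leaf 0) (.leaf 0))))) (.node (.node (.node (.node (.leaf 0) (.leaf 0)) (.node (.leaf 0) (.leaf 0))) (.node (.node (.leaf 0) (.leaf 0)) (.node (.leaf 0) (.leaf 0)))) (.node (.node (.node (.leaf 0) (.leaf 0)) (.node (.leaf 0) (.leaf 0))) (.node (.node (.leaf 0) (.leaf 0)) (.node (.leaf 0) (.leaf 0)))))))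

/-- A point of the block, part 779. -/
def ptCodePart779 : Janko1.Tree ℕ := (.node (.node (.node (.node (.node (.node (.leaf 0) (.leaf 0)) (.node (.leaf 0) (.leaf 0))) (.node (.node (.leaf 0) (.leaf 0)) (.node (.leaf 0) (.leaf 0)))) (.node (.node (.node (.leaf 0) (.leaf 0)) (.node (.leaf 0) (.leaf 0))) (.node (.node (.leaf 0) (.leaf 0)) (.node (.leaf 0) (.leaf 0))))) (.node (.node (.node (.node (.leaf 0) (.leaf 0)) (.node (.leaf 0) (.leaf 0))) (.node (.node (.leaf 0) (.leaf 0)) (.node (.leaf 0) (.leaf 0)))) (.node (.node (.node (.leaf 0) (.leaf 0)) (.node (.leaf 0) (.leaf 0))) (.node (.node (.leaf 0) (.leaf 0)) (.node (.leaf 0) (.leaf 0)))))) (.node (.node (.node (.node (.node (.leaf 0) (.leaf 0)) (.node (.leaf 0) (.leaf 0))) (.node (.node (.leaf 0) (.leaf 0)) (.node (.leaf 0) (.leaf 0)))) (.node (.node (.node (.leaf 0) (.leaf 0)) (.node (.leaf 0) (.leaf 0))) (.node (.node (.leaf 0) (.leaf 0)) (.node (.leaf 0) (.leaf 0))))) (.node (.node (.node (.node (.leaf 0) (.leaf 0)) (.node (.leaf 0) (.leaf 0))) (.node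 (.node (.leaf 0) (.leaf 0)) (.node (.leaf 0) (.leaf 0)))) (.node (.node (.node (.leaf 0) (.leaf 0)) (.node (.leaf 0) (.leaf 0))) (.node (.node (.leaf 0) (.leaf 0)) (.node (.leaf 0) (.leaf 0)))))))

/-- A point of the block, part 780. -/
def ptCodePart780 : Janko1.Tree ℕ := (.node (.node (.node (.node (.node (.node (.leaf 0) (.leaf 0)) (.node (.leaf 0) (.leaf 0))) (.node (.node (.leaf 0) (.leaf 0)) (.node (.leaf 0) (.leaf 0)))) (.node (.node (.node (.leaf 0) (.leaf 0)) (.node (.leaf 0) (.leaf 0))) (.node (.node (.leaf 0) (.leaf 0)) (.node (.leaf 0) (.leaf 0))))) (.node (.node (.node (.node (.leaf 0) (.leaf 0)) (.node (.leaf 0) (.leaf 0))) (.node (.node (.leaf 0) (.leaf 0)) (.node (.leaf 0) (.leaf 0)))) (.node (.node (.node (.leaf 0) (.leaf 0)) (.node (.leaf 0) (.leaf 0))) (.node (.node (.leaf 0) (.leaf 0)) (.node (.leaf 0) (.leaf 0)))))) (.node (.node (.node (.node (.node (.leaf 0) (.leaf 0)) (.node (.leaf 0) (.leaf 0))) (.node (.node (.leaf 0) (.leaf 0)) (.node (.leaf 0) (.leaf 0)))) (.node (.node (.node (.leaf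 0) (.leaf 0)) (.node (.leaf 0) (.leaf 0))) (.node (.node (.leaf 0) (.leaf 0)) (.node (.leaf 0) (.leaf 0))))) (.node (.node (.node (.node (.leaf 0) (.leaf 0)) (.node (.leaf 0) (.leaf 0))) (.node (.node (.leaf 0) (.leaf 0)) (.node (.leaf 0) (.leaf 0)))) (.node (.node (.node (.leaf 0) (.leaf 0)) (.node (.leaf 0) (.leaf 0))) (.node (.node (.leaf 0) (.leaf 0)) (.node (.leaf 0) (.leaf 0)))))))

/-- A point of the block, part 781. -/
def ptCodePart781 : Janko1.Tree ℕ := (.node (.node (.node (.node (.node (.node (.leaf 0) (.leaf 0)) (.node (.leaf 0) (.leaf 0))) (.node (.node (.leaf 0) (.leaf 0)) (.node (.leaf 0) (.leaf 0)))) (.node (.node (.node (.leaf 0) (.leaf 0)) (.node (.leaf 0) (.leaf 0))) (.node (.node (.leaf 0) (.leaf 0)) (.node (.leaf 0) (.leaf 0))))) (.node (.node (.node (.node (.leaf 0) (.leaf 0)) (.node (.leaf 0) (.leaf 0))) (.node (.node (.leaf 0) (.leaf 0)) (.node (.leaf 0) (.leaf 0)))) (.node (.node (.node (.leaf 0) (.leaf 0)) (.node (.leaf 0) (.leaf 0))) (.node (.node (.leaf 0) (.leaf 0)) (.node (.leaf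 0) (.leaf 0)))))) (.node (.node (.node (.node (.node (.leaf 0) (.leaf 0)) (.node (.leaf 0) (.leaf 0))) (.node (.node (.leaf 0) (.leaf 0)) (.node (.leaf 0) (.leaf 0)))) (.node (.node (.node (.leaf 0) (.leaf 0)) (.node (.leaf 0) (.leaf 0))) (.node (.node (.leaf 0) (.leaf 0)) (.node (.leaf 0) (.leaf 0))))) (.node (.node (.node (.node (.leaf 0) (.leaf 0)) (.node (.leaf 0) (.leaf 0))) (.node (.node (.leaf 0) (.leaf 0)) (.node (.leaf 0) (.leaf 0)))) (.node (.node (.node (.leaf 0) (.leaf 0)) (.node (.leaf 0) (.leaf 0))) (.node (.node (.leaf 0) (.leaf 0)) (.node (.leaf 0) (.leaf 0)))))))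

/-- A point of the block, part 782. -/
def ptCodePart782 : Janko1.Tree ℕ := (.node (.node (.node (.node (.node (.node (.leaf 0) (.leaf 0)) (.node (.leaf 0) (.leaf 0))) (.node (.node (.leaf 0) (.leaf 0)) (.node (.leaf 0) (.leaf 0)))) (.node (.node (.node (.leaf 0) (.leaf 0)) (.node (.leaf 0) (.leaf 0))) (.node (.node (.leaf 0) (.leaf 0)) (.node (.leaf 0) (.leaf 0))))) (.node (.node (.node (.node (.leaf 0) (.leaf 0)) (.node (.leaf 0) (.leaf 0))) (.node (.node (.leaf 0) (.leaf 0)) (.node (.leaf 0) (.leaf 0)))) (.node (.node (.node (.leaf 0) (.leaf 0)) (.node (.leaf 0) (.leaf 0))) (.node (.node (.leaf 0) (.leaf 0)) (.node (.leaf 0) (.leaf 0)))))) (.node (.node (.node (.node (.node (.leaf 0) (.leaf 0)) (.node (.leaf 0) (.leaf 0))) (.node (.node (.leaf 0) (.leaf 0)) (.node (.leaf 0) (.leaf 0)))) (.node (.node (.node (.leaf 0) (.leaf 0)) (.node (.leaf 0) (.leaf 0))) (.node (.node (.leaf 0) (.leaf 0)) (.node (.leaf 0) (.leaf 0))))) (.node (.node (.node (.node (.leaf 0) (.leaf 0)) (.node (.leaf 0) (.leaf 0))) (.node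 (.node (.leaf 0) (.leaf 0)) (.node (.leaf 0) (.leaf 0)))) (.node (.node (.node (.leaf 0) (.leaf 0)) (.node (.leaf 0) (.leaf 0))) (.node (.node (.leaf 0) (.leaf 0)) (.node (.leaf 0) (.leaf 0)))))))

/-- A point of the block, part 783. -/
def ptCodePart783 : Janko1.Tree ℕ := (.node (.node (.node (.node (.node (.node (.leaf 0) (.leaf 0)) (.node (.leaf 0) (.leaf 0))) (.node (.node (.leaf 0) (.leaf 0)) (.node (.leaf 0) (.leaf 0)))) (.node (.node (.node (.leaf 0) (.leaf 0)) (.node (.leaf 0) (.leaf 0))) (.node (.node (.leaf 0) (.leaf 0)) (.node (.leaf 0) (.leaf 0))))) (.node (.node (.node (.node (.leaf 0) (.leaf 0)) (.node (.leaf 0) (.leaf 0))) (.node (.node (.leaf 0) (.leaf 0)) (.node (.leaf 0) (.leaf 0)))) (.node (.node (.node (.leaf 0) (.leaf 0)) (.node (.leaf 0) (.leaf 0))) (.node (.node (.leaf 0) (.leaf 0)) (.node (.leaf 0) (.leaf 0)))))) (.node (.node (.node (.node (.node (.leaf 0) (.leaf 0)) (.node (.leaf 0) (.leaf 0))) (.node (.node (.leaf 0) (.leaf 0)) (.node (.leaf 0) (.leaf 0)))) (.node (.node (.node (.leaf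 0) (.leaf 0)) (.node (.leaf 0) (.leaf 0))) (.node (.node (.leaf 0) (.leaf 0)) (.node (.leaf 0) (.leaf 0))))) (.node (.node (.node (.node (.leaf 0) (.leaf 0)) (.node (.leaf 0) (.leaf 0))) (.node (.node (.leaf 0) (.leaf 0)) (.node (.leaf 0) (.leaf 0)))) (.node (.node (.node (.leaf 0) (.leaf 0)) (.node (.leaf 0) (.leaf 0))) (.node (.node (.leaf 0) (.leaf 0)) (.node (.leaf 0) (.leaf 0)))))))

/-- A point of the block, part 784. -/
def ptCodePart784 : Janko1.Tree ℕ := (.node (.node (.node (.node (.node (.node (.leaf 0) (.leaf 0)) (.node (.leaf 0) (.leaf 0))) (.node (.node (.leaf 0) (.leaf 0)) (.node (.leaf 0) (.leaf 0)))) (.node (.node (.node (.leaf 0) (.leaf 0)) (.node (.leaf 0) (.leaf 0))) (.node (.node (.leaf 0) (.leaf 0)) (.node (.leaf 0) (.leaf 0))))) (.node (.node (.node (.node (.leaf 0) (.leaf 0)) (.node (.leaf 0) (.leaf 0))) (.node (.node (.leaf 0) (.leaf 0)) (.node (.leaf 0) (.leaf 0)))) (.node (.node (.node (.leaf 0) (.leaf 0)) (.node (.leaf 0) (.leaf 0))) (.node (.node (.leaf 0) (.leaf 0)) (.node (.leaf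 0) (.leaf 0)))))) (.node (.node (.node (.node (.node (.leaf 0) (.leaf 0)) (.node (.leaf 0) (.leaf 0))) (.node (.node (.leaf 0) (.leaf 0)) (.node (.leaf 0) (.leaf 0)))) (.node (.node (.node (.leaf 0) (.leaf 0)) (.node (.leaf 0) (.leaf 0))) (.node (.node (.leaf 0) (.leaf 0)) (.node (.leaf 0) (.leaf 0))))) (.node (.node (.node (.node (.leaf 0) (.leaf 0)) (.node (.leaf 0) (.leaf 0))) (.node (.node (.leaf 0) (.leaf 0)) (.node (.leaf 0) (.leaf 0)))) (.node (.node (.node (.leaf 0) (.leaf 0)) (.node (.leaf 0) (.leaf 0))) (.node (.node (.leaf 0) (.leaf 0)) (.node (.leaf 0) (.leaf 0)))))))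

/-- A point of the block, part 785. -/
def ptCodePart785 : Janko1.Tree ℕ := (.node (.node (.node (.node (.node (.node (.leaf 0) (.leaf 0)) (.node (.leaf 0) (.leaf 0))) (.node (.node (.leaf 0) (.leaf 0)) (.node (.leaf 0) (.leaf 0)))) (.node (.node (.node (.leaf 0) (.leaf 0)) (.node (.leaf 0) (.leaf 0))) (.node (.node (.leaf 0) (.leaf 0)) (.node (.leaf 0) (.leaf 0))))) (.node (.node (.node (.node (.leaf 0) (.leaf 0)) (.node (.leaf 0) (.leaf 0))) (.node (.node (.leaf 0) (.leaf 0)) (.node (.leaf 0) (.leaf 0)))) (.node (.node (.node (.leaf 0) (.leaf 0)) (.node (.leaf 0) (.leaf 0))) (.node (.node (.leaf 0) (.leaf 0)) (.node (.leaf 0) (.leaf 0)))))) (.node (.node (.node (.node (.node (.leaf 0) (.leaf 0)) (.node (.leaf 0) (.leaf 0))) (.node (.node (.leaf 0) (.leaf 0)) (.node (.leaf 0) (.leaf 0)))) (.node (.node (.node (.leaf 0) (.leaf 0)) (.node (.leaf 0) (.leaf 0))) (.node (.node (.leaf 0) (.leaf 0)) (.node (.leaf 0) (.leaf 0))))) (.node (.node (.node (.node (.leaf 0) (.leaf 0)) (.node (.leaf 0) (.leaf 0))) (.node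 (.node (.leaf 0) (.leaf 0)) (.node (.leaf 0) (.leaf 0)))) (.node (.node (.node (.leaf 0) (.leaf 0)) (.node (.leaf 0) (.leaf 0))) (.node (.node (.leaf 0) (.leaf 0)) (.node (.leaf 0) (.leaf 0)))))))

/-- A point of the block, part 786. -/
def ptCodePart786 : Janko1.Tree ℕ := (.node (.node (.node (.node (.node (.node (.leaf 0) (.leaf 0)) (.node (.leaf 0) (.leaf 0))) (.node (.node (.leaf 0) (.leaf 0)) (.node (.leaf 0) (.leaf 0)))) (.node (.node (.node (.leaf 0) (.leaf 0)) (.node (.leaf 0) (.leaf 0))) (.node (.node (.leaf 0) (.leaf 0)) (.node (.leaf 0) (.leaf 0))))) (.node (.node (.node (.node (.leaf 0) (.leaf 0)) (.node (.leaf 0) (.leaf 0))) (.node (.node (.leaf 0) (.leaf 0)) (.node (.leaf 0) (.leaf 0)))) (.node (.node (.node (.leaf 0) (.leaf 0)) (.node (.leaf 0) (.leaf 0))) (.node (.node (.leaf 0) (.leaf 0)) (.node (.leaf 0) (.leaf 0)))))) (.node (.node (.node (.node (.node (.leaf 0) (.leaf 0)) (.node (.leaf 0) (.leaf 0))) (.node (.node (.leaf 0) (.leaf 0)) (.node (.leaf 0) (.leaf 0)))) (.node (.node (.node (.leaf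 0) (.leaf 0)) (.node (.leaf 0) (.leaf 0))) (.node (.node (.leaf 0) (.leaf 0)) (.node (.leaf 0) (.leaf 0))))) (.node (.node (.node (.node (.leaf 0) (.leaf 0)) (.node (.leaf 0) (.leaf 0))) (.node (.node (.leaf 0) (.leaf 0)) (.node (.leaf 0) (.leaf 0)))) (.node (.node (.node (.leaf 0) (.leaf 0)) (.node (.leaf 0) (.leaf 0))) (.node (.node (.leaf 0) (.leaf 0)) (.node (.leaf 0) (.leaf 0)))))))

/-- A point of the block, part 787. -/
def ptCodePart787 : Janko1.Tree ℕ := (.node (.node (.node (.node (.node (.node (.leaf 0) (.leaf 0)) (.node (.leaf 0) (.leaf 0))) (.node (.node (.leaf 0) (.leaf 0)) (.node (.leaf 0) (.leaf 0)))) (.node (.node (.node (.leaf 0) (.leaf 0)) (.node (.leaf 0) (.leaf 0))) (.node (.node (.leaf 0) (.leaf 0)) (.node (.leaf 0) (.leaf 0))))) (.node (.node (.node (.node (.leaf 0) (.leaf 0)) (.node (.leaf 0) (.leaf 0))) (.node (.node (.leaf 0) (.leaf 0)) (.node (.leaf 0) (.leaf 0)))) (.node (.node (.node (.leaf 0) (.leaf 0)) (.node (.leaf 0) (.leaf 0))) (.node (.node (.leaf 0) (.leaf 0)) (.node (.leaf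 0) (.leaf 0)))))) (.node (.node (.node (.node (.node (.leaf 0) (.leaf 0)) (.node (.leaf 0) (.leaf 0))) (.node (.node (.leaf 0) (.leaf 0)) (.node (.leaf 0) (.leaf 0)))) (.node (.node (.node (.leaf 0) (.leaf 0)) (.node (.leaf 0) (.leaf 0))) (.node (.node (.leaf 0) (.leaf 0)) (.node (.leaf 0) (.leaf 0))))) (.node (.node (.node (.node (.leaf 0) (.leaf 0)) (.node (.leaf 0) (.leaf 0))) (.node (.node (.leaf 0) (.leaf 0)) (.node (.leaf 0) (.leaf 0)))) (.node (.node (.node (.leaf 0) (.leaf 0)) (.node (.leaf 0) (.leaf 0))) (.node (.node (.leaf 0) (.leaf 0)) (.node (.leaf 0) (.leaf 0)))))))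

/-- A point of the block, part 788. -/
def ptCodePart788 : Janko1.Tree ℕ := (.node (.node (.node (.node (.node (.node (.leaf 0) (.leaf 0)) (.node (.leaf 0) (.leaf 0))) (.node (.node (.leaf 0) (.leaf 0)) (.node (.leaf 0) (.leaf 0)))) (.node (.node (.node (.leaf 0) (.leaf 0)) (.node (.leaf 0) (.leaf 0))) (.node (.node (.leaf 0) (.leaf 0)) (.node (.leaf 0) (.leaf 0))))) (.node (.node (.node (.node (.leaf 0) (.leaf 0)) (.node (.leaf 0) (.leaf 0))) (.node (.node (.leaf 0) (.leaf 0)) (.node (.leaf 0) (.leaf 0)))) (.node (.node (.node (.leaf 0) (.leaf 0)) (.node (.leaf 0) (.leaf 0))) (.node (.node (.leaf 0) (.leaf 0)) (.node (.leaf 0) (.leaf 0)))))) (.node (.node (.node (.node (.node (.leaf 0) (.leaf 0)) (.node (.leaf 0) (.leaf 0))) (.node (.node (.leaf 0) (.leaf 0)) (.node (.leaf 0) (.leaf 0)))) (.node (.node (.node (.leaf 0) (.leaf 0)) (.node (.leaf 0) (.leaf 0))) (.node (.node (.leaf 0) (.leaf 0)) (.node (.leaf 0) (.leaf 0))))) (.node (.node (.node (.node (.leaf 0) (.leaf 0)) (.node (.leaf 0) (.leaf 0))) (.node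 (.node (.leaf 0) (.leaf 0)) (.node (.leaf 0) (.leaf 0)))) (.node (.node (.node (.leaf 0) (.leaf 0)) (.node (.leaf 0) (.leaf 0))) (.node (.node (.leaf 0) (.leaf 0)) (.node (.leaf 0) (.leaf 0)))))))

/-- A point of the block, part 789. -/
def ptCodePart789 : Janko1.Tree ℕ := (.node (.node (.node (.node (.node (.node (.leaf 0) (.leaf 0)) (.node (.leaf 0) (.leaf 0))) (.node (.node (.leaf 0) (.leaf 0)) (.node (.leaf 0) (.leaf 0)))) (.node (.node (.node (.leaf 0) (.leaf 0)) (.node (.leaf 0) (.leaf 0))) (.node (.node (.leaf 0) (.leaf 0)) (.node (.leaf 0) (.leaf 0))))) (.node (.node (.node (.node (.leaf 0) (.leaf 0)) (.node (.leaf 0) (.leaf 0))) (.node (.node (.leaf 0) (.leaf 0)) (.node (.leaf 0) (.leaf 0)))) (.node (.node (.node (.leaf 0) (.leaf 0)) (.node (.leaf 0) (.leaf 0))) (.node (.node (.leaf 0) (.leaf 0)) (.node (.leaf 0) (.leaf 0)))))) (.node (.node (.node (.node (.node (.leaf 0) (.leaf 0)) (.node (.leaf 0) (.leaf 0))) (.node (.node (.leaf 0) (.leaf 0)) (.node (.leaf 0) (.leaf 0)))) (.node (.node (.node (.leaf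 0) (.leaf 0)) (.node (.leaf 0) (.leaf 0))) (.node (.node (.leaf 0) (.leaf 0)) (.node (.leaf 0) (.leaf 0))))) (.node (.node (.node (.node (.leaf 0) (.leaf 0)) (.node (.leaf 0) (.leaf 0))) (.node (.node (.leaf 0) (.leaf 0)) (.node (.leaf 0) (.leaf 0)))) (.node (.node (.node (.leaf 0) (.leaf 0)) (.node (.leaf 0) (.leaf 0))) (.node (.node (.leaf 0) (.leaf 0)) (.node (.leaf 0) (.leaf 0)))))))

/-- A point of the block, part 790. -/
def ptCodePart790 : Janko1.Tree ℕ := (.node (.node (.node (.node (.node (.node (.leaf 0) (.leaf 0)) (.node (.leaf 0) (.leaf 0))) (.node (.node (.leaf 0) (.leaf 0)) (.node (.leaf 0) (.leaf 0)))) (.node (.node (.node (.leaf 0) (.leaf 0)) (.node (.leaf 0) (.leaf 0))) (.node (.node (.leaf 0) (.leaf 0)) (.node (.leaf 0) (.leaf 0))))) (.node (.node (.node (.node (.leaf 0) (.leaf 0)) (.node (.leaf 0) (.leaf 0))) (.node (.node (.leaf 0) (.leaf 0)) (.node (.leaf 0) (.leaf 0)))) (.node (.node (.node (.leaf 0) (.leaf 0)) (.node (.leaf 0) (.leaf 0))) (.node (.node (.leaf 0) (.leaf 0)) (.node (.leaf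 0) (.leaf 0)))))) (.node (.node (.node (.node (.node (.leaf 0) (.leaf 0)) (.node (.leaf 0) (.leaf 0))) (.node (.node (.leaf 0) (.leaf 0)) (.node (.leaf 0) (.leaf 0)))) (.node (.node (.node (.leaf 0) (.leaf 0)) (.node (.leaf 0) (.leaf 0))) (.node (.node (.leaf 0) (.leaf 0)) (.node (.leaf 0) (.leaf 0))))) (.node (.node (.node (.node (.leaf 0) (.leaf 0)) (.node (.leaf 0) (.leaf 0))) (.node (.node (.leaf 0) (.leaf 0)) (.node (.leaf 0) (.leaf 0)))) (.node (.node (.node (.leaf 0) (.leaf 0)) (.node (.leaf 0) (.leaf 0))) (.node (.node (.leaf 0) (.leaf 0)) (.node (.leaf 0) (.leaf 0)))))))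

/-- A point of the block, part 791. -/
def ptCodePart791 : Janko1.Tree ℕ := (.node (.node (.node (.node (.node (.node (.leaf 0) (.leaf 0)) (.node (.leaf 0) (.leaf 0))) (.node (.node (.leaf 0) (.leaf 0)) (.node (.leaf 0) (.leaf 0)))) (.node (.node (.node (.leaf 0) (.leaf 0)) (.node (.leaf 0) (.leaf 0))) (.node (.node (.leaf 0) (.leaf 0)) (.node (.leaf 0) (.leaf 0))))) (.node (.node (.node (.node (.leaf 0) (.leaf 0)) (.node (.leaf 0) (.leaf 0))) (.node (.node (.leaf 0) (.leaf 0)) (.node (.leaf 0) (.leaf 0)))) (.node (.node (.node (.leaf 0) (.leaf 0)) (.node (.leaf 0) (.leaf 0))) (.node (.node (.leaf 0) (.leaf 0)) (.node (.leaf 0) (.leaf 0)))))) (.node (.node (.node (.node (.node (.leaf 0) (.leaf 0)) (.node (.leaf 0) (.leaf 0))) (.node (.node (.leaf 0) (.leaf 0)) (.node (.leaf 0) (.leaf 0)))) (.node (.node (.node (.leaf 0) (.leaf 0)) (.node (.leaf 0) (.leaf 0))) (.node (.node (.leaf 0) (.leaf 0)) (.node (.leaf 0) (.leaf 0))))) (.node (.node (.node (.node (.leaf 0) (.leaf 0)) (.node (.leaf 0) (.leaf 0))) (.node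 (.node (.leaf 0) (.leaf 0)) (.node (.leaf 0) (.leaf 0)))) (.node (.node (.node (.leaf 0) (.leaf 0)) (.node (.leaf 0) (.leaf 0))) (.node (.node (.leaf 0) (.leaf 0)) (.node (.leaf 0) (.leaf 0)))))))

/-- A point of the block, part 792. -/
def ptCodePart792 : Janko1.Tree ℕ := (.node (.node (.node (.node (.node (.node (.leaf 0) (.leaf 0)) (.node (.leaf 0) (.leaf 0))) (.node (.node (.leaf 0) (.leaf 0)) (.node (.leaf 0) (.leaf 0)))) (.node (.node (.node (.leaf 0) (.leaf 0)) (.node (.leaf 0) (.leaf 0))) (.node (.node (.leaf 0) (.leaf 0)) (.node (.leaf 0) (.leaf 0))))) (.node (.node (.node (.node (.leaf 0) (.leaf 0)) (.node (.leaf 0) (.leaf 0))) (.node (.node (.leaf 0) (.leaf 0)) (.node (.leaf 0) (.leaf 0)))) (.node (.node (.node (.leaf 0) (.leaf 0)) (.node (.leaf 0) (.leaf 0))) (.node (.node (.leaf 0) (.leaf 0)) (.node (.leaf 0) (.leaf 0)))))) (.node (.node (.node (.node (.node (.leaf 0) (.leaf 0)) (.node (.leaf 0) (.leaf 0))) (.node (.node (.leaf 0) (.leaf 0)) (.node (.leaf 0) (.leaf 0)))) (.node (.node (.node (.leaf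 0) (.leaf 0)) (.node (.leaf 0) (.leaf 0))) (.node (.node (.leaf 0) (.leaf 0)) (.node (.leaf 0) (.leaf 0))))) (.node (.node (.node (.node (.leaf 0) (.leaf 0)) (.node (.leaf 0) (.leaf 0))) (.node (.node (.leaf 0) (.leaf 0)) (.node (.leaf 0) (.leaf 0)))) (.node (.node (.node (.leaf 0) (.leaf 0)) (.node (.leaf 0) (.leaf 0))) (.node (.node (.leaf 0) (.leaf 0)) (.node (.leaf 0) (.leaf 0)))))))

/-- A point of the block, part 793. -/
def ptCodePart793 : Janko1.Tree ℕ := (.node (.node (.node (.node (.node (.node (.leaf 0) (.leaf 0)) (.node (.leaf 0) (.leaf 0))) (.node (.node (.leaf 0) (.leaf 0)) (.node (.leaf 0) (.leaf 0)))) (.node (.node (.node (.leaf 0) (.leaf 0)) (.node (.leaf 0) (.leaf 0))) (.node (.node (.leaf 0) (.leaf 0)) (.node (.leaf 0) (.leaf 0))))) (.node (.node (.node (.node (.leaf 0) (.leaf 0)) (.node (.leaf 0) (.leaf 0))) (.node (.node (.leaf 0) (.leaf 0)) (.node (.leaf 0) (.leaf 0)))) (.node (.node (.node (.leaf 0) (.leaf 0)) (.node (.leaf 0) (.leaf 0))) (.node (.node (.leaf 0) (.leaf 0)) (.node (.leaf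 0) (.leaf 0)))))) (.node (.node (.node (.node (.node (.leaf 0) (.leaf 0)) (.node (.leaf 0) (.leaf 0))) (.node (.node (.leaf 0) (.leaf 0)) (.node (.leaf 0) (.leaf 0)))) (.node (.node (.node (.leaf 0) (.leaf 0)) (.node (.leaf 0) (.leaf 0))) (.node (.node (.leaf 0) (.leaf 0)) (.node (.leaf 0) (.leaf 0))))) (.node (.node (.node (.node (.leaf 0) (.leaf 0)) (.node (.leaf 0) (.leaf 0))) (.node (.node (.leaf 0) (.leaf 0)) (.node (.leaf 0) (.leaf 0)))) (.node (.node (.node (.leaf 0) (.leaf 0)) (.node (.leaf 0) (.leaf 0))) (.node (.node (.leaf 0) (.leaf 0)) (.node (.leaf 0) (.leaf 0)))))))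

/-- A point of the block, part 794. -/
def ptCodePart794 : Janko1.Tree ℕ := (.node (.node (.node (.node (.node (.node (.leaf 0) (.leaf 0)) (.node (.leaf 0) (.leaf 0))) (.node (.node (.leaf 0) (.leaf 0)) (.node (.leaf 0) (.leaf 0)))) (.node (.node (.node (.leaf 0) (.leaf 0)) (.node (.leaf 0) (.leaf 0))) (.node (.node (.leaf 0) (.leaf 0)) (.node (.leaf 0) (.leaf 0))))) (.node (.node (.node (.node (.leaf 0) (.leaf 0)) (.node (.leaf 0) (.leaf 0))) (.node (.node (.leaf 0) (.leaf 0)) (.node (.leaf 0) (.leaf 0)))) (.node (.node (.node (.leaf 0) (.leaf 0)) (.node (.leaf 0) (.leaf 0))) (.node (.node (.leaf 0) (.leaf 0)) (.node (.leaf 0) (.leaf 0)))))) (.node (.node (.node (.node (.node (.leaf 0) (.leaf 0)) (.node (.leaf 0) (.leaf 0))) (.node (.node (.leaf 0) (.leaf 0)) (.node (.leaf 0) (.leaf 0)))) (.node (.node (.node (.leaf 0) (.leaf 0)) (.node (.leaf 0) (.leaf 0))) (.node (.node (.leaf 0) (.leaf 0)) (.node (.leaf 0) (.leaf 0))))) (.node (.node (.node (.node (.leaf 0) (.leaf 0)) (.node (.leaf 0) (.leaf 0))) (.node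 (.node (.leaf 0) (.leaf 0)) (.node (.leaf 0) (.leaf 0)))) (.node (.node (.node (.leaf 0) (.leaf 0)) (.node (.leaf 0) (.leaf 0))) (.node (.node (.leaf 0) (.leaf 0)) (.node (.leaf 0) (.leaf 0)))))))

/-- A point of the block, part 795. -/
def ptCodePart795 : Janko1.Tree ℕ := (.node (.node (.node (.node (.node (.node (.leaf 0) (.leaf 0)) (.node (.leaf 0) (.leaf 0))) (.node (.node (.leaf 0) (.leaf 0)) (.node (.leaf 0) (.leaf 0)))) (.node (.node (.node (.leaf 0) (.leaf 0)) (.node (.leaf 0) (.leaf 0))) (.node (.node (.leaf 0) (.leaf 0)) (.node (.leaf 0) (.leaf 0))))) (.node (.node (.node (.node (.leaf 0) (.leaf 0)) (.node (.leaf 0) (.leaf 0))) (.node (.node (.leaf 0) (.leaf 0)) (.node (.leaf 0) (.leaf 0)))) (.node (.node (.node (.leaf 0) (.leaf 0)) (.node (.leaf 0) (.leaf 0))) (.node (.node (.leaf 0) (.leaf 0)) (.node (.leaf 0) (.leaf 0)))))) (.node (.node (.node (.node (.node (.leaf 0) (.leaf 0)) (.node (.leaf 0) (.leaf 0))) (.node (.node (.leaf 0) (.leaf 0)) (.node (.leaf 0) (.leaf 0)))) (.node (.node (.node (.leaf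 0) (.leaf 0)) (.node (.leaf 0) (.leaf 0))) (.node (.node (.leaf 0) (.leaf 0)) (.node (.leaf 0) (.leaf 0))))) (.node (.node (.node (.node (.leaf 0) (.leaf 0)) (.node (.leaf 0) (.leaf 0))) (.node (.node (.leaf 0) (.leaf 0)) (.node (.leaf 0) (.leaf 0)))) (.node (.node (.node (.leaf 0) (.leaf 0)) (.node (.leaf 0) (.leaf 0))) (.node (.node (.leaf 0) (.leaf 0)) (.node (.leaf 0) (.leaf 0)))))))

/-- A point of the block, part 796. -/
def ptCodePart796 : Janko1.Tree ℕ := (.node (.node (.node (.node (.node (.node (.leaf 0) (.leaf 0)) (.node (.leaf 0) (.leaf 0))) (.node (.node (.leaf 0) (.leaf 0)) (.node (.leaf 0) (.leaf 0)))) (.node (.node (.node (.leaf 0) (.leaf 0)) (.node (.leaf 0) (.leaf 0))) (.node (.node (.leaf 0) (.leaf 0)) (.node (.leaf 0) (.leaf 0))))) (.node (.node (.node (.node (.leaf 0) (.leaf 0)) (.node (.leaf 0) (.leaf 0))) (.node (.node (.leaf 0) (.leaf 0)) (.node (.leaf 0) (.leaf 0)))) (.node (.node (.node (.leaf 0) (.leaf 0)) (.node (.leaf 0) (.leaf 0))) (.node (.node (.leaf 0) (.leaf 0)) (.node (.leaf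 0) (.leaf 0)))))) (.node (.node (.node (.node (.node (.leaf 0) (.leaf 0)) (.node (.leaf 0) (.leaf 0))) (.node (.node (.leaf 0) (.leaf 0)) (.node (.leaf 0) (.leaf 0)))) (.node (.node (.node (.leaf 0) (.leaf 0)) (.node (.leaf 0) (.leaf 0))) (.node (.node (.leaf 0) (.leaf 0)) (.node (.leaf 0) (.leaf 0))))) (.node (.node (.node (.node (.leaf 0) (.leaf 0)) (.node (.leaf 0) (.leaf 0))) (.node (.node (.leaf 0) (.leaf 0)) (.node (.leaf 0) (.leaf 0)))) (.node (.node (.node (.leaf 0) (.leaf 0)) (.node (.leaf 0) (.leaf 0))) (.node (.node (.leaf 0) (.leaf 0)) (.node (.leaf 0) (.leaf 0)))))))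

/-- A point of the block, part 797. -/
def ptCodePart797 : Janko1.Tree ℕ := (.node (.node (.node (.node (.node (.node (.leaf 0) (.leaf 0)) (.node (.leaf 0) (.leaf 0))) (.node (.node (.leaf 0) (.leaf 0)) (.node (.leaf 0) (.leaf 0)))) (.node (.node (.node (.leaf 0) (.leaf 0)) (.node (.leaf 0) (.leaf 0))) (.node (.node (.leaf 0) (.leaf 0)) (.node (.leaf 0) (.leaf 0))))) (.node (.node (.node (.node (.leaf 0) (.leaf 0)) (.node (.leaf 0) (.leaf 0))) (.node (.node (.leaf 0) (.leaf 0)) (.node (.leaf 0) (.leaf 0)))) (.node (.node (.node (.leaf 0) (.leaf 0)) (.node (.leaf 0) (.leaf 0))) (.node (.node (.leaf 0) (.leaf 0)) (.node (.leaf 0) (.leaf 0)))))) (.node (.node (.node (.node (.node (.leaf 0) (.leaf 0)) (.node (.leaf 0) (.leaf 0))) (.node (.node (.leaf 0) (.leaf 0)) (.node (.leaf 0) (.leaf 0)))) (.node (.node (.node (.leaf 0) (.leaf 0)) (.node (.leaf 0) (.leaf 0))) (.node (.node (.leaf 0) (.leaf 0)) (.node (.leaf 0) (.leaf 0))))) (.node (.node (.node (.node (.leaf 0) (.leaf 0)) (.node (.leaf 0) (.leaf 0))) (.node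 (.node (.leaf 0) (.leaf 0)) (.node (.leaf 0) (.leaf 0)))) (.node (.node (.node (.leaf 0) (.leaf 0)) (.node (.leaf 0) (.leaf 0))) (.node (.node (.leaf 0) (.leaf 0)) (.node (.leaf 0) (.leaf 0)))))))

/-- A point of the block, part 798. -/
def ptCodePart798 : Janko1.Tree ℕ := (.node (.node (.node (.node (.node (.node (.leaf 0) (.leaf 0)) (.node (.leaf 0) (.leaf 0))) (.node (.node (.leaf 0) (.leaf 0)) (.node (.leaf 0) (.leaf 0)))) (.node (.node (.node (.leaf 0) (.leaf 0)) (.node (.leaf 0) (.leaf 0))) (.node (.node (.leaf 0) (.leaf 0)) (.node (.leaf 0) (.leaf 0))))) (.node (.node (.node (.node (.leaf 0) (.leaf 0)) (.node (.leaf 0) (.leaf 0))) (.node (.node (.leaf 0) (.leaf 0)) (.node (.leaf 0) (.leaf 0)))) (.node (.node (.node (.leaf 0) (.leaf 0)) (.node (.leaf 0) (.leaf 0))) (.node (.node (.leaf 0) (.leaf 0)) (.node (.leaf 0) (.leaf 0)))))) (.node (.node (.node (.node (.node (.leaf 0) (.leaf 0)) (.node (.leaf 0) (.leaf 0))) (.node (.node (.leaf 0) (.leaf 0)) (.node (.leaf 0) (.leaf 0)))) (.node (.node (.node (.leaf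 0) (.leaf 0)) (.node (.leaf 0) (.leaf 0))) (.node (.node (.leaf 0) (.leaf 0)) (.node (.leaf 0) (.leaf 0))))) (.node (.node (.node (.node (.leaf 0) (.leaf 0)) (.node (.leaf 0) (.leaf 0))) (.node (.node (.leaf 0) (.leaf 0)) (.node (.leaf 0) (.leaf 0)))) (.node (.node (.node (.leaf 0) (.leaf 0)) (.node (.leaf 0) (.leaf 0))) (.node (.node (.leaf 0) (.leaf 0)) (.node (.leaf 0) (.leaf 0)))))))

/-- A point of the block, part 799. -/
def ptCodePart799 : Janko1.Tree ℕ := (.node (.node (.node (.node (.node (.node (.leaf 0) (.leaf 0)) (.node (.leaf 0) (.leaf 0))) (.node (.node (.leaf 0) (.leaf 0)) (.node (.leaf 0) (.leaf 0)))) (.node (.node (.node (.leaf 0) (.leaf 0)) (.node (.leaf 0) (.leaf 0))) (.node (.node (.leaf 0) (.leaf 0)) (.node (.leaf 0) (.leaf 0))))) (.node (.node (.node (.node (.leaf 0) (.leaf 0)) (.node (.leaf 0) (.leaf 0))) (.node (.node (.leaf 0) (.leaf 0)) (.node (.leaf 0) (.leaf 0)))) (.node (.node (.node (.leaf 0) (.leaf 0)) (.node (.leaf 0) (.leaf 0))) (.node (.node (.leaf 0) (.leaf 0)) (.node (.leaf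 0) (.leaf 0)))))) (.node (.node (.node (.node (.node (.leaf 0) (.leaf 0)) (.node (.leaf 0) (.leaf 0))) (.node (.node (.leaf 0) (.leaf 0)) (.node (.leaf 0) (.leaf 0)))) (.node (.node (.node (.leaf 0) (.leaf 0)) (.node (.leaf 0) (.leaf 0))) (.node (.node (.leaf 0) (.leaf 0)) (.node (.leaf 0) (.leaf 0))))) (.node (.node (.node (.node (.leaf 0) (.leaf 0)) (.node (.leaf 0) (.leaf 0))) (.node (.node (.leaf 0) (.leaf 0)) (.node (.leaf 0) (.leaf 0)))) (.node (.node (.node (.leaf 0) (.leaf 0)) (.node (.leaf 0) (.leaf 0))) (.node (.node (.leaf 0) (.leaf 0)) (.node (.leaf 0) (.leaf 0)))))))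

/-- A point of the block, part 800. -/
def ptCodePart800 : Janko1.Tree ℕ := (.node (.node (.node (.node (.node (.node (.leaf 0) (.leaf 0)) (.node (.leaf 0) (.leaf 0))) (.node (.node (.leaf 0) (.leaf 0)) (.node (.leaf 0) (.leaf 0)))) (.node (.node (.node (.leaf 0) (.leaf 0)) (.node (.leaf 0) (.leaf 0))) (.node (.node (.leaf 0) (.leaf 0)) (.node (.leaf 0) (.leaf 0))))) (.node (.node (.node (.node (.leaf 0) (.leaf 0)) (.node (.leaf 0) (.leaf 0))) (.node (.node (.leaf 0) (.leaf 0)) (.node (.leaf 0) (.leaf 0)))) (.node (.node (.node (.leaf 0) (.leaf 0)) (.node (.leaf 0) (.leaf 0))) (.node (.node (.leaf 0) (.leaf 0)) (.node (.leaf 0) (.leaf 0)))))) (.node (.node (.node (.node (.node (.leaf 0) (.leaf 0)) (.node (.leaf 0) (.leaf 0))) (.node (.node (.leaf 0) (.leaf 0)) (.node (.leaf 0) (.leaf 0)))) (.node (.node (.node (.leaf 0) (.leaf 0)) (.node (.leaf 0) (.leaf 0))) (.node (.node (.leaf 0) (.leaf 0)) (.node (.leaf 0) (.leaf 0))))) (.node (.node (.node (.node (.leaf 0) (.leaf 0)) (.node (.leaf 0) (.leaf 0))) (.node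 (.node (.leaf 0) (.leaf 0)) (.node (.leaf 0) (.leaf 0)))) (.node (.node (.node (.leaf 0) (.leaf 0)) (.node (.leaf 0) (.leaf 0))) (.node (.node (.leaf 0) (.leaf 0)) (.node (.leaf 0) (.leaf 0)))))))

/-- A point of the block, part 801. -/
def ptCodePart801 : Janko1.Tree ℕ := (.node (.node (.node (.node (.node (.node (.leaf 0) (.leaf 0)) (.node (.leaf 0) (.leaf 0))) (.node (.node (.leaf 0) (.leaf 0)) (.node (.leaf 0) (.leaf 0)))) (.node (.node (.node (.leaf 0) (.leaf 0)) (.node (.leaf 0) (.leaf 0))) (.node (.node (.leaf 0) (.leaf 0)) (.node (.leaf 0) (.leaf 0))))) (.node (.node (.node (.node (.leaf 0) (.leaf 0)) (.node (.leaf 0) (.leaf 0))) (.node (.node (.leaf 0) (.leaf 0)) (.node (.leaf 0) (.leaf 0)))) (.node (.node (.node (.leaf 0) (.leaf 0)) (.node (.leaf 0) (.leaf 0))) (.node (.node (.leaf 0) (.leaf 0)) (.node (.leaf 0) (.leaf 0)))))) (.node (.node (.node (.node (.node (.leaf 0) (.leaf 0)) (.node (.leaf 0) (.leaf 0))) (.node (.node (.leaf 0) (.leaf 0)) (.node (.leaf 0) (.leaf 0)))) (.node (.node (.node (.leaf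 0) (.leaf 0)) (.node (.leaf 0) (.leaf 0))) (.node (.node (.leaf 0) (.leaf 0)) (.node (.leaf 0) (.leaf 0))))) (.node (.node (.node (.node (.leaf 0) (.leaf 0)) (.node (.leaf 0) (.leaf 0))) (.node (.node (.leaf 0) (.leaf 0)) (.node (.leaf 0) (.leaf 0)))) (.node (.node (.node (.leaf 0) (.leaf 0)) (.node (.leaf 0) (.leaf 0))) (.node (.node (.leaf 0) (.leaf 0)) (.node (.leaf 0) (.leaf 0)))))))

/-- A point of the block, part 802. -/
def ptCodePart802 : Janko1.Tree ℕ := (.node (.node (.node (.node (.node (.node (.leaf 0) (.leaf 0)) (.node (.leaf 0) (.leaf 0))) (.node (.node (.leaf 0) (.leaf 0)) (.node (.leaf 0) (.leaf 0)))) (.node (.node (.node (.leaf 0) (.leaf 0)) (.node (.leaf 0) (.leaf 0))) (.node (.node (.leaf 0) (.leaf 0)) (.node (.leaf 0) (.leaf 0))))) (.node (.node (.node (.node (.leaf 0) (.leaf 0)) (.node (.leaf 0) (.leaf 0))) (.node (.node (.leaf 0) (.leaf 0)) (.node (.leaf 0) (.leaf 0)))) (.node (.node (.node (.leaf 0) (.leaf 0)) (.node (.leaf 0) (.leaf 0))) (.node (.node (.leaf 0) (.leaf 0)) (.node (.leaf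 0) (.leaf 0)))))) (.node (.node (.node (.node (.node (.leaf 0) (.leaf 0)) (.node (.leaf 0) (.leaf 0))) (.node (.node (.leaf 0) (.leaf 0)) (.node (.leaf 0) (.leaf 0)))) (.node (.node (.node (.leaf 0) (.leaf 0)) (.node (.leaf 0) (.leaf 0))) (.node (.node (.leaf 0) (.leaf 0)) (.node (.leaf 0) (.leaf 0))))) (.node (.node (.node (.node (.leaf 0) (.leaf 0)) (.node (.leaf 0) (.leaf 0))) (.node (.node (.leaf 0) (.leaf 0)) (.node (.leaf 0) (.leaf 0)))) (.node (.node (.node (.leaf 0) (.leaf 0)) (.node (.leaf 0) (.leaf 0))) (.node (.node (.leaf 0) (.leaf 0)) (.node (.leaf 0) (.leaf 0)))))))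

/-- A point of the block, part 803. -/
def ptCodePart803 : Janko1.Tree ℕ := (.node (.node (.node (.node (.node (.node (.leaf 0) (.leaf 0)) (.node (.leaf 0) (.leaf 0))) (.node (.node (.leaf 0) (.leaf 0)) (.node (.leaf 0) (.leaf 0)))) (.node (.node (.node (.leaf 0) (.leaf 0)) (.node (.leaf 0) (.leaf 0))) (.node (.node (.leaf 0) (.leaf 0)) (.node (.leaf 0) (.leaf 0))))) (.node (.node (.node (.node (.leaf 0) (.leaf 0)) (.node (.leaf 0) (.leaf 0))) (.node (.node (.leaf 0) (.leaf 0)) (.node (.leaf 0) (.leaf 0)))) (.node (.node (.node (.leaf 0) (.leaf 0)) (.node (.leaf 0) (.leaf 0))) (.node (.node (.leaf 0) (.leaf 0)) (.node (.leaf 0) (.leaf 0)))))) (.node (.node (.node (.node (.node (.leaf 0) (.leaf 0)) (.node (.leaf 0) (.leaf 0))) (.node (.node (.leaf 0) (.leaf 0)) (.node (.leaf 0) (.leaf 0)))) (.node (.node (.node (.leaf 0) (.leaf 0)) (.node (.leaf 0) (.leaf 0))) (.node (.node (.leaf 0) (.leaf 0)) (.node (.leaf 0) (.leaf 0))))) (.node (.node (.node (.node (.leaf 0) (.leaf 0)) (.node (.leaf 0) (.leaf 0))) (.node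 (.node (.leaf 0) (.leaf 0)) (.node (.leaf 0) (.leaf 0)))) (.node (.node (.node (.leaf 0) (.leaf 0)) (.node (.leaf 0) (.leaf 0))) (.node (.node (.leaf 0) (.leaf 0)) (.node (.leaf 0) (.leaf 0)))))))

/-- A point of the block, part 804. -/
def ptCodePart804 : Janko1.Tree ℕ := (.node (.node (.node (.node (.node (.node (.leaf 0) (.leaf 0)) (.node (.leaf 0) (.leaf 0))) (.node (.node (.leaf 0) (.leaf 0)) (.node (.leaf 0) (.leaf 0)))) (.node (.node (.node (.leaf 0) (.leaf 0)) (.node (.leaf 0) (.leaf 0))) (.node (.node (.leaf 0) (.leaf 0)) (.node (.leaf 0) (.leaf 0))))) (.node (.node (.node (.node (.leaf 0) (.leaf 0)) (.node (.leaf 0) (.leaf 0))) (.node (.node (.leaf 0) (.leaf 0)) (.node (.leaf 0) (.leaf 0)))) (.node (.node (.node (.leaf 0) (.leaf 0)) (.node (.leaf 0) (.leaf 0))) (.node (.node (.leaf 0) (.leaf 0)) (.node (.leaf 0) (.leaf 0)))))) (.node (.node (.node (.node (.node (.leaf 0) (.leaf 0)) (.node (.leaf 0) (.leaf 0))) (.node (.node (.leaf 0) (.leaf 0)) (.node (.leaf 0) (.leaf 0)))) (.node (.node (.node (.leaf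 0) (.leaf 0)) (.node (.leaf 0) (.leaf 0))) (.node (.node (.leaf 0) (.leaf 0)) (.node (.leaf 0) (.leaf 0))))) (.node (.node (.node (.node (.leaf 0) (.leaf 0)) (.node (.leaf 0) (.leaf 0))) (.node (.node (.leaf 0) (.leaf 0)) (.node (.leaf 0) (.leaf 0)))) (.node (.node (.node (.leaf 0) (.leaf 0)) (.node (.leaf 0) (.leaf 0))) (.node (.node (.leaf 0) (.leaf 0)) (.node (.leaf 0) (.leaf 0)))))))

/-- A point of the block, part 805. -/
def ptCodePart805 : Janko1.Tree ℕ := (.node (.node (.node (.node (.node (.node (.leaf 0) (.leaf 0)) (.node (.leaf 0) (.leaf 0))) (.node (.node (.leaf 0) (.leaf 0)) (.node (.leaf 0) (.leaf 0)))) (.node (.node (.node (.leaf 0) (.leaf 0)) (.node (.leaf 0) (.leaf 0))) (.node (.node (.leaf 0) (.leaf 0)) (.node (.leaf 0) (.leaf 0))))) (.node (.node (.node (.node (.leaf 0) (.leaf 0)) (.node (.leaf 0) (.leaf 0))) (.node (.node (.leaf 0) (.leaf 0)) (.node (.leaf 0) (.leaf 0)))) (.node (.node (.node (.leaf 0) (.leaf 0)) (.node (.leaf 0) (.leaf 0))) (.node (.node (.leaf 0) (.leaf 0)) (.node (.leaf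 0) (.leaf 0)))))) (.node (.node (.node (.node (.node (.leaf 0) (.leaf 0)) (.node (.leaf 0) (.leaf 0))) (.node (.node (.leaf 0) (.leaf 0)) (.node (.leaf 0) (.leaf 0)))) (.node (.node (.node (.leaf 0) (.leaf 0)) (.node (.leaf 0) (.leaf 0))) (.node (.node (.leaf 0) (.leaf 0)) (.node (.leaf 0) (.leaf 0))))) (.node (.node (.node (.node (.leaf 0) (.leaf 0)) (.node (.leaf 0) (.leaf 0))) (.node (.node (.leaf 0) (.leaf 0)) (.node (.leaf 0) (.leaf 0)))) (.node (.node (.node (.leaf 0) (.leaf 0)) (.node (.leaf 0) (.leaf 0))) (.node (.node (.leaf 0) (.leaf 0)) (.node (.leaf 0) (.leaf 0)))))))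

/-- A point of the block, part 806. -/
def ptCodePart806 : Janko1.Tree ℕ := (.node (.node (.node (.node (.node (.node (.leaf 0) (.leaf 0)) (.node (.leaf 0) (.leaf 0))) (.node (.node (.leaf 0) (.leaf 0)) (.node (.leaf 0) (.leaf 0)))) (.node (.node (.node (.leaf 0) (.leaf 0)) (.node (.leaf 0) (.leaf 0))) (.node (.node (.leaf 0) (.leaf 0)) (.node (.leaf 0) (.leaf 0))))) (.node (.node (.node (.node (.leaf 0) (.leaf 0)) (.node (.leaf 0) (.leaf 0))) (.node (.node (.leaf 0) (.leaf 0)) (.node (.leaf 0) (.leaf 0)))) (.node (.node (.node (.leaf 0) (.leaf 0)) (.node (.leaf 0) (.leaf 0))) (.node (.node (.leaf 0) (.leaf 0)) (.node (.leaf 0) (.leaf 0)))))) (.node (.node (.node (.node (.node (.leaf 0) (.leaf 0)) (.node (.leaf 0) (.leaf 0))) (.node (.node (.leaf 0) (.leaf 0)) (.node (.leaf 0) (.leaf 0)))) (.node (.node (.node (.leaf 0) (.leaf 0)) (.node (.leaf 0) (.leaf 0))) (.node (.node (.leaf 0) (.leaf 0)) (.node (.leaf 0) (.leaf 0))))) (.node (.node (.node (.node (.leaf 0) (.leaf 0)) (.node (.leaf 0) (.leaf 0))) (.node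 (.node (.leaf 0) (.leaf 0)) (.node (.leaf 0) (.leaf 0)))) (.node (.node (.node (.leaf 0) (.leaf 0)) (.node (.leaf 0) (.leaf 0))) (.node (.node (.leaf 0) (.leaf 0)) (.node (.leaf 0) (.leaf 0)))))))

/-- A point of the block, part 807. -/
def ptCodePart807 : Janko1.Tree ℕ := (.node (.node (.node (.node (.node (.node (.leaf 0) (.leaf 0)) (.node (.leaf 0) (.leaf 0))) (.node (.node (.leaf 0) (.leaf 0)) (.node (.leaf 0) (.leaf 0)))) (.node (.node (.node (.leaf 0) (.leaf 0)) (.node (.leaf 0) (.leaf 0))) (.node (.node (.leaf 0) (.leaf 0)) (.node (.leaf 0) (.leaf 0))))) (.node (.node (.node (.node (.leaf 0) (.leaf 0)) (.node (.leaf 0) (.leaf 0))) (.node (.node (.leaf 0) (.leaf 0)) (.node (.leaf 0) (.leaf 0)))) (.node (.node (.node (.leaf 0) (.leaf 0)) (.node (.leaf 0) (.leaf 0))) (.node (.node (.leaf 0) (.leaf 0)) (.node (.leaf 0) (.leaf 0)))))) (.node (.node (.node (.node (.node (.leaf 0) (.leaf 0)) (.node (.leaf 0) (.leaf 0))) (.node (.node (.leaf 0) (.leaf 0)) (.node (.leaf 0) (.leaf 0)))) (.node (.node (.node (.leaf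 0) (.leaf 0)) (.node (.leaf 0) (.leaf 0))) (.node (.node (.leaf 0) (.leaf 0)) (.node (.leaf 0) (.leaf 0))))) (.node (.node (.node (.node (.leaf 0) (.leaf 0)) (.node (.leaf 0) (.leaf 0))) (.node (.node (.leaf 0) (.leaf 0)) (.node (.leaf 0) (.leaf 0)))) (.node (.node (.node (.leaf 0) (.leaf 0)) (.node (.leaf 0) (.leaf 0))) (.node (.node (.leaf 0) (.leaf 0)) (.node (.leaf 0) (.leaf 0)))))))

/-- A point of the block, part 808. -/
def ptCodePart808 : Janko1.Tree ℕ := (.node (.node (.node (.node (.node (.node (.leaf 0) (.leaf 0)) (.node (.leaf 0) (.leaf 0))) (.node (.node (.leaf 0) (.leaf 0)) (.node (.leaf 0) (.leaf 0)))) (.node (.node (.node (.leaf 0) (.leaf 0)) (.node (.leaf 0) (.leaf 0))) (.node (.node (.leaf 0) (.leaf 0)) (.node (.leaf 0) (.leaf 0))))) (.node (.node (.node (.node (.leaf 0) (.leaf 0)) (.node (.leaf 0) (.leaf 0))) (.node (.node (.leaf 0) (.leaf 0)) (.node (.leaf 0) (.leaf 0)))) (.node (.node (.node (.leaf 0) (.leaf 0)) (.node (.leaf 0) (.leaf 0))) (.node (.node (.leaf 0) (.leaf 0)) (.node (.leaf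 0) (.leaf 0)))))) (.node (.node (.node (.node (.node (.leaf 0) (.leaf 0)) (.node (.leaf 0) (.leaf 0))) (.node (.node (.leaf 0) (.leaf 0)) (.node (.leaf 0) (.leaf 0)))) (.node (.node (.node (.leaf 0) (.leaf 0)) (.node (.leaf 0) (.leaf 0))) (.node (.node (.leaf 0) (.leaf 0)) (.node (.leaf 0) (.leaf 0))))) (.node (.node (.node (.node (.leaf 0) (.leaf 0)) (.node (.leaf 0) (.leaf 0))) (.node (.node (.leaf 0) (.leaf 0)) (.node (.leaf 0) (.leaf 0)))) (.node (.node (.node (.leaf 0) (.leaf 0)) (.node (.leaf 0) (.leaf 0))) (.node (.node (.leaf 0) (.leaf 0)) (.node (.leaf 0) (.leaf 0)))))))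

/-- A point of the block, part 809. -/
def ptCodePart809 : Janko1.Tree ℕ := (.node (.node (.node (.node (.node (.node (.leaf 0) (.leaf 0)) (.node (.leaf 0) (.leaf 0))) (.node (.node (.leaf 0) (.leaf 0)) (.node (.leaf 0) (.leaf 0)))) (.node (.node (.node (.leaf 0) (.leaf 0)) (.node (.leaf 0) (.leaf 0))) (.node (.node (.leaf 0) (.leaf 0)) (.node (.leaf 0) (.leaf 0))))) (.node (.node (.node (.node (.leaf 0) (.leaf 0)) (.node (.leaf 0) (.leaf 0))) (.node (.node (.leaf 0) (.leaf 0)) (.node (.leaf 0) (.leaf 0)))) (.node (.node (.node (.leaf 0) (.leaf 0)) (.node (.leaf 0) (.leaf 0))) (.node (.node (.leaf 0) (.leaf 0)) (.node (.leaf 0) (.leaf 0)))))) (.node (.node (.node (.node (.node (.leaf 0) (.leaf 0)) (.node (.leaf 0) (.leaf 0))) (.node (.node (.leaf 0) (.leaf 0)) (.node (.leaf 0) (.leaf 0)))) (.node (.node (.node (.leaf 0) (.leaf 0)) (.node (.leaf 0) (.leaf 0))) (.node (.node (.leaf 0) (.leaf 0)) (.node (.leaf 0) (.leaf 0))))) (.node (.node (.node (.node (.leaf 0) (.leaf 0)) (.node (.leaf 0) (.leaf 0))) (.node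 (.node (.leaf 0) (.leaf 0)) (.node (.leaf 0) (.leaf 0)))) (.node (.node (.node (.leaf 0) (.leaf 0)) (.node (.leaf 0) (.leaf 0))) (.node (.node (.leaf 0) (.leaf 0)) (.node (.leaf 0) (.leaf 0)))))))

/-- A point of the block, part 810. -/
def ptCodePart810 : Janko1.Tree ℕ := (.node (.node (.node (.node (.node (.node (.leaf 0) (.leaf 0)) (.node (.leaf 0) (.leaf 0))) (.node (.node (.leaf 0) (.leaf 0)) (.node (.leaf 0) (.leaf 0)))) (.node (.node (.node (.leaf 0) (.leaf 0)) (.node (.leaf 0) (.leaf 0))) (.node (.node (.leaf 0) (.leaf 0)) (.node (.leaf 0) (.leaf 0))))) (.node (.node (.node (.node (.leaf 0) (.leaf 0)) (.node (.leaf 0) (.leaf 0))) (.node (.node (.leaf 0) (.leaf 0)) (.node (.leaf 0) (.leaf 0)))) (.node (.node (.node (.leaf 0) (.leaf 0)) (.node (.leaf 0) (.leaf 0))) (.node (.node (.leaf 0) (.leaf 0)) (.node (.leaf 0) (.leaf 0)))))) (.node (.node (.node (.node (.node (.leaf 0) (.leaf 0)) (.node (.leaf 0) (.leaf 0))) (.node (.node (.leaf 0) (.leaf 0)) (.node (.leaf 0) (.leaf 0)))) (.node (.node (.node (.leaf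 0) (.leaf 0)) (.node (.leaf 0) (.leaf 0))) (.node (.node (.leaf 0) (.leaf 0)) (.node (.leaf 0) (.leaf 0))))) (.node (.node (.node (.node (.leaf 0) (.leaf 0)) (.node (.leaf 0) (.leaf 0))) (.node (.node (.leaf 0) (.leaf 0)) (.node (.leaf 0) (.leaf 0)))) (.node (.node (.node (.leaf 0) (.leaf 0)) (.node (.leaf 0) (.leaf 0))) (.node (.node (.leaf 0) (.leaf 0)) (.node (.leaf 0) (.leaf 0)))))))

/-- A point of the block, part 811. -/
def ptCodePart811 : Janko1.Tree ℕ := (.node (.node (.node (.node (.node (.node (.leaf 0) (.leaf 0)) (.node (.leaf 0) (.leaf 0))) (.node (.node (.leaf 0) (.leaf 0)) (.node (.leaf 0) (.leaf 0)))) (.node (.node (.node (.leaf 0) (.leaf 0)) (.node (.leaf 0) (.leaf 0))) (.node (.node (.leaf 0) (.leaf 0)) (.node (.leaf 0) (.leaf 0))))) (.node (.node (.node (.node (.leaf 0) (.leaf 0)) (.node (.leaf 0) (.leaf 0))) (.node (.node (.leaf 0) (.leaf 0)) (.node (.leaf 0) (.leaf 0)))) (.node (.node (.node (.leaf 0) (.leaf 0)) (.node (.leaf 0) (.leaf 0))) (.node (.node (.leaf 0) (.leaf 0)) (.node (.leaf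 0) (.leaf 0)))))) (.node (.node (.node (.node (.node (.leaf 0) (.leaf 0)) (.node (.leaf 0) (.leaf 0))) (.node (.node (.leaf 0) (.leaf 0)) (.node (.leaf 0) (.leaf 0)))) (.node (.node (.node (.leaf 0) (.leaf 0)) (.node (.leaf 0) (.leaf 0))) (.node (.node (.leaf 0) (.leaf 0)) (.node (.leaf 0) (.leaf 0))))) (.node (.node (.node (.node (.leaf 0) (.leaf 0)) (.node (.leaf 0) (.leaf 0))) (.node (.node (.leaf 0) (.leaf 0)) (.node (.leaf 0) (.leaf 0)))) (.node (.node (.node (.leaf 0) (.leaf 0)) (.node (.leaf 0) (.leaf 0))) (.node (.node (.leaf 0) (.leaf 0)) (.node (.leaf 0) (.leaf 0)))))))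

/-- A point of the block, part 812. -/
def ptCodePart812 : Janko1.Tree ℕ := (.node (.node (.node (.node (.node (.node (.leaf 0) (.leaf 0)) (.node (.leaf 0) (.leaf 0))) (.node (.node (.leaf 0) (.leaf 0)) (.node (.leaf 0) (.leaf 0)))) (.node (.node (.node (.leaf 0) (.leaf 0)) (.node (.leaf 0) (.leaf 0))) (.node (.node (.leaf 0) (.leaf 0)) (.node (.leaf 0) (.leaf 0))))) (.node (.node (.node (.node (.leaf 0) (.leaf 0)) (.node (.leaf 0) (.leaf 0))) (.node (.node (.leaf 0) (.leaf 0)) (.node (.leaf 0) (.leaf 0)))) (.node (.node (.node (.leaf 0) (.leaf 0)) (.node (.leaf 0) (.leaf 0))) (.node (.node (.leaf 0) (.leaf 0)) (.node (.leaf 0) (.leaf 0)))))) (.node (.node (.node (.node (.node (.leaf 0) (.leaf 0)) (.node (.leaf 0) (.leaf 0))) (.node (.node (.leaf 0) (.leaf 0)) (.node (.leaf 0) (.leaf 0)))) (.node (.node (.node (.leaf 0) (.leaf 0)) (.node (.leaf 0) (.leaf 0))) (.node (.node (.leaf 0) (.leaf 0)) (.node (.leaf 0) (.leaf 0))))) (.node (.node (.node (.node (.leaf 0) (.leaf 0)) (.node (.leaf 0) (.leaf 0))) (.node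 (.node (.leaf 0) (.leaf 0)) (.node (.leaf 0) (.leaf 0)))) (.node (.node (.node (.leaf 0) (.leaf 0)) (.node (.leaf 0) (.leaf 0))) (.node (.node (.leaf 0) (.leaf 0)) (.node (.leaf 0) (.leaf 0)))))))

/-- A point of the block, part 813. -/
def ptCodePart813 : Janko1.Tree ℕ := (.node (.node (.node (.node (.node (.node (.leaf 0) (.leaf 0)) (.node (.leaf 0) (.leaf 0))) (.node (.node (.leaf 0) (.leaf 0)) (.node (.leaf 0) (.leaf 0)))) (.node (.node (.node (.leaf 0) (.leaf 0)) (.node (.leaf 0) (.leaf 0))) (.node (.node (.leaf 0) (.leaf 0)) (.node (.leaf 0) (.leaf 0))))) (.node (.node (.node (.node (.leaf 0) (.leaf 0)) (.node (.leaf 0) (.leaf 0))) (.node (.node (.leaf 0) (.leaf 0)) (.node (.leaf 0) (.leaf 0)))) (.node (.node (.node (.leaf 0) (.leaf 0)) (.node (.leaf 0) (.leaf 0))) (.node (.node (.leaf 0) (.leaf 0)) (.node (.leaf 0) (.leaf 0)))))) (.node (.node (.node (.node (.node (.leaf 0) (.leaf 0)) (.node (.leaf 0) (.leaf 0))) (.node (.node (.leaf 0) (.leaf 0)) (.node (.leaf 0) (.leaf 0)))) (.node (.node (.node (.leaf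 0) (.leaf 0)) (.node (.leaf 0) (.leaf 0))) (.node (.node (.leaf 0) (.leaf 0)) (.node (.leaf 0) (.leaf 0))))) (.node (.node (.node (.node (.leaf 0) (.leaf 0)) (.node (.leaf 0) (.leaf 0))) (.node (.node (.leaf 0) (.leaf 0)) (.node (.leaf 0) (.leaf 0)))) (.node (.node (.node (.leaf 0) (.leaf 0)) (.node (.leaf 0) (.leaf 0))) (.node (.node (.leaf 0) (.leaf 0)) (.node (.leaf 0) (.leaf 0)))))))

/-- A point of the block, part 814. -/
def ptCodePart814 : Janko1.Tree ℕ := (.node (.node (.node (.node (.node (.node (.leaf 0) (.leaf 0)) (.node (.leaf 0) (.leaf 0))) (.node (.node (.leaf 0) (.leaf 0)) (.node (.leaf 0) (.leaf 0)))) (.node (.node (.node (.leaf 0) (.leaf 0)) (.node (.leaf 0) (.leaf 0))) (.node (.node (.leaf 0) (.leaf 0)) (.node (.leaf 0) (.leaf 0))))) (.node (.node (.node (.node (.leaf 0) (.leaf 0)) (.node (.leaf 0) (.leaf 0))) (.node (.node (.leaf 0) (.leaf 0)) (.node (.leaf 0) (.leaf 0)))) (.node (.node (.node (.leaf 0) (.leaf 0)) (.node (.leaf 0) (.leaf 0))) (.node (.node (.leaf 0) (.leaf 0)) (.node (.leaf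 0) (.leaf 0)))))) (.node (.node (.node (.node (.node (.leaf 0) (.leaf 0)) (.node (.leaf 0) (.leaf 0))) (.node (.node (.leaf 0) (.leaf 0)) (.node (.leaf 0) (.leaf 0)))) (.node (.node (.node (.leaf 0) (.leaf 0)) (.node (.leaf 0) (.leaf 0))) (.node (.node (.leaf 0) (.leaf 0)) (.node (.leaf 0) (.leaf 0))))) (.node (.node (.node (.node (.leaf 0) (.leaf 0)) (.node (.leaf 0) (.leaf 0))) (.node (.node (.leaf 0) (.leaf 0)) (.node (.leaf 0) (.leaf 0)))) (.node (.node (.node (.leaf 0) (.leaf 0)) (.node (.leaf 0) (.leaf 0))) (.node (.node (.leaf 0) (.leaf 0)) (.node (.leaf 0) (.leaf 0)))))))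

/-- A point of the block, part 815. -/
def ptCodePart815 : Janko1.Tree ℕ := (.node (.node (.node (.node (.node (.node (.leaf 0) (.leaf 0)) (.node (.leaf 0) (.leaf 0))) (.node (.node (.leaf 0) (.leaf 0)) (.node (.leaf 0) (.leaf 0)))) (.node (.node (.node (.leaf 0) (.leaf 0)) (.node (.leaf 0) (.leaf 0))) (.node (.node (.leaf 0) (.leaf 0)) (.node (.leaf 0) (.leaf 0))))) (.node (.node (.node (.node (.leaf 0) (.leaf 0)) (.node (.leaf 0) (.leaf 0))) (.node (.node (.leaf 0) (.leaf 0)) (.node (.leaf 0) (.leaf 0)))) (.node (.node (.node (.leaf 0) (.leaf 0)) (.node (.leaf 0) (.leaf 0))) (.node (.node (.leaf 0) (.leaf 0)) (.node (.leaf 0) (.leaf 0)))))) (.node (.node (.node (.node (.node (.leaf 0) (.leaf 0)) (.node (.leaf 0) (.leaf 0))) (.node (.node (.leaf 0) (.leaf 0)) (.node (.leaf 0) (.leaf 0)))) (.node (.node (.node (.leaf 0) (.leaf 0)) (.node (.leaf 0) (.leaf 0))) (.node (.node (.leaf 0) (.leaf 0)) (.node (.leaf 0) (.leaf 0))))) (.node (.node (.node (.node (.leaf 0) (.leaf 0)) (.node (.leaf 0) (.leaf 0))) (.node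 (.node (.leaf 0) (.leaf 0)) (.node (.leaf 0) (.leaf 0)))) (.node (.node (.node (.leaf 0) (.leaf 0)) (.node (.leaf 0) (.leaf 0))) (.node (.node (.leaf 0) (.leaf 0)) (.node (.leaf 0) (.leaf 0)))))))

/-- A point of the block, part 816. -/
def ptCodePart816 : Janko1.Tree ℕ := (.node (.node (.node (.node (.node (.node (.leaf 0) (.leaf 0)) (.node (.leaf 0) (.leaf 0))) (.node (.node (.leaf 0) (.leaf 0)) (.node (.leaf 0) (.leaf 0)))) (.node (.node (.node (.leaf 0) (.leaf 0)) (.node (.leaf 0) (.leaf 0))) (.node (.node (.leaf 0) (.leaf 0)) (.node (.leaf 0) (.leaf 0))))) (.node (.node (.node (.node (.leaf 0) (.leaf 0)) (.node (.leaf 0) (.leaf 0))) (.node (.node (.leaf 0) (.leaf 0)) (.node (.leaf 0) (.leaf 0)))) (.node (.node (.node (.leaf 0) (.leaf 0)) (.node (.leaf 0) (.leaf 0))) (.node (.node (.leaf 0) (.leaf 0)) (.node (.leaf 0) (.leaf 0)))))) (.node (.node (.node (.node (.node (.leaf 0) (.leaf 0)) (.node (.leaf 0) (.leaf 0))) (.node (.node (.leaf 0) (.leaf 0)) (.node (.leaf 0) (.leaf 0)))) (.node (.node (.node (.leaf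 0) (.leaf 0)) (.node (.leaf 0) (.leaf 0))) (.node (.node (.leaf 0) (.leaf 0)) (.node (.leaf 0) (.leaf 0))))) (.node (.node (.node (.node (.leaf 0) (.leaf 0)) (.node (.leaf 0) (.leaf 0))) (.node (.node (.leaf 0) (.leaf 0)) (.node (.leaf 0) (.leaf 0)))) (.node (.node (.node (.leaf 0) (.leaf 0)) (.node (.leaf 0) (.leaf 0))) (.node (.node (.leaf 0) (.leaf 0)) (.node (.leaf 0) (.leaf 0)))))))

/-- A point of the block, part 817. -/
def ptCodePart817 : Janko1.Tree ℕ := (.node (.node (.node (.node (.node (.node (.leaf 0) (.leaf 0)) (.node (.leaf 0) (.leaf 0))) (.node (.node (.leaf 0) (.leaf 0)) (.node (.leaf 0) (.leaf 0)))) (.node (.node (.node (.leaf 0) (.leaf 0)) (.node (.leaf 0) (.leaf 0))) (.node (.node (.leaf 0) (.leaf 0)) (.node (.leaf 0) (.leaf 0))))) (.node (.node (.node (.node (.leaf 0) (.leaf 0)) (.node (.leaf 0) (.leaf 0))) (.node (.node (.leaf 0) (.leaf 0)) (.node (.leaf 0) (.leaf 0)))) (.node (.node (.node (.leaf 0) (.leaf 0)) (.node (.leaf 0) (.leaf 0))) (.node (.node (.leaf 0) (.leaf 0)) (.node (.leaf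 0) (.leaf 0)))))) (.node (.node (.node (.node (.node (.leaf 0) (.leaf 0)) (.node (.leaf 0) (.leaf 0))) (.node (.node (.leaf 0) (.leaf 0)) (.node (.leaf 0) (.leaf 0)))) (.node (.node (.node (.leaf 0) (.leaf 0)) (.node (.leaf 0) (.leaf 0))) (.node (.node (.leaf 0) (.leaf 0)) (.node (.leaf 0) (.leaf 0))))) (.node (.node (.node (.node (.leaf 0) (.leaf 0)) (.node (.leaf 0) (.leaf 0))) (.node (.node (.leaf 0) (.leaf 0)) (.node (.leaf 0) (.leaf 0)))) (.node (.node (.node (.leaf 0) (.leaf 0)) (.node (.leaf 0) (.leaf 0))) (.node (.node (.leaf 0) (.leaf 0)) (.node (.leaf 0) (.leaf 0)))))))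

/-- A point of the block, part 818. -/
def ptCodePart818 : Janko1.Tree ℕ := (.node (.node (.node (.node (.node (.node (.leaf 0) (.leaf 0)) (.node (.leaf 0) (.leaf 0))) (.node (.node (.leaf 0) (.leaf 0)) (.node (.leaf 0) (.leaf 0)))) (.node (.node (.node (.leaf 0) (.leaf 0)) (.node (.leaf 0) (.leaf 0))) (.node (.node (.leaf 0) (.leaf 0)) (.node (.leaf 0) (.leaf 0))))) (.node (.node (.node (.node (.leaf 0) (.leaf 0)) (.node (.leaf 0) (.leaf 0))) (.node (.node (.leaf 0) (.leaf 0)) (.node (.leaf 0) (.leaf 0)))) (.node (.node (.node (.leaf 0) (.leaf 0)) (.node (.leaf 0) (.leaf 0))) (.node (.node (.leaf 0) (.leaf 0)) (.node (.leaf 0) (.leaf 0)))))) (.node (.node (.node (.node (.node (.leaf 0) (.leaf 0)) (.node (.leaf 0) (.leaf 0))) (.node (.node (.leaf 0) (.leaf 0)) (.node (.leaf 0) (.leaf 0)))) (.node (.node (.node (.leaf 0) (.leaf 0)) (.node (.leaf 0) (.leaf 0))) (.node (.node (.leaf 0) (.leaf 0)) (.node (.leaf 0) (.leaf 0))))) (.node (.node (.node (.node (.leaf 0) (.leaf 0)) (.node (.leaf 0) (.leaf 0))) (.node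 (.node (.leaf 0) (.leaf 0)) (.node (.leaf 0) (.leaf 0)))) (.node (.node (.node (.leaf 0) (.leaf 0)) (.node (.leaf 0) (.leaf 0))) (.node (.node (.leaf 0) (.leaf 0)) (.node (.leaf 0) (.leaf 0)))))))

/-- A point of the block, part 819. -/
def ptCodePart819 : Janko1.Tree ℕ := (.node (.node (.node (.node (.node (.node (.leaf 0) (.leaf 0)) (.node (.leaf 0) (.leaf 0))) (.node (.node (.leaf 0) (.leaf 0)) (.node (.leaf 0) (.leaf 0)))) (.node (.node (.node (.leaf 0) (.leaf 0)) (.node (.leaf 0) (.leaf 0))) (.node (.node (.leaf 0) (.leaf 0)) (.node (.leaf 0) (.leaf 0))))) (.node (.node (.node (.node (.leaf 0) (.leaf 0)) (.node (.leaf 0) (.leaf 0))) (.node (.node (.leaf 0) (.leaf 0)) (.node (.leaf 0) (.leaf 0)))) (.node (.node (.node (.leaf 0) (.leaf 0)) (.node (.leaf 0) (.leaf 0))) (.node (.node (.leaf 0) (.leaf 0)) (.node (.leaf 0) (.leaf 0)))))) (.node (.node (.node (.node (.node (.leaf 0) (.leaf 0)) (.node (.leaf 0) (.leaf 0))) (.node (.node (.leaf 0) (.leaf 0)) (.node (.leaf 0) (.leaf 0)))) (.node (.node (.node (.leaf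 0) (.leaf 0)) (.node (.leaf 0) (.leaf 0))) (.node (.node (.leaf 0) (.leaf 0)) (.node (.leaf 0) (.leaf 0))))) (.node (.node (.node (.node (.leaf 0) (.leaf 0)) (.node (.leaf 0) (.leaf 0))) (.node (.node (.leaf 0) (.leaf 0)) (.node (.leaf 0) (.leaf 0)))) (.node (.node (.node (.leaf 0) (.leaf 0)) (.node (.leaf 0) (.leaf 0))) (.node (.node (.leaf 0) (.leaf 0)) (.node (.leaf 0) (.leaf 0)))))))

/-- A point of the block, part 820. -/
def ptCodePart820 : Janko1.Tree ℕ := (.node (.node (.node (.node (.node (.node (.leaf 0) (.leaf 0)) (.node (.leaf 0) (.leaf 0))) (.node (.node (.leaf 0) (.leaf 0)) (.node (.leaf 0) (.leaf 0)))) (.node (.node (.node (.leaf 0) (.leaf 0)) (.node (.leaf 0) (.leaf 0))) (.node (.node (.leaf 0) (.leaf 0)) (.node (.leaf 0) (.leaf 0))))) (.node (.node (.node (.node (.leaf 0) (.leaf 0)) (.node (.leaf 0) (.leaf 0))) (.node (.node (.leaf 0) (.leaf 0)) (.node (.leaf 0) (.leaf 0)))) (.node (.node (.node (.leaf 0) (.leaf 0)) (.node (.leaf 0) (.leaf 0))) (.node (.node (.leaf 0) (.leaf 0)) (.node (.leaf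 0) (.leaf 0)))))) (.node (.node (.node (.node (.node (.leaf 0) (.leaf 0)) (.node (.leaf 0) (.leaf 0))) (.node (.node (.leaf 0) (.leaf 0)) (.node (.leaf 0) (.leaf 0)))) (.node (.node (.node (.leaf 0) (.leaf 0)) (.node (.leaf 0) (.leaf 0))) (.node (.node (.leaf 0) (.leaf 0)) (.node (.leaf 0) (.leaf 0))))) (.node (.node (.node (.node (.leaf 0) (.leaf 0)) (.node (.leaf 0) (.leaf 0))) (.node (.node (.leaf 0) (.leaf 0)) (.node (.leaf 0) (.leaf 0)))) (.node (.node (.node (.leaf 0) (.leaf 0)) (.node (.leaf 0) (.leaf 0))) (.node (.node (.leaf 0) (.leaf 0)) (.node (.leaf 0) (.leaf 0)))))))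

/-- A point of the block, part 821. -/
def ptCodePart821 : Janko1.Tree ℕ := (.node (.node (.node (.node (.node (.node (.leaf 0) (.leaf 0)) (.node (.leaf 0) (.leaf 0))) (.node (.node (.leaf 0) (.leaf 0)) (.node (.leaf 0) (.leaf 0)))) (.node (.node (.node (.leaf 0) (.leaf 0)) (.node (.leaf 0) (.leaf 0))) (.node (.node (.leaf 0) (.leaf 0)) (.node (.leaf 0) (.leaf 0))))) (.node (.node (.node (.node (.leaf 0) (.leaf 0)) (.node (.leaf 0) (.leaf 0))) (.node (.node (.leaf 0) (.leaf 0)) (.node (.leaf 0) (.leaf 0)))) (.node (.node (.node (.leaf 0) (.leaf 0)) (.node (.leaf 0) (.leaf 0))) (.node (.node (.leaf 0) (.leaf 0)) (.node (.leaf 0) (.leaf 0)))))) (.node (.node (.node (.node (.node (.leaf 0) (.leaf 0)) (.node (.leaf 0) (.leaf 0))) (.node (.node (.leaf 0) (.leaf 0)) (.node (.leaf 0) (.leaf 0)))) (.node (.node (.node (.leaf 0) (.leaf 0)) (.node (.leaf 0) (.leaf 0))) (.node (.node (.leaf 0) (.leaf 0)) (.node (.leaf 0) (.leaf 0))))) (.node (.node (.node (.node (.leaf 0) (.leaf 0)) (.node (.leaf 0) (.leaf 0))) (.node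 (.node (.leaf 0) (.leaf 0)) (.node (.leaf 0) (.leaf 0)))) (.node (.node (.node (.leaf 0) (.leaf 0)) (.node (.leaf 0) (.leaf 0))) (.node (.node (.leaf 0) (.leaf 0)) (.node (.leaf 0) (.leaf 0)))))))

/-- A point of the block, part 822. -/
def ptCodePart822 : Janko1.Tree ℕ := (.node (.node (.node (.node (.node (.node (.leaf 0) (.leaf 0)) (.node (.leaf 0) (.leaf 0))) (.node (.node (.leaf 0) (.leaf 0)) (.node (.leaf 0) (.leaf 0)))) (.node (.node (.node (.leaf 0) (.leaf 0)) (.node (.leaf 0) (.leaf 0))) (.node (.node (.leaf 0) (.leaf 0)) (.node (.leaf 0) (.leaf 0))))) (.node (.node (.node (.node (.leaf 0) (.leaf 0)) (.node (.leaf 0) (.leaf 0))) (.node (.node (.leaf 0) (.leaf 0)) (.node (.leaf 0) (.leaf 0)))) (.node (.node (.node (.leaf 0) (.leaf 0)) (.node (.leaf 0) (.leaf 0))) (.node (.node (.leaf 0) (.leaf 0)) (.node (.leaf 0) (.leaf 0)))))) (.node (.node (.node (.node (.node (.leaf 0) (.leaf 0)) (.node (.leaf 0) (.leaf 0))) (.node (.node (.leaf 0) (.leaf 0)) (.node (.leaf 0) (.leaf 0)))) (.node (.node (.node (.leaf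 0) (.leaf 0)) (.node (.leaf 0) (.leaf 0))) (.node (.node (.leaf 0) (.leaf 0)) (.node (.leaf 0) (.leaf 0))))) (.node (.node (.node (.node (.leaf 0) (.leaf 0)) (.node (.leaf 0) (.leaf 0))) (.node (.node (.leaf 0) (.leaf 0)) (.node (.leaf 0) (.leaf 0)))) (.node (.node (.node (.leaf 0) (.leaf 0)) (.node (.leaf 0) (.leaf 0))) (.node (.node (.leaf 0) (.leaf 0)) (.node (.leaf 0) (.leaf 0)))))))

/-- A point of the block, part 823. -/
def ptCodePart823 : Janko1.Tree ℕ := (.node (.node (.node (.node (.node (.node (.leaf 0) (.leaf 0)) (.node (.leaf 0) (.leaf 0))) (.node (.node (.leaf 0) (.leaf 0)) (.node (.leaf 0) (.leaf 0)))) (.node (.node (.node (.leaf 0) (.leaf 0)) (.node (.leaf 0) (.leaf 0))) (.node (.node (.leaf 0) (.leaf 0)) (.node (.leaf 0) (.leaf 0))))) (.node (.node (.node (.node (.leaf 0) (.leaf 0)) (.node (.leaf 0) (.leaf 0))) (.node (.node (.leaf 0) (.leaf 0)) (.node (.leaf 0) (.leaf 0)))) (.node (.node (.node (.leaf 0) (.leaf 0)) (.node (.leaf 0) (.leaf 0))) (.node (.node (.leaf 0) (.leaf 0)) (.node (.leaf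 0) (.leaf 0)))))) (.node (.node (.node (.node (.node (.leaf 0) (.leaf 0)) (.node (.leaf 0) (.leaf 0))) (.node (.node (.leaf 0) (.leaf 0)) (.node (.leaf 0) (.leaf 0)))) (.node (.node (.node (.leaf 0) (.leaf 0)) (.node (.leaf 0) (.leaf 0))) (.node (.node (.leaf 0) (.leaf 0)) (.node (.leaf 0) (.leaf 0))))) (.node (.node (.node (.node (.leaf 0) (.leaf 0)) (.node (.leaf 0) (.leaf 0))) (.node (.node (.leaf 0) (.leaf 0)) (.node (.leaf 0) (.leaf 0)))) (.node (.node (.node (.leaf 0) (.leaf 0)) (.node (.leaf 0) (.leaf 0))) (.node (.node (.leaf 0) (.leaf 0)) (.node (.leaf 0) (.leaf 0)))))))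

/-- A point of the block, part 824. -/
def ptCodePart824 : Janko1.Tree ℕ := (.node (.node (.node (.node (.node (.node (.leaf 0) (.leaf 0)) (.node (.leaf 0) (.leaf 0))) (.node (.node (.leaf 0) (.leaf 0)) (.node (.leaf 0) (.leaf 0)))) (.node (.node (.node (.leaf 0) (.leaf 0)) (.node (.leaf 0) (.leaf 0))) (.node (.node (.leaf 0) (.leaf 0)) (.node (.leaf 0) (.leaf 0))))) (.node (.node (.node (.node (.leaf 0) (.leaf 0)) (.node (.leaf 0) (.leaf 0))) (.node (.node (.leaf 0) (.leaf 0)) (.node (.leaf 0) (.leaf 0)))) (.node (.node (.node (.leaf 0) (.leaf 0)) (.node (.leaf 0) (.leaf 0))) (.node (.node (.leaf 0) (.leaf 0)) (.node (.leaf 0) (.leaf 0)))))) (.node (.node (.node (.node (.node (.leaf 0) (.leaf 0)) (.node (.leaf 0) (.leaf 0))) (.node (.node (.leaf 0) (.leaf 0)) (.node (.leaf 0) (.leaf 0)))) (.node (.node (.node (.leaf 0) (.leaf 0)) (.node (.leaf 0) (.leaf 0))) (.node (.node (.leaf 0) (.leaf 0)) (.node (.leaf 0) (.leaf 0))))) (.node (.node (.node (.node (.leaf 0) (.leaf 0)) (.node (.leaf 0) (.leaf 0))) (.node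 (.node (.leaf 0) (.leaf 0)) (.node (.leaf 0) (.leaf 0)))) (.node (.node (.node (.leaf 0) (.leaf 0)) (.node (.leaf 0) (.leaf 0))) (.node (.node (.leaf 0) (.leaf 0)) (.node (.leaf 0) (.leaf 0)))))))

/-- A point of the block, part 825. -/
def ptCodePart825 : Janko1.Tree ℕ := (.node (.node (.node (.node (.node (.node (.leaf 0) (.leaf 0)) (.node (.leaf 0) (.leaf 0))) (.node (.node (.leaf 0) (.leaf 0)) (.node (.leaf 0) (.leaf 0)))) (.node (.node (.node (.leaf 0) (.leaf 0)) (.node (.leaf 0) (.leaf 0))) (.node (.node (.leaf 0) (.leaf 0)) (.node (.leaf 0) (.leaf 0))))) (.node (.node (.node (.node (.leaf 0) (.leaf 0)) (.node (.leaf 0) (.leaf 0))) (.node (.node (.leaf 0) (.leaf 0)) (.node (.leaf 0) (.leaf 0)))) (.node (.node (.node (.leaf 0) (.leaf 0)) (.node (.leaf 0) (.leaf 0))) (.node (.node (.leaf 0) (.leaf 0)) (.node (.leaf 0) (.leaf 0)))))) (.node (.node (.node (.node (.node (.leaf 0) (.leaf 0)) (.node (.leaf 0) (.leaf 0))) (.node (.node (.leaf 0) (.leaf 0)) (.node (.leaf 0) (.leaf 0)))) (.node (.node (.node (.leaf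 0) (.leaf 0)) (.node (.leaf 0) (.leaf 0))) (.node (.node (.leaf 0) (.leaf 0)) (.node (.leaf 0) (.leaf 0))))) (.node (.node (.node (.node (.leaf 0) (.leaf 0)) (.node (.leaf 0) (.leaf 0))) (.node (.node (.leaf 0) (.leaf 0)) (.node (.leaf 0) (.leaf 0)))) (.node (.node (.node (.leaf 0) (.leaf 0)) (.node (.leaf 0) (.leaf 0))) (.node (.node (.leaf 0) (.leaf 0)) (.node (.leaf 0) (.leaf 0)))))))

/-- A point of the block, part 826. -/
def ptCodePart826 : Janko1.Tree ℕ := (.node (.node (.node (.node (.node (.node (.leaf 0) (.leaf 0)) (.node (.leaf 0) (.leaf 0))) (.node (.node (.leaf 0) (.leaf 0)) (.node (.leaf 0) (.leaf 0)))) (.node (.node (.node (.leaf 0) (.leaf 0)) (.node (.leaf 0) (.leaf 0))) (.node (.node (.leaf 0) (.leaf 0)) (.node (.leaf 0) (.leaf 0))))) (.node (.node (.node (.node (.leaf 0) (.leaf 0)) (.node (.leaf 0) (.leaf 0))) (.node (.node (.leaf 0) (.leaf 0)) (.node (.leaf 0) (.leaf 0)))) (.node (.node (.node (.leaf 0) (.leaf 0)) (.node (.leaf 0) (.leaf 0))) (.node (.node (.leaf 0) (.leaf 0)) (.node (.leaf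 0) (.leaf 0)))))) (.node (.node (.node (.node (.node (.leaf 0) (.leaf 0)) (.node (.leaf 0) (.leaf 0))) (.node (.node (.leaf 0) (.leaf 0)) (.node (.leaf 0) (.leaf 0)))) (.node (.node (.node (.leaf 0) (.leaf 0)) (.node (.leaf 0) (.leaf 0))) (.node (.node (.leaf 0) (.leaf 0)) (.node (.leaf 0) (.leaf 0))))) (.node (.node (.node (.node (.leaf 0) (.leaf 0)) (.node (.leaf 0) (.leaf 0))) (.node (.node (.leaf 0) (.leaf 0)) (.node (.leaf 0) (.leaf 0)))) (.node (.node (.node (.leaf 0) (.leaf 0)) (.node (.leaf 0) (.leaf 0))) (.node (.node (.leaf 0) (.leaf 0)) (.node (.leaf 0) (.leaf 0)))))))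

/-- A point of the block, part 827. -/
def ptCodePart827 : Janko1.Tree ℕ := (.node (.node (.node (.node (.node (.node (.leaf 0) (.leaf 0)) (.node (.leaf 0) (.leaf 0))) (.node (.node (.leaf 0) (.leaf 0)) (.node (.leaf 0) (.leaf 0)))) (.node (.node (.node (.leaf 0) (.leaf 0)) (.node (.leaf 0) (.leaf 0))) (.node (.node (.leaf 0) (.leaf 0)) (.node (.leaf 0) (.leaf 0))))) (.node (.node (.node (.node (.leaf 0) (.leaf 0)) (.node (.leaf 0) (.leaf 0))) (.node (.node (.leaf 0) (.leaf 0)) (.node (.leaf 0) (.leaf 0)))) (.node (.node (.node (.leaf 0) (.leaf 0)) (.node (.leaf 0) (.leaf 0))) (.node (.node (.leaf 0) (.leaf 0)) (.node (.leaf 0) (.leaf 0)))))) (.node (.node (.node (.node (.node (.leaf 0) (.leaf 0)) (.node (.leaf 0) (.leaf 0))) (.node (.node (.leaf 0) (.leaf 0)) (.node (.leaf 0) (.leaf 0)))) (.node (.node (.node (.leaf 0) (.leaf 0)) (.node (.leaf 0) (.leaf 0))) (.node (.node (.leaf 0) (.leaf 0)) (.node (.leaf 0) (.leaf 0))))) (.node (.node (.node (.node (.leaf 0) (.leaf 0)) (.node (.leaf 0) (.leaf 0))) (.node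 (.node (.leaf 0) (.leaf 0)) (.node (.leaf 0) (.leaf 0)))) (.node (.node (.node (.leaf 0) (.leaf 0)) (.node (.leaf 0) (.leaf 0))) (.node (.node (.leaf 0) (.leaf 0)) (.node (.leaf 0) (.leaf 0)))))))

/-- A point of the block, part 828. -/
def ptCodePart828 : Janko1.Tree ℕ := (.node (.node (.node (.node (.node (.node (.leaf 0) (.leaf 0)) (.node (.leaf 0) (.leaf 0))) (.node (.node (.leaf 0) (.leaf 0)) (.node (.leaf 0) (.leaf 0)))) (.node (.node (.node (.leaf 0) (.leaf 0)) (.node (.leaf 0) (.leaf 0))) (.node (.node (.leaf 0) (.leaf 0)) (.node (.leaf 0) (.leaf 0))))) (.node (.node (.node (.node (.leaf 0) (.leaf 0)) (.node (.leaf 0) (.leaf 0))) (.node (.node (.leaf 0) (.leaf 0)) (.node (.leaf 0) (.leaf 0)))) (.node (.node (.node (.leaf 0) (.leaf 0)) (.node (.leaf 0) (.leaf 0))) (.node (.node (.leaf 0) (.leaf 0)) (.node (.leaf 0) (.leaf 0)))))) (.node (.node (.node (.node (.node (.leaf 0) (.leaf 0)) (.node (.leaf 0) (.leaf 0))) (.node (.node (.leaf 0) (.leaf 0)) (.node (.leaf 0) (.leaf 0)))) (.node (.node (.node (.leaf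 0) (.leaf 0)) (.node (.leaf 0) (.leaf 0))) (.node (.node (.leaf 0) (.leaf 0)) (.node (.leaf 0) (.leaf 0))))) (.node (.node (.node (.node (.leaf 0) (.leaf 0)) (.node (.leaf 0) (.leaf 0))) (.node (.node (.leaf 0) (.leaf 0)) (.node (.leaf 0) (.leaf 0)))) (.node (.node (.node (.leaf 0) (.leaf 0)) (.node (.leaf 0) (.leaf 0))) (.node (.node (.leaf 0) (.leaf 0)) (.node (.leaf 0) (.leaf 0)))))))

/-- A point of the block, part 829. -/
def ptCodePart829 : Janko1.Tree ℕ := (.node (.node (.node (.node (.node (.node (.leaf 0) (.leaf 0)) (.node (.leaf 0) (.leaf 0))) (.node (.node (.leaf 0) (.leaf 0)) (.node (.leaf 0) (.leaf 0)))) (.node (.node (.node (.leaf 0) (.leaf 0)) (.node (.leaf 0) (.leaf 0))) (.node (.node (.leaf 0) (.leaf 0)) (.node (.leaf 0) (.leaf 0))))) (.node (.node (.node (.node (.leaf 0) (.leaf 0)) (.node (.leaf 0) (.leaf 0))) (.node (.node (.leaf 0) (.leaf 0)) (.node (.leaf 0) (.leaf 0)))) (.node (.node (.node (.leaf 0) (.leaf 0)) (.node (.leaf 0) (.leaf 0))) (.node (.node (.leaf 0) (.leaf 0)) (.node (.leaf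 0) (.leaf 0)))))) (.node (.node (.node (.node (.node (.leaf 0) (.leaf 0)) (.node (.leaf 0) (.leaf 0))) (.node (.node (.leaf 0) (.leaf 0)) (.node (.leaf 0) (.leaf 0)))) (.node (.node (.node (.leaf 0) (.leaf 0)) (.node (.leaf 0) (.leaf 0))) (.node (.node (.leaf 0) (.leaf 0)) (.node (.leaf 0) (.leaf 0))))) (.node (.node (.node (.node (.leaf 0) (.leaf 0)) (.node (.leaf 0) (.leaf 0))) (.node (.node (.leaf 0) (.leaf 0)) (.node (.leaf 0) (.leaf 0)))) (.node (.node (.node (.leaf 0) (.leaf 0)) (.node (.leaf 0) (.leaf 0))) (.node (.node (.leaf 0) (.leaf 0)) (.node (.leaf 0) (.leaf 0)))))))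

/-- A point of the block, part 830. -/
def ptCodePart830 : Janko1.Tree ℕ := (.node (.node (.node (.node (.node (.node (.leaf 0) (.leaf 0)) (.node (.leaf 0) (.leaf 0))) (.node (.node (.leaf 0) (.leaf 0)) (.node (.leaf 0) (.leaf 0)))) (.node (.node (.node (.leaf 0) (.leaf 0)) (.node (.leaf 0) (.leaf 0))) (.node (.node (.leaf 0) (.leaf 0)) (.node (.leaf 0) (.leaf 0))))) (.node (.node (.node (.node (.leaf 0) (.leaf 0)) (.node (.leaf 0) (.leaf 0))) (.node (.node (.leaf 0) (.leaf 0)) (.node (.leaf 0) (.leaf 0)))) (.node (.node (.node (.leaf 0) (.leaf 0)) (.node (.leaf 0) (.leaf 0))) (.node (.node (.leaf 0) (.leaf 0)) (.node (.leaf 0) (.leaf 0)))))) (.node (.node (.node (.node (.node (.leaf 0) (.leaf 0)) (.node (.leaf 0) (.leaf 0))) (.node (.node (.leaf 0) (.leaf 0)) (.node (.leaf 0) (.leaf 0)))) (.node (.node (.node (.leaf 0) (.leaf 0)) (.node (.leaf 0) (.leaf 0))) (.node (.node (.leaf 0) (.leaf 0)) (.node (.leaf 0) (.leaf 0))))) (.node (.node (.node (.node (.leaf 0) (.leaf 0)) (.node (.leaf 0) (.leaf 0))) (.node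 (.node (.leaf 0) (.leaf 0)) (.node (.leaf 0) (.leaf 0)))) (.node (.node (.node (.leaf 0) (.leaf 0)) (.node (.leaf 0) (.leaf 0))) (.node (.node (.leaf 0) (.leaf 0)) (.node (.leaf 0) (.leaf 0)))))))

/-- A point of the block, part 831. -/
def ptCodePart831 : Janko1.Tree ℕ := (.node (.node (.node (.node (.node (.node (.leaf 0) (.leaf 0)) (.node (.leaf 0) (.leaf 0))) (.node (.node (.leaf 0) (.leaf 0)) (.node (.leaf 0) (.leaf 0)))) (.node (.node (.node (.leaf 0) (.leaf 0)) (.node (.leaf 0) (.leaf 0))) (.node (.node (.leaf 0) (.leaf 0)) (.node (.leaf 0) (.leaf 0))))) (.node (.node (.node (.node (.leaf 0) (.leaf 0)) (.node (.leaf 0) (.leaf 0))) (.node (.node (.leaf 0) (.leaf 0)) (.node (.leaf 0) (.leaf 0)))) (.node (.node (.node (.leaf 0) (.leaf 0)) (.node (.leaf 0) (.leaf 0))) (.node (.node (.leaf 0) (.leaf 0)) (.node (.leaf 0) (.leaf 0)))))) (.node (.node (.node (.node (.node (.leaf 0) (.leaf 0)) (.node (.leaf 0) (.leaf 0))) (.node (.node (.leaf 0) (.leaf 0)) (.node (.leaf 0) (.leaf 0)))) (.node (.node (.node (.leaf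 0) (.leaf 0)) (.node (.leaf 0) (.leaf 0))) (.node (.node (.leaf 0) (.leaf 0)) (.node (.leaf 0) (.leaf 0))))) (.node (.node (.node (.node (.leaf 0) (.leaf 0)) (.node (.leaf 0) (.leaf 0))) (.node (.node (.leaf 0) (.leaf 0)) (.node (.leaf 0) (.leaf 0)))) (.node (.node (.node (.leaf 0) (.leaf 0)) (.node (.leaf 0) (.leaf 0))) (.node (.node (.leaf 0) (.leaf 0)) (.node (.leaf 0) (.leaf 0)))))))

/-- A point of the block, part 832. -/
def ptCodePart832 : Janko1.Tree ℕ := (.node (.node (.node (.node (.node (.node (.leaf 0) (.leaf 0)) (.node (.leaf 0) (.leaf 0))) (.node (.node (.leaf 0) (.leaf 0)) (.node (.leaf 0) (.leaf 0)))) (.node (.node (.node (.leaf 0) (.leaf 0)) (.node (.leaf 0) (.leaf 0))) (.node (.node (.leaf 0) (.leaf 0)) (.node (.leaf 0) (.leaf 0))))) (.node (.node (.node (.node (.leaf 0) (.leaf 0)) (.node (.leaf 0) (.leaf 0))) (.node (.node (.leaf 0) (.leaf 0)) (.node (.leaf 0) (.leaf 0)))) (.node (.node (.node (.leaf 0) (.leaf 0)) (.node (.leaf 0) (.leaf 0))) (.node (.node (.leaf 0) (.leaf 0)) (.node (.leaf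 0) (.leaf 0)))))) (.node (.node (.node (.node (.node (.leaf 0) (.leaf 0)) (.node (.leaf 0) (.leaf 0))) (.node (.node (.leaf 0) (.leaf 0)) (.node (.leaf 0) (.leaf 0)))) (.node (.node (.node (.leaf 0) (.leaf 0)) (.node (.leaf 0) (.leaf 0))) (.node (.node (.leaf 0) (.leaf 0)) (.node (.leaf 0) (.leaf 0))))) (.node (.node (.node (.node (.leaf 0) (.leaf 0)) (.node (.leaf 0) (.leaf 0))) (.node (.node (.leaf 0) (.leaf 0)) (.node (.leaf 0) (.leaf 0)))) (.node (.node (.node (.leaf 0) (.leaf 0)) (.node (.leaf 0) (.leaf 0))) (.node (.node (.leaf 0) (.leaf 0)) (.node (.leaf 0) (.leaf 0)))))))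

/-- A point of the block, part 833. -/
def ptCodePart833 : Janko1.Tree ℕ := (.node (.node (.node (.node (.node (.node (.leaf 0) (.leaf 0)) (.node (.leaf 0) (.leaf 0))) (.node (.node (.leaf 0) (.leaf 0)) (.node (.leaf 0) (.leaf 0)))) (.node (.node (.node (.leaf 0) (.leaf 0)) (.node (.leaf 0) (.leaf 0))) (.node (.node (.leaf 0) (.leaf 0)) (.node (.leaf 0) (.leaf 0))))) (.node (.node (.node (.node (.leaf 0) (.leaf 0)) (.node (.leaf 0) (.leaf 0))) (.node (.node (.leaf 0) (.leaf 0)) (.node (.leaf 0) (.leaf 0)))) (.node (.node (.node (.leaf 0) (.leaf 0)) (.node (.leaf 0) (.leaf 0))) (.node (.node (.leaf 0) (.leaf 0)) (.node (.leaf 0) (.leaf 0)))))) (.node (.node (.node (.node (.node (.leaf 0) (.leaf 0)) (.node (.leaf 0) (.leaf 0))) (.node (.node (.leaf 0) (.leaf 0)) (.node (.leaf 0) (.leaf 0)))) (.node (.node (.node (.leaf 0) (.leaf 0)) (.node (.leaf 0) (.leaf 0))) (.node (.node (.leaf 0) (.leaf 0)) (.node (.leaf 0) (.leaf 0))))) (.node (.node (.node (.node (.leaf 0) (.leaf 0)) (.node (.leaf 0) (.leaf 0))) (.node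 (.node (.leaf 0) (.leaf 0)) (.node (.leaf 0) (.leaf 0)))) (.node (.node (.node (.leaf 0) (.leaf 0)) (.node (.leaf 0) (.leaf 0))) (.node (.node (.leaf 0) (.leaf 0)) (.node (.leaf 0) (.leaf 0)))))))

/-- A point of the block, part 834. -/
def ptCodePart834 : Janko1.Tree ℕ := (.node (.node (.node (.node (.node (.node (.leaf 0) (.leaf 0)) (.node (.leaf 0) (.leaf 0))) (.node (.node (.leaf 0) (.leaf 0)) (.node (.leaf 0) (.leaf 0)))) (.node (.node (.node (.leaf 0) (.leaf 0)) (.node (.leaf 0) (.leaf 0))) (.node (.node (.leaf 0) (.leaf 0)) (.node (.leaf 0) (.leaf 0))))) (.node (.node (.node (.node (.leaf 0) (.leaf 0)) (.node (.leaf 0) (.leaf 0))) (.node (.node (.leaf 0) (.leaf 0)) (.node (.leaf 0) (.leaf 0)))) (.node (.node (.node (.leaf 0) (.leaf 0)) (.node (.leaf 0) (.leaf 0))) (.node (.node (.leaf 0) (.leaf 0)) (.node (.leaf 0) (.leaf 0)))))) (.node (.node (.node (.node (.node (.leaf 0) (.leaf 0)) (.node (.leaf 0) (.leaf 0))) (.node (.node (.leaf 0) (.leaf 0)) (.node (.leaf 0) (.leaf 0)))) (.node (.node (.node (.leaf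 0) (.leaf 0)) (.node (.leaf 0) (.leaf 0))) (.node (.node (.leaf 0) (.leaf 0)) (.node (.leaf 0) (.leaf 0))))) (.node (.node (.node (.node (.leaf 0) (.leaf 0)) (.node (.leaf 0) (.leaf 0))) (.node (.node (.leaf 0) (.leaf 0)) (.node (.leaf 0) (.leaf 0)))) (.node (.node (.node (.leaf 0) (.leaf 0)) (.node (.leaf 0) (.leaf 0))) (.node (.node (.leaf 0) (.leaf 0)) (.node (.leaf 0) (.leaf 0)))))))

/-- A point of the block, part 835. -/
def ptCodePart835 : Janko1.Tree ℕ := (.node (.node (.node (.node (.node (.node (.leaf 0) (.leaf 0)) (.node (.leaf 0) (.leaf 0))) (.node (.node (.leaf 0) (.leaf 0)) (.node (.leaf 0) (.leaf 0)))) (.node (.node (.node (.leaf 0) (.leaf 0)) (.node (.leaf 0) (.leaf 0))) (.node (.node (.leaf 0) (.leaf 0)) (.node (.leaf 0) (.leaf 0))))) (.node (.node (.node (.node (.leaf 0) (.leaf 0)) (.node (.leaf 0) (.leaf 0))) (.node (.node (.leaf 0) (.leaf 0)) (.node (.leaf 0) (.leaf 0)))) (.node (.node (.node (.leaf 0) (.leaf 0)) (.node (.leaf 0) (.leaf 0))) (.node (.node (.leaf 0) (.leaf 0)) (.node (.leaf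 0) (.leaf 0)))))) (.node (.node (.node (.node (.node (.leaf 0) (.leaf 0)) (.node (.leaf 0) (.leaf 0))) (.node (.node (.leaf 0) (.leaf 0)) (.node (.leaf 0) (.leaf 0)))) (.node (.node (.node (.leaf 0) (.leaf 0)) (.node (.leaf 0) (.leaf 0))) (.node (.node (.leaf 0) (.leaf 0)) (.node (.leaf 0) (.leaf 0))))) (.node (.node (.node (.node (.leaf 0) (.leaf 0)) (.node (.leaf 0) (.leaf 0))) (.node (.node (.leaf 0) (.leaf 0)) (.node (.leaf 0) (.leaf 0)))) (.node (.node (.node (.leaf 0) (.leaf 0)) (.node (.leaf 0) (.leaf 0))) (.node (.node (.leaf 0) (.leaf 0)) (.node (.leaf 0) (.leaf 0)))))))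

/-- A point of the block, part 836. -/
def ptCodePart836 : Janko1.Tree ℕ := (.node (.node (.node (.node (.node (.node (.leaf 0) (.leaf 0)) (.node (.leaf 0) (.leaf 0))) (.node (.node (.leaf 0) (.leaf 0)) (.node (.leaf 0) (.leaf 0)))) (.node (.node (.node (.leaf 0) (.leaf 0)) (.node (.leaf 0) (.leaf 0))) (.node (.node (.leaf 0) (.leaf 0)) (.node (.leaf 0) (.leaf 0))))) (.node (.node (.node (.node (.leaf 0) (.leaf 0)) (.node (.leaf 0) (.leaf 0))) (.node (.node (.leaf 0) (.leaf 0)) (.node (.leaf 0) (.leaf 0)))) (.node (.node (.node (.leaf 0) (.leaf 0)) (.node (.leaf 0) (.leaf 0))) (.node (.node (.leaf 0) (.leaf 0)) (.node (.leaf 0) (.leaf 0)))))) (.node (.node (.node (.node (.node (.leaf 0) (.leaf 0)) (.node (.leaf 0) (.leaf 0))) (.node (.node (.leaf 0) (.leaf 0)) (.node (.leaf 0) (.leaf 0)))) (.node (.node (.node (.leaf 0) (.leaf 0)) (.node (.leaf 0) (.leaf 0))) (.node (.node (.leaf 0) (.leaf 0)) (.node (.leaf 0) (.leaf 0))))) (.node (.node (.node (.node (.leaf 0) (.leaf 0)) (.node (.leaf 0) (.leaf 0))) (.node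 (.node (.leaf 0) (.leaf 0)) (.node (.leaf 0) (.leaf 0)))) (.node (.node (.node (.leaf 0) (.leaf 0)) (.node (.leaf 0) (.leaf 0))) (.node (.node (.leaf 0) (.leaf 0)) (.node (.leaf 0) (.leaf 0)))))))

/-- A point of the block, part 837. -/
def ptCodePart837 : Janko1.Tree ℕ := (.node (.node (.node (.node (.node (.node (.leaf 0) (.leaf 0)) (.node (.leaf 0) (.leaf 0))) (.node (.node (.leaf 0) (.leaf 0)) (.node (.leaf 0) (.leaf 0)))) (.node (.node (.node (.leaf 0) (.leaf 0)) (.node (.leaf 0) (.leaf 0))) (.node (.node (.leaf 0) (.leaf 0)) (.node (.leaf 0) (.leaf 0))))) (.node (.node (.node (.node (.leaf 0) (.leaf 0)) (.node (.leaf 0) (.leaf 0))) (.node (.node (.leaf 0) (.leaf 0)) (.node (.leaf 0) (.leaf 0)))) (.node (.node (.node (.leaf 0) (.leaf 0)) (.node (.leaf 0) (.leaf 0))) (.node (.node (.leaf 0) (.leaf 0)) (.node (.leaf 0) (.leaf 0)))))) (.node (.node (.node (.node (.node (.leaf 0) (.leaf 0)) (.node (.leaf 0) (.leaf 0))) (.node (.node (.leaf 0) (.leaf 0)) (.node (.leaf 0) (.leaf 0)))) (.node (.node (.node (.leaf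 0) (.leaf 0)) (.node (.leaf 0) (.leaf 0))) (.node (.node (.leaf 0) (.leaf 0)) (.node (.leaf 0) (.leaf 0))))) (.node (.node (.node (.node (.leaf 0) (.leaf 0)) (.node (.leaf 0) (.leaf 0))) (.node (.node (.leaf 0) (.leaf 0)) (.node (.leaf 0) (.leaf 0)))) (.node (.node (.node (.leaf 0) (.leaf 0)) (.node (.leaf 0) (.leaf 0))) (.node (.node (.leaf 0) (.leaf 0)) (.node (.leaf 0) (.leaf 0)))))))

/-- A point of the block, part 838. -/
def ptCodePart838 : Janko1.Tree ℕ := (.node (.node (.node (.node (.node (.node (.leaf 0) (.leaf 0)) (.node (.leaf 0) (.leaf 0))) (.node (.node (.leaf 0) (.leaf 0)) (.node (.leaf 0) (.leaf 0)))) (.node (.node (.node (.leaf 0) (.leaf 0)) (.node (.leaf 0) (.leaf 0))) (.node (.node (.leaf 0) (.leaf 0)) (.node (.leaf 0) (.leaf 0))))) (.node (.node (.node (.node (.leaf 0) (.leaf 0)) (.node (.leaf 0) (.leaf 0))) (.node (.node (.leaf 0) (.leaf 0)) (.node (.leaf 0) (.leaf 0)))) (.node (.node (.node (.leaf 0) (.leaf 0)) (.node (.leaf 0) (.leaf 0))) (.node (.node (.leaf 0) (.leaf 0)) (.node (.leaf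 0) (.leaf 0)))))) (.node (.node (.node (.node (.node (.leaf 0) (.leaf 0)) (.node (.leaf 0) (.leaf 0))) (.node (.node (.leaf 0) (.leaf 0)) (.node (.leaf 0) (.leaf 0)))) (.node (.node (.node (.leaf 0) (.leaf 0)) (.node (.leaf 0) (.leaf 0))) (.node (.node (.leaf 0) (.leaf 0)) (.node (.leaf 0) (.leaf 0))))) (.node (.node (.node (.node (.leaf 0) (.leaf 0)) (.node (.leaf 0) (.leaf 0))) (.node (.node (.leaf 0) (.leaf 0)) (.node (.leaf 0) (.leaf 0)))) (.node (.node (.node (.leaf 0) (.leaf 0)) (.node (.leaf 0) (.leaf 0))) (.node (.node (.leaf 0) (.leaf 0)) (.node (.leaf 0) (.leaf 0)))))))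

/-- A point of the block, part 839. -/
def ptCodePart839 : Janko1.Tree ℕ := (.node (.node (.node (.node (.node (.node (.leaf 0) (.leaf 0)) (.node (.leaf 0) (.leaf 0))) (.node (.node (.leaf 0) (.leaf 0)) (.node (.leaf 0) (.leaf 0)))) (.node (.node (.node (.leaf 0) (.leaf 0)) (.node (.leaf 0) (.leaf 0))) (.node (.node (.leaf 0) (.leaf 0)) (.node (.leaf 0) (.leaf 0))))) (.node (.node (.node (.node (.leaf 0) (.leaf 0)) (.node (.leaf 0) (.leaf 0))) (.node (.node (.leaf 0) (.leaf 0)) (.node (.leaf 0) (.leaf 0)))) (.node (.node (.node (.leaf 0) (.leaf 0)) (.node (.leaf 0) (.leaf 0))) (.node (.node (.leaf 0) (.leaf 0)) (.node (.leaf 0) (.leaf 0)))))) (.node (.node (.node (.node (.node (.leaf 0) (.leaf 0)) (.node (.leaf 0) (.leaf 0))) (.node (.node (.leaf 0) (.leaf 0)) (.node (.leaf 0) (.leaf 0)))) (.node (.node (.node (.leaf 0) (.leaf 0)) (.node (.leaf 0) (.leaf 0))) (.node (.node (.leaf 0) (.leaf 0)) (.node (.leaf 0) (.leaf 0))))) (.node (.node (.node (.node (.leaf 0) (.leaf 0)) (.node (.leaf 0) (.leaf 0))) (.node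 (.node (.leaf 0) (.leaf 0)) (.node (.leaf 0) (.leaf 0)))) (.node (.node (.node (.leaf 0) (.leaf 0)) (.node (.leaf 0) (.leaf 0))) (.node (.node (.leaf 0) (.leaf 0)) (.node (.leaf 0) (.leaf 0)))))))

/-- A point of the block, part 840. -/
def ptCodePart840 : Janko1.Tree ℕ := (.node (.node (.node (.node (.node (.node (.leaf 0) (.leaf 0)) (.node (.leaf 0) (.leaf 0))) (.node (.node (.leaf 0) (.leaf 0)) (.node (.leaf 0) (.leaf 0)))) (.node (.node (.node (.leaf 0) (.leaf 0)) (.node (.leaf 0) (.leaf 0))) (.node (.node (.leaf 0) (.leaf 0)) (.node (.leaf 0) (.leaf 0))))) (.node (.node (.node (.node (.leaf 0) (.leaf 0)) (.node (.leaf 0) (.leaf 0))) (.node (.node (.leaf 0) (.leaf 0)) (.node (.leaf 0) (.leaf 0)))) (.node (.node (.node (.leaf 0) (.leaf 0)) (.node (.leaf 0) (.leaf 0))) (.node (.node (.leaf 0) (.leaf 0)) (.node (.leaf 0) (.leaf 0)))))) (.node (.node (.node (.node (.node (.leaf 0) (.leaf 0)) (.node (.leaf 0) (.leaf 0))) (.node (.node (.leaf 0) (.leaf 0)) (.node (.leaf 0) (.leaf 0)))) (.node (.node (.node (.leaf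 0) (.leaf 0)) (.node (.leaf 0) (.leaf 0))) (.node (.node (.leaf 0) (.leaf 0)) (.node (.leaf 0) (.leaf 0))))) (.node (.node (.node (.node (.leaf 0) (.leaf 0)) (.node (.leaf 0) (.leaf 0))) (.node (.node (.leaf 0) (.leaf 0)) (.node (.leaf 0) (.leaf 0)))) (.node (.node (.node (.leaf 0) (.leaf 0)) (.node (.leaf 0) (.leaf 0))) (.node (.node (.leaf 0) (.leaf 0)) (.node (.leaf 0) (.leaf 0)))))))

/-- A point of the block, part 841. -/
def ptCodePart841 : Janko1.Tree ℕ := (.node (.node (.node (.node (.node (.node (.leaf 0) (.leaf 0)) (.node (.leaf 0) (.leaf 0))) (.node (.node (.leaf 0) (.leaf 0)) (.node (.leaf 0) (.leaf 0)))) (.node (.node (.node (.leaf 0) (.leaf 0)) (.node (.leaf 0) (.leaf 0))) (.node (.node (.leaf 0) (.leaf 0)) (.node (.leaf 0) (.leaf 0))))) (.node (.node (.node (.node (.leaf 0) (.leaf 0)) (.node (.leaf 0) (.leaf 0))) (.node (.node (.leaf 0) (.leaf 0)) (.node (.leaf 0) (.leaf 0)))) (.node (.node (.node (.leaf 0) (.leaf 0)) (.node (.leaf 0) (.leaf 0))) (.node (.node (.leaf 0) (.leaf 0)) (.node (.leaf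 0) (.leaf 0)))))) (.node (.node (.node (.node (.node (.leaf 0) (.leaf 0)) (.node (.leaf 0) (.leaf 0))) (.node (.node (.leaf 0) (.leaf 0)) (.node (.leaf 0) (.leaf 0)))) (.node (.node (.node (.leaf 0) (.leaf 0)) (.node (.leaf 0) (.leaf 0))) (.node (.node (.leaf 0) (.leaf 0)) (.node (.leaf 0) (.leaf 0))))) (.node (.node (.node (.node (.leaf 0) (.leaf 0)) (.node (.leaf 0) (.leaf 0))) (.node (.node (.leaf 0) (.leaf 0)) (.node (.leaf 0) (.leaf 0)))) (.node (.node (.node (.leaf 0) (.leaf 0)) (.node (.leaf 0) (.leaf 0))) (.node (.node (.leaf 0) (.leaf 0)) (.node (.leaf 0) (.leaf 0)))))))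

/-- A point of the block, part 842. -/
def ptCodePart842 : Janko1.Tree ℕ := (.node (.node (.node (.node (.node (.node (.leaf 0) (.leaf 0)) (.node (.leaf 0) (.leaf 0))) (.node (.node (.leaf 0) (.leaf 0)) (.node (.leaf 0) (.leaf 0)))) (.node (.node (.node (.leaf 0) (.leaf 0)) (.node (.leaf 0) (.leaf 0))) (.node (.node (.leaf 0) (.leaf 0)) (.node (.leaf 0) (.leaf 0))))) (.node (.node (.node (.node (.leaf 0) (.leaf 0)) (.node (.leaf 0) (.leaf 0))) (.node (.node (.leaf 0) (.leaf 0)) (.node (.leaf 0) (.leaf 0)))) (.node (.node (.node (.leaf 0) (.leaf 0)) (.node (.leaf 0) (.leaf 0))) (.node (.node (.leaf 0) (.leaf 0)) (.node (.leaf 0) (.leaf 0)))))) (.node (.node (.node (.node (.node (.leaf 0) (.leaf 0)) (.node (.leaf 0) (.leaf 0))) (.node (.node (.leaf 0) (.leaf 0)) (.node (.leaf 0) (.leaf 0)))) (.node (.node (.node (.leaf 0) (.leaf 0)) (.node (.leaf 0) (.leaf 0))) (.node (.node (.leaf 0) (.leaf 0)) (.node (.leaf 0) (.leaf 0))))) (.node (.node (.node (.node (.leaf 0) (.leaf 0)) (.node (.leaf 0) (.leaf 0))) (.node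 (.node (.leaf 0) (.leaf 0)) (.node (.leaf 0) (.leaf 0)))) (.node (.node (.node (.leaf 0) (.leaf 0)) (.node (.leaf 0) (.leaf 0))) (.node (.node (.leaf 0) (.leaf 0)) (.node (.leaf 0) (.leaf 0)))))))

/-- A point of the block, part 843. -/
def ptCodePart843 : Janko1.Tree ℕ := (.node (.node (.node (.node (.node (.node (.leaf 0) (.leaf 0)) (.node (.leaf 0) (.leaf 0))) (.node (.node (.leaf 0) (.leaf 0)) (.node (.leaf 0) (.leaf 0)))) (.node (.node (.node (.leaf 0) (.leaf 0)) (.node (.leaf 0) (.leaf 0))) (.node (.node (.leaf 0) (.leaf 0)) (.node (.leaf 0) (.leaf 0))))) (.node (.node (.node (.node (.leaf 0) (.leaf 0)) (.node (.leaf 0) (.leaf 0))) (.node (.node (.leaf 0) (.leaf 0)) (.node (.leaf 0) (.leaf 0)))) (.node (.node (.node (.leaf 0) (.leaf 0)) (.node (.leaf 0) (.leaf 0))) (.node (.node (.leaf 0) (.leaf 0)) (.node (.leaf 0) (.leaf 0)))))) (.node (.node (.node (.node (.node (.leaf 0) (.leaf 0)) (.node (.leaf 0) (.leaf 0))) (.node (.node (.leaf 0) (.leaf 0)) (.node (.leaf 0) (.leaf 0)))) (.node (.node (.node (.leaf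 0) (.leaf 0)) (.node (.leaf 0) (.leaf 0))) (.node (.node (.leaf 0) (.leaf 0)) (.node (.leaf 0) (.leaf 0))))) (.node (.node (.node (.node (.leaf 0) (.leaf 0)) (.node (.leaf 0) (.leaf 0))) (.node (.node (.leaf 0) (.leaf 0)) (.node (.leaf 0) (.leaf 0)))) (.node (.node (.node (.leaf 0) (.leaf 0)) (.node (.leaf 0) (.leaf 0))) (.node (.node (.leaf 0) (.leaf 0)) (.node (.leaf 0) (.leaf 0)))))))

/-- A point of the block, part 844. -/
def ptCodePart844 : Janko1.Tree ℕ := (.node (.node (.node (.node (.node (.node (.leaf 0) (.leaf 0)) (.node (.leaf 0) (.leaf 0))) (.node (.node (.leaf 0) (.leaf 0)) (.node (.leaf 0) (.leaf 0)))) (.node (.node (.node (.leaf 0) (.leaf 0)) (.node (.leaf 0) (.leaf 0))) (.node (.node (.leaf 0) (.leaf 0)) (.node (.leaf 0) (.leaf 0))))) (.node (.node (.node (.node (.leaf 0) (.leaf 0)) (.node (.leaf 0) (.leaf 0))) (.node (.node (.leaf 0) (.leaf 0)) (.node (.leaf 0) (.leaf 0)))) (.node (.node (.node (.leaf 0) (.leaf 0)) (.node (.leaf 0) (.leaf 0))) (.node (.node (.leaf 0) (.leaf 0)) (.node (.leaf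 0) (.leaf 0)))))) (.node (.node (.node (.node (.node (.leaf 0) (.leaf 0)) (.node (.leaf 0) (.leaf 0))) (.node (.node (.leaf 0) (.leaf 0)) (.node (.leaf 0) (.leaf 0)))) (.node (.node (.node (.leaf 0) (.leaf 0)) (.node (.leaf 0) (.leaf 0))) (.node (.node (.leaf 0) (.leaf 0)) (.node (.leaf 0) (.leaf 0))))) (.node (.node (.node (.node (.leaf 0) (.leaf 0)) (.node (.leaf 0) (.leaf 0))) (.node (.node (.leaf 0) (.leaf 0)) (.node (.leaf 0) (.leaf 0)))) (.node (.node (.node (.leaf 0) (.leaf 0)) (.node (.leaf 0) (.leaf 0))) (.node (.node (.leaf 0) (.leaf 0)) (.node (.leaf 0) (.leaf 0)))))))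

/-- A point of the block, part 845. -/
def ptCodePart845 : Janko1.Tree ℕ := (.node (.node (.node (.node (.node (.node (.leaf 0) (.leaf 0)) (.node (.leaf 0) (.leaf 0))) (.node (.node (.leaf 0) (.leaf 0)) (.node (.leaf 0) (.leaf 0)))) (.node (.node (.node (.leaf 0) (.leaf 0)) (.node (.leaf 0) (.leaf 0))) (.node (.node (.leaf 0) (.leaf 0)) (.node (.leaf 0) (.leaf 0))))) (.node (.node (.node (.node (.leaf 0) (.leaf 0)) (.node (.leaf 0) (.leaf 0))) (.node (.node (.leaf 0) (.leaf 0)) (.node (.leaf 0) (.leaf 0)))) (.node (.node (.node (.leaf 0) (.leaf 0)) (.node (.leaf 0) (.leaf 0))) (.node (.node (.leaf 0) (.leaf 0)) (.node (.leaf 0) (.leaf 0)))))) (.node (.node (.node (.node (.node (.leaf 0) (.leaf 0)) (.node (.leaf 0) (.leaf 0))) (.node (.node (.leaf 0) (.leaf 0)) (.node (.leaf 0) (.leaf 0)))) (.node (.node (.node (.leaf 0) (.leaf 0)) (.node (.leaf 0) (.leaf 0))) (.node (.node (.leaf 0) (.leaf 0)) (.node (.leaf 0) (.leaf 0))))) (.node (.node (.node (.node (.leaf 0) (.leaf 0)) (.node (.leaf 0) (.leaf 0))) (.node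 (.node (.leaf 0) (.leaf 0)) (.node (.leaf 0) (.leaf 0)))) (.node (.node (.node (.leaf 0) (.leaf 0)) (.node (.leaf 0) (.leaf 0))) (.node (.node (.leaf 0) (.leaf 0)) (.node (.leaf 0) (.leaf 0)))))))

/-- A point of the block, part 846. -/
def ptCodePart846 : Janko1.Tree ℕ := (.node (.node (.node (.node (.node (.node (.leaf 0) (.leaf 0)) (.node (.leaf 0) (.leaf 0))) (.node (.node (.leaf 0) (.leaf 0)) (.node (.leaf 0) (.leaf 0)))) (.node (.node (.node (.leaf 0) (.leaf 0)) (.node (.leaf 0) (.leaf 0))) (.node (.node (.leaf 0) (.leaf 0)) (.node (.leaf 0) (.leaf 0))))) (.node (.node (.node (.node (.leaf 0) (.leaf 0)) (.node (.leaf 0) (.leaf 0))) (.node (.node (.leaf 0) (.leaf 0)) (.node (.leaf 0) (.leaf 0)))) (.node (.node (.node (.leaf 0) (.leaf 0)) (.node (.leaf 0) (.leaf 0))) (.node (.node (.leaf 0) (.leaf 0)) (.node (.leaf 0) (.leaf 0)))))) (.node (.node (.node (.node (.node (.leaf 0) (.leaf 0)) (.node (.leaf 0) (.leaf 0))) (.node (.node (.leaf 0) (.leaf 0)) (.node (.leaf 0) (.leaf 0)))) (.node (.node (.node (.leaf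 0) (.leaf 0)) (.node (.leaf 0) (.leaf 0))) (.node (.node (.leaf 0) (.leaf 0)) (.node (.leaf 0) (.leaf 0))))) (.node (.node (.node (.node (.leaf 0) (.leaf 0)) (.node (.leaf 0) (.leaf 0))) (.node (.node (.leaf 0) (.leaf 0)) (.node (.leaf 0) (.leaf 0)))) (.node (.node (.node (.leaf 0) (.leaf 0)) (.node (.leaf 0) (.leaf 0))) (.node (.node (.leaf 0) (.leaf 0)) (.node (.leaf 0) (.leaf 0)))))))

/-- A point of the block, part 847. -/
def ptCodePart847 : Janko1.Tree ℕ := (.node (.node (.node (.node (.node (.node (.leaf 0) (.leaf 0)) (.node (.leaf 0) (.leaf 0))) (.node (.node (.leaf 0) (.leaf 0)) (.node (.leaf 0) (.leaf 0)))) (.node (.node (.node (.leaf 0) (.leaf 0)) (.node (.leaf 0) (.leaf 0))) (.node (.node (.leaf 0) (.leaf 0)) (.node (.leaf 0) (.leaf 0))))) (.node (.node (.node (.node (.leaf 0) (.leaf 0)) (.node (.leaf 0) (.leaf 0))) (.node (.node (.leaf 0) (.leaf 0)) (.node (.leaf 0) (.leaf 0)))) (.node (.node (.node (.leaf 0) (.leaf 0)) (.node (.leaf 0) (.leaf 0))) (.node (.node (.leaf 0) (.leaf 0)) (.node (.leaf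 0) (.leaf 0)))))) (.node (.node (.node (.node (.node (.leaf 0) (.leaf 0)) (.node (.leaf 0) (.leaf 0))) (.node (.node (.leaf 0) (.leaf 0)) (.node (.leaf 0) (.leaf 0)))) (.node (.node (.node (.leaf 0) (.leaf 0)) (.node (.leaf 0) (.leaf 0))) (.node (.node (.leaf 0) (.leaf 0)) (.node (.leaf 0) (.leaf 0))))) (.node (.node (.node (.node (.leaf 0) (.leaf 0)) (.node (.leaf 0) (.leaf 0))) (.node (.node (.leaf 0) (.leaf 0)) (.node (.leaf 0) (.leaf 0)))) (.node (.node (.node (.leaf 0) (.leaf 0)) (.node (.leaf 0) (.leaf 0))) (.node (.node (.leaf 0) (.leaf 0)) (.node (.leaf 0) (.leaf 0)))))))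

/-- A point of the block, part 848. -/
def ptCodePart848 : Janko1.Tree ℕ := (.node (.node (.node (.node (.node (.node (.leaf 0) (.leaf 0)) (.node (.leaf 0) (.leaf 0))) (.node (.node (.leaf 0) (.leaf 0)) (.node (.leaf 0) (.leaf 0)))) (.node (.node (.node (.leaf 0) (.leaf 0)) (.node (.leaf 0) (.leaf 0))) (.node (.node (.leaf 0) (.leaf 0)) (.node (.leaf 0) (.leaf 0))))) (.node (.node (.node (.node (.leaf 0) (.leaf 0)) (.node (.leaf 0) (.leaf 0))) (.node (.node (.leaf 0) (.leaf 0)) (.node (.leaf 0) (.leaf 0)))) (.node (.node (.node (.leaf 0) (.leaf 0)) (.node (.leaf 0) (.leaf 0))) (.node (.node (.leaf 0) (.leaf 0)) (.node (.leaf 0) (.leaf 0)))))) (.node (.node (.node (.node (.node (.leaf 0) (.leaf 0)) (.node (.leaf 0) (.leaf 0))) (.node (.node (.leaf 0) (.leaf 0)) (.node (.leaf 0) (.leaf 0)))) (.node (.node (.node (.leaf 0) (.leaf 0)) (.node (.leaf 0) (.leaf 0))) (.node (.node (.leaf 0) (.leaf 0)) (.node (.leaf 0) (.leaf 0))))) (.node (.node (.node (.node (.leaf 0) (.leaf 0)) (.node (.leaf 0) (.leaf 0))) (.node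 (.node (.leaf 0) (.leaf 0)) (.node (.leaf 0) (.leaf 0)))) (.node (.node (.node (.leaf 0) (.leaf 0)) (.node (.leaf 0) (.leaf 0))) (.node (.node (.leaf 0) (.leaf 0)) (.node (.leaf 0) (.leaf 0)))))))

/-- A point of the block, part 849. -/
def ptCodePart849 : Janko1.Tree ℕ := (.node (.node (.node (.node (.node (.node (.leaf 0) (.leaf 0)) (.node (.leaf 0) (.leaf 0))) (.node (.node (.leaf 0) (.leaf 0)) (.node (.leaf 0) (.leaf 0)))) (.node (.node (.node (.leaf 0) (.leaf 0)) (.node (.leaf 0) (.leaf 0))) (.node (.node (.leaf 0) (.leaf 0)) (.node (.leaf 0) (.leaf 0))))) (.node (.node (.node (.node (.leaf 0) (.leaf 0)) (.node (.leaf 0) (.leaf 0))) (.node (.node (.leaf 0) (.leaf 0)) (.node (.leaf 0) (.leaf 0)))) (.node (.node (.node (.leaf 0) (.leaf 0)) (.node (.leaf 0) (.leaf 0))) (.node (.node (.leaf 0) (.leaf 0)) (.node (.leaf 0) (.leaf 0)))))) (.node (.node (.node (.node (.node (.leaf 0) (.leaf 0)) (.node (.leaf 0) (.leaf 0))) (.node (.node (.leaf 0) (.leaf 0)) (.node (.leaf 0) (.leaf 0)))) (.node (.node (.node (.leaf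 0) (.leaf 0)) (.node (.leaf 0) (.leaf 0))) (.node (.node (.leaf 0) (.leaf 0)) (.node (.leaf 0) (.leaf 0))))) (.node (.node (.node (.node (.leaf 0) (.leaf 0)) (.node (.leaf 0) (.leaf 0))) (.node (.node (.leaf 0) (.leaf 0)) (.node (.leaf 0) (.leaf 0)))) (.node (.node (.node (.leaf 0) (.leaf 0)) (.node (.leaf 0) (.leaf 0))) (.node (.node (.leaf 0) (.leaf 0)) (.node (.leaf 0) (.leaf 0)))))))

/-- A point of the block, part 850. -/
def ptCodePart850 : Janko1.Tree ℕ := (.node (.node (.node (.node (.node (.node (.leaf 0) (.leaf 0)) (.node (.leaf 0) (.leaf 0))) (.node (.node (.leaf 0) (.leaf 0)) (.node (.leaf 0) (.leaf 0)))) (.node (.node (.node (.leaf 0) (.leaf 0)) (.node (.leaf 0) (.leaf 0))) (.node (.node (.leaf 0) (.leaf 0)) (.node (.leaf 0) (.leaf 0))))) (.node (.node (.node (.node (.leaf 0) (.leaf 0)) (.node (.leaf 0) (.leaf 0))) (.node (.node (.leaf 0) (.leaf 0)) (.node (.leaf 0) (.leaf 0)))) (.node (.node (.node (.leaf 0) (.leaf 0)) (.node (.leaf 0) (.leaf 0))) (.node (.node (.leaf 0) (.leaf 0)) (.node (.leaf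 0) (.leaf 0)))))) (.node (.node (.node (.node (.node (.leaf 0) (.leaf 0)) (.node (.leaf 0) (.leaf 0))) (.node (.node (.leaf 0) (.leaf 0)) (.node (.leaf 0) (.leaf 0)))) (.node (.node (.node (.leaf 0) (.leaf 0)) (.node (.leaf 0) (.leaf 0))) (.node (.node (.leaf 0) (.leaf 0)) (.node (.leaf 0) (.leaf 0))))) (.node (.node (.node (.node (.leaf 0) (.leaf 0)) (.node (.leaf 0) (.leaf 0))) (.node (.node (.leaf 0) (.leaf 0)) (.node (.leaf 0) (.leaf 0)))) (.node (.node (.node (.leaf 0) (.leaf 0)) (.node (.leaf 0) (.leaf 0))) (.node (.node (.leaf 0) (.leaf 0)) (.node (.leaf 0) (.leaf 0)))))))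

/-- A point of the block, part 851. -/
def ptCodePart851 : Janko1.Tree ℕ := (.node (.node (.node (.node (.node (.node (.leaf 0) (.leaf 0)) (.node (.leaf 0) (.leaf 0))) (.node (.node (.leaf 0) (.leaf 0)) (.node (.leaf 0) (.leaf 0)))) (.node (.node (.node (.leaf 0) (.leaf 0)) (.node (.leaf 0) (.leaf 0))) (.node (.node (.leaf 0) (.leaf 0)) (.node (.leaf 0) (.leaf 0))))) (.node (.node (.node (.node (.leaf 0) (.leaf 0)) (.node (.leaf 0) (.leaf 0))) (.node (.node (.leaf 0) (.leaf 0)) (.node (.leaf 0) (.leaf 0)))) (.node (.node (.node (.leaf 0) (.leaf 0)) (.node (.leaf 0) (.leaf 0))) (.node (.node (.leaf 0) (.leaf 0)) (.node (.leaf 0) (.leaf 0)))))) (.node (.node (.node (.node (.node (.leaf 0) (.leaf 0)) (.node (.leaf 0) (.leaf 0))) (.node (.node (.leaf 0) (.leaf 0)) (.node (.leaf 0) (.leaf 0)))) (.node (.node (.node (.leaf 0) (.leaf 0)) (.node (.leaf 0) (.leaf 0))) (.node (.node (.leaf 0) (.leaf 0)) (.node (.leaf 0) (.leaf 0))))) (.node (.node (.node (.node (.leaf 0) (.leaf 0)) (.node (.leaf 0) (.leaf 0))) (.node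 (.node (.leaf 0) (.leaf 0)) (.node (.leaf 0) (.leaf 0)))) (.node (.node (.node (.leaf 0) (.leaf 0)) (.node (.leaf 0) (.leaf 0))) (.node (.node (.leaf 0) (.leaf 0)) (.node (.leaf 0) (.leaf 0)))))))

/-- A point of the block, part 852. -/
def ptCodePart852 : Janko1.Tree ℕ := (.node (.node (.node (.node (.node (.node (.leaf 0) (.leaf 0)) (.node (.leaf 0) (.leaf 0))) (.node (.node (.leaf 0) (.leaf 0)) (.node (.leaf 0) (.leaf 0)))) (.node (.node (.node (.leaf 0) (.leaf 0)) (.node (.leaf 0) (.leaf 0))) (.node (.node (.leaf 0) (.leaf 0)) (.node (.leaf 0) (.leaf 0))))) (.node (.node (.node (.node (.leaf 0) (.leaf 0)) (.node (.leaf 0) (.leaf 0))) (.node (.node (.leaf 0) (.leaf 0)) (.node (.leaf 0) (.leaf 0)))) (.node (.node (.node (.leaf 0) (.leaf 0)) (.node (.leaf 0) (.leaf 0))) (.node (.node (.leaf 0) (.leaf 0)) (.node (.leaf 0) (.leaf 0)))))) (.node (.node (.node (.node (.node (.leaf 0) (.leaf 0)) (.node (.leaf 0) (.leaf 0))) (.node (.node (.leaf 0) (.leaf 0)) (.node (.leaf 0) (.leaf 0)))) (.node (.node (.node (.leaf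 0) (.leaf 0)) (.node (.leaf 0) (.leaf 0))) (.node (.node (.leaf 0) (.leaf 0)) (.node (.leaf 0) (.leaf 0))))) (.node (.node (.node (.node (.leaf 0) (.leaf 0)) (.node (.leaf 0) (.leaf 0))) (.node (.node (.leaf 0) (.leaf 0)) (.node (.leaf 0) (.leaf 0)))) (.node (.node (.node (.leaf 0) (.leaf 0)) (.node (.leaf 0) (.leaf 0))) (.node (.node (.leaf 0) (.leaf 0)) (.node (.leaf 0) (.leaf 0)))))))

/-- A point of the block, part 853. -/
def ptCodePart853 : Janko1.Tree ℕ := (.node (.node (.node (.node (.node (.node (.leaf 0) (.leaf 0)) (.node (.leaf 0) (.leaf 0))) (.node (.node (.leaf 0) (.leaf 0)) (.node (.leaf 0) (.leaf 0)))) (.node (.node (.node (.leaf 0) (.leaf 0)) (.node (.leaf 0) (.leaf 0))) (.node (.node (.leaf 0) (.leaf 0)) (.node (.leaf 0) (.leaf 0))))) (.node (.node (.node (.node (.leaf 0) (.leaf 0)) (.node (.leaf 0) (.leaf 0))) (.node (.node (.leaf 0) (.leaf 0)) (.node (.leaf 0) (.leaf 0)))) (.node (.node (.node (.leaf 0) (.leaf 0)) (.node (.leaf 0) (.leaf 0))) (.node (.node (.leaf 0) (.leaf 0)) (.node (.leaf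 0) (.leaf 0)))))) (.node (.node (.node (.node (.node (.leaf 0) (.leaf 0)) (.node (.leaf 0) (.leaf 0))) (.node (.node (.leaf 0) (.leaf 0)) (.node (.leaf 0) (.leaf 0)))) (.node (.node (.node (.leaf 0) (.leaf 0)) (.node (.leaf 0) (.leaf 0))) (.node (.node (.leaf 0) (.leaf 0)) (.node (.leaf 0) (.leaf 0))))) (.node (.node (.node (.node (.leaf 0) (.leaf 0)) (.node (.leaf 0) (.leaf 0))) (.node (.node (.leaf 0) (.leaf 0)) (.node (.leaf 0) (.leaf 0)))) (.node (.node (.node (.leaf 0) (.leaf 0)) (.node (.leaf 0) (.leaf 0))) (.node (.node (.leaf 0) (.leaf 0)) (.node (.leaf 0) (.leaf 0)))))))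

/-- A point of the block, part 854. -/
def ptCodePart854 : Janko1.Tree ℕ := (.node (.node (.node (.node (.node (.node (.leaf 0) (.leaf 0)) (.node (.leaf 0) (.leaf 0))) (.node (.node (.leaf 0) (.leaf 0)) (.node (.leaf 0) (.leaf 0)))) (.node (.node (.node (.leaf 0) (.leaf 0)) (.node (.leaf 0) (.leaf 0))) (.node (.node (.leaf 0) (.leaf 0)) (.node (.leaf 0) (.leaf 0))))) (.node (.node (.node (.node (.leaf 0) (.leaf 0)) (.node (.leaf 0) (.leaf 0))) (.node (.node (.leaf 0) (.leaf 0)) (.node (.leaf 0) (.leaf 0)))) (.node (.node (.node (.leaf 0) (.leaf 0)) (.node (.leaf 0) (.leaf 0))) (.node (.node (.leaf 0) (.leaf 0)) (.node (.leaf 0) (.leaf 0)))))) (.node (.node (.node (.node (.node (.leaf 0) (.leaf 0)) (.node (.leaf 0) (.leaf 0))) (.node (.node (.leaf 0) (.leaf 0)) (.node (.leaf 0) (.leaf 0)))) (.node (.node (.node (.leaf 0) (.leaf 0)) (.node (.leaf 0) (.leaf 0))) (.node (.node (.leaf 0) (.leaf 0)) (.node (.leaf 0) (.leaf 0))))) (.node (.node (.node (.node (.leaf 0) (.leaf 0)) (.node (.leaf 0) (.leaf 0))) (.node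 (.node (.leaf 0) (.leaf 0)) (.node (.leaf 0) (.leaf 0)))) (.node (.node (.node (.leaf 0) (.leaf 0)) (.node (.leaf 0) (.leaf 0))) (.node (.node (.leaf 0) (.leaf 0)) (.node (.leaf 0) (.leaf 0)))))))

/-- A point of the block, part 855. -/
def ptCodePart855 : Janko1.Tree ℕ := (.node (.node (.node (.node (.node (.node (.leaf 0) (.leaf 0)) (.node (.leaf 0) (.leaf 0))) (.node (.node (.leaf 0) (.leaf 0)) (.node (.leaf 0) (.leaf 0)))) (.node (.node (.node (.leaf 0) (.leaf 0)) (.node (.leaf 0) (.leaf 0))) (.node (.node (.leaf 0) (.leaf 0)) (.node (.leaf 0) (.leaf 0))))) (.node (.node (.node (.node (.leaf 0) (.leaf 0)) (.node (.leaf 0) (.leaf 0))) (.node (.node (.leaf 0) (.leaf 0)) (.node (.leaf 0) (.leaf 0)))) (.node (.node (.node (.leaf 0) (.leaf 0)) (.node (.leaf 0) (.leaf 0))) (.node (.node (.leaf 0) (.leaf 0)) (.node (.leaf 0) (.leaf 0)))))) (.node (.node (.node (.node (.node (.leaf 0) (.leaf 0)) (.node (.leaf 0) (.leaf 0))) (.node (.node (.leaf 0) (.leaf 0)) (.node (.leaf 0) (.leaf 0)))) (.node (.node (.node (.leaf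 0) (.leaf 0)) (.node (.leaf 0) (.leaf 0))) (.node (.node (.leaf 0) (.leaf 0)) (.node (.leaf 0) (.leaf 0))))) (.node (.node (.node (.node (.leaf 0) (.leaf 0)) (.node (.leaf 0) (.leaf 0))) (.node (.node (.leaf 0) (.leaf 0)) (.node (.leaf 0) (.leaf 0)))) (.node (.node (.node (.leaf 0) (.leaf 0)) (.node (.leaf 0) (.leaf 0))) (.node (.node (.leaf 0) (.leaf 0)) (.node (.leaf 0) (.leaf 0)))))))

/-- A point of the block, part 856. -/
def ptCodePart856 : Janko1.Tree ℕ := (.node (.node (.node (.node (.node (.node (.leaf 0) (.leaf 0)) (.node (.leaf 0) (.leaf 0))) (.node (.node (.leaf 0) (.leaf 0)) (.node (.leaf 0) (.leaf 0)))) (.node (.node (.node (.leaf 0) (.leaf 0)) (.node (.leaf 0) (.leaf 0))) (.node (.node (.leaf 0) (.leaf 0)) (.node (.leaf 0) (.leaf 0))))) (.node (.node (.node (.node (.leaf 0) (.leaf 0)) (.node (.leaf 0) (.leaf 0))) (.node (.node (.leaf 0) (.leaf 0)) (.node (.leaf 0) (.leaf 0)))) (.node (.node (.node (.leaf 0) (.leaf 0)) (.node (.leaf 0) (.leaf 0))) (.node (.node (.leaf 0) (.leaf 0)) (.node (.leaf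 0) (.leaf 0)))))) (.node (.node (.node (.node (.node (.leaf 0) (.leaf 0)) (.node (.leaf 0) (.leaf 0))) (.node (.node (.leaf 0) (.leaf 0)) (.node (.leaf 0) (.leaf 0)))) (.node (.node (.node (.leaf 0) (.leaf 0)) (.node (.leaf 0) (.leaf 0))) (.node (.node (.leaf 0) (.leaf 0)) (.node (.leaf 0) (.leaf 0))))) (.node (.node (.node (.node (.leaf 0) (.leaf 0)) (.node (.leaf 0) (.leaf 0))) (.node (.node (.leaf 0) (.leaf 0)) (.node (.leaf 0) (.leaf 0)))) (.node (.node (.node (.leaf 0) (.leaf 0)) (.node (.leaf 0) (.leaf 0))) (.node (.node (.leaf 0) (.leaf 0)) (.node (.leaf 0) (.leaf 0)))))))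

/-- A point of the block, part 857. -/
def ptCodePart857 : Janko1.Tree ℕ := (.node (.node (.node (.node (.node (.node (.leaf 0) (.leaf 0)) (.node (.leaf 0) (.leaf 0))) (.node (.node (.leaf 0) (.leaf 0)) (.node (.leaf 0) (.leaf 0)))) (.node (.node (.node (.leaf 0) (.leaf 0)) (.node (.leaf 0) (.leaf 0))) (.node (.node (.leaf 0) (.leaf 0)) (.node (.leaf 0) (.leaf 0))))) (.node (.node (.node (.node (.leaf 0) (.leaf 0)) (.node (.leaf 0) (.leaf 0))) (.node (.node (.leaf 0) (.leaf 0)) (.node (.leaf 0) (.leaf 0)))) (.node (.node (.node (.leaf 0) (.leaf 0)) (.node (.leaf 0) (.leaf 0))) (.node (.node (.leaf 0) (.leaf 0)) (.node (.leaf 0) (.leaf 0)))))) (.node (.node (.node (.node (.node (.leaf 0) (.leaf 0)) (.node (.leaf 0) (.leaf 0))) (.node (.node (.leaf 0) (.leaf 0)) (.node (.leaf 0) (.leaf 0)))) (.node (.node (.node (.leaf 0) (.leaf 0)) (.node (.leaf 0) (.leaf 0))) (.node (.node (.leaf 0) (.leaf 0)) (.node (.leaf 0) (.leaf 0))))) (.node (.node (.node (.node (.leaf 0) (.leaf 0)) (.node (.leaf 0) (.leaf 0))) (.node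 (.node (.leaf 0) (.leaf 0)) (.node (.leaf 0) (.leaf 0)))) (.node (.node (.node (.leaf 0) (.leaf 0)) (.node (.leaf 0) (.leaf 0))) (.node (.node (.leaf 0) (.leaf 0)) (.node (.leaf 0) (.leaf 0)))))))

/-- A point of the block, part 858. -/
def ptCodePart858 : Janko1.Tree ℕ := (.node (.node (.node (.node (.node (.node (.leaf 0) (.leaf 0)) (.node (.leaf 0) (.leaf 0))) (.node (.node (.leaf 0) (.leaf 0)) (.node (.leaf 0) (.leaf 0)))) (.node (.node (.node (.leaf 0) (.leaf 0)) (.node (.leaf 0) (.leaf 0))) (.node (.node (.leaf 0) (.leaf 0)) (.node (.leaf 0) (.leaf 0))))) (.node (.node (.node (.node (.leaf 0) (.leaf 0)) (.node (.leaf 0) (.leaf 0))) (.node (.node (.leaf 0) (.leaf 0)) (.node (.leaf 0) (.leaf 0)))) (.node (.node (.node (.leaf 0) (.leaf 0)) (.node (.leaf 0) (.leaf 0))) (.node (.node (.leaf 0) (.leaf 0)) (.node (.leaf 0) (.leaf 0)))))) (.node (.node (.node (.node (.node (.leaf 0) (.leaf 0)) (.node (.leaf 0) (.leaf 0))) (.node (.node (.leaf 0) (.leaf 0)) (.node (.leaf 0) (.leaf 0)))) (.node (.node (.node (.leaf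 0) (.leaf 0)) (.node (.leaf 0) (.leaf 0))) (.node (.node (.leaf 0) (.leaf 0)) (.node (.leaf 0) (.leaf 0))))) (.node (.node (.node (.node (.leaf 0) (.leaf 0)) (.node (.leaf 0) (.leaf 0))) (.node (.node (.leaf 0) (.leaf 0)) (.node (.leaf 0) (.leaf 0)))) (.node (.node (.node (.leaf 0) (.leaf 0)) (.node (.leaf 0) (.leaf 0))) (.node (.node (.leaf 0) (.leaf 0)) (.node (.leaf 0) (.leaf 0)))))))

/-- A point of the block, part 859. -/
def ptCodePart859 : Janko1.Tree ℕ := (.node (.node (.node (.node (.node (.node (.leaf 0) (.leaf 0)) (.node (.leaf 0) (.leaf 0))) (.node (.node (.leaf 0) (.leaf 0)) (.node (.leaf 0) (.leaf 0)))) (.node (.node (.node (.leaf 0) (.leaf 0)) (.node (.leaf 0) (.leaf 0))) (.node (.node (.leaf 0) (.leaf 0)) (.node (.leaf 0) (.leaf 0))))) (.node (.node (.node (.node (.leaf 0) (.leaf 0)) (.node (.leaf 0) (.leaf 0))) (.node (.node (.leaf 0) (.leaf 0)) (.node (.leaf 0) (.leaf 0)))) (.node (.node (.node (.leaf 0) (.leaf 0)) (.node (.leaf 0) (.leaf 0))) (.node (.node (.leaf 0) (.leaf 0)) (.node (.leaf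 0) (.leaf 0)))))) (.node (.node (.node (.node (.node (.leaf 0) (.leaf 0)) (.node (.leaf 0) (.leaf 0))) (.node (.node (.leaf 0) (.leaf 0)) (.node (.leaf 0) (.leaf 0)))) (.node (.node (.node (.leaf 0) (.leaf 0)) (.node (.leaf 0) (.leaf 0))) (.node (.node (.leaf 0) (.leaf 0)) (.node (.leaf 0) (.leaf 0))))) (.node (.node (.node (.node (.leaf 0) (.leaf 0)) (.node (.leaf 0) (.leaf 0))) (.node (.node (.leaf 0) (.leaf 0)) (.node (.leaf 0) (.leaf 0)))) (.node (.node (.node (.leaf 0) (.leaf 0)) (.node (.leaf 0) (.leaf 0))) (.node (.node (.leaf 0) (.leaf 0)) (.node (.leaf 0) (.leaf 0)))))))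

/-- A point of the block, part 860. -/
def ptCodePart860 : Janko1.Tree ℕ := (.node (.node (.node (.node (.node (.node (.leaf 0) (.leaf 0)) (.node (.leaf 0) (.leaf 0))) (.node (.node (.leaf 0) (.leaf 0)) (.node (.leaf 0) (.leaf 0)))) (.node (.node (.node (.leaf 0) (.leaf 0)) (.node (.leaf 0) (.leaf 0))) (.node (.node (.leaf 0) (.leaf 0)) (.node (.leaf 0) (.leaf 0))))) (.node (.node (.node (.node (.leaf 0) (.leaf 0)) (.node (.leaf 0) (.leaf 0))) (.node (.node (.leaf 0) (.leaf 0)) (.node (.leaf 0) (.leaf 0)))) (.node (.node (.node (.leaf 0) (.leaf 0)) (.node (.leaf 0) (.leaf 0))) (.node (.node (.leaf 0) (.leaf 0)) (.node (.leaf 0) (.leaf 0)))))) (.node (.node (.node (.node (.node (.leaf 0) (.leaf 0)) (.node (.leaf 0) (.leaf 0))) (.node (.node (.leaf 0) (.leaf 0)) (.node (.leaf 0) (.leaf 0)))) (.node (.node (.node (.leaf 0) (.leaf 0)) (.node (.leaf 0) (.leaf 0))) (.node (.node (.leaf 0) (.leaf 0)) (.node (.leaf 0) (.leaf 0))))) (.node (.node (.node (.node (.leaf 0) (.leaf 0)) (.node (.leaf 0) (.leaf 0))) (.node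 (.node (.leaf 0) (.leaf 0)) (.node (.leaf 0) (.leaf 0)))) (.node (.node (.node (.leaf 0) (.leaf 0)) (.node (.leaf 0) (.leaf 0))) (.node (.node (.leaf 0) (.leaf 0)) (.node (.leaf 0) (.leaf 0)))))))

/-- A point of the block, part 861. -/
def ptCodePart861 : Janko1.Tree ℕ := (.node (.node (.node (.node (.node (.node (.leaf 0) (.leaf 0)) (.node (.leaf 0) (.leaf 0))) (.node (.node (.leaf 0) (.leaf 0)) (.node (.leaf 0) (.leaf 0)))) (.node (.node (.node (.leaf 0) (.leaf 0)) (.node (.leaf 0) (.leaf 0))) (.node (.node (.leaf 0) (.leaf 0)) (.node (.leaf 0) (.leaf 0))))) (.node (.node (.node (.node (.leaf 0) (.leaf 0)) (.node (.leaf 0) (.leaf 0))) (.node (.node (.leaf 0) (.leaf 0)) (.node (.leaf 0) (.leaf 0)))) (.node (.node (.node (.leaf 0) (.leaf 0)) (.node (.leaf 0) (.leaf 0))) (.node (.node (.leaf 0) (.leaf 0)) (.node (.leaf 0) (.leaf 0)))))) (.node (.node (.node (.node (.node (.leaf 0) (.leaf 0)) (.node (.leaf 0) (.leaf 0))) (.node (.node (.leaf 0) (.leaf 0)) (.node (.leaf 0) (.leaf 0)))) (.node (.node (.node (.leaf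 0) (.leaf 0)) (.node (.leaf 0) (.leaf 0))) (.node (.node (.leaf 0) (.leaf 0)) (.node (.leaf 0) (.leaf 0))))) (.node (.node (.node (.node (.leaf 0) (.leaf 0)) (.node (.leaf 0) (.leaf 0))) (.node (.node (.leaf 0) (.leaf 0)) (.node (.leaf 0) (.leaf 0)))) (.node (.node (.node (.leaf 0) (.leaf 0)) (.node (.leaf 0) (.leaf 0))) (.node (.node (.leaf 0) (.leaf 0)) (.node (.leaf 0) (.leaf 0)))))))

/-- A point of the block, part 862. -/
def ptCodePart862 : Janko1.Tree ℕ := (.node (.node (.node (.node (.node (.node (.leaf 0) (.leaf 0)) (.node (.leaf 0) (.leaf 0))) (.node (.node (.leaf 0) (.leaf 0)) (.node (.leaf 0) (.leaf 0)))) (.node (.node (.node (.leaf 0) (.leaf 0)) (.node (.leaf 0) (.leaf 0))) (.node (.node (.leaf 0) (.leaf 0)) (.node (.leaf 0) (.leaf 0))))) (.node (.node (.node (.node (.leaf 0) (.leaf 0)) (.node (.leaf 0) (.leaf 0))) (.node (.node (.leaf 0) (.leaf 0)) (.node (.leaf 0) (.leaf 0)))) (.node (.node (.node (.leaf 0) (.leaf 0)) (.node (.leaf 0) (.leaf 0))) (.node (.node (.leaf 0) (.leaf 0)) (.node (.leaf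 0) (.leaf 0)))))) (.node (.node (.node (.node (.node (.leaf 0) (.leaf 0)) (.node (.leaf 0) (.leaf 0))) (.node (.node (.leaf 0) (.leaf 0)) (.node (.leaf 0) (.leaf 0)))) (.node (.node (.node (.leaf 0) (.leaf 0)) (.node (.leaf 0) (.leaf 0))) (.node (.node (.leaf 0) (.leaf 0)) (.node (.leaf 0) (.leaf 0))))) (.node (.node (.node (.node (.leaf 0) (.leaf 0)) (.node (.leaf 0) (.leaf 0))) (.node (.node (.leaf 0) (.leaf 0)) (.node (.leaf 0) (.leaf 0)))) (.node (.node (.node (.leaf 0) (.leaf 0)) (.node (.leaf 0) (.leaf 0))) (.node (.node (.leaf 0) (.leaf 0)) (.node (.leaf 0) (.leaf 0)))))))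

/-- A point of the block, part 863. -/
def ptCodePart863 : Janko1.Tree ℕ := (.node (.node (.node (.node (.node (.node (.leaf 0) (.leaf 0)) (.node (.leaf 0) (.leaf 0))) (.node (.node (.leaf 0) (.leaf 0)) (.node (.leaf 0) (.leaf 0)))) (.node (.node (.node (.leaf 0) (.leaf 0)) (.node (.leaf 0) (.leaf 0))) (.node (.node (.leaf 0) (.leaf 0)) (.node (.leaf 0) (.leaf 0))))) (.node (.node (.node (.node (.leaf 0) (.leaf 0)) (.node (.leaf 0) (.leaf 0))) (.node (.node (.leaf 0) (.leaf 0)) (.node (.leaf 0) (.leaf 0)))) (.node (.node (.node (.leaf 0) (.leaf 0)) (.node (.leaf 0) (.leaf 0))) (.node (.node (.leaf 0) (.leaf 0)) (.node (.leaf 0) (.leaf 0)))))) (.node (.node (.node (.node (.node (.leaf 0) (.leaf 0)) (.node (.leaf 0) (.leaf 0))) (.node (.node (.leaf 0) (.leaf 0)) (.node (.leaf 0) (.leaf 0)))) (.node (.node (.node (.leaf 0) (.leaf 0)) (.node (.leaf 0) (.leaf 0))) (.node (.node (.leaf 0) (.leaf 0)) (.node (.leaf 0) (.leaf 0))))) (.node (.node (.node (.node (.leaf 0) (.leaf 0)) (.node (.leaf 0) (.leaf 0))) (.node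 (.node (.leaf 0) (.leaf 0)) (.node (.leaf 0) (.leaf 0)))) (.node (.node (.node (.leaf 0) (.leaf 0)) (.node (.leaf 0) (.leaf 0))) (.node (.node (.leaf 0) (.leaf 0)) (.node (.leaf 0) (.leaf 0)))))))

/-- A point of the block, part 864. -/
def ptCodePart864 : Janko1.Tree ℕ := (.node (.node (.node (.node (.node (.node (.leaf 0) (.leaf 0)) (.node (.leaf 0) (.leaf 0))) (.node (.node (.leaf 0) (.leaf 0)) (.node (.leaf 0) (.leaf 0)))) (.node (.node (.node (.leaf 0) (.leaf 0)) (.node (.leaf 0) (.leaf 0))) (.node (.node (.leaf 0) (.leaf 0)) (.node (.leaf 0) (.leaf 0))))) (.node (.node (.node (.node (.leaf 0) (.leaf 0)) (.node (.leaf 0) (.leaf 0))) (.node (.node (.leaf 0) (.leaf 0)) (.node (.leaf 0) (.leaf 0)))) (.node (.node (.node (.leaf 0) (.leaf 0)) (.node (.leaf 0) (.leaf 0))) (.node (.node (.leaf 0) (.leaf 0)) (.node (.leaf 0) (.leaf 0)))))) (.node (.node (.node (.node (.node (.leaf 0) (.leaf 0)) (.node (.leaf 0) (.leaf 0))) (.node (.node (.leaf 0) (.leaf 0)) (.node (.leaf 0) (.leaf 0)))) (.node (.node (.node (.leaf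 0) (.leaf 0)) (.node (.leaf 0) (.leaf 0))) (.node (.node (.leaf 0) (.leaf 0)) (.node (.leaf 0) (.leaf 0))))) (.node (.node (.node (.node (.leaf 0) (.leaf 0)) (.node (.leaf 0) (.leaf 0))) (.node (.node (.leaf 0) (.leaf 0)) (.node (.leaf 0) (.leaf 0)))) (.node (.node (.node (.leaf 0) (.leaf 0)) (.node (.leaf 0) (.leaf 0))) (.node (.node (.leaf 0) (.leaf 0)) (.node (.leaf 0) (.leaf 0)))))))

/-- A point of the block, part 865. -/
def ptCodePart865 : Janko1.Tree ℕ := (.node (.node (.node (.node (.node (.node (.leaf 0) (.leaf 0)) (.node (.leaf 0) (.leaf 0))) (.node (.node (.leaf 0) (.leaf 0)) (.node (.leaf 0) (.leaf 0)))) (.node (.node (.node (.leaf 0) (.leaf 0)) (.node (.leaf 0) (.leaf 0))) (.node (.node (.leaf 0) (.leaf 0)) (.node (.leaf 0) (.leaf 0))))) (.node (.node (.node (.node (.leaf 0) (.leaf 0)) (.node (.leaf 0) (.leaf 0))) (.node (.node (.leaf 0) (.leaf 0)) (.node (.leaf 0) (.leaf 0)))) (.node (.node (.node (.leaf 0) (.leaf 0)) (.node (.leaf 0) (.leaf 0))) (.node (.node (.leaf 0) (.leaf 0)) (.node (.leaf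 0) (.leaf 0)))))) (.node (.node (.node (.node (.node (.leaf 0) (.leaf 0)) (.node (.leaf 0) (.leaf 0))) (.node (.node (.leaf 0) (.leaf 0)) (.node (.leaf 0) (.leaf 0)))) (.node (.node (.node (.leaf 0) (.leaf 0)) (.node (.leaf 0) (.leaf 0))) (.node (.node (.leaf 0) (.leaf 0)) (.node (.leaf 0) (.leaf 0))))) (.node (.node (.node (.node (.leaf 0) (.leaf 0)) (.node (.leaf 0) (.leaf 0))) (.node (.node (.leaf 0) (.leaf 0)) (.node (.leaf 0) (.leaf 0)))) (.node (.node (.node (.leaf 0) (.leaf 0)) (.node (.leaf 0) (.leaf 0))) (.node (.node (.leaf 0) (.leaf 0)) (.node (.leaf 0) (.leaf 0)))))))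

/-- A point of the block, part 866. -/
def ptCodePart866 : Janko1.Tree ℕ := (.node (.node (.node (.node (.node (.node (.leaf 0) (.leaf 0)) (.node (.leaf 0) (.leaf 0))) (.node (.node (.leaf 0) (.leaf 0)) (.node (.leaf 0) (.leaf 0)))) (.node (.node (.node (.leaf 0) (.leaf 0)) (.node (.leaf 0) (.leaf 0))) (.node (.node (.leaf 0) (.leaf 0)) (.node (.leaf 0) (.leaf 0))))) (.node (.node (.node (.node (.leaf 0) (.leaf 0)) (.node (.leaf 0) (.leaf 0))) (.node (.node (.leaf 0) (.leaf 0)) (.node (.leaf 0) (.leaf 0)))) (.node (.node (.node (.leaf 0) (.leaf 0)) (.node (.leaf 0) (.leaf 0))) (.node (.node (.leaf 0) (.leaf 0)) (.node (.leaf 0) (.leaf 0)))))) (.node (.node (.node (.node (.node (.leaf 0) (.leaf 0)) (.node (.leaf 0) (.leaf 0))) (.node (.node (.leaf 0) (.leaf 0)) (.node (.leaf 0) (.leaf 0)))) (.node (.node (.node (.leaf 0) (.leaf 0)) (.node (.leaf 0) (.leaf 0))) (.node (.node (.leaf 0) (.leaf 0)) (.node (.leaf 0) (.leaf 0))))) (.node (.node (.node (.node (.leaf 0) (.leaf 0)) (.node (.leaf 0) (.leaf 0))) (.node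 (.node (.leaf 0) (.leaf 0)) (.node (.leaf 0) (.leaf 0)))) (.node (.node (.node (.leaf 0) (.leaf 0)) (.node (.leaf 0) (.leaf 0))) (.node (.node (.leaf 0) (.leaf 0)) (.node (.leaf 0) (.leaf 0)))))))

/-- A point of the block, part 867. -/
def ptCodePart867 : Janko1.Tree ℕ := (.node (.node (.node (.node (.node (.node (.leaf 0) (.leaf 0)) (.node (.leaf 0) (.leaf 0))) (.node (.node (.leaf 0) (.leaf 0)) (.node (.leaf 0) (.leaf 0)))) (.node (.node (.node (.leaf 0) (.leaf 0)) (.node (.leaf 0) (.leaf 0))) (.node (.node (.leaf 0) (.leaf 0)) (.node (.leaf 0) (.leaf 0))))) (.node (.node (.node (.node (.leaf 0) (.leaf 0)) (.node (.leaf 0) (.leaf 0))) (.node (.node (.leaf 0) (.leaf 0)) (.node (.leaf 0) (.leaf 0)))) (.node (.node (.node (.leaf 0) (.leaf 0)) (.node (.leaf 0) (.leaf 0))) (.node (.node (.leaf 0) (.leaf 0)) (.node (.leaf 0) (.leaf 0)))))) (.node (.node (.node (.node (.node (.leaf 0) (.leaf 0)) (.node (.leaf 0) (.leaf 0))) (.node (.node (.leaf 0) (.leaf 0)) (.node (.leaf 0) (.leaf 0)))) (.node (.node (.node (.leaf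 0) (.leaf 0)) (.node (.leaf 0) (.leaf 0))) (.node (.node (.leaf 0) (.leaf 0)) (.node (.leaf 0) (.leaf 0))))) (.node (.node (.node (.node (.leaf 0) (.leaf 0)) (.node (.leaf 0) (.leaf 0))) (.node (.node (.leaf 0) (.leaf 0)) (.node (.leaf 0) (.leaf 0)))) (.node (.node (.node (.leaf 0) (.leaf 0)) (.node (.leaf 0) (.leaf 0))) (.node (.node (.leaf 0) (.leaf 0)) (.node (.leaf 0) (.leaf 0)))))))

/-- A point of the block, part 868. -/
def ptCodePart868 : Janko1.Tree ℕ := (.node (.node (.node (.node (.node (.node (.leaf 0) (.leaf 0)) (.node (.leaf 0) (.leaf 0))) (.node (.node (.leaf 0) (.leaf 0)) (.node (.leaf 0) (.leaf 0)))) (.node (.node (.node (.leaf 0) (.leaf 0)) (.node (.leaf 0) (.leaf 0))) (.node (.node (.leaf 0) (.leaf 0)) (.node (.leaf 0) (.leaf 0))))) (.node (.node (.node (.node (.leaf 0) (.leaf 0)) (.node (.leaf 0) (.leaf 0))) (.node (.node (.leaf 0) (.leaf 0)) (.node (.leaf 0) (.leaf 0)))) (.node (.node (.node (.leaf 0) (.leaf 0)) (.node (.leaf 0) (.leaf 0))) (.node (.node (.leaf 0) (.leaf 0)) (.node (.leaf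 0) (.leaf 0)))))) (.node (.node (.node (.node (.node (.leaf 0) (.leaf 0)) (.node (.leaf 0) (.leaf 0))) (.node (.node (.leaf 0) (.leaf 0)) (.node (.leaf 0) (.leaf 0)))) (.node (.node (.node (.leaf 0) (.leaf 0)) (.node (.leaf 0) (.leaf 0))) (.node (.node (.leaf 0) (.leaf 0)) (.node (.leaf 0) (.leaf 0))))) (.node (.node (.node (.node (.leaf 0) (.leaf 0)) (.node (.leaf 0) (.leaf 0))) (.node (.node (.leaf 0) (.leaf 0)) (.node (.leaf 0) (.leaf 0)))) (.node (.node (.node (.leaf 0) (.leaf 0)) (.node (.leaf 0) (.leaf 0))) (.node (.node (.leaf 0) (.leaf 0)) (.node (.leaf 0) (.leaf 0)))))))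

/-- A point of the block, part 869. -/
def ptCodePart869 : Janko1.Tree ℕ := (.node (.node (.node (.node (.node (.node (.leaf 0) (.leaf 0)) (.node (.leaf 0) (.leaf 0))) (.node (.node (.leaf 0) (.leaf 0)) (.node (.leaf 0) (.leaf 0)))) (.node (.node (.node (.leaf 0) (.leaf 0)) (.node (.leaf 0) (.leaf 0))) (.node (.node (.leaf 0) (.leaf 0)) (.node (.leaf 0) (.leaf 0))))) (.node (.node (.node (.node (.leaf 0) (.leaf 0)) (.node (.leaf 0) (.leaf 0))) (.node (.node (.leaf 0) (.leaf 0)) (.node (.leaf 0) (.leaf 0)))) (.node (.node (.node (.leaf 0) (.leaf 0)) (.node (.leaf 0) (.leaf 0))) (.node (.node (.leaf 0) (.leaf 0)) (.node (.leaf 0) (.leaf 0)))))) (.node (.node (.node (.node (.node (.leaf 0) (.leaf 0)) (.node (.leaf 0) (.leaf 0))) (.node (.node (.leaf 0) (.leaf 0)) (.node (.leaf 0) (.leaf 0)))) (.node (.node (.node (.leaf 0) (.leaf 0)) (.node (.leaf 0) (.leaf 0))) (.node (.node (.leaf 0) (.leaf 0)) (.node (.leaf 0) (.leaf 0))))) (.node (.node (.node (.node (.leaf 0) (.leaf 0)) (.node (.leaf 0) (.leaf 0))) (.node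 (.node (.leaf 0) (.leaf 0)) (.node (.leaf 0) (.leaf 0)))) (.node (.node (.node (.leaf 0) (.leaf 0)) (.node (.leaf 0) (.leaf 0))) (.node (.node (.leaf 0) (.leaf 0)) (.node (.leaf 0) (.leaf 0)))))))

/-- A point of the block, part 870. -/
def ptCodePart870 : Janko1.Tree ℕ := (.node (.node (.node (.node (.node (.node (.leaf 0) (.leaf 0)) (.node (.leaf 0) (.leaf 0))) (.node (.node (.leaf 0) (.leaf 0)) (.node (.leaf 0) (.leaf 0)))) (.node (.node (.node (.leaf 0) (.leaf 0)) (.node (.leaf 0) (.leaf 0))) (.node (.node (.leaf 0) (.leaf 0)) (.node (.leaf 0) (.leaf 0))))) (.node (.node (.node (.node (.leaf 0) (.leaf 0)) (.node (.leaf 0) (.leaf 0))) (.node (.node (.leaf 0) (.leaf 0)) (.node (.leaf 0) (.leaf 0)))) (.node (.node (.node (.leaf 0) (.leaf 0)) (.node (.leaf 0) (.leaf 0))) (.node (.node (.leaf 0) (.leaf 0)) (.node (.leaf 0) (.leaf 0)))))) (.node (.node (.node (.node (.node (.leaf 0) (.leaf 0)) (.node (.leaf 0) (.leaf 0))) (.node (.node (.leaf 0) (.leaf 0)) (.node (.leaf 0) (.leaf 0)))) (.node (.node (.node (.leaf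 0) (.leaf 0)) (.node (.leaf 0) (.leaf 0))) (.node (.node (.leaf 0) (.leaf 0)) (.node (.leaf 0) (.leaf 0))))) (.node (.node (.node (.node (.leaf 0) (.leaf 0)) (.node (.leaf 0) (.leaf 0))) (.node (.node (.leaf 0) (.leaf 0)) (.node (.leaf 0) (.leaf 0)))) (.node (.node (.node (.leaf 0) (.leaf 0)) (.node (.leaf 0) (.leaf 0))) (.node (.node (.leaf 0) (.leaf 0)) (.node (.leaf 0) (.leaf 0)))))))

/-- A point of the block, part 871. -/
def ptCodePart871 : Janko1.Tree ℕ := (.node (.node (.node (.node (.node (.node (.leaf 0) (.leaf 0)) (.node (.leaf 0) (.leaf 0))) (.node (.node (.leaf 0) (.leaf 0)) (.node (.leaf 0) (.leaf 0)))) (.node (.node (.node (.leaf 0) (.leaf 0)) (.node (.leaf 0) (.leaf 0))) (.node (.node (.leaf 0) (.leaf 0)) (.node (.leaf 0) (.leaf 0))))) (.node (.node (.node (.node (.leaf 0) (.leaf 0)) (.node (.leaf 0) (.leaf 0))) (.node (.node (.leaf 0) (.leaf 0)) (.node (.leaf 0) (.leaf 0)))) (.node (.node (.node (.leaf 0) (.leaf 0)) (.node (.leaf 0) (.leaf 0))) (.node (.node (.leaf 0) (.leaf 0)) (.node (.leaf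 0) (.leaf 0)))))) (.node (.node (.node (.node (.node (.leaf 0) (.leaf 0)) (.node (.leaf 0) (.leaf 0))) (.node (.node (.leaf 0) (.leaf 0)) (.node (.leaf 0) (.leaf 0)))) (.node (.node (.node (.leaf 0) (.leaf 0)) (.node (.leaf 0) (.leaf 0))) (.node (.node (.leaf 0) (.leaf 0)) (.node (.leaf 0) (.leaf 0))))) (.node (.node (.node (.node (.leaf 0) (.leaf 0)) (.node (.leaf 0) (.leaf 0))) (.node (.node (.leaf 0) (.leaf 0)) (.node (.leaf 0) (.leaf 0)))) (.node (.node (.node (.leaf 0) (.leaf 0)) (.node (.leaf 0) (.leaf 0))) (.node (.node (.leaf 0) (.leaf 0)) (.node (.leaf 0) (.leaf 0)))))))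

/-- A point of the block, part 872. -/
def ptCodePart872 : Janko1.Tree ℕ := (.node (.node (.node (.node (.node (.node (.leaf 0) (.leaf 0)) (.node (.leaf 0) (.leaf 0))) (.node (.node (.leaf 0) (.leaf 0)) (.node (.leaf 0) (.leaf 0)))) (.node (.node (.node (.leaf 0) (.leaf 0)) (.node (.leaf 0) (.leaf 0))) (.node (.node (.leaf 0) (.leaf 0)) (.node (.leaf 0) (.leaf 0))))) (.node (.node (.node (.node (.leaf 0) (.leaf 0)) (.node (.leaf 0) (.leaf 0))) (.node (.node (.leaf 0) (.leaf 0)) (.node (.leaf 0) (.leaf 0)))) (.node (.node (.node (.leaf 0) (.leaf 0)) (.node (.leaf 0) (.leaf 0))) (.node (.node (.leaf 0) (.leaf 0)) (.node (.leaf 0) (.leaf 0)))))) (.node (.node (.node (.node (.node (.leaf 0) (.leaf 0)) (.node (.leaf 0) (.leaf 0))) (.node (.node (.leaf 0) (.leaf 0)) (.node (.leaf 0) (.leaf 0)))) (.node (.node (.node (.leaf 0) (.leaf 0)) (.node (.leaf 0) (.leaf 0))) (.node (.node (.leaf 0) (.leaf 0)) (.node (.leaf 0) (.leaf 0))))) (.node (.node (.node (.node (.leaf 0) (.leaf 0)) (.node (.leaf 0) (.leaf 0))) (.node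 (.node (.leaf 0) (.leaf 0)) (.node (.leaf 0) (.leaf 0)))) (.node (.node (.node (.leaf 0) (.leaf 0)) (.node (.leaf 0) (.leaf 0))) (.node (.node (.leaf 0) (.leaf 0)) (.node (.leaf 0) (.leaf 0)))))))

/-- A point of the block, part 873. -/
def ptCodePart873 : Janko1.Tree ℕ := (.node (.node (.node (.node (.node (.node (.leaf 0) (.leaf 0)) (.node (.leaf 0) (.leaf 0))) (.node (.node (.leaf 0) (.leaf 0)) (.node (.leaf 0) (.leaf 0)))) (.node (.node (.node (.leaf 0) (.leaf 0)) (.node (.leaf 0) (.leaf 0))) (.node (.node (.leaf 0) (.leaf 0)) (.node (.leaf 0) (.leaf 0))))) (.node (.node (.node (.node (.leaf 0) (.leaf 0)) (.node (.leaf 0) (.leaf 0))) (.node (.node (.leaf 0) (.leaf 0)) (.node (.leaf 0) (.leaf 0)))) (.node (.node (.node (.leaf 0) (.leaf 0)) (.node (.leaf 0) (.leaf 0))) (.node (.node (.leaf 0) (.leaf 0)) (.node (.leaf 0) (.leaf 0)))))) (.node (.node (.node (.node (.node (.leaf 0) (.leaf 0)) (.node (.leaf 0) (.leaf 0))) (.node (.node (.leaf 0) (.leaf 0)) (.node (.leaf 0) (.leaf 0)))) (.node (.node (.node (.leaf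 0) (.leaf 0)) (.node (.leaf 0) (.leaf 0))) (.node (.node (.leaf 0) (.leaf 0)) (.node (.leaf 0) (.leaf 0))))) (.node (.node (.node (.node (.leaf 0) (.leaf 0)) (.node (.leaf 0) (.leaf 0))) (.node (.node (.leaf 0) (.leaf 0)) (.node (.leaf 0) (.leaf 0)))) (.node (.node (.node (.leaf 0) (.leaf 0)) (.node (.leaf 0) (.leaf 0))) (.node (.node (.leaf 0) (.leaf 0)) (.node (.leaf 0) (.leaf 0)))))))

/-- A point of the block, part 874. -/
def ptCodePart874 : Janko1.Tree ℕ := (.node (.node (.node (.node (.node (.node (.leaf 0) (.leaf 0)) (.node (.leaf 0) (.leaf 0))) (.node (.node (.leaf 0) (.leaf 0)) (.node (.leaf 0) (.leaf 0)))) (.node (.node (.node (.leaf 0) (.leaf 0)) (.node (.leaf 0) (.leaf 0))) (.node (.node (.leaf 0) (.leaf 0)) (.node (.leaf 0) (.leaf 0))))) (.node (.node (.node (.node (.leaf 0) (.leaf 0)) (.node (.leaf 0) (.leaf 0))) (.node (.node (.leaf 0) (.leaf 0)) (.node (.leaf 0) (.leaf 0)))) (.node (.node (.node (.leaf 0) (.leaf 0)) (.node (.leaf 0) (.leaf 0))) (.node (.node (.leaf 0) (.leaf 0)) (.node (.leaf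 0) (.leaf 0)))))) (.node (.node (.node (.node (.node (.leaf 0) (.leaf 0)) (.node (.leaf 0) (.leaf 0))) (.node (.node (.leaf 0) (.leaf 0)) (.node (.leaf 0) (.leaf 0)))) (.node (.node (.node (.leaf 0) (.leaf 0)) (.node (.leaf 0) (.leaf 0))) (.node (.node (.leaf 0) (.leaf 0)) (.node (.leaf 0) (.leaf 0))))) (.node (.node (.node (.node (.leaf 0) (.leaf 0)) (.node (.leaf 0) (.leaf 0))) (.node (.node (.leaf 0) (.leaf 0)) (.node (.leaf 0) (.leaf 0)))) (.node (.node (.node (.leaf 0) (.leaf 0)) (.node (.leaf 0) (.leaf 0))) (.node (.node (.leaf 0) (.leaf 0)) (.node (.leaf 0) (.leaf 0)))))))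

/-- A point of the block, part 875. -/
def ptCodePart875 : Janko1.Tree ℕ := (.node (.node (.node (.node (.node (.node (.leaf 0) (.leaf 0)) (.node (.leaf 0) (.leaf 0))) (.node (.node (.leaf 0) (.leaf 0)) (.node (.leaf 0) (.leaf 0)))) (.node (.node (.node (.leaf 0) (.leaf 0)) (.node (.leaf 0) (.leaf 0))) (.node (.node (.leaf 0) (.leaf 0)) (.node (.leaf 0) (.leaf 0))))) (.node (.node (.node (.node (.leaf 0) (.leaf 0)) (.node (.leaf 0) (.leaf 0))) (.node (.node (.leaf 0) (.leaf 0)) (.node (.leaf 0) (.leaf 0)))) (.node (.node (.node (.leaf 0) (.leaf 0)) (.node (.leaf 0) (.leaf 0))) (.node (.node (.leaf 0) (.leaf 0)) (.node (.leaf 0) (.leaf 0)))))) (.node (.node (.node (.node (.node (.leaf 0) (.leaf 0)) (.node (.leaf 0) (.leaf 0))) (.node (.node (.leaf 0) (.leaf 0)) (.node (.leaf 0) (.leaf 0)))) (.node (.node (.node (.leaf 0) (.leaf 0)) (.node (.leaf 0) (.leaf 0))) (.node (.node (.leaf 0) (.leaf 0)) (.node (.leaf 0) (.leaf 0))))) (.node (.node (.node (.node (.leaf 0) (.leaf 0)) (.node (.leaf 0) (.leaf 0))) (.node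 (.node (.leaf 0) (.leaf 0)) (.node (.leaf 0) (.leaf 0)))) (.node (.node (.node (.leaf 0) (.leaf 0)) (.node (.leaf 0) (.leaf 0))) (.node (.node (.leaf 0) (.leaf 0)) (.node (.leaf 0) (.leaf 0)))))))

/-- A point of the block, part 876. -/
def ptCodePart876 : Janko1.Tree ℕ := (.node (.node (.node (.node (.node (.node (.leaf 0) (.leaf 0)) (.node (.leaf 0) (.leaf 0))) (.node (.node (.leaf 0) (.leaf 0)) (.node (.leaf 0) (.leaf 0)))) (.node (.node (.node (.leaf 0) (.leaf 0)) (.node (.leaf 0) (.leaf 0))) (.node (.node (.leaf 0) (.leaf 0)) (.node (.leaf 0) (.leaf 0))))) (.node (.node (.node (.node (.leaf 0) (.leaf 0)) (.node (.leaf 0) (.leaf 0))) (.node (.node (.leaf 0) (.leaf 0)) (.node (.leaf 0) (.leaf 0)))) (.node (.node (.node (.leaf 0) (.leaf 0)) (.node (.leaf 0) (.leaf 0))) (.node (.node (.leaf 0) (.leaf 0)) (.node (.leaf 0) (.leaf 0)))))) (.node (.node (.node (.node (.node (.leaf 0) (.leaf 0)) (.node (.leaf 0) (.leaf 0))) (.node (.node (.leaf 0) (.leaf 0)) (.node (.leaf 0) (.leaf 0)))) (.node (.node (.node (.leaf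 0) (.leaf 0)) (.node (.leaf 0) (.leaf 0))) (.node (.node (.leaf 0) (.leaf 0)) (.node (.leaf 0) (.leaf 0))))) (.node (.node (.node (.node (.leaf 0) (.leaf 0)) (.node (.leaf 0) (.leaf 0))) (.node (.node (.leaf 0) (.leaf 0)) (.node (.leaf 0) (.leaf 0)))) (.node (.node (.node (.leaf 0) (.leaf 0)) (.node (.leaf 0) (.leaf 0))) (.node (.node (.leaf 0) (.leaf 0)) (.node (.leaf 0) (.leaf 0)))))))

/-- A point of the block, part 877. -/
def ptCodePart877 : Janko1.Tree ℕ := (.node (.node (.node (.node (.node (.node (.leaf 0) (.leaf 0)) (.node (.leaf 0) (.leaf 0))) (.node (.node (.leaf 0) (.leaf 0)) (.node (.leaf 0) (.leaf 0)))) (.node (.node (.node (.leaf 0) (.leaf 0)) (.node (.leaf 0) (.leaf 0))) (.node (.node (.leaf 0) (.leaf 0)) (.node (.leaf 0) (.leaf 0))))) (.node (.node (.node (.node (.leaf 0) (.leaf 0)) (.node (.leaf 0) (.leaf 0))) (.node (.node (.leaf 0) (.leaf 0)) (.node (.leaf 0) (.leaf 0)))) (.node (.node (.node (.leaf 0) (.leaf 0)) (.node (.leaf 0) (.leaf 0))) (.node (.node (.leaf 0) (.leaf 0)) (.node (.leaf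 0) (.leaf 0)))))) (.node (.node (.node (.node (.node (.leaf 0) (.leaf 0)) (.node (.leaf 0) (.leaf 0))) (.node (.node (.leaf 0) (.leaf 0)) (.node (.leaf 0) (.leaf 0)))) (.node (.node (.node (.leaf 0) (.leaf 0)) (.node (.leaf 0) (.leaf 0))) (.node (.node (.leaf 0) (.leaf 0)) (.node (.leaf 0) (.leaf 0))))) (.node (.node (.node (.node (.leaf 0) (.leaf 0)) (.node (.leaf 0) (.leaf 0))) (.node (.node (.leaf 0) (.leaf 0)) (.node (.leaf 0) (.leaf 0)))) (.node (.node (.node (.leaf 0) (.leaf 0)) (.node (.leaf 0) (.leaf 0))) (.node (.node (.leaf 0) (.leaf 0)) (.node (.leaf 0) (.leaf 0)))))))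

/-- A point of the block, part 878. -/
def ptCodePart878 : Janko1.Tree ℕ := (.node (.node (.node (.node (.node (.node (.leaf 0) (.leaf 0)) (.node (.leaf 0) (.leaf 0))) (.node (.node (.leaf 0) (.leaf 0)) (.node (.leaf 0) (.leaf 0)))) (.node (.node (.node (.leaf 0) (.leaf 0)) (.node (.leaf 0) (.leaf 0))) (.node (.node (.leaf 0) (.leaf 0)) (.node (.leaf 0) (.leaf 0))))) (.node (.node (.node (.node (.leaf 0) (.leaf 0)) (.node (.leaf 0) (.leaf 0))) (.node (.node (.leaf 0) (.leaf 0)) (.node (.leaf 0) (.leaf 0)))) (.node (.node (.node (.leaf 0) (.leaf 0)) (.node (.leaf 0) (.leaf 0))) (.node (.node (.leaf 0) (.leaf 0)) (.node (.leaf 0) (.leaf 0)))))) (.node (.node (.node (.node (.node (.leaf 0) (.leaf 0)) (.node (.leaf 0) (.leaf 0))) (.node (.node (.leaf 0) (.leaf 0)) (.node (.leaf 0) (.leaf 0)))) (.node (.node (.node (.leaf 0) (.leaf 0)) (.node (.leaf 0) (.leaf 0))) (.node (.node (.leaf 0) (.leaf 0)) (.node (.leaf 0) (.leaf 0))))) (.node (.node (.node (.node (.leaf 0) (.leaf 0)) (.node (.leaf 0) (.leaf 0))) (.node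 (.node (.leaf 0) (.leaf 0)) (.node (.leaf 0) (.leaf 0)))) (.node (.node (.node (.leaf 0) (.leaf 0)) (.node (.leaf 0) (.leaf 0))) (.node (.node (.leaf 0) (.leaf 0)) (.node (.leaf 0) (.leaf 0)))))))

/-- A point of the block, part 879. -/
def ptCodePart879 : Janko1.Tree ℕ := (.node (.node (.node (.node (.node (.node (.leaf 0) (.leaf 0)) (.node (.leaf 0) (.leaf 0))) (.node (.node (.leaf 0) (.leaf 0)) (.node (.leaf 0) (.leaf 0)))) (.node (.node (.node (.leaf 0) (.leaf 0)) (.node (.leaf 0) (.leaf 0))) (.node (.node (.leaf 0) (.leaf 0)) (.node (.leaf 0) (.leaf 0))))) (.node (.node (.node (.node (.leaf 0) (.leaf 0)) (.node (.leaf 0) (.leaf 0))) (.node (.node (.leaf 0) (.leaf 0)) (.node (.leaf 0) (.leaf 0)))) (.node (.node (.node (.leaf 0) (.leaf 0)) (.node (.leaf 0) (.leaf 0))) (.node (.node (.leaf 0) (.leaf 0)) (.node (.leaf 0) (.leaf 0)))))) (.node (.node (.node (.node (.node (.leaf 0) (.leaf 0)) (.node (.leaf 0) (.leaf 0))) (.node (.node (.leaf 0) (.leaf 0)) (.node (.leaf 0) (.leaf 0)))) (.node (.node (.node (.leaf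 0) (.leaf 0)) (.node (.leaf 0) (.leaf 0))) (.node (.node (.leaf 0) (.leaf 0)) (.node (.leaf 0) (.leaf 0))))) (.node (.node (.node (.node (.leaf 0) (.leaf 0)) (.node (.leaf 0) (.leaf 0))) (.node (.node (.leaf 0) (.leaf 0)) (.node (.leaf 0) (.leaf 0)))) (.node (.node (.node (.leaf 0) (.leaf 0)) (.node (.leaf 0) (.leaf 0))) (.node (.node (.leaf 0) (.leaf 0)) (.node (.leaf 0) (.leaf 0)))))))

/-- A point of the block, part 880. -/
def ptCodePart880 : Janko1.Tree ℕ := (.node (.node (.node (.node (.node (.node (.leaf 0) (.leaf 0)) (.node (.leaf 0) (.leaf 0))) (.node (.node (.leaf 0) (.leaf 0)) (.node (.leaf 0) (.leaf 0)))) (.node (.node (.node (.leaf 0) (.leaf 0)) (.node (.leaf 0) (.leaf 0))) (.node (.node (.leaf 0) (.leaf 0)) (.node (.leaf 0) (.leaf 0))))) (.node (.node (.node (.node (.leaf 0) (.leaf 0)) (.node (.leaf 0) (.leaf 0))) (.node (.node (.leaf 0) (.leaf 0)) (.node (.leaf 0) (.leaf 0)))) (.node (.node (.node (.leaf 0) (.leaf 0)) (.node (.leaf 0) (.leaf 0))) (.node (.node (.leaf 0) (.leaf 0)) (.node (.leaf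 0) (.leaf 0)))))) (.node (.node (.node (.node (.node (.leaf 0) (.leaf 0)) (.node (.leaf 0) (.leaf 0))) (.node (.node (.leaf 0) (.leaf 0)) (.node (.leaf 0) (.leaf 0)))) (.node (.node (.node (.leaf 0) (.leaf 0)) (.node (.leaf 0) (.leaf 0))) (.node (.node (.leaf 0) (.leaf 0)) (.node (.leaf 0) (.leaf 0))))) (.node (.node (.node (.node (.leaf 0) (.leaf 0)) (.node (.leaf 0) (.leaf 0))) (.node (.node (.leaf 0) (.leaf 0)) (.node (.leaf 0) (.leaf 0)))) (.node (.node (.node (.leaf 0) (.leaf 0)) (.node (.leaf 0) (.leaf 0))) (.node (.node (.leaf 0) (.leaf 0)) (.node (.leaf 0) (.leaf 0)))))))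

/-- A point of the block, part 881. -/
def ptCodePart881 : Janko1.Tree ℕ := (.node (.node (.node (.node (.node (.node (.leaf 0) (.leaf 0)) (.node (.leaf 0) (.leaf 0))) (.node (.node (.leaf 0) (.leaf 0)) (.node (.leaf 0) (.leaf 0)))) (.node (.node (.node (.leaf 0) (.leaf 0)) (.node (.leaf 0) (.leaf 0))) (.node (.node (.leaf 0) (.leaf 0)) (.node (.leaf 0) (.leaf 0))))) (.node (.node (.node (.node (.leaf 0) (.leaf 0)) (.node (.leaf 0) (.leaf 0))) (.node (.node (.leaf 0) (.leaf 0)) (.node (.leaf 0) (.leaf 0)))) (.node (.node (.node (.leaf 0) (.leaf 0)) (.node (.leaf 0) (.leaf 0))) (.node (.node (.leaf 0) (.leaf 0)) (.node (.leaf 0) (.leaf 0)))))) (.node (.node (.node (.node (.node (.leaf 0) (.leaf 0)) (.node (.leaf 0) (.leaf 0))) (.node (.node (.leaf 0) (.leaf 0)) (.node (.leaf 0) (.leaf 0)))) (.node (.node (.node (.leaf 0) (.leaf 0)) (.node (.leaf 0) (.leaf 0))) (.node (.node (.leaf 0) (.leaf 0)) (.node (.leaf 0) (.leaf 0))))) (.node (.node (.node (.node (.leaf 0) (.leaf 0)) (.node (.leaf 0) (.leaf 0))) (.node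 (.node (.leaf 0) (.leaf 0)) (.node (.leaf 0) (.leaf 0)))) (.node (.node (.node (.leaf 0) (.leaf 0)) (.node (.leaf 0) (.leaf 0))) (.node (.node (.leaf 0) (.leaf 0)) (.node (.leaf 0) (.leaf 0)))))))

/-- A point of the block, part 882. -/
def ptCodePart882 : Janko1.Tree ℕ := (.node (.node (.node (.node (.node (.node (.leaf 0) (.leaf 0)) (.node (.leaf 0) (.leaf 0))) (.node (.node (.leaf 0) (.leaf 0)) (.node (.leaf 0) (.leaf 0)))) (.node (.node (.node (.leaf 0) (.leaf 0)) (.node (.leaf 0) (.leaf 0))) (.node (.node (.leaf 0) (.leaf 0)) (.node (.leaf 0) (.leaf 0))))) (.node (.node (.node (.node (.leaf 0) (.leaf 0)) (.node (.leaf 0) (.leaf 0))) (.node (.node (.leaf 0) (.leaf 0)) (.node (.leaf 0) (.leaf 0)))) (.node (.node (.node (.leaf 0) (.leaf 0)) (.node (.leaf 0) (.leaf 0))) (.node (.node (.leaf 0) (.leaf 0)) (.node (.leaf 0) (.leaf 0)))))) (.node (.node (.node (.node (.node (.leaf 0) (.leaf 0)) (.node (.leaf 0) (.leaf 0))) (.node (.node (.leaf 0) (.leaf 0)) (.node (.leaf 0) (.leaf 0)))) (.node (.node (.node (.leaf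 0) (.leaf 0)) (.node (.leaf 0) (.leaf 0))) (.node (.node (.leaf 0) (.leaf 0)) (.node (.leaf 0) (.leaf 0))))) (.node (.node (.node (.node (.leaf 0) (.leaf 0)) (.node (.leaf 0) (.leaf 0))) (.node (.node (.leaf 0) (.leaf 0)) (.node (.leaf 0) (.leaf 0)))) (.node (.node (.node (.leaf 0) (.leaf 0)) (.node (.leaf 0) (.leaf 0))) (.node (.node (.leaf 0) (.leaf 0)) (.node (.leaf 0) (.leaf 0)))))))

/-- A point of the block, part 883. -/
def ptCodePart883 : Janko1.Tree ℕ := (.node (.node (.node (.node (.node (.node (.leaf 0) (.leaf 0)) (.node (.leaf 0) (.leaf 0))) (.node (.node (.leaf 0) (.leaf 0)) (.node (.leaf 0) (.leaf 0)))) (.node (.node (.node (.leaf 0) (.leaf 0)) (.node (.leaf 0) (.leaf 0))) (.node (.node (.leaf 0) (.leaf 0)) (.node (.leaf 0) (.leaf 0))))) (.node (.node (.node (.node (.leaf 0) (.leaf 0)) (.node (.leaf 0) (.leaf 0))) (.node (.node (.leaf 0) (.leaf 0)) (.node (.leaf 0) (.leaf 0)))) (.node (.node (.node (.leaf 0) (.leaf 0)) (.node (.leaf 0) (.leaf 0))) (.node (.node (.leaf 0) (.leaf 0)) (.node (.leaf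 0) (.leaf 0)))))) (.node (.node (.node (.node (.node (.leaf 0) (.leaf 0)) (.node (.leaf 0) (.leaf 0))) (.node (.node (.leaf 0) (.leaf 0)) (.node (.leaf 0) (.leaf 0)))) (.node (.node (.node (.leaf 0) (.leaf 0)) (.node (.leaf 0) (.leaf 0))) (.node (.node (.leaf 0) (.leaf 0)) (.node (.leaf 0) (.leaf 0))))) (.node (.node (.node (.node (.leaf 0) (.leaf 0)) (.node (.leaf 0) (.leaf 0))) (.node (.node (.leaf 0) (.leaf 0)) (.node (.leaf 0) (.leaf 0)))) (.node (.node (.node (.leaf 0) (.leaf 0)) (.node (.leaf 0) (.leaf 0))) (.node (.node (.leaf 0) (.leaf 0)) (.node (.leaf 0) (.leaf 0)))))))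

/-- A point of the block, part 884. -/
def ptCodePart884 : Janko1.Tree ℕ := (.node (.node (.node (.node (.node (.node (.leaf 0) (.leaf 0)) (.node (.leaf 0) (.leaf 0))) (.node (.node (.leaf 0) (.leaf 0)) (.node (.leaf 0) (.leaf 0)))) (.node (.node (.node (.leaf 0) (.leaf 0)) (.node (.leaf 0) (.leaf 0))) (.node (.node (.leaf 0) (.leaf 0)) (.node (.leaf 0) (.leaf 0))))) (.node (.node (.node (.node (.leaf 0) (.leaf 0)) (.node (.leaf 0) (.leaf 0))) (.node (.node (.leaf 0) (.leaf 0)) (.node (.leaf 0) (.leaf 0)))) (.node (.node (.node (.leaf 0) (.leaf 0)) (.node (.leaf 0) (.leaf 0))) (.node (.node (.leaf 0) (.leaf 0)) (.node (.leaf 0) (.leaf 0)))))) (.node (.node (.node (.node (.node (.leaf 0) (.leaf 0)) (.node (.leaf 0) (.leaf 0))) (.node (.node (.leaf 0) (.leaf 0)) (.node (.leaf 0) (.leaf 0)))) (.node (.node (.node (.leaf 0) (.leaf 0)) (.node (.leaf 0) (.leaf 0))) (.node (.node (.leaf 0) (.leaf 0)) (.node (.leaf 0) (.leaf 0))))) (.node (.node (.node (.node (.leaf 0) (.leaf 0)) (.node (.leaf 0) (.leaf 0))) (.node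 (.node (.leaf 0) (.leaf 0)) (.node (.leaf 0) (.leaf 0)))) (.node (.node (.node (.leaf 0) (.leaf 0)) (.node (.leaf 0) (.leaf 0))) (.node (.node (.leaf 0) (.leaf 0)) (.node (.leaf 0) (.leaf 0)))))))

/-- A point of the block, part 885. -/
def ptCodePart885 : Janko1.Tree ℕ := (.node (.node (.node (.node (.node (.node (.leaf 0) (.leaf 0)) (.node (.leaf 0) (.leaf 0))) (.node (.node (.leaf 0) (.leaf 0)) (.node (.leaf 0) (.leaf 0)))) (.node (.node (.node (.leaf 0) (.leaf 0)) (.node (.leaf 0) (.leaf 0))) (.node (.node (.leaf 0) (.leaf 0)) (.node (.leaf 0) (.leaf 0))))) (.node (.node (.node (.node (.leaf 0) (.leaf 0)) (.node (.leaf 0) (.leaf 0))) (.node (.node (.leaf 0) (.leaf 0)) (.node (.leaf 0) (.leaf 0)))) (.node (.node (.node (.leaf 0) (.leaf 0)) (.node (.leaf 0) (.leaf 0))) (.node (.node (.leaf 0) (.leaf 0)) (.node (.leaf 0) (.leaf 0)))))) (.node (.node (.node (.node (.node (.leaf 0) (.leaf 0)) (.node (.leaf 0) (.leaf 0))) (.node (.node (.leaf 0) (.leaf 0)) (.node (.leaf 0) (.leaf 0)))) (.node (.node (.node (.leaf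 0) (.leaf 0)) (.node (.leaf 0) (.leaf 0))) (.node (.node (.leaf 0) (.leaf 0)) (.node (.leaf 0) (.leaf 0))))) (.node (.node (.node (.node (.leaf 0) (.leaf 0)) (.node (.leaf 0) (.leaf 0))) (.node (.node (.leaf 0) (.leaf 0)) (.node (.leaf 0) (.leaf 0)))) (.node (.node (.node (.leaf 0) (.leaf 0)) (.node (.leaf 0) (.leaf 0))) (.node (.node (.leaf 0) (.leaf 0)) (.node (.leaf 0) (.leaf 0)))))))

/-- A point of the block, part 886. -/
def ptCodePart886 : Janko1.Tree ℕ := (.node (.node (.node (.node (.node (.node (.leaf 0) (.leaf 0)) (.node (.leaf 0) (.leaf 0))) (.node (.node (.leaf 0) (.leaf 0)) (.node (.leaf 0) (.leaf 0)))) (.node (.node (.node (.leaf 0) (.leaf 0)) (.node (.leaf 0) (.leaf 0))) (.node (.node (.leaf 0) (.leaf 0)) (.node (.leaf 0) (.leaf 0))))) (.node (.node (.node (.node (.leaf 0) (.leaf 0)) (.node (.leaf 0) (.leaf 0))) (.node (.node (.leaf 0) (.leaf 0)) (.node (.leaf 0) (.leaf 0)))) (.node (.node (.node (.leaf 0) (.leaf 0)) (.node (.leaf 0) (.leaf 0))) (.node (.node (.leaf 0) (.leaf 0)) (.node (.leaf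 0) (.leaf 0)))))) (.node (.node (.node (.node (.node (.leaf 0) (.leaf 0)) (.node (.leaf 0) (.leaf 0))) (.node (.node (.leaf 0) (.leaf 0)) (.node (.leaf 0) (.leaf 0)))) (.node (.node (.node (.leaf 0) (.leaf 0)) (.node (.leaf 0) (.leaf 0))) (.node (.node (.leaf 0) (.leaf 0)) (.node (.leaf 0) (.leaf 0))))) (.node (.node (.node (.node (.leaf 0) (.leaf 0)) (.node (.leaf 0) (.leaf 0))) (.node (.node (.leaf 0) (.leaf 0)) (.node (.leaf 0) (.leaf 0)))) (.node (.node (.node (.leaf 0) (.leaf 0)) (.node (.leaf 0) (.leaf 0))) (.node (.node (.leaf 0) (.leaf 0)) (.node (.leaf 0) (.leaf 0)))))))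

/-- A point of the block, part 887. -/
def ptCodePart887 : Janko1.Tree ℕ := (.node (.node (.node (.node (.node (.node (.leaf 0) (.leaf 0)) (.node (.leaf 0) (.leaf 0))) (.node (.node (.leaf 0) (.leaf 0)) (.node (.leaf 0) (.leaf 0)))) (.node (.node (.node (.leaf 0) (.leaf 0)) (.node (.leaf 0) (.leaf 0))) (.node (.node (.leaf 0) (.leaf 0)) (.node (.leaf 0) (.leaf 0))))) (.node (.node (.node (.node (.leaf 0) (.leaf 0)) (.node (.leaf 0) (.leaf 0))) (.node (.node (.leaf 0) (.leaf 0)) (.node (.leaf 0) (.leaf 0)))) (.node (.node (.node (.leaf 0) (.leaf 0)) (.node (.leaf 0) (.leaf 0))) (.node (.node (.leaf 0) (.leaf 0)) (.node (.leaf 0) (.leaf 0)))))) (.node (.node (.node (.node (.node (.leaf 0) (.leaf 0)) (.node (.leaf 0) (.leaf 0))) (.node (.node (.leaf 0) (.leaf 0)) (.node (.leaf 0) (.leaf 0)))) (.node (.node (.node (.leaf 0) (.leaf 0)) (.node (.leaf 0) (.leaf 0))) (.node (.node (.leaf 0) (.leaf 0)) (.node (.leaf 0) (.leaf 0))))) (.node (.node (.node (.node (.leaf 0) (.leaf 0)) (.node (.leaf 0) (.leaf 0))) (.node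 (.node (.leaf 0) (.leaf 0)) (.node (.leaf 0) (.leaf 0)))) (.node (.node (.node (.leaf 0) (.leaf 0)) (.node (.leaf 0) (.leaf 0))) (.node (.node (.leaf 0) (.leaf 0)) (.node (.leaf 0) (.leaf 0)))))))

/-- A point of the block, part 888. -/
def ptCodePart888 : Janko1.Tree ℕ := (.node (.node (.node (.node (.node (.node (.leaf 0) (.leaf 0)) (.node (.leaf 0) (.leaf 0))) (.node (.node (.leaf 0) (.leaf 0)) (.node (.leaf 0) (.leaf 0)))) (.node (.node (.node (.leaf 0) (.leaf 0)) (.node (.leaf 0) (.leaf 0))) (.node (.node (.leaf 0) (.leaf 0)) (.node (.leaf 0) (.leaf 0))))) (.node (.node (.node (.node (.leaf 0) (.leaf 0)) (.node (.leaf 0) (.leaf 0))) (.node (.node (.leaf 0) (.leaf 0)) (.node (.leaf 0) (.leaf 0)))) (.node (.node (.node (.leaf 0) (.leaf 0)) (.node (.leaf 0) (.leaf 0))) (.node (.node (.leaf 0) (.leaf 0)) (.node (.leaf 0) (.leaf 0)))))) (.node (.node (.node (.node (.node (.leaf 0) (.leaf 0)) (.node (.leaf 0) (.leaf 0))) (.node (.node (.leaf 0) (.leaf 0)) (.node (.leaf 0) (.leaf 0)))) (.node (.node (.node (.leaf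 0) (.leaf 0)) (.node (.leaf 0) (.leaf 0))) (.node (.node (.leaf 0) (.leaf 0)) (.node (.leaf 0) (.leaf 0))))) (.node (.node (.node (.node (.leaf 0) (.leaf 0)) (.node (.leaf 0) (.leaf 0))) (.node (.node (.leaf 0) (.leaf 0)) (.node (.leaf 0) (.leaf 0)))) (.node (.node (.node (.leaf 0) (.leaf 0)) (.node (.leaf 0) (.leaf 0))) (.node (.node (.leaf 0) (.leaf 0)) (.node (.leaf 0) (.leaf 0)))))))

/-- A point of the block, part 889. -/
def ptCodePart889 : Janko1.Tree ℕ := (.node (.node (.node (.node (.node (.node (.leaf 0) (.leaf 0)) (.node (.leaf 0) (.leaf 0))) (.node (.node (.leaf 0) (.leaf 0)) (.node (.leaf 0) (.leaf 0)))) (.node (.node (.node (.leaf 0) (.leaf 0)) (.node (.leaf 0) (.leaf 0))) (.node (.node (.leaf 0) (.leaf 0)) (.node (.leaf 0) (.leaf 0))))) (.node (.node (.node (.node (.leaf 0) (.leaf 0)) (.node (.leaf 0) (.leaf 0))) (.node (.node (.leaf 0) (.leaf 0)) (.node (.leaf 0) (.leaf 0)))) (.node (.node (.node (.leaf 0) (.leaf 0)) (.node (.leaf 0) (.leaf 0))) (.node (.node (.leaf 0) (.leaf 0)) (.node (.leaf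 0) (.leaf 0)))))) (.node (.node (.node (.node (.node (.leaf 0) (.leaf 0)) (.node (.leaf 0) (.leaf 0))) (.node (.node (.leaf 0) (.leaf 0)) (.node (.leaf 0) (.leaf 0)))) (.node (.node (.node (.leaf 0) (.leaf 0)) (.node (.leaf 0) (.leaf 0))) (.node (.node (.leaf 0) (.leaf 0)) (.node (.leaf 0) (.leaf 0))))) (.node (.node (.node (.node (.leaf 0) (.leaf 0)) (.node (.leaf 0) (.leaf 0))) (.node (.node (.leaf 0) (.leaf 0)) (.node (.leaf 0) (.leaf 0)))) (.node (.node (.node (.leaf 0) (.leaf 0)) (.node (.leaf 0) (.leaf 0))) (.node (.node (.leaf 0) (.leaf 0)) (.node (.leaf 0) (.leaf 0)))))))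

/-- A point of the block, part 890. -/
def ptCodePart890 : Janko1.Tree ℕ := (.node (.node (.node (.node (.node (.node (.leaf 0) (.leaf 0)) (.node (.leaf 0) (.leaf 0))) (.node (.node (.leaf 0) (.leaf 0)) (.node (.leaf 0) (.leaf 0)))) (.node (.node (.node (.leaf 0) (.leaf 0)) (.node (.leaf 0) (.leaf 0))) (.node (.node (.leaf 0) (.leaf 0)) (.node (.leaf 0) (.leaf 0))))) (.node (.node (.node (.node (.leaf 0) (.leaf 0)) (.node (.leaf 0) (.leaf 0))) (.node (.node (.leaf 0) (.leaf 0)) (.node (.leaf 0) (.leaf 0)))) (.node (.node (.node (.leaf 0) (.leaf 0)) (.node (.leaf 0) (.leaf 0))) (.node (.node (.leaf 0) (.leaf 0)) (.node (.leaf 0) (.leaf 0)))))) (.node (.node (.node (.node (.node (.leaf 0) (.leaf 0)) (.node (.leaf 0) (.leaf 0))) (.node (.node (.leaf 0) (.leaf 0)) (.node (.leaf 0) (.leaf 0)))) (.node (.node (.node (.leaf 0) (.leaf 0)) (.node (.leaf 0) (.leaf 0))) (.node (.node (.leaf 0) (.leaf 0)) (.node (.leaf 0) (.leaf 0))))) (.node (.node (.node (.node (.leaf 0) (.leaf 0)) (.node (.leaf 0) (.leaf 0))) (.node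 (.node (.leaf 0) (.leaf 0)) (.node (.leaf 0) (.leaf 0)))) (.node (.node (.node (.leaf 0) (.leaf 0)) (.node (.leaf 0) (.leaf 0))) (.node (.node (.leaf 0) (.leaf 0)) (.node (.leaf 0) (.leaf 0)))))))

/-- A point of the block, part 891. -/
def ptCodePart891 : Janko1.Tree ℕ := (.node (.node (.node (.node (.node (.node (.leaf 0) (.leaf 0)) (.node (.leaf 0) (.leaf 0))) (.node (.node (.leaf 0) (.leaf 0)) (.node (.leaf 0) (.leaf 0)))) (.node (.node (.node (.leaf 0) (.leaf 0)) (.node (.leaf 0) (.leaf 0))) (.node (.node (.leaf 0) (.leaf 0)) (.node (.leaf 0) (.leaf 0))))) (.node (.node (.node (.node (.leaf 0) (.leaf 0)) (.node (.leaf 0) (.leaf 0))) (.node (.node (.leaf 0) (.leaf 0)) (.node (.leaf 0) (.leaf 0)))) (.node (.node (.node (.leaf 0) (.leaf 0)) (.node (.leaf 0) (.leaf 0))) (.node (.node (.leaf 0) (.leaf 0)) (.node (.leaf 0) (.leaf 0)))))) (.node (.node (.node (.node (.node (.leaf 0) (.leaf 0)) (.node (.leaf 0) (.leaf 0))) (.node (.node (.leaf 0) (.leaf 0)) (.node (.leaf 0) (.leaf 0)))) (.node (.node (.node (.leaf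 0) (.leaf 0)) (.node (.leaf 0) (.leaf 0))) (.node (.node (.leaf 0) (.leaf 0)) (.node (.leaf 0) (.leaf 0))))) (.node (.node (.node (.node (.leaf 0) (.leaf 0)) (.node (.leaf 0) (.leaf 0))) (.node (.node (.leaf 0) (.leaf 0)) (.node (.leaf 0) (.leaf 0)))) (.node (.node (.node (.leaf 0) (.leaf 0)) (.node (.leaf 0) (.leaf 0))) (.node (.node (.leaf 0) (.leaf 0)) (.node (.leaf 0) (.leaf 0)))))))

/-- A point of the block, part 892. -/
def ptCodePart892 : Janko1.Tree ℕ := (.node (.node (.node (.node (.node (.node (.leaf 0) (.leaf 0)) (.node (.leaf 0) (.leaf 0))) (.node (.node (.leaf 0) (.leaf 0)) (.node (.leaf 0) (.leaf 0)))) (.node (.node (.node (.leaf 0) (.leaf 0)) (.node (.leaf 0) (.leaf 0))) (.node (.node (.leaf 0) (.leaf 0)) (.node (.leaf 0) (.leaf 0))))) (.node (.node (.node (.node (.leaf 0) (.leaf 0)) (.node (.leaf 0) (.leaf 0))) (.node (.node (.leaf 0) (.leaf 0)) (.node (.leaf 0) (.leaf 0)))) (.node (.node (.node (.leaf 0) (.leaf 0)) (.node (.leaf 0) (.leaf 0))) (.node (.node (.leaf 0) (.leaf 0)) (.node (.leaf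 0) (.leaf 0)))))) (.node (.node (.node (.node (.node (.leaf 0) (.leaf 0)) (.node (.leaf 0) (.leaf 0))) (.node (.node (.leaf 0) (.leaf 0)) (.node (.leaf 0) (.leaf 0)))) (.node (.node (.node (.leaf 0) (.leaf 0)) (.node (.leaf 0) (.leaf 0))) (.node (.node (.leaf 0) (.leaf 0)) (.node (.leaf 0) (.leaf 0))))) (.node (.node (.node (.node (.leaf 0) (.leaf 0)) (.node (.leaf 0) (.leaf 0))) (.node (.node (.leaf 0) (.leaf 0)) (.node (.leaf 0) (.leaf 0)))) (.node (.node (.node (.leaf 0) (.leaf 0)) (.node (.leaf 0) (.leaf 0))) (.node (.node (.leaf 0) (.leaf 0)) (.node (.leaf 0) (.leaf 0)))))))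

/-- A point of the block, part 893. -/
def ptCodePart893 : Janko1.Tree ℕ := (.node (.node (.node (.node (.node (.node (.leaf 0) (.leaf 0)) (.node (.leaf 0) (.leaf 0))) (.node (.node (.leaf 0) (.leaf 0)) (.node (.leaf 0) (.leaf 0)))) (.node (.node (.node (.leaf 0) (.leaf 0)) (.node (.leaf 0) (.leaf 0))) (.node (.node (.leaf 0) (.leaf 0)) (.node (.leaf 0) (.leaf 0))))) (.node (.node (.node (.node (.leaf 0) (.leaf 0)) (.node (.leaf 0) (.leaf 0))) (.node (.node (.leaf 0) (.leaf 0)) (.node (.leaf 0) (.leaf 0)))) (.node (.node (.node (.leaf 0) (.leaf 0)) (.node (.leaf 0) (.leaf 0))) (.node (.node (.leaf 0) (.leaf 0)) (.node (.leaf 0) (.leaf 0)))))) (.node (.node (.node (.node (.node (.leaf 0) (.leaf 0)) (.node (.leaf 0) (.leaf 0))) (.node (.node (.leaf 0) (.leaf 0)) (.node (.leaf 0) (.leaf 0)))) (.node (.node (.node (.leaf 0) (.leaf 0)) (.node (.leaf 0) (.leaf 0))) (.node (.node (.leaf 0) (.leaf 0)) (.node (.leaf 0) (.leaf 0))))) (.node (.node (.node (.node (.leaf 0) (.leaf 0)) (.node (.leaf 0) (.leaf 0))) (.node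 (.node (.leaf 0) (.leaf 0)) (.node (.leaf 0) (.leaf 0)))) (.node (.node (.node (.leaf 0) (.leaf 0)) (.node (.leaf 0) (.leaf 0))) (.node (.node (.leaf 0) (.leaf 0)) (.node (.leaf 0) (.leaf 0)))))))

/-- A point of the block, part 894. -/
def ptCodePart894 : Janko1.Tree ℕ := (.node (.node (.node (.node (.node (.node (.leaf 0) (.leaf 0)) (.node (.leaf 0) (.leaf 0))) (.node (.node (.leaf 0) (.leaf 0)) (.node (.leaf 0) (.leaf 0)))) (.node (.node (.node (.leaf 0) (.leaf 0)) (.node (.leaf 0) (.leaf 0))) (.node (.node (.leaf 0) (.leaf 0)) (.node (.leaf 0) (.leaf 0))))) (.node (.node (.node (.node (.leaf 0) (.leaf 0)) (.node (.leaf 0) (.leaf 0))) (.node (.node (.leaf 0) (.leaf 0)) (.node (.leaf 0) (.leaf 0)))) (.node (.node (.node (.leaf 0) (.leaf 0)) (.node (.leaf 0) (.leaf 0))) (.node (.node (.leaf 0) (.leaf 0)) (.node (.leaf 0) (.leaf 0)))))) (.node (.node (.node (.node (.node (.leaf 0) (.leaf 0)) (.node (.leaf 0) (.leaf 0))) (.node (.node (.leaf 0) (.leaf 0)) (.node (.leaf 0) (.leaf 0)))) (.node (.node (.node (.leaf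 0) (.leaf 0)) (.node (.leaf 0) (.leaf 0))) (.node (.node (.leaf 0) (.leaf 0)) (.node (.leaf 0) (.leaf 0))))) (.node (.node (.node (.node (.leaf 0) (.leaf 0)) (.node (.leaf 0) (.leaf 0))) (.node (.node (.leaf 0) (.leaf 0)) (.node (.leaf 0) (.leaf 0)))) (.node (.node (.node (.leaf 0) (.leaf 0)) (.node (.leaf 0) (.leaf 0))) (.node (.node (.leaf 0) (.leaf 0)) (.node (.leaf 0) (.leaf 0)))))))

/-- A point of the block, part 895. -/
def ptCodePart895 : Janko1.Tree ℕ := (.node (.node (.node (.node (.node (.node (.leaf 0) (.leaf 0)) (.node (.leaf 0) (.leaf 0))) (.node (.node (.leaf 0) (.leaf 0)) (.node (.leaf 0) (.leaf 0)))) (.node (.node (.node (.leaf 0) (.leaf 0)) (.node (.leaf 0) (.leaf 0))) (.node (.node (.leaf 0) (.leaf 0)) (.node (.leaf 0) (.leaf 0))))) (.node (.node (.node (.node (.leaf 0) (.leaf 0)) (.node (.leaf 0) (.leaf 0))) (.node (.node (.leaf 0) (.leaf 0)) (.node (.leaf 0) (.leaf 0)))) (.node (.node (.node (.leaf 0) (.leaf 0)) (.node (.leaf 0) (.leaf 0))) (.node (.node (.leaf 0) (.leaf 0)) (.node (.leaf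 0) (.leaf 0)))))) (.node (.node (.node (.node (.node (.leaf 0) (.leaf 0)) (.node (.leaf 0) (.leaf 0))) (.node (.node (.leaf 0) (.leaf 0)) (.node (.leaf 0) (.leaf 0)))) (.node (.node (.node (.leaf 0) (.leaf 0)) (.node (.leaf 0) (.leaf 0))) (.node (.node (.leaf 0) (.leaf 0)) (.node (.leaf 0) (.leaf 0))))) (.node (.node (.node (.node (.leaf 0) (.leaf 0)) (.node (.leaf 0) (.leaf 0))) (.node (.node (.leaf 0) (.leaf 0)) (.node (.leaf 0) (.leaf 0)))) (.node (.node (.node (.leaf 0) (.leaf 0)) (.node (.leaf 0) (.leaf 0))) (.node (.node (.leaf 0) (.leaf 0)) (.node (.leaf 0) (.leaf 0)))))))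

/-- A point of the block, part 896. -/
def ptCodePart896 : Janko1.Tree ℕ := (.node (.node (.node (.node (.node (.node (.leaf 0) (.leaf 0)) (.node (.leaf 0) (.leaf 0))) (.node (.node (.leaf 0) (.leaf 0)) (.node (.leaf 0) (.leaf 0)))) (.node (.node (.node (.leaf 0) (.leaf 0)) (.node (.leaf 0) (.leaf 0))) (.node (.node (.leaf 0) (.leaf 0)) (.node (.leaf 0) (.leaf 0))))) (.node (.node (.node (.node (.leaf 0) (.leaf 0)) (.node (.leaf 0) (.leaf 0))) (.node (.node (.leaf 0) (.leaf 0)) (.node (.leaf 0) (.leaf 0)))) (.node (.node (.node (.leaf 0) (.leaf 0)) (.node (.leaf 0) (.leaf 0))) (.node (.node (.leaf 0) (.leaf 0)) (.node (.leaf 0) (.leaf 0)))))) (.node (.node (.node (.node (.node (.leaf 0) (.leaf 0)) (.node (.leaf 0) (.leaf 0))) (.node (.node (.leaf 0) (.leaf 0)) (.node (.leaf 0) (.leaf 0)))) (.node (.node (.node (.leaf 0) (.leaf 0)) (.node (.leaf 0) (.leaf 0))) (.node (.node (.leaf 0) (.leaf 0)) (.node (.leaf 0) (.leaf 0))))) (.node (.node (.node (.node (.leaf 0) (.leaf 0)) (.node (.leaf 0) (.leaf 0))) (.node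 (.node (.leaf 0) (.leaf 0)) (.node (.leaf 0) (.leaf 0)))) (.node (.node (.node (.leaf 0) (.leaf 0)) (.node (.leaf 0) (.leaf 0))) (.node (.node (.leaf 0) (.leaf 0)) (.node (.leaf 0) (.leaf 0)))))))

/-- A point of the block, part 897. -/
def ptCodePart897 : Janko1.Tree ℕ := (.node (.node (.node (.node (.node (.node (.leaf 0) (.leaf 0)) (.node (.leaf 0) (.leaf 0))) (.node (.node (.leaf 0) (.leaf 0)) (.node (.leaf 0) (.leaf 0)))) (.node (.node (.node (.leaf 0) (.leaf 0)) (.node (.leaf 0) (.leaf 0))) (.node (.node (.leaf 0) (.leaf 0)) (.node (.leaf 0) (.leaf 0))))) (.node (.node (.node (.node (.leaf 0) (.leaf 0)) (.node (.leaf 0) (.leaf 0))) (.node (.node (.leaf 0) (.leaf 0)) (.node (.leaf 0) (.leaf 0)))) (.node (.node (.node (.leaf 0) (.leaf 0)) (.node (.leaf 0) (.leaf 0))) (.node (.node (.leaf 0) (.leaf 0)) (.node (.leaf 0) (.leaf 0)))))) (.node (.node (.node (.node (.node (.leaf 0) (.leaf 0)) (.node (.leaf 0) (.leaf 0))) (.node (.node (.leaf 0) (.leaf 0)) (.node (.leaf 0) (.leaf 0)))) (.node (.node (.node (.leaf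 0) (.leaf 0)) (.node (.leaf 0) (.leaf 0))) (.node (.node (.leaf 0) (.leaf 0)) (.node (.leaf 0) (.leaf 0))))) (.node (.node (.node (.node (.leaf 0) (.leaf 0)) (.node (.leaf 0) (.leaf 0))) (.node (.node (.leaf 0) (.leaf 0)) (.node (.leaf 0) (.leaf 0)))) (.node (.node (.node (.leaf 0) (.leaf 0)) (.node (.leaf 0) (.leaf 0))) (.node (.node (.leaf 0) (.leaf 0)) (.node (.leaf 0) (.leaf 0)))))))

/-- A point of the block, part 898. -/
def ptCodePart898 : Janko1.Tree ℕ := (.node (.node (.node (.node (.node (.node (.leaf 0) (.leaf 0)) (.node (.leaf 0) (.leaf 0))) (.node (.node (.leaf 0) (.leaf 0)) (.node (.leaf 0) (.leaf 0)))) (.node (.node (.node (.leaf 0) (.leaf 0)) (.node (.leaf 0) (.leaf 0))) (.node (.node (.leaf 0) (.leaf 0)) (.node (.leaf 0) (.leaf 0))))) (.node (.node (.node (.node (.leaf 0) (.leaf 0)) (.node (.leaf 0) (.leaf 0))) (.node (.node (.leaf 0) (.leaf 0)) (.node (.leaf 0) (.leaf 0)))) (.node (.node (.node (.leaf 0) (.leaf 0)) (.node (.leaf 0) (.leaf 0))) (.node (.node (.leaf 0) (.leaf 0)) (.node (.leaf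 0) (.leaf 0)))))) (.node (.node (.node (.node (.node (.leaf 0) (.leaf 0)) (.node (.leaf 0) (.leaf 0))) (.node (.node (.leaf 0) (.leaf 0)) (.node (.leaf 0) (.leaf 0)))) (.node (.node (.node (.leaf 0) (.leaf 0)) (.node (.leaf 0) (.leaf 0))) (.node (.node (.leaf 0) (.leaf 0)) (.node (.leaf 0) (.leaf 0))))) (.node (.node (.node (.node (.leaf 0) (.leaf 0)) (.node (.leaf 0) (.leaf 0))) (.node (.node (.leaf 0) (.leaf 0)) (.node (.leaf 0) (.leaf 0)))) (.node (.node (.node (.leaf 0) (.leaf 0)) (.node (.leaf 0) (.leaf 0))) (.node (.node (.leaf 0) (.leaf 0)) (.node (.leaf 0) (.leaf 0)))))))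

/-- A point of the block, part 899. -/
def ptCodePart899 : Janko1.Tree ℕ := (.node (.node (.node (.node (.node (.node (.leaf 0) (.leaf 0)) (.node (.leaf 0) (.leaf 0))) (.node (.node (.leaf 0) (.leaf 0)) (.node (.leaf 0) (.leaf 0)))) (.node (.node (.node (.leaf 0) (.leaf 0)) (.node (.leaf 0) (.leaf 0))) (.node (.node (.leaf 0) (.leaf 0)) (.node (.leaf 0) (.leaf 0))))) (.node (.node (.node (.node (.leaf 0) (.leaf 0)) (.node (.leaf 0) (.leaf 0))) (.node (.node (.leaf 0) (.leaf 0)) (.node (.leaf 0) (.leaf 0)))) (.node (.node (.node (.leaf 0) (.leaf 0)) (.node (.leaf 0) (.leaf 0))) (.node (.node (.leaf 0) (.leaf 0)) (.node (.leaf 0) (.leaf 0)))))) (.node (.node (.node (.node (.node (.leaf 0) (.leaf 0)) (.node (.leaf 0) (.leaf 0))) (.node (.node (.leaf 0) (.leaf 0)) (.node (.leaf 0) (.leaf 0)))) (.node (.node (.node (.leaf 0) (.leaf 0)) (.node (.leaf 0) (.leaf 0))) (.node (.node (.leaf 0) (.leaf 0)) (.node (.leaf 0) (.leaf 0))))) (.node (.node (.node (.node (.leaf 0) (.leaf 0)) (.node (.leaf 0) (.leaf 0))) (.node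 (.node (.leaf 0) (.leaf 0)) (.node (.leaf 0) (.leaf 0)))) (.node (.node (.node (.leaf 0) (.leaf 0)) (.node (.leaf 0) (.leaf 0))) (.node (.node (.leaf 0) (.leaf 0)) (.node (.leaf 0) (.leaf 0)))))))

/-- A point of the block, part 900. -/
def ptCodePart900 : Janko1.Tree ℕ := (.node (.node (.node (.node (.node (.node (.leaf 0) (.leaf 0)) (.node (.leaf 0) (.leaf 0))) (.node (.node (.leaf 0) (.leaf 0)) (.node (.leaf 0) (.leaf 0)))) (.node (.node (.node (.leaf 0) (.leaf 0)) (.node (.leaf 0) (.leaf 0))) (.node (.node (.leaf 0) (.leaf 0)) (.node (.leaf 0) (.leaf 0))))) (.node (.node (.node (.node (.leaf 0) (.leaf 0)) (.node (.leaf 0) (.leaf 0))) (.node (.node (.leaf 0) (.leaf 0)) (.node (.leaf 0) (.leaf 0)))) (.node (.node (.node (.leaf 0) (.leaf 0)) (.node (.leaf 0) (.leaf 0))) (.node (.node (.leaf 0) (.leaf 0)) (.node (.leaf 0) (.leaf 0)))))) (.node (.node (.node (.node (.node (.leaf 0) (.leaf 0)) (.node (.leaf 0) (.leaf 0))) (.node (.node (.leaf 0) (.leaf 0)) (.node (.leaf 0) (.leaf 0)))) (.node (.node (.node (.leaf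 0) (.leaf 0)) (.node (.leaf 0) (.leaf 0))) (.node (.node (.leaf 0) (.leaf 0)) (.node (.leaf 0) (.leaf 0))))) (.node (.node (.node (.node (.leaf 0) (.leaf 0)) (.node (.leaf 0) (.leaf 0))) (.node (.node (.leaf 0) (.leaf 0)) (.node (.leaf 0) (.leaf 0)))) (.node (.node (.node (.leaf 0) (.leaf 0)) (.node (.leaf 0) (.leaf 0))) (.node (.node (.leaf 0) (.leaf 0)) (.node (.leaf 0) (.leaf 0)))))))

/-- A point of the block, part 901. -/
def ptCodePart901 : Janko1.Tree ℕ := (.node (.node (.node (.node (.node (.node (.leaf 0) (.leaf 0)) (.node (.leaf 0) (.leaf 0))) (.node (.node (.leaf 0) (.leaf 0)) (.node (.leaf 0) (.leaf 0)))) (.node (.node (.node (.leaf 0) (.leaf 0)) (.node (.leaf 0) (.leaf 0))) (.node (.node (.leaf 0) (.leaf 0)) (.node (.leaf 0) (.leaf 0))))) (.node (.node (.node (.node (.leaf 0) (.leaf 0)) (.node (.leaf 0) (.leaf 0))) (.node (.node (.leaf 0) (.leaf 0)) (.node (.leaf 0) (.leaf 0)))) (.node (.node (.node (.leaf 0) (.leaf 0)) (.node (.leaf 0) (.leaf 0))) (.node (.node (.leaf 0) (.leaf 0)) (.node (.leaf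 0) (.leaf 0)))))) (.node (.node (.node (.node (.node (.leaf 0) (.leaf 0)) (.node (.leaf 0) (.leaf 0))) (.node (.node (.leaf 0) (.leaf 0)) (.node (.leaf 0) (.leaf 0)))) (.node (.node (.node (.leaf 0) (.leaf 0)) (.node (.leaf 0) (.leaf 0))) (.node (.node (.leaf 0) (.leaf 0)) (.node (.leaf 0) (.leaf 0))))) (.node (.node (.node (.node (.leaf 0) (.leaf 0)) (.node (.leaf 0) (.leaf 0))) (.node (.node (.leaf 0) (.leaf 0)) (.node (.leaf 0) (.leaf 0)))) (.node (.node (.node (.leaf 0) (.leaf 0)) (.node (.leaf 0) (.leaf 0))) (.node (.node (.leaf 0) (.leaf 0)) (.node (.leaf 0) (.leaf 0)))))))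

/-- A point of the block, part 902. -/
def ptCodePart902 : Janko1.Tree ℕ := (.node (.node (.node (.node (.node (.node (.leaf 0) (.leaf 0)) (.node (.leaf 0) (.leaf 0))) (.node (.node (.leaf 0) (.leaf 0)) (.node (.leaf 0) (.leaf 0)))) (.node (.node (.node (.leaf 0) (.leaf 0)) (.node (.leaf 0) (.leaf 0))) (.node (.node (.leaf 0) (.leaf 0)) (.node (.leaf 0) (.leaf 0))))) (.node (.node (.node (.node (.leaf 0) (.leaf 0)) (.node (.leaf 0) (.leaf 0))) (.node (.node (.leaf 0) (.leaf 0)) (.node (.leaf 0) (.leaf 0)))) (.node (.node (.node (.leaf 0) (.leaf 0)) (.node (.leaf 0) (.leaf 0))) (.node (.node (.leaf 0) (.leaf 0)) (.node (.leaf 0) (.leaf 0)))))) (.node (.node (.node (.node (.node (.leaf 0) (.leaf 0)) (.node (.leaf 0) (.leaf 0))) (.node (.node (.leaf 0) (.leaf 0)) (.node (.leaf 0) (.leaf 0)))) (.node (.node (.node (.leaf 0) (.leaf 0)) (.node (.leaf 0) (.leaf 0))) (.node (.node (.leaf 0) (.leaf 0)) (.node (.leaf 0) (.leaf 0))))) (.node (.node (.node (.node (.leaf 0) (.leaf 0)) (.node (.leaf 0) (.leaf 0))) (.node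 (.node (.leaf 0) (.leaf 0)) (.node (.leaf 0) (.leaf 0)))) (.node (.node (.node (.leaf 0) (.leaf 0)) (.node (.leaf 0) (.leaf 0))) (.node (.node (.leaf 0) (.leaf 0)) (.node (.leaf 0) (.leaf 0)))))))

/-- A point of the block, part 903. -/
def ptCodePart903 : Janko1.Tree ℕ := (.node (.node (.node (.node (.node (.node (.leaf 0) (.leaf 0)) (.node (.leaf 0) (.leaf 0))) (.node (.node (.leaf 0) (.leaf 0)) (.node (.leaf 0) (.leaf 0)))) (.node (.node (.node (.leaf 0) (.leaf 0)) (.node (.leaf 0) (.leaf 0))) (.node (.node (.leaf 0) (.leaf 0)) (.node (.leaf 0) (.leaf 0))))) (.node (.node (.node (.node (.leaf 0) (.leaf 0)) (.node (.leaf 0) (.leaf 0))) (.node (.node (.leaf 0) (.leaf 0)) (.node (.leaf 0) (.leaf 0)))) (.node (.node (.node (.leaf 0) (.leaf 0)) (.node (.leaf 0) (.leaf 0))) (.node (.node (.leaf 0) (.leaf 0)) (.node (.leaf 0) (.leaf 0)))))) (.node (.node (.node (.node (.node (.leaf 0) (.leaf 0)) (.node (.leaf 0) (.leaf 0))) (.node (.node (.leaf 0) (.leaf 0)) (.node (.leaf 0) (.leaf 0)))) (.node (.node (.node (.leaf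 0) (.leaf 0)) (.node (.leaf 0) (.leaf 0))) (.node (.node (.leaf 0) (.leaf 0)) (.node (.leaf 0) (.leaf 0))))) (.node (.node (.node (.node (.leaf 0) (.leaf 0)) (.node (.leaf 0) (.leaf 0))) (.node (.node (.leaf 0) (.leaf 0)) (.node (.leaf 0) (.leaf 0)))) (.node (.node (.node (.leaf 0) (.leaf 0)) (.node (.leaf 0) (.leaf 0))) (.node (.node (.leaf 0) (.leaf 0)) (.node (.leaf 0) (.leaf 0)))))))

/-- A point of the block, part 904. -/
def ptCodePart904 : Janko1.Tree ℕ := (.node (.node (.node (.node (.node (.node (.leaf 0) (.leaf 0)) (.node (.leaf 0) (.leaf 0))) (.node (.node (.leaf 0) (.leaf 0)) (.node (.leaf 0) (.leaf 0)))) (.node (.node (.node (.leaf 0) (.leaf 0)) (.node (.leaf 0) (.leaf 0))) (.node (.node (.leaf 0) (.leaf 0)) (.node (.leaf 0) (.leaf 0))))) (.node (.node (.node (.node (.leaf 0) (.leaf 0)) (.node (.leaf 0) (.leaf 0))) (.node (.node (.leaf 0) (.leaf 0)) (.node (.leaf 0) (.leaf 0)))) (.node (.node (.node (.leaf 0) (.leaf 0)) (.node (.leaf 0) (.leaf 0))) (.node (.node (.leaf 0) (.leaf 0)) (.node (.leaf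 0) (.leaf 0)))))) (.node (.node (.node (.node (.node (.leaf 0) (.leaf 0)) (.node (.leaf 0) (.leaf 0))) (.node (.node (.leaf 0) (.leaf 0)) (.node (.leaf 0) (.leaf 0)))) (.node (.node (.node (.leaf 0) (.leaf 0)) (.node (.leaf 0) (.leaf 0))) (.node (.node (.leaf 0) (.leaf 0)) (.node (.leaf 0) (.leaf 0))))) (.node (.node (.node (.node (.leaf 0) (.leaf 0)) (.node (.leaf 0) (.leaf 0))) (.node (.node (.leaf 0) (.leaf 0)) (.node (.leaf 0) (.leaf 0)))) (.node (.node (.node (.leaf 0) (.leaf 0)) (.node (.leaf 0) (.leaf 0))) (.node (.node (.leaf 0) (.leaf 0)) (.node (.leaf 0) (.leaf 0)))))))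

/-- A point of the block, part 905. -/
def ptCodePart905 : Janko1.Tree ℕ := (.node (.node (.node (.node (.node (.node (.leaf 0) (.leaf 0)) (.node (.leaf 0) (.leaf 0))) (.node (.node (.leaf 0) (.leaf 0)) (.node (.leaf 0) (.leaf 0)))) (.node (.node (.node (.leaf 0) (.leaf 0)) (.node (.leaf 0) (.leaf 0))) (.node (.node (.leaf 0) (.leaf 0)) (.node (.leaf 0) (.leaf 0))))) (.node (.node (.node (.node (.leaf 0) (.leaf 0)) (.node (.leaf 0) (.leaf 0))) (.node (.node (.leaf 0) (.leaf 0)) (.node (.leaf 0) (.leaf 0)))) (.node (.node (.node (.leaf 0) (.leaf 0)) (.node (.leaf 0) (.leaf 0))) (.node (.node (.leaf 0) (.leaf 0)) (.node (.leaf 0) (.leaf 0)))))) (.node (.node (.node (.node (.node (.leaf 0) (.leaf 0)) (.node (.leaf 0) (.leaf 0))) (.node (.node (.leaf 0) (.leaf 0)) (.node (.leaf 0) (.leaf 0)))) (.node (.node (.node (.leaf 0) (.leaf 0)) (.node (.leaf 0) (.leaf 0))) (.node (.node (.leaf 0) (.leaf 0)) (.node (.leaf 0) (.leaf 0))))) (.node (.node (.node (.node (.leaf 0) (.leaf 0)) (.node (.leaf 0) (.leaf 0))) (.node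 (.node (.leaf 0) (.leaf 0)) (.node (.leaf 0) (.leaf 0)))) (.node (.node (.node (.leaf 0) (.leaf 0)) (.node (.leaf 0) (.leaf 0))) (.node (.node (.leaf 0) (.leaf 0)) (.node (.leaf 0) (.leaf 0)))))))

/-- A point of the block, part 906. -/
def ptCodePart906 : Janko1.Tree ℕ := (.node (.node (.node (.node (.node (.node (.leaf 0) (.leaf 0)) (.node (.leaf 0) (.leaf 0))) (.node (.node (.leaf 0) (.leaf 0)) (.node (.leaf 0) (.leaf 0)))) (.node (.node (.node (.leaf 0) (.leaf 0)) (.node (.leaf 0) (.leaf 0))) (.node (.node (.leaf 0) (.leaf 0)) (.node (.leaf 0) (.leaf 0))))) (.node (.node (.node (.node (.leaf 0) (.leaf 0)) (.node (.leaf 0) (.leaf 0))) (.node (.node (.leaf 0) (.leaf 0)) (.node (.leaf 0) (.leaf 0)))) (.node (.node (.node (.leaf 0) (.leaf 0)) (.node (.leaf 0) (.leaf 0))) (.node (.node (.leaf 0) (.leaf 0)) (.node (.leaf 0) (.leaf 0)))))) (.node (.node (.node (.node (.node (.leaf 0) (.leaf 0)) (.node (.leaf 0) (.leaf 0))) (.node (.node (.leaf 0) (.leaf 0)) (.node (.leaf 0) (.leaf 0)))) (.node (.node (.node (.leaf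 0) (.leaf 0)) (.node (.leaf 0) (.leaf 0))) (.node (.node (.leaf 0) (.leaf 0)) (.node (.leaf 0) (.leaf 0))))) (.node (.node (.node (.node (.leaf 0) (.leaf 0)) (.node (.leaf 0) (.leaf 0))) (.node (.node (.leaf 0) (.leaf 0)) (.node (.leaf 0) (.leaf 0)))) (.node (.node (.node (.leaf 0) (.leaf 0)) (.node (.leaf 0) (.leaf 0))) (.node (.node (.leaf 0) (.leaf 0)) (.node (.leaf 0) (.leaf 0)))))))

/-- A point of the block, part 907. -/
def ptCodePart907 : Janko1.Tree ℕ := (.node (.node (.node (.node (.node (.node (.leaf 0) (.leaf 0)) (.node (.leaf 0) (.leaf 0))) (.node (.node (.leaf 0) (.leaf 0)) (.node (.leaf 0) (.leaf 0)))) (.node (.node (.node (.leaf 0) (.leaf 0)) (.node (.leaf 0) (.leaf 0))) (.node (.node (.leaf 0) (.leaf 0)) (.node (.leaf 0) (.leaf 0))))) (.node (.node (.node (.node (.leaf 0) (.leaf 0)) (.node (.leaf 0) (.leaf 0))) (.node (.node (.leaf 0) (.leaf 0)) (.node (.leaf 0) (.leaf 0)))) (.node (.node (.node (.leaf 0) (.leaf 0)) (.node (.leaf 0) (.leaf 0))) (.node (.node (.leaf 0) (.leaf 0)) (.node (.leaf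 0) (.leaf 0)))))) (.node (.node (.node (.node (.node (.leaf 0) (.leaf 0)) (.node (.leaf 0) (.leaf 0))) (.node (.node (.leaf 0) (.leaf 0)) (.node (.leaf 0) (.leaf 0)))) (.node (.node (.node (.leaf 0) (.leaf 0)) (.node (.leaf 0) (.leaf 0))) (.node (.node (.leaf 0) (.leaf 0)) (.node (.leaf 0) (.leaf 0))))) (.node (.node (.node (.node (.leaf 0) (.leaf 0)) (.node (.leaf 0) (.leaf 0))) (.node (.node (.leaf 0) (.leaf 0)) (.node (.leaf 0) (.leaf 0)))) (.node (.node (.node (.leaf 0) (.leaf 0)) (.node (.leaf 0) (.leaf 0))) (.node (.node (.leaf 0) (.leaf 0)) (.node (.leaf 0) (.leaf 0)))))))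

/-- A point of the block, part 908. -/
def ptCodePart908 : Janko1.Tree ℕ := (.node (.node (.node (.node (.node (.node (.leaf 0) (.leaf 0)) (.node (.leaf 0) (.leaf 0))) (.node (.node (.leaf 0) (.leaf 0)) (.node (.leaf 0) (.leaf 0)))) (.node (.node (.node (.leaf 0) (.leaf 0)) (.node (.leaf 0) (.leaf 0))) (.node (.node (.leaf 0) (.leaf 0)) (.node (.leaf 0) (.leaf 0))))) (.node (.node (.node (.node (.leaf 0) (.leaf 0)) (.node (.leaf 0) (.leaf 0))) (.node (.node (.leaf 0) (.leaf 0)) (.node (.leaf 0) (.leaf 0)))) (.node (.node (.node (.leaf 0) (.leaf 0)) (.node (.leaf 0) (.leaf 0))) (.node (.node (.leaf 0) (.leaf 0)) (.node (.leaf 0) (.leaf 0)))))) (.node (.node (.node (.node (.node (.leaf 0) (.leaf 0)) (.node (.leaf 0) (.leaf 0))) (.node (.node (.leaf 0) (.leaf 0)) (.node (.leaf 0) (.leaf 0)))) (.node (.node (.node (.leaf 0) (.leaf 0)) (.node (.leaf 0) (.leaf 0))) (.node (.node (.leaf 0) (.leaf 0)) (.node (.leaf 0) (.leaf 0))))) (.node (.node (.node (.node (.leaf 0) (.leaf 0)) (.node (.leaf 0) (.leaf 0))) (.node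 (.node (.leaf 0) (.leaf 0)) (.node (.leaf 0) (.leaf 0)))) (.node (.node (.node (.leaf 0) (.leaf 0)) (.node (.leaf 0) (.leaf 0))) (.node (.node (.leaf 0) (.leaf 0)) (.node (.leaf 0) (.leaf 0)))))))

/-- A point of the block, part 909. -/
def ptCodePart909 : Janko1.Tree ℕ := (.node (.node (.node (.node (.node (.node (.leaf 0) (.leaf 0)) (.node (.leaf 0) (.leaf 0))) (.node (.node (.leaf 0) (.leaf 0)) (.node (.leaf 0) (.leaf 0)))) (.node (.node (.node (.leaf 0) (.leaf 0)) (.node (.leaf 0) (.leaf 0))) (.node (.node (.leaf 0) (.leaf 0)) (.node (.leaf 0) (.leaf 0))))) (.node (.node (.node (.node (.leaf 0) (.leaf 0)) (.node (.leaf 0) (.leaf 0))) (.node (.node (.leaf 0) (.leaf 0)) (.node (.leaf 0) (.leaf 0)))) (.node (.node (.node (.leaf 0) (.leaf 0)) (.node (.leaf 0) (.leaf 0))) (.node (.node (.leaf 0) (.leaf 0)) (.node (.leaf 0) (.leaf 0)))))) (.node (.node (.node (.node (.node (.leaf 0) (.leaf 0)) (.node (.leaf 0) (.leaf 0))) (.node (.node (.leaf 0) (.leaf 0)) (.node (.leaf 0) (.leaf 0)))) (.node (.node (.node (.leaf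 0) (.leaf 0)) (.node (.leaf 0) (.leaf 0))) (.node (.node (.leaf 0) (.leaf 0)) (.node (.leaf 0) (.leaf 0))))) (.node (.node (.node (.node (.leaf 0) (.leaf 0)) (.node (.leaf 0) (.leaf 0))) (.node (.node (.leaf 0) (.leaf 0)) (.node (.leaf 0) (.leaf 0)))) (.node (.node (.node (.leaf 0) (.leaf 0)) (.node (.leaf 0) (.leaf 0))) (.node (.node (.leaf 0) (.leaf 0)) (.node (.leaf 0) (.leaf 0)))))))

/-- A point of the block, part 910. -/
def ptCodePart910 : Janko1.Tree ℕ := (.node (.node (.node (.node (.node (.node (.leaf 0) (.leaf 0)) (.node (.leaf 0) (.leaf 0))) (.node (.node (.leaf 0) (.leaf 0)) (.node (.leaf 0) (.leaf 0)))) (.node (.node (.node (.leaf 0) (.leaf 0)) (.node (.leaf 0) (.leaf 0))) (.node (.node (.leaf 0) (.leaf 0)) (.node (.leaf 0) (.leaf 0))))) (.node (.node (.node (.node (.leaf 0) (.leaf 0)) (.node (.leaf 0) (.leaf 0))) (.node (.node (.leaf 0) (.leaf 0)) (.node (.leaf 0) (.leaf 0)))) (.node (.node (.node (.leaf 0) (.leaf 0)) (.node (.leaf 0) (.leaf 0))) (.node (.node (.leaf 0) (.leaf 0)) (.node (.leaf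 0) (.leaf 0)))))) (.node (.node (.node (.node (.node (.leaf 0) (.leaf 0)) (.node (.leaf 0) (.leaf 0))) (.node (.node (.leaf 0) (.leaf 0)) (.node (.leaf 0) (.leaf 0)))) (.node (.node (.node (.leaf 0) (.leaf 0)) (.node (.leaf 0) (.leaf 0))) (.node (.node (.leaf 0) (.leaf 0)) (.node (.leaf 0) (.leaf 0))))) (.node (.node (.node (.node (.leaf 0) (.leaf 0)) (.node (.leaf 0) (.leaf 0))) (.node (.node (.leaf 0) (.leaf 0)) (.node (.leaf 0) (.leaf 0)))) (.node (.node (.node (.leaf 0) (.leaf 0)) (.node (.leaf 0) (.leaf 0))) (.node (.node (.leaf 0) (.leaf 0)) (.node (.leaf 0) (.leaf 0)))))))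

/-- A point of the block, part 911. -/
def ptCodePart911 : Janko1.Tree ℕ := (.node (.node (.node (.node (.node (.node (.leaf 0) (.leaf 0)) (.node (.leaf 0) (.leaf 0))) (.node (.node (.leaf 0) (.leaf 0)) (.node (.leaf 0) (.leaf 0)))) (.node (.node (.node (.leaf 0) (.leaf 0)) (.node (.leaf 0) (.leaf 0))) (.node (.node (.leaf 0) (.leaf 0)) (.node (.leaf 0) (.leaf 0))))) (.node (.node (.node (.node (.leaf 0) (.leaf 0)) (.node (.leaf 0) (.leaf 0))) (.node (.node (.leaf 0) (.leaf 0)) (.node (.leaf 0) (.leaf 0)))) (.node (.node (.node (.leaf 0) (.leaf 0)) (.node (.leaf 0) (.leaf 0))) (.node (.node (.leaf 0) (.leaf 0)) (.node (.leaf 0) (.leaf 0)))))) (.node (.node (.node (.node (.node (.leaf 0) (.leaf 0)) (.node (.leaf 0) (.leaf 0))) (.node (.node (.leaf 0) (.leaf 0)) (.node (.leaf 0) (.leaf 0)))) (.node (.node (.node (.leaf 0) (.leaf 0)) (.node (.leaf 0) (.leaf 0))) (.node (.node (.leaf 0) (.leaf 0)) (.node (.leaf 0) (.leaf 0))))) (.node (.node (.node (.node (.leaf 0) (.leaf 0)) (.node (.leaf 0) (.leaf 0))) (.node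 (.node (.leaf 0) (.leaf 0)) (.node (.leaf 0) (.leaf 0)))) (.node (.node (.node (.leaf 0) (.leaf 0)) (.node (.leaf 0) (.leaf 0))) (.node (.node (.leaf 0) (.leaf 0)) (.node (.leaf 0) (.leaf 0)))))))

/-- A point of the block, part 912. -/
def ptCodePart912 : Janko1.Tree ℕ := (.node (.node (.node (.node (.node (.node (.leaf 0) (.leaf 0)) (.node (.leaf 0) (.leaf 0))) (.node (.node (.leaf 0) (.leaf 0)) (.node (.leaf 0) (.leaf 0)))) (.node (.node (.node (.leaf 0) (.leaf 0)) (.node (.leaf 0) (.leaf 0))) (.node (.node (.leaf 0) (.leaf 0)) (.node (.leaf 0) (.leaf 0))))) (.node (.node (.node (.node (.leaf 0) (.leaf 0)) (.node (.leaf 0) (.leaf 0))) (.node (.node (.leaf 0) (.leaf 0)) (.node (.leaf 0) (.leaf 0)))) (.node (.node (.node (.leaf 0) (.leaf 0)) (.node (.leaf 0) (.leaf 0))) (.node (.node (.leaf 0) (.leaf 0)) (.node (.leaf 0) (.leaf 0)))))) (.node (.node (.node (.node (.node (.leaf 0) (.leaf 0)) (.node (.leaf 0) (.leaf 0))) (.node (.node (.leaf 0) (.leaf 0)) (.node (.leaf 0) (.leaf 0)))) (.node (.node (.node (.leaf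 0) (.leaf 0)) (.node (.leaf 0) (.leaf 0))) (.node (.node (.leaf 0) (.leaf 0)) (.node (.leaf 0) (.leaf 0))))) (.node (.node (.node (.node (.leaf 0) (.leaf 0)) (.node (.leaf 0) (.leaf 0))) (.node (.node (.leaf 0) (.leaf 0)) (.node (.leaf 0) (.leaf 0)))) (.node (.node (.node (.leaf 0) (.leaf 0)) (.node (.leaf 0) (.leaf 0))) (.node (.node (.leaf 0) (.leaf 0)) (.node (.leaf 0) (.leaf 0)))))))

/-- A point of the block, part 913. -/
def ptCodePart913 : Janko1.Tree ℕ := (.node (.node (.node (.node (.node (.node (.leaf 0) (.leaf 0)) (.node (.leaf 0) (.leaf 0))) (.node (.node (.leaf 0) (.leaf 0)) (.node (.leaf 0) (.leaf 0)))) (.node (.node (.node (.leaf 0) (.leaf 0)) (.node (.leaf 0) (.leaf 0))) (.node (.node (.leaf 0) (.leaf 0)) (.node (.leaf 0) (.leaf 0))))) (.node (.node (.node (.node (.leaf 0) (.leaf 0)) (.node (.leaf 0) (.leaf 0))) (.node (.node (.leaf 0) (.leaf 0)) (.node (.leaf 0) (.leaf 0)))) (.node (.node (.node (.leaf 0) (.leaf 0)) (.node (.leaf 0) (.leaf 0))) (.node (.node (.leaf 0) (.leaf 0)) (.node (.leaf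 0) (.leaf 0)))))) (.node (.node (.node (.node (.node (.leaf 0) (.leaf 0)) (.node (.leaf 0) (.leaf 0))) (.node (.node (.leaf 0) (.leaf 0)) (.node (.leaf 0) (.leaf 0)))) (.node (.node (.node (.leaf 0) (.leaf 0)) (.node (.leaf 0) (.leaf 0))) (.node (.node (.leaf 0) (.leaf 0)) (.node (.leaf 0) (.leaf 0))))) (.node (.node (.node (.node (.leaf 0) (.leaf 0)) (.node (.leaf 0) (.leaf 0))) (.node (.node (.leaf 0) (.leaf 0)) (.node (.leaf 0) (.leaf 0)))) (.node (.node (.node (.leaf 0) (.leaf 0)) (.node (.leaf 0) (.leaf 0))) (.node (.node (.leaf 0) (.leaf 0)) (.node (.leaf 0) (.leaf 0)))))))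

/-- A point of the block, part 914. -/
def ptCodePart914 : Janko1.Tree ℕ := (.node (.node (.node (.node (.node (.node (.leaf 0) (.leaf 0)) (.node (.leaf 0) (.leaf 0))) (.node (.node (.leaf 0) (.leaf 0)) (.node (.leaf 0) (.leaf 0)))) (.node (.node (.node (.leaf 0) (.leaf 0)) (.node (.leaf 0) (.leaf 0))) (.node (.node (.leaf 0) (.leaf 0)) (.node (.leaf 0) (.leaf 0))))) (.node (.node (.node (.node (.leaf 0) (.leaf 0)) (.node (.leaf 0) (.leaf 0))) (.node (.node (.leaf 0) (.leaf 0)) (.node (.leaf 0) (.leaf 0)))) (.node (.node (.node (.leaf 0) (.leaf 0)) (.node (.leaf 0) (.leaf 0))) (.node (.node (.leaf 0) (.leaf 0)) (.node (.leaf 0) (.leaf 0)))))) (.node (.node (.node (.node (.node (.leaf 0) (.leaf 0)) (.node (.leaf 0) (.leaf 0))) (.node (.node (.leaf 0) (.leaf 0)) (.node (.leaf 0) (.leaf 0)))) (.node (.node (.node (.leaf 0) (.leaf 0)) (.node (.leaf 0) (.leaf 0))) (.node (.node (.leaf 0) (.leaf 0)) (.node (.leaf 0) (.leaf 0))))) (.node (.node (.node (.node (.leaf 0) (.leaf 0)) (.node (.leaf 0) (.leaf 0))) (.node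 (.node (.leaf 0) (.leaf 0)) (.node (.leaf 0) (.leaf 0)))) (.node (.node (.node (.leaf 0) (.leaf 0)) (.node (.leaf 0) (.leaf 0))) (.node (.node (.leaf 0) (.leaf 0)) (.node (.leaf 0) (.leaf 0)))))))

/-- A point of the block, part 915. -/
def ptCodePart915 : Janko1.Tree ℕ := (.node (.node (.node (.node (.node (.node (.leaf 0) (.leaf 0)) (.node (.leaf 0) (.leaf 0))) (.node (.node (.leaf 0) (.leaf 0)) (.node (.leaf 0) (.leaf 0)))) (.node (.node (.node (.leaf 0) (.leaf 0)) (.node (.leaf 0) (.leaf 0))) (.node (.node (.leaf 0) (.leaf 0)) (.node (.leaf 0) (.leaf 0))))) (.node (.node (.node (.node (.leaf 0) (.leaf 0)) (.node (.leaf 0) (.leaf 0))) (.node (.node (.leaf 0) (.leaf 0)) (.node (.leaf 0) (.leaf 0)))) (.node (.node (.node (.leaf 0) (.leaf 0)) (.node (.leaf 0) (.leaf 0))) (.node (.node (.leaf 0) (.leaf 0)) (.node (.leaf 0) (.leaf 0)))))) (.node (.node (.node (.node (.node (.leaf 0) (.leaf 0)) (.node (.leaf 0) (.leaf 0))) (.node (.node (.leaf 0) (.leaf 0)) (.node (.leaf 0) (.leaf 0)))) (.node (.node (.node (.leaf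 0) (.leaf 0)) (.node (.leaf 0) (.leaf 0))) (.node (.node (.leaf 0) (.leaf 0)) (.node (.leaf 0) (.leaf 0))))) (.node (.node (.node (.node (.leaf 0) (.leaf 0)) (.node (.leaf 0) (.leaf 0))) (.node (.node (.leaf 0) (.leaf 0)) (.node (.leaf 0) (.leaf 0)))) (.node (.node (.node (.leaf 0) (.leaf 0)) (.node (.leaf 0) (.leaf 0))) (.node (.node (.leaf 0) (.leaf 0)) (.node (.leaf 0) (.leaf 0)))))))

/-- A point of the block, part 916. -/
def ptCodePart916 : Janko1.Tree ℕ := (.node (.node (.node (.node (.node (.node (.leaf 0) (.leaf 0)) (.node (.leaf 0) (.leaf 0))) (.node (.node (.leaf 0) (.leaf 0)) (.node (.leaf 0) (.leaf 0)))) (.node (.node (.node (.leaf 0) (.leaf 0)) (.node (.leaf 0) (.leaf 0))) (.node (.node (.leaf 0) (.leaf 0)) (.node (.leaf 0) (.leaf 0))))) (.node (.node (.node (.node (.leaf 0) (.leaf 0)) (.node (.leaf 0) (.leaf 0))) (.node (.node (.leaf 0) (.leaf 0)) (.node (.leaf 0) (.leaf 0)))) (.node (.node (.node (.leaf 0) (.leaf 0)) (.node (.leaf 0) (.leaf 0))) (.node (.node (.leaf 0) (.leaf 0)) (.node (.leaf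 0) (.leaf 0)))))) (.node (.node (.node (.node (.node (.leaf 0) (.leaf 0)) (.node (.leaf 0) (.leaf 0))) (.node (.node (.leaf 0) (.leaf 0)) (.node (.leaf 0) (.leaf 0)))) (.node (.node (.node (.leaf 0) (.leaf 0)) (.node (.leaf 0) (.leaf 0))) (.node (.node (.leaf 0) (.leaf 0)) (.node (.leaf 0) (.leaf 0))))) (.node (.node (.node (.node (.leaf 0) (.leaf 0)) (.node (.leaf 0) (.leaf 0))) (.node (.node (.leaf 0) (.leaf 0)) (.node (.leaf 0) (.leaf 0)))) (.node (.node (.node (.leaf 0) (.leaf 0)) (.node (.leaf 0) (.leaf 0))) (.node (.node (.leaf 0) (.leaf 0)) (.node (.leaf 0) (.leaf 0)))))))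

/-- A point of the block, part 917. -/
def ptCodePart917 : Janko1.Tree ℕ := (.node (.node (.node (.node (.node (.node (.leaf 0) (.leaf 0)) (.node (.leaf 0) (.leaf 0))) (.node (.node (.leaf 0) (.leaf 0)) (.node (.leaf 0) (.leaf 0)))) (.node (.node (.node (.leaf 0) (.leaf 0)) (.node (.leaf 0) (.leaf 0))) (.node (.node (.leaf 0) (.leaf 0)) (.node (.leaf 0) (.leaf 0))))) (.node (.node (.node (.node (.leaf 0) (.leaf 0)) (.node (.leaf 0) (.leaf 0))) (.node (.node (.leaf 0) (.leaf 0)) (.node (.leaf 0) (.leaf 0)))) (.node (.node (.node (.leaf 0) (.leaf 0)) (.node (.leaf 0) (.leaf 0))) (.node (.node (.leaf 0) (.leaf 0)) (.node (.leaf 0) (.leaf 0)))))) (.node (.node (.node (.node (.node (.leaf 0) (.leaf 0)) (.node (.leaf 0) (.leaf 0))) (.node (.node (.leaf 0) (.leaf 0)) (.node (.leaf 0) (.leaf 0)))) (.node (.node (.node (.leaf 0) (.leaf 0)) (.node (.leaf 0) (.leaf 0))) (.node (.node (.leaf 0) (.leaf 0)) (.node (.leaf 0) (.leaf 0))))) (.node (.node (.node (.node (.leaf 0) (.leaf 0)) (.node (.leaf 0) (.leaf 0))) (.node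 (.node (.leaf 0) (.leaf 0)) (.node (.leaf 0) (.leaf 0)))) (.node (.node (.node (.leaf 0) (.leaf 0)) (.node (.leaf 0) (.leaf 0))) (.node (.node (.leaf 0) (.leaf 0)) (.node (.leaf 0) (.leaf 0)))))))

/-- A point of the block, part 918. -/
def ptCodePart918 : Janko1.Tree ℕ := (.node (.node (.node (.node (.node (.node (.leaf 0) (.leaf 0)) (.node (.leaf 0) (.leaf 0))) (.node (.node (.leaf 0) (.leaf 0)) (.node (.leaf 0) (.leaf 0)))) (.node (.node (.node (.leaf 0) (.leaf 0)) (.node (.leaf 0) (.leaf 0))) (.node (.node (.leaf 0) (.leaf 0)) (.node (.leaf 0) (.leaf 0))))) (.node (.node (.node (.node (.leaf 0) (.leaf 0)) (.node (.leaf 0) (.leaf 0))) (.node (.node (.leaf 0) (.leaf 0)) (.node (.leaf 0) (.leaf 0)))) (.node (.node (.node (.leaf 0) (.leaf 0)) (.node (.leaf 0) (.leaf 0))) (.node (.node (.leaf 0) (.leaf 0)) (.node (.leaf 0) (.leaf 0)))))) (.node (.node (.node (.node (.node (.leaf 0) (.leaf 0)) (.node (.leaf 0) (.leaf 0))) (.node (.node (.leaf 0) (.leaf 0)) (.node (.leaf 0) (.leaf 0)))) (.node (.node (.node (.leaf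 0) (.leaf 0)) (.node (.leaf 0) (.leaf 0))) (.node (.node (.leaf 0) (.leaf 0)) (.node (.leaf 0) (.leaf 0))))) (.node (.node (.node (.node (.leaf 0) (.leaf 0)) (.node (.leaf 0) (.leaf 0))) (.node (.node (.leaf 0) (.leaf 0)) (.node (.leaf 0) (.leaf 0)))) (.node (.node (.node (.leaf 0) (.leaf 0)) (.node (.leaf 0) (.leaf 0))) (.node (.node (.leaf 0) (.leaf 0)) (.node (.leaf 0) (.leaf 0)))))))

/-- A point of the block, part 919. -/
def ptCodePart919 : Janko1.Tree ℕ := (.node (.node (.node (.node (.node (.node (.leaf 0) (.leaf 0)) (.node (.leaf 0) (.leaf 0))) (.node (.node (.leaf 0) (.leaf 0)) (.node (.leaf 0) (.leaf 0)))) (.node (.node (.node (.leaf 0) (.leaf 0)) (.node (.leaf 0) (.leaf 0))) (.node (.node (.leaf 0) (.leaf 0)) (.node (.leaf 0) (.leaf 0))))) (.node (.node (.node (.node (.leaf 0) (.leaf 0)) (.node (.leaf 0) (.leaf 0))) (.node (.node (.leaf 0) (.leaf 0)) (.node (.leaf 0) (.leaf 0)))) (.node (.node (.node (.leaf 0) (.leaf 0)) (.node (.leaf 0) (.leaf 0))) (.node (.node (.leaf 0) (.leaf 0)) (.node (.leaf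 0) (.leaf 0)))))) (.node (.node (.node (.node (.node (.leaf 0) (.leaf 0)) (.node (.leaf 0) (.leaf 0))) (.node (.node (.leaf 0) (.leaf 0)) (.node (.leaf 0) (.leaf 0)))) (.node (.node (.node (.leaf 0) (.leaf 0)) (.node (.leaf 0) (.leaf 0))) (.node (.node (.leaf 0) (.leaf 0)) (.node (.leaf 0) (.leaf 0))))) (.node (.node (.node (.node (.leaf 0) (.leaf 0)) (.node (.leaf 0) (.leaf 0))) (.node (.node (.leaf 0) (.leaf 0)) (.node (.leaf 0) (.leaf 0)))) (.node (.node (.node (.leaf 0) (.leaf 0)) (.node (.leaf 0) (.leaf 0))) (.node (.node (.leaf 0) (.leaf 0)) (.node (.leaf 0) (.leaf 0)))))))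

/-- A point of the block, part 920. -/
def ptCodePart920 : Janko1.Tree ℕ := (.node (.node (.node (.node (.node (.node (.leaf 0) (.leaf 0)) (.node (.leaf 0) (.leaf 0))) (.node (.node (.leaf 0) (.leaf 0)) (.node (.leaf 0) (.leaf 0)))) (.node (.node (.node (.leaf 0) (.leaf 0)) (.node (.leaf 0) (.leaf 0))) (.node (.node (.leaf 0) (.leaf 0)) (.node (.leaf 0) (.leaf 0))))) (.node (.node (.node (.node (.leaf 0) (.leaf 0)) (.node (.leaf 0) (.leaf 0))) (.node (.node (.leaf 0) (.leaf 0)) (.node (.leaf 0) (.leaf 0)))) (.node (.node (.node (.leaf 0) (.leaf 0)) (.node (.leaf 0) (.leaf 0))) (.node (.node (.leaf 0) (.leaf 0)) (.node (.leaf 0) (.leaf 0)))))) (.node (.node (.node (.node (.node (.leaf 0) (.leaf 0)) (.node (.leaf 0) (.leaf 0))) (.node (.node (.leaf 0) (.leaf 0)) (.node (.leaf 0) (.leaf 0)))) (.node (.node (.node (.leaf 0) (.leaf 0)) (.node (.leaf 0) (.leaf 0))) (.node (.node (.leaf 0) (.leaf 0)) (.node (.leaf 0) (.leaf 0))))) (.node (.node (.node (.node (.leaf 0) (.leaf 0)) (.node (.leaf 0) (.leaf 0))) (.node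 (.node (.leaf 0) (.leaf 0)) (.node (.leaf 0) (.leaf 0)))) (.node (.node (.node (.leaf 0) (.leaf 0)) (.node (.leaf 0) (.leaf 0))) (.node (.node (.leaf 0) (.leaf 0)) (.node (.leaf 0) (.leaf 0)))))))

/-- A point of the block, part 921. -/
def ptCodePart921 : Janko1.Tree ℕ := (.node (.node (.node (.node (.node (.node (.leaf 0) (.leaf 0)) (.node (.leaf 0) (.leaf 0))) (.node (.node (.leaf 0) (.leaf 0)) (.node (.leaf 0) (.leaf 0)))) (.node (.node (.node (.leaf 0) (.leaf 0)) (.node (.leaf 0) (.leaf 0))) (.node (.node (.leaf 0) (.leaf 0)) (.node (.leaf 0) (.leaf 0))))) (.node (.node (.node (.node (.leaf 0) (.leaf 0)) (.node (.leaf 0) (.leaf 0))) (.node (.node (.leaf 0) (.leaf 0)) (.node (.leaf 0) (.leaf 0)))) (.node (.node (.node (.leaf 0) (.leaf 0)) (.node (.leaf 0) (.leaf 0))) (.node (.node (.leaf 0) (.leaf 0)) (.node (.leaf 0) (.leaf 0)))))) (.node (.node (.node (.node (.node (.leaf 0) (.leaf 0)) (.node (.leaf 0) (.leaf 0))) (.node (.node (.leaf 0) (.leaf 0)) (.node (.leaf 0) (.leaf 0)))) (.node (.node (.node (.leaf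 0) (.leaf 0)) (.node (.leaf 0) (.leaf 0))) (.node (.node (.leaf 0) (.leaf 0)) (.node (.leaf 0) (.leaf 0))))) (.node (.node (.node (.node (.leaf 0) (.leaf 0)) (.node (.leaf 0) (.leaf 0))) (.node (.node (.leaf 0) (.leaf 0)) (.node (.leaf 0) (.leaf 0)))) (.node (.node (.node (.leaf 0) (.leaf 0)) (.node (.leaf 0) (.leaf 0))) (.node (.node (.leaf 0) (.leaf 0)) (.node (.leaf 0) (.leaf 0)))))))

/-- A point of the block, part 922. -/
def ptCodePart922 : Janko1.Tree ℕ := (.node (.node (.node (.node (.node (.node (.leaf 0) (.leaf 0)) (.node (.leaf 0) (.leaf 0))) (.node (.node (.leaf 0) (.leaf 0)) (.node (.leaf 0) (.leaf 0)))) (.node (.node (.node (.leaf 0) (.leaf 0)) (.node (.leaf 0) (.leaf 0))) (.node (.node (.leaf 0) (.leaf 0)) (.node (.leaf 0) (.leaf 0))))) (.node (.node (.node (.node (.leaf 0) (.leaf 0)) (.node (.leaf 0) (.leaf 0))) (.node (.node (.leaf 0) (.leaf 0)) (.node (.leaf 0) (.leaf 0)))) (.node (.node (.node (.leaf 0) (.leaf 0)) (.node (.leaf 0) (.leaf 0))) (.node (.node (.leaf 0) (.leaf 0)) (.node (.leaf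 0) (.leaf 0)))))) (.node (.node (.node (.node (.node (.leaf 0) (.leaf 0)) (.node (.leaf 0) (.leaf 0))) (.node (.node (.leaf 0) (.leaf 0)) (.node (.leaf 0) (.leaf 0)))) (.node (.node (.node (.leaf 0) (.leaf 0)) (.node (.leaf 0) (.leaf 0))) (.node (.node (.leaf 0) (.leaf 0)) (.node (.leaf 0) (.leaf 0))))) (.node (.node (.node (.node (.leaf 0) (.leaf 0)) (.node (.leaf 0) (.leaf 0))) (.node (.node (.leaf 0) (.leaf 0)) (.node (.leaf 0) (.leaf 0)))) (.node (.node (.node (.leaf 0) (.leaf 0)) (.node (.leaf 0) (.leaf 0))) (.node (.node (.leaf 0) (.leaf 0)) (.node (.leaf 0) (.leaf 0)))))))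

/-- A point of the block, part 923. -/
def ptCodePart923 : Janko1.Tree ℕ := (.node (.node (.node (.node (.node (.node (.leaf 0) (.leaf 0)) (.node (.leaf 0) (.leaf 0))) (.node (.node (.leaf 0) (.leaf 0)) (.node (.leaf 0) (.leaf 0)))) (.node (.node (.node (.leaf 0) (.leaf 0)) (.node (.leaf 0) (.leaf 0))) (.node (.node (.leaf 0) (.leaf 0)) (.node (.leaf 0) (.leaf 0))))) (.node (.node (.node (.node (.leaf 0) (.leaf 0)) (.node (.leaf 0) (.leaf 0))) (.node (.node (.leaf 0) (.leaf 0)) (.node (.leaf 0) (.leaf 0)))) (.node (.node (.node (.leaf 0) (.leaf 0)) (.node (.leaf 0) (.leaf 0))) (.node (.node (.leaf 0) (.leaf 0)) (.node (.leaf 0) (.leaf 0)))))) (.node (.node (.node (.node (.node (.leaf 0) (.leaf 0)) (.node (.leaf 0) (.leaf 0))) (.node (.node (.leaf 0) (.leaf 0)) (.node (.leaf 0) (.leaf 0)))) (.node (.node (.node (.leaf 0) (.leaf 0)) (.node (.leaf 0) (.leaf 0))) (.node (.node (.leaf 0) (.leaf 0)) (.node (.leaf 0) (.leaf 0))))) (.node (.node (.node (.node (.leaf 0) (.leaf 0)) (.node (.leaf 0) (.leaf 0))) (.node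 (.node (.leaf 0) (.leaf 0)) (.node (.leaf 0) (.leaf 0)))) (.node (.node (.node (.leaf 0) (.leaf 0)) (.node (.leaf 0) (.leaf 0))) (.node (.node (.leaf 0) (.leaf 0)) (.node (.leaf 0) (.leaf 0)))))))

/-- A point of the block, part 924. -/
def ptCodePart924 : Janko1.Tree ℕ := (.node (.node (.node (.node (.node (.node (.leaf 0) (.leaf 0)) (.node (.leaf 0) (.leaf 0))) (.node (.node (.leaf 0) (.leaf 0)) (.node (.leaf 0) (.leaf 0)))) (.node (.node (.node (.leaf 0) (.leaf 0)) (.node (.leaf 0) (.leaf 0))) (.node (.node (.leaf 0) (.leaf 0)) (.node (.leaf 0) (.leaf 0))))) (.node (.node (.node (.node (.leaf 0) (.leaf 0)) (.node (.leaf 0) (.leaf 0))) (.node (.node (.leaf 0) (.leaf 0)) (.node (.leaf 0) (.leaf 0)))) (.node (.node (.node (.leaf 0) (.leaf 0)) (.node (.leaf 0) (.leaf 0))) (.node (.node (.leaf 0) (.leaf 0)) (.node (.leaf 0) (.leaf 0)))))) (.node (.node (.node (.node (.node (.leaf 0) (.leaf 0)) (.node (.leaf 0) (.leaf 0))) (.node (.node (.leaf 0) (.leaf 0)) (.node (.leaf 0) (.leaf 0)))) (.node (.node (.node (.leaf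 0) (.leaf 0)) (.node (.leaf 0) (.leaf 0))) (.node (.node (.leaf 0) (.leaf 0)) (.node (.leaf 0) (.leaf 0))))) (.node (.node (.node (.node (.leaf 0) (.leaf 0)) (.node (.leaf 0) (.leaf 0))) (.node (.node (.leaf 0) (.leaf 0)) (.node (.leaf 0) (.leaf 0)))) (.node (.node (.node (.leaf 0) (.leaf 0)) (.node (.leaf 0) (.leaf 0))) (.node (.node (.leaf 0) (.leaf 0)) (.node (.leaf 0) (.leaf 0)))))))

/-- A point of the block, part 925. -/
def ptCodePart925 : Janko1.Tree ℕ := (.node (.node (.node (.node (.node (.node (.leaf 0) (.leaf 0)) (.node (.leaf 0) (.leaf 0))) (.node (.node (.leaf 0) (.leaf 0)) (.node (.leaf 0) (.leaf 0)))) (.node (.node (.node (.leaf 0) (.leaf 0)) (.node (.leaf 0) (.leaf 0))) (.node (.node (.leaf 0) (.leaf 0)) (.node (.leaf 0) (.leaf 0))))) (.node (.node (.node (.node (.leaf 0) (.leaf 0)) (.node (.leaf 0) (.leaf 0))) (.node (.node (.leaf 0) (.leaf 0)) (.node (.leaf 0) (.leaf 0)))) (.node (.node (.node (.leaf 0) (.leaf 0)) (.node (.leaf 0) (.leaf 0))) (.node (.node (.leaf 0) (.leaf 0)) (.node (.leaf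 0) (.leaf 0)))))) (.node (.node (.node (.node (.node (.leaf 0) (.leaf 0)) (.node (.leaf 0) (.leaf 0))) (.node (.node (.leaf 0) (.leaf 0)) (.node (.leaf 0) (.leaf 0)))) (.node (.node (.node (.leaf 0) (.leaf 0)) (.node (.leaf 0) (.leaf 0))) (.node (.node (.leaf 0) (.leaf 0)) (.node (.leaf 0) (.leaf 0))))) (.node (.node (.node (.node (.leaf 0) (.leaf 0)) (.node (.leaf 0) (.leaf 0))) (.node (.node (.leaf 0) (.leaf 0)) (.node (.leaf 0) (.leaf 0)))) (.node (.node (.node (.leaf 0) (.leaf 0)) (.node (.leaf 0) (.leaf 0))) (.node (.node (.leaf 0) (.leaf 0)) (.node (.leaf 0) (.leaf 0)))))))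

/-- A point of the block, part 926. -/
def ptCodePart926 : Janko1.Tree ℕ := (.node (.node (.node (.node (.node (.node (.leaf 0) (.leaf 0)) (.node (.leaf 0) (.leaf 0))) (.node (.node (.leaf 0) (.leaf 0)) (.node (.leaf 0) (.leaf 0)))) (.node (.node (.node (.leaf 0) (.leaf 0)) (.node (.leaf 0) (.leaf 0))) (.node (.node (.leaf 0) (.leaf 0)) (.node (.leaf 0) (.leaf 0))))) (.node (.node (.node (.node (.leaf 0) (.leaf 0)) (.node (.leaf 0) (.leaf 0))) (.node (.node (.leaf 0) (.leaf 0)) (.node (.leaf 0) (.leaf 0)))) (.node (.node (.node (.leaf 0) (.leaf 0)) (.node (.leaf 0) (.leaf 0))) (.node (.node (.leaf 0) (.leaf 0)) (.node (.leaf 0) (.leaf 0)))))) (.node (.node (.node (.node (.node (.leaf 0) (.leaf 0)) (.node (.leaf 0) (.leaf 0))) (.node (.node (.leaf 0) (.leaf 0)) (.node (.leaf 0) (.leaf 0)))) (.node (.node (.node (.leaf 0) (.leaf 0)) (.node (.leaf 0) (.leaf 0))) (.node (.node (.leaf 0) (.leaf 0)) (.node (.leaf 0) (.leaf 0))))) (.node (.node (.node (.node (.leaf 0) (.leaf 0)) (.node (.leaf 0) (.leaf 0))) (.node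 (.node (.leaf 0) (.leaf 0)) (.node (.leaf 0) (.leaf 0)))) (.node (.node (.node (.leaf 0) (.leaf 0)) (.node (.leaf 0) (.leaf 0))) (.node (.node (.leaf 0) (.leaf 0)) (.node (.leaf 0) (.leaf 0)))))))

/-- A point of the block, part 927. -/
def ptCodePart927 : Janko1.Tree ℕ := (.node (.node (.node (.node (.node (.node (.leaf 0) (.leaf 0)) (.node (.leaf 0) (.leaf 0))) (.node (.node (.leaf 0) (.leaf 0)) (.node (.leaf 0) (.leaf 0)))) (.node (.node (.node (.leaf 0) (.leaf 0)) (.node (.leaf 0) (.leaf 0))) (.node (.node (.leaf 0) (.leaf 0)) (.node (.leaf 0) (.leaf 0))))) (.node (.node (.node (.node (.leaf 0) (.leaf 0)) (.node (.leaf 0) (.leaf 0))) (.node (.node (.leaf 0) (.leaf 0)) (.node (.leaf 0) (.leaf 0)))) (.node (.node (.node (.leaf 0) (.leaf 0)) (.node (.leaf 0) (.leaf 0))) (.node (.node (.leaf 0) (.leaf 0)) (.node (.leaf 0) (.leaf 0)))))) (.node (.node (.node (.node (.node (.leaf 0) (.leaf 0)) (.node (.leaf 0) (.leaf 0))) (.node (.node (.leaf 0) (.leaf 0)) (.node (.leaf 0) (.leaf 0)))) (.node (.node (.node (.leaf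 0) (.leaf 0)) (.node (.leaf 0) (.leaf 0))) (.node (.node (.leaf 0) (.leaf 0)) (.node (.leaf 0) (.leaf 0))))) (.node (.node (.node (.node (.leaf 0) (.leaf 0)) (.node (.leaf 0) (.leaf 0))) (.node (.node (.leaf 0) (.leaf 0)) (.node (.leaf 0) (.leaf 0)))) (.node (.node (.node (.leaf 0) (.leaf 0)) (.node (.leaf 0) (.leaf 0))) (.node (.node (.leaf 0) (.leaf 0)) (.node (.leaf 0) (.leaf 0)))))))

/-- A point of the block, part 928. -/
def ptCodePart928 : Janko1.Tree ℕ := (.node (.node (.node (.node (.node (.node (.leaf 0) (.leaf 0)) (.node (.leaf 0) (.leaf 0))) (.node (.node (.leaf 0) (.leaf 0)) (.node (.leaf 0) (.leaf 0)))) (.node (.node (.node (.leaf 0) (.leaf 0)) (.node (.leaf 0) (.leaf 0))) (.node (.node (.leaf 0) (.leaf 0)) (.node (.leaf 0) (.leaf 0))))) (.node (.node (.node (.node (.leaf 0) (.leaf 0)) (.node (.leaf 0) (.leaf 0))) (.node (.node (.leaf 0) (.leaf 0)) (.node (.leaf 0) (.leaf 0)))) (.node (.node (.node (.leaf 0) (.leaf 0)) (.node (.leaf 0) (.leaf 0))) (.node (.node (.leaf 0) (.leaf 0)) (.node (.leaf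 0) (.leaf 0)))))) (.node (.node (.node (.node (.node (.leaf 0) (.leaf 0)) (.node (.leaf 0) (.leaf 0))) (.node (.node (.leaf 0) (.leaf 0)) (.node (.leaf 0) (.leaf 0)))) (.node (.node (.node (.leaf 0) (.leaf 0)) (.node (.leaf 0) (.leaf 0))) (.node (.node (.leaf 0) (.leaf 0)) (.node (.leaf 0) (.leaf 0))))) (.node (.node (.node (.node (.leaf 0) (.leaf 0)) (.node (.leaf 0) (.leaf 0))) (.node (.node (.leaf 0) (.leaf 0)) (.node (.leaf 0) (.leaf 0)))) (.node (.node (.node (.leaf 0) (.leaf 0)) (.node (.leaf 0) (.leaf 0))) (.node (.node (.leaf 0) (.leaf 0)) (.node (.leaf 0) (.leaf 0)))))))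

/-- A point of the block, part 929. -/
def ptCodePart929 : Janko1.Tree ℕ := (.node (.node (.node (.node (.node (.node (.leaf 0) (.leaf 0)) (.node (.leaf 0) (.leaf 0))) (.node (.node (.leaf 0) (.leaf 0)) (.node (.leaf 0) (.leaf 0)))) (.node (.node (.node (.leaf 0) (.leaf 0)) (.node (.leaf 0) (.leaf 0))) (.node (.node (.leaf 0) (.leaf 0)) (.node (.leaf 0) (.leaf 0))))) (.node (.node (.node (.node (.leaf 0) (.leaf 0)) (.node (.leaf 0) (.leaf 0))) (.node (.node (.leaf 0) (.leaf 0)) (.node (.leaf 0) (.leaf 0)))) (.node (.node (.node (.leaf 0) (.leaf 0)) (.node (.leaf 0) (.leaf 0))) (.node (.node (.leaf 0) (.leaf 0)) (.node (.leaf 0) (.leaf 0)))))) (.node (.node (.node (.node (.node (.leaf 0) (.leaf 0)) (.node (.leaf 0) (.leaf 0))) (.node (.node (.leaf 0) (.leaf 0)) (.node (.leaf 0) (.leaf 0)))) (.node (.node (.node (.leaf 0) (.leaf 0)) (.node (.leaf 0) (.leaf 0))) (.node (.node (.leaf 0) (.leaf 0)) (.node (.leaf 0) (.leaf 0))))) (.node (.node (.node (.node (.leaf 0) (.leaf 0)) (.node (.leaf 0) (.leaf 0))) (.node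 (.node (.leaf 0) (.leaf 0)) (.node (.leaf 0) (.leaf 0)))) (.node (.node (.node (.leaf 0) (.leaf 0)) (.node (.leaf 0) (.leaf 0))) (.node (.node (.leaf 0) (.leaf 0)) (.node (.leaf 0) (.leaf 0)))))))

/-- A point of the block, part 930. -/
def ptCodePart930 : Janko1.Tree ℕ := (.node (.node (.node (.node (.node (.node (.leaf 0) (.leaf 0)) (.node (.leaf 0) (.leaf 0))) (.node (.node (.leaf 0) (.leaf 0)) (.node (.leaf 0) (.leaf 0)))) (.node (.node (.node (.leaf 0) (.leaf 0)) (.node (.leaf 0) (.leaf 0))) (.node (.node (.leaf 0) (.leaf 0)) (.node (.leaf 0) (.leaf 0))))) (.node (.node (.node (.node (.leaf 0) (.leaf 0)) (.node (.leaf 0) (.leaf 0))) (.node (.node (.leaf 0) (.leaf 0)) (.node (.leaf 0) (.leaf 0)))) (.node (.node (.node (.leaf 0) (.leaf 0)) (.node (.leaf 0) (.leaf 0))) (.node (.node (.leaf 0) (.leaf 0)) (.node (.leaf 0) (.leaf 0)))))) (.node (.node (.node (.node (.node (.leaf 0) (.leaf 0)) (.node (.leaf 0) (.leaf 0))) (.node (.node (.leaf 0) (.leaf 0)) (.node (.leaf 0) (.leaf 0)))) (.node (.node (.node (.leaf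 0) (.leaf 0)) (.node (.leaf 0) (.leaf 0))) (.node (.node (.leaf 0) (.leaf 0)) (.node (.leaf 0) (.leaf 0))))) (.node (.node (.node (.node (.leaf 0) (.leaf 0)) (.node (.leaf 0) (.leaf 0))) (.node (.node (.leaf 0) (.leaf 0)) (.node (.leaf 0) (.leaf 0)))) (.node (.node (.node (.leaf 0) (.leaf 0)) (.node (.leaf 0) (.leaf 0))) (.node (.node (.leaf 0) (.leaf 0)) (.node (.leaf 0) (.leaf 0)))))))

/-- A point of the block, part 931. -/
def ptCodePart931 : Janko1.Tree ℕ := (.node (.node (.node (.node (.node (.node (.leaf 0) (.leaf 0)) (.node (.leaf 0) (.leaf 0))) (.node (.node (.leaf 0) (.leaf 0)) (.node (.leaf 0) (.leaf 0)))) (.node (.node (.node (.leaf 0) (.leaf 0)) (.node (.leaf 0) (.leaf 0))) (.node (.node (.leaf 0) (.leaf 0)) (.node (.leaf 0) (.leaf 0))))) (.node (.node (.node (.node (.leaf 0) (.leaf 0)) (.node (.leaf 0) (.leaf 0))) (.node (.node (.leaf 0) (.leaf 0)) (.node (.leaf 0) (.leaf 0)))) (.node (.node (.node (.leaf 0) (.leaf 0)) (.node (.leaf 0) (.leaf 0))) (.node (.node (.leaf 0) (.leaf 0)) (.node (.leaf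 0) (.leaf 0)))))) (.node (.node (.node (.node (.node (.leaf 0) (.leaf 0)) (.node (.leaf 0) (.leaf 0))) (.node (.node (.leaf 0) (.leaf 0)) (.node (.leaf 0) (.leaf 0)))) (.node (.node (.node (.leaf 0) (.leaf 0)) (.node (.leaf 0) (.leaf 0))) (.node (.node (.leaf 0) (.leaf 0)) (.node (.leaf 0) (.leaf 0))))) (.node (.node (.node (.node (.leaf 0) (.leaf 0)) (.node (.leaf 0) (.leaf 0))) (.node (.node (.leaf 0) (.leaf 0)) (.node (.leaf 0) (.leaf 0)))) (.node (.node (.node (.leaf 0) (.leaf 0)) (.node (.leaf 0) (.leaf 0))) (.node (.node (.leaf 0) (.leaf 0)) (.node (.leaf 0) (.leaf 0)))))))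

/-- A point of the block, part 932. -/
def ptCodePart932 : Janko1.Tree ℕ := (.node (.node (.node (.node (.node (.node (.leaf 0) (.leaf 0)) (.node (.leaf 0) (.leaf 0))) (.node (.node (.leaf 0) (.leaf 0)) (.node (.leaf 0) (.leaf 0)))) (.node (.node (.node (.leaf 0) (.leaf 0)) (.node (.leaf 0) (.leaf 0))) (.node (.node (.leaf 0) (.leaf 0)) (.node (.leaf 0) (.leaf 0))))) (.node (.node (.node (.node (.leaf 0) (.leaf 0)) (.node (.leaf 0) (.leaf 0))) (.node (.node (.leaf 0) (.leaf 0)) (.node (.leaf 0) (.leaf 0)))) (.node (.node (.node (.leaf 0) (.leaf 0)) (.node (.leaf 0) (.leaf 0))) (.node (.node (.leaf 0) (.leaf 0)) (.node (.leaf 0) (.leaf 0)))))) (.node (.node (.node (.node (.node (.leaf 0) (.leaf 0)) (.node (.leaf 0) (.leaf 0))) (.node (.node (.leaf 0) (.leaf 0)) (.node (.leaf 0) (.leaf 0)))) (.node (.node (.node (.leaf 0) (.leaf 0)) (.node (.leaf 0) (.leaf 0))) (.node (.node (.leaf 0) (.leaf 0)) (.node (.leaf 0) (.leaf 0))))) (.node (.node (.node (.node (.leaf 0) (.leaf 0)) (.node (.leaf 0) (.leaf 0))) (.node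 (.node (.leaf 0) (.leaf 0)) (.node (.leaf 0) (.leaf 0)))) (.node (.node (.node (.leaf 0) (.leaf 0)) (.node (.leaf 0) (.leaf 0))) (.node (.node (.leaf 0) (.leaf 0)) (.node (.leaf 0) (.leaf 0)))))))

/-- A point of the block, part 933. -/
def ptCodePart933 : Janko1.Tree ℕ := (.node (.node (.node (.node (.node (.node (.leaf 0) (.leaf 0)) (.node (.leaf 0) (.leaf 0))) (.node (.node (.leaf 0) (.leaf 0)) (.node (.leaf 0) (.leaf 0)))) (.node (.node (.node (.leaf 0) (.leaf 0)) (.node (.leaf 0) (.leaf 0))) (.node (.node (.leaf 0) (.leaf 0)) (.node (.leaf 0) (.leaf 0))))) (.node (.node (.node (.node (.leaf 0) (.leaf 0)) (.node (.leaf 0) (.leaf 0))) (.node (.node (.leaf 0) (.leaf 0)) (.node (.leaf 0) (.leaf 0)))) (.node (.node (.node (.leaf 0) (.leaf 0)) (.node (.leaf 0) (.leaf 0))) (.node (.node (.leaf 0) (.leaf 0)) (.node (.leaf 0) (.leaf 0)))))) (.node (.node (.node (.node (.node (.leaf 0) (.leaf 0)) (.node (.leaf 0) (.leaf 0))) (.node (.node (.leaf 0) (.leaf 0)) (.node (.leaf 0) (.leaf 0)))) (.node (.node (.node (.leaf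 0) (.leaf 0)) (.node (.leaf 0) (.leaf 0))) (.node (.node (.leaf 0) (.leaf 0)) (.node (.leaf 0) (.leaf 0))))) (.node (.node (.node (.node (.leaf 0) (.leaf 0)) (.node (.leaf 0) (.leaf 0))) (.node (.node (.leaf 0) (.leaf 0)) (.node (.leaf 0) (.leaf 0)))) (.node (.node (.node (.leaf 0) (.leaf 0)) (.node (.leaf 0) (.leaf 0))) (.node (.node (.leaf 0) (.leaf 0)) (.node (.leaf 0) (.leaf 0)))))))

/-- A point of the block, part 934. -/
def ptCodePart934 : Janko1.Tree ℕ := (.node (.node (.node (.node (.node (.node (.leaf 0) (.leaf 0)) (.node (.leaf 0) (.leaf 0))) (.node (.node (.leaf 0) (.leaf 0)) (.node (.leaf 0) (.leaf 0)))) (.node (.node (.node (.leaf 0) (.leaf 0)) (.node (.leaf 0) (.leaf 0))) (.node (.node (.leaf 0) (.leaf 0)) (.node (.leaf 0) (.leaf 0))))) (.node (.node (.node (.node (.leaf 0) (.leaf 0)) (.node (.leaf 0) (.leaf 0))) (.node (.node (.leaf 0) (.leaf 0)) (.node (.leaf 0) (.leaf 0)))) (.node (.node (.node (.leaf 0) (.leaf 0)) (.node (.leaf 0) (.leaf 0))) (.node (.node (.leaf 0) (.leaf 0)) (.node (.leaf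 0) (.leaf 0)))))) (.node (.node (.node (.node (.node (.leaf 0) (.leaf 0)) (.node (.leaf 0) (.leaf 0))) (.node (.node (.leaf 0) (.leaf 0)) (.node (.leaf 0) (.leaf 0)))) (.node (.node (.node (.leaf 0) (.leaf 0)) (.node (.leaf 0) (.leaf 0))) (.node (.node (.leaf 0) (.leaf 0)) (.node (.leaf 0) (.leaf 0))))) (.node (.node (.node (.node (.leaf 0) (.leaf 0)) (.node (.leaf 0) (.leaf 0))) (.node (.node (.leaf 0) (.leaf 0)) (.node (.leaf 0) (.leaf 0)))) (.node (.node (.node (.leaf 0) (.leaf 0)) (.node (.leaf 0) (.leaf 0))) (.node (.node (.leaf 0) (.leaf 0)) (.node (.leaf 0) (.leaf 0)))))))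

/-- A point of the block, part 935. -/
def ptCodePart935 : Janko1.Tree ℕ := (.node (.node (.node (.node (.node (.node (.leaf 0) (.leaf 0)) (.node (.leaf 0) (.leaf 0))) (.node (.node (.leaf 0) (.leaf 0)) (.node (.leaf 0) (.leaf 0)))) (.node (.node (.node (.leaf 0) (.leaf 0)) (.node (.leaf 0) (.leaf 0))) (.node (.node (.leaf 0) (.leaf 0)) (.node (.leaf 0) (.leaf 0))))) (.node (.node (.node (.node (.leaf 0) (.leaf 0)) (.node (.leaf 0) (.leaf 0))) (.node (.node (.leaf 0) (.leaf 0)) (.node (.leaf 0) (.leaf 0)))) (.node (.node (.node (.leaf 0) (.leaf 0)) (.node (.leaf 0) (.leaf 0))) (.node (.node (.leaf 0) (.leaf 0)) (.node (.leaf 0) (.leaf 0)))))) (.node (.node (.node (.node (.node (.leaf 0) (.leaf 0)) (.node (.leaf 0) (.leaf 0))) (.node (.node (.leaf 0) (.leaf 0)) (.node (.leaf 0) (.leaf 0)))) (.node (.node (.node (.leaf 0) (.leaf 0)) (.node (.leaf 0) (.leaf 0))) (.node (.node (.leaf 0) (.leaf 0)) (.node (.leaf 0) (.leaf 0))))) (.node (.node (.node (.node (.leaf 0) (.leaf 0)) (.node (.leaf 0) (.leaf 0))) (.node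 (.node (.leaf 0) (.leaf 0)) (.node (.leaf 0) (.leaf 0)))) (.node (.node (.node (.leaf 0) (.leaf 0)) (.node (.leaf 0) (.leaf 0))) (.node (.node (.leaf 0) (.leaf 0)) (.node (.leaf 0) (.leaf 0)))))))

/-- A point of the block, part 936. -/
def ptCodePart936 : Janko1.Tree ℕ := (.node (.node (.node (.node (.node (.node (.leaf 0) (.leaf 0)) (.node (.leaf 0) (.leaf 0))) (.node (.node (.leaf 0) (.leaf 0)) (.node (.leaf 0) (.leaf 0)))) (.node (.node (.node (.leaf 0) (.leaf 0)) (.node (.leaf 0) (.leaf 0))) (.node (.node (.leaf 0) (.leaf 0)) (.node (.leaf 0) (.leaf 0))))) (.node (.node (.node (.node (.leaf 0) (.leaf 0)) (.node (.leaf 0) (.leaf 0))) (.node (.node (.leaf 0) (.leaf 0)) (.node (.leaf 0) (.leaf 0)))) (.node (.node (.node (.leaf 0) (.leaf 0)) (.node (.leaf 0) (.leaf 0))) (.node (.node (.leaf 0) (.leaf 0)) (.node (.leaf 0) (.leaf 0)))))) (.node (.node (.node (.node (.node (.leaf 0) (.leaf 0)) (.node (.leaf 0) (.leaf 0))) (.node (.node (.leaf 0) (.leaf 0)) (.node (.leaf 0) (.leaf 0)))) (.node (.node (.node (.leaf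 0) (.leaf 0)) (.node (.leaf 0) (.leaf 0))) (.node (.node (.leaf 0) (.leaf 0)) (.node (.leaf 0) (.leaf 0))))) (.node (.node (.node (.node (.leaf 0) (.leaf 0)) (.node (.leaf 0) (.leaf 0))) (.node (.node (.leaf 0) (.leaf 0)) (.node (.leaf 0) (.leaf 0)))) (.node (.node (.node (.leaf 0) (.leaf 0)) (.node (.leaf 0) (.leaf 0))) (.node (.node (.leaf 0) (.leaf 0)) (.node (.leaf 0) (.leaf 0)))))))

/-- A point of the block, part 937. -/
def ptCodePart937 : Janko1.Tree ℕ := (.node (.node (.node (.node (.node (.node (.leaf 0) (.leaf 0)) (.node (.leaf 0) (.leaf 0))) (.node (.node (.leaf 0) (.leaf 0)) (.node (.leaf 0) (.leaf 0)))) (.node (.node (.node (.leaf 0) (.leaf 0)) (.node (.leaf 0) (.leaf 0))) (.node (.node (.leaf 0) (.leaf 0)) (.node (.leaf 0) (.leaf 0))))) (.node (.node (.node (.node (.leaf 0) (.leaf 0)) (.node (.leaf 0) (.leaf 0))) (.node (.node (.leaf 0) (.leaf 0)) (.node (.leaf 0) (.leaf 0)))) (.node (.node (.node (.leaf 0) (.leaf 0)) (.node (.leaf 0) (.leaf 0))) (.node (.node (.leaf 0) (.leaf 0)) (.node (.leaf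 0) (.leaf 0)))))) (.node (.node (.node (.node (.node (.leaf 0) (.leaf 0)) (.node (.leaf 0) (.leaf 0))) (.node (.node (.leaf 0) (.leaf 0)) (.node (.leaf 0) (.leaf 0)))) (.node (.node (.node (.leaf 0) (.leaf 0)) (.node (.leaf 0) (.leaf 0))) (.node (.node (.leaf 0) (.leaf 0)) (.node (.leaf 0) (.leaf 0))))) (.node (.node (.node (.node (.leaf 0) (.leaf 0)) (.node (.leaf 0) (.leaf 0))) (.node (.node (.leaf 0) (.leaf 0)) (.node (.leaf 0) (.leaf 0)))) (.node (.node (.node (.leaf 0) (.leaf 0)) (.node (.leaf 0) (.leaf 0))) (.node (.node (.leaf 0) (.leaf 0)) (.node (.leaf 0) (.leaf 0)))))))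

/-- A point of the block, part 938. -/
def ptCodePart938 : Janko1.Tree ℕ := (.node (.node (.node (.node (.node (.node (.leaf 0) (.leaf 0)) (.node (.leaf 0) (.leaf 0))) (.node (.node (.leaf 0) (.leaf 0)) (.node (.leaf 0) (.leaf 0)))) (.node (.node (.node (.leaf 0) (.leaf 0)) (.node (.leaf 0) (.leaf 0))) (.node (.node (.leaf 0) (.leaf 0)) (.node (.leaf 0) (.leaf 0))))) (.node (.node (.node (.node (.leaf 0) (.leaf 0)) (.node (.leaf 0) (.leaf 0))) (.node (.node (.leaf 0) (.leaf 0)) (.node (.leaf 0) (.leaf 0)))) (.node (.node (.node (.leaf 0) (.leaf 0)) (.node (.leaf 0) (.leaf 0))) (.node (.node (.leaf 0) (.leaf 0)) (.node (.leaf 0) (.leaf 0)))))) (.node (.node (.node (.node (.node (.leaf 0) (.leaf 0)) (.node (.leaf 0) (.leaf 0))) (.node (.node (.leaf 0) (.leaf 0)) (.node (.leaf 0) (.leaf 0)))) (.node (.node (.node (.leaf 0) (.leaf 0)) (.node (.leaf 0) (.leaf 0))) (.node (.node (.leaf 0) (.leaf 0)) (.node (.leaf 0) (.leaf 0))))) (.node (.node (.node (.node (.leaf 0) (.leaf 0)) (.node (.leaf 0) (.leaf 0))) (.node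 (.node (.leaf 0) (.leaf 0)) (.node (.leaf 0) (.leaf 0)))) (.node (.node (.node (.leaf 0) (.leaf 0)) (.node (.leaf 0) (.leaf 0))) (.node (.node (.leaf 0) (.leaf 0)) (.node (.leaf 0) (.leaf 0)))))))

/-- A point of the block, part 939. -/
def ptCodePart939 : Janko1.Tree ℕ := (.node (.node (.node (.node (.node (.node (.leaf 0) (.leaf 0)) (.node (.leaf 0) (.leaf 0))) (.node (.node (.leaf 0) (.leaf 0)) (.node (.leaf 0) (.leaf 0)))) (.node (.node (.node (.leaf 0) (.leaf 0)) (.node (.leaf 0) (.leaf 0))) (.node (.node (.leaf 0) (.leaf 0)) (.node (.leaf 0) (.leaf 0))))) (.node (.node (.node (.node (.leaf 0) (.leaf 0)) (.node (.leaf 0) (.leaf 0))) (.node (.node (.leaf 0) (.leaf 0)) (.node (.leaf 0) (.leaf 0)))) (.node (.node (.node (.leaf 0) (.leaf 0)) (.node (.leaf 0) (.leaf 0))) (.node (.node (.leaf 0) (.leaf 0)) (.node (.leaf 0) (.leaf 0)))))) (.node (.node (.node (.node (.node (.leaf 0) (.leaf 0)) (.node (.leaf 0) (.leaf 0))) (.node (.node (.leaf 0) (.leaf 0)) (.node (.leaf 0) (.leaf 0)))) (.node (.node (.node (.leaf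 0) (.leaf 0)) (.node (.leaf 0) (.leaf 0))) (.node (.node (.leaf 0) (.leaf 0)) (.node (.leaf 0) (.leaf 0))))) (.node (.node (.node (.node (.leaf 0) (.leaf 0)) (.node (.leaf 0) (.leaf 0))) (.node (.node (.leaf 0) (.leaf 0)) (.node (.leaf 0) (.leaf 0)))) (.node (.node (.node (.leaf 0) (.leaf 0)) (.node (.leaf 0) (.leaf 0))) (.node (.node (.leaf 0) (.leaf 0)) (.node (.leaf 0) (.leaf 0)))))))

/-- A point of the block, part 940. -/
def ptCodePart940 : Janko1.Tree ℕ := (.node (.node (.node (.node (.node (.node (.leaf 0) (.leaf 0)) (.node (.leaf 0) (.leaf 0))) (.node (.node (.leaf 0) (.leaf 0)) (.node (.leaf 0) (.leaf 0)))) (.node (.node (.node (.leaf 0) (.leaf 0)) (.node (.leaf 0) (.leaf 0))) (.node (.node (.leaf 0) (.leaf 0)) (.node (.leaf 0) (.leaf 0))))) (.node (.node (.node (.node (.leaf 0) (.leaf 0)) (.node (.leaf 0) (.leaf 0))) (.node (.node (.leaf 0) (.leaf 0)) (.node (.leaf 0) (.leaf 0)))) (.node (.node (.node (.leaf 0) (.leaf 0)) (.node (.leaf 0) (.leaf 0))) (.node (.node (.leaf 0) (.leaf 0)) (.node (.leaf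 0) (.leaf 0)))))) (.node (.node (.node (.node (.node (.leaf 0) (.leaf 0)) (.node (.leaf 0) (.leaf 0))) (.node (.node (.leaf 0) (.leaf 0)) (.node (.leaf 0) (.leaf 0)))) (.node (.node (.node (.leaf 0) (.leaf 0)) (.node (.leaf 0) (.leaf 0))) (.node (.node (.leaf 0) (.leaf 0)) (.node (.leaf 0) (.leaf 0))))) (.node (.node (.node (.node (.leaf 0) (.leaf 0)) (.node (.leaf 0) (.leaf 0))) (.node (.node (.leaf 0) (.leaf 0)) (.node (.leaf 0) (.leaf 0)))) (.node (.node (.node (.leaf 0) (.leaf 0)) (.node (.leaf 0) (.leaf 0))) (.node (.node (.leaf 0) (.leaf 0)) (.node (.leaf 0) (.leaf 0)))))))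

/-- A point of the block, part 941. -/
def ptCodePart941 : Janko1.Tree ℕ := (.node (.node (.node (.node (.node (.node (.leaf 0) (.leaf 0)) (.node (.leaf 0) (.leaf 0))) (.node (.node (.leaf 0) (.leaf 0)) (.node (.leaf 0) (.leaf 0)))) (.node (.node (.node (.leaf 0) (.leaf 0)) (.node (.leaf 0) (.leaf 0))) (.node (.node (.leaf 0) (.leaf 0)) (.node (.leaf 0) (.leaf 0))))) (.node (.node (.node (.node (.leaf 0) (.leaf 0)) (.node (.leaf 0) (.leaf 0))) (.node (.node (.leaf 0) (.leaf 0)) (.node (.leaf 0) (.leaf 0)))) (.node (.node (.node (.leaf 0) (.leaf 0)) (.node (.leaf 0) (.leaf 0))) (.node (.node (.leaf 0) (.leaf 0)) (.node (.leaf 0) (.leaf 0)))))) (.node (.node (.node (.node (.node (.leaf 0) (.leaf 0)) (.node (.leaf 0) (.leaf 0))) (.node (.node (.leaf 0) (.leaf 0)) (.node (.leaf 0) (.leaf 0)))) (.node (.node (.node (.leaf 0) (.leaf 0)) (.node (.leaf 0) (.leaf 0))) (.node (.node (.leaf 0) (.leaf 0)) (.node (.leaf 0) (.leaf 0))))) (.node (.node (.node (.node (.leaf 0) (.leaf 0)) (.node (.leaf 0) (.leaf 0))) (.node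 (.node (.leaf 0) (.leaf 0)) (.node (.leaf 0) (.leaf 0)))) (.node (.node (.node (.leaf 0) (.leaf 0)) (.node (.leaf 0) (.leaf 0))) (.node (.node (.leaf 0) (.leaf 0)) (.node (.leaf 0) (.leaf 0)))))))

/-- A point of the block, part 942. -/
def ptCodePart942 : Janko1.Tree ℕ := (.node (.node (.node (.node (.node (.node (.leaf 0) (.leaf 0)) (.node (.leaf 0) (.leaf 0))) (.node (.node (.leaf 0) (.leaf 0)) (.node (.leaf 0) (.leaf 0)))) (.node (.node (.node (.leaf 0) (.leaf 0)) (.node (.leaf 0) (.leaf 0))) (.node (.node (.leaf 0) (.leaf 0)) (.node (.leaf 0) (.leaf 0))))) (.node (.node (.node (.node (.leaf 0) (.leaf 0)) (.node (.leaf 0) (.leaf 0))) (.node (.node (.leaf 0) (.leaf 0)) (.node (.leaf 0) (.leaf 0)))) (.node (.node (.node (.leaf 0) (.leaf 0)) (.node (.leaf 0) (.leaf 0))) (.node (.node (.leaf 0) (.leaf 0)) (.node (.leaf 0) (.leaf 0)))))) (.node (.node (.node (.node (.node (.leaf 0) (.leaf 0)) (.node (.leaf 0) (.leaf 0))) (.node (.node (.leaf 0) (.leaf 0)) (.node (.leaf 0) (.leaf 0)))) (.node (.node (.node (.leaf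 0) (.leaf 0)) (.node (.leaf 0) (.leaf 0))) (.node (.node (.leaf 0) (.leaf 0)) (.node (.leaf 0) (.leaf 0))))) (.node (.node (.node (.node (.leaf 0) (.leaf 0)) (.node (.leaf 0) (.leaf 0))) (.node (.node (.leaf 0) (.leaf 0)) (.node (.leaf 0) (.leaf 0)))) (.node (.node (.node (.leaf 0) (.leaf 0)) (.node (.leaf 0) (.leaf 0))) (.node (.node (.leaf 0) (.leaf 0)) (.node (.leaf 0) (.leaf 0)))))))

/-- A point of the block, part 943. -/
def ptCodePart943 : Janko1.Tree ℕ := (.node (.node (.node (.node (.node (.node (.leaf 0) (.leaf 0)) (.node (.leaf 0) (.leaf 0))) (.node (.node (.leaf 0) (.leaf 0)) (.node (.leaf 0) (.leaf 0)))) (.node (.node (.node (.leaf 0) (.leaf 0)) (.node (.leaf 0) (.leaf 0))) (.node (.node (.leaf 0) (.leaf 0)) (.node (.leaf 0) (.leaf 0))))) (.node (.node (.node (.node (.leaf 0) (.leaf 0)) (.node (.leaf 0) (.leaf 0))) (.node (.node (.leaf 0) (.leaf 0)) (.node (.leaf 0) (.leaf 0)))) (.node (.node (.node (.leaf 0) (.leaf 0)) (.node (.leaf 0) (.leaf 0))) (.node (.node (.leaf 0) (.leaf 0)) (.node (.leaf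 0) (.leaf 0)))))) (.node (.node (.node (.node (.node (.leaf 0) (.leaf 0)) (.node (.leaf 0) (.leaf 0))) (.node (.node (.leaf 0) (.leaf 0)) (.node (.leaf 0) (.leaf 0)))) (.node (.node (.node (.leaf 0) (.leaf 0)) (.node (.leaf 0) (.leaf 0))) (.node (.node (.leaf 0) (.leaf 0)) (.node (.leaf 0) (.leaf 0))))) (.node (.node (.node (.node (.leaf 0) (.leaf 0)) (.node (.leaf 0) (.leaf 0))) (.node (.node (.leaf 0) (.leaf 0)) (.node (.leaf 0) (.leaf 0)))) (.node (.node (.node (.leaf 0) (.leaf 0)) (.node (.leaf 0) (.leaf 0))) (.node (.node (.leaf 0) (.leaf 0)) (.node (.leaf 0) (.leaf 0)))))))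

/-- A point of the block, part 944. -/
def ptCodePart944 : Janko1.Tree ℕ := (.node (.node (.node (.node (.node (.node (.leaf 0) (.leaf 0)) (.node (.leaf 0) (.leaf 0))) (.node (.node (.leaf 0) (.leaf 0)) (.node (.leaf 0) (.leaf 0)))) (.node (.node (.node (.leaf 0) (.leaf 0)) (.node (.leaf 0) (.leaf 0))) (.node (.node (.leaf 0) (.leaf 0)) (.node (.leaf 0) (.leaf 0))))) (.node (.node (.node (.node (.leaf 0) (.leaf 0)) (.node (.leaf 0) (.leaf 0))) (.node (.node (.leaf 0) (.leaf 0)) (.node (.leaf 0) (.leaf 0)))) (.node (.node (.node (.leaf 0) (.leaf 0)) (.node (.leaf 0) (.leaf 0))) (.node (.node (.leaf 0) (.leaf 0)) (.node (.leaf 0) (.leaf 0)))))) (.node (.node (.node (.node (.node (.leaf 0) (.leaf 0)) (.node (.leaf 0) (.leaf 0))) (.node (.node (.leaf 0) (.leaf 0)) (.node (.leaf 0) (.leaf 0)))) (.node (.node (.node (.leaf 0) (.leaf 0)) (.node (.leaf 0) (.leaf 0))) (.node (.node (.leaf 0) (.leaf 0)) (.node (.leaf 0) (.leaf 0))))) (.node (.node (.node (.node (.leaf 0) (.leaf 0)) (.node (.leaf 0) (.leaf 0))) (.node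 (.node (.leaf 0) (.leaf 0)) (.node (.leaf 0) (.leaf 0)))) (.node (.node (.node (.leaf 0) (.leaf 0)) (.node (.leaf 0) (.leaf 0))) (.node (.node (.leaf 0) (.leaf 0)) (.node (.leaf 0) (.leaf 0)))))))

/-- A point of the block, part 945. -/
def ptCodePart945 : Janko1.Tree ℕ := (.node (.node (.node (.node (.node (.node (.leaf 0) (.leaf 0)) (.node (.leaf 0) (.leaf 0))) (.node (.node (.leaf 0) (.leaf 0)) (.node (.leaf 0) (.leaf 0)))) (.node (.node (.node (.leaf 0) (.leaf 0)) (.node (.leaf 0) (.leaf 0))) (.node (.node (.leaf 0) (.leaf 0)) (.node (.leaf 0) (.leaf 0))))) (.node (.node (.node (.node (.leaf 0) (.leaf 0)) (.node (.leaf 0) (.leaf 0))) (.node (.node (.leaf 0) (.leaf 0)) (.node (.leaf 0) (.leaf 0)))) (.node (.node (.node (.leaf 0) (.leaf 0)) (.node (.leaf 0) (.leaf 0))) (.node (.node (.leaf 0) (.leaf 0)) (.node (.leaf 0) (.leaf 0)))))) (.node (.node (.node (.node (.node (.leaf 0) (.leaf 0)) (.node (.leaf 0) (.leaf 0))) (.node (.node (.leaf 0) (.leaf 0)) (.node (.leaf 0) (.leaf 0)))) (.node (.node (.node (.leaf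 0) (.leaf 0)) (.node (.leaf 0) (.leaf 0))) (.node (.node (.leaf 0) (.leaf 0)) (.node (.leaf 0) (.leaf 0))))) (.node (.node (.node (.node (.leaf 0) (.leaf 0)) (.node (.leaf 0) (.leaf 0))) (.node (.node (.leaf 0) (.leaf 0)) (.node (.leaf 0) (.leaf 0)))) (.node (.node (.node (.leaf 0) (.leaf 0)) (.node (.leaf 0) (.leaf 0))) (.node (.node (.leaf 0) (.leaf 0)) (.node (.leaf 0) (.leaf 0)))))))

/-- A point of the block, part 946. -/
def ptCodePart946 : Janko1.Tree ℕ := (.node (.node (.node (.node (.node (.node (.leaf 0) (.leaf 0)) (.node (.leaf 0) (.leaf 0))) (.node (.node (.leaf 0) (.leaf 0)) (.node (.leaf 0) (.leaf 0)))) (.node (.node (.node (.leaf 0) (.leaf 0)) (.node (.leaf 0) (.leaf 0))) (.node (.node (.leaf 0) (.leaf 0)) (.node (.leaf 0) (.leaf 0))))) (.node (.node (.node (.node (.leaf 0) (.leaf 0)) (.node (.leaf 0) (.leaf 0))) (.node (.node (.leaf 0) (.leaf 0)) (.node (.leaf 0) (.leaf 0)))) (.node (.node (.node (.leaf 0) (.leaf 0)) (.node (.leaf 0) (.leaf 0))) (.node (.node (.leaf 0) (.leaf 0)) (.node (.leaf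 0) (.leaf 0)))))) (.node (.node (.node (.node (.node (.leaf 0) (.leaf 0)) (.node (.leaf 0) (.leaf 0))) (.node (.node (.leaf 0) (.leaf 0)) (.node (.leaf 0) (.leaf 0)))) (.node (.node (.node (.leaf 0) (.leaf 0)) (.node (.leaf 0) (.leaf 0))) (.node (.node (.leaf 0) (.leaf 0)) (.node (.leaf 0) (.leaf 0))))) (.node (.node (.node (.node (.leaf 0) (.leaf 0)) (.node (.leaf 0) (.leaf 0))) (.node (.node (.leaf 0) (.leaf 0)) (.node (.leaf 0) (.leaf 0)))) (.node (.node (.node (.leaf 0) (.leaf 0)) (.node (.leaf 0) (.leaf 0))) (.node (.node (.leaf 0) (.leaf 0)) (.node (.leaf 0) (.leaf 0)))))))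

/-- A point of the block, part 947. -/
def ptCodePart947 : Janko1.Tree ℕ := (.node (.node (.node (.node (.node (.node (.leaf 0) (.leaf 0)) (.node (.leaf 0) (.leaf 0))) (.node (.node (.leaf 0) (.leaf 0)) (.node (.leaf 0) (.leaf 0)))) (.node (.node (.node (.leaf 0) (.leaf 0)) (.node (.leaf 0) (.leaf 0))) (.node (.node (.leaf 0) (.leaf 0)) (.node (.leaf 0) (.leaf 0))))) (.node (.node (.node (.node (.leaf 0) (.leaf 0)) (.node (.leaf 0) (.leaf 0))) (.node (.node (.leaf 0) (.leaf 0)) (.node (.leaf 0) (.leaf 0)))) (.node (.node (.node (.leaf 0) (.leaf 0)) (.node (.leaf 0) (.leaf 0))) (.node (.node (.leaf 0) (.leaf 0)) (.node (.leaf 0) (.leaf 0)))))) (.node (.node (.node (.node (.node (.leaf 0) (.leaf 0)) (.node (.leaf 0) (.leaf 0))) (.node (.node (.leaf 0) (.leaf 0)) (.node (.leaf 0) (.leaf 0)))) (.node (.node (.node (.leaf 0) (.leaf 0)) (.node (.leaf 0) (.leaf 0))) (.node (.node (.leaf 0) (.leaf 0)) (.node (.leaf 0) (.leaf 0))))) (.node (.node (.node (.node (.leaf 0) (.leaf 0)) (.node (.leaf 0) (.leaf 0))) (.node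 (.node (.leaf 0) (.leaf 0)) (.node (.leaf 0) (.leaf 0)))) (.node (.node (.node (.leaf 0) (.leaf 0)) (.node (.leaf 0) (.leaf 0))) (.node (.node (.leaf 0) (.leaf 0)) (.node (.leaf 0) (.leaf 0)))))))

/-- A point of the block, part 948. -/
def ptCodePart948 : Janko1.Tree ℕ := (.node (.node (.node (.node (.node (.node (.leaf 0) (.leaf 0)) (.node (.leaf 0) (.leaf 0))) (.node (.node (.leaf 0) (.leaf 0)) (.node (.leaf 0) (.leaf 0)))) (.node (.node (.node (.leaf 0) (.leaf 0)) (.node (.leaf 0) (.leaf 0))) (.node (.node (.leaf 0) (.leaf 0)) (.node (.leaf 0) (.leaf 0))))) (.node (.node (.node (.node (.leaf 0) (.leaf 0)) (.node (.leaf 0) (.leaf 0))) (.node (.node (.leaf 0) (.leaf 0)) (.node (.leaf 0) (.leaf 0)))) (.node (.node (.node (.leaf 0) (.leaf 0)) (.node (.leaf 0) (.leaf 0))) (.node (.node (.leaf 0) (.leaf 0)) (.node (.leaf 0) (.leaf 0)))))) (.node (.node (.node (.node (.node (.leaf 0) (.leaf 0)) (.node (.leaf 0) (.leaf 0))) (.node (.node (.leaf 0) (.leaf 0)) (.node (.leaf 0) (.leaf 0)))) (.node (.node (.node (.leaf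 0) (.leaf 0)) (.node (.leaf 0) (.leaf 0))) (.node (.node (.leaf 0) (.leaf 0)) (.node (.leaf 0) (.leaf 0))))) (.node (.node (.node (.node (.leaf 0) (.leaf 0)) (.node (.leaf 0) (.leaf 0))) (.node (.node (.leaf 0) (.leaf 0)) (.node (.leaf 0) (.leaf 0)))) (.node (.node (.node (.leaf 0) (.leaf 0)) (.node (.leaf 0) (.leaf 0))) (.node (.node (.leaf 0) (.leaf 0)) (.node (.leaf 0) (.leaf 0)))))))

/-- A point of the block, part 949. -/
def ptCodePart949 : Janko1.Tree ℕ := (.node (.node (.node (.node (.node (.node (.leaf 0) (.leaf 0)) (.node (.leaf 0) (.leaf 0))) (.node (.node (.leaf 0) (.leaf 0)) (.node (.leaf 0) (.leaf 0)))) (.node (.node (.node (.leaf 0) (.leaf 0)) (.node (.leaf 0) (.leaf 0))) (.node (.node (.leaf 0) (.leaf 0)) (.node (.leaf 0) (.leaf 0))))) (.node (.node (.node (.node (.leaf 0) (.leaf 0)) (.node (.leaf 0) (.leaf 0))) (.node (.node (.leaf 0) (.leaf 0)) (.node (.leaf 0) (.leaf 0)))) (.node (.node (.node (.leaf 0) (.leaf 0)) (.node (.leaf 0) (.leaf 0))) (.node (.node (.leaf 0) (.leaf 0)) (.node (.leaf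 0) (.leaf 0)))))) (.node (.node (.node (.node (.node (.leaf 0) (.leaf 0)) (.node (.leaf 0) (.leaf 0))) (.node (.node (.leaf 0) (.leaf 0)) (.node (.leaf 0) (.leaf 0)))) (.node (.node (.node (.leaf 0) (.leaf 0)) (.node (.leaf 0) (.leaf 0))) (.node (.node (.leaf 0) (.leaf 0)) (.node (.leaf 0) (.leaf 0))))) (.node (.node (.node (.node (.leaf 0) (.leaf 0)) (.node (.leaf 0) (.leaf 0))) (.node (.node (.leaf 0) (.leaf 0)) (.node (.leaf 0) (.leaf 0)))) (.node (.node (.node (.leaf 0) (.leaf 0)) (.node (.leaf 0) (.leaf 0))) (.node (.node (.leaf 0) (.leaf 0)) (.node (.leaf 0) (.leaf 0)))))))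

/-- A point of the block, part 950. -/
def ptCodePart950 : Janko1.Tree ℕ := (.node (.node (.node (.node (.node (.node (.leaf 0) (.leaf 0)) (.node (.leaf 0) (.leaf 0))) (.node (.node (.leaf 0) (.leaf 0)) (.node (.leaf 0) (.leaf 0)))) (.node (.node (.node (.leaf 0) (.leaf 0)) (.node (.leaf 0) (.leaf 0))) (.node (.node (.leaf 0) (.leaf 0)) (.node (.leaf 0) (.leaf 0))))) (.node (.node (.node (.node (.leaf 0) (.leaf 0)) (.node (.leaf 0) (.leaf 0))) (.node (.node (.leaf 0) (.leaf 0)) (.node (.leaf 0) (.leaf 0)))) (.node (.node (.node (.leaf 0) (.leaf 0)) (.node (.leaf 0) (.leaf 0))) (.node (.node (.leaf 0) (.leaf 0)) (.node (.leaf 0) (.leaf 0)))))) (.node (.node (.node (.node (.node (.leaf 0) (.leaf 0)) (.node (.leaf 0) (.leaf 0))) (.node (.node (.leaf 0) (.leaf 0)) (.node (.leaf 0) (.leaf 0)))) (.node (.node (.node (.leaf 0) (.leaf 0)) (.node (.leaf 0) (.leaf 0))) (.node (.node (.leaf 0) (.leaf 0)) (.node (.leaf 0) (.leaf 0))))) (.node (.node (.node (.node (.leaf 0) (.leaf 0)) (.node (.leaf 0) (.leaf 0))) (.node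 (.node (.leaf 0) (.leaf 0)) (.node (.leaf 0) (.leaf 0)))) (.node (.node (.node (.leaf 0) (.leaf 0)) (.node (.leaf 0) (.leaf 0))) (.node (.node (.leaf 0) (.leaf 0)) (.node (.leaf 0) (.leaf 0)))))))

/-- A point of the block, part 951. -/
def ptCodePart951 : Janko1.Tree ℕ := (.node (.node (.node (.node (.node (.node (.leaf 0) (.leaf 0)) (.node (.leaf 0) (.leaf 0))) (.node (.node (.leaf 0) (.leaf 0)) (.node (.leaf 0) (.leaf 0)))) (.node (.node (.node (.leaf 0) (.leaf 0)) (.node (.leaf 0) (.leaf 0))) (.node (.node (.leaf 0) (.leaf 0)) (.node (.leaf 0) (.leaf 0))))) (.node (.node (.node (.node (.leaf 0) (.leaf 0)) (.node (.leaf 0) (.leaf 0))) (.node (.node (.leaf 0) (.leaf 0)) (.node (.leaf 0) (.leaf 0)))) (.node (.node (.node (.leaf 0) (.leaf 0)) (.node (.leaf 0) (.leaf 0))) (.node (.node (.leaf 0) (.leaf 0)) (.node (.leaf 0) (.leaf 0)))))) (.node (.node (.node (.node (.node (.leaf 0) (.leaf 0)) (.node (.leaf 0) (.leaf 0))) (.node (.node (.leaf 0) (.leaf 0)) (.node (.leaf 0) (.leaf 0)))) (.node (.node (.node (.leaf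 0) (.leaf 0)) (.node (.leaf 0) (.leaf 0))) (.node (.node (.leaf 0) (.leaf 0)) (.node (.leaf 0) (.leaf 0))))) (.node (.node (.node (.node (.leaf 0) (.leaf 0)) (.node (.leaf 0) (.leaf 0))) (.node (.node (.leaf 0) (.leaf 0)) (.node (.leaf 0) (.leaf 0)))) (.node (.node (.node (.leaf 0) (.leaf 0)) (.node (.leaf 0) (.leaf 0))) (.node (.node (.leaf 0) (.leaf 0)) (.node (.leaf 0) (.leaf 0)))))))

/-- A point of the block, part 952. -/
def ptCodePart952 : Janko1.Tree ℕ := (.node (.node (.node (.node (.node (.node (.leaf 0) (.leaf 0)) (.node (.leaf 0) (.leaf 0))) (.node (.node (.leaf 0) (.leaf 0)) (.node (.leaf 0) (.leaf 0)))) (.node (.node (.node (.leaf 0) (.leaf 0)) (.node (.leaf 0) (.leaf 0))) (.node (.node (.leaf 0) (.leaf 0)) (.node (.leaf 0) (.leaf 0))))) (.node (.node (.node (.node (.leaf 0) (.leaf 0)) (.node (.leaf 0) (.leaf 0))) (.node (.node (.leaf 0) (.leaf 0)) (.node (.leaf 0) (.leaf 0)))) (.node (.node (.node (.leaf 0) (.leaf 0)) (.node (.leaf 0) (.leaf 0))) (.node (.node (.leaf 0) (.leaf 0)) (.node (.leaf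 0) (.leaf 0)))))) (.node (.node (.node (.node (.node (.leaf 0) (.leaf 0)) (.node (.leaf 0) (.leaf 0))) (.node (.node (.leaf 0) (.leaf 0)) (.node (.leaf 0) (.leaf 0)))) (.node (.node (.node (.leaf 0) (.leaf 0)) (.node (.leaf 0) (.leaf 0))) (.node (.node (.leaf 0) (.leaf 0)) (.node (.leaf 0) (.leaf 0))))) (.node (.node (.node (.node (.leaf 0) (.leaf 0)) (.node (.leaf 0) (.leaf 0))) (.node (.node (.leaf 0) (.leaf 0)) (.node (.leaf 0) (.leaf 0)))) (.node (.node (.node (.leaf 0) (.leaf 0)) (.node (.leaf 0) (.leaf 0))) (.node (.node (.leaf 0) (.leaf 0)) (.node (.leaf 0) (.leaf 0)))))))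

/-- A point of the block, part 953. -/
def ptCodePart953 : Janko1.Tree ℕ := (.node (.node (.node (.node (.node (.node (.leaf 0) (.leaf 0)) (.node (.leaf 0) (.leaf 0))) (.node (.node (.leaf 0) (.leaf 0)) (.node (.leaf 0) (.leaf 0)))) (.node (.node (.node (.leaf 0) (.leaf 0)) (.node (.leaf 0) (.leaf 0))) (.node (.node (.leaf 0) (.leaf 0)) (.node (.leaf 0) (.leaf 0))))) (.node (.node (.node (.node (.leaf 0) (.leaf 0)) (.node (.leaf 0) (.leaf 0))) (.node (.node (.leaf 0) (.leaf 0)) (.node (.leaf 0) (.leaf 0)))) (.node (.node (.node (.leaf 0) (.leaf 0)) (.node (.leaf 0) (.leaf 0))) (.node (.node (.leaf 0) (.leaf 0)) (.node (.leaf 0) (.leaf 0)))))) (.node (.node (.node (.node (.node (.leaf 0) (.leaf 0)) (.node (.leaf 0) (.leaf 0))) (.node (.node (.leaf 0) (.leaf 0)) (.node (.leaf 0) (.leaf 0)))) (.node (.node (.node (.leaf 0) (.leaf 0)) (.node (.leaf 0) (.leaf 0))) (.node (.node (.leaf 0) (.leaf 0)) (.node (.leaf 0) (.leaf 0))))) (.node (.node (.node (.node (.leaf 0) (.leaf 0)) (.node (.leaf 0) (.leaf 0))) (.node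 (.node (.leaf 0) (.leaf 0)) (.node (.leaf 0) (.leaf 0)))) (.node (.node (.node (.leaf 0) (.leaf 0)) (.node (.leaf 0) (.leaf 0))) (.node (.node (.leaf 0) (.leaf 0)) (.node (.leaf 0) (.leaf 0)))))))

/-- A point of the block, part 954. -/
def ptCodePart954 : Janko1.Tree ℕ := (.node (.node (.node (.node (.node (.node (.leaf 0) (.leaf 0)) (.node (.leaf 0) (.leaf 0))) (.node (.node (.leaf 0) (.leaf 0)) (.node (.leaf 0) (.leaf 0)))) (.node (.node (.node (.leaf 0) (.leaf 0)) (.node (.leaf 0) (.leaf 0))) (.node (.node (.leaf 0) (.leaf 0)) (.node (.leaf 0) (.leaf 0))))) (.node (.node (.node (.node (.leaf 0) (.leaf 0)) (.node (.leaf 0) (.leaf 0))) (.node (.node (.leaf 0) (.leaf 0)) (.node (.leaf 0) (.leaf 0)))) (.node (.node (.node (.leaf 0) (.leaf 0)) (.node (.leaf 0) (.leaf 0))) (.node (.node (.leaf 0) (.leaf 0)) (.node (.leaf 0) (.leaf 0)))))) (.node (.node (.node (.node (.node (.leaf 0) (.leaf 0)) (.node (.leaf 0) (.leaf 0))) (.node (.node (.leaf 0) (.leaf 0)) (.node (.leaf 0) (.leaf 0)))) (.node (.node (.node (.leaf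 0) (.leaf 0)) (.node (.leaf 0) (.leaf 0))) (.node (.node (.leaf 0) (.leaf 0)) (.node (.leaf 0) (.leaf 0))))) (.node (.node (.node (.node (.leaf 0) (.leaf 0)) (.node (.leaf 0) (.leaf 0))) (.node (.node (.leaf 0) (.leaf 0)) (.node (.leaf 0) (.leaf 0)))) (.node (.node (.node (.leaf 0) (.leaf 0)) (.node (.leaf 0) (.leaf 0))) (.node (.node (.leaf 0) (.leaf 0)) (.node (.leaf 0) (.leaf 0)))))))

/-- A point of the block, part 955. -/
def ptCodePart955 : Janko1.Tree ℕ := (.node (.node (.node (.node (.node (.node (.leaf 0) (.leaf 0)) (.node (.leaf 0) (.leaf 0))) (.node (.node (.leaf 0) (.leaf 0)) (.node (.leaf 0) (.leaf 0)))) (.node (.node (.node (.leaf 0) (.leaf 0)) (.node (.leaf 0) (.leaf 0))) (.node (.node (.leaf 0) (.leaf 0)) (.node (.leaf 0) (.leaf 0))))) (.node (.node (.node (.node (.leaf 0) (.leaf 0)) (.node (.leaf 0) (.leaf 0))) (.node (.node (.leaf 0) (.leaf 0)) (.node (.leaf 0) (.leaf 0)))) (.node (.node (.node (.leaf 0) (.leaf 0)) (.node (.leaf 0) (.leaf 0))) (.node (.node (.leaf 0) (.leaf 0)) (.node (.leaf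 0) (.leaf 0)))))) (.node (.node (.node (.node (.node (.leaf 0) (.leaf 0)) (.node (.leaf 0) (.leaf 0))) (.node (.node (.leaf 0) (.leaf 0)) (.node (.leaf 0) (.leaf 0)))) (.node (.node (.node (.leaf 0) (.leaf 0)) (.node (.leaf 0) (.leaf 0))) (.node (.node (.leaf 0) (.leaf 0)) (.node (.leaf 0) (.leaf 0))))) (.node (.node (.node (.node (.leaf 0) (.leaf 0)) (.node (.leaf 0) (.leaf 0))) (.node (.node (.leaf 0) (.leaf 0)) (.node (.leaf 0) (.leaf 0)))) (.node (.node (.node (.leaf 0) (.leaf 0)) (.node (.leaf 0) (.leaf 0))) (.node (.node (.leaf 0) (.leaf 0)) (.node (.leaf 0) (.leaf 0)))))))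

/-- A point of the block, part 956. -/
def ptCodePart956 : Janko1.Tree ℕ := (.node (.node (.node (.node (.node (.node (.leaf 0) (.leaf 0)) (.node (.leaf 0) (.leaf 0))) (.node (.node (.leaf 0) (.leaf 0)) (.node (.leaf 0) (.leaf 0)))) (.node (.node (.node (.leaf 0) (.leaf 0)) (.node (.leaf 0) (.leaf 0))) (.node (.node (.leaf 0) (.leaf 0)) (.node (.leaf 0) (.leaf 0))))) (.node (.node (.node (.node (.leaf 0) (.leaf 0)) (.node (.leaf 0) (.leaf 0))) (.node (.node (.leaf 0) (.leaf 0)) (.node (.leaf 0) (.leaf 0)))) (.node (.node (.node (.leaf 0) (.leaf 0)) (.node (.leaf 0) (.leaf 0))) (.node (.node (.leaf 0) (.leaf 0)) (.node (.leaf 0) (.leaf 0)))))) (.node (.node (.node (.node (.node (.leaf 0) (.leaf 0)) (.node (.leaf 0) (.leaf 0))) (.node (.node (.leaf 0) (.leaf 0)) (.node (.leaf 0) (.leaf 0)))) (.node (.node (.node (.leaf 0) (.leaf 0)) (.node (.leaf 0) (.leaf 0))) (.node (.node (.leaf 0) (.leaf 0)) (.node (.leaf 0) (.leaf 0))))) (.node (.node (.node (.node (.leaf 0) (.leaf 0)) (.node (.leaf 0) (.leaf 0))) (.node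 (.node (.leaf 0) (.leaf 0)) (.node (.leaf 0) (.leaf 0)))) (.node (.node (.node (.leaf 0) (.leaf 0)) (.node (.leaf 0) (.leaf 0))) (.node (.node (.leaf 0) (.leaf 0)) (.node (.leaf 0) (.leaf 0)))))))

/-- A point of the block, part 957. -/
def ptCodePart957 : Janko1.Tree ℕ := (.node (.node (.node (.node (.node (.node (.leaf 0) (.leaf 0)) (.node (.leaf 0) (.leaf 0))) (.node (.node (.leaf 0) (.leaf 0)) (.node (.leaf 0) (.leaf 0)))) (.node (.node (.node (.leaf 0) (.leaf 0)) (.node (.leaf 0) (.leaf 0))) (.node (.node (.leaf 0) (.leaf 0)) (.node (.leaf 0) (.leaf 0))))) (.node (.node (.node (.node (.leaf 0) (.leaf 0)) (.node (.leaf 0) (.leaf 0))) (.node (.node (.leaf 0) (.leaf 0)) (.node (.leaf 0) (.leaf 0)))) (.node (.node (.node (.leaf 0) (.leaf 0)) (.node (.leaf 0) (.leaf 0))) (.node (.node (.leaf 0) (.leaf 0)) (.node (.leaf 0) (.leaf 0)))))) (.node (.node (.node (.node (.node (.leaf 0) (.leaf 0)) (.node (.leaf 0) (.leaf 0))) (.node (.node (.leaf 0) (.leaf 0)) (.node (.leaf 0) (.leaf 0)))) (.node (.node (.node (.leaf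 0) (.leaf 0)) (.node (.leaf 0) (.leaf 0))) (.node (.node (.leaf 0) (.leaf 0)) (.node (.leaf 0) (.leaf 0))))) (.node (.node (.node (.node (.leaf 0) (.leaf 0)) (.node (.leaf 0) (.leaf 0))) (.node (.node (.leaf 0) (.leaf 0)) (.node (.leaf 0) (.leaf 0)))) (.node (.node (.node (.leaf 0) (.leaf 0)) (.node (.leaf 0) (.leaf 0))) (.node (.node (.leaf 0) (.leaf 0)) (.node (.leaf 0) (.leaf 0)))))))

/-- A point of the block, part 958. -/
def ptCodePart958 : Janko1.Tree ℕ := (.node (.node (.node (.node (.node (.node (.leaf 0) (.leaf 0)) (.node (.leaf 0) (.leaf 0))) (.node (.node (.leaf 0) (.leaf 0)) (.node (.leaf 0) (.leaf 0)))) (.node (.node (.node (.leaf 0) (.leaf 0)) (.node (.leaf 0) (.leaf 0))) (.node (.node (.leaf 0) (.leaf 0)) (.node (.leaf 0) (.leaf 0))))) (.node (.node (.node (.node (.leaf 0) (.leaf 0)) (.node (.leaf 0) (.leaf 0))) (.node (.node (.leaf 0) (.leaf 0)) (.node (.leaf 0) (.leaf 0)))) (.node (.node (.node (.leaf 0) (.leaf 0)) (.node (.leaf 0) (.leaf 0))) (.node (.node (.leaf 0) (.leaf 0)) (.node (.leaf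 0) (.leaf 0)))))) (.node (.node (.node (.node (.node (.leaf 0) (.leaf 0)) (.node (.leaf 0) (.leaf 0))) (.node (.node (.leaf 0) (.leaf 0)) (.node (.leaf 0) (.leaf 0)))) (.node (.node (.node (.leaf 0) (.leaf 0)) (.node (.leaf 0) (.leaf 0))) (.node (.node (.leaf 0) (.leaf 0)) (.node (.leaf 0) (.leaf 0))))) (.node (.node (.node (.node (.leaf 0) (.leaf 0)) (.node (.leaf 0) (.leaf 0))) (.node (.node (.leaf 0) (.leaf 0)) (.node (.leaf 0) (.leaf 0)))) (.node (.node (.node (.leaf 0) (.leaf 0)) (.node (.leaf 0) (.leaf 0))) (.node (.node (.leaf 0) (.leaf 0)) (.node (.leaf 0) (.leaf 0)))))))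

/-- A point of the block, part 959. -/
def ptCodePart959 : Janko1.Tree ℕ := (.node (.node (.node (.node (.node (.node (.leaf 0) (.leaf 0)) (.node (.leaf 0) (.leaf 0))) (.node (.node (.leaf 0) (.leaf 0)) (.node (.leaf 0) (.leaf 0)))) (.node (.node (.node (.leaf 0) (.leaf 0)) (.node (.leaf 0) (.leaf 0))) (.node (.node (.leaf 0) (.leaf 0)) (.node (.leaf 0) (.leaf 0))))) (.node (.node (.node (.node (.leaf 0) (.leaf 0)) (.node (.leaf 0) (.leaf 0))) (.node (.node (.leaf 0) (.leaf 0)) (.node (.leaf 0) (.leaf 0)))) (.node (.node (.node (.leaf 0) (.leaf 0)) (.node (.leaf 0) (.leaf 0))) (.node (.node (.leaf 0) (.leaf 0)) (.node (.leaf 0) (.leaf 0)))))) (.node (.node (.node (.node (.node (.leaf 0) (.leaf 0)) (.node (.leaf 0) (.leaf 0))) (.node (.node (.leaf 0) (.leaf 0)) (.node (.leaf 0) (.leaf 0)))) (.node (.node (.node (.leaf 0) (.leaf 0)) (.node (.leaf 0) (.leaf 0))) (.node (.node (.leaf 0) (.leaf 0)) (.node (.leaf 0) (.leaf 0))))) (.node (.node (.node (.node (.leaf 0) (.leaf 0)) (.node (.leaf 0) (.leaf 0))) (.node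 (.node (.leaf 0) (.leaf 0)) (.node (.leaf 0) (.leaf 0)))) (.node (.node (.node (.leaf 0) (.leaf 0)) (.node (.leaf 0) (.leaf 0))) (.node (.node (.leaf 0) (.leaf 0)) (.node (.leaf 0) (.leaf 0)))))))

/-- A point of the block, part 960. -/
def ptCodePart960 : Janko1.Tree ℕ := (.node (.node (.node (.node (.node (.node (.leaf 0) (.leaf 0)) (.node (.leaf 0) (.leaf 0))) (.node (.node (.leaf 0) (.leaf 0)) (.node (.leaf 0) (.leaf 0)))) (.node (.node (.node (.leaf 0) (.leaf 0)) (.node (.leaf 0) (.leaf 0))) (.node (.node (.leaf 0) (.leaf 0)) (.node (.leaf 0) (.leaf 0))))) (.node (.node (.node (.node (.leaf 0) (.leaf 0)) (.node (.leaf 0) (.leaf 0))) (.node (.node (.leaf 0) (.leaf 0)) (.node (.leaf 0) (.leaf 0)))) (.node (.node (.node (.leaf 0) (.leaf 0)) (.node (.leaf 0) (.leaf 0))) (.node (.node (.leaf 0) (.leaf 0)) (.node (.leaf 0) (.leaf 0)))))) (.node (.node (.node (.node (.node (.leaf 0) (.leaf 0)) (.node (.leaf 0) (.leaf 0))) (.node (.node (.leaf 0) (.leaf 0)) (.node (.leaf 0) (.leaf 0)))) (.node (.node (.node (.leaf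 0) (.leaf 0)) (.node (.leaf 0) (.leaf 0))) (.node (.node (.leaf 0) (.leaf 0)) (.node (.leaf 0) (.leaf 0))))) (.node (.node (.node (.node (.leaf 0) (.leaf 0)) (.node (.leaf 0) (.leaf 0))) (.node (.node (.leaf 0) (.leaf 0)) (.node (.leaf 0) (.leaf 0)))) (.node (.node (.node (.leaf 0) (.leaf 0)) (.node (.leaf 0) (.leaf 0))) (.node (.node (.leaf 0) (.leaf 0)) (.node (.leaf 0) (.leaf 0)))))))

/-- A point of the block, part 961. -/
def ptCodePart961 : Janko1.Tree ℕ := (.node (.node (.node (.node (.node (.node (.leaf 0) (.leaf 0)) (.node (.leaf 0) (.leaf 0))) (.node (.node (.leaf 0) (.leaf 0)) (.node (.leaf 0) (.leaf 0)))) (.node (.node (.node (.leaf 0) (.leaf 0)) (.node (.leaf 0) (.leaf 0))) (.node (.node (.leaf 0) (.leaf 0)) (.node (.leaf 0) (.leaf 0))))) (.node (.node (.node (.node (.leaf 0) (.leaf 0)) (.node (.leaf 0) (.leaf 0))) (.node (.node (.leaf 0) (.leaf 0)) (.node (.leaf 0) (.leaf 0)))) (.node (.node (.node (.leaf 0) (.leaf 0)) (.node (.leaf 0) (.leaf 0))) (.node (.node (.leaf 0) (.leaf 0)) (.node (.leaf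 0) (.leaf 0)))))) (.node (.node (.node (.node (.node (.leaf 0) (.leaf 0)) (.node (.leaf 0) (.leaf 0))) (.node (.node (.leaf 0) (.leaf 0)) (.node (.leaf 0) (.leaf 0)))) (.node (.node (.node (.leaf 0) (.leaf 0)) (.node (.leaf 0) (.leaf 0))) (.node (.node (.leaf 0) (.leaf 0)) (.node (.leaf 0) (.leaf 0))))) (.node (.node (.node (.node (.leaf 0) (.leaf 0)) (.node (.leaf 0) (.leaf 0))) (.node (.node (.leaf 0) (.leaf 0)) (.node (.leaf 0) (.leaf 0)))) (.node (.node (.node (.leaf 0) (.leaf 0)) (.node (.leaf 0) (.leaf 0))) (.node (.node (.leaf 0) (.leaf 0)) (.node (.leaf 0) (.leaf 0)))))))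

/-- A point of the block, part 962. -/
def ptCodePart962 : Janko1.Tree ℕ := (.node (.node (.node (.node (.node (.node (.leaf 0) (.leaf 0)) (.node (.leaf 0) (.leaf 0))) (.node (.node (.leaf 0) (.leaf 0)) (.node (.leaf 0) (.leaf 0)))) (.node (.node (.node (.leaf 0) (.leaf 0)) (.node (.leaf 0) (.leaf 0))) (.node (.node (.leaf 0) (.leaf 0)) (.node (.leaf 0) (.leaf 0))))) (.node (.node (.node (.node (.leaf 0) (.leaf 0)) (.node (.leaf 0) (.leaf 0))) (.node (.node (.leaf 0) (.leaf 0)) (.node (.leaf 0) (.leaf 0)))) (.node (.node (.node (.leaf 0) (.leaf 0)) (.node (.leaf 0) (.leaf 0))) (.node (.node (.leaf 0) (.leaf 0)) (.node (.leaf 0) (.leaf 0)))))) (.node (.node (.node (.node (.node (.leaf 0) (.leaf 0)) (.node (.leaf 0) (.leaf 0))) (.node (.node (.leaf 0) (.leaf 0)) (.node (.leaf 0) (.leaf 0)))) (.node (.node (.node (.leaf 0) (.leaf 0)) (.node (.leaf 0) (.leaf 0))) (.node (.node (.leaf 0) (.leaf 0)) (.node (.leaf 0) (.leaf 0))))) (.node (.node (.node (.node (.leaf 0) (.leaf 0)) (.node (.leaf 0) (.leaf 0))) (.node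 (.node (.leaf 0) (.leaf 0)) (.node (.leaf 0) (.leaf 0)))) (.node (.node (.node (.leaf 0) (.leaf 0)) (.node (.leaf 0) (.leaf 0))) (.node (.node (.leaf 0) (.leaf 0)) (.node (.leaf 0) (.leaf 0)))))))

/-- A point of the block, part 963. -/
def ptCodePart963 : Janko1.Tree ℕ := (.node (.node (.node (.node (.node (.node (.leaf 0) (.leaf 0)) (.node (.leaf 0) (.leaf 0))) (.node (.node (.leaf 0) (.leaf 0)) (.node (.leaf 0) (.leaf 0)))) (.node (.node (.node (.leaf 0) (.leaf 0)) (.node (.leaf 0) (.leaf 0))) (.node (.node (.leaf 0) (.leaf 0)) (.node (.leaf 0) (.leaf 0))))) (.node (.node (.node (.node (.leaf 0) (.leaf 0)) (.node (.leaf 0) (.leaf 0))) (.node (.node (.leaf 0) (.leaf 0)) (.node (.leaf 0) (.leaf 0)))) (.node (.node (.node (.leaf 0) (.leaf 0)) (.node (.leaf 0) (.leaf 0))) (.node (.node (.leaf 0) (.leaf 0)) (.node (.leaf 0) (.leaf 0)))))) (.node (.node (.node (.node (.node (.leaf 0) (.leaf 0)) (.node (.leaf 0) (.leaf 0))) (.node (.node (.leaf 0) (.leaf 0)) (.node (.leaf 0) (.leaf 0)))) (.node (.node (.node (.leaf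 0) (.leaf 0)) (.node (.leaf 0) (.leaf 0))) (.node (.node (.leaf 0) (.leaf 0)) (.node (.leaf 0) (.leaf 0))))) (.node (.node (.node (.node (.leaf 0) (.leaf 0)) (.node (.leaf 0) (.leaf 0))) (.node (.node (.leaf 0) (.leaf 0)) (.node (.leaf 0) (.leaf 0)))) (.node (.node (.node (.leaf 0) (.leaf 0)) (.node (.leaf 0) (.leaf 0))) (.node (.node (.leaf 0) (.leaf 0)) (.node (.leaf 0) (.leaf 0)))))))

/-- A point of the block, part 964. -/
def ptCodePart964 : Janko1.Tree ℕ := (.node (.node (.node (.node (.node (.node (.leaf 0) (.leaf 0)) (.node (.leaf 0) (.leaf 0))) (.node (.node (.leaf 0) (.leaf 0)) (.node (.leaf 0) (.leaf 0)))) (.node (.node (.node (.leaf 0) (.leaf 0)) (.node (.leaf 0) (.leaf 0))) (.node (.node (.leaf 0) (.leaf 0)) (.node (.leaf 0) (.leaf 0))))) (.node (.node (.node (.node (.leaf 0) (.leaf 0)) (.node (.leaf 0) (.leaf 0))) (.node (.node (.leaf 0) (.leaf 0)) (.node (.leaf 0) (.leaf 0)))) (.node (.node (.node (.leaf 0) (.leaf 0)) (.node (.leaf 0) (.leaf 0))) (.node (.node (.leaf 0) (.leaf 0)) (.node (.leaf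 0) (.leaf 0)))))) (.node (.node (.node (.node (.node (.leaf 0) (.leaf 0)) (.node (.leaf 0) (.leaf 0))) (.node (.node (.leaf 0) (.leaf 0)) (.node (.leaf 0) (.leaf 0)))) (.node (.node (.node (.leaf 0) (.leaf 0)) (.node (.leaf 0) (.leaf 0))) (.node (.node (.leaf 0) (.leaf 0)) (.node (.leaf 0) (.leaf 0))))) (.node (.node (.node (.node (.leaf 0) (.leaf 0)) (.node (.leaf 0) (.leaf 0))) (.node (.node (.leaf 0) (.leaf 0)) (.node (.leaf 0) (.leaf 0)))) (.node (.node (.node (.leaf 0) (.leaf 0)) (.node (.leaf 0) (.leaf 0))) (.node (.node (.leaf 0) (.leaf 0)) (.node (.leaf 0) (.leaf 0)))))))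

/-- A point of the block, part 965. -/
def ptCodePart965 : Janko1.Tree ℕ := (.node (.node (.node (.node (.node (.node (.leaf 0) (.leaf 0)) (.node (.leaf 0) (.leaf 0))) (.node (.node (.leaf 0) (.leaf 0)) (.node (.leaf 0) (.leaf 0)))) (.node (.node (.node (.leaf 0) (.leaf 0)) (.node (.leaf 0) (.leaf 0))) (.node (.node (.leaf 0) (.leaf 0)) (.node (.leaf 0) (.leaf 0))))) (.node (.node (.node (.node (.leaf 0) (.leaf 0)) (.node (.leaf 0) (.leaf 0))) (.node (.node (.leaf 0) (.leaf 0)) (.node (.leaf 0) (.leaf 0)))) (.node (.node (.node (.leaf 0) (.leaf 0)) (.node (.leaf 0) (.leaf 0))) (.node (.node (.leaf 0) (.leaf 0)) (.node (.leaf 0) (.leaf 0)))))) (.node (.node (.node (.node (.node (.leaf 0) (.leaf 0)) (.node (.leaf 0) (.leaf 0))) (.node (.node (.leaf 0) (.leaf 0)) (.node (.leaf 0) (.leaf 0)))) (.node (.node (.node (.leaf 0) (.leaf 0)) (.node (.leaf 0) (.leaf 0))) (.node (.node (.leaf 0) (.leaf 0)) (.node (.leaf 0) (.leaf 0))))) (.node (.node (.node (.node (.leaf 0) (.leaf 0)) (.node (.leaf 0) (.leaf 0))) (.node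 (.node (.leaf 0) (.leaf 0)) (.node (.leaf 0) (.leaf 0)))) (.node (.node (.node (.leaf 0) (.leaf 0)) (.node (.leaf 0) (.leaf 0))) (.node (.node (.leaf 0) (.leaf 0)) (.node (.leaf 0) (.leaf 0)))))))

/-- A point of the block, part 966. -/
def ptCodePart966 : Janko1.Tree ℕ := (.node (.node (.node (.node (.node (.node (.leaf 0) (.leaf 0)) (.node (.leaf 0) (.leaf 0))) (.node (.node (.leaf 0) (.leaf 0)) (.node (.leaf 0) (.leaf 0)))) (.node (.node (.node (.leaf 0) (.leaf 0)) (.node (.leaf 0) (.leaf 0))) (.node (.node (.leaf 0) (.leaf 0)) (.node (.leaf 0) (.leaf 0))))) (.node (.node (.node (.node (.leaf 0) (.leaf 0)) (.node (.leaf 0) (.leaf 0))) (.node (.node (.leaf 0) (.leaf 0)) (.node (.leaf 0) (.leaf 0)))) (.node (.node (.node (.leaf 0) (.leaf 0)) (.node (.leaf 0) (.leaf 0))) (.node (.node (.leaf 0) (.leaf 0)) (.node (.leaf 0) (.leaf 0)))))) (.node (.node (.node (.node (.node (.leaf 0) (.leaf 0)) (.node (.leaf 0) (.leaf 0))) (.node (.node (.leaf 0) (.leaf 0)) (.node (.leaf 0) (.leaf 0)))) (.node (.node (.node (.leaf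 0) (.leaf 0)) (.node (.leaf 0) (.leaf 0))) (.node (.node (.leaf 0) (.leaf 0)) (.node (.leaf 0) (.leaf 0))))) (.node (.node (.node (.node (.leaf 0) (.leaf 0)) (.node (.leaf 0) (.leaf 0))) (.node (.node (.leaf 0) (.leaf 0)) (.node (.leaf 0) (.leaf 0)))) (.node (.node (.node (.leaf 0) (.leaf 0)) (.node (.leaf 0) (.leaf 0))) (.node (.node (.leaf 0) (.leaf 0)) (.node (.leaf 0) (.leaf 0)))))))

/-- A point of the block, part 967. -/
def ptCodePart967 : Janko1.Tree ℕ := (.node (.node (.node (.node (.node (.node (.leaf 0) (.leaf 0)) (.node (.leaf 0) (.leaf 0))) (.node (.node (.leaf 0) (.leaf 0)) (.node (.leaf 0) (.leaf 0)))) (.node (.node (.node (.leaf 0) (.leaf 0)) (.node (.leaf 0) (.leaf 0))) (.node (.node (.leaf 0) (.leaf 0)) (.node (.leaf 0) (.leaf 0))))) (.node (.node (.node (.node (.leaf 0) (.leaf 0)) (.node (.leaf 0) (.leaf 0))) (.node (.node (.leaf 0) (.leaf 0)) (.node (.leaf 0) (.leaf 0)))) (.node (.node (.node (.leaf 0) (.leaf 0)) (.node (.leaf 0) (.leaf 0))) (.node (.node (.leaf 0) (.leaf 0)) (.node (.leaf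 0) (.leaf 0)))))) (.node (.node (.node (.node (.node (.leaf 0) (.leaf 0)) (.node (.leaf 0) (.leaf 0))) (.node (.node (.leaf 0) (.leaf 0)) (.node (.leaf 0) (.leaf 0)))) (.node (.node (.node (.leaf 0) (.leaf 0)) (.node (.leaf 0) (.leaf 0))) (.node (.node (.leaf 0) (.leaf 0)) (.node (.leaf 0) (.leaf 0))))) (.node (.node (.node (.node (.leaf 0) (.leaf 0)) (.node (.leaf 0) (.leaf 0))) (.node (.node (.leaf 0) (.leaf 0)) (.node (.leaf 0) (.leaf 0)))) (.node (.node (.node (.leaf 0) (.leaf 0)) (.node (.leaf 0) (.leaf 0))) (.node (.node (.leaf 0) (.leaf 0)) (.node (.leaf 0) (.leaf 0)))))))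

/-- A point of the block, part 968. -/
def ptCodePart968 : Janko1.Tree ℕ := (.node (.node (.node (.node (.node (.node (.leaf 0) (.leaf 0)) (.node (.leaf 0) (.leaf 0))) (.node (.node (.leaf 0) (.leaf 0)) (.node (.leaf 0) (.leaf 0)))) (.node (.node (.node (.leaf 0) (.leaf 0)) (.node (.leaf 0) (.leaf 0))) (.node (.node (.leaf 0) (.leaf 0)) (.node (.leaf 0) (.leaf 0))))) (.node (.node (.node (.node (.leaf 0) (.leaf 0)) (.node (.leaf 0) (.leaf 0))) (.node (.node (.leaf 0) (.leaf 0)) (.node (.leaf 0) (.leaf 0)))) (.node (.node (.node (.leaf 0) (.leaf 0)) (.node (.leaf 0) (.leaf 0))) (.node (.node (.leaf 0) (.leaf 0)) (.node (.leaf 0) (.leaf 0)))))) (.node (.node (.node (.node (.node (.leaf 0) (.leaf 0)) (.node (.leaf 0) (.leaf 0))) (.node (.node (.leaf 0) (.leaf 0)) (.node (.leaf 0) (.leaf 0)))) (.node (.node (.node (.leaf 0) (.leaf 0)) (.node (.leaf 0) (.leaf 0))) (.node (.node (.leaf 0) (.leaf 0)) (.node (.leaf 0) (.leaf 0))))) (.node (.node (.node (.node (.leaf 0) (.leaf 0)) (.node (.leaf 0) (.leaf 0))) (.node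 (.node (.leaf 0) (.leaf 0)) (.node (.leaf 0) (.leaf 0)))) (.node (.node (.node (.leaf 0) (.leaf 0)) (.node (.leaf 0) (.leaf 0))) (.node (.node (.leaf 0) (.leaf 0)) (.node (.leaf 0) (.leaf 0)))))))

/-- A point of the block, part 969. -/
def ptCodePart969 : Janko1.Tree ℕ := (.node (.node (.node (.node (.node (.node (.leaf 0) (.leaf 0)) (.node (.leaf 0) (.leaf 0))) (.node (.node (.leaf 0) (.leaf 0)) (.node (.leaf 0) (.leaf 0)))) (.node (.node (.node (.leaf 0) (.leaf 0)) (.node (.leaf 0) (.leaf 0))) (.node (.node (.leaf 0) (.leaf 0)) (.node (.leaf 0) (.leaf 0))))) (.node (.node (.node (.node (.leaf 0) (.leaf 0)) (.node (.leaf 0) (.leaf 0))) (.node (.node (.leaf 0) (.leaf 0)) (.node (.leaf 0) (.leaf 0)))) (.node (.node (.node (.leaf 0) (.leaf 0)) (.node (.leaf 0) (.leaf 0))) (.node (.node (.leaf 0) (.leaf 0)) (.node (.leaf 0) (.leaf 0)))))) (.node (.node (.node (.node (.node (.leaf 0) (.leaf 0)) (.node (.leaf 0) (.leaf 0))) (.node (.node (.leaf 0) (.leaf 0)) (.node (.leaf 0) (.leaf 0)))) (.node (.node (.node (.leaf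 0) (.leaf 0)) (.node (.leaf 0) (.leaf 0))) (.node (.node (.leaf 0) (.leaf 0)) (.node (.leaf 0) (.leaf 0))))) (.node (.node (.node (.node (.leaf 0) (.leaf 0)) (.node (.leaf 0) (.leaf 0))) (.node (.node (.leaf 0) (.leaf 0)) (.node (.leaf 0) (.leaf 0)))) (.node (.node (.node (.leaf 0) (.leaf 0)) (.node (.leaf 0) (.leaf 0))) (.node (.node (.leaf 0) (.leaf 0)) (.node (.leaf 0) (.leaf 0)))))))

/-- A point of the block, part 970. -/
def ptCodePart970 : Janko1.Tree ℕ := (.node (.node (.node (.node (.node (.node (.leaf 0) (.leaf 0)) (.node (.leaf 0) (.leaf 0))) (.node (.node (.leaf 0) (.leaf 0)) (.node (.leaf 0) (.leaf 0)))) (.node (.node (.node (.leaf 0) (.leaf 0)) (.node (.leaf 0) (.leaf 0))) (.node (.node (.leaf 0) (.leaf 0)) (.node (.leaf 0) (.leaf 0))))) (.node (.node (.node (.node (.leaf 0) (.leaf 0)) (.node (.leaf 0) (.leaf 0))) (.node (.node (.leaf 0) (.leaf 0)) (.node (.leaf 0) (.leaf 0)))) (.node (.node (.node (.leaf 0) (.leaf 0)) (.node (.leaf 0) (.leaf 0))) (.node (.node (.leaf 0) (.leaf 0)) (.node (.leaf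 0) (.leaf 0)))))) (.node (.node (.node (.node (.node (.leaf 0) (.leaf 0)) (.node (.leaf 0) (.leaf 0))) (.node (.node (.leaf 0) (.leaf 0)) (.node (.leaf 0) (.leaf 0)))) (.node (.node (.node (.leaf 0) (.leaf 0)) (.node (.leaf 0) (.leaf 0))) (.node (.node (.leaf 0) (.leaf 0)) (.node (.leaf 0) (.leaf 0))))) (.node (.node (.node (.node (.leaf 0) (.leaf 0)) (.node (.leaf 0) (.leaf 0))) (.node (.node (.leaf 0) (.leaf 0)) (.node (.leaf 0) (.leaf 0)))) (.node (.node (.node (.leaf 0) (.leaf 0)) (.node (.leaf 0) (.leaf 0))) (.node (.node (.leaf 0) (.leaf 0)) (.node (.leaf 0) (.leaf 0)))))))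

/-- A point of the block, part 971. -/
def ptCodePart971 : Janko1.Tree ℕ := (.node (.node (.node (.node (.node (.node (.leaf 0) (.leaf 0)) (.node (.leaf 0) (.leaf 0))) (.node (.node (.leaf 0) (.leaf 0)) (.node (.leaf 0) (.leaf 0)))) (.node (.node (.node (.leaf 0) (.leaf 0)) (.node (.leaf 0) (.leaf 0))) (.node (.node (.leaf 0) (.leaf 0)) (.node (.leaf 0) (.leaf 0))))) (.node (.node (.node (.node (.leaf 0) (.leaf 0)) (.node (.leaf 0) (.leaf 0))) (.node (.node (.leaf 0) (.leaf 0)) (.node (.leaf 0) (.leaf 0)))) (.node (.node (.node (.leaf 0) (.leaf 0)) (.node (.leaf 0) (.leaf 0))) (.node (.node (.leaf 0) (.leaf 0)) (.node (.leaf 0) (.leaf 0)))))) (.node (.node (.node (.node (.node (.leaf 0) (.leaf 0)) (.node (.leaf 0) (.leaf 0))) (.node (.node (.leaf 0) (.leaf 0)) (.node (.leaf 0) (.leaf 0)))) (.node (.node (.node (.leaf 0) (.leaf 0)) (.node (.leaf 0) (.leaf 0))) (.node (.node (.leaf 0) (.leaf 0)) (.node (.leaf 0) (.leaf 0))))) (.node (.node (.node (.node (.leaf 0) (.leaf 0)) (.node (.leaf 0) (.leaf 0))) (.node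 (.node (.leaf 0) (.leaf 0)) (.node (.leaf 0) (.leaf 0)))) (.node (.node (.node (.leaf 0) (.leaf 0)) (.node (.leaf 0) (.leaf 0))) (.node (.node (.leaf 0) (.leaf 0)) (.node (.leaf 0) (.leaf 0)))))))

/-- A point of the block, part 972. -/
def ptCodePart972 : Janko1.Tree ℕ := (.node (.node (.node (.node (.node (.node (.leaf 0) (.leaf 0)) (.node (.leaf 0) (.leaf 0))) (.node (.node (.leaf 0) (.leaf 0)) (.node (.leaf 0) (.leaf 0)))) (.node (.node (.node (.leaf 0) (.leaf 0)) (.node (.leaf 0) (.leaf 0))) (.node (.node (.leaf 0) (.leaf 0)) (.node (.leaf 0) (.leaf 0))))) (.node (.node (.node (.node (.leaf 0) (.leaf 0)) (.node (.leaf 0) (.leaf 0))) (.node (.node (.leaf 0) (.leaf 0)) (.node (.leaf 0) (.leaf 0)))) (.node (.node (.node (.leaf 0) (.leaf 0)) (.node (.leaf 0) (.leaf 0))) (.node (.node (.leaf 0) (.leaf 0)) (.node (.leaf 0) (.leaf 0)))))) (.node (.node (.node (.node (.node (.leaf 0) (.leaf 0)) (.node (.leaf 0) (.leaf 0))) (.node (.node (.leaf 0) (.leaf 0)) (.node (.leaf 0) (.leaf 0)))) (.node (.node (.node (.leaf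 0) (.leaf 0)) (.node (.leaf 0) (.leaf 0))) (.node (.node (.leaf 0) (.leaf 0)) (.node (.leaf 0) (.leaf 0))))) (.node (.node (.node (.node (.leaf 0) (.leaf 0)) (.node (.leaf 0) (.leaf 0))) (.node (.node (.leaf 0) (.leaf 0)) (.node (.leaf 0) (.leaf 0)))) (.node (.node (.node (.leaf 0) (.leaf 0)) (.node (.leaf 0) (.leaf 0))) (.node (.node (.leaf 0) (.leaf 0)) (.node (.leaf 0) (.leaf 0)))))))

/-- A point of the block, part 973. -/
def ptCodePart973 : Janko1.Tree ℕ := (.node (.node (.node (.node (.node (.node (.leaf 0) (.leaf 0)) (.node (.leaf 0) (.leaf 0))) (.node (.node (.leaf 0) (.leaf 0)) (.node (.leaf 0) (.leaf 0)))) (.node (.node (.node (.leaf 0) (.leaf 0)) (.node (.leaf 0) (.leaf 0))) (.node (.node (.leaf 0) (.leaf 0)) (.node (.leaf 0) (.leaf 0))))) (.node (.node (.node (.node (.leaf 0) (.leaf 0)) (.node (.leaf 0) (.leaf 0))) (.node (.node (.leaf 0) (.leaf 0)) (.node (.leaf 0) (.leaf 0)))) (.node (.node (.node (.leaf 0) (.leaf 0)) (.node (.leaf 0) (.leaf 0))) (.node (.node (.leaf 0) (.leaf 0)) (.node (.leaf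 0) (.leaf 0)))))) (.node (.node (.node (.node (.node (.leaf 0) (.leaf 0)) (.node (.leaf 0) (.leaf 0))) (.node (.node (.leaf 0) (.leaf 0)) (.node (.leaf 0) (.leaf 0)))) (.node (.node (.node (.leaf 0) (.leaf 0)) (.node (.leaf 0) (.leaf 0))) (.node (.node (.leaf 0) (.leaf 0)) (.node (.leaf 0) (.leaf 0))))) (.node (.node (.node (.node (.leaf 0) (.leaf 0)) (.node (.leaf 0) (.leaf 0))) (.node (.node (.leaf 0) (.leaf 0)) (.node (.leaf 0) (.leaf 0)))) (.node (.node (.node (.leaf 0) (.leaf 0)) (.node (.leaf 0) (.leaf 0))) (.node (.node (.leaf 0) (.leaf 0)) (.node (.leaf 0) (.leaf 0)))))))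

/-- A point of the block, part 974. -/
def ptCodePart974 : Janko1.Tree ℕ := (.node (.node (.node (.node (.node (.node (.leaf 0) (.leaf 0)) (.node (.leaf 0) (.leaf 0))) (.node (.node (.leaf 0) (.leaf 0)) (.node (.leaf 0) (.leaf 0)))) (.node (.node (.node (.leaf 0) (.leaf 0)) (.node (.leaf 0) (.leaf 0))) (.node (.node (.leaf 0) (.leaf 0)) (.node (.leaf 0) (.leaf 0))))) (.node (.node (.node (.node (.leaf 0) (.leaf 0)) (.node (.leaf 0) (.leaf 0))) (.node (.node (.leaf 0) (.leaf 0)) (.node (.leaf 0) (.leaf 0)))) (.node (.node (.node (.leaf 0) (.leaf 0)) (.node (.leaf 0) (.leaf 0))) (.node (.node (.leaf 0) (.leaf 0)) (.node (.leaf 0) (.leaf 0)))))) (.node (.node (.node (.node (.node (.leaf 0) (.leaf 0)) (.node (.leaf 0) (.leaf 0))) (.node (.node (.leaf 0) (.leaf 0)) (.node (.leaf 0) (.leaf 0)))) (.node (.node (.node (.leaf 0) (.leaf 0)) (.node (.leaf 0) (.leaf 0))) (.node (.node (.leaf 0) (.leaf 0)) (.node (.leaf 0) (.leaf 0))))) (.node (.node (.node (.node (.leaf 0) (.leaf 0)) (.node (.leaf 0) (.leaf 0))) (.node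 (.node (.leaf 0) (.leaf 0)) (.node (.leaf 0) (.leaf 0)))) (.node (.node (.node (.leaf 0) (.leaf 0)) (.node (.leaf 0) (.leaf 0))) (.node (.node (.leaf 0) (.leaf 0)) (.node (.leaf 0) (.leaf 0)))))))

/-- A point of the block, part 975. -/
def ptCodePart975 : Janko1.Tree ℕ := (.node (.node (.node (.node (.node (.node (.leaf 0) (.leaf 0)) (.node (.leaf 0) (.leaf 0))) (.node (.node (.leaf 0) (.leaf 0)) (.node (.leaf 0) (.leaf 0)))) (.node (.node (.node (.leaf 0) (.leaf 0)) (.node (.leaf 0) (.leaf 0))) (.node (.node (.leaf 0) (.leaf 0)) (.node (.leaf 0) (.leaf 0))))) (.node (.node (.node (.node (.leaf 0) (.leaf 0)) (.node (.leaf 0) (.leaf 0))) (.node (.node (.leaf 0) (.leaf 0)) (.node (.leaf 0) (.leaf 0)))) (.node (.node (.node (.leaf 0) (.leaf 0)) (.node (.leaf 0) (.leaf 0))) (.node (.node (.leaf 0) (.leaf 0)) (.node (.leaf 0) (.leaf 0)))))) (.node (.node (.node (.node (.node (.leaf 0) (.leaf 0)) (.node (.leaf 0) (.leaf 0))) (.node (.node (.leaf 0) (.leaf 0)) (.node (.leaf 0) (.leaf 0)))) (.node (.node (.node (.leaf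 0) (.leaf 0)) (.node (.leaf 0) (.leaf 0))) (.node (.node (.leaf 0) (.leaf 0)) (.node (.leaf 0) (.leaf 0))))) (.node (.node (.node (.node (.leaf 0) (.leaf 0)) (.node (.leaf 0) (.leaf 0))) (.node (.node (.leaf 0) (.leaf 0)) (.node (.leaf 0) (.leaf 0)))) (.node (.node (.node (.leaf 0) (.leaf 0)) (.node (.leaf 0) (.leaf 0))) (.node (.node (.leaf 0) (.leaf 0)) (.node (.leaf 0) (.leaf 0)))))))

/-- A point of the block, part 976. -/
def ptCodePart976 : Janko1.Tree ℕ := (.node (.node (.node (.node (.node (.node (.leaf 0) (.leaf 0)) (.node (.leaf 0) (.leaf 0))) (.node (.node (.leaf 0) (.leaf 0)) (.node (.leaf 0) (.leaf 0)))) (.node (.node (.node (.leaf 0) (.leaf 0)) (.node (.leaf 0) (.leaf 0))) (.node (.node (.leaf 0) (.leaf 0)) (.node (.leaf 0) (.leaf 0))))) (.node (.node (.node (.node (.leaf 0) (.leaf 0)) (.node (.leaf 0) (.leaf 0))) (.node (.node (.leaf 0) (.leaf 0)) (.node (.leaf 0) (.leaf 0)))) (.node (.node (.node (.leaf 0) (.leaf 0)) (.node (.leaf 0) (.leaf 0))) (.node (.node (.leaf 0) (.leaf 0)) (.node (.leaf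 0) (.leaf 0)))))) (.node (.node (.node (.node (.node (.leaf 0) (.leaf 0)) (.node (.leaf 0) (.leaf 0))) (.node (.node (.leaf 0) (.leaf 0)) (.node (.leaf 0) (.leaf 0)))) (.node (.node (.node (.leaf 0) (.leaf 0)) (.node (.leaf 0) (.leaf 0))) (.node (.node (.leaf 0) (.leaf 0)) (.node (.leaf 0) (.leaf 0))))) (.node (.node (.node (.node (.leaf 0) (.leaf 0)) (.node (.leaf 0) (.leaf 0))) (.node (.node (.leaf 0) (.leaf 0)) (.node (.leaf 0) (.leaf 0)))) (.node (.node (.node (.leaf 0) (.leaf 0)) (.node (.leaf 0) (.leaf 0))) (.node (.node (.leaf 0) (.leaf 0)) (.node (.leaf 0) (.leaf 0)))))))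

/-- A point of the block, part 977. -/
def ptCodePart977 : Janko1.Tree ℕ := (.node (.node (.node (.node (.node (.node (.leaf 0) (.leaf 0)) (.node (.leaf 0) (.leaf 0))) (.node (.node (.leaf 0) (.leaf 0)) (.node (.leaf 0) (.leaf 0)))) (.node (.node (.node (.leaf 0) (.leaf 0)) (.node (.leaf 0) (.leaf 0))) (.node (.node (.leaf 0) (.leaf 0)) (.node (.leaf 0) (.leaf 0))))) (.node (.node (.node (.node (.leaf 0) (.leaf 0)) (.node (.leaf 0) (.leaf 0))) (.node (.node (.leaf 0) (.leaf 0)) (.node (.leaf 0) (.leaf 0)))) (.node (.node (.node (.leaf 0) (.leaf 0)) (.node (.leaf 0) (.leaf 0))) (.node (.node (.leaf 0) (.leaf 0)) (.node (.leaf 0) (.leaf 0)))))) (.node (.node (.node (.node (.node (.leaf 0) (.leaf 0)) (.node (.leaf 0) (.leaf 0))) (.node (.node (.leaf 0) (.leaf 0)) (.node (.leaf 0) (.leaf 0)))) (.node (.node (.node (.leaf 0) (.leaf 0)) (.node (.leaf 0) (.leaf 0))) (.node (.node (.leaf 0) (.leaf 0)) (.node (.leaf 0) (.leaf 0))))) (.node (.node (.node (.node (.leaf 0) (.leaf 0)) (.node (.leaf 0) (.leaf 0))) (.node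 (.node (.leaf 0) (.leaf 0)) (.node (.leaf 0) (.leaf 0)))) (.node (.node (.node (.leaf 0) (.leaf 0)) (.node (.leaf 0) (.leaf 0))) (.node (.node (.leaf 0) (.leaf 0)) (.node (.leaf 0) (.leaf 0)))))))

/-- A point of the block, part 978. -/
def ptCodePart978 : Janko1.Tree ℕ := (.node (.node (.node (.node (.node (.node (.leaf 0) (.leaf 0)) (.node (.leaf 0) (.leaf 0))) (.node (.node (.leaf 0) (.leaf 0)) (.node (.leaf 0) (.leaf 0)))) (.node (.node (.node (.leaf 0) (.leaf 0)) (.node (.leaf 0) (.leaf 0))) (.node (.node (.leaf 0) (.leaf 0)) (.node (.leaf 0) (.leaf 0))))) (.node (.node (.node (.node (.leaf 0) (.leaf 0)) (.node (.leaf 0) (.leaf 0))) (.node (.node (.leaf 0) (.leaf 0)) (.node (.leaf 0) (.leaf 0)))) (.node (.node (.node (.leaf 0) (.leaf 0)) (.node (.leaf 0) (.leaf 0))) (.node (.node (.leaf 0) (.leaf 0)) (.node (.leaf 0) (.leaf 0)))))) (.node (.node (.node (.node (.node (.leaf 0) (.leaf 0)) (.node (.leaf 0) (.leaf 0))) (.node (.node (.leaf 0) (.leaf 0)) (.node (.leaf 0) (.leaf 0)))) (.node (.node (.node (.leaf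 0) (.leaf 0)) (.node (.leaf 0) (.leaf 0))) (.node (.node (.leaf 0) (.leaf 0)) (.node (.leaf 0) (.leaf 0))))) (.node (.node (.node (.node (.leaf 0) (.leaf 0)) (.node (.leaf 0) (.leaf 0))) (.node (.node (.leaf 0) (.leaf 0)) (.node (.leaf 0) (.leaf 0)))) (.node (.node (.node (.leaf 0) (.leaf 0)) (.node (.leaf 0) (.leaf 0))) (.node (.node (.leaf 0) (.leaf 0)) (.node (.leaf 0) (.leaf 0)))))))

/-- A point of the block, part 979. -/
def ptCodePart979 : Janko1.Tree ℕ := (.node (.node (.node (.node (.node (.node (.leaf 0) (.leaf 0)) (.node (.leaf 0) (.leaf 0))) (.node (.node (.leaf 0) (.leaf 0)) (.node (.leaf 0) (.leaf 0)))) (.node (.node (.node (.leaf 0) (.leaf 0)) (.node (.leaf 0) (.leaf 0))) (.node (.node (.leaf 0) (.leaf 0)) (.node (.leaf 0) (.leaf 0))))) (.node (.node (.node (.node (.leaf 0) (.leaf 0)) (.node (.leaf 0) (.leaf 0))) (.node (.node (.leaf 0) (.leaf 0)) (.node (.leaf 0) (.leaf 0)))) (.node (.node (.node (.leaf 0) (.leaf 0)) (.node (.leaf 0) (.leaf 0))) (.node (.node (.leaf 0) (.leaf 0)) (.node (.leaf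 0) (.leaf 0)))))) (.node (.node (.node (.node (.node (.leaf 0) (.leaf 0)) (.node (.leaf 0) (.leaf 0))) (.node (.node (.leaf 0) (.leaf 0)) (.node (.leaf 0) (.leaf 0)))) (.node (.node (.node (.leaf 0) (.leaf 0)) (.node (.leaf 0) (.leaf 0))) (.node (.node (.leaf 0) (.leaf 0)) (.node (.leaf 0) (.leaf 0))))) (.node (.node (.node (.node (.leaf 0) (.leaf 0)) (.node (.leaf 0) (.leaf 0))) (.node (.node (.leaf 0) (.leaf 0)) (.node (.leaf 0) (.leaf 0)))) (.node (.node (.node (.leaf 0) (.leaf 0)) (.node (.leaf 0) (.leaf 0))) (.node (.node (.leaf 0) (.leaf 0)) (.node (.leaf 0) (.leaf 0)))))))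

/-- A point of the block, part 980. -/
def ptCodePart980 : Janko1.Tree ℕ := (.node (.node (.node (.node (.node (.node (.leaf 0) (.leaf 0)) (.node (.leaf 0) (.leaf 0))) (.node (.node (.leaf 0) (.leaf 0)) (.node (.leaf 0) (.leaf 0)))) (.node (.node (.node (.leaf 0) (.leaf 0)) (.node (.leaf 0) (.leaf 0))) (.node (.node (.leaf 0) (.leaf 0)) (.node (.leaf 0) (.leaf 0))))) (.node (.node (.node (.node (.leaf 0) (.leaf 0)) (.node (.leaf 0) (.leaf 0))) (.node (.node (.leaf 0) (.leaf 0)) (.node (.leaf 0) (.leaf 0)))) (.node (.node (.node (.leaf 0) (.leaf 0)) (.node (.leaf 0) (.leaf 0))) (.node (.node (.leaf 0) (.leaf 0)) (.node (.leaf 0) (.leaf 0)))))) (.node (.node (.node (.node (.node (.leaf 0) (.leaf 0)) (.node (.leaf 0) (.leaf 0))) (.node (.node (.leaf 0) (.leaf 0)) (.node (.leaf 0) (.leaf 0)))) (.node (.node (.node (.leaf 0) (.leaf 0)) (.node (.leaf 0) (.leaf 0))) (.node (.node (.leaf 0) (.leaf 0)) (.node (.leaf 0) (.leaf 0))))) (.node (.node (.node (.node (.leaf 0) (.leaf 0)) (.node (.leaf 0) (.leaf 0))) (.node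 (.node (.leaf 0) (.leaf 0)) (.node (.leaf 0) (.leaf 0)))) (.node (.node (.node (.leaf 0) (.leaf 0)) (.node (.leaf 0) (.leaf 0))) (.node (.node (.leaf 0) (.leaf 0)) (.node (.leaf 0) (.leaf 0)))))))

/-- A point of the block, part 981. -/
def ptCodePart981 : Janko1.Tree ℕ := (.node (.node (.node (.node (.node (.node (.leaf 0) (.leaf 0)) (.node (.leaf 0) (.leaf 0))) (.node (.node (.leaf 0) (.leaf 0)) (.node (.leaf 0) (.leaf 0)))) (.node (.node (.node (.leaf 0) (.leaf 0)) (.node (.leaf 0) (.leaf 0))) (.node (.node (.leaf 0) (.leaf 0)) (.node (.leaf 0) (.leaf 0))))) (.node (.node (.node (.node (.leaf 0) (.leaf 0)) (.node (.leaf 0) (.leaf 0))) (.node (.node (.leaf 0) (.leaf 0)) (.node (.leaf 0) (.leaf 0)))) (.node (.node (.node (.leaf 0) (.leaf 0)) (.node (.leaf 0) (.leaf 0))) (.node (.node (.leaf 0) (.leaf 0)) (.node (.leaf 0) (.leaf 0)))))) (.node (.node (.node (.node (.node (.leaf 0) (.leaf 0)) (.node (.leaf 0) (.leaf 0))) (.node (.node (.leaf 0) (.leaf 0)) (.node (.leaf 0) (.leaf 0)))) (.node (.node (.node (.leaf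 0) (.leaf 0)) (.node (.leaf 0) (.leaf 0))) (.node (.node (.leaf 0) (.leaf 0)) (.node (.leaf 0) (.leaf 0))))) (.node (.node (.node (.node (.leaf 0) (.leaf 0)) (.node (.leaf 0) (.leaf 0))) (.node (.node (.leaf 0) (.leaf 0)) (.node (.leaf 0) (.leaf 0)))) (.node (.node (.node (.leaf 0) (.leaf 0)) (.node (.leaf 0) (.leaf 0))) (.node (.node (.leaf 0) (.leaf 0)) (.node (.leaf 0) (.leaf 0)))))))

/-- A point of the block, part 982. -/
def ptCodePart982 : Janko1.Tree ℕ := (.node (.node (.node (.node (.node (.node (.leaf 0) (.leaf 0)) (.node (.leaf 0) (.leaf 0))) (.node (.node (.leaf 0) (.leaf 0)) (.node (.leaf 0) (.leaf 0)))) (.node (.node (.node (.leaf 0) (.leaf 0)) (.node (.leaf 0) (.leaf 0))) (.node (.node (.leaf 0) (.leaf 0)) (.node (.leaf 0) (.leaf 0))))) (.node (.node (.node (.node (.leaf 0) (.leaf 0)) (.node (.leaf 0) (.leaf 0))) (.node (.node (.leaf 0) (.leaf 0)) (.node (.leaf 0) (.leaf 0)))) (.node (.node (.node (.leaf 0) (.leaf 0)) (.node (.leaf 0) (.leaf 0))) (.node (.node (.leaf 0) (.leaf 0)) (.node (.leaf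 0) (.leaf 0)))))) (.node (.node (.node (.node (.node (.leaf 0) (.leaf 0)) (.node (.leaf 0) (.leaf 0))) (.node (.node (.leaf 0) (.leaf 0)) (.node (.leaf 0) (.leaf 0)))) (.node (.node (.node (.leaf 0) (.leaf 0)) (.node (.leaf 0) (.leaf 0))) (.node (.node (.leaf 0) (.leaf 0)) (.node (.leaf 0) (.leaf 0))))) (.node (.node (.node (.node (.leaf 0) (.leaf 0)) (.node (.leaf 0) (.leaf 0))) (.node (.node (.leaf 0) (.leaf 0)) (.node (.leaf 0) (.leaf 0)))) (.node (.node (.node (.leaf 0) (.leaf 0)) (.node (.leaf 0) (.leaf 0))) (.node (.node (.leaf 0) (.leaf 0)) (.node (.leaf 0) (.leaf 0)))))))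

/-- A point of the block, part 983. -/
def ptCodePart983 : Janko1.Tree ℕ := (.node (.node (.node (.node (.node (.node (.leaf 0) (.leaf 0)) (.node (.leaf 0) (.leaf 0))) (.node (.node (.leaf 0) (.leaf 0)) (.node (.leaf 0) (.leaf 0)))) (.node (.node (.node (.leaf 0) (.leaf 0)) (.node (.leaf 0) (.leaf 0))) (.node (.node (.leaf 0) (.leaf 0)) (.node (.leaf 0) (.leaf 0))))) (.node (.node (.node (.node (.leaf 0) (.leaf 0)) (.node (.leaf 0) (.leaf 0))) (.node (.node (.leaf 0) (.leaf 0)) (.node (.leaf 0) (.leaf 0)))) (.node (.node (.node (.leaf 0) (.leaf 0)) (.node (.leaf 0) (.leaf 0))) (.node (.node (.leaf 0) (.leaf 0)) (.node (.leaf 0) (.leaf 0)))))) (.node (.node (.node (.node (.node (.leaf 0) (.leaf 0)) (.node (.leaf 0) (.leaf 0))) (.node (.node (.leaf 0) (.leaf 0)) (.node (.leaf 0) (.leaf 0)))) (.node (.node (.node (.leaf 0) (.leaf 0)) (.node (.leaf 0) (.leaf 0))) (.node (.node (.leaf 0) (.leaf 0)) (.node (.leaf 0) (.leaf 0))))) (.node (.node (.node (.node (.leaf 0) (.leaf 0)) (.node (.leaf 0) (.leaf 0))) (.node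 (.node (.leaf 0) (.leaf 0)) (.node (.leaf 0) (.leaf 0)))) (.node (.node (.node (.leaf 0) (.leaf 0)) (.node (.leaf 0) (.leaf 0))) (.node (.node (.leaf 0) (.leaf 0)) (.node (.leaf 0) (.leaf 0)))))))

/-- A point of the block, part 984. -/
def ptCodePart984 : Janko1.Tree ℕ := (.node (.node (.node (.node (.node (.node (.leaf 0) (.leaf 0)) (.node (.leaf 0) (.leaf 0))) (.node (.node (.leaf 0) (.leaf 0)) (.node (.leaf 0) (.leaf 0)))) (.node (.node (.node (.leaf 0) (.leaf 0)) (.node (.leaf 0) (.leaf 0))) (.node (.node (.leaf 0) (.leaf 0)) (.node (.leaf 0) (.leaf 0))))) (.node (.node (.node (.node (.leaf 0) (.leaf 0)) (.node (.leaf 0) (.leaf 0))) (.node (.node (.leaf 0) (.leaf 0)) (.node (.leaf 0) (.leaf 0)))) (.node (.node (.node (.leaf 0) (.leaf 0)) (.node (.leaf 0) (.leaf 0))) (.node (.node (.leaf 0) (.leaf 0)) (.node (.leaf 0) (.leaf 0)))))) (.node (.node (.node (.node (.node (.leaf 0) (.leaf 0)) (.node (.leaf 0) (.leaf 0))) (.node (.node (.leaf 0) (.leaf 0)) (.node (.leaf 0) (.leaf 0)))) (.node (.node (.node (.leaf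 0) (.leaf 0)) (.node (.leaf 0) (.leaf 0))) (.node (.node (.leaf 0) (.leaf 0)) (.node (.leaf 0) (.leaf 0))))) (.node (.node (.node (.node (.leaf 0) (.leaf 0)) (.node (.leaf 0) (.leaf 0))) (.node (.node (.leaf 0) (.leaf 0)) (.node (.leaf 0) (.leaf 0)))) (.node (.node (.node (.leaf 0) (.leaf 0)) (.node (.leaf 0) (.leaf 0))) (.node (.node (.leaf 0) (.leaf 0)) (.node (.leaf 0) (.leaf 0)))))))

/-- A point of the block, part 985. -/
def ptCodePart985 : Janko1.Tree ℕ := (.node (.node (.node (.node (.node (.node (.leaf 0) (.leaf 0)) (.node (.leaf 0) (.leaf 0))) (.node (.node (.leaf 0) (.leaf 0)) (.node (.leaf 0) (.leaf 0)))) (.node (.node (.node (.leaf 0) (.leaf 0)) (.node (.leaf 0) (.leaf 0))) (.node (.node (.leaf 0) (.leaf 0)) (.node (.leaf 0) (.leaf 0))))) (.node (.node (.node (.node (.leaf 0) (.leaf 0)) (.node (.leaf 0) (.leaf 0))) (.node (.node (.leaf 0) (.leaf 0)) (.node (.leaf 0) (.leaf 0)))) (.node (.node (.node (.leaf 0) (.leaf 0)) (.node (.leaf 0) (.leaf 0))) (.node (.node (.leaf 0) (.leaf 0)) (.node (.leaf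 0) (.leaf 0)))))) (.node (.node (.node (.node (.node (.leaf 0) (.leaf 0)) (.node (.leaf 0) (.leaf 0))) (.node (.node (.leaf 0) (.leaf 0)) (.node (.leaf 0) (.leaf 0)))) (.node (.node (.node (.leaf 0) (.leaf 0)) (.node (.leaf 0) (.leaf 0))) (.node (.node (.leaf 0) (.leaf 0)) (.node (.leaf 0) (.leaf 0))))) (.node (.node (.node (.node (.leaf 0) (.leaf 0)) (.node (.leaf 0) (.leaf 0))) (.node (.node (.leaf 0) (.leaf 0)) (.node (.leaf 0) (.leaf 0)))) (.node (.node (.node (.leaf 0) (.leaf 0)) (.node (.leaf 0) (.leaf 0))) (.node (.node (.leaf 0) (.leaf 0)) (.node (.leaf 0) (.leaf 0)))))))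

/-- A point of the block, part 986. -/
def ptCodePart986 : Janko1.Tree ℕ := (.node (.node (.node (.node (.node (.node (.leaf 0) (.leaf 0)) (.node (.leaf 0) (.leaf 0))) (.node (.node (.leaf 0) (.leaf 0)) (.node (.leaf 0) (.leaf 0)))) (.node (.node (.node (.leaf 0) (.leaf 0)) (.node (.leaf 0) (.leaf 0))) (.node (.node (.leaf 0) (.leaf 0)) (.node (.leaf 0) (.leaf 0))))) (.node (.node (.node (.node (.leaf 0) (.leaf 0)) (.node (.leaf 0) (.leaf 0))) (.node (.node (.leaf 0) (.leaf 0)) (.node (.leaf 0) (.leaf 0)))) (.node (.node (.node (.leaf 0) (.leaf 0)) (.node (.leaf 0) (.leaf 0))) (.node (.node (.leaf 0) (.leaf 0)) (.node (.leaf 0) (.leaf 0)))))) (.node (.node (.node (.node (.node (.leaf 0) (.leaf 0)) (.node (.leaf 0) (.leaf 0))) (.node (.node (.leaf 0) (.leaf 0)) (.node (.leaf 0) (.leaf 0)))) (.node (.node (.node (.leaf 0) (.leaf 0)) (.node (.leaf 0) (.leaf 0))) (.node (.node (.leaf 0) (.leaf 0)) (.node (.leaf 0) (.leaf 0))))) (.node (.node (.node (.node (.leaf 0) (.leaf 0)) (.node (.leaf 0) (.leaf 0))) (.node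 (.node (.leaf 0) (.leaf 0)) (.node (.leaf 0) (.leaf 0)))) (.node (.node (.node (.leaf 0) (.leaf 0)) (.node (.leaf 0) (.leaf 0))) (.node (.node (.leaf 0) (.leaf 0)) (.node (.leaf 0) (.leaf 0)))))))

/-- A point of the block, part 987. -/
def ptCodePart987 : Janko1.Tree ℕ := (.node (.node (.node (.node (.node (.node (.leaf 0) (.leaf 0)) (.node (.leaf 0) (.leaf 0))) (.node (.node (.leaf 0) (.leaf 0)) (.node (.leaf 0) (.leaf 0)))) (.node (.node (.node (.leaf 0) (.leaf 0)) (.node (.leaf 0) (.leaf 0))) (.node (.node (.leaf 0) (.leaf 0)) (.node (.leaf 0) (.leaf 0))))) (.node (.node (.node (.node (.leaf 0) (.leaf 0)) (.node (.leaf 0) (.leaf 0))) (.node (.node (.leaf 0) (.leaf 0)) (.node (.leaf 0) (.leaf 0)))) (.node (.node (.node (.leaf 0) (.leaf 0)) (.node (.leaf 0) (.leaf 0))) (.node (.node (.leaf 0) (.leaf 0)) (.node (.leaf 0) (.leaf 0)))))) (.node (.node (.node (.node (.node (.leaf 0) (.leaf 0)) (.node (.leaf 0) (.leaf 0))) (.node (.node (.leaf 0) (.leaf 0)) (.node (.leaf 0) (.leaf 0)))) (.node (.node (.node (.leaf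 0) (.leaf 0)) (.node (.leaf 0) (.leaf 0))) (.node (.node (.leaf 0) (.leaf 0)) (.node (.leaf 0) (.leaf 0))))) (.node (.node (.node (.node (.leaf 0) (.leaf 0)) (.node (.leaf 0) (.leaf 0))) (.node (.node (.leaf 0) (.leaf 0)) (.node (.leaf 0) (.leaf 0)))) (.node (.node (.node (.leaf 0) (.leaf 0)) (.node (.leaf 0) (.leaf 0))) (.node (.node (.leaf 0) (.leaf 0)) (.node (.leaf 0) (.leaf 0)))))))

/-- A point of the block, part 988. -/
def ptCodePart988 : Janko1.Tree ℕ := (.node (.node (.node (.node (.node (.node (.leaf 0) (.leaf 0)) (.node (.leaf 0) (.leaf 0))) (.node (.node (.leaf 0) (.leaf 0)) (.node (.leaf 0) (.leaf 0)))) (.node (.node (.node (.leaf 0) (.leaf 0)) (.node (.leaf 0) (.leaf 0))) (.node (.node (.leaf 0) (.leaf 0)) (.node (.leaf 0) (.leaf 0))))) (.node (.node (.node (.node (.leaf 0) (.leaf 0)) (.node (.leaf 0) (.leaf 0))) (.node (.node (.leaf 0) (.leaf 0)) (.node (.leaf 0) (.leaf 0)))) (.node (.node (.node (.leaf 0) (.leaf 0)) (.node (.leaf 0) (.leaf 0))) (.node (.node (.leaf 0) (.leaf 0)) (.node (.leaf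 0) (.leaf 0)))))) (.node (.node (.node (.node (.node (.leaf 0) (.leaf 0)) (.node (.leaf 0) (.leaf 0))) (.node (.node (.leaf 0) (.leaf 0)) (.node (.leaf 0) (.leaf 0)))) (.node (.node (.node (.leaf 0) (.leaf 0)) (.node (.leaf 0) (.leaf 0))) (.node (.node (.leaf 0) (.leaf 0)) (.node (.leaf 0) (.leaf 0))))) (.node (.node (.node (.node (.leaf 0) (.leaf 0)) (.node (.leaf 0) (.leaf 0))) (.node (.node (.leaf 0) (.leaf 0)) (.node (.leaf 0) (.leaf 0)))) (.node (.node (.node (.leaf 0) (.leaf 0)) (.node (.leaf 0) (.leaf 0))) (.node (.node (.leaf 0) (.leaf 0)) (.node (.leaf 0) (.leaf 0)))))))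

/-- A point of the block, part 989. -/
def ptCodePart989 : Janko1.Tree ℕ := (.node (.node (.node (.node (.node (.node (.leaf 0) (.leaf 0)) (.node (.leaf 0) (.leaf 0))) (.node (.node (.leaf 0) (.leaf 0)) (.node (.leaf 0) (.leaf 0)))) (.node (.node (.node (.leaf 0) (.leaf 0)) (.node (.leaf 0) (.leaf 0))) (.node (.node (.leaf 0) (.leaf 0)) (.node (.leaf 0) (.leaf 0))))) (.node (.node (.node (.node (.leaf 0) (.leaf 0)) (.node (.leaf 0) (.leaf 0))) (.node (.node (.leaf 0) (.leaf 0)) (.node (.leaf 0) (.leaf 0)))) (.node (.node (.node (.leaf 0) (.leaf 0)) (.node (.leaf 0) (.leaf 0))) (.node (.node (.leaf 0) (.leaf 0)) (.node (.leaf 0) (.leaf 0)))))) (.node (.node (.node (.node (.node (.leaf 0) (.leaf 0)) (.node (.leaf 0) (.leaf 0))) (.node (.node (.leaf 0) (.leaf 0)) (.node (.leaf 0) (.leaf 0)))) (.node (.node (.node (.leaf 0) (.leaf 0)) (.node (.leaf 0) (.leaf 0))) (.node (.node (.leaf 0) (.leaf 0)) (.node (.leaf 0) (.leaf 0))))) (.node (.node (.node (.node (.leaf 0) (.leaf 0)) (.node (.leaf 0) (.leaf 0))) (.node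 (.node (.leaf 0) (.leaf 0)) (.node (.leaf 0) (.leaf 0)))) (.node (.node (.node (.leaf 0) (.leaf 0)) (.node (.leaf 0) (.leaf 0))) (.node (.node (.leaf 0) (.leaf 0)) (.node (.leaf 0) (.leaf 0)))))))

/-- A point of the block, part 990. -/
def ptCodePart990 : Janko1.Tree ℕ := (.node (.node (.node (.node (.node (.node (.leaf 0) (.leaf 0)) (.node (.leaf 0) (.leaf 0))) (.node (.node (.leaf 0) (.leaf 0)) (.node (.leaf 0) (.leaf 0)))) (.node (.node (.node (.leaf 0) (.leaf 0)) (.node (.leaf 0) (.leaf 0))) (.node (.node (.leaf 0) (.leaf 0)) (.node (.leaf 0) (.leaf 0))))) (.node (.node (.node (.node (.leaf 0) (.leaf 0)) (.node (.leaf 0) (.leaf 0))) (.node (.node (.leaf 0) (.leaf 0)) (.node (.leaf 0) (.leaf 0)))) (.node (.node (.node (.leaf 0) (.leaf 0)) (.node (.leaf 0) (.leaf 0))) (.node (.node (.leaf 0) (.leaf 0)) (.node (.leaf 0) (.leaf 0)))))) (.node (.node (.node (.node (.node (.leaf 0) (.leaf 0)) (.node (.leaf 0) (.leaf 0))) (.node (.node (.leaf 0) (.leaf 0)) (.node (.leaf 0) (.leaf 0)))) (.node (.node (.node (.leaf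 0) (.leaf 0)) (.node (.leaf 0) (.leaf 0))) (.node (.node (.leaf 0) (.leaf 0)) (.node (.leaf 0) (.leaf 0))))) (.node (.node (.node (.node (.leaf 0) (.leaf 0)) (.node (.leaf 0) (.leaf 0))) (.node (.node (.leaf 0) (.leaf 0)) (.node (.leaf 0) (.leaf 0)))) (.node (.node (.node (.leaf 0) (.leaf 0)) (.node (.leaf 0) (.leaf 0))) (.node (.node (.leaf 0) (.leaf 0)) (.node (.leaf 0) (.leaf 0)))))))

/-- A point of the block, part 991. -/
def ptCodePart991 : Janko1.Tree ℕ := (.node (.node (.node (.node (.node (.node (.leaf 0) (.leaf 0)) (.node (.leaf 0) (.leaf 0))) (.node (.node (.leaf 0) (.leaf 0)) (.node (.leaf 0) (.leaf 0)))) (.node (.node (.node (.leaf 0) (.leaf 0)) (.node (.leaf 0) (.leaf 0))) (.node (.node (.leaf 0) (.leaf 0)) (.node (.leaf 0) (.leaf 0))))) (.node (.node (.node (.node (.leaf 0) (.leaf 0)) (.node (.leaf 0) (.leaf 0))) (.node (.node (.leaf 0) (.leaf 0)) (.node (.leaf 0) (.leaf 0)))) (.node (.node (.node (.leaf 0) (.leaf 0)) (.node (.leaf 0) (.leaf 0))) (.node (.node (.leaf 0) (.leaf 0)) (.node (.leaf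 0) (.leaf 0)))))) (.node (.node (.node (.node (.node (.leaf 0) (.leaf 0)) (.node (.leaf 0) (.leaf 0))) (.node (.node (.leaf 0) (.leaf 0)) (.node (.leaf 0) (.leaf 0)))) (.node (.node (.node (.leaf 0) (.leaf 0)) (.node (.leaf 0) (.leaf 0))) (.node (.node (.leaf 0) (.leaf 0)) (.node (.leaf 0) (.leaf 0))))) (.node (.node (.node (.node (.leaf 0) (.leaf 0)) (.node (.leaf 0) (.leaf 0))) (.node (.node (.leaf 0) (.leaf 0)) (.node (.leaf 0) (.leaf 0)))) (.node (.node (.node (.leaf 0) (.leaf 0)) (.node (.leaf 0) (.leaf 0))) (.node (.node (.leaf 0) (.leaf 0)) (.node (.leaf 0) (.leaf 0)))))))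

/-- A point of the block, part 992. -/
def ptCodePart992 : Janko1.Tree ℕ := (.node (.node (.node (.node (.node (.node (.leaf 0) (.leaf 0)) (.node (.leaf 0) (.leaf 0))) (.node (.node (.leaf 0) (.leaf 0)) (.node (.leaf 0) (.leaf 0)))) (.node (.node (.node (.leaf 0) (.leaf 0)) (.node (.leaf 0) (.leaf 0))) (.node (.node (.leaf 0) (.leaf 0)) (.node (.leaf 0) (.leaf 0))))) (.node (.node (.node (.node (.leaf 0) (.leaf 0)) (.node (.leaf 0) (.leaf 0))) (.node (.node (.leaf 0) (.leaf 0)) (.node (.leaf 0) (.leaf 0)))) (.node (.node (.node (.leaf 0) (.leaf 0)) (.node (.leaf 0) (.leaf 0))) (.node (.node (.leaf 0) (.leaf 0)) (.node (.leaf 0) (.leaf 0)))))) (.node (.node (.node (.node (.node (.leaf 0) (.leaf 0)) (.node (.leaf 0) (.leaf 0))) (.node (.node (.leaf 0) (.leaf 0)) (.node (.leaf 0) (.leaf 0)))) (.node (.node (.node (.leaf 0) (.leaf 0)) (.node (.leaf 0) (.leaf 0))) (.node (.node (.leaf 0) (.leaf 0)) (.node (.leaf 0) (.leaf 0))))) (.node (.node (.node (.node (.leaf 0) (.leaf 0)) (.node (.leaf 0) (.leaf 0))) (.node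 (.node (.leaf 0) (.leaf 0)) (.node (.leaf 0) (.leaf 0)))) (.node (.node (.node (.leaf 0) (.leaf 0)) (.node (.leaf 0) (.leaf 0))) (.node (.node (.leaf 0) (.leaf 0)) (.node (.leaf 0) (.leaf 0)))))))

/-- A point of the block, part 993. -/
def ptCodePart993 : Janko1.Tree ℕ := (.node (.node (.node (.node (.node (.node (.leaf 0) (.leaf 0)) (.node (.leaf 0) (.leaf 0))) (.node (.node (.leaf 0) (.leaf 0)) (.node (.leaf 0) (.leaf 0)))) (.node (.node (.node (.leaf 0) (.leaf 0)) (.node (.leaf 0) (.leaf 0))) (.node (.node (.leaf 0) (.leaf 0)) (.node (.leaf 0) (.leaf 0))))) (.node (.node (.node (.node (.leaf 0) (.leaf 0)) (.node (.leaf 0) (.leaf 0))) (.node (.node (.leaf 0) (.leaf 0)) (.node (.leaf 0) (.leaf 0)))) (.node (.node (.node (.leaf 0) (.leaf 0)) (.node (.leaf 0) (.leaf 0))) (.node (.node (.leaf 0) (.leaf 0)) (.node (.leaf 0) (.leaf 0)))))) (.node (.node (.node (.node (.node (.leaf 0) (.leaf 0)) (.node (.leaf 0) (.leaf 0))) (.node (.node (.leaf 0) (.leaf 0)) (.node (.leaf 0) (.leaf 0)))) (.node (.node (.node (.leaf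 0) (.leaf 0)) (.node (.leaf 0) (.leaf 0))) (.node (.node (.leaf 0) (.leaf 0)) (.node (.leaf 0) (.leaf 0))))) (.node (.node (.node (.node (.leaf 0) (.leaf 0)) (.node (.leaf 0) (.leaf 0))) (.node (.node (.leaf 0) (.leaf 0)) (.node (.leaf 0) (.leaf 0)))) (.node (.node (.node (.leaf 0) (.leaf 0)) (.node (.leaf 0) (.leaf 0))) (.node (.node (.leaf 0) (.leaf 0)) (.node (.leaf 0) (.leaf 0)))))))

/-- A point of the block, part 994. -/
def ptCodePart994 : Janko1.Tree ℕ := (.node (.node (.node (.node (.node (.node (.leaf 0) (.leaf 0)) (.node (.leaf 0) (.leaf 0))) (.node (.node (.leaf 0) (.leaf 0)) (.node (.leaf 0) (.leaf 0)))) (.node (.node (.node (.leaf 0) (.leaf 0)) (.node (.leaf 0) (.leaf 0))) (.node (.node (.leaf 0) (.leaf 0)) (.node (.leaf 0) (.leaf 0))))) (.node (.node (.node (.node (.leaf 0) (.leaf 0)) (.node (.leaf 0) (.leaf 0))) (.node (.node (.leaf 0) (.leaf 0)) (.node (.leaf 0) (.leaf 0)))) (.node (.node (.node (.leaf 0) (.leaf 0)) (.node (.leaf 0) (.leaf 0))) (.node (.node (.leaf 0) (.leaf 0)) (.node (.leaf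 0) (.leaf 0)))))) (.node (.node (.node (.node (.node (.leaf 0) (.leaf 0)) (.node (.leaf 0) (.leaf 0))) (.node (.node (.leaf 0) (.leaf 0)) (.node (.leaf 0) (.leaf 0)))) (.node (.node (.node (.leaf 0) (.leaf 0)) (.node (.leaf 0) (.leaf 0))) (.node (.node (.leaf 0) (.leaf 0)) (.node (.leaf 0) (.leaf 0))))) (.node (.node (.node (.node (.leaf 0) (.leaf 0)) (.node (.leaf 0) (.leaf 0))) (.node (.node (.leaf 0) (.leaf 0)) (.node (.leaf 0) (.leaf 0)))) (.node (.node (.node (.leaf 0) (.leaf 0)) (.node (.leaf 0) (.leaf 0))) (.node (.node (.leaf 0) (.leaf 0)) (.node (.leaf 0) (.leaf 0)))))))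

/-- A point of the block, part 995. -/
def ptCodePart995 : Janko1.Tree ℕ := (.node (.node (.node (.node (.node (.node (.leaf 0) (.leaf 0)) (.node (.leaf 0) (.leaf 0))) (.node (.node (.leaf 0) (.leaf 0)) (.node (.leaf 0) (.leaf 0)))) (.node (.node (.node (.leaf 0) (.leaf 0)) (.node (.leaf 0) (.leaf 0))) (.node (.node (.leaf 0) (.leaf 0)) (.node (.leaf 0) (.leaf 0))))) (.node (.node (.node (.node (.leaf 0) (.leaf 0)) (.node (.leaf 0) (.leaf 0))) (.node (.node (.leaf 0) (.leaf 0)) (.node (.leaf 0) (.leaf 0)))) (.node (.node (.node (.leaf 0) (.leaf 0)) (.node (.leaf 0) (.leaf 0))) (.node (.node (.leaf 0) (.leaf 0)) (.node (.leaf 0) (.leaf 0)))))) (.node (.node (.node (.node (.node (.leaf 0) (.leaf 0)) (.node (.leaf 0) (.leaf 0))) (.node (.node (.leaf 0) (.leaf 0)) (.node (.leaf 0) (.leaf 0)))) (.node (.node (.node (.leaf 0) (.leaf 0)) (.node (.leaf 0) (.leaf 0))) (.node (.node (.leaf 0) (.leaf 0)) (.node (.leaf 0) (.leaf 0))))) (.node (.node (.node (.node (.leaf 0) (.leaf 0)) (.node (.leaf 0) (.leaf 0))) (.node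 (.node (.leaf 0) (.leaf 0)) (.node (.leaf 0) (.leaf 0)))) (.node (.node (.node (.leaf 0) (.leaf 0)) (.node (.leaf 0) (.leaf 0))) (.node (.node (.leaf 0) (.leaf 0)) (.node (.leaf 0) (.leaf 0)))))))

/-- A point of the block, part 996. -/
def ptCodePart996 : Janko1.Tree ℕ := (.node (.node (.node (.node (.node (.node (.leaf 0) (.leaf 0)) (.node (.leaf 0) (.leaf 0))) (.node (.node (.leaf 0) (.leaf 0)) (.node (.leaf 0) (.leaf 0)))) (.node (.node (.node (.leaf 0) (.leaf 0)) (.node (.leaf 0) (.leaf 0))) (.node (.node (.leaf 0) (.leaf 0)) (.node (.leaf 0) (.leaf 0))))) (.node (.node (.node (.node (.leaf 0) (.leaf 0)) (.node (.leaf 0) (.leaf 0))) (.node (.node (.leaf 0) (.leaf 0)) (.node (.leaf 0) (.leaf 0)))) (.node (.node (.node (.leaf 0) (.leaf 0)) (.node (.leaf 0) (.leaf 0))) (.node (.node (.leaf 0) (.leaf 0)) (.node (.leaf 0) (.leaf 0)))))) (.node (.node (.node (.node (.node (.leaf 0) (.leaf 0)) (.node (.leaf 0) (.leaf 0))) (.node (.node (.leaf 0) (.leaf 0)) (.node (.leaf 0) (.leaf 0)))) (.node (.node (.node (.leaf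 0) (.leaf 0)) (.node (.leaf 0) (.leaf 0))) (.node (.node (.leaf 0) (.leaf 0)) (.node (.leaf 0) (.leaf 0))))) (.node (.node (.node (.node (.leaf 0) (.leaf 0)) (.node (.leaf 0) (.leaf 0))) (.node (.node (.leaf 0) (.leaf 0)) (.node (.leaf 0) (.leaf 0)))) (.node (.node (.node (.leaf 0) (.leaf 0)) (.node (.leaf 0) (.leaf 0))) (.node (.node (.leaf 0) (.leaf 0)) (.node (.leaf 0) (.leaf 0)))))))

/-- A point of the block, part 997. -/
def ptCodePart997 : Janko1.Tree ℕ := (.node (.node (.node (.node (.node (.node (.leaf 0) (.leaf 0)) (.node (.leaf 0) (.leaf 0))) (.node (.node (.leaf 0) (.leaf 0)) (.node (.leaf 0) (.leaf 0)))) (.node (.node (.node (.leaf 0) (.leaf 0)) (.node (.leaf 0) (.leaf 0))) (.node (.node (.leaf 0) (.leaf 0)) (.node (.leaf 0) (.leaf 0))))) (.node (.node (.node (.node (.leaf 0) (.leaf 0)) (.node (.leaf 0) (.leaf 0))) (.node (.node (.leaf 0) (.leaf 0)) (.node (.leaf 0) (.leaf 0)))) (.node (.node (.node (.leaf 0) (.leaf 0)) (.node (.leaf 0) (.leaf 0))) (.node (.node (.leaf 0) (.leaf 0)) (.node (.leaf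 0) (.leaf 0)))))) (.node (.node (.node (.node (.node (.leaf 0) (.leaf 0)) (.node (.leaf 0) (.leaf 0))) (.node (.node (.leaf 0) (.leaf 0)) (.node (.leaf 0) (.leaf 0)))) (.node (.node (.node (.leaf 0) (.leaf 0)) (.node (.leaf 0) (.leaf 0))) (.node (.node (.leaf 0) (.leaf 0)) (.node (.leaf 0) (.leaf 0))))) (.node (.node (.node (.node (.leaf 0) (.leaf 0)) (.node (.leaf 0) (.leaf 0))) (.node (.node (.leaf 0) (.leaf 0)) (.node (.leaf 0) (.leaf 0)))) (.node (.node (.node (.leaf 0) (.leaf 0)) (.node (.leaf 0) (.leaf 0))) (.node (.node (.leaf 0) (.leaf 0)) (.node (.leaf 0) (.leaf 0)))))))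

/-- A point of the block, part 998. -/
def ptCodePart998 : Janko1.Tree ℕ := (.node (.node (.node (.node (.node (.node (.leaf 0) (.leaf 0)) (.node (.leaf 0) (.leaf 0))) (.node (.node (.leaf 0) (.leaf 0)) (.node (.leaf 0) (.leaf 0)))) (.node (.node (.node (.leaf 0) (.leaf 0)) (.node (.leaf 0) (.leaf 0))) (.node (.node (.leaf 0) (.leaf 0)) (.node (.leaf 0) (.leaf 0))))) (.node (.node (.node (.node (.leaf 0) (.leaf 0)) (.node (.leaf 0) (.leaf 0))) (.node (.node (.leaf 0) (.leaf 0)) (.node (.leaf 0) (.leaf 0)))) (.node (.node (.node (.leaf 0) (.leaf 0)) (.node (.leaf 0) (.leaf 0))) (.node (.node (.leaf 0) (.leaf 0)) (.node (.leaf 0) (.leaf 0)))))) (.node (.node (.node (.node (.node (.leaf 0) (.leaf 0)) (.node (.leaf 0) (.leaf 0))) (.node (.node (.leaf 0) (.leaf 0)) (.node (.leaf 0) (.leaf 0)))) (.node (.node (.node (.leaf 0) (.leaf 0)) (.node (.leaf 0) (.leaf 0))) (.node (.node (.leaf 0) (.leaf 0)) (.node (.leaf 0) (.leaf 0))))) (.node (.node (.node (.node (.leaf 0) (.leaf 0)) (.node (.leaf 0) (.leaf 0))) (.node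 (.node (.leaf 0) (.leaf 0)) (.node (.leaf 0) (.leaf 0)))) (.node (.node (.node (.leaf 0) (.leaf 0)) (.node (.leaf 0) (.leaf 0))) (.node (.node (.leaf 0) (.leaf 0)) (.node (.leaf 0) (.leaf 0)))))))

/-- A point of the block, part 999. -/
def ptCodePart999 : Janko1.Tree ℕ := (.node (.node (.node (.node (.node (.node (.leaf 0) (.leaf 0)) (.node (.leaf 0) (.leaf 0))) (.node (.node (.leaf 0) (.leaf 0)) (.node (.leaf 0) (.leaf 0)))) (.node (.node (.node (.leaf 0) (.leaf 0)) (.node (.leaf 0) (.leaf 0))) (.node (.node (.leaf 0) (.leaf 0)) (.node (.leaf 0) (.leaf 0))))) (.node (.node (.node (.node (.leaf 0) (.leaf 0)) (.node (.leaf 0) (.leaf 0))) (.node (.node (.leaf 0) (.leaf 0)) (.node (.leaf 0) (.leaf 0)))) (.node (.node (.node (.leaf 0) (.leaf 0)) (.node (.leaf 0) (.leaf 0))) (.node (.node (.leaf 0) (.leaf 0)) (.node (.leaf 0) (.leaf 0)))))) (.node (.node (.node (.node (.node (.leaf 0) (.leaf 0)) (.node (.leaf 0) (.leaf 0))) (.node (.node (.leaf 0) (.leaf 0)) (.node (.leaf 0) (.leaf 0)))) (.node (.node (.node (.leaf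 0) (.leaf 0)) (.node (.leaf 0) (.leaf 0))) (.node (.node (.leaf 0) (.leaf 0)) (.node (.leaf 0) (.leaf 0))))) (.node (.node (.node (.node (.leaf 0) (.leaf 0)) (.node (.leaf 0) (.leaf 0))) (.node (.node (.leaf 0) (.leaf 0)) (.node (.leaf 0) (.leaf 0)))) (.node (.node (.node (.leaf 0) (.leaf 0)) (.node (.leaf 0) (.leaf 0))) (.node (.node (.leaf 0) (.leaf 0)) (.node (.leaf 0) (.leaf 0)))))))

/-- A point of the block, part 1000. -/
def ptCodePart1000 : Janko1.Tree ℕ := (.node (.node (.node (.node (.node (.node (.leaf 0) (.leaf 0)) (.node (.leaf 0) (.leaf 0))) (.node (.node (.leaf 0) (.leaf 0)) (.node (.leaf 0) (.leaf 0)))) (.node (.node (.node (.leaf 0) (.leaf 0)) (.node (.leaf 0) (.leaf 0))) (.node (.node (.leaf 0) (.leaf 0)) (.node (.leaf 0) (.leaf 0))))) (.node (.node (.node (.node (.leaf 0) (.leaf 0)) (.node (.leaf 0) (.leaf 0))) (.node (.node (.leaf 0) (.leaf 0)) (.node (.leaf 0) (.leaf 0)))) (.node (.node (.node (.leaf 0) (.leaf 0)) (.node (.leaf 0) (.leaf 0))) (.node (.node (.leaf 0) (.leaf 0)) (.node (.leaf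 0) (.leaf 0)))))) (.node (.node (.node (.node (.node (.leaf 0) (.leaf 0)) (.node (.leaf 0) (.leaf 0))) (.node (.node (.leaf 0) (.leaf 0)) (.node (.leaf 0) (.leaf 0)))) (.node (.node (.node (.leaf 0) (.leaf 0)) (.node (.leaf 0) (.leaf 0))) (.node (.node (.leaf 0) (.leaf 0)) (.node (.leaf 0) (.leaf 0))))) (.node (.node (.node (.node (.leaf 0) (.leaf 0)) (.node (.leaf 0) (.leaf 0))) (.node (.node (.leaf 0) (.leaf 0)) (.node (.leaf 0) (.leaf 0)))) (.node (.node (.node (.leaf 0) (.leaf 0)) (.node (.leaf 0) (.leaf 0))) (.node (.node (.leaf 0) (.leaf 0)) (.node (.leaf 0) (.leaf 0)))))))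

/-- A point of the block, part 1001. -/
def ptCodePart1001 : Janko1.Tree ℕ := (.node (.node (.node (.node (.node (.node (.leaf 0) (.leaf 0)) (.node (.leaf 0) (.leaf 0))) (.node (.node (.leaf 0) (.leaf 0)) (.node (.leaf 0) (.leaf 0)))) (.node (.node (.node (.leaf 0) (.leaf 0)) (.node (.leaf 0) (.leaf 0))) (.node (.node (.leaf 0) (.leaf 0)) (.node (.leaf 0) (.leaf 0))))) (.node (.node (.node (.node (.leaf 0) (.leaf 0)) (.node (.leaf 0) (.leaf 0))) (.node (.node (.leaf 0) (.leaf 0)) (.node (.leaf 0) (.leaf 0)))) (.node (.node (.node (.leaf 0) (.leaf 0)) (.node (.leaf 0) (.leaf 0))) (.node (.node (.leaf 0) (.leaf 0)) (.node (.leaf 0) (.leaf 0)))))) (.node (.node (.node (.node (.node (.leaf 0) (.leaf 0)) (.node (.leaf 0) (.leaf 0))) (.node (.node (.leaf 0) (.leaf 0)) (.node (.leaf 0) (.leaf 0)))) (.node (.node (.node (.leaf 0) (.leaf 0)) (.node (.leaf 0) (.leaf 0))) (.node (.node (.leaf 0) (.leaf 0)) (.node (.leaf 0) (.leaf 0))))) (.node (.node (.node (.node (.leaf 0) (.leaf 0)) (.node (.leaf 0) (.leaf 0))) (.node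 (.node (.leaf 0) (.leaf 0)) (.node (.leaf 0) (.leaf 0)))) (.node (.node (.node (.leaf 0) (.leaf 0)) (.node (.leaf 0) (.leaf 0))) (.node (.node (.leaf 0) (.leaf 0)) (.node (.leaf 0) (.leaf 0)))))))

/-- A point of the block, part 1002. -/
def ptCodePart1002 : Janko1.Tree ℕ := (.node (.node (.node (.node (.node (.node (.leaf 0) (.leaf 0)) (.node (.leaf 0) (.leaf 0))) (.node (.node (.leaf 0) (.leaf 0)) (.node (.leaf 0) (.leaf 0)))) (.node (.node (.node (.leaf 0) (.leaf 0)) (.node (.leaf 0) (.leaf 0))) (.node (.node (.leaf 0) (.leaf 0)) (.node (.leaf 0) (.leaf 0))))) (.node (.node (.node (.node (.leaf 0) (.leaf 0)) (.node (.leaf 0) (.leaf 0))) (.node (.node (.leaf 0) (.leaf 0)) (.node (.leaf 0) (.leaf 0)))) (.node (.node (.node (.leaf 0) (.leaf 0)) (.node (.leaf 0) (.leaf 0))) (.node (.node (.leaf 0) (.leaf 0)) (.node (.leaf 0) (.leaf 0)))))) (.node (.node (.node (.node (.node (.leaf 0) (.leaf 0)) (.node (.leaf 0) (.leaf 0))) (.node (.node (.leaf 0) (.leaf 0)) (.node (.leaf 0) (.leaf 0)))) (.node (.node (.node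 (.leaf 0) (.leaf 0)) (.node (.leaf 0) (.leaf 0))) (.node (.node (.leaf 0) (.leaf 0)) (.node (.leaf 0) (.leaf 0))))) (.node (.node (.node (.node (.leaf 0) (.leaf 0)) (.node (.leaf 0) (.leaf 0))) (.node (.node (.leaf 0) (.leaf 0)) (.node (.leaf 0) (.leaf 0)))) (.node (.node (.node (.leaf 0) (.leaf 0)) (.node (.leaf 0) (.leaf 0))) (.node (.node (.leaf 0) (.leaf 0)) (.node (.leaf 0) (.leaf 0)))))))

/-- A point of the block, part 1003. -/
def ptCodePart1003 : Janko1.Tree ℕ := (.node (.node (.node (.node (.node (.node (.leaf 0) (.leaf 0)) (.node (.leaf 0) (.leaf 0))) (.node (.node (.leaf 0) (.leaf 0)) (.node (.leaf 0) (.leaf 0)))) (.node (.node (.node (.leaf 0) (.leaf 0)) (.node (.leaf 0) (.leaf 0))) (.node (.node (.leaf 0) (.leaf 0)) (.node (.leaf 0) (.leaf 0))))) (.node (.node (.node (.node (.leaf 0) (.leaf 0)) (.node (.leaf 0) (.leaf 0))) (.node (.node (.leaf 0) (.leaf 0)) (.node (.leaf 0) (.leaf 0)))) (.node (.node (.node (.leaf 0) (.leaf 0)) (.node (.leaf 0) (.leaf 0))) (.node (.node (.leaf 0) (.leaf 0)) (.node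 (.leaf 0) (.leaf 0)))))) (.node (.node (.node (.node (.node (.leaf 0) (.leaf 0)) (.node (.leaf 0) (.leaf 0))) (.node (.node (.leaf 0) (.leaf 0)) (.node (.leaf 0) (.leaf 0)))) (.node (.node (.node (.leaf 0) (.leaf 0)) (.node (.leaf 0) (.leaf 0))) (.node (.node (.leaf 0) (.leaf 0)) (.node (.leaf 0) (.leaf 0))))) (.node (.node (.node (.node (.leaf 0) (.leaf 0)) (.node (.leaf 0) (.leaf 0))) (.node (.node (.leaf 0) (.leaf 0)) (.node (.leaf 0) (.leaf 0)))) (.node (.node (.node (.leaf 0) (.leaf 0)) (.node (.leaf 0) (.leaf 0))) (.node (.node (.leaf 0) (.leaf 0)) (.node (.leaf 0) (.leaf 0)))))))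

/-- A point of the block, part 1004. -/
def ptCodePart1004 : Janko1.Tree ℕ := (.node (.node (.node (.node (.node (.node (.leaf 0) (.leaf 0)) (.node (.leaf 0) (.leaf 0))) (.node (.node (.leaf 0) (.leaf 0)) (.node (.leaf 0) (.leaf 0)))) (.node (.node (.node (.leaf 0) (.leaf 0)) (.node (.leaf 0) (.leaf 0))) (.node (.node (.leaf 0) (.leaf 0)) (.node (.leaf 0) (.leaf 0))))) (.node (.node (.node (.node (.leaf 0) (.leaf 0)) (.node (.leaf 0) (.leaf 0))) (.node (.node (.leaf 0) (.leaf 0)) (.node (.leaf 0) (.leaf 0)))) (.node (.node (.node (.leaf 0) (.leaf 0)) (.node (.leaf 0) (.leaf 0))) (.node (.node (.leaf 0) (.leaf 0)) (.node (.leaf 0) (.leaf 0)))))) (.node (.node (.node (.node (.node (.leaf 0) (.leaf 0)) (.node (.leaf 0) (.leaf 0))) (.node (.node (.leaf 0) (.leaf 0)) (.node (.leaf 0) (.leaf 0)))) (.node (.node (.node (.leaf 0) (.leaf 0)) (.node (.leaf 0) (.leaf 0))) (.node (.node (.leaf 0) (.leaf 0)) (.node (.leaf 0) (.leaf 0))))) (.node (.node (.node (.node (.leaf 0) (.leaf 0)) (.node (.leaf 0) (.leaf 0))) (.node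 (.node (.leaf 0) (.leaf 0)) (.node (.leaf 0) (.leaf 0)))) (.node (.node (.node (.leaf 0) (.leaf 0)) (.node (.leaf 0) (.leaf 0))) (.node (.node (.leaf 0) (.leaf 0)) (.node (.leaf 0) (.leaf 0)))))))

/-- A point of the block, part 1005. -/
def ptCodePart1005 : Janko1.Tree ℕ := (.node (.node (.node (.node (.node (.node (.leaf 0) (.leaf 0)) (.node (.leaf 0) (.leaf 0))) (.node (.node (.leaf 0) (.leaf 0)) (.node (.leaf 0) (.leaf 0)))) (.node (.node (.node (.leaf 0) (.leaf 0)) (.node (.leaf 0) (.leaf 0))) (.node (.node (.leaf 0) (.leaf 0)) (.node (.leaf 0) (.leaf 0))))) (.node (.node (.node (.node (.leaf 0) (.leaf 0)) (.node (.leaf 0) (.leaf 0))) (.node (.node (.leaf 0) (.leaf 0)) (.node (.leaf 0) (.leaf 0)))) (.node (.node (.node (.leaf 0) (.leaf 0)) (.node (.leaf 0) (.leaf 0))) (.node (.node (.leaf 0) (.leaf 0)) (.node (.leaf 0) (.leaf 0)))))) (.node (.node (.node (.node (.node (.leaf 0) (.leaf 0)) (.node (.leaf 0) (.leaf 0))) (.node (.node (.leaf 0) (.leaf 0)) (.node (.leaf 0) (.leaf 0)))) (.node (.node (.node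 (.leaf 0) (.leaf 0)) (.node (.leaf 0) (.leaf 0))) (.node (.node (.leaf 0) (.leaf 0)) (.node (.leaf 0) (.leaf 0))))) (.node (.node (.node (.node (.leaf 0) (.leaf 0)) (.node (.leaf 0) (.leaf 0))) (.node (.node (.leaf 0) (.leaf 0)) (.node (.leaf 0) (.leaf 0)))) (.node (.node (.node (.leaf 0) (.leaf 0)) (.node (.leaf 0) (.leaf 0))) (.node (.node (.leaf 0) (.leaf 0)) (.node (.leaf 0) (.leaf 0)))))))

/-- A point of the block, part 1006. -/
def ptCodePart1006 : Janko1.Tree ℕ := (.node (.node (.node (.node (.node (.node (.leaf 0) (.leaf 0)) (.node (.leaf 0) (.leaf 0))) (.node (.node (.leaf 0) (.leaf 0)) (.node (.leaf 0) (.leaf 0)))) (.node (.node (.node (.leaf 0) (.leaf 0)) (.node (.leaf 0) (.leaf 0))) (.node (.node (.leaf 0) (.leaf 0)) (.node (.leaf 0) (.leaf 0))))) (.node (.node (.node (.node (.leaf 0) (.leaf 0)) (.node (.leaf 0) (.leaf 0))) (.node (.node (.leaf 0) (.leaf 0)) (.node (.leaf 0) (.leaf 0)))) (.node (.node (.node (.leaf 0) (.leaf 0)) (.node (.leaf 0) (.leaf 0))) (.node (.node (.leaf 0) (.leaf 0)) (.node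 (.leaf 0) (.leaf 0)))))) (.node (.node (.node (.node (.node (.leaf 0) (.leaf 0)) (.node (.leaf 0) (.leaf 0))) (.node (.node (.leaf 0) (.leaf 0)) (.node (.leaf 0) (.leaf 0)))) (.node (.node (.node (.leaf 0) (.leaf 0)) (.node (.leaf 0) (.leaf 0))) (.node (.node (.leaf 0) (.leaf 0)) (.node (.leaf 0) (.leaf 0))))) (.node (.node (.node (.node (.leaf 0) (.leaf 0)) (.node (.leaf 0) (.leaf 0))) (.node (.node (.leaf 0) (.leaf 0)) (.node (.leaf 0) (.leaf 0)))) (.node (.node (.node (.leaf 0) (.leaf 0)) (.node (.leaf 0) (.leaf 0))) (.node (.node (.leaf 0) (.leaf 0)) (.node (.leaf 0) (.leaf 0)))))))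

/-- A point of the block, part 1007. -/
def ptCodePart1007 : Janko1.Tree ℕ := (.node (.node (.node (.node (.node (.node (.leaf 0) (.leaf 0)) (.node (.leaf 0) (.leaf 0))) (.node (.node (.leaf 0) (.leaf 0)) (.node (.leaf 0) (.leaf 0)))) (.node (.node (.node (.leaf 0) (.leaf 0)) (.node (.leaf 0) (.leaf 0))) (.node (.node (.leaf 0) (.leaf 0)) (.node (.leaf 0) (.leaf 0))))) (.node (.node (.node (.node (.leaf 0) (.leaf 0)) (.node (.leaf 0) (.leaf 0))) (.node (.node (.leaf 0) (.leaf 0)) (.node (.leaf 0) (.leaf 0)))) (.node (.node (.node (.leaf 0) (.leaf 0)) (.node (.leaf 0) (.leaf 0))) (.node (.node (.leaf 0) (.leaf 0)) (.node (.leaf 0) (.leaf 0)))))) (.node (.node (.node (.node (.node (.leaf 0) (.leaf 0)) (.node (.leaf 0) (.leaf 0))) (.node (.node (.leaf 0) (.leaf 0)) (.node (.leaf 0) (.leaf 0)))) (.node (.node (.node (.leaf 0) (.leaf 0)) (.node (.leaf 0) (.leaf 0))) (.node (.node (.leaf 0) (.leaf 0)) (.node (.leaf 0) (.leaf 0))))) (.node (.node (.node (.node (.leaf 0) (.leaf 0)) (.node (.leaf 0) (.leaf 0))) (.node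 (.node (.leaf 0) (.leaf 0)) (.node (.leaf 0) (.leaf 0)))) (.node (.node (.node (.leaf 0) (.leaf 0)) (.node (.leaf 0) (.leaf 0))) (.node (.node (.leaf 0) (.leaf 0)) (.node (.leaf 0) (.leaf 0)))))))

/-- A point of the block, part 1008. -/
def ptCodePart1008 : Janko1.Tree ℕ := (.node (.node (.node (.node (.node (.node (.leaf 0) (.leaf 0)) (.node (.leaf 0) (.leaf 0))) (.node (.node (.leaf 0) (.leaf 0)) (.node (.leaf 0) (.leaf 0)))) (.node (.node (.node (.leaf 0) (.leaf 0)) (.node (.leaf 0) (.leaf 0))) (.node (.node (.leaf 0) (.leaf 0)) (.node (.leaf 0) (.leaf 0))))) (.node (.node (.node (.node (.leaf 0) (.leaf 0)) (.node (.leaf 0) (.leaf 0))) (.node (.node (.leaf 0) (.leaf 0)) (.node (.leaf 0) (.leaf 0)))) (.node (.node (.node (.leaf 0) (.leaf 0)) (.node (.leaf 0) (.leaf 0))) (.node (.node (.leaf 0) (.leaf 0)) (.node (.leaf 0) (.leaf 0)))))) (.node (.node (.node (.node (.node (.leaf 0) (.leaf 0)) (.node (.leaf 0) (.leaf 0))) (.node (.node (.leaf 0) (.leaf 0)) (.node (.leaf 0) (.leaf 0)))) (.node (.node (.node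 (.leaf 0) (.leaf 0)) (.node (.leaf 0) (.leaf 0))) (.node (.node (.leaf 0) (.leaf 0)) (.node (.leaf 0) (.leaf 0))))) (.node (.node (.node (.node (.leaf 0) (.leaf 0)) (.node (.leaf 0) (.leaf 0))) (.node (.node (.leaf 0) (.leaf 0)) (.node (.leaf 0) (.leaf 0)))) (.node (.node (.node (.leaf 0) (.leaf 0)) (.node (.leaf 0) (.leaf 0))) (.node (.node (.leaf 0) (.leaf 0)) (.node (.leaf 0) (.leaf 0)))))))

/-- A point of the block, part 1009. -/
def ptCodePart1009 : Janko1.Tree ℕ := (.node (.node (.node (.node (.node (.node (.leaf 0) (.leaf 0)) (.node (.leaf 0) (.leaf 0))) (.node (.node (.leaf 0) (.leaf 0)) (.node (.leaf 0) (.leaf 0)))) (.node (.node (.node (.leaf 0) (.leaf 0)) (.node (.leaf 0) (.leaf 0))) (.node (.node (.leaf 0) (.leaf 0)) (.node (.leaf 0) (.leaf 0))))) (.node (.node (.node (.node (.leaf 0) (.leaf 0)) (.node (.leaf 0) (.leaf 0))) (.node (.node (.leaf 0) (.leaf 0)) (.node (.leaf 0) (.leaf 0)))) (.node (.node (.node (.leaf 0) (.leaf 0)) (.node (.leaf 0) (.leaf 0))) (.node (.node (.leaf 0) (.leaf 0)) (.node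 (.leaf 0) (.leaf 0)))))) (.node (.node (.node (.node (.node (.leaf 0) (.leaf 0)) (.node (.leaf 0) (.leaf 0))) (.node (.node (.leaf 0) (.leaf 0)) (.node (.leaf 0) (.leaf 0)))) (.node (.node (.node (.leaf 0) (.leaf 0)) (.node (.leaf 0) (.leaf 0))) (.node (.node (.leaf 0) (.leaf 0)) (.node (.leaf 0) (.leaf 0))))) (.node (.node (.node (.node (.leaf 0) (.leaf 0)) (.node (.leaf 0) (.leaf 0))) (.node (.node (.leaf 0) (.leaf 0)) (.node (.leaf 0) (.leaf 0)))) (.node (.node (.node (.leaf 0) (.leaf 0)) (.node (.leaf 0) (.leaf 0))) (.node (.node (.leaf 0) (.leaf 0)) (.node (.leaf 0) (.leaf 0)))))))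

/-- A point of the block, part 1010. -/
def ptCodePart1010 : Janko1.Tree ℕ := (.node (.node (.node (.node (.node (.node (.leaf 0) (.leaf 0)) (.node (.leaf 0) (.leaf 0))) (.node (.node (.leaf 0) (.leaf 0)) (.node (.leaf 0) (.leaf 0)))) (.node (.node (.node (.leaf 0) (.leaf 0)) (.node (.leaf 0) (.leaf 0))) (.node (.node (.leaf 0) (.leaf 0)) (.node (.leaf 0) (.leaf 0))))) (.node (.node (.node (.node (.leaf 0) (.leaf 0)) (.node (.leaf 0) (.leaf 0))) (.node (.node (.leaf 0) (.leaf 0)) (.node (.leaf 0) (.leaf 0)))) (.node (.node (.node (.leaf 0) (.leaf 0)) (.node (.leaf 0) (.leaf 0))) (.node (.node (.leaf 0) (.leaf 0)) (.node (.leaf 0) (.leaf 0)))))) (.node (.node (.node (.node (.node (.leaf 0) (.leaf 0)) (.node (.leaf 0) (.leaf 0))) (.node (.node (.leaf 0) (.leaf 0)) (.node (.leaf 0) (.leaf 0)))) (.node (.node (.node (.leaf 0) (.leaf 0)) (.node (.leaf 0) (.leaf 0))) (.node (.node (.leaf 0) (.leaf 0)) (.node (.leaf 0) (.leaf 0))))) (.node (.node (.node (.node (.leaf 0) (.leaf 0)) (.node (.leaf 0) (.leaf 0))) (.node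 (.node (.leaf 0) (.leaf 0)) (.node (.leaf 0) (.leaf 0)))) (.node (.node (.node (.leaf 0) (.leaf 0)) (.node (.leaf 0) (.leaf 0))) (.node (.node (.leaf 0) (.leaf 0)) (.node (.leaf 0) (.leaf 0)))))))

/-- A point of the block, part 1011. -/
def ptCodePart1011 : Janko1.Tree ℕ := (.node (.node (.node (.node (.node (.node (.leaf 0) (.leaf 0)) (.node (.leaf 0) (.leaf 0))) (.node (.node (.leaf 0) (.leaf 0)) (.node (.leaf 0) (.leaf 0)))) (.node (.node (.node (.leaf 0) (.leaf 0)) (.node (.leaf 0) (.leaf 0))) (.node (.node (.leaf 0) (.leaf 0)) (.node (.leaf 0) (.leaf 0))))) (.node (.node (.node (.node (.leaf 0) (.leaf 0)) (.node (.leaf 0) (.leaf 0))) (.node (.node (.leaf 0) (.leaf 0)) (.node (.leaf 0) (.leaf 0)))) (.node (.node (.node (.leaf 0) (.leaf 0)) (.node (.leaf 0) (.leaf 0))) (.node (.node (.leaf 0) (.leaf 0)) (.node (.leaf 0) (.leaf 0)))))) (.node (.node (.node (.node (.node (.leaf 0) (.leaf 0)) (.node (.leaf 0) (.leaf 0))) (.node (.node (.leaf 0) (.leaf 0)) (.node (.leaf 0) (.leaf 0)))) (.node (.node (.node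 (.leaf 0) (.leaf 0)) (.node (.leaf 0) (.leaf 0))) (.node (.node (.leaf 0) (.leaf 0)) (.node (.leaf 0) (.leaf 0))))) (.node (.node (.node (.node (.leaf 0) (.leaf 0)) (.node (.leaf 0) (.leaf 0))) (.node (.node (.leaf 0) (.leaf 0)) (.node (.leaf 0) (.leaf 0)))) (.node (.node (.node (.leaf 0) (.leaf 0)) (.node (.leaf 0) (.leaf 0))) (.node (.node (.leaf 0) (.leaf 0)) (.node (.leaf 0) (.leaf 0)))))))

/-- A point of the block, part 1012. -/
def ptCodePart1012 : Janko1.Tree ℕ := (.node (.node (.node (.node (.node (.node (.leaf 0) (.leaf 0)) (.node (.leaf 0) (.leaf 0))) (.node (.node (.leaf 0) (.leaf 0)) (.node (.leaf 0) (.leaf 0)))) (.node (.node (.node (.leaf 0) (.leaf 0)) (.node (.leaf 0) (.leaf 0))) (.node (.node (.leaf 0) (.leaf 0)) (.node (.leaf 0) (.leaf 0))))) (.node (.node (.node (.node (.leaf 0) (.leaf 0)) (.node (.leaf 0) (.leaf 0))) (.node (.node (.leaf 0) (.leaf 0)) (.node (.leaf 0) (.leaf 0)))) (.node (.node (.node (.leaf 0) (.leaf 0)) (.node (.leaf 0) (.leaf 0))) (.node (.node (.leaf 0) (.leaf 0)) (.node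 (.leaf 0) (.leaf 0)))))) (.node (.node (.node (.node (.node (.leaf 0) (.leaf 0)) (.node (.leaf 0) (.leaf 0))) (.node (.node (.leaf 0) (.leaf 0)) (.node (.leaf 0) (.leaf 0)))) (.node (.node (.node (.leaf 0) (.leaf 0)) (.node (.leaf 0) (.leaf 0))) (.node (.node (.leaf 0) (.leaf 0)) (.node (.leaf 0) (.leaf 0))))) (.node (.node (.node (.node (.leaf 0) (.leaf 0)) (.node (.leaf 0) (.leaf 0))) (.node (.node (.leaf 0) (.leaf 0)) (.node (.leaf 0) (.leaf 0)))) (.node (.node (.node (.leaf 0) (.leaf 0)) (.node (.leaf 0) (.leaf 0))) (.node (.node (.leaf 0) (.leaf 0)) (.node (.leaf 0) (.leaf 0)))))))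

/-- A point of the block, part 1013. -/
def ptCodePart1013 : Janko1.Tree ℕ := (.node (.node (.node (.node (.node (.node (.leaf 0) (.leaf 0)) (.node (.leaf 0) (.leaf 0))) (.node (.node (.leaf 0) (.leaf 0)) (.node (.leaf 0) (.leaf 0)))) (.node (.node (.node (.leaf 0) (.leaf 0)) (.node (.leaf 0) (.leaf 0))) (.node (.node (.leaf 0) (.leaf 0)) (.node (.leaf 0) (.leaf 0))))) (.node (.node (.node (.node (.leaf 0) (.leaf 0)) (.node (.leaf 0) (.leaf 0))) (.node (.node (.leaf 0) (.leaf 0)) (.node (.leaf 0) (.leaf 0)))) (.node (.node (.node (.leaf 0) (.leaf 0)) (.node (.leaf 0) (.leaf 0))) (.node (.node (.leaf 0) (.leaf 0)) (.node (.leaf 0) (.leaf 0)))))) (.node (.node (.node (.node (.node (.leaf 0) (.leaf 0)) (.node (.leaf 0) (.leaf 0))) (.node (.node (.leaf 0) (.leaf 0)) (.node (.leaf 0) (.leaf 0)))) (.node (.node (.node (.leaf 0) (.leaf 0)) (.node (.leaf 0) (.leaf 0))) (.node (.node (.leaf 0) (.leaf 0)) (.node (.leaf 0) (.leaf 0))))) (.node (.node (.node (.node (.leaf 0) (.leaf 0)) (.node (.leaf 0) (.leaf 0))) (.node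 (.node (.leaf 0) (.leaf 0)) (.node (.leaf 0) (.leaf 0)))) (.node (.node (.node (.leaf 0) (.leaf 0)) (.node (.leaf 0) (.leaf 0))) (.node (.node (.leaf 0) (.leaf 0)) (.node (.leaf 0) (.leaf 0)))))))

/-- A point of the block, part 1014. -/
def ptCodePart1014 : Janko1.Tree ℕ := (.node (.node (.node (.node (.node (.node (.leaf 0) (.leaf 0)) (.node (.leaf 0) (.leaf 0))) (.node (.node (.leaf 0) (.leaf 0)) (.node (.leaf 0) (.leaf 0)))) (.node (.node (.node (.leaf 0) (.leaf 0)) (.node (.leaf 0) (.leaf 0))) (.node (.node (.leaf 0) (.leaf 0)) (.node (.leaf 0) (.leaf 0))))) (.node (.node (.node (.node (.leaf 0) (.leaf 0)) (.node (.leaf 0) (.leaf 0))) (.node (.node (.leaf 0) (.leaf 0)) (.node (.leaf 0) (.leaf 0)))) (.node (.node (.node (.leaf 0) (.leaf 0)) (.node (.leaf 0) (.leaf 0))) (.node (.node (.leaf 0) (.leaf 0)) (.node (.leaf 0) (.leaf 0)))))) (.node (.node (.node (.node (.node (.leaf 0) (.leaf 0)) (.node (.leaf 0) (.leaf 0))) (.node (.node (.leaf 0) (.leaf 0)) (.node (.leaf 0) (.leaf 0)))) (.node (.node (.node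 (.leaf 0) (.leaf 0)) (.node (.leaf 0) (.leaf 0))) (.node (.node (.leaf 0) (.leaf 0)) (.node (.leaf 0) (.leaf 0))))) (.node (.node (.node (.node (.leaf 0) (.leaf 0)) (.node (.leaf 0) (.leaf 0))) (.node (.node (.leaf 0) (.leaf 0)) (.node (.leaf 0) (.leaf 0)))) (.node (.node (.node (.leaf 0) (.leaf 0)) (.node (.leaf 0) (.leaf 0))) (.node (.node (.leaf 0) (.leaf 0)) (.node (.leaf 0) (.leaf 0)))))))

/-- A point of the block, part 1015. -/
def ptCodePart1015 : Janko1.Tree ℕ := (.node (.node (.node (.node (.node (.node (.leaf 0) (.leaf 0)) (.node (.leaf 0) (.leaf 0))) (.node (.node (.leaf 0) (.leaf 0)) (.node (.leaf 0) (.leaf 0)))) (.node (.node (.node (.leaf 0) (.leaf 0)) (.node (.leaf 0) (.leaf 0))) (.node (.node (.leaf 0) (.leaf 0)) (.node (.leaf 0) (.leaf 0))))) (.node (.node (.node (.node (.leaf 0) (.leaf 0)) (.node (.leaf 0) (.leaf 0))) (.node (.node (.leaf 0) (.leaf 0)) (.node (.leaf 0) (.leaf 0)))) (.node (.node (.node (.leaf 0) (.leaf 0)) (.node (.leaf 0) (.leaf 0))) (.node (.node (.leaf 0) (.leaf 0)) (.node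 (.leaf 0) (.leaf 0)))))) (.node (.node (.node (.node (.node (.leaf 0) (.leaf 0)) (.node (.leaf 0) (.leaf 0))) (.node (.node (.leaf 0) (.leaf 0)) (.node (.leaf 0) (.leaf 0)))) (.node (.node (.node (.leaf 0) (.leaf 0)) (.node (.leaf 0) (.leaf 0))) (.node (.node (.leaf 0) (.leaf 0)) (.node (.leaf 0) (.leaf 0))))) (.node (.node (.node (.node (.leaf 0) (.leaf 0)) (.node (.leaf 0) (.leaf 0))) (.node (.node (.leaf 0) (.leaf 0)) (.node (.leaf 0) (.leaf 0)))) (.node (.node (.node (.leaf 0) (.leaf 0)) (.node (.leaf 0) (.leaf 0))) (.node (.node (.leaf 0) (.leaf 0)) (.node (.leaf 0) (.leaf 0)))))))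

/-- A point of the block, part 1016. -/
def ptCodePart1016 : Janko1.Tree ℕ := (.node (.node (.node (.node (.node (.node (.leaf 0) (.leaf 0)) (.node (.leaf 0) (.leaf 0))) (.node (.node (.leaf 0) (.leaf 0)) (.node (.leaf 0) (.leaf 0)))) (.node (.node (.node (.leaf 0) (.leaf 0)) (.node (.leaf 0) (.leaf 0))) (.node (.node (.leaf 0) (.leaf 0)) (.node (.leaf 0) (.leaf 0))))) (.node (.node (.node (.node (.leaf 0) (.leaf 0)) (.node (.leaf 0) (.leaf 0))) (.node (.node (.leaf 0) (.leaf 0)) (.node (.leaf 0) (.leaf 0)))) (.node (.node (.node (.leaf 0) (.leaf 0)) (.node (.leaf 0) (.leaf 0))) (.node (.node (.leaf 0) (.leaf 0)) (.node (.leaf 0) (.leaf 0)))))) (.node (.node (.node (.node (.node (.leaf 0) (.leaf 0)) (.node (.leaf 0) (.leaf 0))) (.node (.node (.leaf 0) (.leaf 0)) (.node (.leaf 0) (.leaf 0)))) (.node (.node (.node (.leaf 0) (.leaf 0)) (.node (.leaf 0) (.leaf 0))) (.node (.node (.leaf 0) (.leaf 0)) (.node (.leaf 0) (.leaf 0))))) (.node (.node (.node (.node (.leaf 0) (.leaf 0)) (.node (.leaf 0) (.leaf 0))) (.node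 (.node (.leaf 0) (.leaf 0)) (.node (.leaf 0) (.leaf 0)))) (.node (.node (.node (.leaf 0) (.leaf 0)) (.node (.leaf 0) (.leaf 0))) (.node (.node (.leaf 0) (.leaf 0)) (.node (.leaf 0) (.leaf 0)))))))

/-- A point of the block, part 1017. -/
def ptCodePart1017 : Janko1.Tree ℕ := (.node (.node (.node (.node (.node (.node (.leaf 0) (.leaf 0)) (.node (.leaf 0) (.leaf 0))) (.node (.node (.leaf 0) (.leaf 0)) (.node (.leaf 0) (.leaf 0)))) (.node (.node (.node (.leaf 0) (.leaf 0)) (.node (.leaf 0) (.leaf 0))) (.node (.node (.leaf 0) (.leaf 0)) (.node (.leaf 0) (.leaf 0))))) (.node (.node (.node (.node (.leaf 0) (.leaf 0)) (.node (.leaf 0) (.leaf 0))) (.node (.node (.leaf 0) (.leaf 0)) (.node (.leaf 0) (.leaf 0)))) (.node (.node (.node (.leaf 0) (.leaf 0)) (.node (.leaf 0) (.leaf 0))) (.node (.node (.leaf 0) (.leaf 0)) (.node (.leaf 0) (.leaf 0)))))) (.node (.node (.node (.node (.node (.leaf 0) (.leaf 0)) (.node (.leaf 0) (.leaf 0))) (.node (.node (.leaf 0) (.leaf 0)) (.node (.leaf 0) (.leaf 0)))) (.node (.node (.node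 (.leaf 0) (.leaf 0)) (.node (.leaf 0) (.leaf 0))) (.node (.node (.leaf 0) (.leaf 0)) (.node (.leaf 0) (.leaf 0))))) (.node (.node (.node (.node (.leaf 0) (.leaf 0)) (.node (.leaf 0) (.leaf 0))) (.node (.node (.leaf 0) (.leaf 0)) (.node (.leaf 0) (.leaf 0)))) (.node (.node (.node (.leaf 0) (.leaf 0)) (.node (.leaf 0) (.leaf 0))) (.node (.node (.leaf 0) (.leaf 0)) (.node (.leaf 0) (.leaf 0)))))))

/-- A point of the block, part 1018. -/
def ptCodePart1018 : Janko1.Tree ℕ := (.node (.node (.node (.node (.node (.node (.leaf 0) (.leaf 0)) (.node (.leaf 0) (.leaf 0))) (.node (.node (.leaf 0) (.leaf 0)) (.node (.leaf 0) (.leaf 0)))) (.node (.node (.node (.leaf 0) (.leaf 0)) (.node (.leaf 0) (.leaf 0))) (.node (.node (.leaf 0) (.leaf 0)) (.node (.leaf 0) (.leaf 0))))) (.node (.node (.node (.node (.leaf 0) (.leaf 0)) (.node (.leaf 0) (.leaf 0))) (.node (.node (.leaf 0) (.leaf 0)) (.node (.leaf 0) (.leaf 0)))) (.node (.node (.node (.leaf 0) (.leaf 0)) (.node (.leaf 0) (.leaf 0))) (.node (.node (.leaf 0) (.leaf 0)) (.node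 (.leaf 0) (.leaf 0)))))) (.node (.node (.node (.node (.node (.leaf 0) (.leaf 0)) (.node (.leaf 0) (.leaf 0))) (.node (.node (.leaf 0) (.leaf 0)) (.node (.leaf 0) (.leaf 0)))) (.node (.node (.node (.leaf 0) (.leaf 0)) (.node (.leaf 0) (.leaf 0))) (.node (.node (.leaf 0) (.leaf 0)) (.node (.leaf 0) (.leaf 0))))) (.node (.node (.node (.node (.leaf 0) (.leaf 0)) (.node (.leaf 0) (.leaf 0))) (.node (.node (.leaf 0) (.leaf 0)) (.node (.leaf 0) (.leaf 0)))) (.node (.node (.node (.leaf 0) (.leaf 0)) (.node (.leaf 0) (.leaf 0))) (.node (.node (.leaf 0) (.leaf 0)) (.node (.leaf 0) (.leaf 0)))))))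

/-- A point of the block, part 1019. -/
def ptCodePart1019 : Janko1.Tree ℕ := (.node (.node (.node (.node (.node (.node (.leaf 0) (.leaf 0)) (.node (.leaf 0) (.leaf 0))) (.node (.node (.leaf 0) (.leaf 0)) (.node (.leaf 0) (.leaf 0)))) (.node (.node (.node (.leaf 0) (.leaf 0)) (.node (.leaf 0) (.leaf 0))) (.node (.node (.leaf 0) (.leaf 0)) (.node (.leaf 0) (.leaf 0))))) (.node (.node (.node (.node (.leaf 0) (.leaf 0)) (.node (.leaf 0) (.leaf 0))) (.node (.node (.leaf 0) (.leaf 0)) (.node (.leaf 0) (.leaf 0)))) (.node (.node (.node (.leaf 0) (.leaf 0)) (.node (.leaf 0) (.leaf 0))) (.node (.node (.leaf 0) (.leaf 0)) (.node (.leaf 0) (.leaf 0)))))) (.node (.node (.node (.node (.node (.leaf 0) (.leaf 0)) (.node (.leaf 0) (.leaf 0))) (.node (.node (.leaf 0) (.leaf 0)) (.node (.leaf 0) (.leaf 0)))) (.node (.node (.node (.leaf 0) (.leaf 0)) (.node (.leaf 0) (.leaf 0))) (.node (.node (.leaf 0) (.leaf 0)) (.node (.leaf 0) (.leaf 0))))) (.node (.node (.node (.node (.leaf 0) (.leaf 0)) (.node (.leaf 0) (.leaf 0))) (.node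 (.node (.leaf 0) (.leaf 0)) (.node (.leaf 0) (.leaf 0)))) (.node (.node (.node (.leaf 0) (.leaf 0)) (.node (.leaf 0) (.leaf 0))) (.node (.node (.leaf 0) (.leaf 0)) (.node (.leaf 0) (.leaf 0)))))))

/-- A point of the block, part 1020. -/
def ptCodePart1020 : Janko1.Tree ℕ := (.node (.node (.node (.node (.node (.node (.leaf 0) (.leaf 0)) (.node (.leaf 0) (.leaf 0))) (.node (.node (.leaf 0) (.leaf 0)) (.node (.leaf 0) (.leaf 0)))) (.node (.node (.node (.leaf 0) (.leaf 0)) (.node (.leaf 0) (.leaf 0))) (.node (.node (.leaf 0) (.leaf 0)) (.node (.leaf 0) (.leaf 0))))) (.node (.node (.node (.node (.leaf 0) (.leaf 0)) (.node (.leaf 0) (.leaf 0))) (.node (.node (.leaf 0) (.leaf 0)) (.node (.leaf 0) (.leaf 0)))) (.node (.node (.node (.leaf 0) (.leaf 0)) (.node (.leaf 0) (.leaf 0))) (.node (.node (.leaf 0) (.leaf 0)) (.node (.leaf 0) (.leaf 0)))))) (.node (.node (.node (.node (.node (.leaf 0) (.leaf 0)) (.node (.leaf 0) (.leaf 0))) (.node (.node (.leaf 0) (.leaf 0)) (.node (.leaf 0) (.leaf 0)))) (.node (.node (.node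 (.leaf 0) (.leaf 0)) (.node (.leaf 0) (.leaf 0))) (.node (.node (.leaf 0) (.leaf 0)) (.node (.leaf 0) (.leaf 0))))) (.node (.node (.node (.node (.leaf 0) (.leaf 0)) (.node (.leaf 0) (.leaf 0))) (.node (.node (.leaf 0) (.leaf 0)) (.node (.leaf 0) (.leaf 0)))) (.node (.node (.node (.leaf 0) (.leaf 0)) (.node (.leaf 0) (.leaf 0))) (.node (.node (.leaf 0) (.leaf 0)) (.node (.leaf 0) (.leaf 0)))))))

/-- A point of the block, part 1021. -/
def ptCodePart1021 : Janko1.Tree ℕ := (.node (.node (.node (.node (.node (.node (.leaf 0) (.leaf 0)) (.node (.leaf 0) (.leaf 0))) (.node (.node (.leaf 0) (.leaf 0)) (.node (.leaf 0) (.leaf 0)))) (.node (.node (.node (.leaf 0) (.leaf 0)) (.node (.leaf 0) (.leaf 0))) (.node (.node (.leaf 0) (.leaf 0)) (.node (.leaf 0) (.leaf 0))))) (.node (.node (.node (.node (.leaf 0) (.leaf 0)) (.node (.leaf 0) (.leaf 0))) (.node (.node (.leaf 0) (.leaf 0)) (.node (.leaf 0) (.leaf 0)))) (.node (.node (.node (.leaf 0) (.leaf 0)) (.node (.leaf 0) (.leaf 0))) (.node (.node (.leaf 0) (.leaf 0)) (.node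 (.leaf 0) (.leaf 0)))))) (.node (.node (.node (.node (.node (.leaf 0) (.leaf 0)) (.node (.leaf 0) (.leaf 0))) (.node (.node (.leaf 0) (.leaf 0)) (.node (.leaf 0) (.leaf 0)))) (.node (.node (.node (.leaf 0) (.leaf 0)) (.node (.leaf 0) (.leaf 0))) (.node (.node (.leaf 0) (.leaf 0)) (.node (.leaf 0) (.leaf 0))))) (.node (.node (.node (.node (.leaf 0) (.leaf 0)) (.node (.leaf 0) (.leaf 0))) (.node (.node (.leaf 0) (.leaf 0)) (.node (.leaf 0) (.leaf 0)))) (.node (.node (.node (.leaf 0) (.leaf 0)) (.node (.leaf 0) (.leaf 0))) (.node (.node (.leaf 0) (.leaf 0)) (.node (.leaf 0) (.leaf 0)))))))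

/-- A point of the block, part 1022. -/
def ptCodePart1022 : Janko1.Tree ℕ := (.node (.node (.node (.node (.node (.node (.leaf 0) (.leaf 0)) (.node (.leaf 0) (.leaf 0))) (.node (.node (.leaf 0) (.leaf 0)) (.node (.leaf 0) (.leaf 0)))) (.node (.node (.node (.leaf 0) (.leaf 0)) (.node (.leaf 0) (.leaf 0))) (.node (.node (.leaf 0) (.leaf 0)) (.node (.leaf 0) (.leaf 0))))) (.node (.node (.node (.node (.leaf 0) (.leaf 0)) (.node (.leaf 0) (.leaf 0))) (.node (.node (.leaf 0) (.leaf 0)) (.node (.leaf 0) (.leaf 0)))) (.node (.node (.node (.leaf 0) (.leaf 0)) (.node (.leaf 0) (.leaf 0))) (.node (.node (.leaf 0) (.leaf 0)) (.node (.leaf 0) (.leaf 0)))))) (.node (.node (.node (.node (.node (.leaf 0) (.leaf 0)) (.node (.leaf 0) (.leaf 0))) (.node (.node (.leaf 0) (.leaf 0)) (.node (.leaf 0) (.leaf 0)))) (.node (.node (.node (.leaf 0) (.leaf 0)) (.node (.leaf 0) (.leaf 0))) (.node (.node (.leaf 0) (.leaf 0)) (.node (.leaf 0) (.leaf 0))))) (.node (.node (.node (.node (.leaf 0) (.leaf 0)) (.node (.leaf 0) (.leaf 0))) (.node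 (.node (.leaf 0) (.leaf 0)) (.node (.leaf 0) (.leaf 0)))) (.node (.node (.node (.leaf 0) (.leaf 0)) (.node (.leaf 0) (.leaf 0))) (.node (.node (.leaf 0) (.leaf 0)) (.node (.leaf 0) (.leaf 0)))))))

/-- A point of the block, part 1023. -/
def ptCodePart1023 : Janko1.Tree ℕ := (.node (.node (.node (.node (.node (.node (.leaf 0) (.leaf 0)) (.node (.leaf 0) (.leaf 0))) (.node (.node (.leaf 0) (.leaf 0)) (.node (.leaf 0) (.leaf 0)))) (.node (.node (.node (.leaf 0) (.leaf 0)) (.node (.leaf 0) (.leaf 0))) (.node (.node (.leaf 0) (.leaf 0)) (.node (.leaf 0) (.leaf 0))))) (.node (.node (.node (.node (.leaf 0) (.leaf 0)) (.node (.leaf 0) (.leaf 0))) (.node (.node (.leaf 0) (.leaf 0)) (.node (.leaf 0) (.leaf 0)))) (.node (.node (.node (.leaf 0) (.leaf 0)) (.node (.leaf 0) (.leaf 0))) (.node (.node (.leaf 0) (.leaf 0)) (.node (.leaf 0) (.leaf 0)))))) (.node (.node (.node (.node (.node (.leaf 0) (.leaf 0)) (.node (.leaf 0) (.leaf 0))) (.node (.node (.leaf 0) (.leaf 0)) (.node (.leaf 0) (.leaf 0)))) (.node (.node (.node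 (.leaf 0) (.leaf 0)) (.node (.leaf 0) (.leaf 0))) (.node (.node (.leaf 0) (.leaf 0)) (.node (.leaf 0) (.leaf 0))))) (.node (.node (.node (.node (.leaf 0) (.leaf 0)) (.node (.leaf 0) (.leaf 0))) (.node (.node (.leaf 0) (.leaf 0)) (.node (.leaf 0) (.leaf 0)))) (.node (.node (.node (.leaf 0) (.leaf 0)) (.node (.leaf 0) (.leaf 0))) (.node (.node (.leaf 0) (.leaf 0)) (.node (.leaf 0) (.leaf 0)))))))

/-- A point of the block, block 0. -/
def ptCodeBlock0 : Janko1.Tree ℕ := (.node (.node (.node (.node (.node ptCodePart0 ptCodePart1) (.node ptCodePart2 ptCodePart3)) (.node (.node ptCodePart4 ptCodePart5) (.node ptCodePart6 ptCodePart7))) (.node (.node (.node ptCodePart8 ptCodePart9) (.node ptCodePart10 ptCodePart11)) (.node (.node ptCodePart12 ptCodePart13) (.node ptCodePart14 ptCodePart15)))) (.node (.node (.node (.node ptCodePart16 ptCodePart17) (.node ptCodePart18 ptCodePart19)) (.node (.node ptCodePart20 ptCodePart21) (.node ptCodePart22 ptCodePart23))) (.node (.node (.node ptCodePart24 ptCodePart25) (.node ptCodePart26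 ptCodePart27)) (.node (.node ptCodePart28 ptCodePart29) (.node ptCodePart30 ptCodePart31)))))

/-- A point of the block, block 1. -/
def ptCodeBlock1 : Janko1.Tree ℕ := (.node (.node (.node (.node (.node ptCodePart32 ptCodePart33) (.node ptCodePart34 ptCodePart35)) (.node (.node ptCodePart36 ptCodePart37) (.node ptCodePart38 ptCodePart39))) (.node (.node (.node ptCodePart40 ptCodePart41) (.node ptCodePart42 ptCodePart43)) (.node (.node ptCodePart44 ptCodePart45) (.node ptCodePart46 ptCodePart47)))) (.node (.node (.node (.node ptCodePart48 ptCodePart49) (.node ptCodePart50 ptCodePart51)) (.node (.node ptCodePart52 ptCodePart53) (.node ptCodePart54 ptCodePart55))) (.node (.node (.node ptCodePart56 ptCodePart57) (.node ptCodePart58 ptCodePart59)) (.node (.node ptCodePart60 ptCodePart61) (.node ptCodePart62 ptCodePart63)))))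

/-- A point of the block, block 2. -/
def ptCodeBlock2 : Janko1.Tree ℕ := (.node (.node (.node (.node (.node ptCodePart64 ptCodePart65) (.node ptCodePart66 ptCodePart67)) (.node (.node ptCodePart68 ptCodePart69) (.node ptCodePart70 ptCodePart71))) (.node (.node (.node ptCodePart72 ptCodePart73) (.node ptCodePart74 ptCodePart75)) (.node (.node ptCodePart76 ptCodePart77) (.node ptCodePart78 ptCodePart79)))) (.node (.node (.node (.node ptCodePart80 ptCodePart81) (.node ptCodePart82 ptCodePart83)) (.node (.node ptCodePart84 ptCodePart85) (.node ptCodePart86 ptCodePart87))) (.node (.node (.node ptCodePart88 ptCodePart89) (.node ptCodePart90 ptCodePart91)) (.node (.node ptCodePart92 ptCodePart93) (.node ptCodePart94 ptCodePart95)))))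

/-- A point of the block, block 3. -/
def ptCodeBlock3 : Janko1.Tree ℕ := (.node (.node (.node (.node (.node ptCodePart96 ptCodePart97) (.node ptCodePart98 ptCodePart99)) (.node (.node ptCodePart100 ptCodePart101) (.node ptCodePart102 ptCodePart103))) (.node (.node (.node ptCodePart104 ptCodePart105) (.node ptCodePart106 ptCodePart107)) (.node (.node ptCodePart108 ptCodePart109) (.node ptCodePart110 ptCodePart111)))) (.node (.node (.node (.node ptCodePart112 ptCodePart113) (.node ptCodePart114 ptCodePart115)) (.node (.node ptCodePart116 ptCodePart117) (.node ptCodePart118 ptCodePart119))) (.node (.node (.node ptCodePart120 ptCodePart121) (.node ptCodePart122 ptCodePart123)) (.node (.node ptCodePart124 ptCodePart125) (.node ptCodePart126 ptCodePart127)))))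

/-- A point of the block, block 4. -/
def ptCodeBlock4 : Janko1.Tree ℕ := (.node (.node (.node (.node (.node ptCodePart128 ptCodePart129) (.node ptCodePart130 ptCodePart131)) (.node (.node ptCodePart132 ptCodePart133) (.node ptCodePart134 ptCodePart135))) (.node (.node (.node ptCodePart136 ptCodePart137) (.node ptCodePart138 ptCodePart139)) (.node (.node ptCodePart140 ptCodePart141) (.node ptCodePart142 ptCodePart143)))) (.node (.node (.node (.node ptCodePart144 ptCodePart145) (.node ptCodePart146 ptCodePart147)) (.node (.node ptCodePart148 ptCodePart149) (.node ptCodePart150 ptCodePart151))) (.node (.node (.node ptCodePart152 ptCodePart153) (.node ptCodePart154 ptCodePart155)) (.node (.node ptCodePart156 ptCodePart157) (.node ptCodePart158 ptCodePart159)))))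

/-- A point of the block, block 5. -/
def ptCodeBlock5 : Janko1.Tree ℕ := (.node (.node (.node (.node (.node ptCodePart160 ptCodePart161) (.node ptCodePart162 ptCodePart163)) (.node (.node ptCodePart164 ptCodePart165) (.node ptCodePart166 ptCodePart167))) (.node (.node (.node ptCodePart168 ptCodePart169) (.node ptCodePart170 ptCodePart171)) (.node (.node ptCodePart172 ptCodePart173) (.node ptCodePart174 ptCodePart175)))) (.node (.node (.node (.node ptCodePart176 ptCodePart177) (.node ptCodePart178 ptCodePart179)) (.node (.node ptCodePart180 ptCodePart181) (.node ptCodePart182 ptCodePart183))) (.node (.node (.node ptCodePart184 ptCodePart185) (.node ptCodePart186 ptCodePart187)) (.node (.node ptCodePart188 ptCodePart189) (.node ptCodePart190 ptCodePart191)))))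

/-- A point of the block, block 6. -/
def ptCodeBlock6 : Janko1.Tree ℕ := (.node (.node (.node (.node (.node ptCodePart192 ptCodePart193) (.node ptCodePart194 ptCodePart195)) (.node (.node ptCodePart196 ptCodePart197) (.node ptCodePart198 ptCodePart199))) (.node (.node (.node ptCodePart200 ptCodePart201) (.node ptCodePart202 ptCodePart203)) (.node (.node ptCodePart204 ptCodePart205) (.node ptCodePart206 ptCodePart207)))) (.node (.node (.node (.node ptCodePart208 ptCodePart209) (.node ptCodePart210 ptCodePart211)) (.node (.node ptCodePart212 ptCodePart213) (.node ptCodePart214 ptCodePart215))) (.node (.node (.node ptCodePart216 ptCodePart217) (.node ptCodePart218 ptCodePart219)) (.node (.node ptCodePart220 ptCodePart221) (.node ptCodePart222 ptCodePart223)))))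

/-- A point of the block, block 7. -/
def ptCodeBlock7 : Janko1.Tree ℕ := (.node (.node (.node (.node (.node ptCodePart224 ptCodePart225) (.node ptCodePart226 ptCodePart227)) (.node (.node ptCodePart228 ptCodePart229) (.node ptCodePart230 ptCodePart231))) (.node (.node (.node ptCodePart232 ptCodePart233) (.node ptCodePart234 ptCodePart235)) (.node (.node ptCodePart236 ptCodePart237) (.node ptCodePart238 ptCodePart239)))) (.node (.node (.node (.node ptCodePart240 ptCodePart241) (.node ptCodePart242 ptCodePart243)) (.node (.node ptCodePart244 ptCodePart245) (.node ptCodePart246 ptCodePart247))) (.node (.node (.node ptCodePart248 ptCodePart249) (.node ptCodePart250 ptCodePart251)) (.node (.node ptCodePart252 ptCodePart253) (.node ptCodePart254 ptCodePart255)))))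

/-- A point of the block, block 8. -/
def ptCodeBlock8 : Janko1.Tree ℕ := (.node (.node (.node (.node (.node ptCodePart256 ptCodePart257) (.node ptCodePart258 ptCodePart259)) (.node (.node ptCodePart260 ptCodePart261) (.node ptCodePart262 ptCodePart263))) (.node (.node (.node ptCodePart264 ptCodePart265) (.node ptCodePart266 ptCodePart267)) (.node (.node ptCodePart268 ptCodePart269) (.node ptCodePart270 ptCodePart271)))) (.node (.node (.node (.node ptCodePart272 ptCodePart273) (.node ptCodePart274 ptCodePart275)) (.node (.node ptCodePart276 ptCodePart277) (.node ptCodePart278 ptCodePart279))) (.node (.node (.node ptCodePart280 ptCodePart281) (.node ptCodePart282 ptCodePart283)) (.node (.node ptCodePart284 ptCodePart285) (.node ptCodePart286 ptCodePart287)))))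

/-- A point of the block, block 9. -/
def ptCodeBlock9 : Janko1.Tree ℕ := (.node (.node (.node (.node (.node ptCodePart288 ptCodePart289) (.node ptCodePart290 ptCodePart291)) (.node (.node ptCodePart292 ptCodePart293) (.node ptCodePart294 ptCodePart295))) (.node (.node (.node ptCodePart296 ptCodePart297) (.node ptCodePart298 ptCodePart299)) (.node (.node ptCodePart300 ptCodePart301) (.node ptCodePart302 ptCodePart303)))) (.node (.node (.node (.node ptCodePart304 ptCodePart305) (.node ptCodePart306 ptCodePart307)) (.node (.node ptCodePart308 ptCodePart309) (.node ptCodePart310 ptCodePart311))) (.node (.node (.node ptCodePart312 ptCodePart313) (.node ptCodePart314 ptCodePart315)) (.node (.node ptCodePart316 ptCodePart317) (.node ptCodePart318 ptCodePart319)))))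

/-- A point of the block, block 10. -/
def ptCodeBlock10 : Janko1.Tree ℕ := (.node (.node (.node (.node (.node ptCodePart320 ptCodePart321) (.node ptCodePart322 ptCodePart323)) (.node (.node ptCodePart324 ptCodePart325) (.node ptCodePart326 ptCodePart327))) (.node (.node (.node ptCodePart328 ptCodePart329) (.node ptCodePart330 ptCodePart331)) (.node (.node ptCodePart332 ptCodePart333) (.node ptCodePart334 ptCodePart335)))) (.node (.node (.node (.node ptCodePart336 ptCodePart337) (.node ptCodePart338 ptCodePart339)) (.node (.node ptCodePart340 ptCodePart341) (.node ptCodePart342 ptCodePart343))) (.node (.node (.node ptCodePart344 ptCodePart345) (.node ptCodePart346 ptCodePart347)) (.node (.node ptCodePart348 ptCodePart349) (.node ptCodePart350 ptCodePart351)))))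

/-- A point of the block, block 11. -/
def ptCodeBlock11 : Janko1.Tree ℕ := (.node (.node (.node (.node (.node ptCodePart352 ptCodePart353) (.node ptCodePart354 ptCodePart355)) (.node (.node ptCodePart356 ptCodePart357) (.node ptCodePart358 ptCodePart359))) (.node (.node (.node ptCodePart360 ptCodePart361) (.node ptCodePart362 ptCodePart363)) (.node (.node ptCodePart364 ptCodePart365) (.node ptCodePart366 ptCodePart367)))) (.node (.node (.node (.node ptCodePart368 ptCodePart369) (.node ptCodePart370 ptCodePart371)) (.node (.node ptCodePart372 ptCodePart373) (.node ptCodePart374 ptCodePart375))) (.node (.node (.node ptCodePart376 ptCodePart377) (.node ptCodePart378 ptCodePart379)) (.node (.node ptCodePart380 ptCodePart381) (.node ptCodePart382 ptCodePart383)))))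

/-- A point of the block, block 12. -/
def ptCodeBlock12 : Janko1.Tree ℕ := (.node (.node (.node (.node (.node ptCodePart384 ptCodePart385) (.node ptCodePart386 ptCodePart387)) (.node (.node ptCodePart388 ptCodePart389) (.node ptCodePart390 ptCodePart391))) (.node (.node (.node ptCodePart392 ptCodePart393) (.node ptCodePart394 ptCodePart395)) (.node (.node ptCodePart396 ptCodePart397) (.node ptCodePart398 ptCodePart399)))) (.node (.node (.node (.node ptCodePart400 ptCodePart401) (.node ptCodePart402 ptCodePart403)) (.node (.node ptCodePart404 ptCodePart405) (.node ptCodePart406 ptCodePart407))) (.node (.node (.node ptCodePart408 ptCodePart409) (.node ptCodePart410 ptCodePart411)) (.node (.node ptCodePart412 ptCodePart413) (.node ptCodePart414 ptCodePart415)))))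

/-- A point of the block, block 13. -/
def ptCodeBlock13 : Janko1.Tree ℕ := (.node (.node (.node (.node (.node ptCodePart416 ptCodePart417) (.node ptCodePart418 ptCodePart419)) (.node (.node ptCodePart420 ptCodePart421) (.node ptCodePart422 ptCodePart423))) (.node (.node (.node ptCodePart424 ptCodePart425) (.node ptCodePart426 ptCodePart427)) (.node (.node ptCodePart428 ptCodePart429) (.node ptCodePart430 ptCodePart431)))) (.node (.node (.node (.node ptCodePart432 ptCodePart433) (.node ptCodePart434 ptCodePart435)) (.node (.node ptCodePart436 ptCodePart437) (.node ptCodePart438 ptCodePart439))) (.node (.node (.node ptCodePart440 ptCodePart441) (.node ptCodePart442 ptCodePart443)) (.node (.node ptCodePart444 ptCodePart445) (.node ptCodePart446 ptCodePart447)))))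

/-- A point of the block, block 14. -/
def ptCodeBlock14 : Janko1.Tree ℕ := (.node (.node (.node (.node (.node ptCodePart448 ptCodePart449) (.node ptCodePart450 ptCodePart451)) (.node (.node ptCodePart452 ptCodePart453) (.node ptCodePart454 ptCodePart455))) (.node (.node (.node ptCodePart456 ptCodePart457) (.node ptCodePart458 ptCodePart459)) (.node (.node ptCodePart460 ptCodePart461) (.node ptCodePart462 ptCodePart463)))) (.node (.node (.node (.node ptCodePart464 ptCodePart465) (.node ptCodePart466 ptCodePart467)) (.node (.node ptCodePart468 ptCodePart469) (.node ptCodePart470 ptCodePart471))) (.node (.node (.node ptCodePart472 ptCodePart473) (.node ptCodePart474 ptCodePart475)) (.node (.node ptCodePart476 ptCodePart477) (.node ptCodePart478 ptCodePart479)))))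

/-- A point of the block, block 15. -/
def ptCodeBlock15 : Janko1.Tree ℕ := (.node (.node (.node (.node (.node ptCodePart480 ptCodePart481) (.node ptCodePart482 ptCodePart483)) (.node (.node ptCodePart484 ptCodePart485) (.node ptCodePart486 ptCodePart487))) (.node (.node (.node ptCodePart488 ptCodePart489) (.node ptCodePart490 ptCodePart491)) (.node (.node ptCodePart492 ptCodePart493) (.node ptCodePart494 ptCodePart495)))) (.node (.node (.node (.node ptCodePart496 ptCodePart497) (.node ptCodePart498 ptCodePart499)) (.node (.node ptCodePart500 ptCodePart501) (.node ptCodePart502 ptCodePart503))) (.node (.node (.node ptCodePart504 ptCodePart505) (.node ptCodePart506 ptCodePart507)) (.node (.node ptCodePart508 ptCodePart509) (.node ptCodePart510 ptCodePart511)))))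

/-- A point of the block, block 16. -/
def ptCodeBlock16 : Janko1.Tree ℕ := (.node (.node (.node (.node (.node ptCodePart512 ptCodePart513) (.node ptCodePart514 ptCodePart515)) (.node (.node ptCodePart516 ptCodePart517) (.node ptCodePart518 ptCodePart519))) (.node (.node (.node ptCodePart520 ptCodePart521) (.node ptCodePart522 ptCodePart523)) (.node (.node ptCodePart524 ptCodePart525) (.node ptCodePart526 ptCodePart527)))) (.node (.node (.node (.node ptCodePart528 ptCodePart529) (.node ptCodePart530 ptCodePart531)) (.node (.node ptCodePart532 ptCodePart533) (.node ptCodePart534 ptCodePart535))) (.node (.node (.node ptCodePart536 ptCodePart537) (.node ptCodePart538 ptCodePart539)) (.node (.node ptCodePart540 ptCodePart541) (.node ptCodePart542 ptCodePart543)))))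

/-- A point of the block, block 17. -/
def ptCodeBlock17 : Janko1.Tree ℕ := (.node (.node (.node (.node (.node ptCodePart544 ptCodePart545) (.node ptCodePart546 ptCodePart547)) (.node (.node ptCodePart548 ptCodePart549) (.node ptCodePart550 ptCodePart551))) (.node (.node (.node ptCodePart552 ptCodePart553) (.node ptCodePart554 ptCodePart555)) (.node (.node ptCodePart556 ptCodePart557) (.node ptCodePart558 ptCodePart559)))) (.node (.node (.node (.node ptCodePart560 ptCodePart561) (.node ptCodePart562 ptCodePart563)) (.node (.node ptCodePart564 ptCodePart565) (.node ptCodePart566 ptCodePart567))) (.node (.node (.node ptCodePart568 ptCodePart569) (.node ptCodePart570 ptCodePart571)) (.node (.node ptCodePart572 ptCodePart573) (.node ptCodePart574 ptCodePart575)))))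

/-- A point of the block, block 18. -/
def ptCodeBlock18 : Janko1.Tree ℕ := (.node (.node (.node (.node (.node ptCodePart576 ptCodePart577) (.node ptCodePart578 ptCodePart579)) (.node (.node ptCodePart580 ptCodePart581) (.node ptCodePart582 ptCodePart583))) (.node (.node (.node ptCodePart584 ptCodePart585) (.node ptCodePart586 ptCodePart587)) (.node (.node ptCodePart588 ptCodePart589) (.node ptCodePart590 ptCodePart591)))) (.node (.node (.node (.node ptCodePart592 ptCodePart593) (.node ptCodePart594 ptCodePart595)) (.node (.node ptCodePart596 ptCodePart597) (.node ptCodePart598 ptCodePart599))) (.node (.node (.node ptCodePart600 ptCodePart601) (.node ptCodePart602 ptCodePart603)) (.node (.node ptCodePart604 ptCodePart605) (.node ptCodePart606 ptCodePart607)))))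

/-- A point of the block, block 19. -/
def ptCodeBlock19 : Janko1.Tree ℕ := (.node (.node (.node (.node (.node ptCodePart608 ptCodePart609) (.node ptCodePart610 ptCodePart611)) (.node (.node ptCodePart612 ptCodePart613) (.node ptCodePart614 ptCodePart615))) (.node (.node (.node ptCodePart616 ptCodePart617) (.node ptCodePart618 ptCodePart619)) (.node (.node ptCodePart620 ptCodePart621) (.node ptCodePart622 ptCodePart623)))) (.node (.node (.node (.node ptCodePart624 ptCodePart625) (.node ptCodePart626 ptCodePart627)) (.node (.node ptCodePart628 ptCodePart629) (.node ptCodePart630 ptCodePart631))) (.node (.node (.node ptCodePart632 ptCodePart633) (.node ptCodePart634 ptCodePart635)) (.node (.node ptCodePart636 ptCodePart637) (.node ptCodePart638 ptCodePart639)))))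

/-- A point of the block, block 20. -/
def ptCodeBlock20 : Janko1.Tree ℕ := (.node (.node (.node (.node (.node ptCodePart640 ptCodePart641) (.node ptCodePart642 ptCodePart643)) (.node (.node ptCodePart644 ptCodePart645) (.node ptCodePart646 ptCodePart647))) (.node (.node (.node ptCodePart648 ptCodePart649) (.node ptCodePart650 ptCodePart651)) (.node (.node ptCodePart652 ptCodePart653) (.node ptCodePart654 ptCodePart655)))) (.node (.node (.node (.node ptCodePart656 ptCodePart657) (.node ptCodePart658 ptCodePart659)) (.node (.node ptCodePart660 ptCodePart661) (.node ptCodePart662 ptCodePart663))) (.node (.node (.node ptCodePart664 ptCodePart665) (.node ptCodePart666 ptCodePart667)) (.node (.node ptCodePart668 ptCodePart669) (.node ptCodePart670 ptCodePart671)))))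

/-- A point of the block, block 21. -/
def ptCodeBlock21 : Janko1.Tree ℕ := (.node (.node (.node (.node (.node ptCodePart672 ptCodePart673) (.node ptCodePart674 ptCodePart675)) (.node (.node ptCodePart676 ptCodePart677) (.node ptCodePart678 ptCodePart679))) (.node (.node (.node ptCodePart680 ptCodePart681) (.node ptCodePart682 ptCodePart683)) (.node (.node ptCodePart684 ptCodePart685) (.node ptCodePart686 ptCodePart687)))) (.node (.node (.node (.node ptCodePart688 ptCodePart689) (.node ptCodePart690 ptCodePart691)) (.node (.node ptCodePart692 ptCodePart693) (.node ptCodePart694 ptCodePart695))) (.node (.node (.node ptCodePart696 ptCodePart697) (.node ptCodePart698 ptCodePart699)) (.node (.node ptCodePart700 ptCodePart701) (.node ptCodePart702 ptCodePart703)))))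

/-- A point of the block, block 22. -/
def ptCodeBlock22 : Janko1.Tree ℕ := (.node (.node (.node (.node (.node ptCodePart704 ptCodePart705) (.node ptCodePart706 ptCodePart707)) (.node (.node ptCodePart708 ptCodePart709) (.node ptCodePart710 ptCodePart711))) (.node (.node (.node ptCodePart712 ptCodePart713) (.node ptCodePart714 ptCodePart715)) (.node (.node ptCodePart716 ptCodePart717) (.node ptCodePart718 ptCodePart719)))) (.node (.node (.node (.node ptCodePart720 ptCodePart721) (.node ptCodePart722 ptCodePart723)) (.node (.node ptCodePart724 ptCodePart725) (.node ptCodePart726 ptCodePart727))) (.node (.node (.node ptCodePart728 ptCodePart729) (.node ptCodePart730 ptCodePart731)) (.node (.node ptCodePart732 ptCodePart733) (.node ptCodePart734 ptCodePart735)))))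

/-- A point of the block, block 23. -/
def ptCodeBlock23 : Janko1.Tree ℕ := (.node (.node (.node (.node (.node ptCodePart736 ptCodePart737) (.node ptCodePart738 ptCodePart739)) (.node (.node ptCodePart740 ptCodePart741) (.node ptCodePart742 ptCodePart743))) (.node (.node (.node ptCodePart744 ptCodePart745) (.node ptCodePart746 ptCodePart747)) (.node (.node ptCodePart748 ptCodePart749) (.node ptCodePart750 ptCodePart751)))) (.node (.node (.node (.node ptCodePart752 ptCodePart753) (.node ptCodePart754 ptCodePart755)) (.node (.node ptCodePart756 ptCodePart757) (.node ptCodePart758 ptCodePart759))) (.node (.node (.node ptCodePart760 ptCodePart761) (.node ptCodePart762 ptCodePart763)) (.node (.node ptCodePart764 ptCodePart765) (.node ptCodePart766 ptCodePart767)))))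

/-- A point of the block, block 24. -/
def ptCodeBlock24 : Janko1.Tree ℕ := (.node (.node (.node (.node (.node ptCodePart768 ptCodePart769) (.node ptCodePart770 ptCodePart771)) (.node (.node ptCodePart772 ptCodePart773) (.node ptCodePart774 ptCodePart775))) (.node (.node (.node ptCodePart776 ptCodePart777) (.node ptCodePart778 ptCodePart779)) (.node (.node ptCodePart780 ptCodePart781) (.node ptCodePart782 ptCodePart783)))) (.node (.node (.node (.node ptCodePart784 ptCodePart785) (.node ptCodePart786 ptCodePart787)) (.node (.node ptCodePart788 ptCodePart789) (.node ptCodePart790 ptCodePart791))) (.node (.node (.node ptCodePart792 ptCodePart793) (.node ptCodePart794 ptCodePart795)) (.node (.node ptCodePart796 ptCodePart797) (.node ptCodePart798 ptCodePart799)))))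

/-- A point of the block, block 25. -/
def ptCodeBlock25 : Janko1.Tree ℕ := (.node (.node (.node (.node (.node ptCodePart800 ptCodePart801) (.node ptCodePart802 ptCodePart803)) (.node (.node ptCodePart804 ptCodePart805) (.node ptCodePart806 ptCodePart807))) (.node (.node (.node ptCodePart808 ptCodePart809) (.node ptCodePart810 ptCodePart811)) (.node (.node ptCodePart812 ptCodePart813) (.node ptCodePart814 ptCodePart815)))) (.node (.node (.node (.node ptCodePart816 ptCodePart817) (.node ptCodePart818 ptCodePart819)) (.node (.node ptCodePart820 ptCodePart821) (.node ptCodePart822 ptCodePart823))) (.node (.node (.node ptCodePart824 ptCodePart825) (.node ptCodePart826 ptCodePart827)) (.node (.node ptCodePart828 ptCodePart829) (.node ptCodePart830 ptCodePart831)))))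

/-- A point of the block, block 26. -/
def ptCodeBlock26 : Janko1.Tree ℕ := (.node (.node (.node (.node (.node ptCodePart832 ptCodePart833) (.node ptCodePart834 ptCodePart835)) (.node (.node ptCodePart836 ptCodePart837) (.node ptCodePart838 ptCodePart839))) (.node (.node (.node ptCodePart840 ptCodePart841) (.node ptCodePart842 ptCodePart843)) (.node (.node ptCodePart844 ptCodePart845) (.node ptCodePart846 ptCodePart847)))) (.node (.node (.node (.node ptCodePart848 ptCodePart849) (.node ptCodePart850 ptCodePart851)) (.node (.node ptCodePart852 ptCodePart853) (.node ptCodePart854 ptCodePart855))) (.node (.node (.node ptCodePart856 ptCodePart857) (.node ptCodePart858 ptCodePart859)) (.node (.node ptCodePart860 ptCodePart861) (.node ptCodePart862 ptCodePart863)))))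

/-- A point of the block, block 27. -/
def ptCodeBlock27 : Janko1.Tree ℕ := (.node (.node (.node (.node (.node ptCodePart864 ptCodePart865) (.node ptCodePart866 ptCodePart867)) (.node (.node ptCodePart868 ptCodePart869) (.node ptCodePart870 ptCodePart871))) (.node (.node (.node ptCodePart872 ptCodePart873) (.node ptCodePart874 ptCodePart875)) (.node (.node ptCodePart876 ptCodePart877) (.node ptCodePart878 ptCodePart879)))) (.node (.node (.node (.node ptCodePart880 ptCodePart881) (.node ptCodePart882 ptCodePart883)) (.node (.node ptCodePart884 ptCodePart885) (.node ptCodePart886 ptCodePart887))) (.node (.node (.node ptCodePart888 ptCodePart889) (.node ptCodePart890 ptCodePart891)) (.node (.node ptCodePart892 ptCodePart893) (.node ptCodePart894 ptCodePart895)))))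

/-- A point of the block, block 28. -/
def ptCodeBlock28 : Janko1.Tree ℕ := (.node (.node (.node (.node (.node ptCodePart896 ptCodePart897) (.node ptCodePart898 ptCodePart899)) (.node (.node ptCodePart900 ptCodePart901) (.node ptCodePart902 ptCodePart903))) (.node (.node (.node ptCodePart904 ptCodePart905) (.node ptCodePart906 ptCodePart907)) (.node (.node ptCodePart908 ptCodePart909) (.node ptCodePart910 ptCodePart911)))) (.node (.node (.node (.node ptCodePart912 ptCodePart913) (.node ptCodePart914 ptCodePart915)) (.node (.node ptCodePart916 ptCodePart917) (.node ptCodePart918 ptCodePart919))) (.node (.node (.node ptCodePart920 ptCodePart921) (.node ptCodePart922 ptCodePart923)) (.node (.node ptCodePart924 ptCodePart925) (.node ptCodePart926 ptCodePart927)))))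

/-- A point of the block, block 29. -/
def ptCodeBlock29 : Janko1.Tree ℕ := (.node (.node (.node (.node (.node ptCodePart928 ptCodePart929) (.node ptCodePart930 ptCodePart931)) (.node (.node ptCodePart932 ptCodePart933) (.node ptCodePart934 ptCodePart935))) (.node (.node (.node ptCodePart936 ptCodePart937) (.node ptCodePart938 ptCodePart939)) (.node (.node ptCodePart940 ptCodePart941) (.node ptCodePart942 ptCodePart943)))) (.node (.node (.node (.node ptCodePart944 ptCodePart945) (.node ptCodePart946 ptCodePart947)) (.node (.node ptCodePart948 ptCodePart949) (.node ptCodePart950 ptCodePart951))) (.node (.node (.node ptCodePart952 ptCodePart953) (.node ptCodePart954 ptCodePart955)) (.node (.node ptCodePart956 ptCodePart957) (.node ptCodePart958 ptCodePart959)))))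

/-- A point of the block, block 30. -/
def ptCodeBlock30 : Janko1.Tree ℕ := (.node (.node (.node (.node (.node ptCodePart960 ptCodePart961) (.node ptCodePart962 ptCodePart963)) (.node (.node ptCodePart964 ptCodePart965) (.node ptCodePart966 ptCodePart967))) (.node (.node (.node ptCodePart968 ptCodePart969) (.node ptCodePart970 ptCodePart971)) (.node (.node ptCodePart972 ptCodePart973) (.node ptCodePart974 ptCodePart975)))) (.node (.node (.node (.node ptCodePart976 ptCodePart977) (.node ptCodePart978 ptCodePart979)) (.node (.node ptCodePart980 ptCodePart981) (.node ptCodePart982 ptCodePart983))) (.node (.node (.node ptCodePart984 ptCodePart985) (.node ptCodePart986 ptCodePart987)) (.node (.node ptCodePart988 ptCodePart989) (.node ptCodePart990 ptCodePart991)))))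

/-- A point of the block, block 31. -/
def ptCodeBlock31 : Janko1.Tree ℕ := (.node (.node (.node (.node (.node ptCodePart992 ptCodePart993) (.node ptCodePart994 ptCodePart995)) (.node (.node ptCodePart996 ptCodePart997) (.node ptCodePart998 ptCodePart999))) (.node (.node (.node ptCodePart1000 ptCodePart1001) (.node ptCodePart1002 ptCodePart1003)) (.node (.node ptCodePart1004 ptCodePart1005) (.node ptCodePart1006 ptCodePart1007)))) (.node (.node (.node (.node ptCodePart1008 ptCodePart1009) (.node ptCodePart1010 ptCodePart1011)) (.node (.node ptCodePart1012 ptCodePart1013) (.node ptCodePart1014 ptCodePart1015))) (.node (.node (.node ptCodePart1016 ptCodePart1017) (.node ptCodePart1018 ptCodePart1019)) (.node (.node ptCodePart1020 ptCodePart1021) (.node ptCodePart1022 ptCodePart1023)))))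

/-- A point of the block. -/
def ptCodeTree : Janko1.Tree ℕ := (.node (.node (.node (.node (.node ptCodeBlock0 ptCodeBlock1) (.node ptCodeBlock2 ptCodeBlock3)) (.node (.node ptCodeBlock4 ptCodeBlock5) (.node ptCodeBlock6 ptCodeBlock7))) (.node (.node (.node ptCodeBlock8 ptCodeBlock9) (.node ptCodeBlock10 ptCodeBlock11)) (.node (.node ptCodeBlock12 ptCodeBlock13) (.node ptCodeBlock14 ptCodeBlock15)))) (.node (.node (.node (.node ptCodeBlock16 ptCodeBlock17) (.node ptCodeBlock18 ptCodeBlock19)) (.node (.node ptCodeBlock20 ptCodeBlock21) (.node ptCodeBlock22 ptCodeBlock23))) (.node (.node (.node ptCodeBlock24 ptCodeBlock25) (.node ptCodeBlock26 ptCodeBlock27)) (.node (.node ptCodeBlock28 ptCodeBlock29) (.node ptCodeBlock30 ptCodeBlock31)))))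

/-- A point of the block, by index. -/
def ptCode (i : ℕ) : ℕ := ptCodeTree.get 16 i

end Cfsg.Agent.Janko3
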