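/-
The tests of the certificate for the triple cover of `J₃`.
-/
import Cfsg.Agent.Janko3.Alg
import Cfsg.Agent.Janko3.DataT
import Cfsg.Agent.Janko3.DataF
import Cfsg.Agent.Janko3.DataK
import Cfsg.Agent.Janko3.DataP
import Cfsg.Agent.Janko3.DataH

set_option autoImplicit false

namespace Cfsg.Agent.Janko3

open Cfsg.Agent.Janko1 (allFrom)

/-- The number of lines in the orbit. -/
def numT : ℕ := 23256

/-- The order of the line stabiliser modulo scalars. -/
def numK : ℕ := 2160

/-- The order of the second subgroup modulo scalars. -/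
def numH : ℕ := 8160

/-- A coset representative. -/
def tM (i : ℕ) : M4 := dec (tCode i)

/-- An element of the line stabiliser. -/
def kM (m : ℕ) : M4 := dec (kCode m)

/-- An element of the second subgroup. -/
def hM (m : ℕ) : M4 := dec (hCode m)

/-- The two generators. -/
def gM : ℕ → M4
  | 0 => dec xCode
  | _ => dec yCode

/-- The two generators of the line stabiliser. -/
def kg : ℕ → M4
  | 0 => kM kGenA
  | _ => kM kGenB

/-- The two generators of the second subgroup. -/
def hg : ℕ → M4
  | 0 => hM hGenA
  | _ => hM hGenB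

/-- A defining generator. -/
def sM (n : ℕ) : M4 := dec (genCode n)

/-- Test of an orbit tree. -/
def treeTest (G g : ℕ → M4) (info : ℕ → ℕ) (N one i : ℕ) : Bool :=
  bif Nat.beq i one then M4.beq (G i) one4
  else Nat.blt (info i / 512) N && Nat.blt (info (info i / 512) / 8 % 64) (info i / 8 % 64) &&
    eqSc (info i / 2 % 4) (G i) (mulM (g (info i % 2)) (G (info i / 512)))

/-- Test of closure under the two generators. -/
def closeTest (G g : ℕ → M4) (cl : ℕ → ℕ) (N m : ℕ) : Bool :=
  Nat.blt (cl m / 4 % 262144) N && eqSc (cl m % 4) (mulM (g 0) (G m)) (G (cl m / 4 % 262144)) &&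
  Nat.blt (cl m / 4194304 % 262144) N &&
    eqSc (cl m / 1048576 % 4) (mulM (g 1) (G m)) (G (cl m / 4194304 % 262144))

/-- Test that a list is canonical and strictly increasing. -/
def sortTest (G : ℕ → M4) (m : ℕ) : Bool :=
  canon (G m) && (Nat.beq m 0 || Nat.blt (key (G (m - 1))) (key (G m)))

/-- Test of a representative. -/
def tTest (i : ℕ) : Bool := treeTest tM gM tInfo numT tOne i && sortTest (fun i => colA (tM i)) i

/-- A product described by a code. -/
def decM (v : ℕ) : M4 := mulM (tM (v / 16384)) (kM (v / 4 % 4096))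

/-- The range of a decomposition. -/
def decOk (v : ℕ) : Bool := Nat.blt (v / 16384) numT && Nat.blt (v / 4 % 4096) numK

/-- Test of a Schreier generator. -/
def facTest (n : ℕ) : Bool :=
  decOk (facCode n) && eqSc (facCode n % 4) (mulM (gM (n % 2)) (tM (n / 2))) (decM (facCode n))

/-- Some scalar multiple of `B` equals `A`. -/
def inLine (A B : M4) : Bool := M4.beq A B || M4.beq A (mulW B) || M4.beq A (mulW (mulW B))

/-- Test of an element of the line stabiliser. -/
def kTest (m : ℕ) : Bool :=
  treeTest kM kg kInfo numK kOne m && closeTest kM kg kClose numK m && sortTest kM m &&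
    inLine (colA (kM m)) e00 &&
    (bif Nat.beq m kOne then true else Nat.blt (kMover m) numT &&
      !inLine (mulM (kM m) (colA (tM (kMover m)))) (colA (tM (kMover m))))

/-- Test of the generators. -/
def genTest (n : ℕ) : Bool :=
  M4.beq (mulM (dec (genInv n)) (sM n)) one4 && decOk (genDec n) &&
    eqSc (genDec n % 4) (sM n) (decM (genDec n))

/-- Test of an element of the second subgroup. -/
def hTest (m : ℕ) : Bool :=
  treeTest hM hg hInfo numH hOne m && closeTest hM hg hClose numH m && sortTest hM m

/-- Test that a point lies in the suborbit of its representative. -/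
def redTest (i : ℕ) : Bool :=
  Nat.blt (redCode i % 32) numRep && Nat.blt (redCode i / 128) numK &&
    eqSc (redCode i / 32 % 4) (colA (tM i)) (mulM (kM (redCode i / 128)) (colA (tM (repIdx (redCode i % 32)))))

/-- A point of the block generated by the base point and a representative. -/
def ptM (r v : ℕ) : M4 :=
  mulM (kM (v / 4 % 4096)) (mulM (tM (repIdx r)) (mulM (kM (v / 16384)) (colA (tM (repIdx r)))))

/-- The canonical multiple of a block point. -/
def ptC (r n : ℕ) : M4 := scM (ptCode (r * 1225 + n) % 4) (ptM r (ptCode (r * 1225 + n)))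

/-- Test of a block point. -/
def ptTest (r n : ℕ) : Bool :=
  Nat.blt (ptCode (r * 1225 + n) % 4) 3 && Nat.blt (ptCode (r * 1225 + n) / 4 % 4096) numK &&
    Nat.blt (ptCode (r * 1225 + n) / 16384) numK && sortTest (fun n => ptC r n) n

/-- Test of a suborbit. -/
def repTest (r : ℕ) : Bool :=
  Nat.blt (repIdx r) numT && (Nat.beq (repIdx r) tOne || allFrom (ptTest r) 0 1225)

/-- The `n`-th power. -/
def powM (A : M4) : ℕ → M4
  | 0 => one4
  | n + 1 => mulM A (powM A n)

/-- The assorted single tests. -/
def miscTest : Bool :=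
  Nat.blt tOne numT && Nat.blt kOne numK && Nat.blt hOne numH &&
  Nat.blt kSrcA (2 * numT) && Nat.blt kSrcB (2 * numT) &&
  Nat.beq (facCode kSrcA / 4 % 4096) kGenA && Nat.beq (facCode kSrcB / 4 % 4096) kGenB &&
  M4.beq (gM 0) (mulM (mulM (mulM (sM 14) (sM 40)) (sM 22)) (sM 11)) &&
  M4.beq (gM 1) (mulM (mulM (mulM (sM 31) (sM 25)) (sM 21)) (sM 42)) &&
  M4.beq (powM (gM 0) 19) one4 && M4.beq (powM (gM 1) 19) one4 &&
  M4.beq (mulM (sM 3) (sM 21)) (scM 1 (mulM (sM 21) (sM 3))) &&
  decOk hDecA && eqSc (hDecA % 4) (hg 0) (decM hDecA) &&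
  decOk hDecB && eqSc (hDecB % 4) (hg 1) (decM hDecB)

end Cfsg.Agent.Janko3
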