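/-
The tests for the involution centraliser of `J₃`.
-/
import Cfsg.Agent.Janko3.Defs
import Cfsg.Agent.Janko3.DataInv

set_option autoImplicit false

namespace Cfsg.Agent.Janko3

open Cfsg.Agent.Janko1 (allFrom)

/-- The order of the class. -/
def numCls : ℕ := 26163

/-- The smaller of two matrices. -/
def minM (A B : M4) : M4 := bif Nat.ble (key A) (key B) then A else B

/-- The least scalar multiple. -/
def cnM (A : M4) : M4 := minM A (minM (mulW A) (mulW (mulW A)))

/-- Product modulo scalars. -/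
def pmul (A B : M4) : M4 := cnM (mulM A B)

/-- A conjugate of the involution. -/
def clsM (i : ℕ) : M4 := dec (clsCode i)

/-- The inverse generators. -/
def giM : ℕ → M4
  | 0 => dec invX
  | _ => dec invY

/-- The identity modulo scalars. -/
def oneC : M4 := cnM one4

/-- An element of the core. -/
def qM (i : ℕ) : M4 := dec (qElCode i)

/-- An element of the complement. -/
def aM (i : ℕ) : M4 := dec (aElCode i)

/-- An element of the Sylow subgroup. -/
def sM2 (i : ℕ) : M4 := dec (sElCode i)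

/-- The involution. -/
def tInv : M4 := clsM clsOne

/-- Test of a conjugate. -/
def clsTest (i : ℕ) : Bool :=
  sortTest clsM i && M4.beq (cnM (clsM i)) (clsM i) &&
    (bif Nat.beq i clsOne then true
     else Nat.blt (clsInfo i / 128) numCls && Nat.blt (clsInfo (clsInfo i / 128) / 2 % 64) (clsInfo i / 2 % 64) &&
      M4.beq (clsM i) (cnM (mulM (gM (clsInfo i % 2)) (mulM (clsM (clsInfo i / 128)) (giM (clsInfo i % 2))))))

/-- Test of a listed element. -/
def elTest (G : ℕ → M4) (D : ℕ → ℕ) (i : ℕ) : Bool :=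
  decOk (D i) && Nat.blt (D i % 4) 3 && M4.beq (G i) (scM (D i % 4) (decM (D i))) &&
    M4.beq (cnM (G i)) (G i) && sortTest G i

/-- Test of a row of a multiplication table. -/
def mulTest (G : ℕ → M4) (T : ℕ → ℕ) (n i : ℕ) : Bool :=
  allFrom (fun j => Nat.blt (T (i * n + j)) n && M4.beq (pmul (G i) (G j)) (G (T (i * n + j)))) 0 n

/-- Test of an element of the core. -/
def qTest (i : ℕ) : Bool :=
  elTest qM qElDec i && mulTest qM qMul 32 i && M4.beq (pmul tInv (qM i)) (pmul (qM i) tInv)

/-- Test of an element of the complement. -/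
def aTest (i : ℕ) : Bool :=
  elTest aM aElDec i && mulTest aM aMul 60 i && M4.beq (pmul tInv (aM i)) (pmul (aM i) tInv) &&
    allFrom (fun j => Nat.blt (aAct (i * 32 + j)) 32 &&
      M4.beq (pmul (aM i) (qM j)) (pmul (qM (aAct (i * 32 + j))) (aM i))) 0 32 &&
    (Nat.beq i aElOne || allFrom (fun j => !M4.beq (aM i) (qM j)) 0 32)

/-- An involution index of a table, or the identity. -/
def invOk (T : ℕ → ℕ) (n e a : ℕ) : Bool := Nat.blt a n && Nat.beq (T (a * n + a)) e

/-- Test of an element of the Sylow subgroup. -/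
def sTest (i : ℕ) : Bool :=
  elTest sM2 sElDec i && mulTest sM2 sMul 128 i && M4.beq (pmul tInv (sM2 i)) (pmul (sM2 i) tInv) &&
    (bif Nat.beq (sMul (i * 128 + i)) sElOne && !Nat.beq i sElOne
      then Nat.blt (sClass i) numCls && M4.beq (sM2 i) (clsM (sClass i)) else true) &&
    invOk sMul 128 sElOne (sDec i % 128) && invOk sMul 128 sElOne (sDec i / 128 % 128) &&
    invOk sMul 128 sElOne (sDec i / 16384) &&
    Nat.beq (sMul (sMul (sDec i % 128 * 128 + sDec i / 128 % 128) * 128 + sDec i / 16384)) i &&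
    (Nat.beq i sElOne || M4.beq (sM2 i) tInv || !allFrom (fun j => Nat.beq (sMul (i * 128 + j)) (sMul (j * 128 + i))) 0 128)

/-- The core lies in the Sylow subgroup, normally. -/
def qsTest (i : ℕ) : Bool :=
  !allFrom (fun s => !M4.beq (qM i) (sM2 s)) 0 128

/-- Test that the core contains its centraliser. -/
def centTest (n : ℕ) : Bool :=
  Nat.blt (centWit n) 32 &&
    (bif Nat.beq (n / 32) aElOne && (Nat.beq (n % 32) qElOne || Nat.beq (n % 32) qTee) then true
     else !M4.beq (pmul (pmul (aM (n / 32)) (qM (n % 32))) (qM (centWit n)))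
      (pmul (qM (centWit n)) (pmul (aM (n / 32)) (qM (n % 32)))))

/-- The image of a point. -/
def p5 (h k : ℕ) : ℕ := aPerm h / 8 ^ k % 8

/-- Test of the five-point action. -/
def permTest (i : ℕ) : Bool :=
  allFrom (fun k => Nat.blt (p5 i k) 5) 0 5 &&
    allFrom (fun j => allFrom (fun k => Nat.beq (p5 (aMul (i * 60 + j)) k) (p5 i (p5 j k))) 0 5) 0 60 &&
    (Nat.beq i aElOne || !allFrom (fun k => Nat.beq (p5 i k) k) 0 5) &&
    invOk aMul 60 aElOne (aInvDec i % 64) && invOk aMul 60 aElOne (aInvDec i / 64) &&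
    Nat.beq (aMul (aInvDec i % 64 * 60 + aInvDec i / 64)) i

/-- The core is extraspecial of minus type: facts about its table. -/
def coreTest (a : ℕ) : Bool :=
  (Nat.beq a qElOne || Nat.beq a qTee || !allFrom (fun b => Nat.beq (qMul (a * 32 + b)) (qMul (b * 32 + a))) 0 32) &&
  allFrom (fun b => Nat.beq (qMul (qTee * 32 + b)) (qMul (b * 32 + qTee))) 0 32 &&
  (Nat.beq (qMul (a * 32 + a)) qElOne || Nat.beq (qMul (a * 32 + a)) qTee) &&
  allFrom (fun b => Nat.beq (qMul (a * 32 + b)) (qMul (b * 32 + a)) ||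
    Nat.beq (qMul (a * 32 + b)) (qMul (qTee * 32 + qMul (b * 32 + a)))) 0 32 &&
  allFrom (fun b => !(Nat.beq (qMul (a * 32 + a)) qElOne && Nat.beq (qMul (b * 32 + b)) qElOne &&
      Nat.beq (qMul (a * 32 + b)) (qMul (b * 32 + a)) && !Nat.beq a qElOne && !Nat.beq b qElOne && !Nat.beq b a) ||
    allFrom (fun c => !(Nat.beq (qMul (c * 32 + c)) qElOne && Nat.beq (qMul (a * 32 + c)) (qMul (c * 32 + a)) &&
      Nat.beq (qMul (b * 32 + c)) (qMul (c * 32 + b))) ||
      Nat.beq c qElOne || Nat.beq c a || Nat.beq c b || Nat.beq c (qMul (a * 32 + b))) 0 32) 0 32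

/-- Assorted tests. -/
def invMisc : Bool :=
  Nat.blt clsOne numCls && Nat.blt qElOne 32 && Nat.blt qTee 32 && Nat.blt aElOne 60 && Nat.blt sElOne 128 &&
  M4.beq (qM qElOne) oneC && M4.beq (aM aElOne) oneC && M4.beq (sM2 sElOne) oneC && M4.beq (qM qTee) tInv &&
  !M4.beq tInv oneC && M4.beq (pmul tInv tInv) oneC &&
  M4.beq (mulM (giM 0) (gM 0)) one4 && M4.beq (mulM (giM 1) (gM 1)) one4 &&
  !allFrom (fun s => !M4.beq (sM2 s) tInv) 0 128

end Cfsg.Agent.Janko3
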