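/-
The tests for the automorphism group of `J₃`.
-/
import Cfsg.Agent.Janko3.InvDefs
import Cfsg.Agent.Janko3.DataAut

set_option autoImplicit false

namespace Cfsg.Agent.Janko3

open Cfsg.Agent.Janko1 (allFrom)

/-- An element of the involution centraliser. -/
def centM (n : ℕ) : M4 := pmul (aM (n / 32)) (qM (n % 32))

/-- An element of order eight. -/
def eightM : M4 := centM autA

/-- The second generator. -/
def uM : M4 := clsM autU

/-- The field automorphism on a matrix. -/
def sigM (A : M4) : M4 := ⟨Nat.xor A.p A.q, A.q⟩

/-- The outer automorphism on a matrix. -/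
def phiM (A : M4) : M4 := mulM (dec autConj) (mulM (sigM A) (dec autConjInv))

/-- The outer image of the second generator. -/
def u0M : M4 := cnM (phiM uM)

/-- The power is the identity modulo scalars. -/
def powOne (A : M4) (n : ℕ) : Bool := M4.beq (cnM (powM A n)) oneC

/-- The two kinds of image of the second generator. -/
def baseM : ℕ → M4
  | 0 => uM
  | _ => u0M

/-- Test of a possible image of the element of order eight. -/
def coverTest (n : ℕ) : Bool :=
  !powOne' n || (Nat.blt (autCover n) 1920 &&
    M4.beq (pmul (centM (autCover n)) eightM) (pmul (centM n) (centM (autCover n))))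
where
  /-- The fourth power is the involution. -/
  powOne' (n : ℕ) : Bool := M4.beq (cnM (powM (centM n) 4)) tInv

/-- Test of a possible image of the second generator. -/
def survTest (i : ℕ) : Bool :=
  !(powOne (mulM eightM (clsM i)) 4 && powOne (mulM (mulM eightM eightM) (clsM i)) 9 &&
      powOne (mulM (mulM (mulM eightM eightM) eightM) (clsM i)) 19 && powOne (mulM tInv (clsM i)) 17) ||
    (Nat.blt (autSurv i / 2) 1920 &&
      M4.beq (pmul (centM (autSurv i / 2)) eightM) (pmul eightM (centM (autSurv i / 2))) &&
      M4.beq (pmul (centM (autSurv i / 2)) (baseM (autSurv i % 2))) (pmul (clsM i) (centM (autSurv i / 2))))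

/-- The outer image is no conjugate by the centraliser. -/
def outerTest (n : ℕ) : Bool :=
  !M4.beq (pmul (centM n) eightM) (pmul eightM (centM n)) ||
    !M4.beq (pmul (centM n) uM) (pmul u0M (centM n))

/-- A letter. -/
def letterM : ℕ → M4
  | 0 => eightM
  | 1 => cnM (powM eightM 7)
  | _ => uM

/-- The value of a word. -/
def wordM : ℕ → ℕ → M4
  | _, 0 => oneC
  | v, n + 1 => pmul (letterM (v % 4)) (wordM (v / 4) n)

/-- Assorted tests. -/
def autMisc : Bool :=
  Nat.blt autA 1920 && Nat.blt autU numCls &&
  M4.beq (cnM (powM eightM 4)) tInv &&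
  powOne (mulM eightM uM) 4 && powOne (mulM (mulM eightM eightM) uM) 9 &&
  powOne (mulM (mulM (mulM eightM eightM) eightM) uM) 19 && powOne (mulM tInv uM) 17 &&
  M4.beq (wordM autWordX autLenX) (cnM (gM 0)) && M4.beq (wordM autWordY autLenY) (cnM (gM 1)) &&
  M4.beq (mulM (dec autConjInv) (dec autConj)) one4 &&
  decOk autPhiX && eqSc (autPhiX % 4) (phiM (gM 0)) (decM autPhiX) &&
  decOk autPhiY && eqSc (autPhiY % 4) (phiM (gM 1)) (decM autPhiY) &&
  M4.beq (cnM (phiM eightM)) (cnM eightM)

end Cfsg.Agent.Janko3
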