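/-
Kernel-evaluated parts of the certificate for the triple cover of `J₃`.
-/
import Cfsg.Agent.Janko3.AutDefs

set_option autoImplicit false
set_option maxRecDepth 100000
set_option Elab.async false

namespace Cfsg.Agent.Janko3

open Cfsg.Agent.Janko1 (allFrom allFrom_zero allFrom_split)

theorem cover_ok : allFrom coverTest 0 1920 = true := by decide +kernel

theorem outer_ok : allFrom outerTest 0 1920 = true := by decide +kernel

theorem aut_misc : autMisc = true := by decide +kernel

end Cfsg.Agent.Janko3
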