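/-
Kernel-evaluated parts of the certificate for the triple cover of `J₃`.
-/
import Cfsg.Agent.Janko3.AutDefs

set_option autoImplicit false
set_option maxRecDepth 100000
set_option Elab.async false

namespace Cfsg.Agent.Janko3

open Cfsg.Agent.Janko1 (allFrom allFrom_zero allFrom_split)

theorem survp_part4 : allFrom survTest 8724 2181 = true := by decide +kernel

theorem survp_part5 : allFrom survTest 10905 2181 = true := by decide +kernel

theorem survp_part6 : allFrom survTest 13086 2181 = true := by decide +kernel

theorem survp_part7 : allFrom survTest 15267 2181 = true := by decide +kernel


end Cfsg.Agent.Janko3
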