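/-
Kernel-evaluated parts of the certificate for the triple cover of `J₃`.
-/
import Cfsg.Agent.Janko3.AutDefs
import Cfsg.Agent.Janko3.ChecksSURVP0
import Cfsg.Agent.Janko3.ChecksSURVP1
import Cfsg.Agent.Janko3.ChecksSURVP2

set_option autoImplicit false
set_option maxRecDepth 100000
set_option Elab.async false

namespace Cfsg.Agent.Janko3

open Cfsg.Agent.Janko1 (allFrom allFrom_zero allFrom_split)

private theorem join {f : ℕ → Bool} {a b n : ℕ} (h1 : allFrom f 0 a = true) (h2 : allFrom f a b = true)
    (e : a + b = n) : allFrom f 0 n = true := e ▸ allFrom_split h1 h2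

private theorem count_eq : numCls = 26163 := by decide +kernel

theorem surv_ok : allFrom survTest 0 numCls = true := by
  rw [count_eq]
  exact (join (n := 26163) (join (n := 23991) (join (n := 21810) (join (n := 19629) (join (n := 17448) (join (n := 15267) (join (n := 13086) (join (n := 10905) (join (n := 8724) (join (n := 6543) (join (n := 4362) survp_part0
    survp_part1 rfl)
    survp_part2 rfl)
    survp_part3 rfl)
    survp_part4 rfl)
    survp_part5 rfl)
    survp_part6 rfl)
    survp_part7 rfl)
    survp_part8 rfl)
    survp_part9 rfl)
    survp_part10 rfl)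
    survp_part11 rfl)

end Cfsg.Agent.Janko3
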