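/-
Kernel-evaluated parts of the certificate for the triple cover of `J₃`.
-/
import Cfsg.Agent.Janko3.InvDefs

set_option autoImplicit false
set_option maxRecDepth 100000
set_option Elab.async false

namespace Cfsg.Agent.Janko3

open Cfsg.Agent.Janko1 (allFrom allFrom_zero allFrom_split)

theorem vclsp_part0 : allFrom clsTest 0 2907 = true := by decide +kernel

theorem vclsp_part1 : allFrom clsTest 2907 2907 = true := by decide +kernel

theorem vclsp_part2 : allFrom clsTest 5814 2907 = true := by decide +kernel


end Cfsg.Agent.Janko3
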