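/-
Kernel-evaluated parts of the certificate for the triple cover of `J₃`.
-/
import Cfsg.Agent.Janko3.InvDefs
import Cfsg.Agent.Janko3.ChecksVCLSP0
import Cfsg.Agent.Janko3.ChecksVCLSP1
import Cfsg.Agent.Janko3.ChecksVCLSP2

set_option autoImplicit false
set_option maxRecDepth 100000
set_option Elab.async false

namespace Cfsg.Agent.Janko3

open Cfsg.Agent.Janko1 (allFrom allFrom_zero allFrom_split)

private theorem join {f : ℕ → Bool} {a b n : ℕ} (h1 : allFrom f 0 a = true) (h2 : allFrom f a b = true)
    (e : a + b = n) : allFrom f 0 n = true := e ▸ allFrom_split h1 h2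

private theorem count_eq : numCls = 26163 := by decide +kernel

theorem cls_ok : allFrom clsTest 0 numCls = true := by
  rw [count_eq]
  exact (join (n := 26163) (join (n := 23256) (join (n := 20349) (join (n := 17442) (join (n := 14535) (join (n := 11628) (join (n := 8721) (join (n := 5814) vclsp_part0
    vclsp_part1 rfl)
    vclsp_part2 rfl)
    vclsp_part3 rfl)
    vclsp_part4 rfl)
    vclsp_part5 rfl)
    vclsp_part6 rfl)
    vclsp_part7 rfl)
    vclsp_part8 rfl)

end Cfsg.Agent.Janko3
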