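/-
Kernel-evaluated parts of the certificate for the triple cover of `J₃`.
-/
import Cfsg.Agent.Janko3.InvDefs

set_option autoImplicit false
set_option maxRecDepth 100000
set_option Elab.async false

namespace Cfsg.Agent.Janko3

open Cfsg.Agent.Janko1 (allFrom allFrom_zero allFrom_split)

theorem q_ok : allFrom qTest 0 32 = true := by decide +kernel

theorem qs_ok : allFrom qsTest 0 32 = true := by decide +kernel

theorem a_ok : allFrom aTest 0 60 = true := by decide +kernel

theorem s_ok : allFrom sTest 0 128 = true := by decide +kernel

theorem cent_ok : allFrom centTest 0 1920 = true := by decide +kernel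

theorem perm_ok : allFrom permTest 0 60 = true := by decide +kernel

theorem core_ok : allFrom coreTest 0 32 = true := by decide +kernel

theorem inv_misc : invMisc = true := by decide +kernel

end Cfsg.Agent.Janko3
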