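/-
Kernel-evaluated parts of the certificate for the triple cover of `J₃`.
-/
import Cfsg.Agent.Janko3.Defs

set_option autoImplicit false
set_option maxRecDepth 100000
set_option Elab.async false

namespace Cfsg.Agent.Janko3

open Cfsg.Agent.Janko1 (allFrom allFrom_zero allFrom_split)

theorem pointp_part21 : allFrom repTest 21 1 = true := by decide +kernel

theorem pointp_part22 : allFrom repTest 22 1 = true := by decide +kernel

theorem pointp_part23 : allFrom repTest 23 1 = true := by decide +kernel

theorem pointp_part24 : allFrom repTest 24 1 = true := by decide +kernel

theorem pointp_part25 : allFrom repTest 25 1 = true := by decide +kernel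

theorem pointp_part26 : allFrom repTest 26 1 = true := by decide +kernel

theorem pointp_part27 : allFrom repTest 27 1 = true := by decide +kernel


end Cfsg.Agent.Janko3
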