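/-
Kernel-evaluated parts of the certificate for the triple cover of `J₃`.
-/
import Cfsg.Agent.Janko3.Defs
import Cfsg.Agent.Janko3.ChecksPOINTP0
import Cfsg.Agent.Janko3.ChecksPOINTP1
import Cfsg.Agent.Janko3.ChecksPOINTP2
import Cfsg.Agent.Janko3.ChecksPOINTP3

set_option autoImplicit false
set_option maxRecDepth 100000
set_option Elab.async false

namespace Cfsg.Agent.Janko3

open Cfsg.Agent.Janko1 (allFrom allFrom_zero allFrom_split)

private theorem join {f : ℕ → Bool} {a b n : ℕ} (h1 : allFrom f 0 a = true) (h2 : allFrom f a b = true)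
    (e : a + b = n) : allFrom f 0 n = true := e ▸ allFrom_split h1 h2

private theorem count_eq : numRep = 28 := by decide +kernel

theorem rep_ok : allFrom repTest 0 numRep = true := by
  rw [count_eq]
  exact (join (n := 28) (join (n := 27) (join (n := 26) (join (n := 25) (join (n := 24) (join (n := 23) (join (n := 22) (join (n := 21) (join (n := 20) (join (n := 19) (join (n := 18) (join (n := 17) (join (n := 16) (join (n := 15) (join (n := 14) (join (n := 13) (join (n := 12) (join (n := 11) (join (n := 10) (join (n := 9) (join (n := 8) (join (n := 7) (join (n := 6) (join (n := 5) (join (n := 4) (join (n := 3) (join (n := 2) pointp_part0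
    pointp_part1 rfl)
    pointp_part2 rfl)
    pointp_part3 rfl)
    pointp_part4 rfl)
    pointp_part5 rfl)
    pointp_part6 rfl)
    pointp_part7 rfl)
    pointp_part8 rfl)
    pointp_part9 rfl)
    pointp_part10 rfl)
    pointp_part11 rfl)
    pointp_part12 rfl)
    pointp_part13 rfl)
    pointp_part14 rfl)
    pointp_part15 rfl)
    pointp_part16 rfl)
    pointp_part17 rfl)
    pointp_part18 rfl)
    pointp_part19 rfl)
    pointp_part20 rfl)
    pointp_part21 rfl)
    pointp_part22 rfl)
    pointp_part23 rfl)
    pointp_part24 rfl)
    pointp_part25 rfl)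
    pointp_part26 rfl)
    pointp_part27 rfl)

end Cfsg.Agent.Janko3
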