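/-
The stabiliser of the base line fixes no other line.
-/
import Cfsg.Agent.Janko3.Defs

set_option autoImplicit false
set_option maxRecDepth 100000

namespace Cfsg.Agent.Janko3

open Cfsg.Agent.Janko1 (allFrom)

/-- A representative of a suborbit is moved, unless it is the base point. -/
def fixTest (r : ℕ) : Bool :=
  Nat.beq (repIdx r) tOne || !inLine (mulM (kg 0) (colA (tM (repIdx r)))) (colA (tM (repIdx r))) ||
    !inLine (mulM (kg 1) (colA (tM (repIdx r)))) (colA (tM (repIdx r)))

theorem rep_range : allFrom (fun r => Nat.blt (repIdx r) numT) 0 numRep = true := by decide +kernel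

theorem fix_ok : allFrom fixTest 0 numRep = true := by decide +kernel

end Cfsg.Agent.Janko3
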