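/-
Kernel-evaluated parts of the certificate for the triple cover of `J₃`.
-/
import Cfsg.Agent.Janko3.Defs

set_option autoImplicit false
set_option maxRecDepth 100000
set_option Elab.async false

namespace Cfsg.Agent.Janko3

open Cfsg.Agent.Janko1 (allFrom allFrom_zero allFrom_split)

theorem facp_part36 : allFrom facTest 34884 969 = true := by decide +kernel

theorem facp_part37 : allFrom facTest 35853 969 = true := by decide +kernel

theorem facp_part38 : allFrom facTest 36822 969 = true := by decide +kernel

theorem facp_part39 : allFrom facTest 37791 969 = true := by decide +kernel

theorem facp_part40 : allFrom facTest 38760 969 = true := by decide +kernel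

theorem facp_part41 : allFrom facTest 39729 969 = true := by decide +kernel


end Cfsg.Agent.Janko3
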