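/-
Kernel-evaluated parts of the certificate for the triple cover of `J₃`.
-/
import Cfsg.Agent.Janko3.Defs

set_option autoImplicit false
set_option maxRecDepth 100000
set_option Elab.async false

namespace Cfsg.Agent.Janko3

open Cfsg.Agent.Janko1 (allFrom allFrom_zero allFrom_split)

theorem facp_part42 : allFrom facTest 40698 969 = true := by decide +kernel

theorem facp_part43 : allFrom facTest 41667 969 = true := by decide +kernel

theorem facp_part44 : allFrom facTest 42636 969 = true := by decide +kernel

theorem facp_part45 : allFrom facTest 43605 969 = true := by decide +kernel

theorem facp_part46 : allFrom facTest 44574 969 = true := by decide +kernel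

theorem facp_part47 : allFrom facTest 45543 969 = true := by decide +kernel


end Cfsg.Agent.Janko3
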