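/-
Kernel-evaluated parts of the certificate for the triple cover of `J₃`.
-/
import Cfsg.Agent.Janko3.Defs
import Cfsg.Agent.Janko3.ChecksFACP0
import Cfsg.Agent.Janko3.ChecksFACP1
import Cfsg.Agent.Janko3.ChecksFACP2
import Cfsg.Agent.Janko3.ChecksFACP3
import Cfsg.Agent.Janko3.ChecksFACP4
import Cfsg.Agent.Janko3.ChecksFACP5
import Cfsg.Agent.Janko3.ChecksFACP6
import Cfsg.Agent.Janko3.ChecksFACP7

set_option autoImplicit false
set_option maxRecDepth 100000
set_option Elab.async false

namespace Cfsg.Agent.Janko3

open Cfsg.Agent.Janko1 (allFrom allFrom_zero allFrom_split)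

private theorem join {f : ℕ → Bool} {a b n : ℕ} (h1 : allFrom f 0 a = true) (h2 : allFrom f a b = true)
    (e : a + b = n) : allFrom f 0 n = true := e ▸ allFrom_split h1 h2

private theorem count_eq : (2 * numT) = 46512 := by decide +kernel

theorem fac_ok : allFrom facTest 0 (2 * numT) = true := by
  rw [count_eq]
  exact (join (n := 46512) (join (n := 45543) (join (n := 44574) (join (n := 43605) (join (n := 42636) (join (n := 41667) (join (n := 40698) (join (n := 39729) (join (n := 38760) (join (n := 37791) (join (n := 36822) (join (n := 35853) (join (n := 34884) (join (n := 33915) (join (n := 32946) (join (n := 31977) (join (n := 31008) (join (n := 30039) (join (n := 29070) (join (n := 28101) (join (n := 27132) (join (n := 26163) (join (n := 25194) (join (n := 24225) (join (n := 23256) (join (n := 22287) (join (n := 21318) (join (n := 20349) (join (n := 19380) (join (n := 18411) (join (n := 17442) (join (n := 16473) (join (n := 15504) (join (n := 14535) (join (n := 13566) (join (n := 12597) (join (n := 11628) (join (n := 10659) (join (n := 9690) (join (n := 8721) (join (n := 7752)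 (join (n := 6783) (join (n := 5814) (join (n := 4845) (join (n := 3876) (join (n := 2907) (join (n := 1938) facp_part0
    facp_part1 rfl)
    facp_part2 rfl)
    facp_part3 rfl)
    facp_part4 rfl)
    facp_part5 rfl)
    facp_part6 rfl)
    facp_part7 rfl)
    facp_part8 rfl)
    facp_part9 rfl)
    facp_part10 rfl)
    facp_part11 rfl)
    facp_part12 rfl)
    facp_part13 rfl)
    facp_part14 rfl)
    facp_part15 rfl)
    facp_part16 rfl)
    facp_part17 rfl)
    facp_part18 rfl)
    facp_part19 rfl)
    facp_part20 rfl)
    facp_part21 rfl)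
    facp_part22 rfl)
    facp_part23 rfl)
    facp_part24 rfl)
    facp_part25 rfl)
    facp_part26 rfl)
    facp_part27 rfl)
    facp_part28 rfl)
    facp_part29 rfl)
    facp_part30 rfl)
    facp_part31 rfl)
    facp_part32 rfl)
    facp_part33 rfl)
    facp_part34 rfl)
    facp_part35 rfl)
    facp_part36 rfl)
    facp_part37 rfl)
    facp_part38 rfl)
    facp_part39 rfl)
    facp_part40 rfl)
    facp_part41 rfl)
    facp_part42 rfl)
    facp_part43 rfl)
    facp_part44 rfl)
    facp_part45 rfl)
    facp_part46 rfl)
    facp_part47 rfl)

end Cfsg.Agent.Janko3
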