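/-
Kernel-evaluated parts of the certificate for the triple cover of `J₃`.
-/
import Cfsg.Agent.Janko3.Defs

set_option autoImplicit false
set_option maxRecDepth 100000

namespace Cfsg.Agent.Janko3

open Cfsg.Agent.Janko1 (allFrom allFrom_zero)

theorem k_ok : allFrom kTest 0 numK = true := by decide +kernel

theorem gen_ok : allFrom genTest 0 43 = true := by decide +kernel

theorem misc_ok : miscTest = true := by decide +kernel

end Cfsg.Agent.Janko3
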