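/-
Kernel-evaluated parts of the certificate for the triple cover of `J₃`.
-/
import Cfsg.Agent.Janko3.Defs
import Cfsg.Agent.Janko3.ChecksREDP0
import Cfsg.Agent.Janko3.ChecksREDP1
import Cfsg.Agent.Janko3.ChecksREDP2

set_option autoImplicit false
set_option maxRecDepth 100000
set_option Elab.async false

namespace Cfsg.Agent.Janko3

open Cfsg.Agent.Janko1 (allFrom allFrom_zero allFrom_split)

private theorem join {f : ℕ → Bool} {a b n : ℕ} (h1 : allFrom f 0 a = true) (h2 : allFrom f a b = true)
    (e : a + b = n) : allFrom f 0 n = true := e ▸ allFrom_split h1 h2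

private theorem count_eq : numT = 23256 := by decide +kernel

theorem red_ok : allFrom redTest 0 numT = true := by
  rw [count_eq]
  exact (join (n := 23256) (join (n := 21714) (join (n := 20163) (join (n := 18612) (join (n := 17061) (join (n := 15510) (join (n := 13959) (join (n := 12408) (join (n := 10857) (join (n := 9306) (join (n := 7755) (join (n := 6204) (join (n := 4653) (join (n := 3102) redp_part0
    redp_part1 rfl)
    redp_part2 rfl)
    redp_part3 rfl)
    redp_part4 rfl)
    redp_part5 rfl)
    redp_part6 rfl)
    redp_part7 rfl)
    redp_part8 rfl)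
    redp_part9 rfl)
    redp_part10 rfl)
    redp_part11 rfl)
    redp_part12 rfl)
    redp_part13 rfl)
    redp_part14 rfl)

end Cfsg.Agent.Janko3
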