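/-
The defining generators of the triple cover of `J₃` as bit-sliced matrices.
-/
import Cfsg.Agent.Janko3.Defs

set_option autoImplicit false
set_option maxRecDepth 100000

namespace Cfsg.Agent.Janko3

open Cfsg.Spor

/-- A two-bit entry. -/
def ent4 (A : M4) (z w : F9) : ℕ :=
  (A.p.testBit (9 * (ixE z : ℕ) + ixE w)).toNat + 2 * (A.q.testBit (9 * (ixE z : ℕ) + ixE w)).toNat

/-- The code of a power of `ω`. -/
def codePow (n : ZMod 3) : ℕ := n.val + 1

/-- The symbolic translation coefficient. -/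
def symLam (Z z : F9) : ℕ :=
  if z = 0 then 1
  else if F9.div Z z = F9.I - F9.one then 2
  else if F9.div Z z = -F9.I - F9.one then 3
  else 1

/-- The symbolic matrices `A_Z`. -/
def symA (Z z w : F9) : ℕ := if z = w then codePow (Z.1 * z.1 + Z.2 * z.2) else 0

/-- The symbolic matrices `E_Z`. -/
def symE (Z z w : F9) : ℕ := if z = w then codePow ((Z.1 - z.1) ^ 2 + (Z.2 - z.2) ^ 2) else 0

/-- The symbolic matrices `D_Z`. -/
def symD (Z w z : F9) : ℕ := if w = z + Z then symLam Z z else 0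

/-- The symbolic matrices `B_Z`. -/
def symB (Z w z : F9) : ℕ := if w = F9.mul Z z then 1 else 0

/-- The symbolic matrices `C_Z`. -/
def symC (Z w z : F9) : ℕ :=
  if z = 0 then (if w = 0 then 1 else 0)
  else if w = -F9.div Z z ∨ w = F9.mul F9.I (F9.div Z z) ∨ w = -F9.mul F9.I (F9.div Z z) then 1 else 0

theorem symA_ok : ∀ Z z w : F9, ent4 (sM (ixE Z : ℕ)) z w = symA Z z w := by decide +kernel

theorem symE_ok : ∀ Z z w : F9, ent4 (sM (9 + (ixE Z : ℕ))) z w = symE Z z w := by decide +kernel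

theorem symD_ok : ∀ Z z w : F9, ent4 (sM (18 + (ixE Z : ℕ))) z w = symD Z z w := by decide +kernel

theorem symB_ok : ∀ Z z w : F9, Z ≠ 0 → ent4 (sM (26 + (ixE Z : ℕ))) z w = symB Z z w := by decide +kernel

theorem symC_ok : ∀ Z z w : F9, Z ≠ 0 → ent4 (sM (34 + (ixE Z : ℕ))) z w = symC Z z w := by decide +kernel

section
variable (F : Type*) [Field F] [F4Data F]

local notation "ω" => (F4Data.w : F)

theorem valF_codePow (n : ZMod 3) : valF F (codePow n) = omegaPow F ω n := by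
  have h : n.val < 3 := ZMod.val_lt n
  rw [omegaPow, codePow]
  generalize n.val = m at h ⊢
  interval_cases m <;> simp [valF]

theorem mat_eq_of_ent {A : M4} {M : Matrix F9 F9 F} (h : ∀ z w, M z w = valF F (ent4 A z w)) : M = mat F A := by
  ext z w
  rw [h, mat, toMat, Matrix.submatrix_apply, toMat9, entF_eq_val]
  rfl

theorem j3A_eq (Z : F9) : j3A F ω Z = mat F (sM (ixE Z : ℕ)) := by
  refine mat_eq_of_ent F fun z w => ?_
  rw [symA_ok, symA, j3A, Matrix.diagonal_apply]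
  split_ifs
  · rw [valF_codePow]
  · rfl

theorem j3E_eq (Z : F9) : j3E F ω Z = mat F (sM (9 + (ixE Z : ℕ))) := by
  refine mat_eq_of_ent F fun z w => ?_
  rw [symE_ok, symE, j3E, Matrix.diagonal_apply]
  split_ifs
  · rw [valF_codePow]
  · rfl

theorem j3D_eq (Z : F9) : j3D F ω Z = mat F (sM (18 + (ixE Z : ℕ))) := by
  refine mat_eq_of_ent F fun z w => ?_
  rw [symD_ok, symD, j3D, Matrix.of_apply]
  split_ifs with h
  · unfold symLam j3Lam
    split_ifs <;> simp [valF]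
  · rfl

theorem j3B_eq (Z : F9) (hZ : Z ≠ 0) : j3B F Z = mat F (sM (26 + (ixE Z : ℕ))) := by
  refine mat_eq_of_ent F fun z w => ?_
  rw [symB_ok _ _ _ hZ, symB, j3B, Matrix.of_apply]
  split_ifs <;> rfl

theorem j3C_eq (Z : F9) (hZ : Z ≠ 0) : j3C F Z = mat F (sM (34 + (ixE Z : ℕ))) := by
  refine mat_eq_of_ent F fun z w => ?_
  rw [symC_ok _ _ _ hZ, symC, j3C, Matrix.of_apply]
  split_ifs <;> rfl

theorem gens_code {M : Matrix F9 F9 F} (h : M ∈ j3Gens F ω) : ∃ n, n < 43 ∧ M = mat F (sM n) := by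
  rcases h with (((⟨Z, rfl⟩ | ⟨Z, rfl⟩) | ⟨Z, rfl⟩) | ⟨Z, hZ, rfl⟩) | ⟨Z, hZ, rfl⟩
  · exact ⟨_, by omega, j3A_eq F Z⟩
  · exact ⟨_, by omega, j3E_eq F Z⟩
  · exact ⟨_, by omega, j3D_eq F Z⟩
  · exact ⟨_, by omega, j3B_eq F Z hZ⟩
  · exact ⟨_, by omega, j3C_eq F Z hZ⟩

theorem code_gens {n : ℕ} (hn : n < 43) : mat F (sM n) ∈ j3Gens F ω := by
  have key : ∀ Z : Fin 9, 0 < (Z : ℕ) → ixE.symm Z ≠ (0 : F9) := by decide
  rcases Nat.lt_or_ge n 27 with h | h
  · rcases Nat.lt_or_ge n 9 with h1 | h1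
    · exact Or.inl (Or.inl (Or.inl (Or.inl ⟨ixE.symm ⟨n, h1⟩, by simp [j3A_eq]⟩)))
    rcases Nat.lt_or_ge n 18 with h2 | h2
    · refine Or.inl (Or.inl (Or.inl (Or.inr ⟨ixE.symm ⟨n - 9, by omega⟩, ?_⟩)))
      rw [j3E_eq, Equiv.apply_symm_apply]; congr 2; show 9 + (n - 9) = n; omega
    · refine Or.inl (Or.inl (Or.inr ⟨ixE.symm ⟨n - 18, by omega⟩, ?_⟩))
      rw [j3D_eq, Equiv.apply_symm_apply]; congr 2; show 18 + (n - 18) = n; omega
  · rcases Nat.lt_or_ge n 35 with h2 | h2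
    · refine Or.inl (Or.inr ⟨ixE.symm ⟨n - 26, by omega⟩, key _ (show 0 < n - 26 by omega), ?_⟩)
      rw [j3B_eq F _ (key _ (show 0 < n - 26 by omega)), Equiv.apply_symm_apply]; congr 2
      show n = 26 + (n - 26); omega
    · refine Or.inr ⟨ixE.symm ⟨n - 34, by omega⟩, key _ (show 0 < n - 34 by omega), ?_⟩
      rw [j3C_eq F _ (key _ (show 0 < n - 34 by omega)), Equiv.apply_symm_apply]; congr 2
      show n = 34 + (n - 34); omega

end

end Cfsg.Agent.Janko3
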