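/-
Groups given by a closed list of matrices, up to scalars.
-/
import Cfsg.Agent.Janko3.Gens
import Mathlib.GroupTheory.Index

set_option autoImplicit false

namespace Cfsg.Agent.Janko3

open Cfsg.Spor (F9)
open Cfsg.Agent.Janko1 (allFrom_zero)

variable {F : Type*} [Field F] [d : F4Data F]

local notation "ω" => (F4Data.w : F)

/-- The matrix of an invertible matrix. -/
abbrev um (g : GL F9 F) : Matrix F9 F9 F := (g : Matrix F9 F9 F)

theorem um_mul (g h : GL F9 F) : um (g * h) = um g * um h := rfl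

theorem um_inj {g h : GL F9 F} (e : um g = um h) : g = h := Units.ext e

theorem um_ne_zero (g : GL F9 F) : um g ≠ 0 := g.isUnit.ne_zero

/-- The scalar matrix `ω`. -/
def wU (F : Type*) [Field F] [F4Data F] : GL F9 F where
  val := (F4Data.w : F) • 1
  inv := (F4Data.w : F) ^ 2 • 1
  val_inv := by rw [Matrix.smul_mul, Matrix.one_mul, smul_smul, ← pow_succ', w_pow_three, one_smul]
  inv_val := by rw [Matrix.smul_mul, Matrix.one_mul, smul_smul, ← pow_succ, w_pow_three, one_smul]

theorem um_wU : um (wU F) = ω • (1 : Matrix F9 F9 F) := rfl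

theorem um_wU_pow (c : ℕ) : um (wU F ^ c) = ω ^ c • (1 : Matrix F9 F9 F) := by
  induction c with
  | zero => simp [um]
  | succ c ih => rw [pow_succ, um_mul, ih, um_wU, Matrix.smul_mul, Matrix.one_mul, smul_smul, pow_succ]

theorem um_wU_mul (c : ℕ) (g : GL F9 F) : um (wU F ^ c * g) = ω ^ c • um g := by
  rw [um_mul, um_wU_pow, Matrix.smul_mul, Matrix.one_mul]

/-- The scalar `ω ^ c` times a member is a member of a group containing `ω`. -/
theorem mem_of_smul {L : Subgroup (GL F9 F)} (hw : wU F ∈ L) {g z : GL F9 F} (hg : g ∈ L) {x : F}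
    (hx : x ≠ 0) (e : um z = x • um g) : z ∈ L := by
  obtain ⟨c, -, rfl⟩ := exists_pow_of_ne hx
  rw [← um_wU_mul] at e
  rw [um_inj e]
  exact mul_mem (pow_mem hw c) hg

theorem stable_closure {H : Type*} [Group H] [Finite H] {T S : Set H}
    (h1 : (1 : H) ∈ S) (hs : ∀ x ∈ T, ∀ y ∈ S, x * y ∈ S) {g : H}
    (hg : g ∈ Subgroup.closure T) : g ∈ S := by
  induction hg using Subgroup.closure_induction_left with
  | one => exact h1
  | mul_left x hx y _ hy => exact hs x hx y hy
  | inv_mul_cancel x hx y _ hy =>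
    have hp : ∀ (m : ℕ), x ^ m * y ∈ S := by
      intro m
      induction m with
      | zero => simpa using hy
      | succ m ih => rw [pow_succ', mul_assoc]; exact hs x hx _ ih
    have hx' : x⁻¹ = x ^ (orderOf x - 1) := by
      rw [inv_eq_iff_mul_eq_one, ← pow_succ', Nat.sub_add_cancel (orderOf_pos x), pow_orderOf_eq_one]
    exact hx' ▸ hp _

theorem sort_lt {G : ℕ → M4} {N : ℕ} (h : Janko1.allFrom (sortTest G) 0 N = true) :
    ∀ {i j : ℕ}, i < j → j < N → key (G i) < key (G j) := by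
  intro i j hij
  induction j, hij using Nat.le_induction with
  | base =>
    intro hj
    have h' := allFrom_zero h hj
    simp only [sortTest, Bool.and_eq_true, Bool.or_eq_true, Nat.blt_eq] at h'
    rcases h'.2 with e | e
    · exact absurd (Nat.eq_of_beq_eq_true e) (by omega)
    · simpa using e
  | succ j hj ih =>
    intro hN
    have h' := allFrom_zero h hN
    simp only [sortTest, Bool.and_eq_true, Bool.or_eq_true, Nat.blt_eq] at h'
    rcases h'.2 with e | e
    · exact absurd (Nat.eq_of_beq_eq_true e) (by omega)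
    · exact (ih (by omega)).trans (by simpa using e)

theorem sort_inj {G : ℕ → M4} {N : ℕ} (hb : ∀ i, Bdd (G i)) (h : Janko1.allFrom (sortTest G) 0 N = true)
    {i j : ℕ} (hi : i < N) (hj : j < N) {x : F} (hx : x ≠ 0) (e : mat F (G j) = x • mat F (G i)) : i = j := by
  have hc : ∀ {k}, k < N → canon (G k) = true := fun hk => by
    have h' := allFrom_zero h hk
    simp only [sortTest, Bool.and_eq_true] at h'
    exact h'.1
  have heq := canon_unique (hb i) (hb j) (hc hi) (hc hj) hx e
  rcases lt_trichotomy i j with l | l | l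
  · have := sort_lt h l hj; rw [heq] at this; exact absurd this (lt_irrefl _)
  · exact l
  · have := sort_lt h l hi; rw [heq] at this; exact absurd this (lt_irrefl _)

/-- Every element of an orbit tree lies in the generated group. -/
theorem tree_mem {G g : ℕ → M4} {info : ℕ → ℕ} {N one : ℕ}
    (h : ∀ i, i < N → treeTest G g info N one i = true) {L : Subgroup (GL F9 F)} (hw : wU F ∈ L)
    (hg : ∀ k, k < 2 → ∃ u ∈ L, um u = mat F (g k)) :
    ∀ i, i < N → ∃ u ∈ L, um u = mat F (G i) := by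
  suffices H : ∀ n i, info i / 8 % 64 < n → i < N → ∃ u ∈ L, um u = mat F (G i) from
    fun i hi => H _ i (Nat.lt_succ_self _) hi
  intro n
  induction n with
  | zero => intro i h0; omega
  | succ n ih =>
    intro i hd hi
    have h' := h i hi
    rw [treeTest] at h'
    by_cases e : Nat.beq i one = true
    · rw [e, cond_true] at h'
      exact ⟨1, one_mem _, by rw [M4.eq_of_beq h', mat_one]; rfl⟩
    · rw [Bool.not_eq_true] at e
      rw [e, cond_false] at h'
      simp only [Bool.and_eq_true, Nat.blt_eq] at h'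
      obtain ⟨⟨hp, hdep⟩, he⟩ := h'
      obtain ⟨u, hu, eu⟩ := ih _ (by omega) hp
      obtain ⟨v, hv, ev⟩ := hg (info i % 2) (Nat.mod_lt _ (by norm_num))
      obtain ⟨-, he'⟩ := mat_eqSc (F := F) he
      refine ⟨wU F ^ (info i / 2 % 4) * (v * u), mul_mem (pow_mem hw _) (mul_mem hv hu), ?_⟩
      rw [um_wU_mul, um_mul, ev, eu, he', mat_mul]

/-- Membership in the group of a closed list. -/
theorem list_group {G g : ℕ → M4} {info cl : ℕ → ℕ} {N one : ℕ} (hone : one < N)
    (h : ∀ i, i < N → treeTest G g info N one i = true ∧ closeTest G g cl N i = true)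
    {a b : GL F9 F} (ha : um a = mat F (g 0)) (hb : um b = mat F (g 1)) (z : GL F9 F) :
    z ∈ Subgroup.closure ({wU F, a, b} : Set (GL F9 F)) ↔ ∃ x : F, x ≠ 0 ∧ ∃ i, i < N ∧ um z = x • mat F (G i) := by
  have hG1 : mat F (G one) = 1 := by
    have h' := (h one hone).1
    rw [treeTest, Nat.beq_refl, cond_true] at h'
    rw [M4.eq_of_beq h', mat_one]
  constructor
  · intro hz
    refine stable_closure (S := {z | ∃ x : F, x ≠ 0 ∧ ∃ i, i < N ∧ um z = x • mat F (G i)})
      ⟨1, one_ne_zero, one, hone, by rw [hG1, one_smul]; rfl⟩ ?_ hz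
    rintro s hs y ⟨x, hx, i, hi, e⟩
    have hc := (h i hi).2
    simp only [closeTest, Bool.and_eq_true, Nat.blt_eq] at hc
    obtain ⟨⟨⟨h0, e0⟩, h1⟩, e1⟩ := hc
    rcases hs with rfl | rfl | rfl
    · exact ⟨ω * x, mul_ne_zero w_ne_zero hx, i, hi, by
        rw [um_mul, e, um_wU, Matrix.smul_mul, Matrix.one_mul, smul_smul]⟩
    · refine ⟨x * ω ^ (cl i % 4), mul_ne_zero hx (pow_ne_zero _ w_ne_zero), _, h0, ?_⟩
      rw [um_mul, e, ha, Matrix.mul_smul, ← mat_mul, (mat_eqSc e0).2, smul_smul]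
    · refine ⟨x * ω ^ (cl i / 1048576 % 4), mul_ne_zero hx (pow_ne_zero _ w_ne_zero), _, h1, ?_⟩
      rw [um_mul, e, hb, Matrix.mul_smul, ← mat_mul, (mat_eqSc e1).2, smul_smul]
  · rintro ⟨x, hx, i, hi, e⟩
    have hw : wU F ∈ Subgroup.closure ({wU F, a, b} : Set (GL F9 F)) := Subgroup.subset_closure (Or.inl rfl)
    obtain ⟨u, hu, eu⟩ := tree_mem (fun i hi => (h i hi).1) hw (fun k hk => by
      interval_cases k
      · exact ⟨a, Subgroup.subset_closure (Or.inr (Or.inl rfl)), ha⟩
      · exact ⟨b, Subgroup.subset_closure (Or.inr (Or.inr rfl)), hb⟩) i hi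
    exact mem_of_smul hw hu hx (by rw [eu, e])

/-- The order of the group of a closed list. -/
theorem list_card {G : ℕ → M4} {N : ℕ} {L : Subgroup (GL F9 F)} (hbd : ∀ i, Bdd (G i))
    (hs : Janko1.allFrom (sortTest G) 0 N = true) (hu : ∀ i, i < N → ∃ u : GL F9 F, um u = mat F (G i))
    (hmem : ∀ z, z ∈ L ↔ ∃ x : F, x ≠ 0 ∧ ∃ i, i < N ∧ um z = x • mat F (G i)) : Nat.card L = 3 * N := by
  choose u hu using hu
  have hmem' : ∀ p : Fin 3 × Fin N, wU F ^ (p.1 : ℕ) * u p.2 p.2.2 ∈ L := fun p =>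
    (hmem _).2 ⟨_, pow_ne_zero _ w_ne_zero, _, p.2.2, by rw [um_wU_mul, hu]⟩
  have hbij : Function.Bijective fun p : Fin 3 × Fin N => (⟨_, hmem' p⟩ : L) := by
    constructor
    · rintro ⟨c, i⟩ ⟨c', i'⟩ e
      have e' := congrArg (fun z : L => um (z : GL F9 F)) e
      simp only [um_wU_mul, hu] at e'
      have e2 : mat F (G i') = ((ω ^ (c' : ℕ))⁻¹ * ω ^ (c : ℕ)) • mat F (G i) := by
        rw [mul_smul, e', inv_smul_smul₀ (pow_ne_zero _ w_ne_zero)]
      have hi := sort_inj hbd hs i.2 i'.2 (mul_ne_zero (inv_ne_zero (pow_ne_zero _ w_ne_zero))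
        (pow_ne_zero _ w_ne_zero)) e2
      obtain rfl : i = i' := Fin.ext hi
      rw [← hu _ i.2] at e'
      have hc : (ω ^ (c : ℕ) : F) = ω ^ (c' : ℕ) := by
        by_contra hne
        have h0 : (ω ^ (c : ℕ) - ω ^ (c' : ℕ)) • um (u i i.2) = 0 := by rw [sub_smul, e', sub_self]
        rcases smul_eq_zero.1 h0 with h | h
        · exact hne (sub_eq_zero.1 h)
        · exact um_ne_zero _ h
      refine Prod.ext (Fin.ext ?_) rfl
      have := c.2; have := c'.2
      have h3 : ∀ p q : ℕ, p ≤ q → q < 3 → (ω ^ p : F) = ω ^ q → p = q := fun p q hpq hq hh => by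
        obtain ⟨r, rfl⟩ := Nat.exists_eq_add_of_le hpq
        rw [pow_add, left_eq_mul₀ (pow_ne_zero _ w_ne_zero)] at hh
        rw [w_pow_eq_one (by omega) hh, Nat.add_zero]
      rcases le_total (c : ℕ) c' with l | l
      · exact h3 _ _ l (by omega) hc
      · exact (h3 _ _ l (by omega) hc.symm).symm
    · rintro ⟨z, hz⟩
      obtain ⟨x, hx, i, hi, e⟩ := (hmem z).1 hz
      obtain ⟨c, hc, rfl⟩ := exists_pow_of_ne hx
      exact ⟨(⟨c, hc⟩, ⟨i, hi⟩), Subtype.ext (um_inj (by simp only [um_wU_mul, hu, e]))⟩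
  rw [← Nat.card_eq_of_bijective _ hbij, Nat.card_prod, Nat.card_fin, Nat.card_fin]

end Cfsg.Agent.Janko3
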