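/-
Order and centre of the triple cover of `J₃`.
-/
import Cfsg.Agent.Janko3.List
import Cfsg.Agent.Janko3.ChecksT
import Cfsg.Agent.Janko3.ChecksF
import Cfsg.Agent.Janko3.ChecksK
import Cfsg.Agent.Janko3.ChecksR
import Cfsg.Agent.Janko3.ChecksC

set_option autoImplicit false

namespace Cfsg.Agent.Janko3

open Cfsg.Spor
open Cfsg.Agent.Janko1 (allFrom allFrom_zero allFrom_iff)

variable {F : Type*} [Field F] [d : F4Data F]

local notation "ω" => (F4Data.w : F)

/-- The triple cover. -/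
abbrev G3 (F : Type*) [Field F] [F4Data F] : Subgroup (GL F9 F) := threeJ3 F (F4Data.w : F)

theorem smul_cancel {g : GL F9 F} {x y : F} (h : x • um g = y • um g) : x = y := by
  have h0 : (x - y) • um g = 0 := by rw [sub_smul, h, sub_self]
  rcases smul_eq_zero.1 h0 with h | h
  · exact sub_eq_zero.1 h
  · exact absurd h (um_ne_zero g)

theorem misc :
    tOne < numT ∧ kOne < numK ∧ hOne < numH ∧ kSrcA < 2 * numT ∧ kSrcB < 2 * numT ∧
    facCode kSrcA / 4 % 4096 = kGenA ∧ facCode kSrcB / 4 % 4096 = kGenB ∧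
    gM 0 = mulM (mulM (mulM (sM 14) (sM 40)) (sM 22)) (sM 11) ∧
    gM 1 = mulM (mulM (mulM (sM 31) (sM 25)) (sM 21)) (sM 42) ∧
    powM (gM 0) 19 = one4 ∧ powM (gM 1) 19 = one4 ∧
    mulM (sM 3) (sM 21) = scM 1 (mulM (sM 21) (sM 3)) ∧
    decOk hDecA = true ∧ eqSc (hDecA % 4) (hg 0) (decM hDecA) = true ∧
    decOk hDecB = true ∧ eqSc (hDecB % 4) (hg 1) (decM hDecB) = true := by
  have h := misc_ok
  simp only [miscTest, Bool.and_eq_true, Nat.blt_eq] at h
  obtain ⟨⟨⟨⟨⟨⟨⟨⟨⟨⟨⟨⟨⟨⟨⟨h1, h2⟩, h3⟩, h4⟩, h5⟩, h6⟩, h7⟩, h8⟩, h9⟩, h10⟩, h11⟩, h12⟩, h13⟩, h14⟩, h15⟩, h16⟩ := h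
  exact ⟨h1, h2, h3, h4, h5, Nat.eq_of_beq_eq_true h6, Nat.eq_of_beq_eq_true h7, M4.eq_of_beq h8,
    M4.eq_of_beq h9, M4.eq_of_beq h10, M4.eq_of_beq h11, M4.eq_of_beq h12, h13, h14, h15, h16⟩

/-- A defining generator as an invertible matrix. -/
def sU (F : Type*) [Field F] [F4Data F] (n : ℕ) (hn : n < 43) : GL F9 F where
  val := mat F (sM n)
  inv := mat F (dec (genInv n))
  val_inv := by
    have h := allFrom_zero gen_ok hn
    simp only [genTest, Bool.and_eq_true] at h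
    rw [mul_eq_one_comm, ← mat_mul, M4.eq_of_beq h.1.1, mat_one]
  inv_val := by
    have h := allFrom_zero gen_ok hn
    simp only [genTest, Bool.and_eq_true] at h
    rw [← mat_mul, M4.eq_of_beq h.1.1, mat_one]

theorem sU_mem (n : ℕ) (hn : n < 43) : sU F n hn ∈ G3 F :=
  Subgroup.subset_closure (code_gens F hn)

/-- The two generators of the certificate. -/
def gU (F : Type*) [Field F] [F4Data F] : ℕ → GL F9 F
  | 0 => sU F 14 (by norm_num) * sU F 40 (by norm_num) * sU F 22 (by norm_num) * sU F 11 (by norm_num)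
  | _ => sU F 31 (by norm_num) * sU F 25 (by norm_num) * sU F 21 (by norm_num) * sU F 42 (by norm_num)

theorem gU_mat {k : ℕ} (hk : k < 2) : um (gU F k) = mat F (gM k) := by
  obtain ⟨-, -, -, -, -, -, -, hx, hy, -⟩ := misc
  interval_cases k
  · rw [hx, mat_mul, mat_mul, mat_mul]; rfl
  · rw [hy, mat_mul, mat_mul, mat_mul]; rfl

theorem gU_mem {k : ℕ} (hk : k < 2) : gU F k ∈ G3 F := by
  interval_cases k <;> exact mul_mem (mul_mem (mul_mem (sU_mem _ _) (sU_mem _ _)) (sU_mem _ _)) (sU_mem _ _)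

theorem wU_mem : wU F ∈ G3 F := by
  obtain ⟨-, -, -, -, -, -, -, -, -, -, -, hc, -⟩ := misc
  have e : sU F 3 (by norm_num) * sU F 21 (by norm_num) = wU F * (sU F 21 (by norm_num) * sU F 3 (by norm_num)) := by
    refine um_inj ?_
    show um (sU F 3 _) * um (sU F 21 _) = um (wU F) * (um (sU F 21 _) * um (sU F 3 _))
    have h := congrArg (mat F) hc
    rw [mat_mul, mat_sc (by norm_num), mat_mul, pow_one] at h
    rw [um_wU, Matrix.smul_mul, Matrix.one_mul]
    exact h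
  rw [← mul_inv_eq_iff_eq_mul] at e
  rw [← e]
  exact mul_mem (mul_mem (sU_mem _ _) (sU_mem _ _)) (inv_mem (mul_mem (sU_mem _ _) (sU_mem _ _)))

/-- The group generated by the two generators and `ω`. -/
def L0 (F : Type*) [Field F] [F4Data F] : Subgroup (GL F9 F) :=
  Subgroup.closure ({wU F, gU F 0, gU F 1} : Set (GL F9 F))

theorem L0_le : L0 F ≤ G3 F := by
  rw [L0, Subgroup.closure_le]
  rintro _ (rfl | rfl | rfl)
  · exact wU_mem
  · exact gU_mem (by norm_num)
  · exact gU_mem (by norm_num)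

theorem tTest_spec {i : ℕ} (hi : i < numT) :
    treeTest tM gM tInfo numT tOne i = true ∧ sortTest (fun i => colA (tM i)) i = true := by
  have h := allFrom_zero t_ok hi
  simpa only [tTest, Bool.and_eq_true] using h

theorem exists_tU {i : ℕ} (hi : i < numT) : ∃ u ∈ L0 F, um u = mat F (tM i) :=
  tree_mem (fun i hi => (tTest_spec hi).1) (Subgroup.subset_closure (Or.inl rfl)) (fun k hk => by
    interval_cases k
    · exact ⟨_, Subgroup.subset_closure (Or.inr (Or.inl rfl)), gU_mat (by norm_num)⟩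
    · exact ⟨_, Subgroup.subset_closure (Or.inr (Or.inr rfl)), gU_mat (by norm_num)⟩) i hi

theorem kTest_spec {m : ℕ} (hm : m < numK) :
    (treeTest kM kg kInfo numK kOne m = true ∧ closeTest kM kg kClose numK m = true) ∧
      sortTest kM m = true ∧ inLine (colA (kM m)) e00 = true ∧
      (m ≠ kOne → kMover m < numT ∧ inLine (mulM (kM m) (colA (tM (kMover m)))) (colA (tM (kMover m))) = false) := by
  have h := allFrom_zero k_ok hm
  simp only [kTest, Bool.and_eq_true] at h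
  obtain ⟨⟨⟨⟨h1, h2⟩, h3⟩, h4⟩, h5⟩ := h
  refine ⟨⟨h1, h2⟩, h3, h4, fun hne => ?_⟩
  have hb : Nat.beq m kOne = false := by
    rw [← Bool.not_eq_true]; exact fun e => hne (Nat.eq_of_beq_eq_true e)
  simpa [hb] using h5

theorem fac_spec {n : ℕ} (hn : n < 2 * numT) :
    facCode n / 16384 < numT ∧ facCode n / 4 % 4096 < numK ∧ mat F (gM (n % 2)) * mat F (tM (n / 2)) =
      ω ^ (facCode n % 4) • (mat F (tM (facCode n / 16384)) * mat F (kM (facCode n / 4 % 4096))) := by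
  have h := allFrom_zero fac_ok hn
  simp only [facTest, decOk, Bool.and_eq_true, Nat.blt_eq] at h
  refine ⟨h.1.1, h.1.2, ?_⟩
  rw [← mat_mul, ← mat_mul, (mat_eqSc h.2).2]
  rfl

theorem exists_kg (k : ℕ) : ∃ u ∈ L0 F, um u = mat F (kg k) := by
  obtain ⟨-, -, -, hA, hB, eA, eB, -⟩ := misc
  have key : ∀ n, n < 2 * numT → ∃ u ∈ L0 F, um u = mat F (kM (facCode n / 4 % 4096)) := by
    intro n hn
    obtain ⟨hj, -, e⟩ := fac_spec (F := F) hn
    obtain ⟨τ, hτ, eτ⟩ := exists_tU (F := F) (show n / 2 < numT by omega)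
    obtain ⟨σ, hσ, eσ⟩ := exists_tU (F := F) hj
    have hg : gU F (n % 2) ∈ L0 F := by
      rcases Nat.mod_two_eq_zero_or_one n with h | h <;> rw [h]
      · exact Subgroup.subset_closure (Or.inr (Or.inl rfl))
      · exact Subgroup.subset_closure (Or.inr (Or.inr rfl))
    refine ⟨(wU F ^ (facCode n % 4) * σ)⁻¹ * (gU F (n % 2) * τ),
      mul_mem (inv_mem (mul_mem (pow_mem (show wU F ∈ L0 F from Subgroup.subset_closure (Or.inl rfl)) _) hσ))
        (mul_mem hg hτ), ?_⟩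
    have e' : um (gU F (n % 2) * τ) = um (wU F ^ (facCode n % 4) * σ) * mat F (kM (facCode n / 4 % 4096)) := by
      rw [um_mul, gU_mat (Nat.mod_lt _ (by norm_num)), eτ, e, um_wU_mul, eσ, Matrix.smul_mul]
    rw [um_mul, e', ← Matrix.mul_assoc, ← um_mul, inv_mul_cancel]
    exact Matrix.one_mul _
  rcases k with _ | k
  · show ∃ u ∈ L0 F, um u = mat F (kM kGenA)
    rw [← eA]; exact key _ hA
  · show ∃ u ∈ L0 F, um u = mat F (kM kGenB)
    rw [← eB]; exact key _ hB

/-- A generator of the line stabiliser. -/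
noncomputable def kgU (F : Type*) [Field F] [F4Data F] (k : ℕ) : GL F9 F := (exists_kg (F := F) k).choose

theorem kgU_spec (k : ℕ) : kgU F k ∈ L0 F ∧ um (kgU F k) = mat F (kg k) := (exists_kg (F := F) k).choose_spec

/-- The line stabiliser. -/
noncomputable def K0 (F : Type*) [Field F] [F4Data F] : Subgroup (GL F9 F) :=
  Subgroup.closure ({wU F, kgU F 0, kgU F 1} : Set (GL F9 F))

theorem K0_iff (z : GL F9 F) :
    z ∈ K0 F ↔ ∃ x : F, x ≠ 0 ∧ ∃ m, m < numK ∧ um z = x • mat F (kM m) :=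
  list_group misc.2.1 (fun _ hi => (kTest_spec hi).1) (kgU_spec 0).2 (kgU_spec 1).2 z

theorem K0_le : K0 F ≤ L0 F := by
  rw [K0, Subgroup.closure_le]
  rintro _ (rfl | rfl | rfl)
  · exact Subgroup.subset_closure (Or.inl rfl)
  · exact (kgU_spec 0).1
  · exact (kgU_spec 1).1

theorem exists_kU {m : ℕ} (hm : m < numK) : ∃ u ∈ K0 F, um u = mat F (kM m) :=
  tree_mem (fun i hi => (kTest_spec hi).1.1) (Subgroup.subset_closure (Or.inl rfl)) (fun k hk => by
    interval_cases k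
    · exact ⟨_, Subgroup.subset_closure (Or.inr (Or.inl rfl)), (kgU_spec 0).2⟩
    · exact ⟨_, Subgroup.subset_closure (Or.inr (Or.inr rfl)), (kgU_spec 1).2⟩) m hm

theorem tOne_mat : mat F (tM tOne) = 1 := by
  have h := (tTest_spec misc.1).1
  rw [treeTest, Nat.beq_refl, cond_true] at h
  rw [M4.eq_of_beq h, mat_one]

theorem kOne_mat : mat F (kM kOne) = 1 := by
  have h := (kTest_spec misc.2.1).1.1
  rw [treeTest, Nat.beq_refl, cond_true] at h
  rw [M4.eq_of_beq h, mat_one]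

/-- A product of a representative and a stabiliser element, up to a scalar. -/
def InS (z : GL F9 F) : Prop :=
  ∃ x : F, x ≠ 0 ∧ ∃ i, i < numT ∧ ∃ m, m < numK ∧ um z = x • (mat F (tM i) * mat F (kM m))

theorem L0_iff (z : GL F9 F) : z ∈ L0 F ↔ InS z := by
  constructor
  · intro hz
    refine stable_closure (S := {z | InS z})
      ⟨1, one_ne_zero, tOne, misc.1, kOne, misc.2.1, by rw [tOne_mat, kOne_mat, Matrix.one_mul, one_smul]; rfl⟩ ?_ hz
    have step : ∀ k, k < 2 → ∀ y : GL F9 F, InS y → InS (gU F k * y) := by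
      rintro k hk y ⟨x, hx, i, hi, m, hm, e⟩
      obtain ⟨hj, hn, ef⟩ := fac_spec (F := F) (show 2 * i + k < 2 * numT by omega)
      rw [show (2 * i + k) % 2 = k by omega, show (2 * i + k) / 2 = i by omega] at ef
      obtain ⟨u, hu, eu⟩ := exists_kU (F := F) hn
      obtain ⟨v, hv, ev⟩ := exists_kU (F := F) hm
      obtain ⟨x', hx', m', hm', e'⟩ := (K0_iff _).1 (mul_mem hu hv)
      refine ⟨x * ω ^ (facCode (2 * i + k) % 4) * x', mul_ne_zero (mul_ne_zero hx (pow_ne_zero _ w_ne_zero)) hx',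
        _, hj, m', hm', ?_⟩
      rw [um_mul, e, gU_mat hk, Matrix.mul_smul, ← Matrix.mul_assoc, ef, Matrix.smul_mul, Matrix.mul_assoc,
        ← eu, ← ev, ← um_mul, e', Matrix.mul_smul, smul_smul, smul_smul]
    rintro s (rfl | rfl | rfl) y hy
    · obtain ⟨x, hx, i, hi, m, hm, e⟩ := hy
      exact ⟨ω * x, mul_ne_zero w_ne_zero hx, i, hi, m, hm,
        by rw [um_mul, e, um_wU, Matrix.smul_mul, Matrix.one_mul, smul_smul]⟩
    · exact step 0 (by norm_num) y hy
    · exact step 1 (by norm_num) y hy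
  · rintro ⟨x, hx, i, hi, m, hm, e⟩
    obtain ⟨u, hu, eu⟩ := exists_tU (F := F) hi
    obtain ⟨v, hv, ev⟩ := exists_kU (F := F) hm
    exact mem_of_smul (g := u * v) (Subgroup.subset_closure (Or.inl rfl)) (mul_mem hu (K0_le hv)) hx
      (by rw [um_mul, eu, ev, e])

theorem G3_eq : G3 F = L0 F := by
  refine le_antisymm ((Subgroup.closure_le _).2 fun g hg => ?_) L0_le
  obtain ⟨n, hn, e⟩ := gens_code F hg
  rw [SetLike.mem_coe, L0_iff]
  have h := allFrom_zero gen_ok hn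
  simp only [genTest, decOk, Bool.and_eq_true, Nat.blt_eq] at h
  refine ⟨ω ^ (genDec n % 4), pow_ne_zero _ w_ne_zero, _, h.1.2.1, _, h.1.2.2, ?_⟩
  rw [← mat_mul, show um g = mat F (sM n) from e, (mat_eqSc h.2).2]
  rfl

theorem mem_G3_iff (z : GL F9 F) : z ∈ G3 F ↔ InS z := by rw [G3_eq, L0_iff]

theorem K0_le_G3 : K0 F ≤ G3 F := by rw [G3_eq]; exact K0_le

theorem exists_tG {i : ℕ} (hi : i < numT) : ∃ u ∈ G3 F, um u = mat F (tM i) := by
  rw [G3_eq]; exact exists_tU hi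

/-- The base column. -/
abbrev P0 (F : Type*) [Field F] [F4Data F] : Matrix F9 F9 F := mat F e00

/-- The column of a representative. -/
abbrev colT (F : Type*) [Field F] [F4Data F] (i : ℕ) : Matrix F9 F9 F := mat F (tM i) * P0 F

theorem colT_eq (i : ℕ) : colT F i = mat F (colA (tM i)) := (mat_colA _).symm

theorem colT_one : colT F tOne = P0 F := by rw [colT, tOne_mat, Matrix.one_mul]

theorem t_sorted : allFrom (sortTest fun i => colA (tM i)) 0 numT = true :=
  allFrom_iff.2 fun _ _ hi => (tTest_spec (by omega)).2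

theorem line_unique {i j : ℕ} (hi : i < numT) (hj : j < numT) {x : F} (hx : x ≠ 0)
    (e : colT F j = x • colT F i) : i = j :=
  sort_inj (G := fun i => colA (tM i)) (fun _ => bdd_mulM _ _) t_sorted hi hj hx (by
    show mat F (colA (tM j)) = x • mat F (colA (tM i))
    rw [← colT_eq, ← colT_eq, e])

theorem inLine_of_eq {A B : M4} (hA : Bdd A) (hB : Bdd B) {x : F} (hx : x ≠ 0)
    (e : mat F A = x • mat F B) : inLine A B = true := by
  obtain ⟨c, hc, rfl⟩ := exists_pow_of_ne hx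
  rw [← mat_sc hc] at e
  have := mat_inj hA (bdd_scM hB c) e
  subst this
  interval_cases c <;> simp [inLine, scM, M4.beq]

theorem eq_of_inLine {A B : M4} (h : inLine A B = true) : ∃ x : F, x ≠ 0 ∧ mat F A = x • mat F B := by
  simp only [inLine, Bool.or_eq_true] at h
  rcases h with (h | h) | h
  · exact ⟨1, one_ne_zero, by rw [M4.eq_of_beq h, one_smul]⟩
  · exact ⟨ω ^ 1, pow_ne_zero _ w_ne_zero, by rw [M4.eq_of_beq h, ← mat_sc (by norm_num)]; rfl⟩
  · exact ⟨ω ^ 2, pow_ne_zero _ w_ne_zero, by rw [M4.eq_of_beq h, ← mat_sc (by norm_num)]; rfl⟩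

theorem k_fix {m : ℕ} (hm : m < numK) : ∃ a : F, a ≠ 0 ∧ mat F (kM m) * P0 F = a • P0 F := by
  obtain ⟨a, ha, e⟩ := eq_of_inLine (F := F) (kTest_spec hm).2.2.1
  exact ⟨a, ha, by rw [← mat_colA, e]⟩

/-- The image of the base column. -/
theorem col_image {z : GL F9 F} {x : F} (hx : x ≠ 0) {i m : ℕ} (hm : m < numK)
    (e : um z = x • (mat F (tM i) * mat F (kM m))) : ∃ a : F, a ≠ 0 ∧ um z * P0 F = a • colT F i := by
  obtain ⟨a, ha, ea⟩ := k_fix (F := F) hm
  exact ⟨x * a, mul_ne_zero hx ha, by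
    rw [e, Matrix.smul_mul, Matrix.mul_assoc, ea, Matrix.mul_smul, smul_smul]⟩

theorem act_col {z : GL F9 F} (hz : z ∈ G3 F) {i : ℕ} (hi : i < numT) :
    ∃ a : F, a ≠ 0 ∧ ∃ j, j < numT ∧ um z * colT F i = a • colT F j := by
  obtain ⟨u, hu, eu⟩ := exists_tG (F := F) hi
  obtain ⟨x, hx, j, hj, m, hm, e⟩ := (mem_G3_iff _).1 (mul_mem hz hu)
  obtain ⟨a, ha, ea⟩ := col_image hx hm e
  exact ⟨a, ha, j, hj, by rw [colT, ← eu, ← Matrix.mul_assoc, ← um_mul, ea]⟩

theorem mem_K0_of_col {z : GL F9 F} (hz : z ∈ G3 F) {a : F} (ha : a ≠ 0)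
    (h : um z * P0 F = a • P0 F) : z ∈ K0 F := by
  obtain ⟨x, hx, i, hi, m, hm, e⟩ := (mem_G3_iff _).1 hz
  obtain ⟨b, hb, eb⟩ := col_image hx hm e
  have hi0 : tOne = i := line_unique misc.1 hi (mul_ne_zero (inv_ne_zero hb) ha) (by
    rw [mul_smul, colT_one, ← h, eb, inv_smul_smul₀ hb])
  subst hi0
  exact (K0_iff _).2 ⟨x, hx, m, hm, by rw [e, tOne_mat, Matrix.one_mul]⟩

theorem K0_col {z : GL F9 F} (hz : z ∈ K0 F) : ∃ a : F, a ≠ 0 ∧ um z * P0 F = a • P0 F := by
  obtain ⟨x, hx, m, hm, e⟩ := (K0_iff _).1 hz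
  obtain ⟨a, ha, ea⟩ := k_fix (F := F) hm
  exact ⟨x * a, mul_ne_zero hx ha, by rw [e, Matrix.smul_mul, ea, smul_smul]⟩

/-- Only scalars fix all the lines. -/
theorem core_eq {z : GL F9 F} (hz : z ∈ G3 F)
    (h : ∀ i, i < numT → ∃ a : F, a ≠ 0 ∧ um z * colT F i = a • colT F i) :
    ∃ c, c < 3 ∧ z = wU F ^ c := by
  obtain ⟨a, ha, e0⟩ := h tOne misc.1
  rw [colT_one] at e0
  obtain ⟨x, hx, m, hm, e⟩ := (K0_iff _).1 (mem_K0_of_col hz ha e0)
  by_cases hm0 : m = kOne
  · subst hm0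
    obtain ⟨c, hc, rfl⟩ := exists_pow_of_ne hx
    exact ⟨c, hc, um_inj (by rw [e, kOne_mat, um_wU_pow])⟩
  · exfalso
    obtain ⟨hi, hline⟩ := (kTest_spec hm).2.2.2 hm0
    obtain ⟨b, hb, eb⟩ := h _ hi
    have hlt := inLine_of_eq (A := mulM (kM m) (colA (tM (kMover m)))) (B := colA (tM (kMover m)))
      (bdd_mulM _ _) (bdd_mulM _ _) (mul_ne_zero (inv_ne_zero hx) hb) (by
        rw [mat_mul, ← colT_eq, mul_smul, ← eb, e, Matrix.smul_mul, inv_smul_smul₀ hx])
    rw [hline] at hlt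
    exact Bool.noConfusion hlt

theorem redTest_spec {i : ℕ} (hi : i < numT) :
    ∃ r, r < numRep ∧ ∃ m, m < numK ∧ ∃ a : F, a ≠ 0 ∧ colT F i = a • (mat F (kM m) * colT F (repIdx r)) := by
  have h := allFrom_zero red_ok hi
  simp only [redTest, Bool.and_eq_true, Nat.blt_eq] at h
  refine ⟨_, h.1.1, _, h.1.2, _, pow_ne_zero (redCode i / 32 % 4) w_ne_zero, ?_⟩
  rw [colT_eq, colT_eq, (mat_eqSc h.2).2, mat_mul]

theorem central_scalar {z : GL F9 F} (hz : z ∈ G3 F) (hc : ∀ g ∈ G3 F, g * z = z * g) :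
    ∃ c, c < 3 ∧ z = wU F ^ c := by
  refine core_eq hz fun i hi => ?_
  obtain ⟨a, ha, j, hj, ej⟩ := act_col hz misc.1
  rw [colT_one] at ej
  -- the line of `j` is fixed by the stabiliser of the base line
  have hfix : ∀ u ∈ K0 F, ∃ b : F, b ≠ 0 ∧ um u * colT F j = b • colT F j := by
    intro u hu
    obtain ⟨b, hb, eb⟩ := K0_col hu
    refine ⟨b, hb, ?_⟩
    have e1 : um u * (um z * P0 F) = b • (um z * P0 F) := by
      rw [← Matrix.mul_assoc, ← um_mul, hc u (K0_le_G3 hu), um_mul, Matrix.mul_assoc, eb, Matrix.mul_smul]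
    rw [ej, Matrix.mul_smul, smul_comm] at e1
    exact smul_right_injective _ ha e1
  have hj0 : j = tOne := by
    obtain ⟨r, hr, m, hm, b, hb, eb⟩ := redTest_spec (F := F) hj
    obtain ⟨v, hv, ev⟩ := exists_kU (F := F) hm
    obtain ⟨b', hb', eb'⟩ := hfix v⁻¹ (inv_mem hv)
    have erep : colT F (repIdx r) = (b' * b⁻¹ * 1) • colT F j := by
      have e2 : um v⁻¹ * colT F j = b • colT F (repIdx r) := by
        rw [eb, ← ev, Matrix.mul_smul, ← Matrix.mul_assoc, ← um_mul, inv_mul_cancel]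
        exact congrArg _ (Matrix.one_mul _)
      rw [eb'] at e2
      rw [mul_one, mul_comm, mul_smul, e2, inv_smul_smul₀ hb]
    have hrT : repIdx r < numT := by
      simpa only [Nat.blt_eq] using allFrom_zero rep_range hr
    have hjr : j = repIdx r := line_unique hj hrT (mul_ne_zero (mul_ne_zero hb' (inv_ne_zero hb)) one_ne_zero) erep
    subst hjr
    have h := allFrom_zero fix_ok hr
    simp only [fixTest, Bool.or_eq_true, Bool.not_eq_true'] at h
    rcases h with (h | h) | h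
    · exact Nat.eq_of_beq_eq_true h
    all_goals
      exfalso
    · obtain ⟨c, hc', ec⟩ := hfix _ (Subgroup.subset_closure (Or.inr (Or.inl rfl)))
      rw [inLine_of_eq (A := mulM (kg 0) (colA (tM (repIdx r)))) (B := colA (tM (repIdx r))) (bdd_mulM _ _) (bdd_mulM _ _) hc'
        (by rw [mat_mul, ← colT_eq, ← (kgU_spec 0).2, ec])] at h
      exact Bool.noConfusion h
    · obtain ⟨c, hc', ec⟩ := hfix _ (Subgroup.subset_closure (Or.inr (Or.inr rfl)))
      rw [inLine_of_eq (A := mulM (kg 1) (colA (tM (repIdx r)))) (B := colA (tM (repIdx r))) (bdd_mulM _ _) (bdd_mulM _ _) hc'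
        (by rw [mat_mul, ← colT_eq, ← (kgU_spec 1).2, ec])] at h
      exact Bool.noConfusion h
  subst hj0
  rw [colT_one] at ej
  obtain ⟨u, hu, eu⟩ := exists_tG (F := F) hi
  exact ⟨a, ha, by rw [colT, ← eu, ← Matrix.mul_assoc, ← um_mul, ← hc u hu, um_mul, Matrix.mul_assoc, ej,
    Matrix.mul_smul]⟩

theorem center_iff (z : G3 F) : z ∈ Subgroup.center (G3 F) ↔ ∃ c, c < 3 ∧ (z : GL F9 F) = wU F ^ c := by
  constructor
  · intro hz
    exact central_scalar z.2 fun g hg => congrArg Subtype.val (Subgroup.mem_center_iff.1 hz ⟨g, hg⟩)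
  · rintro ⟨c, -, e⟩
    refine Subgroup.mem_center_iff.2 fun g => Subtype.ext (um_inj ?_)
    rw [Subgroup.coe_mul, Subgroup.coe_mul, e, um_wU_mul, um_mul, um_wU_pow, Matrix.mul_smul, Matrix.mul_one]

theorem card_center : Nat.card (Subgroup.center (G3 F)) = 3 := by
  have hbij : Function.Bijective fun c : Fin 3 => (⟨⟨wU F ^ (c : ℕ), pow_mem wU_mem _⟩,
      (center_iff _).2 ⟨c, c.2, rfl⟩⟩ : Subgroup.center (G3 F)) := by
    constructor
    · intro a b e
      have e' := congrArg (fun z : Subgroup.center (G3 F) => um ((z : G3 F) : GL F9 F)) e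
      simp only [um_wU_pow] at e'
      have h := smul_cancel (g := (1 : GL F9 F)) e'
      have hinj : ∀ p q : Fin 3, (p : ℕ) ≤ q → (ω ^ (p : ℕ) : F) = ω ^ (q : ℕ) → p = q := fun p q hpq hh => by
        obtain ⟨r, hr⟩ := Nat.exists_eq_add_of_le hpq
        have := q.2
        rw [hr, pow_add, left_eq_mul₀ (pow_ne_zero _ w_ne_zero)] at hh
        exact Fin.ext (by rw [hr, w_pow_eq_one (by omega) hh, Nat.add_zero])
      rcases le_total (a : ℕ) b with l | l
      · exact hinj _ _ l h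
      · exact (hinj _ _ l h.symm).symm
    · rintro ⟨z, hz⟩
      obtain ⟨c, hc, e⟩ := (center_iff z).1 hz
      exact ⟨⟨c, hc⟩, Subtype.ext (Subtype.ext e.symm)⟩
  rw [← Nat.card_eq_of_bijective _ hbij, Nat.card_fin]

theorem card_G3 : Nat.card (G3 F) = 150698880 := by
  have ex : ∀ p : Fin numT × Fin numK, ∃ u ∈ G3 F, um u = mat F (tM p.1) * mat F (kM p.2) := fun p => by
    obtain ⟨u, hu, eu⟩ := exists_tG (F := F) p.1.2
    obtain ⟨v, hv, ev⟩ := exists_kU (F := F) p.2.2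
    exact ⟨u * v, mul_mem hu (K0_le_G3 hv), by rw [um_mul, eu, ev]⟩
  choose u hu eu using ex
  have hbij : Function.Bijective fun p : Fin 3 × (Fin numT × Fin numK) =>
      (⟨wU F ^ (p.1 : ℕ) * u p.2, mul_mem (pow_mem wU_mem _) (hu _)⟩ : G3 F) := by
    constructor
    · rintro ⟨c, i, m⟩ ⟨c', i', m'⟩ e
      have e' := congrArg (fun z : G3 F => um (z : GL F9 F)) e
      simp only [um_wU_mul, eu] at e'
      obtain ⟨a, ha, ea⟩ := col_image (z := wU F ^ (c : ℕ) * u (i, m)) (pow_ne_zero _ w_ne_zero) m.2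
        (by rw [um_wU_mul, eu])
      obtain ⟨a', ha', ea'⟩ := col_image (z := wU F ^ (c' : ℕ) * u (i', m')) (pow_ne_zero _ w_ne_zero) m'.2
        (by rw [um_wU_mul, eu])
      rw [um_wU_mul, eu] at ea ea'
      rw [e', ea'] at ea
      have hi := line_unique i.2 i'.2 (mul_ne_zero (inv_ne_zero ha') ha)
        (by rw [mul_smul, ← ea, inv_smul_smul₀ ha'])
      obtain rfl : i = i' := Fin.ext hi
      obtain ⟨t, -, et⟩ := exists_tG (F := F) i.2
      have e2 : (ω ^ (c : ℕ)) • mat F (kM m) = (ω ^ (c' : ℕ)) • mat F (kM m') := by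
        have h3 := congrArg (fun M => um t⁻¹ * M) e'
        simpa only [Matrix.mul_smul, ← et, ← Matrix.mul_assoc, ← um_mul, inv_mul_cancel,
          show um (1 : GL F9 F) = 1 from rfl, Matrix.one_mul] using h3
      have hm := sort_inj (G := kM) (fun _ => bdd_dec _)
        (allFrom_iff.2 fun _ _ h => (kTest_spec (by omega)).2.1) m.2 m'.2
        (F := F) (x := (ω ^ (c' : ℕ))⁻¹ * ω ^ (c : ℕ))
        (mul_ne_zero (inv_ne_zero (pow_ne_zero _ w_ne_zero)) (pow_ne_zero _ w_ne_zero))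
        (by rw [mul_smul, e2, inv_smul_smul₀ (pow_ne_zero _ w_ne_zero)])
      obtain rfl : m = m' := Fin.ext hm
      obtain ⟨v, -, ev⟩ := exists_kU (F := F) m.2
      rw [← ev] at e2
      have h := smul_cancel e2
      have hinj : ∀ p q : Fin 3, (p : ℕ) ≤ q → (ω ^ (p : ℕ) : F) = ω ^ (q : ℕ) → p = q := fun p q hpq hh => by
        obtain ⟨r, hr⟩ := Nat.exists_eq_add_of_le hpq
        have := q.2
        rw [hr, pow_add, left_eq_mul₀ (pow_ne_zero _ w_ne_zero)] at hh
        exact Fin.ext (by rw [hr, w_pow_eq_one (by omega) hh, Nat.add_zero])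
      rcases le_total (c : ℕ) c' with l | l
      · rw [hinj _ _ l h]
      · rw [hinj _ _ l h.symm]
    · rintro ⟨z, hz⟩
      obtain ⟨x, hx, i, hi, m, hm, e⟩ := (mem_G3_iff _).1 hz
      obtain ⟨c, hc, rfl⟩ := exists_pow_of_ne hx
      exact ⟨(⟨c, hc⟩, ⟨i, hi⟩, ⟨m, hm⟩), Subtype.ext (um_inj (by simp only [um_wU_mul, eu, e]))⟩
  rw [← Nat.card_eq_of_bijective _ hbij, Nat.card_prod, Nat.card_prod, Nat.card_fin, Nat.card_fin, Nat.card_fin,
    numT, numK]

theorem card_J3 : Nat.card (J3 F ω) = 50232960 := by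
  have h := Subgroup.card_eq_card_quotient_mul_card_subgroup (Subgroup.center (G3 F))
  rw [card_G3, card_center] at h
  show Nat.card (G3 F ⧸ Subgroup.center (G3 F)) = 50232960
  omega

end Cfsg.Agent.Janko3
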