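/-
Simplicity of the central quotient of the triple cover of `J₃`.
-/
import Cfsg.Agent.Janko3.Main
import Cfsg.Agent.Janko3.ChecksP
import Mathlib.GroupTheory.Sylow
import Mathlib.GroupTheory.Coset.Card
import Mathlib.GroupTheory.GroupAction.Blocks

set_option autoImplicit false
set_option maxHeartbeats 1000000

namespace Cfsg.Agent.Janko3

open Cfsg.Spor
open Cfsg.Agent.Janko1 (allFrom allFrom_zero allFrom_iff)

variable {F : Type*} [Field F] [d : F4Data F]

local notation "ω" => (F4Data.w : F)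

/-- The stabiliser of the base line, inside the triple cover. -/
noncomputable def Kh (F : Type*) [Field F] [F4Data F] : Subgroup (G3 F) := (K0 F).subgroupOf (G3 F)

/-- The column of the base vector under an element. -/
abbrev colG (g : G3 F) : Matrix F9 F9 F := um (g : GL F9 F) * P0 F

theorem mk_eq_iff (a b : G3 F) :
    (QuotientGroup.mk a : G3 F ⧸ Kh F) = QuotientGroup.mk b ↔ ∃ x : F, x ≠ 0 ∧ colG b = x • colG a := by
  rw [QuotientGroup.eq, Kh, Subgroup.mem_subgroupOf]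
  constructor
  · intro h
    obtain ⟨x, hx, e⟩ := K0_col h
    refine ⟨x, hx, ?_⟩
    have e2 := congrArg (fun M => um (a : GL F9 F) * M) e
    simpa only [← Matrix.mul_assoc, ← um_mul, Subgroup.coe_mul, Subgroup.coe_inv, mul_inv_cancel_left,
      Matrix.mul_smul] using e2
  · rintro ⟨x, hx, e⟩
    refine mem_K0_of_col (a⁻¹ * b).2 hx ?_
    rw [Subgroup.coe_mul, Subgroup.coe_inv, um_mul, Matrix.mul_assoc, show um (b : GL F9 F) * P0 F = _ from e,
      Matrix.mul_smul, ← Matrix.mul_assoc, ← um_mul, inv_mul_cancel, show um (1 : GL F9 F) = 1 from rfl,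
      Matrix.one_mul]

theorem exists_tH {i : ℕ} (hi : i < numT) : ∃ g : G3 F, um (g : GL F9 F) = mat F (tM i) := by
  obtain ⟨u, hu, eu⟩ := exists_tG (F := F) hi
  exact ⟨⟨u, hu⟩, eu⟩

/-- The representative as an element of the triple cover. -/
noncomputable def tG (F : Type*) [Field F] [F4Data F] (i : Fin numT) : G3 F := (exists_tH (F := F) i.2).choose

theorem tG_mat (i : Fin numT) : um (tG F i : GL F9 F) = mat F (tM i) := (exists_tH (F := F) i.2).choose_spec

theorem colG_tG (i : Fin numT) : colG (tG F i) = colT F i := by rw [colG, tG_mat]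

/-- The point of an orbit index. -/
noncomputable def pt (F : Type*) [Field F] [F4Data F] (i : Fin numT) : G3 F ⧸ Kh F := QuotientGroup.mk (tG F i)

theorem pt_bijective : Function.Bijective (pt F) := by
  constructor
  · intro i j h
    obtain ⟨x, hx, e⟩ := (mk_eq_iff _ _).1 h
    rw [colG_tG, colG_tG] at e
    exact Fin.ext (line_unique i.2 j.2 hx e)
  · intro q
    induction q using QuotientGroup.induction_on with
    | H z =>
      obtain ⟨x, hx, i, hi, m, hm, e⟩ := (mem_G3_iff _).1 z.2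
      obtain ⟨a, ha, ea⟩ := col_image hx hm e
      exact ⟨⟨i, hi⟩, (mk_eq_iff _ _).2 ⟨a, ha, by rw [colG_tG]; exact ea⟩⟩

theorem card_points : Nat.card (G3 F ⧸ Kh F) = 23256 := by
  rw [← Nat.card_eq_of_bijective _ pt_bijective, Nat.card_fin, numT]

theorem mat_powM (A : M4) (n : ℕ) : mat F (powM A n) = mat F A ^ n := by
  induction n with
  | zero => rw [powM, mat_one, pow_zero]
  | succ n ih => rw [powM, mat_mul, ih, pow_succ']

theorem gU_pow {k : ℕ} (hk : k < 2) : gU F k ^ 19 = 1 := by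
  obtain ⟨-, -, -, -, -, -, -, -, -, hx, hy, -⟩ := misc
  refine Units.ext ?_
  rw [Units.val_pow_eq_pow_val, show ((gU F k : GL F9 F) : Matrix F9 F9 F) = um (gU F k) from rfl,
    gU_mat hk, ← mat_powM]
  interval_cases k
  · rw [hx, mat_one]; rfl
  · rw [hy, mat_one]; rfl

theorem nineteen_dvd {o : ℕ} (h : o ∣ 23256) (h1 : 1225 ≤ o) : 19 ∣ o := by
  obtain ⟨k, hk⟩ := h
  have hk19 : k < 19 := by
    by_contra hc
    have : 1225 * 19 ≤ o * k := Nat.mul_le_mul h1 (by omega)
    omega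
  have h19 : Nat.Prime 19 := by norm_num
  rcases h19.dvd_mul.1 (show 19 ∣ o * k from hk ▸ (by norm_num)) with h | h
  · exact h
  · obtain rfl : k = 0 := Nat.eq_zero_of_dvd_of_lt h hk19
    simp at hk

theorem normal_eq (N : Subgroup (G3 F)) [hN : N.Normal] (hZ : Subgroup.center (G3 F) ≤ N) :
    N = Subgroup.center (G3 F) ∨ N = ⊤ := by
  classical
  by_contra hc
  push Not at hc
  obtain ⟨hbot, htop⟩ := hc
  let o : G3 F ⧸ Kh F := QuotientGroup.mk 1
  let O : Set (G3 F ⧸ Kh F) := MulAction.orbit N o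
  have hO : MulAction.IsBlock (G3 F) O := MulAction.IsBlock.orbit_of_normal _
  have hoO : o ∈ O := MulAction.mem_orbit_self _
  -- moving `O` by an element that maps the base point into `O`
  have hmove : ∀ g : G3 F, g • o ∈ O → ∀ p ∈ O, g • p ∈ O := by
    intro g hg p hp
    obtain ⟨n, rfl⟩ := hp
    obtain ⟨n', hn'⟩ := hg
    refine ⟨⟨g * (n : G3 F) * g⁻¹ * n', mul_mem (hN.conj_mem _ n.2 g) n'.2⟩, ?_⟩
    show (g * (n : G3 F) * g⁻¹ * n') • o = g • ((n : G3 F) • o)
    have hn'' : (n' : G3 F) • o = g • o := hn'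
    rw [mul_smul, hn'', ← mul_smul, ← mul_smul, inv_mul_cancel_right]
  have hsmul : ∀ g : G3 F, g • o = QuotientGroup.mk g := fun g => by
    show QuotientGroup.mk (g * 1) = _
    rw [mul_one]
  -- `N` moves the base point
  obtain ⟨j, hjO, hj⟩ : ∃ j : Fin numT, pt F j ∈ O ∧ (j : ℕ) ≠ tOne := by
    obtain ⟨n, hn, hnc⟩ : ∃ n ∈ N, n ∉ Subgroup.center (G3 F) := SetLike.not_le_iff_exists.1 fun h =>
      hbot (le_antisymm h hZ)
    by_contra hc
    push Not at hc
    refine hnc ((center_iff n).2 (core_eq n.2 fun i hi => ?_))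
    have hm : (tG F ⟨i, hi⟩)⁻¹ * n * tG F ⟨i, hi⟩ ∈ N := by simpa using hN.conj_mem n hn (tG F ⟨i, hi⟩)⁻¹
    obtain ⟨j, hj⟩ := pt_bijective.2 (((tG F ⟨i, hi⟩)⁻¹ * n * tG F ⟨i, hi⟩) • o)
    have hj0 := hc j (hj ▸ MulAction.mem_orbit o (⟨_, hm⟩ : N))
    rw [hsmul, pt] at hj
    obtain ⟨x, hx, e⟩ := (mk_eq_iff _ _).1 hj
    rw [colG_tG, hj0, colT_one] at e
    refine ⟨x, hx, ?_⟩
    have e3 : um ((tG F ⟨i, hi⟩ : GL F9 F)⁻¹ * (n : GL F9 F) * (tG F ⟨i, hi⟩ : GL F9 F)) * P0 F = x • P0 F := e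
    rw [colT, ← tG_mat ⟨i, hi⟩, ← Matrix.mul_assoc, ← um_mul,
      show (n : GL F9 F) * (tG F ⟨i, hi⟩ : GL F9 F) = (tG F ⟨i, hi⟩ : GL F9 F) *
        ((tG F ⟨i, hi⟩ : GL F9 F)⁻¹ * (n : GL F9 F) * (tG F ⟨i, hi⟩ : GL F9 F)) by group,
      um_mul, Matrix.mul_assoc, e3, Matrix.mul_smul]
  -- the representative of its suborbit is in `O`
  obtain ⟨r, hr, m, hm, a, ha, ej⟩ := redTest_spec (F := F) j.2
  have hrT : repIdx r < numT := by simpa only [Nat.blt_eq] using allFrom_zero rep_range hr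
  obtain ⟨v, hv, ev⟩ := exists_kU (F := F) hm
  have hKfix : ∀ k : G3 F, (k : GL F9 F) ∈ K0 F → k • o = o := by
    intro k hk
    rw [hsmul]
    exact ((QuotientGroup.eq (s := Kh F)).2 (by simpa [Kh, Subgroup.mem_subgroupOf] using hk)).symm
  have hKO : ∀ k : G3 F, (k : GL F9 F) ∈ K0 F → ∀ p ∈ O, k • p ∈ O := fun k hk =>
    hmove k (by rw [hKfix k hk]; exact hoO)
  have hrO : pt F ⟨repIdx r, hrT⟩ ∈ O := by
    have h1 : (⟨v, K0_le_G3 hv⟩ : G3 F)⁻¹ • pt F j ∈ O :=
      hKO _ (by simpa using inv_mem hv) _ hjO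
    have e : (⟨v, K0_le_G3 hv⟩ : G3 F)⁻¹ • pt F j = pt F ⟨repIdx r, hrT⟩ := by
      rw [inv_smul_eq_iff]
      refine ((mk_eq_iff _ _).2 ⟨a⁻¹, inv_ne_zero ha, ?_⟩)
      show um (v * (tG F ⟨repIdx r, hrT⟩ : GL F9 F)) * P0 F = a⁻¹ • colG (tG F j)
      rw [colG_tG, ej, inv_smul_smul₀ ha, um_mul, tG_mat, ev, Matrix.mul_assoc]
    rwa [e] at h1
  have hr1 : repIdx r ≠ tOne := by
    intro h
    apply hj
    obtain ⟨b, hb, eb⟩ := k_fix (F := F) hm
    refine (line_unique misc.1 j.2 (mul_ne_zero ha hb) ?_).symm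
    rw [ej, h, colT_one, eb, smul_smul]
  let t : G3 F := tG F ⟨repIdx r, hrT⟩
  have ht : ∀ p ∈ O, t • p ∈ O := hmove t (by rw [hsmul]; exact hrO)
  have hpts : allFrom (ptTest r) 0 1225 = true := by
    have h := allFrom_zero rep_ok hr
    simp only [repTest, Bool.and_eq_true, Bool.or_eq_true] at h
    rcases h.2 with h' | h'
    · exact absurd (Nat.eq_of_beq_eq_true h') hr1
    · exact h'
  have hex : ∀ n : Fin 1225, ∃ g : G3 F, g • o ∈ O ∧ ∃ x : F, x ≠ 0 ∧ mat F (ptC r n) = x • colG g := by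
    intro n
    have h := allFrom_zero hpts n.2
    simp only [ptTest, Bool.and_eq_true, Nat.blt_eq] at h
    obtain ⟨⟨⟨hc, hA⟩, hB⟩, -⟩ := h
    obtain ⟨A, hAm, eA⟩ := exists_kU (F := F) hA
    obtain ⟨B, hBm, eB⟩ := exists_kU (F := F) hB
    refine ⟨⟨A, K0_le_G3 hAm⟩ * (t * (⟨B, K0_le_G3 hBm⟩ * t)), ?_, _, pow_ne_zero (ptCode (r * 1225 + n) % 4) w_ne_zero, ?_⟩
    · rw [mul_smul, mul_smul, mul_smul]
      exact hKO _ hAm _ (ht _ (hKO _ hBm _ (ht _ hoO)))
    · rw [ptC, mat_sc hc, ptM, mat_mul, mat_mul, mat_mul, mat_colA]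
      refine congrArg _ ?_
      show _ = um (A * ((tG F ⟨repIdx r, hrT⟩ : GL F9 F) * (B * (tG F ⟨repIdx r, hrT⟩ : GL F9 F)))) * P0 F
      rw [um_mul, um_mul, um_mul, tG_mat, eA, eB, Matrix.mul_assoc, Matrix.mul_assoc, Matrix.mul_assoc]
  choose g hgO x hx hg using hex
  have hinj : Function.Injective fun n : Fin 1225 => (⟨g n • o, hgO n⟩ : O) := by
    intro n n' e
    have e' : (QuotientGroup.mk (g n) : G3 F ⧸ Kh F) = QuotientGroup.mk (g n') := by
      rw [← hsmul, ← hsmul]; exact congrArg Subtype.val e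
    obtain ⟨y, hy, ey⟩ := (mk_eq_iff _ _).1 e'
    have hs : allFrom (sortTest fun n => ptC r n) 0 1225 = true := allFrom_iff.2 fun i _ hi => by
      have h := allFrom_zero hpts (show i < 1225 by omega)
      simp only [ptTest, Bool.and_eq_true] at h
      exact h.2
    refine Fin.ext (sort_inj (G := fun n => ptC r n) (fun _ => bdd_scM (bdd_mulM _ _) _) hs n.2 n'.2
      (x := x n' * y * (x n)⁻¹) (mul_ne_zero (mul_ne_zero (hx n') hy) (inv_ne_zero (hx n))) ?_)
    show mat F (ptC r n') = _ • mat F (ptC r n)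
    rw [hg, ey, mul_smul, hg n, inv_smul_smul₀ (hx n), smul_smul]
  have : Finite (G3 F ⧸ Kh F) := Quotient.finite _
  have hcardO : 1225 ≤ Nat.card O := by simpa using Nat.card_le_card_of_injective _ hinj
  have hdvd : Nat.card O ∣ 23256 := by
    have h := hO.ncard_dvd_card ⟨o, hoO⟩
    rwa [card_points, ← Nat.card_coe_set_eq] at h
  have h19N : 19 ∣ Nat.card N := by
    refine (nineteen_dvd hdvd hcardO).trans ?_
    rw [Nat.card_congr (MulAction.orbitEquivQuotientStabilizer N o)]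
    exact Subgroup.card_quotient_dvd_card _
  -- every element whose order divides nineteen lies in `N`
  have : Fact (Nat.Prime 19) := ⟨by norm_num⟩
  have hnine : ∀ z : G3 F, z ^ 19 = 1 → z ∈ N := by
    intro z hz
    obtain ⟨Q⟩ : Nonempty (Sylow 19 N) := inferInstance
    have hQ : IsPGroup 19 ((Q : Subgroup N).map N.subtype) := Q.2.map _
    obtain ⟨R, hR⟩ := hQ.exists_le_sylow
    have hRN : (R : Subgroup (G3 F)) ≤ N := by
      have hle : (Q : Subgroup N).map N.subtype ≤ N := Subgroup.map_subtype_le _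
      obtain ⟨k, hk⟩ := IsPGroup.iff_card.mp R.2
      have hRle : Nat.card R ≤ 19 := by
        rw [hk]
        refine (Nat.pow_le_pow_right (by norm_num) (?_ : k ≤ 1)).trans (by norm_num)
        by_contra hc
        exact absurd ((pow_dvd_pow 19 (by omega : 2 ≤ k)).trans
          (show 19 ^ k ∣ 150698880 by rw [← hk, ← card_G3 (F := F)]; exact Subgroup.card_subgroup_dvd_card _))
          (by norm_num)
      have hQc : 19 ≤ Nat.card ((Q : Subgroup N).map N.subtype) := by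
        rw [Subgroup.card_map_of_injective N.subtype_injective]
        exact Nat.le_of_dvd Nat.card_pos (Q.pow_dvd_card_of_pow_dvd_card (n := 1) (by simpa using h19N))
      rw [← Subgroup.eq_of_le_of_card_ge hR (hRle.trans hQc)]
      exact hle
    have hzp : IsPGroup 19 (Subgroup.zpowers z) := by
      rcases (Nat.dvd_prime (by norm_num : Nat.Prime 19)).1 (orderOf_dvd_of_pow_eq_one hz) with h | h
      · exact IsPGroup.of_card (n := 0) (by rw [Nat.card_zpowers, h, pow_zero])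
      · exact IsPGroup.of_card (n := 1) (by rw [Nat.card_zpowers, h, pow_one])
    obtain ⟨S, hS⟩ := hzp.exists_le_sylow
    obtain ⟨g, hg⟩ := MulAction.exists_smul_eq (G3 F) S R
    have hm : g * z * g⁻¹ ∈ (R : Subgroup (G3 F)) := by
      rw [← hg, Sylow.coe_subgroup_smul]
      exact ⟨z, hS (Subgroup.mem_zpowers z), rfl⟩
    have := hN.conj_mem _ (hRN hm) g⁻¹
    simpa [mul_assoc] using this
  apply htop
  have hle : L0 F ≤ N.map (G3 F).subtype := by
    rw [L0, Subgroup.closure_le]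
    rintro σ (rfl | rfl | rfl)
    · exact ⟨⟨_, wU_mem⟩, hZ ((center_iff _).2 ⟨1, by norm_num, (pow_one _).symm⟩), rfl⟩
    · exact ⟨⟨_, gU_mem (k := 0) (by norm_num)⟩, hnine _ (Subtype.ext (gU_pow (k := 0) (by norm_num))), rfl⟩
    · exact ⟨⟨_, gU_mem (k := 1) (by norm_num)⟩, hnine _ (Subtype.ext (gU_pow (k := 1) (by norm_num))), rfl⟩
  rw [eq_top_iff]
  intro g _
  obtain ⟨g', hg', e⟩ := hle (show (g : GL F9 F) ∈ L0 F by rw [← G3_eq]; exact g.2)
  obtain rfl : g' = g := Subtype.ext e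
  exact hg'

theorem simple_J3 : IsSimpleGroup (J3 F ω) := by
  have hc : Nat.card (J3 F ω) = 50232960 := card_J3
  have : Finite (J3 F ω) := Nat.finite_of_card_ne_zero (by rw [hc]; norm_num)
  refine @IsSimpleGroup.mk _ _ (Finite.one_lt_card_iff_nontrivial.1 (by rw [hc]; norm_num)) ?_
  intro M hM
  let φ := QuotientGroup.mk' (Subgroup.center (G3 F))
  have hle : Subgroup.center (G3 F) ≤ M.comap φ := fun z hz => by
    rw [Subgroup.mem_comap, show φ z = 1 from (QuotientGroup.eq_one_iff z).2 hz]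
    exact one_mem _
  have hmap := Subgroup.map_comap_eq_self_of_surjective (QuotientGroup.mk'_surjective (Subgroup.center (G3 F))) M
  rcases normal_eq (M.comap φ) hle with h | h
  · left
    rw [← hmap, h, Subgroup.map_eq_bot_iff, QuotientGroup.ker_mk']
  · right
    rw [← hmap, h]
    exact Subgroup.map_top_of_surjective _ (QuotientGroup.mk'_surjective _)

end Cfsg.Agent.Janko3
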