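/-
Bit-sliced representatives of elements of `J₃`.
-/
import Cfsg.Agent.Janko3.Simple
import Cfsg.Agent.Janko3.InvDefs

set_option autoImplicit false

namespace Cfsg.Agent.Janko3

open Cfsg.Spor
open Cfsg.Agent.Janko1 (allFrom allFrom_zero allFrom_iff)

variable {F : Type*} [Field F] [d : F4Data F]

local notation "ω" => (F4Data.w : F)

/-- The simple group. -/
abbrev Q3 (F : Type*) [Field F] [F4Data F] : Type _ := G3 F ⧸ Subgroup.center (G3 F)

/-- An element is represented by a matrix. -/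
def Rep (g : Q3 F) (A : M4) : Prop :=
  ∃ u : G3 F, (QuotientGroup.mk u : Q3 F) = g ∧ um (u : GL F9 F) = mat F A

theorem exists_cn (A : M4) : ∃ c, c < 3 ∧ cnM A = scM c A := by
  unfold cnM minM
  cases Nat.ble (key (mulW A)) (key (mulW (mulW A))) <;> simp only [cond_true, cond_false]
  · cases Nat.ble (key A) (key (mulW (mulW A)))
    · exact ⟨2, by norm_num, rfl⟩
    · exact ⟨0, by norm_num, rfl⟩
  · cases Nat.ble (key A) (key (mulW A))
    · exact ⟨1, by norm_num, rfl⟩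
    · exact ⟨0, by norm_num, rfl⟩

theorem bdd_cnM {A : M4} (h : Bdd A) : Bdd (cnM A) := by
  obtain ⟨c, -, e⟩ := exists_cn A
  rw [e]; exact bdd_scM h c

theorem key_minM (A B : M4) : key (minM A B) ≤ key A ∧ key (minM A B) ≤ key B := by
  unfold minM
  cases h : Nat.ble (key A) (key B)
  · have : ¬ key A ≤ key B := fun l => by rw [Nat.ble_eq_true_of_le l] at h; exact Bool.noConfusion h
    simp only [cond_false]; omega
  · simp only [cond_true]; exact ⟨le_rfl, Nat.le_of_ble_eq_true h⟩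

theorem key_cnM_le (A : M4) {c : ℕ} (hc : c < 3) : key (cnM A) ≤ key (scM c A) := by
  obtain ⟨h1, h2⟩ := key_minM A (minM (mulW A) (mulW (mulW A)))
  obtain ⟨h3, h4⟩ := key_minM (mulW A) (mulW (mulW A))
  interval_cases c
  · exact h1
  · exact h2.trans h3
  · exact h2.trans h4

theorem canon_cnM (A : M4) : canon (cnM A) = true := by
  obtain ⟨c, hc, e⟩ := exists_cn A
  have h0 := key_cnM_le A (show 0 < 3 by norm_num)
  have h1 := key_cnM_le A (show 1 < 3 by norm_num)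
  have h2 := key_cnM_le A (show 2 < 3 by norm_num)
  simp only [canon, Bool.and_eq_true, Nat.ble_eq]
  rw [e] at h0 h1 h2 ⊢
  interval_cases c <;> simp only [scM, mulW_three] at h0 h1 h2 ⊢ <;> constructor <;> omega

theorem mk_wU_pow (c : ℕ) (h : wU F ^ c ∈ G3 F) :
    (QuotientGroup.mk (⟨wU F ^ c, h⟩ : G3 F) : Q3 F) = 1 := by
  rw [QuotientGroup.eq_one_iff]
  refine (center_iff _).2 ⟨c % 3, Nat.mod_lt _ (by norm_num), um_inj ?_⟩
  show um (wU F ^ c) = um (wU F ^ (c % 3))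
  rw [um_wU_pow, um_wU_pow, pow_eq_pow_mod c (w_pow_three (F := F))]

theorem Rep.sc {g : Q3 F} {A : M4} (h : Rep g A) {c : ℕ} (hc : c < 3) : Rep g (scM c A) := by
  obtain ⟨u, e, eu⟩ := h
  refine ⟨⟨wU F ^ c, pow_mem wU_mem c⟩ * u, ?_, ?_⟩
  · rw [QuotientGroup.mk_mul, mk_wU_pow, one_mul, e]
  · rw [Subgroup.coe_mul, um_wU_mul, eu, mat_sc hc]

theorem Rep.cn {g : Q3 F} {A : M4} (h : Rep g A) : Rep g (cnM A) := by
  obtain ⟨c, hc, e⟩ := exists_cn A
  rw [e]; exact h.sc hc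

theorem Rep.mul {g h : Q3 F} {A B : M4} (hg : Rep g A) (hh : Rep h B) : Rep (g * h) (mulM A B) := by
  obtain ⟨u, eu, mu⟩ := hg
  obtain ⟨v, ev, mv⟩ := hh
  exact ⟨u * v, by rw [QuotientGroup.mk_mul, eu, ev], by rw [Subgroup.coe_mul, um_mul, mu, mv, mat_mul]⟩

theorem Rep.pmul {g h : Q3 F} {A B : M4} (hg : Rep g A) (hh : Rep h B) :
    Rep (g * h) (Janko3.pmul A B) := (hg.mul hh).cn

theorem rep_one : Rep (1 : Q3 F) one4 := ⟨1, rfl, by rw [Subgroup.coe_one, mat_one]; rfl⟩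

theorem rep_oneC : Rep (1 : Q3 F) oneC := rep_one.cn

theorem Rep.uniq {g h : Q3 F} {A : M4} (hg : Rep g A) (hh : Rep h A) : g = h := by
  obtain ⟨u, eu, mu⟩ := hg
  obtain ⟨v, ev, mv⟩ := hh
  obtain rfl : u = v := Subtype.ext (um_inj (mu.trans mv.symm))
  rw [← eu, ← ev]

theorem Rep.same {g : Q3 F} {A B : M4} (hA : Rep g A) (hB : Rep g B) (bA : Bdd A) (bB : Bdd B) :
    cnM A = cnM B := by
  obtain ⟨u, eu, mu⟩ := hA.cn
  obtain ⟨v, ev, mv⟩ := hB.cn
  have hz : u⁻¹ * v ∈ Subgroup.center (G3 F) := by rw [← QuotientGroup.eq, eu, ev]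
  obtain ⟨c, hc, e⟩ := (center_iff _).1 hz
  have hv : (v : GL F9 F) = (u : GL F9 F) * wU F ^ c := by
    rw [← e, Subgroup.coe_mul, Subgroup.coe_inv, mul_inv_cancel_left]
  refine (canon_unique (bdd_cnM bA) (bdd_cnM bB) (canon_cnM A) (canon_cnM B)
    (pow_ne_zero c (w_ne_zero (F := F))) ?_).symm
  rw [← mv, hv, um_mul, um_wU_pow, Matrix.mul_smul, Matrix.mul_one, mu]

theorem Rep.ne {g h : Q3 F} {A B : M4} (hA : Rep g A) (hB : Rep h B) (bA : Bdd A) (bB : Bdd B)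
    (cA : cnM A = A) (cB : cnM B = B) (hne : M4.beq A B = false) : g ≠ h := by
  rintro rfl
  have e := hA.same hB bA bB
  rw [cA, cB] at e
  subst e
  simp [M4.beq] at hne

theorem rep_dec {v : ℕ} {G : M4} {e : ℕ} (ho : decOk v = true) (he : e < 3)
    (hG : M4.beq G (scM e (decM v)) = true) : ∃ g : Q3 F, Rep g G := by
  simp only [decOk, Bool.and_eq_true, Nat.blt_eq] at ho
  obtain ⟨a, ha, ea⟩ := exists_tG (F := F) ho.1
  obtain ⟨b, hb, eb⟩ := exists_kU (F := F) ho.2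
  obtain rfl := M4.eq_of_beq hG
  refine ⟨_, Rep.sc ⟨⟨a * b, mul_mem ha (K0_le_G3 hb)⟩, rfl, ?_⟩ he⟩
  rw [um_mul, ea, eb, decM, mat_mul, tM, kM]

theorem rep_gU {k : ℕ} (hk : k < 2) : Rep (QuotientGroup.mk (⟨gU F k, gU_mem hk⟩ : G3 F) : Q3 F) (gM k) :=
  ⟨_, rfl, gU_mat hk⟩

theorem Rep.inv_left {g : Q3 F} {A B : M4} (hg : Rep g A) (h : M4.beq (mulM B A) one4 = true) :
    Rep g⁻¹ B := by
  obtain ⟨u, eu, mu⟩ := hg
  refine ⟨u⁻¹, by rw [QuotientGroup.mk_inv, eu], ?_⟩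
  have e : mat F B * um (u : GL F9 F) = 1 := by rw [mu, ← mat_mul, M4.eq_of_beq h, mat_one]
  rw [Subgroup.coe_inv]
  calc um (u : GL F9 F)⁻¹ = (mat F B * um (u : GL F9 F)) * um (u : GL F9 F)⁻¹ := by rw [e, Matrix.one_mul]
    _ = mat F B := by
      rw [Matrix.mul_assoc, ← um_mul, mul_inv_cancel]
      exact Matrix.mul_one _

end Cfsg.Agent.Janko3
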