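/-
The involutions of `J₃` and the centraliser of one of them.
-/
import Cfsg.Agent.Janko3.Quot
import Cfsg.Agent.Janko3.ChecksV
import Cfsg.Agent.Janko3.ChecksW
import Mathlib.GroupTheory.Sylow
import Mathlib.GroupTheory.SpecificGroups.Alternating

set_option autoImplicit false
set_option maxHeartbeats 1000000

namespace Cfsg.Agent.Janko3

open Cfsg.Spor
open Cfsg.Agent.Janko1 (allFrom allFrom_zero allFrom_iff)

variable {F : Type*} [Field F] [d : F4Data F]

theorem some_of_not_all {f : ℕ → Bool} {n : ℕ} (h : allFrom f 0 n = false) : ∃ i, i < n ∧ f i = false := by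
  by_contra hc
  push Not at hc
  rw [allFrom_iff.mpr fun i _ hi => (by simpa using hc i (by omega))] at h
  exact Bool.noConfusion h

theorem misc2 :
    clsOne < numCls ∧ qElOne < 32 ∧ qTee < 32 ∧ aElOne < 60 ∧ sElOne < 128 ∧ qM qElOne = oneC ∧
    aM aElOne = oneC ∧ sM2 sElOne = oneC ∧ qM qTee = tInv ∧ M4.beq tInv oneC = false ∧
    pmul tInv tInv = oneC ∧ M4.beq (mulM (giM 0) (gM 0)) one4 = true ∧
    M4.beq (mulM (giM 1) (gM 1)) one4 = true ∧ ∃ s, s < 128 ∧ sM2 s = tInv := by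
  have h := inv_misc
  simp only [invMisc, Bool.and_eq_true, Nat.blt_eq, Bool.not_eq_true'] at h
  obtain ⟨⟨⟨⟨⟨⟨⟨⟨⟨⟨⟨⟨⟨h1, h2⟩, h3⟩, h4⟩, h5⟩, h6⟩, h7⟩, h8⟩, h9⟩, h10⟩, h11⟩, h12⟩, h13⟩, h14⟩ := h
  obtain ⟨s, hs, es⟩ := some_of_not_all h14
  exact ⟨h1, h2, h3, h4, h5, M4.eq_of_beq h6, M4.eq_of_beq h7, M4.eq_of_beq h8, M4.eq_of_beq h9, h10,
    M4.eq_of_beq h11, h12, h13, s, hs, M4.eq_of_beq (by simpa using es)⟩

/-- The facts about a listed element. -/
theorem elTest_spec {G : ℕ → M4} {D : ℕ → ℕ} {i : ℕ} (h : elTest G D i = true) :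
    (∃ g : Q3 F, Rep g (G i)) ∧ cnM (G i) = G i ∧ sortTest G i = true := by
  simp only [elTest, Bool.and_eq_true, Nat.blt_eq] at h
  exact ⟨rep_dec h.1.1.1.1 h.1.1.1.2 h.1.1.2, M4.eq_of_beq h.1.2, h.2⟩

theorem sorted_ne {G : ℕ → M4} {n : ℕ} (hs : allFrom (sortTest G) 0 n = true) {i j : ℕ} (hi : i < n) (hj : j < n)
    (hne : i ≠ j) : M4.beq (G i) (G j) = false := by
  rcases Nat.lt_or_ge i j with l | l
  · have := sort_lt hs l hj
    by_contra hc
    rw [Bool.not_eq_false] at hc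
    rw [M4.eq_of_beq hc] at this
    exact lt_irrefl _ this
  · have := sort_lt hs (lt_of_le_of_ne l (Ne.symm hne)) hi
    by_contra hc
    rw [Bool.not_eq_false] at hc
    rw [M4.eq_of_beq hc] at this
    exact lt_irrefl _ this

/-- A multiplicatively closed list as a group. -/
theorem table_group {G : ℕ → M4} {D : ℕ → ℕ} {T : ℕ → ℕ} {n e : ℕ} (he : e < n) (h1 : G e = oneC)
    (hb : ∀ i, Bdd (G i)) (h : ∀ i, i < n → elTest G D i = true ∧ mulTest G T n i = true) :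
    ∃ (f : Fin n → Q3 F) (K : Subgroup (Q3 F)), (∀ i, Rep (f i) (G i)) ∧ Function.Injective f ∧
      f ⟨e, he⟩ = 1 ∧ (∀ i j : Fin n, ∃ ht : T (i * n + j) < n, f i * f j = f ⟨_, ht⟩) ∧
      (K : Set (Q3 F)) = Set.range f ∧ Nat.card K = n := by
  choose f hf using fun i : Fin n => (elTest_spec (F := F) (h i i.2).1).1
  have hinj : Function.Injective f := fun i j e' => by
    by_contra hne
    exact (hf i).ne (hf j) (hb _) (hb _) (elTest_spec (F := F) (h i i.2).1).2.1 (elTest_spec (F := F) (h j j.2).1).2.1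
      (sorted_ne (allFrom_iff.2 fun m _ hm => (elTest_spec (F := F) (h m (by omega)).1).2.2) i.2 j.2
        (fun c => hne (Fin.ext c))) e'
  have hone : f ⟨e, he⟩ = 1 := (hf ⟨e, he⟩).uniq (by show Rep 1 (G e); rw [h1]; exact rep_oneC)
  have hmul : ∀ i j : Fin n, ∃ ht : T (i * n + j) < n, f i * f j = f ⟨_, ht⟩ := by
    intro i j
    have ht := allFrom_zero (h i i.2).2 j.2
    simp only [Bool.and_eq_true, Nat.blt_eq] at ht
    obtain ⟨ht1, ht2⟩ := ht
    exact ⟨ht1, Rep.uniq ((hf i).pmul (hf j)) ((M4.eq_of_beq ht2).symm ▸ hf ⟨_, ht1⟩)⟩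
  let K : Subgroup (Q3 F) := Subgroup.closure (Set.range f)
  have hK : (K : Set (Q3 F)) = Set.range f := by
    refine Set.Subset.antisymm (fun g hg => ?_) Subgroup.subset_closure
    refine stable_closure (S := Set.range f) ⟨_, hone⟩ ?_ hg
    rintro _ ⟨i, rfl⟩ _ ⟨j, rfl⟩
    obtain ⟨ht, e'⟩ := hmul i j
    exact ⟨_, e'.symm⟩
  refine ⟨f, K, hf, hinj, hone, hmul, hK, ?_⟩
  rw [← SetLike.coe_sort_coe, hK, Nat.card_range_of_injective hinj, Nat.card_fin]

theorem bdd_qM (i : ℕ) : Bdd (qM i) := bdd_dec _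

theorem qTest_spec {i : ℕ} (hi : i < 32) :
    (elTest qM qElDec i = true ∧ mulTest qM qMul 32 i = true) ∧ pmul tInv (qM i) = pmul (qM i) tInv := by
  have h := allFrom_zero q_ok hi
  simp only [qTest, Bool.and_eq_true] at h
  exact ⟨h.1, M4.eq_of_beq h.2⟩

theorem aTest_spec {i : ℕ} (hi : i < 60) :
    (elTest aM aElDec i = true ∧ mulTest aM aMul 60 i = true) ∧ pmul tInv (aM i) = pmul (aM i) tInv ∧
    (∀ j, j < 32 → aAct (i * 32 + j) < 32 ∧ pmul (aM i) (qM j) = pmul (qM (aAct (i * 32 + j))) (aM i)) ∧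
    (i ≠ aElOne → ∀ j, j < 32 → M4.beq (aM i) (qM j) = false) := by
  have h := allFrom_zero a_ok hi
  simp only [aTest, Bool.and_eq_true, Bool.or_eq_true] at h
  obtain ⟨⟨⟨h1, h2⟩, h3⟩, h4⟩ := h
  refine ⟨h1, M4.eq_of_beq h2, fun j hj => ?_, fun hne j hj => ?_⟩
  · have e := allFrom_zero h3 hj
    simp only [Bool.and_eq_true, Nat.blt_eq] at e
    exact ⟨e.1, M4.eq_of_beq e.2⟩
  · rcases h4 with h4 | h4
    · exact absurd (Nat.eq_of_beq_eq_true h4) hne
    · simpa using allFrom_zero h4 hj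

theorem sTest_spec {i : ℕ} (hi : i < 128) :
    (elTest sM2 sElDec i = true ∧ mulTest sM2 sMul 128 i = true) ∧ pmul tInv (sM2 i) = pmul (sM2 i) tInv ∧
    (sMul (i * 128 + i) = sElOne → i ≠ sElOne → sClass i < numCls ∧ sM2 i = clsM (sClass i)) ∧
    (∃ a b c, a < 128 ∧ b < 128 ∧ c < 128 ∧ sMul (a * 128 + a) = sElOne ∧ sMul (b * 128 + b) = sElOne ∧
      sMul (c * 128 + c) = sElOne ∧ sMul (sMul (a * 128 + b) * 128 + c) = i) ∧
    (i ≠ sElOne → sM2 i ≠ tInv → ∃ j, j < 128 ∧ sMul (i * 128 + j) ≠ sMul (j * 128 + i)) := by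
  have h := allFrom_zero s_ok hi
  simp only [sTest, invOk, Bool.and_eq_true, Bool.or_eq_true, Nat.blt_eq] at h
  obtain ⟨⟨⟨⟨⟨⟨⟨h1, hc⟩, hcls⟩, ha⟩, hb⟩, hd⟩, he⟩, hz⟩ := h
  refine ⟨h1, M4.eq_of_beq hc, fun e1 e2 => ?_, ⟨_, _, _, ha.1, hb.1, hd.1, Nat.eq_of_beq_eq_true ha.2,
    Nat.eq_of_beq_eq_true hb.2, Nat.eq_of_beq_eq_true hd.2, Nat.eq_of_beq_eq_true he⟩, fun e1 e2 => ?_⟩
  · have b1 : Nat.beq (sMul (i * 128 + i)) sElOne = true := by rw [e1]; exact Nat.beq_refl _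
    have b2 : Nat.beq i sElOne = false := by rw [← Bool.not_eq_true]; exact fun e => e2 (Nat.eq_of_beq_eq_true e)
    simp only [b1, b2, Bool.not_false, Bool.and_self, cond_true, Bool.and_eq_true, Nat.blt_eq] at hcls
    exact ⟨hcls.1, M4.eq_of_beq hcls.2⟩
  · rcases hz with (hz | hz) | hz
    · exact absurd (Nat.eq_of_beq_eq_true hz) e1
    · exact absurd (M4.eq_of_beq hz) e2
    · obtain ⟨j, hj, e⟩ := some_of_not_all (by simpa using hz)
      exact ⟨j, hj, fun c => by rw [c, Nat.beq_refl] at e; exact Bool.noConfusion e⟩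

theorem clsTest_spec {i : ℕ} (hi : i < numCls) : sortTest clsM i = true ∧ cnM (clsM i) = clsM i ∧
    (i ≠ clsOne → clsInfo i / 128 < numCls ∧ clsInfo (clsInfo i / 128) / 2 % 64 < clsInfo i / 2 % 64 ∧
      clsM i = cnM (mulM (gM (clsInfo i % 2)) (mulM (clsM (clsInfo i / 128)) (giM (clsInfo i % 2))))) := by
  have h := allFrom_zero cls_ok hi
  simp only [clsTest, Bool.and_eq_true] at h
  refine ⟨h.1.1, M4.eq_of_beq h.1.2, fun hne => ?_⟩
  have hb : Nat.beq i clsOne = false := by rw [← Bool.not_eq_true]; exact fun e => hne (Nat.eq_of_beq_eq_true e)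
  have h2 := h.2
  simp only [hb, cond_false, Bool.and_eq_true, Nat.blt_eq] at h2
  exact ⟨h2.1.1, h2.1.2, M4.eq_of_beq h2.2⟩

theorem exists_t : ∃ t : Q3 F, Rep t tInv ∧ orderOf t = 2 := by
  obtain ⟨-, -, hT, -, -, -, -, -, eT, hne, hsq, -⟩ := misc2
  obtain ⟨t, ht⟩ := (elTest_spec (F := F) (qTest_spec hT).1.1).1
  rw [eT] at ht
  refine ⟨t, ht, orderOf_eq_prime ?_ fun e => ?_⟩
  · rw [sq]
    exact (ht.pmul ht).uniq (by rw [hsq]; exact rep_oneC)
  · subst e
    have h2 := ht.same rep_oneC (bdd_dec _) (bdd_cnM (by norm_num [Bdd, one4, big]))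
    have hone : cnM oneC = oneC := by
      have := (elTest_spec (F := F) (qTest_spec misc2.2.1).1.1).2.1
      rwa [misc2.2.2.2.2.2.1] at this
    rw [show cnM tInv = tInv from (clsTest_spec misc2.1).2.1, hone] at h2
    rw [h2] at hne
    simp [M4.beq] at hne

/-- The chosen involution. -/
noncomputable def tQ (F : Type*) [Field F] [F4Data F] : Q3 F := (exists_t (F := F)).choose

theorem tQ_spec : Rep (tQ F) tInv ∧ orderOf (tQ F) = 2 := (exists_t (F := F)).choose_spec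

theorem cls_conj {i : ℕ} (hi : i < numCls) : ∃ g : Q3 F, Rep (g * tQ F * g⁻¹) (clsM i) := by
  suffices H : ∀ n i, clsInfo i / 2 % 64 < n → i < numCls → ∃ g : Q3 F, Rep (g * tQ F * g⁻¹) (clsM i) from
    H _ i (Nat.lt_succ_self _) hi
  intro n
  induction n with
  | zero => intro i h; omega
  | succ n ih =>
    intro i hd hi
    by_cases e : i = clsOne
    · subst e
      exact ⟨1, by rw [one_mul, inv_one, mul_one]; exact tQ_spec.1⟩
    · obtain ⟨hp, hdep, he⟩ := (clsTest_spec hi).2.2 e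
      obtain ⟨g, hg⟩ := ih _ (by omega) hp
      have hk : clsInfo i % 2 < 2 := Nat.mod_lt _ (by norm_num)
      have hinv : M4.beq (mulM (giM (clsInfo i % 2)) (gM (clsInfo i % 2))) one4 = true := by
        rcases Nat.mod_two_eq_zero_or_one (clsInfo i) with h | h <;> rw [h]
        · exact misc2.2.2.2.2.2.2.2.2.2.2.2.1
        · exact misc2.2.2.2.2.2.2.2.2.2.2.2.2.1
      refine ⟨QuotientGroup.mk (⟨gU F _, gU_mem hk⟩ : G3 F) * g, ?_⟩
      rw [he]
      have h := ((rep_gU (F := F) hk).mul (hg.mul ((rep_gU (F := F) hk).inv_left hinv))).cn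
      convert h using 1
      rw [mul_inv_rev]
      simp only [mul_assoc]

theorem class_bound : numCls * Nat.card (Subgroup.centralizer ({tQ F} : Set (Q3 F))) ≤ 50232960 := by
  classical
  have hG : Nat.card (Q3 F) = 50232960 := card_J3
  choose g hg using fun i : Fin numCls => cls_conj (F := F) i.2
  let φ : Fin numCls × Subgroup.centralizer ({tQ F} : Set (Q3 F)) → Q3 F := fun p => g p.1 * p.2
  have hinj : Function.Injective φ := by
    rintro ⟨i, c⟩ ⟨j, c'⟩ e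
    have hc : ∀ c : Subgroup.centralizer ({tQ F} : Set (Q3 F)),
        (c : Q3 F) * tQ F * (c : Q3 F)⁻¹ = tQ F := fun c => by
      have h := Subgroup.mem_centralizer_singleton_iff.1 c.2
      rw [h, mul_inv_cancel_right]
    have key : ∀ (i : Fin numCls) (c : Subgroup.centralizer ({tQ F} : Set (Q3 F))),
        g i * c * tQ F * (g i * (c : Q3 F))⁻¹ = g i * tQ F * (g i)⁻¹ := fun i c => by
      conv_rhs => rw [← hc c]
      simp only [mul_inv_rev, mul_assoc]
    have h2 : g i * tQ F * (g i)⁻¹ = g j * tQ F * (g j)⁻¹ := by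
      rw [← key i c, ← key j c']
      exact congrArg (fun x => x * tQ F * x⁻¹) e
    have hij : i = j := by
      by_contra hne
      exact (hg i).ne (hg j) (bdd_dec _) (bdd_dec _) (clsTest_spec i.2).2.1 (clsTest_spec j.2).2.1
        (sorted_ne (allFrom_iff.2 fun m _ hm => (clsTest_spec (by omega)).1) i.2 j.2 fun q => hne (Fin.ext q)) h2
    subst hij
    exact Prod.ext rfl (Subtype.ext (mul_left_cancel e))
  have : Finite (Q3 F) := Nat.finite_of_card_ne_zero (by rw [hG]; norm_num)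
  have := Nat.card_le_card_of_injective φ hinj
  rwa [Nat.card_prod, Nat.card_fin, hG] at this

/-- Everything about the centraliser of the involution. -/
structure CentData (F : Type*) [Field F] [F4Data F] where
  /-- The core. -/
  Q : Subgroup (Q3 F)
  /-- Its elements. -/
  q : Fin 32 → Q3 F
  /-- The complement. -/
  A : Subgroup (Q3 F)
  /-- Its elements. -/
  a : Fin 60 → Q3 F
  /-- A Sylow subgroup. -/
  S : Subgroup (Q3 F)
  /-- Its elements. -/
  s : Fin 128 → Q3 F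
  q_rep : ∀ i, Rep (q i) (qM i)
  a_rep : ∀ i, Rep (a i) (aM i)
  s_rep : ∀ i, Rep (s i) (sM2 i)
  q_inj : Function.Injective q
  a_inj : Function.Injective a
  s_inj : Function.Injective s
  q_one : q ⟨qElOne, misc2.2.1⟩ = 1
  a_one : a ⟨aElOne, misc2.2.2.2.1⟩ = 1
  s_one : s ⟨sElOne, misc2.2.2.2.2.1⟩ = 1
  q_mul : ∀ i j : Fin 32, ∃ ht : qMul (i * 32 + j) < 32, q i * q j = q ⟨_, ht⟩
  a_mul : ∀ i j : Fin 60, ∃ ht : aMul (i * 60 + j) < 60, a i * a j = a ⟨_, ht⟩
  s_mul : ∀ i j : Fin 128, ∃ ht : sMul (i * 128 + j) < 128, s i * s j = s ⟨_, ht⟩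
  q_set : (Q : Set (Q3 F)) = Set.range q
  a_set : (A : Set (Q3 F)) = Set.range a
  s_set : (S : Set (Q3 F)) = Set.range s
  q_card : Nat.card Q = 32
  a_card : Nat.card A = 60
  s_card : Nat.card S = 128

theorem exists_centData : Nonempty (CentData F) := by
  obtain ⟨q, Q, hq, qi, q1, qm, qs, qc⟩ := table_group (F := F) (G := qM) (D := qElDec) (T := qMul)
    misc2.2.1 misc2.2.2.2.2.2.1 bdd_qM (fun i hi => (qTest_spec hi).1)
  obtain ⟨a, A, ha, ai, a1, am, as', ac⟩ := table_group (F := F) (G := aM) (D := aElDec) (T := aMul)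
    misc2.2.2.2.1 misc2.2.2.2.2.2.2.1 (fun _ => bdd_dec _) (fun i hi => (aTest_spec hi).1)
  obtain ⟨s, S, hs, si, s1, sm, ss, sc⟩ := table_group (F := F) (G := sM2) (D := sElDec) (T := sMul)
    misc2.2.2.2.2.1 misc2.2.2.2.2.2.2.2.1 (fun _ => bdd_dec _) (fun i hi => (sTest_spec hi).1)
  exact ⟨⟨Q, q, A, a, S, s, hq, ha, hs, qi, ai, si, q1, a1, s1, qm, am, sm, qs, as', ss, qc, ac, sc⟩⟩

/-- The chosen data. -/
noncomputable def CD (F : Type*) [Field F] [F4Data F] : CentData F := exists_centData.some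

/-- The centraliser of the involution. -/
abbrev Cent (F : Type*) [Field F] [F4Data F] : Subgroup (Q3 F) := Subgroup.centralizer ({tQ F} : Set (Q3 F))

theorem commute_of_pmul {g : Q3 F} {A : M4} (hg : Rep g A) (h : pmul tInv A = pmul A tInv) :
    g ∈ Cent F := by
  rw [Subgroup.mem_centralizer_singleton_iff]
  exact ((hg.pmul tQ_spec.1).uniq (by rw [← h]; exact tQ_spec.1.pmul hg))

theorem Q_le : (CD F).Q ≤ Cent F := fun g hg => by
  rw [← SetLike.mem_coe, (CD F).q_set] at hg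
  obtain ⟨i, rfl⟩ := hg
  exact commute_of_pmul ((CD F).q_rep i) (qTest_spec i.2).2

theorem A_le : (CD F).A ≤ Cent F := fun g hg => by
  rw [← SetLike.mem_coe, (CD F).a_set] at hg
  obtain ⟨i, rfl⟩ := hg
  exact commute_of_pmul ((CD F).a_rep i) (aTest_spec i.2).2.1

theorem S_le : (CD F).S ≤ Cent F := fun g hg => by
  rw [← SetLike.mem_coe, (CD F).s_set] at hg
  obtain ⟨i, rfl⟩ := hg
  exact commute_of_pmul ((CD F).s_rep i) (sTest_spec i.2).2.1

theorem a_q_ne {i : Fin 60} {j : Fin 32} (h : (CD F).a i = (CD F).q j) : (CD F).a i = 1 := by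
  by_contra hne
  have hi : (i : ℕ) ≠ aElOne := fun e => hne (by
    have : i = ⟨aElOne, misc2.2.2.2.1⟩ := Fin.ext e
    rw [this]; exact (CD F).a_one)
  exact ((CD F).a_rep i).ne ((CD F).q_rep j) (bdd_dec _) (bdd_dec _) (elTest_spec (F := F) (aTest_spec i.2).1.1).2.1
    (elTest_spec (F := F) (qTest_spec j.2).1.1).2.1 ((aTest_spec i.2).2.2.2 hi j j.2) h

theorem aq_injective : Function.Injective fun p : Fin 60 × Fin 32 => (CD F).a p.1 * (CD F).q p.2 := by
  rintro ⟨i, j⟩ ⟨i', j'⟩ e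
  simp only at e
  have h1 : ((CD F).a i')⁻¹ * (CD F).a i = (CD F).q j' * ((CD F).q j)⁻¹ := by
    rw [inv_mul_eq_iff_eq_mul, ← mul_assoc, ← e, mul_inv_cancel_right]
  have hA : ((CD F).a i')⁻¹ * (CD F).a i ∈ (CD F).A :=
    mul_mem (inv_mem (by rw [← SetLike.mem_coe, (CD F).a_set]; exact ⟨_, rfl⟩))
      (by rw [← SetLike.mem_coe, (CD F).a_set]; exact ⟨_, rfl⟩)
  have hQ : ((CD F).a i')⁻¹ * (CD F).a i ∈ (CD F).Q := by
    rw [h1]
    exact mul_mem (by rw [← SetLike.mem_coe, (CD F).q_set]; exact ⟨_, rfl⟩)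
      (inv_mem (by rw [← SetLike.mem_coe, (CD F).q_set]; exact ⟨_, rfl⟩))
  rw [← SetLike.mem_coe, (CD F).a_set] at hA
  rw [← SetLike.mem_coe, (CD F).q_set] at hQ
  obtain ⟨k, hk⟩ := hA
  obtain ⟨l, hl⟩ := hQ
  have h0 : ((CD F).a i')⁻¹ * (CD F).a i = 1 := by rw [← hk]; exact a_q_ne (hk.trans hl.symm)
  obtain rfl : i' = i := (CD F).a_inj (inv_mul_eq_one.1 h0)
  exact Prod.ext rfl ((CD F).q_inj (mul_left_cancel e))

theorem cent_card_and_forms :
    Nat.card (Cent F) = 1920 ∧ ∀ g ∈ Cent F, ∃ i j, g = (CD F).a i * (CD F).q j := by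
  have hfin : Finite (Q3 F) := Nat.finite_of_card_ne_zero (by rw [show Nat.card (Q3 F) = _ from card_J3]; norm_num)
  let φ : Fin 60 × Fin 32 → Cent F := fun p => ⟨(CD F).a p.1 * (CD F).q p.2, mul_mem
    (A_le (by rw [← SetLike.mem_coe, (CD F).a_set]; exact ⟨_, rfl⟩))
    (Q_le (by rw [← SetLike.mem_coe, (CD F).q_set]; exact ⟨_, rfl⟩))⟩
  have hinj : Function.Injective φ := fun a b e => aq_injective (congrArg Subtype.val e)
  have h1 := Nat.card_le_card_of_injective φ hinj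
  rw [Nat.card_prod, Nat.card_fin, Nat.card_fin] at h1
  have h2 := class_bound (F := F)
  rw [numCls] at h2
  have hc : Nat.card (Cent F) = 1920 := by
    change 26163 * Nat.card (Cent F) ≤ 50232960 at h2
    omega
  refine ⟨hc, fun g hg => ?_⟩
  have hb : Function.Bijective φ := (Nat.bijective_iff_injective_and_card φ).2
    ⟨hinj, by rw [hc, Nat.card_prod, Nat.card_fin, Nat.card_fin]⟩
  obtain ⟨p, hp⟩ := hb.2 ⟨g, hg⟩
  exact ⟨p.1, p.2, (congrArg Subtype.val hp).symm⟩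

theorem sylow_two : ∃ P : Sylow 2 (Q3 F), (P : Subgroup (Q3 F)) = (CD F).S := by
  have : Fact (Nat.Prime 2) := ⟨Nat.prime_two⟩
  have hG : Nat.card (Q3 F) = 50232960 := card_J3
  have : Finite (Q3 F) := Nat.finite_of_card_ne_zero (by rw [hG]; norm_num)
  have hf : (Nat.card (Q3 F)).factorization 2 = 7 := by
    rw [hG, show (50232960 : ℕ) = 2 ^ 7 * 392445 by norm_num, Nat.factorization_mul (by norm_num) (by norm_num),
      Finsupp.add_apply, Nat.Prime.factorization_pow Nat.prime_two, Finsupp.single_eq_same,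
      Nat.factorization_eq_zero_of_not_dvd (by norm_num : ¬ 2 ∣ 392445), add_zero]
  refine ⟨Sylow.ofCard (CD F).S (by rw [(CD F).s_card, hf]; norm_num), Sylow.coe_ofCard _ _⟩

theorem s_invol_conj {x : Q3 F} (hx : x ∈ (CD F).S) (ho : orderOf x = 2) : IsConj (tQ F) x := by
  rw [← SetLike.mem_coe, (CD F).s_set] at hx
  obtain ⟨i, rfl⟩ := hx
  have he : (i : ℕ) ≠ sElOne := fun e => by
    rw [show i = ⟨sElOne, misc2.2.2.2.2.1⟩ from Fin.ext e, (CD F).s_one, orderOf_one] at ho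
    omega
  obtain ⟨ht, hsq⟩ := (CD F).s_mul i i
  have h1 : (CD F).s i * (CD F).s i = 1 := by rw [← sq, ← ho, pow_orderOf_eq_one]
  rw [h1, ← (CD F).s_one] at hsq
  have hi2 : sMul (i * 128 + i) = sElOne := (congrArg Fin.val ((CD F).s_inj hsq)).symm
  obtain ⟨hj, ej⟩ := (sTest_spec i.2).2.2.1 hi2 he
  obtain ⟨g, hg⟩ := cls_conj (F := F) hj
  rw [← ej] at hg
  exact isConj_iff.2 ⟨g, hg.uniq ((CD F).s_rep i)⟩

theorem invol_conj {x : Q3 F} (ho : orderOf x = 2) : IsConj (tQ F) x := by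
  have : Fact (Nat.Prime 2) := ⟨Nat.prime_two⟩
  have : Finite (Q3 F) := Nat.finite_of_card_ne_zero (by rw [show Nat.card (Q3 F) = _ from card_J3]; norm_num)
  obtain ⟨P, hP⟩ := sylow_two (F := F)
  have hp : IsPGroup 2 (Subgroup.zpowers x) := IsPGroup.of_card (n := 1) (by rw [Nat.card_zpowers, ho, pow_one])
  obtain ⟨R, hR⟩ := hp.exists_le_sylow
  obtain ⟨g, hg⟩ := MulAction.exists_smul_eq (Q3 F) R P
  have hm : g * x * g⁻¹ ∈ (CD F).S := by
    rw [← hP, ← hg, Sylow.coe_subgroup_smul]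
    exact ⟨x, hR (Subgroup.mem_zpowers x), rfl⟩
  have ho' : orderOf (g * x * g⁻¹) = 2 := by rw [← MulAut.conj_apply, MulEquiv.orderOf_eq, ho]
  exact (s_invol_conj hm ho').trans (isConj_iff.2 ⟨g⁻¹, by simp [mul_assoc]⟩)

end Cfsg.Agent.Janko3
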