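/-
The structure of an involution centraliser of `J₃`.
-/
import Cfsg.Agent.Janko3.Inv
import Cfsg.Agent.Linear.AffineTwo
import Cfsg.Agent.FGS3.PGroupFrattini
import Mathlib.GroupTheory.Complement

set_option autoImplicit false
set_option maxHeartbeats 1000000

namespace Cfsg.Agent.Janko3

open Cfsg.Spor
open scoped commutatorElement
open Cfsg.Agent.Janko1 (allFrom allFrom_zero allFrom_iff)

variable {F : Type*} [Field F] [d : F4Data F]

theorem finite_Q3 : Finite (Q3 F) :=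
  Nat.finite_of_card_ne_zero (by rw [show Nat.card (Q3 F) = _ from card_J3]; norm_num)

theorem q_mem (i : Fin 32) : (CD F).q i ∈ (CD F).Q := by rw [← SetLike.mem_coe, (CD F).q_set]; exact ⟨_, rfl⟩

theorem a_mem (i : Fin 60) : (CD F).a i ∈ (CD F).A := by rw [← SetLike.mem_coe, (CD F).a_set]; exact ⟨_, rfl⟩

theorem s_mem (i : Fin 128) : (CD F).s i ∈ (CD F).S := by rw [← SetLike.mem_coe, (CD F).s_set]; exact ⟨_, rfl⟩

theorem Q_exists {g : Q3 F} (hg : g ∈ (CD F).Q) : ∃ i, (CD F).q i = g := by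
  rw [← SetLike.mem_coe, (CD F).q_set] at hg; exact hg

theorem A_exists {g : Q3 F} (hg : g ∈ (CD F).A) : ∃ i, (CD F).a i = g := by
  rw [← SetLike.mem_coe, (CD F).a_set] at hg; exact hg

theorem S_exists {g : Q3 F} (hg : g ∈ (CD F).S) : ∃ i, (CD F).s i = g := by
  rw [← SetLike.mem_coe, (CD F).s_set] at hg; exact hg

theorem Q_normal {g : Q3 F} (hg : g ∈ Cent F) {x : Q3 F} (hx : x ∈ (CD F).Q) : g * x * g⁻¹ ∈ (CD F).Q := by
  obtain ⟨i, j, rfl⟩ := cent_card_and_forms.2 g hg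
  obtain ⟨k, hk⟩ := Q_exists (mul_mem (mul_mem (q_mem j) hx) (inv_mem (q_mem j)))
  obtain ⟨hl, e⟩ := (aTest_spec i.2).2.2.1 k k.2
  have e' : (CD F).a i * (CD F).q k = (CD F).q ⟨_, hl⟩ * (CD F).a i :=
    Rep.uniq (((CD F).a_rep i).pmul ((CD F).q_rep k))
      (by rw [e]; exact ((CD F).q_rep ⟨_, hl⟩).pmul ((CD F).a_rep i))
  have e2 : (CD F).a i * (CD F).q j * x * ((CD F).a i * (CD F).q j)⁻¹ = (CD F).q ⟨_, hl⟩ := by
    rw [mul_inv_rev, show (CD F).a i * (CD F).q j * x * (((CD F).q j)⁻¹ * ((CD F).a i)⁻¹) =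
      (CD F).a i * ((CD F).q j * x * ((CD F).q j)⁻¹) * ((CD F).a i)⁻¹ by group, ← hk, e', mul_inv_cancel_right]
  rw [e2]
  exact q_mem _

theorem core_spec {a : Fin 32} :
    ((a : ℕ) = qElOne ∨ (a : ℕ) = qTee ∨ ∃ b : Fin 32, qMul (a * 32 + b) ≠ qMul (b * 32 + a)) ∧
    (∀ b : Fin 32, qMul (qTee * 32 + b) = qMul (b * 32 + qTee)) ∧
    (qMul (a * 32 + a) = qElOne ∨ qMul (a * 32 + a) = qTee) ∧
    (∀ b : Fin 32, qMul (a * 32 + b) = qMul (b * 32 + a) ∨
      qMul (a * 32 + b) = qMul (qTee * 32 + qMul (b * 32 + a))) ∧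
    (∀ b c : Fin 32, qMul (a * 32 + a) = qElOne → qMul (b * 32 + b) = qElOne →
      qMul (a * 32 + b) = qMul (b * 32 + a) → (a : ℕ) ≠ qElOne → (b : ℕ) ≠ qElOne → (b : ℕ) ≠ a →
      qMul (c * 32 + c) = qElOne → qMul (a * 32 + c) = qMul (c * 32 + a) → qMul (b * 32 + c) = qMul (c * 32 + b) →
      (c : ℕ) = qElOne ∨ (c : ℕ) = a ∨ (c : ℕ) = b ∨ (c : ℕ) = qMul (a * 32 + b)) := by
  have h := allFrom_zero core_ok a.2
  simp only [coreTest, Bool.and_eq_true, Bool.or_eq_true] at h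
  obtain ⟨⟨⟨⟨h1, h2⟩, h3⟩, h4⟩, h5⟩ := h
  have nb : ∀ {m n : ℕ}, m ≠ n → Nat.beq m n = false := fun hne => by
    rw [← Bool.not_eq_true]; exact fun e => hne (Nat.eq_of_beq_eq_true e)
  refine ⟨?_, fun b => Nat.eq_of_beq_eq_true (allFrom_zero h2 b.2), h3.imp Nat.eq_of_beq_eq_true Nat.eq_of_beq_eq_true,
    fun b => ?_, fun b c e1 e2 e3 e4 e5 e6 e7 e8 e9 => ?_⟩
  · rcases h1 with (h | h) | h
    · exact Or.inl (Nat.eq_of_beq_eq_true h)
    · exact Or.inr (Or.inl (Nat.eq_of_beq_eq_true h))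
    · obtain ⟨b, hb, e⟩ := some_of_not_all (by simpa using h)
      exact Or.inr (Or.inr ⟨⟨b, hb⟩, fun c => by rw [c, Nat.beq_refl] at e; exact Bool.noConfusion e⟩)
  · have h := allFrom_zero h4 b.2
    simp only [Bool.or_eq_true] at h
    exact h.imp Nat.eq_of_beq_eq_true Nat.eq_of_beq_eq_true
  · have h := allFrom_zero h5 b.2
    simp only [e1, e2, e3, Nat.beq_refl, nb e4, nb e5, nb e6, Bool.not_false, Bool.and_self, Bool.not_true,
      Bool.false_or] at h
    have h' := allFrom_zero h c.2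
    simp only [e7, e8, e9, Nat.beq_refl, Bool.and_self, Bool.not_true, Bool.false_or, Bool.or_eq_true] at h'
    rcases h' with ((h' | h') | h') | h'
    · exact Or.inl (Nat.eq_of_beq_eq_true h')
    · exact Or.inr (Or.inl (Nat.eq_of_beq_eq_true h'))
    · exact Or.inr (Or.inr (Or.inl (Nat.eq_of_beq_eq_true h')))
    · exact Or.inr (Or.inr (Or.inr ((Nat.eq_of_beq_eq_true h').trans e3.symm)))

/-- An element of the core by index. -/
noncomputable def qe (i : Fin 32) : (CD F).Q := ⟨(CD F).q i, q_mem i⟩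

theorem qe_surj (x : (CD F).Q) : ∃ i, qe (F := F) i = x := by
  obtain ⟨i, hi⟩ := Q_exists x.2
  exact ⟨i, Subtype.ext hi⟩

theorem qe_mul (i j : Fin 32) : ∃ ht : qMul (i * 32 + j) < 32, qe (F := F) i * qe j = qe ⟨_, ht⟩ := by
  obtain ⟨ht, e⟩ := (CD F).q_mul i j
  exact ⟨ht, Subtype.ext e⟩

theorem qe_inj : Function.Injective (qe (F := F)) := fun _ _ e => (CD F).q_inj (congrArg Subtype.val e)

theorem qe_comm_iff (i j : Fin 32) :
    qe (F := F) i * qe j = qe j * qe i ↔ qMul (i * 32 + j) = qMul (j * 32 + i) := by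
  obtain ⟨_, e1⟩ := qe_mul (F := F) i j
  obtain ⟨_, e2⟩ := qe_mul (F := F) j i
  rw [e1, e2, qe_inj.eq_iff, Fin.mk.injEq]

theorem qe_one : qe (F := F) ⟨qElOne, misc2.2.1⟩ = 1 := Subtype.ext (CD F).q_one

theorem qe_sq_iff (i : Fin 32) : qe (F := F) i * qe i = 1 ↔ qMul (i * 32 + i) = qElOne := by
  obtain ⟨_, e1⟩ := qe_mul (F := F) i i
  rw [e1, ← qe_one, qe_inj.eq_iff, Fin.mk.injEq]

/-- The involution in the core. -/
noncomputable def qt (F : Type*) [Field F] [F4Data F] : (CD F).Q := qe ⟨qTee, misc2.2.2.1⟩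

theorem qt_val : ((qt F : (CD F).Q) : Q3 F) = tQ F := by
  refine ((CD F).q_rep _).uniq ?_
  show Rep (tQ F) (qM qTee)
  rw [misc2.2.2.2.2.2.2.2.2.1]
  exact tQ_spec.1

theorem qt_ne : qt F ≠ 1 := fun e => by
  have h := congrArg Subtype.val e
  rw [qt_val] at h
  have := tQ_spec (F := F) |>.2
  rw [h, Subgroup.coe_one, orderOf_one] at this
  omega

theorem center_core : Subgroup.center (CD F).Q = Subgroup.zpowers (qt F) := by
  refine le_antisymm (fun x hx => ?_) (Subgroup.zpowers_le.2 ?_)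
  · obtain ⟨a, rfl⟩ := qe_surj x
    rcases (core_spec (a := a)).1 with h | h | ⟨b, hb⟩
    · rw [show a = ⟨qElOne, misc2.2.1⟩ from Fin.ext h, qe_one]; exact one_mem _
    · rw [show a = ⟨qTee, misc2.2.2.1⟩ from Fin.ext h]; exact Subgroup.mem_zpowers (qt F)
    · exact absurd ((qe_comm_iff a b).1 (Subgroup.mem_center_iff.1 hx (qe b)).symm) hb
  · refine Subgroup.mem_center_iff.2 fun y => ?_
    obtain ⟨b, rfl⟩ := qe_surj y
    exact ((qe_comm_iff ⟨qTee, misc2.2.2.1⟩ b).2 ((core_spec (a := b)).2.1 b)).symm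

theorem extraspecial_core : Cfsg.IsExtraspecial 2 (CD F).Q := by
  have : Fact (Nat.Prime 2) := ⟨Nat.prime_two⟩
  have := finite_Q3 (F := F)
  have hP : IsPGroup 2 (CD F).Q := IsPGroup.of_card (n := 5) (by rw [(CD F).q_card]; norm_num)
  have ho : orderOf (qt F) = 2 := by
    rw [← Subgroup.orderOf_coe, qt_val]; exact tQ_spec.2
  have hcc : Nat.card (Subgroup.center (CD F).Q) = 2 := by rw [center_core, Nat.card_zpowers, ho]
  have hcom : commutator (CD F).Q ≤ Subgroup.center (CD F).Q := by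
    rw [commutator_def, Subgroup.commutator_le]
    intro x _ y _
    obtain ⟨a, rfl⟩ := qe_surj x
    obtain ⟨b, rfl⟩ := qe_surj y
    rcases (core_spec (a := a)).2.2.2.1 b with h | h
    · rw [commutatorElement_eq_one_iff_mul_comm.2 ((qe_comm_iff a b).2 h)]
      exact one_mem _
    · obtain ⟨h1, e1⟩ := qe_mul (F := F) a b
      obtain ⟨h2, e2⟩ := qe_mul (F := F) b a
      obtain ⟨h3, e3⟩ := qe_mul (F := F) ⟨qTee, misc2.2.2.1⟩ ⟨_, h2⟩
      have e : qe (F := F) a * qe b = qt F * (qe b * qe a) := by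
        rw [e1, e2, qt, e3]; exact congrArg qe (Fin.ext h)
      have hc : ⁅qe (F := F) a, qe b⁆ = qt F := by
        rw [commutatorElement_def, mul_assoc, ← mul_inv_rev, e, mul_inv_cancel_right]
      rw [hc, center_core]; exact Subgroup.mem_zpowers _
  have hsq : ∀ x : (CD F).Q, x ^ 2 ∈ Subgroup.center (CD F).Q := by
    intro x
    obtain ⟨a, rfl⟩ := qe_surj x
    obtain ⟨h1, e1⟩ := qe_mul (F := F) a a
    rw [sq, e1, center_core]
    rcases (core_spec (a := a)).2.2.1 with h | h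
    · rw [show (⟨_, h1⟩ : Fin 32) = ⟨qElOne, misc2.2.1⟩ from Fin.ext h, qe_one]; exact one_mem _
    · rw [show (⟨_, h1⟩ : Fin 32) = ⟨qTee, misc2.2.2.1⟩ from Fin.ext h]; exact Subgroup.mem_zpowers (qt F)
  have hcz : commutator (CD F).Q = Subgroup.center (CD F).Q := by
    refine Subgroup.eq_of_le_of_card_ge hcom ?_
    rw [hcc]
    by_contra hlt
    have hpos : 0 < Nat.card (commutator (CD F).Q) := Nat.card_pos
    have hbot : commutator (CD F).Q = ⊥ := Subgroup.card_eq_one.1 (by omega)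
    have hab : ∀ x y : (CD F).Q, x * y = y * x := fun x y => by
      rw [← commutatorElement_eq_one_iff_mul_comm]
      have : ⁅x, y⁆ ∈ commutator (CD F).Q :=
        Subgroup.commutator_mem_commutator (Subgroup.mem_top _) (Subgroup.mem_top _)
      rwa [hbot, Subgroup.mem_bot] at this
    have htop : Subgroup.center (CD F).Q = ⊤ := top_le_iff.1 fun x _ => Subgroup.mem_center_iff.2 fun y => hab y x
    rw [htop, Subgroup.card_top, (CD F).q_card] at hcc
    omega
  exact ⟨⟨hP, le_antisymm (FGS3.frattini_le_of_elementary (p := 2) hcom hsq)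
    (hcz.ge.trans (FGS3.commutator_le_frattini hP)), hcz⟩, hcc⟩

theorem core_no_eight (E : Subgroup (CD F).Q) (hE : Cfsg.IsElementaryAbelian 2 E) : Nat.card E ≤ 4 := by
  classical
  have := finite_Q3 (F := F)
  obtain ⟨hc, h2⟩ := hE
  by_contra hgt
  push Not at hgt
  have hcom : ∀ x ∈ E, ∀ y ∈ E, x * y = y * x := fun x hx y hy =>
    congrArg Subtype.val (hc.is_comm.comm ⟨x, hx⟩ ⟨y, hy⟩)
  have key : ∀ l : Finset (CD F).Q, l.card ≤ 4 → ∃ x ∈ E, x ∉ l := by
    intro l hl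
    by_contra hno
    push Not at hno
    have : Nat.card E ≤ l.card := by
      rw [← Nat.card_eq_finsetCard]
      exact Nat.card_le_card_of_injective (fun x : E => (⟨x, hno x x.2⟩ : l)) fun a b e =>
        Subtype.ext (congrArg (fun z : l => (z : (CD F).Q)) e)
    omega
  obtain ⟨x, hx, hx1⟩ := key {1} (by simp)
  obtain ⟨y, hy, hy1⟩ := key {1, x} ((Finset.card_le_two).trans (by norm_num))
  obtain ⟨z, hz, hz1⟩ := key {1, x, y, x * y} (Finset.card_le_four)
  simp only [Finset.mem_insert, Finset.mem_singleton, not_or] at hx1 hy1 hz1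
  obtain ⟨a, rfl⟩ := qe_surj x
  obtain ⟨b, rfl⟩ := qe_surj y
  obtain ⟨c, rfl⟩ := qe_surj z
  have sq : ∀ i : Fin 32, qe (F := F) i ∈ E → qMul (i * 32 + i) = qElOne := fun i hi => by
    rw [← qe_sq_iff (F := F), ← pow_two]; exact h2 _ hi
  have ne1 : ∀ i : Fin 32, qe (F := F) i ≠ 1 → (i : ℕ) ≠ qElOne := fun i hi e => hi (by
    rw [show i = ⟨qElOne, misc2.2.1⟩ from Fin.ext e, qe_one])
  rcases (core_spec (a := a)).2.2.2.2 b c (sq a hx) (sq b hy) ((qe_comm_iff a b).1 (hcom _ hx _ hy))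
      (ne1 a hx1) (ne1 b hy1.1) (fun e => hy1.2 (congrArg qe (Fin.ext e))) (sq c hz)
      ((qe_comm_iff a c).1 (hcom _ hx _ hz)) ((qe_comm_iff b c).1 (hcom _ hy _ hz)) with h | h | h | h
  · exact ne1 c hz1.1 h
  · exact hz1.2.1 (congrArg qe (Fin.ext h))
  · exact hz1.2.2.1 (congrArg qe (Fin.ext h))
  · obtain ⟨h1, e1⟩ := qe_mul (F := F) a b
    exact hz1.2.2.2 (by rw [e1]; exact congrArg qe (Fin.ext h))

theorem permTest_spec {i : ℕ} (hi : i < 60) : (∀ k, k < 5 → p5 i k < 5) ∧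
    (∀ j, j < 60 → ∀ k, k < 5 → p5 (aMul (i * 60 + j)) k = p5 i (p5 j k)) ∧
    (i ≠ aElOne → ∃ k, k < 5 ∧ p5 i k ≠ k) ∧
    ∃ a b, a < 60 ∧ b < 60 ∧ aMul (a * 60 + a) = aElOne ∧ aMul (b * 60 + b) = aElOne ∧ aMul (a * 60 + b) = i := by
  have h := allFrom_zero perm_ok hi
  simp only [permTest, invOk, Bool.and_eq_true, Bool.or_eq_true, Nat.blt_eq] at h
  obtain ⟨⟨⟨⟨⟨h1, h2⟩, h3⟩, ha⟩, hb⟩, he⟩ := h
  refine ⟨fun k hk => by simpa using allFrom_zero h1 hk,
    fun j hj k hk => Nat.eq_of_beq_eq_true (allFrom_zero (allFrom_zero h2 hj) hk), fun hne => ?_,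
    ⟨_, _, ha.1, hb.1, Nat.eq_of_beq_eq_true ha.2, Nat.eq_of_beq_eq_true hb.2, Nat.eq_of_beq_eq_true he⟩⟩
  rcases h3 with h | h
  · exact absurd (Nat.eq_of_beq_eq_true h) hne
  · obtain ⟨k, hk, e⟩ := some_of_not_all (by simpa using h)
    exact ⟨k, hk, fun c => by rw [c, Nat.beq_refl] at e; exact Bool.noConfusion e⟩

theorem complement_alt : Nonempty ((CD F).A ≃* alternatingGroup (Fin 5)) := by
  classical
  choose idx hidx using fun x : (CD F).A => A_exists x.2
  let P : (CD F).A → Fin 5 → Fin 5 := fun x k => ⟨p5 (idx x) k, (permTest_spec (idx x).2).1 k k.2⟩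
  have hP : ∀ x y, P (x * y) = P x ∘ P y := by
    intro x y
    obtain ⟨ht, e⟩ := (CD F).a_mul (idx x) (idx y)
    have hxy : idx (x * y) = ⟨_, ht⟩ := (CD F).a_inj (by rw [hidx, Subgroup.coe_mul, ← hidx x, ← hidx y, e])
    funext k
    refine Fin.ext ?_
    show p5 (idx (x * y)) k = p5 (idx x) (p5 (idx y) k)
    rw [hxy]
    exact (permTest_spec (idx x).2).2.1 _ (idx y).2 k k.2
  have hinj1 : ∀ x, (∀ k, P x k = k) → x = 1 := by
    intro x hx
    by_cases he : (idx x : ℕ) = aElOne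
    · refine Subtype.ext ?_
      rw [← hidx x, show idx x = ⟨aElOne, misc2.2.2.2.1⟩ from Fin.ext he, (CD F).a_one]
      rfl
    · obtain ⟨k, hk, hne⟩ := (permTest_spec (idx x).2).2.2.1 he
      exact absurd (congrArg Fin.val (hx ⟨k, hk⟩)) hne
  have h1 : ∀ k, P 1 k = k := by
    have hidem : P 1 = P 1 ∘ P 1 := by rw [← hP, one_mul]
    have hsurj : ∀ y, P 1 (P 1 y) = P 1 y := fun y => (congrFun hidem y).symm
    intro k
    have hinj : Function.Injective (P 1) := by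
      have e1 : idx (1 : (CD F).A) = ⟨aElOne, misc2.2.2.2.1⟩ := (CD F).a_inj (by rw [hidx, (CD F).a_one]; rfl)
      intro u v e
      have key : ∀ u v : Fin 5, p5 aElOne u = p5 aElOne v → u = v := by decide +kernel
      exact key u v (by simpa [P, e1] using congrArg Fin.val e)
    exact hinj (hsurj k)
  have := finite_Q3 (F := F)
  let φ : (CD F).A →* Equiv.Perm (Fin 5) :=
    { toFun := fun x => ⟨P x, P x⁻¹,
        fun k => by rw [show P x⁻¹ (P x k) = P (x⁻¹ * x) k from (congrFun (hP x⁻¹ x) k).symm, inv_mul_cancel, h1],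
        fun k => by rw [show P x (P x⁻¹ k) = P (x * x⁻¹) k from (congrFun (hP x x⁻¹) k).symm, mul_inv_cancel, h1]⟩
      map_one' := Equiv.ext h1
      map_mul' := fun x y => Equiv.ext fun k => congrFun (hP x y) k }
  have hφ : Function.Injective φ := by
    rw [injective_iff_map_eq_one]
    exact fun x hx => hinj1 x fun k => Equiv.congr_fun hx k
  have hA : φ.range = alternatingGroup (Fin 5) := by
    apply Equiv.Perm.eq_alternatingGroup_of_index_eq_two
    have h' := φ.range.card_mul_index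
    rw [← Nat.card_congr (MonoidHom.ofInjective hφ).toEquiv, (CD F).a_card, Nat.card_perm, Nat.card_fin] at h'
    norm_num [Nat.factorial] at h'
    omega
  exact ⟨(MonoidHom.ofInjective hφ).trans (MulEquiv.subgroupCongr hA)⟩

theorem structure_thm : ∃ t : Q3 F, orderOf t = 2 ∧
    ∃ (Q : Subgroup ↥(Subgroup.centralizer ({t} : Set (Q3 F)))) (_ : Q.Normal), Cfsg.IsExtraspecial 2 Q ∧
      Nat.card Q = 32 ∧ (∀ E : Subgroup Q, Cfsg.IsElementaryAbelian 2 E → Nat.card E ≤ 2 ^ 2) ∧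
      (∃ H : Subgroup ↥(Subgroup.centralizer ({t} : Set (Q3 F))), Q.IsComplement' H) ∧
      Nonempty (↥(Subgroup.centralizer ({t} : Set (Q3 F))) ⧸ Q ≃* ↥(alternatingGroup (Fin 5))) := by
  classical
  have := finite_Q3 (F := F)
  have hN : ((CD F).Q.subgroupOf (Cent F)).Normal := ⟨fun n hn g => by
    rw [Subgroup.mem_subgroupOf] at hn ⊢
    exact Q_normal g.2 hn⟩
  refine ⟨tQ F, tQ_spec.2, (CD F).Q.subgroupOf (Cent F), hN, ?_⟩
  let e : (CD F).Q.subgroupOf (Cent F) ≃* (CD F).Q := Subgroup.subgroupOfEquivOfLe Q_le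
  have hQc : Nat.card ((CD F).Q.subgroupOf (Cent F)) = 32 := (Nat.card_congr e.toEquiv).trans (CD F).q_card
  have hAc : Nat.card ((CD F).A.subgroupOf (Cent F)) = 60 :=
    (Nat.card_congr (Subgroup.subgroupOfEquivOfLe A_le).toEquiv).trans (CD F).a_card
  have hdis : Disjoint ((CD F).Q.subgroupOf (Cent F)) ((CD F).A.subgroupOf (Cent F)) := by
    rw [disjoint_iff, Subgroup.eq_bot_iff_forall]
    rintro x ⟨hq, ha⟩
    obtain ⟨i, hi⟩ := A_exists (Subgroup.mem_subgroupOf.1 ha)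
    obtain ⟨j, hj⟩ := Q_exists (Subgroup.mem_subgroupOf.1 hq)
    refine Subtype.ext ?_
    rw [← hi]; exact a_q_ne (hi.trans hj.symm)
  have hcompl : ((CD F).Q.subgroupOf (Cent F)).IsComplement' ((CD F).A.subgroupOf (Cent F)) :=
    Subgroup.isComplement'_of_card_mul_and_disjoint (by rw [hQc, hAc, cent_card_and_forms.1]) hdis
  refine ⟨Linear.AffineTwo.isExtraspecial_congr e.symm extraspecial_core, hQc, fun E hE => ?_, ⟨_, hcompl⟩, ?_⟩
  · have hm : Cfsg.IsElementaryAbelian 2 (E.map e.toMonoidHom) := by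
      refine ⟨⟨⟨?_⟩⟩, ?_⟩
      · rintro ⟨_, x, hx, rfl⟩ ⟨_, y, hy, rfl⟩
        refine Subtype.ext ?_
        show e x * e y = e y * e x
        rw [← map_mul, ← map_mul]
        exact congrArg e (congrArg Subtype.val (hE.1.is_comm.comm ⟨x, hx⟩ ⟨y, hy⟩))
      · rintro _ ⟨x, hx, rfl⟩
        rw [← map_pow, hE.2 x hx, map_one]
    have h := core_no_eight _ hm
    rw [Subgroup.card_map_of_injective e.injective] at h
    omega
  · obtain ⟨f⟩ := complement_alt (F := F)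
    refine ⟨(MulEquiv.ofBijective ((QuotientGroup.mk' ((CD F).Q.subgroupOf (Cent F))).comp
      ((CD F).A.subgroupOf (Cent F)).subtype) ?_).symm.trans ((Subgroup.subgroupOfEquivOfLe A_le).trans f)⟩
    refine (Nat.bijective_iff_injective_and_card _).2 ⟨?_, ?_⟩
    · rw [injective_iff_map_eq_one]
      intro x hx
      have hxq : (x : Cent F) ∈ (CD F).Q.subgroupOf (Cent F) := (QuotientGroup.eq_one_iff _).1 hx
      exact Subtype.ext ((Subgroup.disjoint_def.1 hdis) hxq x.2)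
    · have h := Subgroup.card_eq_card_quotient_mul_card_subgroup ((CD F).Q.subgroupOf (Cent F))
      rw [cent_card_and_forms.1, hQc] at h
      omega

end Cfsg.Agent.Janko3
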