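/-
The automorphism group of `J₃`.
-/
import Cfsg.Agent.Janko3.Structure
import Cfsg.Agent.Janko3.ChecksA
import Cfsg.Agent.Janko3.ChecksS
import Cfsg.Prelude.Def_Sporadic
import Cfsg.Prelude.Def_KGroupFacts
import Mathlib.Algebra.CharP.Frobenius
import Mathlib.GroupTheory.Index

set_option autoImplicit false
set_option maxHeartbeats 1000000

namespace Cfsg.Agent.Janko3

open Cfsg.Spor
open Cfsg.Agent.Janko1 (allFrom allFrom_zero allFrom_iff)

variable {F : Type*} [Field F] [d : F4Data F]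

local notation "ω" => (F4Data.w : F)

theorem mat_sigM (A : M4) : mat F (sigM A) = (mat F A).map (frobenius F 2) := by
  ext z w
  rw [Matrix.map_apply, mat, mat, toMat, toMat, Matrix.submatrix_apply, Matrix.submatrix_apply, toMat9, toMat9,
    entF, entF, frobenius_def, sigM]
  simp only [bitF_xor]
  have hb : ∀ n i, bitF F n i ^ 2 = bitF F n i := fun n i => by
    simp only [bitF]; split_ifs <;> simp
  linear_combination -(hb A.p (9 * (ixE z : ℕ) + ixE w)) - ω ^ 2 * hb A.q (9 * (ixE z : ℕ) + ixE w)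
    - bitF F A.q (9 * (ixE z : ℕ) + ixE w) * d.hw
    + (bitF F A.q (9 * (ixE z : ℕ) + ixE w) * (1 + ω) - ω * bitF F A.p (9 * (ixE z : ℕ) + ixE w) *
      bitF F A.q (9 * (ixE z : ℕ) + ixE w)) * two_eq_zero' (F := F)

theorem amisc :
    autA < 1920 ∧ autU < numCls ∧ cnM (powM eightM 4) = tInv ∧
    powOne (mulM eightM uM) 4 = true ∧ powOne (mulM (mulM eightM eightM) uM) 9 = true ∧
    powOne (mulM (mulM (mulM eightM eightM) eightM) uM) 19 = true ∧ powOne (mulM tInv uM) 17 = true ∧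
    wordM autWordX autLenX = cnM (gM 0) ∧ wordM autWordY autLenY = cnM (gM 1) ∧
    mulM (dec autConjInv) (dec autConj) = one4 ∧
    decOk autPhiX = true ∧ eqSc (autPhiX % 4) (phiM (gM 0)) (decM autPhiX) = true ∧
    decOk autPhiY = true ∧ eqSc (autPhiY % 4) (phiM (gM 1)) (decM autPhiY) = true ∧
    cnM (phiM eightM) = cnM eightM := by
  have h := aut_misc
  simp only [autMisc, Bool.and_eq_true, Nat.blt_eq] at h
  obtain ⟨⟨⟨⟨⟨⟨⟨⟨⟨⟨⟨⟨⟨⟨h1, h2⟩, h3⟩, h4⟩, h5⟩, h6⟩, h7⟩, h9⟩, h10⟩, h11⟩, h12⟩, h13⟩, h14⟩, h15⟩, h16⟩ := h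
  exact ⟨h1, h2, M4.eq_of_beq h3, h4, h5, h6, h7, M4.eq_of_beq h9, M4.eq_of_beq h10,
    M4.eq_of_beq h11, h12, h13, h14, h15, M4.eq_of_beq h16⟩

/-- The conjugating matrix of the outer automorphism. -/
def cjU (F : Type*) [Field F] [F4Data F] : GL F9 F where
  val := mat F (dec autConj)
  inv := mat F (dec autConjInv)
  val_inv := by rw [mul_eq_one_comm, ← mat_mul, amisc.2.2.2.2.2.2.2.2.2.1, mat_one]
  inv_val := by rw [← mat_mul, amisc.2.2.2.2.2.2.2.2.2.1, mat_one]

/-- The semilinear conjugation. -/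
noncomputable def phiGL (F : Type*) [Field F] [F4Data F] : GL F9 F →* GL F9 F :=
  (MulAut.conj (cjU F)).toMonoidHom.comp (Units.map ((frobenius F 2).mapMatrix.toMonoidHom))

theorem um_phiGL (g : GL F9 F) :
    um (phiGL F g) = mat F (dec autConj) * (um g).map (frobenius F 2) * mat F (dec autConjInv) := rfl

theorem phiGL_mat {g : GL F9 F} {A : M4} (h : um g = mat F A) : um (phiGL F g) = mat F (phiM A) := by
  rw [um_phiGL, h, ← mat_sigM, phiM, mat_mul, mat_mul, Matrix.mul_assoc]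

theorem phiGL_injective : Function.Injective (phiGL F) := by
  intro g h e
  have e1 : Units.map ((frobenius F 2).mapMatrix.toMonoidHom) g = Units.map ((frobenius F 2).mapMatrix.toMonoidHom) h :=
    (MulAut.conj (cjU F)).injective e
  have e2 : (um g).map (frobenius F 2) = (um h).map (frobenius F 2) := congrArg Units.val e1
  refine um_inj (Matrix.ext fun z w => (frobenius F 2).injective ?_)
  have e3 := congrFun (congrFun e2 z) w
  rwa [Matrix.map_apply, Matrix.map_apply] at e3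

theorem phiGL_mem {g : GL F9 F} (hg : g ∈ G3 F) : phiGL F g ∈ G3 F := by
  have key : ∀ {A : M4} {v : ℕ} {h : GL F9 F}, decOk v = true → eqSc (v % 4) (phiM A) (decM v) = true →
      um h = mat F A → phiGL F h ∈ G3 F := by
    intro A v h ho he hh
    simp only [decOk, Bool.and_eq_true, Nat.blt_eq] at ho
    obtain ⟨a, ha, ea⟩ := exists_tG (F := F) ho.1
    obtain ⟨b, hb, eb⟩ := exists_kU (F := F) ho.2
    refine mem_of_smul wU_mem (mul_mem ha (K0_le_G3 hb)) (pow_ne_zero (v % 4) (w_ne_zero (F := F))) ?_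
    rw [phiGL_mat hh, (mat_eqSc he).2, um_mul, ea, eb, decM, mat_mul, tM, kM]
  obtain ⟨-, -, -, -, -, -, -, -, -, -, oX, eX, oY, eY, -⟩ := amisc
  rw [G3_eq] at hg
  have hle : L0 F ≤ (G3 F).comap (phiGL F) := by
    rw [L0, Subgroup.closure_le]
    rintro _ (rfl | rfl | rfl)
    · have e : phiGL F (wU F) = wU F ^ 2 := by
        refine um_inj ?_
        have e2 : (um (wU F)).map (frobenius F 2) = ω ^ 2 • (1 : Matrix F9 F9 F) := by
          ext z w
          rw [Matrix.map_apply, um_wU, Matrix.smul_apply, Matrix.smul_apply, smul_eq_mul, smul_eq_mul, map_mul,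
            frobenius_def]
          by_cases h : z = w
          · subst h; simp
          · simp [h, Matrix.one_apply_ne h]
        rw [um_phiGL, e2, Matrix.mul_smul, Matrix.mul_one, Matrix.smul_mul, um_wU_pow,
          show mat F (dec autConj) * mat F (dec autConjInv) = 1 from (cjU F).val_inv]
      rw [SetLike.mem_coe, Subgroup.mem_comap, e]
      exact pow_mem wU_mem 2
    · exact key oX eX (gU_mat (by norm_num))
    · exact key oY eY (gU_mat (by norm_num))
  exact hle hg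

/-- The semilinear automorphism of the triple cover. -/
noncomputable def phi3 (F : Type*) [Field F] [F4Data F] : G3 F ≃* G3 F :=
  MulEquiv.ofBijective (((phiGL F).comp (G3 F).subtype).codRestrict _ fun g => phiGL_mem g.2) (by
    have : Finite (G3 F) := Nat.finite_of_card_ne_zero (by rw [card_G3]; norm_num)
    refine Finite.injective_iff_bijective.1 fun a b e => Subtype.ext (phiGL_injective ?_)
    exact congrArg Subtype.val e)

/-- The outer automorphism. -/
noncomputable def theta (F : Type*) [Field F] [F4Data F] : MulAut (Q3 F) :=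
  QuotientGroup.congr _ _ (phi3 F) (by
    ext b
    constructor
    · rintro ⟨a, ha, rfl⟩
      refine Subgroup.mem_center_iff.2 fun y => ?_
      show y * phi3 F a = phi3 F a * y
      rw [← (phi3 F).apply_symm_apply y, ← map_mul, ← map_mul, Subgroup.mem_center_iff.1 ha]
    · intro hb
      refine ⟨(phi3 F).symm b, Subgroup.mem_center_iff.2 fun x => (phi3 F).injective ?_, (phi3 F).apply_symm_apply b⟩
      rw [map_mul, map_mul, (phi3 F).apply_symm_apply, Subgroup.mem_center_iff.1 hb])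

theorem theta_rep {g : Q3 F} {A : M4} (h : Rep g A) : Rep (theta F g) (phiM A) := by
  obtain ⟨u, rfl, eu⟩ := h
  exact ⟨phi3 F u, rfl, phiGL_mat eu⟩

theorem exists_cent {n : ℕ} (hn : n < 1920) : ∃ g ∈ Cent F, Rep g (centM n) := by
  refine ⟨(CD F).a ⟨n / 32, by omega⟩ * (CD F).q ⟨n % 32, by omega⟩, mul_mem (A_le (a_mem _)) (Q_le (q_mem _)), ?_⟩
  exact ((CD F).a_rep _).pmul ((CD F).q_rep _)

theorem rep_cent {g : Q3 F} (hg : g ∈ Cent F) : ∃ n, n < 1920 ∧ Rep g (centM n) := by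
  obtain ⟨i, j, rfl⟩ := cent_card_and_forms.2 g hg
  refine ⟨(i : ℕ) * 32 + j, by omega, ?_⟩
  rw [centM, show ((i : ℕ) * 32 + j) / 32 = i by omega, show ((i : ℕ) * 32 + j) % 32 = j by omega]
  exact ((CD F).a_rep i).pmul ((CD F).q_rep j)

theorem bdd_centM (n : ℕ) : Bdd (centM n) := bdd_cnM (bdd_mulM _ _)

theorem cn_oneC : cnM oneC = oneC := M4.eq_of_beq (by decide +kernel)

theorem pmul_eq_of_eq {g h : Q3 F} {A B A' B' : M4} (hA : Rep g (mulM A A')) (hB : Rep h (mulM B B')) (e : g = h) :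
    pmul A A' = pmul B B' := by
  subst e; exact hA.same hB (bdd_mulM _ _) (bdd_mulM _ _)

theorem powM_rep {g : Q3 F} {A : M4} (h : Rep g A) : ∀ n, Rep (g ^ n) (powM A n)
  | 0 => by rw [pow_zero]; exact rep_one
  | n + 1 => by rw [pow_succ']; exact h.mul (powM_rep h n)

theorem bdd_powM (A : M4) : ∀ n, Bdd (powM A n)
  | 0 => ⟨by norm_num [powM, one4, big], by norm_num [powM, one4, big]⟩
  | _ + 1 => bdd_mulM _ _

theorem powOne_iff {g : Q3 F} {A : M4} (h : Rep g A) (n : ℕ) : powOne A n = true ↔ g ^ n = 1 := by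
  constructor
  · intro e
    exact (powM_rep h n).cn.uniq (by rw [M4.eq_of_beq e]; exact rep_oneC)
  · intro e
    have h2 := (powM_rep h n).same (e ▸ rep_oneC) (bdd_powM A n) (bdd_cnM ⟨by norm_num [one4, big], by norm_num [one4, big]⟩)
    rw [show cnM (cnM one4) = oneC from cn_oneC] at h2
    simp [powOne, h2, M4.beq]

theorem exists_au : ∃ a u : Q3 F, a ∈ Cent F ∧ Rep a eightM ∧ Rep u uM ∧ a ^ 4 = tQ F ∧
    IsConj (tQ F) u ∧ (∀ g : Q3 F, g ∈ Subgroup.closure ({a, u} : Set (Q3 F))) := by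
  obtain ⟨hA, hU, h4, -, -, -, -, hX, hY, -⟩ := amisc
  obtain ⟨a, ha, ra⟩ := exists_cent (F := F) hA
  obtain ⟨g, hg⟩ := cls_conj (F := F) hU
  refine ⟨a, g * tQ F * g⁻¹, ha, ra, hg, (powM_rep ra 4).cn.uniq (by rw [show cnM (powM (centM autA) 4) = tInv from h4]; exact tQ_spec.1),
    isConj_iff.2 ⟨g, rfl⟩, ?_⟩
  set u := g * tQ F * g⁻¹ with hu
  let H : Subgroup (Q3 F) := Subgroup.closure {a, u}
  have hai : Rep (a ^ 7) (cnM (powM eightM 7)) := (powM_rep ra 7).cn
  have hw : ∀ n v, ∃ w ∈ H, Rep w (wordM v n) := by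
    intro n
    induction n with
    | zero => intro v; exact ⟨1, one_mem _, rep_oneC⟩
    | succ n ih =>
      intro v
      obtain ⟨w, hw, rw'⟩ := ih (v / 4)
      obtain ⟨l, hl, rl⟩ : ∃ l ∈ H, Rep l (letterM (v % 4)) := by
        rcases Nat.eq_zero_or_pos (v % 4) with h | h
        · exact ⟨a, Subgroup.subset_closure (Or.inl rfl), by rw [h]; exact ra⟩
        rcases Nat.eq_or_lt_of_le h with h1 | h1
        · exact ⟨a ^ 7, pow_mem (show a ∈ H from Subgroup.subset_closure (Or.inl rfl)) 7, by rw [← h1]; exact hai⟩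
        · refine ⟨u, Subgroup.subset_closure (Or.inr rfl), ?_⟩
          obtain ⟨k, hk⟩ : ∃ k, v % 4 = k + 2 := ⟨v % 4 - 2, by omega⟩
          rw [hk]; exact hg
      exact ⟨l * w, mul_mem hl hw, rl.pmul rw'⟩
  intro x
  obtain ⟨x, rfl⟩ := QuotientGroup.mk'_surjective _ x
  have hle : L0 F ≤ (H.comap (QuotientGroup.mk' (Subgroup.center (G3 F)))).map (G3 F).subtype := by
    rw [L0, Subgroup.closure_le]
    rintro _ (rfl | rfl | rfl)
    · refine ⟨⟨_, wU_mem⟩, ?_, rfl⟩
      rw [SetLike.mem_coe, Subgroup.mem_comap, show QuotientGroup.mk' _ (⟨wU F, wU_mem⟩ : G3 F) = (1 : Q3 F) from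
        (QuotientGroup.eq_one_iff _).2 ((center_iff _).2 ⟨1, by norm_num, (pow_one _).symm⟩)]
      exact one_mem _
    · obtain ⟨w, hwH, rwx⟩ := hw autLenX autWordX
      refine ⟨⟨_, gU_mem (k := 0) (by norm_num)⟩, ?_, rfl⟩
      rw [hX] at rwx
      show _ ∈ H
      rw [show QuotientGroup.mk' _ (⟨gU F 0, _⟩ : G3 F) = w from (rep_gU (F := F) (by norm_num)).cn.uniq rwx]
      exact hwH
    · obtain ⟨w, hwH, rwy⟩ := hw autLenY autWordY
      refine ⟨⟨_, gU_mem (k := 1) (by norm_num)⟩, ?_, rfl⟩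
      rw [hY] at rwy
      show _ ∈ H
      rw [show QuotientGroup.mk' _ (⟨gU F 1, _⟩ : G3 F) = w from (rep_gU (F := F) (by norm_num)).cn.uniq rwy]
      exact hwH
  obtain ⟨y, hy, e⟩ := hle (show (x : GL F9 F) ∈ L0 F by rw [← G3_eq]; exact x.2)
  obtain rfl : y = x := Subtype.ext e
  exact hy

theorem theta_notMem : theta F ∉ Cfsg.Inn (Q3 F) := by
  rintro ⟨g, hg⟩
  obtain ⟨a, u, ha, ra, ru, h4, -, -⟩ := exists_au (F := F)
  have ta : theta F a = a := (theta_rep ra).cn.uniq (by rw [amisc.2.2.2.2.2.2.2.2.2.2.2.2.2.2]; exact ra.cn)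
  have tu : Rep (theta F u) u0M := (theta_rep ru).cn
  rw [← hg, MulAut.conj_apply] at ta tu
  have hgC : g ∈ Cent F := by
    rw [Subgroup.mem_centralizer_singleton_iff, ← h4]
    have hc : Commute g a := mul_inv_eq_iff_eq_mul.1 ta
    exact hc.pow_right 4
  obtain ⟨n, hn, rn⟩ := rep_cent hgC
  have h := allFrom_zero outer_ok hn
  simp only [outerTest, Bool.or_eq_true, Bool.not_eq_true'] at h
  rcases h with h | h
  · rw [show pmul (centM n) eightM = pmul eightM (centM n) from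
      pmul_eq_of_eq (rn.mul ra) (ra.mul rn) (mul_inv_eq_iff_eq_mul.1 ta)] at h
    simp [M4.beq] at h
  · rw [show pmul (centM n) uM = pmul u0M (centM n) from
      pmul_eq_of_eq (rn.mul ru) (tu.mul rn) (inv_mul_cancel_right _ _).symm] at h
    simp [M4.beq] at h

theorem class_complete {x : Q3 F} (h : IsConj (tQ F) x) : ∃ i, i < numCls ∧ Rep x (clsM i) := by
  classical
  have := finite_Q3 (F := F)
  obtain ⟨j, rfl⟩ := isConj_iff.1 h
  choose g hg using fun i : Fin numCls => cls_conj (F := F) i.2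
  let φ : Fin numCls × Cent F → Q3 F := fun p => g p.1 * p.2
  have hc : ∀ c : Cent F, (c : Q3 F) * tQ F * (c : Q3 F)⁻¹ = tQ F := fun c => by
    rw [Subgroup.mem_centralizer_singleton_iff.1 c.2, mul_inv_cancel_right]
  have key : ∀ (i : Fin numCls) (c : Cent F), g i * c * tQ F * (g i * (c : Q3 F))⁻¹ = g i * tQ F * (g i)⁻¹ := fun i c => by
    conv_rhs => rw [← hc c]
    simp only [mul_inv_rev, mul_assoc]
  have hinj : Function.Injective φ := by
    rintro ⟨i, c⟩ ⟨i', c'⟩ e
    have hii : i = i' := by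
      by_contra hne
      refine (hg i).ne (hg i') (bdd_dec _) (bdd_dec _) (clsTest_spec i.2).2.1 (clsTest_spec i'.2).2.1
        (sorted_ne (allFrom_iff.2 fun m _ hm => (clsTest_spec (by omega)).1) i.2 i'.2 fun q => hne (Fin.ext q)) ?_
      rw [← key i c, ← key i' c']
      exact congrArg (fun x => x * tQ F * x⁻¹) e
    subst hii
    exact Prod.ext rfl (Subtype.ext (mul_left_cancel e))
  have hb : Function.Bijective φ := (Nat.bijective_iff_injective_and_card φ).2 ⟨hinj, by
    rw [Nat.card_prod, Nat.card_fin, cent_card_and_forms.1, show Nat.card (Q3 F) = 50232960 from card_J3, numCls]⟩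
  obtain ⟨⟨i, c⟩, e⟩ := hb.2 j
  refine ⟨i, i.2, ?_⟩
  rw [← e, key]
  exact hg i

theorem aut_cases (θ : MulAut (Q3 F)) : θ ∈ Cfsg.Inn (Q3 F) ∨
    θ * (theta F)⁻¹ ∈ Cfsg.Inn (Q3 F) := by
  obtain ⟨a, u, ha, ra, ru, h4, hu, hgen⟩ := exists_au (F := F)
  have hin : ∀ g : Q3 F, MulAut.conj g ∈ Cfsg.Inn (Q3 F) := fun g => ⟨g, rfl⟩
  have ext : ∀ φ ψ : MulAut (Q3 F), φ a = ψ a → φ u = ψ u → φ = ψ := fun φ ψ e1 e2 => MulEquiv.ext fun x => by
    induction hgen x using Subgroup.closure_induction with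
    | mem y hy => rcases hy with rfl | rfl <;> assumption
    | one => rw [map_one, map_one]
    | mul y z _ _ hy hz => rw [map_mul, map_mul, hy, hz]
    | inv y _ hy => rw [map_inv, map_inv, hy]
  have ht2 : orderOf (θ (tQ F)) = 2 := by rw [MulEquiv.orderOf_eq]; exact tQ_spec.2
  obtain ⟨g, hg⟩ := isConj_iff.1 (invol_conj ht2).symm
  let θ1 : MulAut (Q3 F) := MulAut.conj g * θ
  have h1 : θ1 (tQ F) = tQ F := hg
  have hC1 : θ1 a ∈ Cent F := by
    rw [Subgroup.mem_centralizer_singleton_iff]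
    have hc : a * tQ F = tQ F * a := Subgroup.mem_centralizer_singleton_iff.1 ha
    rw [← h1, ← map_mul, hc, map_mul]
  obtain ⟨n, hn, rn⟩ := rep_cent hC1
  have hcov := allFrom_zero cover_ok hn
  simp only [coverTest, coverTest.powOne', Bool.or_eq_true, Bool.not_eq_true', Bool.and_eq_true, Nat.blt_eq] at hcov
  have hpow : cnM (powM (centM n) 4) = tInv := by
    have h := (powM_rep rn 4).same (show Rep (θ1 a ^ 4) tInv by rw [← map_pow, h4, h1]; exact tQ_spec.1)
      (bdd_powM _ _) (bdd_dec _)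
    rwa [show cnM tInv = tInv from (clsTest_spec misc2.1).2.1] at h
  rw [hpow] at hcov
  rcases hcov with h | ⟨hk, hke⟩
  · simp [M4.beq] at h
  obtain ⟨k, hkC, rk⟩ := exists_cent (F := F) hk
  have hka : k * a = θ1 a * k := (rk.pmul ra).uniq (by rw [show pmul (centM (autCover n)) eightM = _ from M4.eq_of_beq hke]; exact rn.pmul rk)
  let θ2 : MulAut (Q3 F) := MulAut.conj k⁻¹ * θ1
  have h2a : θ2 a = a := by
    show k⁻¹ * θ1 a * k⁻¹⁻¹ = a
    rw [inv_inv, mul_assoc, ← hka, inv_mul_cancel_left]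
  have h2t : θ2 (tQ F) = tQ F := by rw [← h4, map_pow, h2a]
  obtain ⟨j, hj⟩ := isConj_iff.1 (invol_conj (x := θ2 u) (by
    rw [MulEquiv.orderOf_eq]
    obtain ⟨c, hc⟩ := isConj_iff.1 hu
    rw [← hc, ← MulAut.conj_apply, MulEquiv.orderOf_eq]; exact tQ_spec.2))
  have hclass : ∃ i, i < numCls ∧ Rep (θ2 u) (clsM i) := class_complete (F := F) (isConj_iff.2 ⟨j, hj⟩)
  obtain ⟨i, hi, ri⟩ := hclass
  have hs := allFrom_zero surv_ok hi
  simp only [survTest, Bool.or_eq_true, Bool.not_eq_true', Bool.and_eq_true, Nat.blt_eq] at hs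
  obtain ⟨-, -, -, r1, r2, r3, r4, -⟩ := amisc
  rw [powOne_iff (ra.mul ru)] at r1
  rw [powOne_iff ((ra.mul ra).mul ru)] at r2
  rw [powOne_iff (((ra.mul ra).mul ra).mul ru)] at r3
  rw [powOne_iff (tQ_spec.1.mul ru)] at r4
  have q1 : powOne (mulM eightM (clsM i)) 4 = true := by
    rw [powOne_iff (ra.mul ri)]
    have h := congrArg θ2 r1
    rwa [map_pow, map_mul, map_one, h2a] at h
  have q2 : powOne (mulM (mulM eightM eightM) (clsM i)) 9 = true := by
    rw [powOne_iff ((ra.mul ra).mul ri)]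
    have h := congrArg θ2 r2
    rwa [map_pow, map_mul, map_mul, map_one, h2a] at h
  have q3 : powOne (mulM (mulM (mulM eightM eightM) eightM) (clsM i)) 19 = true := by
    rw [powOne_iff (((ra.mul ra).mul ra).mul ri)]
    have h := congrArg θ2 r3
    rwa [map_pow, map_mul, map_mul, map_mul, map_one, h2a] at h
  have q4 : powOne (mulM tInv (clsM i)) 17 = true := by
    rw [powOne_iff (tQ_spec.1.mul ri)]
    have h := congrArg θ2 r4
    rwa [map_pow, map_mul, map_one, h2t] at h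
  rw [q1, q2, q3, q4] at hs
  rcases hs with h | ⟨⟨hc, hca⟩, hcb⟩
  · simp at h
  obtain ⟨c, hcC, rc⟩ := exists_cent (F := F) hc
  have ec : c * a = a * c := (rc.pmul ra).uniq (by rw [M4.eq_of_beq hca]; exact ra.pmul rc)
  have inner_of : ∀ ψ : MulAut (Q3 F), θ2 = ψ → θ = MulAut.conj g⁻¹ * MulAut.conj k * ψ := by
    intro ψ e
    rw [← e]
    show θ = MulAut.conj g⁻¹ * MulAut.conj k * (MulAut.conj k⁻¹ * (MulAut.conj g * θ))
    simp [map_inv, mul_assoc]
  rcases Nat.mod_two_eq_zero_or_one (autSurv i) with h | h <;> rw [h] at hcb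
  · left
    have e2 : θ2 = MulAut.conj c := ext _ _ (by
      rw [h2a, MulAut.conj_apply, ec, mul_inv_cancel_right]) (by
      rw [MulAut.conj_apply, eq_mul_inv_iff_mul_eq]
      exact ((rc.pmul ru).uniq (by rw [show pmul (centM (autSurv i / 2)) uM = _ from M4.eq_of_beq hcb]; exact ri.pmul rc)).symm)
    rw [inner_of _ e2]
    exact mul_mem (mul_mem (hin _) (hin _)) (hin _)
  · right
    have ta : theta F a = a := (theta_rep ra).cn.uniq (by rw [amisc.2.2.2.2.2.2.2.2.2.2.2.2.2.2]; exact ra.cn)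
    have tu : Rep (theta F u) u0M := (theta_rep ru).cn
    have e2 : θ2 = MulAut.conj c * theta F := ext _ _ (by
      show θ2 a = MulAut.conj c (theta F a)
      rw [h2a, ta, MulAut.conj_apply, ec, mul_inv_cancel_right]) (by
      show θ2 u = MulAut.conj c (theta F u)
      rw [MulAut.conj_apply, eq_mul_inv_iff_mul_eq]
      exact ((rc.pmul tu).uniq (by rw [show pmul (centM (autSurv i / 2)) u0M = _ from M4.eq_of_beq hcb]; exact ri.pmul rc)).symm)
    rw [inner_of _ e2, show MulAut.conj g⁻¹ * MulAut.conj k * (MulAut.conj c * theta F) * (theta F)⁻¹ =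
      MulAut.conj g⁻¹ * MulAut.conj k * MulAut.conj c by group]
    exact mul_mem (mul_mem (hin _) (hin _)) (hin _)

theorem out_card : Nat.card (Cfsg.Out (Q3 F)) = 2 := by
  have hidx : (Cfsg.Inn (Q3 F)).index = 2 := by
    refine Subgroup.index_eq_two_iff.2 ⟨(theta F)⁻¹, fun b => ?_⟩
    rcases aut_cases b with h | h
    · refine Or.inr ⟨h, fun hc => theta_notMem (F := F) ?_⟩
      simpa using inv_mem ((Subgroup.mul_mem_cancel_left _ h).1 hc)
    · refine Or.inl ⟨h, fun hc => theta_notMem (F := F) ?_⟩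
      simpa using inv_mem ((Subgroup.mul_mem_cancel_left _ hc).1 h)
  rw [← hidx, Subgroup.index_eq_card]

end Cfsg.Agent.Janko3
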